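import Mathlib

/-!
Basic structure of `SL n F`: generation by transvections, perfectness, simplicity of `PSL`, and the orders of
`GL`, `SL`, `PSL` over finite fields.
-/

set_option autoImplicit false

namespace Cfsg.Lib.Linear

open Matrix
open scoped MatrixGroups LinearAlgebra.Projectivization commutatorElement

section General

variable {ι : Type*} [Fintype ι] [DecidableEq ι] {F : Type*} [Field F]

/-- `diag2n` is a product of six transvections. -/
theorem diag2n_decompose {i j : ι} (hij : i ≠ j) (c : F) (hc : c ≠ 0) :
    SpecialLinearGroup.diag2n hij c hc = SpecialLinearGroup.transvection hij c *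
      (SpecialLinearGroup.transvection hij.symm (- c⁻¹) *
      (SpecialLinearGroup.transvection hij c *
      (SpecialLinearGroup.transvection hij (-1) *
      (SpecialLinearGroup.transvection hij.symm 1 *
      (SpecialLinearGroup.transvection hij (-1) * 1))))) := by
  apply Matrix.SpecialLinearGroup.ext
  intro a b
  have hji := hij.symm
  simp only [Matrix.SpecialLinearGroup.coe_mul, Matrix.SpecialLinearGroup.transvection_coe,
    Matrix.SpecialLinearGroup.coe_one]
  rw [Matrix.SpecialLinearGroup.diag2n_coe]
  simp only [← Matrix.transvection.eq_def]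
  by_cases hai : a = i
  · subst hai
    simp [-mul_one, -Matrix.mul_one, Matrix.transvection_mul_apply_same, Matrix.transvection_mul_apply_of_ne, hij, hji,
      Matrix.one_apply, Matrix.diagonal_apply]
    by_cases hb : a = b <;> by_cases hb' : j = b <;> simp_all <;> field_simp <;> ring
  · by_cases haj : a = j
    · subst haj
      simp [-mul_one, -Matrix.mul_one, Matrix.transvection_mul_apply_same, Matrix.transvection_mul_apply_of_ne, hij, hji,
        Matrix.one_apply, Matrix.diagonal_apply]
      by_cases hb : a = b <;> by_cases hb' : i = b <;> simp_all <;> field_simp <;> ring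
    · simp [-mul_one, -Matrix.mul_one, Matrix.transvection_mul_apply_of_ne, hai, haj, Matrix.one_apply, Matrix.diagonal_apply]

/-- The special linear group is generated by transvections. -/
theorem closure_transvection_eq_top :
    Subgroup.closure {t : SpecialLinearGroup ι F |
      ∃ (i j : ι) (h : i ≠ j) (c : F), t = SpecialLinearGroup.transvection h c} = ⊤ := by
  set S := Subgroup.closure {t : SpecialLinearGroup ι F |
      ∃ (i j : ι) (h : i ≠ j) (c : F), t = SpecialLinearGroup.transvection h c} with hS
  have htr : ∀ (i j : ι) (h : i ≠ j) (c : F), SpecialLinearGroup.transvection h c ∈ S :=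
    fun i j h c => Subgroup.subset_closure ⟨i, j, h, c, rfl⟩
  rw [eq_top_iff]
  intro M _
  rcases subsingleton_or_nontrivial ι with hsub | hnt
  · rw [Subsingleton.elim M 1]; exact one_mem _
  refine SpecialLinearGroup.diagonal_transvection_induction' (fun A => A ∈ S) M ?_ htr
    (fun A B => S.mul_mem)
  intro i j hij c hc
  rw [diag2n_decompose hij c hc]
  exact S.mul_mem (htr _ _ _ _) (S.mul_mem (htr _ _ _ _) (S.mul_mem (htr _ _ _ _) (S.mul_mem (htr _ _ _ _)
    (S.mul_mem (htr _ _ _ _) (S.mul_mem (htr _ _ _ _) S.one_mem)))))

/-- Steinberg relation: a transvection is a commutator as soon as a third index is available. -/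
theorem transvection_eq_commutator {i j k : ι} (hij : i ≠ j) (hik : i ≠ k) (hkj : k ≠ j) (c : F) :
    SpecialLinearGroup.transvection hij c =
      ⁅SpecialLinearGroup.transvection hik c, SpecialLinearGroup.transvection hkj 1⁆ := by
  rw [commutatorElement_def, Matrix.SpecialLinearGroup.transvection_inv, Matrix.SpecialLinearGroup.transvection_inv]
  apply Matrix.SpecialLinearGroup.ext
  intro a b
  simp only [Matrix.SpecialLinearGroup.coe_mul, Matrix.SpecialLinearGroup.transvection_coe]
  simp [mul_add, add_mul, hij, hik, hkj, hij.symm, hik.symm, hkj.symm, ← Matrix.single_add]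
  simp [Matrix.single_apply]
  split_ifs <;> simp_all <;> ring

theorem exists_third {i j : ι} (h3 : 3 ≤ Fintype.card ι) : ∃ k : ι, i ≠ k ∧ k ≠ j := by
  by_contra h
  push Not at h
  have : (Finset.univ : Finset ι) ⊆ {i, j} := by
    intro k _
    simp only [Finset.mem_insert, Finset.mem_singleton]
    by_cases hk : i = k
    · exact Or.inl hk.symm
    · exact Or.inr (h k hk)
  have := Finset.card_le_card this
  simp only [Finset.card_univ] at this
  have h2 : ({i, j} : Finset ι).card ≤ 2 := Finset.card_le_two
  omega

/-- `SL` is perfect when the dimension is at least three. -/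
theorem commutator_SL_eq_top (h3 : 3 ≤ Fintype.card ι) :
    commutator (SpecialLinearGroup ι F) = ⊤ := by
  rw [eq_top_iff, ← closure_transvection_eq_top, Subgroup.closure_le]
  rintro _ ⟨i, j, h, c, rfl⟩
  obtain ⟨k, hik, hkj⟩ := exists_third (i := i) (j := j) h3
  rw [transvection_eq_commutator h hik hkj c]
  exact Subgroup.commutator_mem_commutator (Subgroup.mem_top _) (Subgroup.mem_top _)

theorem iSup_iwasawaT_eq_top :
    iSup (PSL.iwasawaT (F := F) (ι := ι)) = ⊤ := by
  set S := ⨆ p : ℙ F (ι → F), SpecialLinearGroup.lineStab p.submodule with hS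
  have h : S = ⊤ := by
    rw [eq_top_iff, ← closure_transvection_eq_top, Subgroup.closure_le]
    rintro _ ⟨i, j, hij, c, rfl⟩
    have hne : (Pi.single i (1 : F) : ι → F) ≠ 0 := Pi.single_ne_zero_iff.2 one_ne_zero
    apply Subgroup.mem_iSup_of_mem (Projectivization.mk F _ hne)
    rw [Projectivization.submodule_mk]
    exact SL2Gen.transvection_mem_lineStab hij c
  have step : iSup (PSL.iwasawaT (F := F) (ι := ι)) =
      Subgroup.map (QuotientGroup.mk' (Subgroup.center (SpecialLinearGroup ι F))) S := by
    rw [hS, Subgroup.map_iSup]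
  rw [step, h]
  exact Subgroup.map_top_of_surjective _ (QuotientGroup.mk'_surjective _)

/-- The Iwasawa structure of `PSL` on projective space. -/
noncomputable def pslIwasawa :
    MulAction.IwasawaStructure (ProjectiveSpecialLinearGroup ι F) (ℙ F (ι → F)) where
  T := PSL.iwasawaT
  is_comm p := by
    have hSL : IsMulCommutative (SpecialLinearGroup.lineStab (F := F) (ι := ι) p.submodule) := by
      rw [← Projectivization.mk_rep p, Projectivization.submodule_mk]
      exact SpecialLinearGroup.lineStab_isMulCommutative_of_span p.rep p.rep_nonzero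
    exact Subgroup.map_isMulCommutative _ _
  is_conj g p := by
    obtain ⟨g_SL, rfl⟩ := QuotientGroup.mk_surjective g
    rw [Matrix.ProjectiveSpecialLinearGroup.smul_proj_mk]
    change Subgroup.map _ _ = _
    rw [PSL.smul_submodule, Matrix.SpecialLinearGroup.lineStab_smul, PSL.iwasawaT_map_conj]
  is_generator := iSup_iwasawaT_eq_top

theorem commutator_PSL_eq_top (h3 : 3 ≤ Fintype.card ι) :
    commutator (ProjectiveSpecialLinearGroup ι F) = ⊤ := by
  have : Group.IsPerfect (SpecialLinearGroup ι F) := ⟨commutator_SL_eq_top h3⟩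
  have h : Group.IsPerfect (ProjectiveSpecialLinearGroup ι F) := inferInstance
  exact h.commutator_eq_top

theorem PSL_simple_of_three_le (h3 : 3 ≤ Fintype.card ι) :
    IsSimpleGroup (ProjectiveSpecialLinearGroup ι F) := by
  have : Nontrivial ι := Fintype.one_lt_card_iff_nontrivial.1 (by omega)
  exact MulAction.IwasawaStructure.isSimpleGroup (commutator_PSL_eq_top h3) pslIwasawa inferInstance

/-- `PSL_n` is simple for `n ≥ 3`, and for `n = 2` when the field has at least four elements. -/
theorem PSL_simple (n : ℕ) (hn : 2 ≤ n) (h : n = 2 → 4 ≤ Nat.card F) :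
    IsSimpleGroup (ProjectiveSpecialLinearGroup (Fin n) F) := by
  rcases Nat.lt_or_ge n 3 with h3 | h3
  · obtain rfl : n = 2 := by omega
    exact Matrix.ProjectiveSpecialLinearGroup.rank_two_simple (h rfl)
  · exact PSL_simple_of_three_le (by simpa using h3)

/-- The range of `SL → GL` is the kernel of the determinant. -/
theorem range_toGL :
    (SpecialLinearGroup.toGL : SpecialLinearGroup ι F →* GL ι F).range =
      (GeneralLinearGroup.det : GL ι F →* Fˣ).ker := by
  ext g
  constructor
  · rintro ⟨A, rfl⟩
    exact Units.ext (by simp)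
  · intro hg
    exact ⟨(⟨g.val, by simpa using congrArg Units.val (MonoidHom.mem_ker.1 hg)⟩ : Matrix.SpecialLinearGroup ι F),
      Units.ext rfl⟩

theorem toGL_injective' :
    Function.Injective (SpecialLinearGroup.toGL : SpecialLinearGroup ι F →* GL ι F) := by
  intro A B h
  exact Subtype.ext (by simpa using congrArg (fun g : GL ι F => g.val) h)

end General

section Counting

variable {ι : Type*} [Fintype ι] [DecidableEq ι] {F : Type*} [Field F] [Fintype F]

theorem card_units_eq : Nat.card Fˣ = Fintype.card F - 1 := by
  classical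
  rw [Nat.card_eq_fintype_card, Fintype.card_units]

theorem card_GL_eq_mul_card_SL [Nonempty ι] :
    Nat.card (GL ι F) = (Fintype.card F - 1) * Nat.card (SpecialLinearGroup ι F) := by
  have h := (GeneralLinearGroup.det : GL ι F →* Fˣ).ker.index_mul_card
  rw [Subgroup.index_ker, MonoidHom.range_eq_top.2 GeneralLinearGroup.det_surjective,
    Subgroup.card_top, card_units_eq, ← range_toGL] at h
  rw [← h, ← Nat.card_congr (MonoidHom.ofInjective toGL_injective').toEquiv]

/-- `(q-1)|SL_n(q)| = ∏ (q^n - q^i)`. -/
theorem card_SL_mul (n : ℕ) (hn : 1 ≤ n) :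
    (Fintype.card F - 1) * Nat.card (SpecialLinearGroup (Fin n) F) =
      ∏ i : Fin n, (Fintype.card F ^ n - Fintype.card F ^ (i : ℕ)) := by
  have : Nonempty (Fin n) := ⟨⟨0, hn⟩⟩
  rw [← card_GL_eq_mul_card_SL, Matrix.card_GL_field]

/-- The center of `SL_n(q)` has order `gcd(n, q-1)`. -/
theorem card_center_SL [Nonempty ι] :
    Nat.card (Subgroup.center (SpecialLinearGroup ι F)) =
      Nat.gcd (Fintype.card ι) (Fintype.card F - 1) := by
  have i : ι := Classical.arbitrary ι
  rw [Nat.card_congr (SpecialLinearGroup.center_equiv_rootsOfUnity' i).toEquiv]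
  have h : (rootsOfUnity (Fintype.card ι) F) = (powMonoidHom (Fintype.card ι) : Fˣ →* Fˣ).ker := by
    ext x; simp [mem_rootsOfUnity]
  rw [h, IsCyclic.card_powMonoidHom_ker, card_units_eq, Nat.gcd_comm]

theorem card_SL_eq_gcd_mul_card_PSL [Nonempty ι] :
    Nat.card (SpecialLinearGroup ι F) = Nat.gcd (Fintype.card ι) (Fintype.card F - 1) *
      Nat.card (ProjectiveSpecialLinearGroup ι F) := by
  rw [Subgroup.card_eq_card_quotient_mul_card_subgroup (Subgroup.center (SpecialLinearGroup ι F)),
    card_center_SL, mul_comm]

theorem card_center_GL [Nonempty ι] :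
    Nat.card (Subgroup.center (GL ι F)) = Fintype.card F - 1 := by
  rw [GeneralLinearGroup.center_eq_range_scalar, ← card_units_eq]
  refine Nat.card_congr (MonoidHom.ofInjective ?_).toEquiv.symm
  intro a b h
  have h1 := congrArg (fun g : GL ι F => g.val (Classical.arbitrary ι) (Classical.arbitrary ι)) h
  exact Units.ext (by simpa using h1)

theorem card_PGL_eq_card_SL [Nonempty ι] :
    Nat.card (ProjGenLinGroup ι F) = Nat.card (SpecialLinearGroup ι F) := by
  have h := Subgroup.card_eq_card_quotient_mul_card_subgroup (Subgroup.center (GL ι F))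
  rw [card_center_GL, card_GL_eq_mul_card_SL] at h
  have hq : 0 < Fintype.card F - 1 := by have := Fintype.one_lt_card (α := F); omega
  have h' : (Fintype.card F - 1) * Nat.card (SpecialLinearGroup ι F) =
      (Fintype.card F - 1) * Nat.card (ProjGenLinGroup ι F) := by
    rw [h, mul_comm]; rfl
  exact (Nat.eq_of_mul_eq_mul_left hq h').symm

end Counting

end Cfsg.Lib.Linear
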