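import Mathlib
import Cfsg.Agent.Lib.Linear.SLBasic

/-! Sylow subgroups in the defining characteristic of `SL₂` and `GL₂`. -/

set_option autoImplicit false

namespace Cfsg.Lib.Linear.Two

open Matrix
open scoped MatrixGroups Pointwise

section Field

variable {F : Type*} [Field F]

/-- The upper unitriangular element. -/
def ut : Multiplicative F →* SL(2, F) where
  toFun a := ⟨!![1, a.toAdd; 0, 1], by simp [det_fin_two]⟩
  map_one' := by ext i j; fin_cases i <;> fin_cases j <;> simp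
  map_mul' a b := Subtype.ext (by
    show !![1, (a * b).toAdd; 0, 1] = (!![1, a.toAdd; 0, 1] : Matrix (Fin 2) (Fin 2) F) * !![1, b.toAdd; 0, 1]
    simp [Matrix.mul_fin_two, add_comm])

theorem ut_coe (a : Multiplicative F) :
    (ut a : Matrix (Fin 2) (Fin 2) F) = !![1, a.toAdd; 0, 1] := rfl

theorem ut_injective : Function.Injective (ut (F := F)) := fun a b h => by
  have := congrArg (fun g : SL(2, F) => (g : Matrix (Fin 2) (Fin 2) F) 0 1) h
  simpa [ut_coe] using this

/-- The upper unitriangular subgroup of `SL₂`. -/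
def UT (F : Type*) [Field F] : Subgroup SL(2, F) := (ut (F := F)).range

/-- The upper unitriangular subgroup of `GL₂`. -/
def UG (F : Type*) [Field F] : Subgroup (GL (Fin 2) F) :=
  (UT F).map Matrix.SpecialLinearGroup.toGL

theorem mem_UG {g : GL (Fin 2) F} : g ∈ UG F ↔ g.val 0 0 = 1 ∧ g.val 1 1 = 1 ∧ g.val 1 0 = 0 := by
  constructor
  · rintro ⟨_, ⟨a, rfl⟩, rfl⟩
    simp [ut_coe]
  · rintro ⟨h0, h1, h2⟩
    refine ⟨ut (Multiplicative.ofAdd (g.val 0 1)), ⟨_, rfl⟩, Units.ext ?_⟩
    ext i j; fin_cases i <;> fin_cases j <;> simp [ut_coe, h0, h1, h2]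

theorem mem_UT {g : SL(2, F)} : g ∈ UT F ↔ g 0 0 = 1 ∧ g 1 1 = 1 ∧ g 1 0 = 0 := by
  rw [← Subgroup.mem_map_iff_mem (Cfsg.Lib.Linear.toGL_injective' (ι := Fin 2) (F := F))]
  exact mem_UG

theorem inv_low_eq_zero {g : GL (Fin 2) F} (hg : g.val 1 0 = 0) : (g⁻¹).val 1 0 = 0 := by
  have h := congrFun (congrFun (Units.inv_mul g) 1) 0
  have h2 := congrFun (congrFun (Units.mul_inv g) 1) 1
  simp only [Units.val_mul, Units.val_one, ← Matrix.coe_units_inv, mul_apply, Fin.sum_univ_two, hg, mul_zero, zero_mul, add_zero, zero_add,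
    one_apply_ne (show (1 : Fin 2) ≠ 0 by decide), one_apply_eq] at h h2
  rcases mul_eq_zero.1 h with h | h
  · exact h
  · have hd : g.val 1 1 ≠ 0 := fun e => by rw [e, zero_mul] at h2; exact zero_ne_one h2
    have h3 := congrFun (congrFun (Units.mul_inv g) 0) 0
    have h4 := congrFun (congrFun (Units.mul_inv g) 1) 0
    simp only [Units.val_mul, Units.val_one, ← Matrix.coe_units_inv, mul_apply, Fin.sum_univ_two, hg, h, zero_mul, zero_add,
      one_apply_ne (show (1 : Fin 2) ≠ 0 by decide)] at h3 h4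
    exact (mul_eq_zero.1 h4).resolve_left hd

theorem conj_mem_UG {g : GL (Fin 2) F} (hg : g.val 1 0 = 0) {h : GL (Fin 2) F} (hh : h ∈ UG F) :
    g * h * g⁻¹ ∈ UG F := by
  rw [mem_UG] at hh ⊢
  obtain ⟨h0, h1, h2⟩ := hh
  have hi := inv_low_eq_zero hg
  have e0 := congrFun (congrFun (Units.mul_inv g) 0) 0
  have e1 := congrFun (congrFun (Units.mul_inv g) 1) 1
  simp only [Units.val_mul, Units.val_one, ← Matrix.coe_units_inv, mul_apply, Fin.sum_univ_two, one_apply_eq, hg, hi, mul_zero,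
    zero_mul, add_zero, zero_add] at e0 e1
  simp [-Matrix.coe_units_inv, mul_apply, Fin.sum_univ_two, h0, h1, h2, hg, hi, e0, e1]

theorem low_eq_zero_of_conj {g h k : GL (Fin 2) F} (hh : h ∈ UG F) (hk : k ∈ UG F) (hne : k ≠ 1)
    (he : k * g = g * h) : g.val 1 0 = 0 := by
  rw [mem_UG] at hh hk
  have e := congrFun (congrFun (congrArg (fun x : GL (Fin 2) F => x.val) he) 0) 0
  simp only [Units.val_mul, mul_apply, Fin.sum_univ_two, hk.1, hh.1, hh.2.2, one_mul, mul_one, mul_zero,
    add_zero, add_eq_left, mul_eq_zero] at e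
  refine e.resolve_left fun e => hne (Units.ext ?_)
  ext i j; fin_cases i <;> fin_cases j <;> simp [hk.1, hk.2.1, hk.2.2, e]

theorem exists_ne_one_UG : ∃ h ∈ UG F, h ≠ 1 := by
  refine ⟨Matrix.SpecialLinearGroup.toGL (ut (Multiplicative.ofAdd 1)), ⟨_, ⟨_, rfl⟩, rfl⟩, fun h => ?_⟩
  have := congrFun (congrFun (congrArg (fun x : GL (Fin 2) F => x.val) h) 0) 1
  simp [ut_coe] at this

theorem normalizer_UG {g : GL (Fin 2) F} :
    g ∈ Subgroup.normalizer (UG F : Set (GL (Fin 2) F)) ↔ g.val 1 0 = 0 := by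
  rw [Subgroup.mem_normalizer_iff]
  constructor
  · intro h
    obtain ⟨k, hk, hne⟩ := exists_ne_one_UG (F := F)
    refine low_eq_zero_of_conj hk ((h k).1 hk) ?_ (by group)
    simpa [conj_eq_one_iff] using hne
  · intro hg h
    refine ⟨conj_mem_UG hg, fun hh => ?_⟩
    have := conj_mem_UG (inv_low_eq_zero hg) hh
    simpa [mul_assoc] using this

theorem exists_GL (a b d : F) (had : a * d ≠ 0) :
    ∃ g : GL (Fin 2) F, g.val = !![a, b; 0, d] :=
  ⟨Matrix.GeneralLinearGroup.mkOfDetNeZero !![a, b; 0, d] (by simpa [det_fin_two] using had), rfl⟩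

end Field

section Finite

variable {F : Type*} [Field F] [Fintype F] (p : ℕ) [Fact p.Prime] [CharP F p]

theorem card_UT : Nat.card (UT F) = Fintype.card F := by
  rw [UT, ← Nat.card_congr (MonoidHom.ofInjective ut_injective).toEquiv, Nat.card_congr Multiplicative.toAdd,
    Nat.card_eq_fintype_card]

theorem card_UG : Nat.card (UG F) = Fintype.card F := by
  rw [UG, ← Nat.card_congr (Subgroup.equivMapOfInjective _ _
    (Cfsg.Lib.Linear.toGL_injective' (ι := Fin 2) (F := F))).toEquiv, card_UT]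

theorem card_SL_two : Nat.card SL(2, F) = Fintype.card F * (Fintype.card F ^ 2 - 1) := by
  have h := Cfsg.Lib.Linear.card_SL_mul (F := F) 2 (by norm_num)
  have hq : 2 ≤ Fintype.card F := Fintype.one_lt_card
  apply Nat.eq_of_mul_eq_mul_left (show 0 < Fintype.card F - 1 by omega)
  rw [h, Fin.prod_univ_two]
  have h1 : Fintype.card F ≤ Fintype.card F ^ 2 := Nat.le_self_pow two_ne_zero _
  simp only [Fin.val_zero, Fin.val_one, pow_zero, pow_one]
  zify [h1, (show 1 ≤ Fintype.card F ^ 2 by omega), (show 1 ≤ Fintype.card F by omega)]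
  ring

omit [Fact p.Prime] in
theorem dvd_card : p ∣ Fintype.card F :=
  (CharP.cast_eq_zero_iff F p _).1 (Nat.cast_card_eq_zero F)

theorem isPGroup_UT : IsPGroup p (UT F) := by
  obtain ⟨n, -, hn⟩ := FiniteField.card F p
  exact IsPGroup.of_card (n := n) (card_UT.trans hn)

theorem not_dvd_index_UT : ¬ p ∣ (UT F).index := by
  have hp : p.Prime := Fact.out
  have h := Subgroup.card_mul_index (UT F)
  rw [card_UT, card_SL_two] at h
  have hq : 2 ≤ Fintype.card F := Fintype.one_lt_card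
  rw [Nat.eq_of_mul_eq_mul_left (show 0 < Fintype.card F by omega) h]
  intro hd
  have h2 : p ∣ Fintype.card F ^ 2 := (dvd_card p).trans (dvd_pow_self _ two_ne_zero)
  have h1 : 1 ≤ Fintype.card F ^ 2 := Nat.one_le_pow _ _ (by omega)
  have := Nat.dvd_sub h2 hd
  rw [show Fintype.card F ^ 2 - (Fintype.card F ^ 2 - 1) = 1 by omega] at this
  exact hp.not_dvd_one this

theorem isPGroup_UG : IsPGroup p (UG F) := (isPGroup_UT p).map _

theorem not_dvd_index_UG : ¬ p ∣ (UG F).index := by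
  have hp : p.Prime := Fact.out
  intro hd
  have hinj := Cfsg.Lib.Linear.toGL_injective' (ι := Fin 2) (F := F)
  rw [UG, Subgroup.index_map_of_injective _ hinj] at hd
  rcases hp.dvd_mul.1 hd with hd | hd
  · exact not_dvd_index_UT p hd
  · rw [Cfsg.Lib.Linear.range_toGL, Subgroup.index_ker,
      MonoidHom.range_eq_top.2 Matrix.GeneralLinearGroup.det_surjective, Subgroup.card_top,
      Cfsg.Lib.Linear.card_units_eq] at hd
    have := Nat.dvd_sub (dvd_card (F := F) p) hd
    have hq : 2 ≤ Fintype.card F := Fintype.one_lt_card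
    rw [show Fintype.card F - (Fintype.card F - 1) = 1 by omega] at this
    exact hp.not_dvd_one this

theorem exists_conj_UT (P : Sylow p SL(2, F)) : ∃ g : SL(2, F), (P : Subgroup SL(2, F)) = MulAut.conj g • UT F := by
  obtain ⟨g, hg⟩ := MulAction.exists_smul_eq SL(2, F) ((isPGroup_UT p).toSylow (not_dvd_index_UT p)) P
  exact ⟨g, by rw [← hg, Sylow.coe_subgroup_smul]; rfl⟩

theorem exists_conj_UG (P : Sylow p (GL (Fin 2) F)) :
    ∃ g : GL (Fin 2) F, (P : Subgroup (GL (Fin 2) F)) = MulAut.conj g • UG F := by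
  obtain ⟨g, hg⟩ := MulAction.exists_smul_eq (GL (Fin 2) F) ((isPGroup_UG p).toSylow (not_dvd_index_UG p)) P
  exact ⟨g, by rw [← hg, Sylow.coe_subgroup_smul]; rfl⟩

omit [Fintype F] in
theorem card_borel_equiv :
    Nat.card {g : GL (Fin 2) F // g.val 1 0 = 0} = Nat.card (Fˣ × Fˣ × F) := by
  have key : ∀ g : GL (Fin 2) F, g.val 1 0 = 0 → g.val 0 0 ≠ 0 ∧ g.val 1 1 ≠ 0 := by
    intro g hg
    have := g.det.ne_zero
    rw [Matrix.GeneralLinearGroup.val_det_apply, det_fin_two, hg, mul_zero, sub_zero] at this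
    exact mul_ne_zero_iff.1 this
  refine Nat.card_congr
    { toFun := fun g => (Units.mk0 _ (key _ g.2).1, Units.mk0 _ (key _ g.2).2, g.1.val 0 1)
      invFun := fun x => ⟨(exists_GL (x.1 : F) x.2.2 x.2.1 (mul_ne_zero x.1.ne_zero x.2.1.ne_zero)).choose, by
        rw [(exists_GL (x.1 : F) x.2.2 x.2.1 (mul_ne_zero x.1.ne_zero x.2.1.ne_zero)).choose_spec]; rfl⟩
      left_inv := fun g => ?_
      right_inv := fun x => ?_ }
  · refine Subtype.ext (Units.ext ?_)
    simp only [Units.val_mk0]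
    rw [(exists_GL (g.1.val 0 0) (g.1.val 0 1) (g.1.val 1 1) (mul_ne_zero (key _ g.2).1 (key _ g.2).2)).choose_spec]
    ext i j; fin_cases i <;> fin_cases j <;> simp [g.2]
  · have hs := (exists_GL (x.1 : F) x.2.2 x.2.1 (mul_ne_zero x.1.ne_zero x.2.1.ne_zero)).choose_spec
    refine Prod.ext (Units.ext ?_) (Prod.ext (Units.ext ?_) ?_) <;> simp [hs]

theorem card_normalizer_UG :
    Nat.card (Subgroup.normalizer (UG F : Set (GL (Fin 2) F))) =
      Fintype.card F * (Fintype.card F - 1) ^ 2 := by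
  rw [show Nat.card (Subgroup.normalizer (UG F : Set (GL (Fin 2) F))) =
      Nat.card {g : GL (Fin 2) F // g.val 1 0 = 0} from Nat.card_congr (Equiv.subtypeEquivRight fun _ => normalizer_UG),
    card_borel_equiv, Nat.card_prod, Nat.card_prod, Cfsg.Lib.Linear.card_units_eq, Nat.card_eq_fintype_card]
  ring

theorem card_normalizer_sylow (P : Sylow p (GL (Fin 2) F)) :
    Nat.card (Subgroup.normalizer ((P : Subgroup (GL (Fin 2) F)) : Set (GL (Fin 2) F))) =
      Fintype.card F * (Fintype.card F - 1) ^ 2 := by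
  obtain ⟨g, hg⟩ := exists_conj_UG p P
  rw [hg, ← card_normalizer_UG (F := F), Subgroup.pointwise_smul_def,
    show Subgroup.map (MulDistribMulAction.toMonoidEnd (MulAut (GL (Fin 2) F)) (GL (Fin 2) F) (MulAut.conj g)) (UG F) =
      Subgroup.map (MulAut.conj g).toMonoidHom (UG F) from rfl,
    ← Subgroup.map_equiv_normalizer_eq (UG F) (MulAut.conj g)]
  exact Nat.card_congr ((MulAut.conj g).subgroupMap _).toEquiv.symm

end Finite

end Cfsg.Lib.Linear.Two
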