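import Mathlib

/-!
# Counting Sylow subgroups in a group with abelian centralizers

* `sylow_count`: in a group where centralizers of non-central elements are abelian, with the
  usual hypotheses holding in `SL₂`, the number of Sylow `p`-subgroups is `q + 1` or the
  exceptional value `10`.
-/

set_option autoImplicit false
set_option linter.style.haveILetI false
set_option linter.unusedSectionVars false

namespace Cfsg.Lib.Linear.Dickson

open Subgroup

variable {H : Type*} [Group H] {Z : Subgroup H}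

/-- The non-central elements conjugate into the centralizer of `x`. -/
def conjSet (Z : Subgroup H) (x : H) : Set H :=
  {y | y ∉ Z ∧ ∃ h : H, h * y * h⁻¹ ∈ centralizer ({x} : Set H)}

theorem mem_cent {x y : H} : y ∈ centralizer ({x} : Set H) ↔ y * x = x * y :=
  mem_centralizer_singleton_iff

theorem cent_eq_of_mem (hCA : ∀ x ∉ Z, ∀ y z : H, Commute y x → Commute z x → Commute y z)
    {x t : H} (hx : x ∉ Z) (ht : t ∉ Z) (h : t ∈ centralizer ({x} : Set H)) :
    centralizer ({t} : Set H) = centralizer ({x} : Set H) := by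
  ext y
  rw [mem_cent] at h ⊢
  rw [mem_cent]
  exact ⟨fun hy => (hCA t ht y x hy h.symm), fun hy => hCA x hx y t hy h⟩

theorem conj_mem_cent {x y h : H} (hy : y ∈ centralizer ({x} : Set H)) :
    h * y * h⁻¹ ∈ centralizer ({h * x * h⁻¹} : Set H) := by
  rw [mem_cent] at hy ⊢
  calc h * y * h⁻¹ * (h * x * h⁻¹) = h * (y * x) * h⁻¹ := by group
    _ = h * (x * y) * h⁻¹ := by rw [hy]
    _ = h * x * h⁻¹ * (h * y * h⁻¹) := by group

theorem conj_notMem (hZc : Z ≤ center H) {y : H} (hy : y ∉ Z) (h : H) : h * y * h⁻¹ ∉ Z := by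
  intro hh
  refine hy ?_
  have h1 := mem_center_iff.1 (hZc hh) h
  have h2 : y = h * y * h⁻¹ :=
    calc y = h⁻¹ * (h * y * h⁻¹) * h := by group
      _ = h⁻¹ * (h * (h * y * h⁻¹)) := by rw [h1]; group
      _ = h * y * h⁻¹ := by group
  rwa [h2]

theorem mem_normalizer_cent (hZc : Z ≤ center H)
    (hCA : ∀ x ∉ Z, ∀ y z : H, Commute y x → Commute z x → Commute y z) {x t m : H}
    (hx : x ∉ Z) (htZ : t ∉ Z) (ht : t ∈ centralizer ({x} : Set H))
    (hm : m * t * m⁻¹ ∈ centralizer ({x} : Set H)) :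
    m ∈ normalizer (centralizer ({x} : Set H) : Set H) := by
  have h1 := cent_eq_of_mem hCA hx htZ ht
  have h2 := cent_eq_of_mem hCA hx (conj_notMem hZc htZ m) hm
  refine mem_normalizer_iff.2 fun y => ⟨fun hy => ?_, fun hy => ?_⟩
  · rw [← h2]
    exact conj_mem_cent (h1.symm ▸ hy)
  · rw [← h1]
    rw [← h2] at hy
    have h3 := conj_mem_cent (h := m⁻¹) hy
    simpa [mul_assoc] using h3

theorem mem_conjSet_self {x : H} (hx : x ∉ Z) : x ∈ conjSet Z x :=
  ⟨hx, 1, by rw [mem_cent]; simp⟩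

theorem disjoint_conjSet (hCA : ∀ x ∉ Z, ∀ y z : H, Commute y x → Commute z x → Commute y z)
    (hZc : Z ≤ center H) {x y : H} (hx : x ∉ Z) (hy : y ∉ Z) (h : y ∉ conjSet Z x) :
    Disjoint (conjSet Z x) (conjSet Z y) := by
  rw [Set.disjoint_left]
  rintro w ⟨hw, a, ha⟩ ⟨-, b, hb⟩
  refine h ⟨hy, a * b⁻¹, ?_⟩
  have hbZ := conj_notMem hZc hw b
  have h1 : y ∈ centralizer ({b * w * b⁻¹} : Set H) := by
    rw [mem_cent] at hb ⊢
    exact hb.symm
  have h2 : (a * b⁻¹) * y * (a * b⁻¹)⁻¹ ∈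
      centralizer ({(a * b⁻¹) * (b * w * b⁻¹) * (a * b⁻¹)⁻¹} : Set H) := conj_mem_cent h1
  rw [show (a * b⁻¹) * (b * w * b⁻¹) * (a * b⁻¹)⁻¹ = a * w * a⁻¹ by group,
    cent_eq_of_mem hCA hx (conj_notMem hZc hw a) ha] at h2
  exact h2

theorem card_conjSet_mul [Finite H] (hZc : Z ≤ center H)
    (hCA : ∀ x ∉ Z, ∀ y z : H, Commute y x → Commute z x → Commute y z) {x : H} (hx : x ∉ Z) :
    Nat.card (conjSet Z x) *
        Nat.card (normalizer (centralizer ({x} : Set H) : Set H)) + Nat.card H * Nat.card Z =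
      Nat.card H * Nat.card (centralizer ({x} : Set H)) := by
  classical
  set C := centralizer ({x} : Set H) with hC
  set N := normalizer (C : Set H) with hN
  have hZC : Z ≤ C := fun z hz => mem_cent.2 (mem_center_iff.1 (hZc hz) x).symm
  let X : Set H := (C : Set H) \ (Z : Set H)
  have hX : Nat.card X + Nat.card Z = Nat.card C := by
    show Nat.card ((C : Set H) \ (Z : Set H) : Set H) + Nat.card (Z : Set H) = Nat.card (C : Set H)
    rw [Nat.card_coe_set_eq, Nat.card_coe_set_eq, Nat.card_coe_set_eq]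
    exact Set.ncard_sdiff_add_ncard_of_subset hZC (Set.toFinite _)
  have hch : ∀ y : conjSet Z x, ∃ h t : H, t ∈ X ∧ h * t * h⁻¹ = y := fun y => by
    obtain ⟨hy, a, ha⟩ := y.2
    exact ⟨a⁻¹, a * y * a⁻¹, ⟨ha, conj_notMem hZc hy a⟩, by group⟩
  choose hh tt htt heq using hch
  let f : conjSet Z x × N → H × X := fun z =>
    (hh z.1 * z.2, ⟨(z.2 : H)⁻¹ * tt z.1 * z.2,
      by simpa using (mem_normalizer_iff.1 (inv_mem z.2.2) (tt z.1)).1 (htt z.1).1,
      by simpa using conj_notMem hZc (htt z.1).2 (z.2 : H)⁻¹⟩)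
  have hf : Function.Bijective f := by
    constructor
    · rintro ⟨y, m⟩ ⟨y', m'⟩ h
      obtain ⟨h1, h2⟩ := Prod.ext_iff.1 h
      replace h1 : hh y * m = hh y' * m' := h1
      replace h2 : (m : H)⁻¹ * tt y * m = (m' : H)⁻¹ * tt y' * m' := congrArg Subtype.val h2
      have e1 : (y : H) = y' := by
        rw [← heq y, ← heq y']
        calc hh y * tt y * (hh y)⁻¹
            = (hh y * m) * ((m : H)⁻¹ * tt y * m) * (hh y * m)⁻¹ := by group
          _ = (hh y' * m') * ((m' : H)⁻¹ * tt y' * m') * (hh y' * m')⁻¹ := by rw [h1, h2]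
          _ = hh y' * tt y' * (hh y')⁻¹ := by group
      obtain rfl : y = y' := Subtype.ext e1
      exact Prod.ext rfl (Subtype.ext (mul_left_cancel h1))
    · rintro ⟨a, t, ht⟩
      have hy : a * t * a⁻¹ ∈ conjSet Z x :=
        ⟨conj_notMem hZc ht.2 a, a⁻¹, by simpa [mul_assoc] using ht.1⟩
      set y : conjSet Z x := ⟨_, hy⟩
      have e := heq y
      have hm : ((hh y)⁻¹ * a) * t * ((hh y)⁻¹ * a)⁻¹ = tt y := by
        have h2 : (y : H) = a * t * a⁻¹ := rfl
        calc (hh y)⁻¹ * a * t * ((hh y)⁻¹ * a)⁻¹ = (hh y)⁻¹ * (a * t * a⁻¹) * hh y := by group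
          _ = (hh y)⁻¹ * (hh y * tt y * (hh y)⁻¹) * hh y := by rw [e, h2]
          _ = tt y := by group
      refine ⟨(y, ⟨(hh y)⁻¹ * a,
        mem_normalizer_cent hZc hCA hx ht.2 ht.1 (hm ▸ (htt y).1)⟩), ?_⟩
      refine Prod.ext (mul_inv_cancel_left _ _) (Subtype.ext ?_)
      show ((hh y)⁻¹ * a)⁻¹ * tt y * ((hh y)⁻¹ * a) = t
      rw [← hm]
      group
  have hcard := Nat.card_congr (Equiv.ofBijective f hf)
  rw [Nat.card_prod, Nat.card_prod] at hcard
  rw [hcard, ← mul_add, hX]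

/-- The arithmetic of the class equation when two orbits of tori occur. -/
theorem arith_two_tori {q n k d r : ℕ} (hq : 3 ≤ q) (hqo : Odd q) (hr : n = 1 + q * r)
    (hr1 : 1 ≤ r) (hk : k + 1 ≤ q) (hk2 : 2 ≤ k)
    (h : (q : ℤ) * n * k = d * ((n : ℤ) * ((q : ℤ) - 2) + 2)) :
    r = 1 ∨ (q = 3 ∧ r = 3 ∧ k = 2) := by
  have hdvd : (n : ℤ) ∣ 2 * d := ⟨(q : ℤ) * k - d * ((q : ℤ) - 2), by linear_combination -h⟩
  obtain ⟨m, hm⟩ := hdvd
  have hq0 : (q : ℤ) ≠ 0 := by exact_mod_cast (show q ≠ 0 by omega)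
  have hn0 : (n : ℤ) ≠ 0 := by exact_mod_cast (show n ≠ 0 by omega)
  have hnr : (n : ℤ) = 1 + q * r := by exact_mod_cast hr
  have h1 : (2 : ℤ) * k = m * ((r : ℤ) * ((q : ℤ) - 2) + 1) := by
    apply mul_left_cancel₀ (mul_ne_zero hq0 hn0)
    linear_combination 2 * h + ((n : ℤ) * ((q : ℤ) - 2) + 2) * hm +
      (n : ℤ) * m * ((q : ℤ) - 2) * hnr
  have hqz : (3 : ℤ) ≤ q := by exact_mod_cast hq
  have hrz : (1 : ℤ) ≤ r := by exact_mod_cast hr1
  have hkz : (k : ℤ) + 1 ≤ q := by exact_mod_cast hk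
  have hk2z : (2 : ℤ) ≤ k := by exact_mod_cast hk2
  have hpos : 0 < (r : ℤ) * ((q : ℤ) - 2) + 1 := by nlinarith
  have hm1 : 1 ≤ m := by
    by_contra hcon
    have : m * ((r : ℤ) * ((q : ℤ) - 2) + 1) ≤ 0 :=
      mul_nonpos_of_nonpos_of_nonneg (by omega) hpos.le
    omega
  rcases hm1.lt_or_eq with hm2 | rfl
  · left
    have h2 : 2 * ((r : ℤ) * ((q : ℤ) - 2) + 1) ≤ 2 * k := by
      rw [h1]; exact mul_le_mul_of_nonneg_right (by omega) hpos.le
    have : (r : ℤ) < 2 := by nlinarith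
    omega
  · rw [one_mul] at h1
    obtain ⟨j, hj⟩ := hqo
    rcases (show r = 1 ∨ r = 2 ∨ 3 ≤ r by omega) with h' | h' | h'
    · exact Or.inl h'
    · subst h'
      omega
    · right
      have hr3 : (3 : ℤ) ≤ r := by exact_mod_cast h'
      have hq3 : (q : ℤ) ≤ 3 := by nlinarith
      obtain rfl : q = 3 := by omega
      push_cast at h1
      omega

/-- The count of Sylow `p`-subgroups. -/
theorem sylow_count [Finite H] {p : ℕ} [hp : Fact p.Prime] (h2 : p ≠ 2) (hZc : Z ≤ center H)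
    (hZp : ¬ p ∣ Nat.card Z)
    (hCA : ∀ x ∉ Z, ∀ y z : H, Commute y x → Commute z x → Commute y z) (P : Sylow p H)
    (hPne : (P : Subgroup H) ≠ ⊥)
    (hPc : ∀ u ∈ (P : Subgroup H), u ≠ 1 → centralizer ({u} : Set H) = (P : Subgroup H) ⊔ Z)
    (htor : ∀ x ∉ Z, ¬ p ∣ Nat.card (centralizer ({x} : Set H)) →
      Nat.card (normalizer (centralizer ({x} : Set H) : Set H)) ≤
        2 * Nat.card (centralizer ({x} : Set H)))
    (hNT : Nat.card Z * Nat.card (P : Subgroup H) <
        Nat.card (normalizer ((P : Subgroup H) : Set H)) →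
      ∃ x ∉ Z, Nat.card (centralizer ({x} : Set H)) * Nat.card (P : Subgroup H) =
        Nat.card (normalizer ((P : Subgroup H) : Set H)))
    (hk : Nat.card (normalizer ((P : Subgroup H) : Set H)) ≤
      Nat.card Z * Nat.card (P : Subgroup H) * (Nat.card (P : Subgroup H) - 1))
    {r : ℕ} (hr : (normalizer ((P : Subgroup H) : Set H)).index = 1 + Nat.card (P : Subgroup H) * r)
    (hr1 : 1 ≤ r) :
    r = 1 ∨ (Nat.card (P : Subgroup H) = 3 ∧ r = 3 ∧
      Nat.card (normalizer ((P : Subgroup H) : Set H)) =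
        2 * (Nat.card Z * Nat.card (P : Subgroup H))) := by
  classical
  set q := Nat.card (P : Subgroup H) with hqdef
  set N := normalizer ((P : Subgroup H) : Set H) with hNdef
  set n := N.index with hndef
  set e := Nat.card Z with hedef
  have hq3 : 3 ≤ q ∧ Odd q := by
    obtain ⟨j, hj⟩ := IsPGroup.iff_card.1 P.isPGroup'
    have hj0 : j ≠ 0 := by
      rintro rfl
      exact hPne (card_eq_one.1 (by simpa using hj))
    have hp3 : 3 ≤ p := by have := hp.out.two_le; omega
    rw [← hqdef] at hj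
    rw [hj]
    exact ⟨hp3.trans (Nat.le_self_pow hj0 p), (hp.out.odd_of_ne_two h2).pow⟩
  obtain ⟨u, hu, hu1⟩ : ∃ u ∈ (P : Subgroup H), u ≠ 1 := by
    by_contra hcon
    push Not at hcon
    exact hPne ((Subgroup.eq_bot_iff_forall _).2 hcon)
  haveI : Z.Normal := ⟨fun z hz g => by
    rw [mem_center_iff.1 (hZc hz) g, mul_inv_cancel_right]; exact hz⟩
  have hdisj : (P : Subgroup H) ⊓ Z = ⊥ := by
    obtain ⟨j, hj⟩ := IsPGroup.iff_card.1 P.isPGroup'
    refine Subgroup.inf_eq_bot_of_coprime ?_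
    rw [hj]
    exact Nat.Coprime.pow_left _ ((Nat.Prime.coprime_iff_not_dvd hp.out).2 hZp)
  have hcardPZ : Nat.card ((P : Subgroup H) ⊔ Z : Subgroup H) = q * e := by
    rw [hqdef, hedef, ← Nat.card_prod]
    let φ : ↥(P : Subgroup H) × ↥Z → ((P : Subgroup H) ⊔ Z : Subgroup H) := fun w =>
      ⟨w.1 * w.2, mul_mem (mem_sup_left w.1.2) (mem_sup_right w.2.2)⟩
    refine (Nat.card_congr (Equiv.ofBijective φ ⟨?_, ?_⟩)).symm
    · rintro ⟨a, b⟩ ⟨a', b'⟩ h
      have h' : (a : H) * b = a' * b' := congrArg Subtype.val h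
      have h3 : (a' : H)⁻¹ * a = b' * (b : H)⁻¹ := by
        calc (a' : H)⁻¹ * a = (a' : H)⁻¹ * (a * b) * (b : H)⁻¹ := by group
          _ = (a' : H)⁻¹ * (a' * b') * (b : H)⁻¹ := by rw [h']
          _ = b' * (b : H)⁻¹ := by group
      have h4 : (a' : H)⁻¹ * a ∈ (P : Subgroup H) ⊓ Z :=
        ⟨(P : Subgroup H).mul_mem ((P : Subgroup H).inv_mem a'.2) a.2, h3 ▸ Z.mul_mem b'.2 (Z.inv_mem b.2)⟩
      rw [hdisj, mem_bot, inv_mul_eq_one] at h4
      obtain rfl : a' = a := Subtype.ext h4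
      exact Prod.ext rfl (Subtype.ext (mul_left_cancel h'))
    · rintro ⟨w, hw⟩
      obtain ⟨a, ha, b, hb, rfl⟩ := mem_sup_of_normal_right.1 hw
      exact ⟨(⟨a, ha⟩, ⟨b, hb⟩), rfl⟩
  have huZ : u ∉ Z := fun h => hu1 (mem_bot.1 (hdisj ▸ Subgroup.mem_inf.2 ⟨hu, h⟩))
  have hCu : Nat.card (centralizer ({u} : Set H)) = q * e := by rw [hPc u hu hu1, hcardPZ]
  have hNu : normalizer (centralizer ({u} : Set H) : Set H) = N := by
    rw [hPc u hu hu1]
    refine le_antisymm (fun m hm => ?_) (fun m hm => ?_)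
    · refine mem_normalizer_fintype fun a ha => ?_
      obtain ⟨a', ha', z, hz, hzz⟩ :=
        mem_sup_of_normal_right.1 ((mem_normalizer_iff.1 hm a).1 (mem_sup_left ha))
      have hq1 : ∀ b ∈ (P : Subgroup H), b ^ q = 1 := fun b hb =>
        congrArg Subtype.val (pow_card_eq_one' (x := (⟨b, hb⟩ : (P : Subgroup H))))
      have h5 : (a' * z) ^ q = 1 := by rw [hzz, conj_pow, hq1 a ha, mul_one, mul_inv_cancel]
      rw [Commute.mul_pow (mem_center_iff.1 (hZc hz) a'), hq1 a' ha', one_mul] at h5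
      have h6 : z ∈ (P : Subgroup H) ⊓ Z := by
        refine ⟨?_, hz⟩
        have hcop : Nat.Coprime q e := by
          obtain ⟨j, hj⟩ := IsPGroup.iff_card.1 P.isPGroup'
          rw [hqdef, hj]
          exact Nat.Coprime.pow_left _ ((Nat.Prime.coprime_iff_not_dvd hp.out).2 hZp)
        have hze : z ^ e = 1 :=
          congrArg Subtype.val (pow_card_eq_one' (x := (⟨z, hz⟩ : Z)))
        have h7 := pow_gcd_eq_one.2 ⟨h5, hze⟩
        rw [Nat.Coprime.gcd_eq_one hcop, pow_one] at h7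
        rw [h7]; exact one_mem _
      rw [hdisj, mem_bot] at h6
      rw [h6, mul_one] at hzz
      show m * a * m⁻¹ ∈ _
      rwa [← hzz]
    · refine mem_normalizer_fintype fun w hw => ?_
      obtain ⟨a, ha, z, hz, rfl⟩ := mem_sup_of_normal_right.1 hw
      show m * (a * z) * m⁻¹ ∈ _
      rw [show m * (a * z) * m⁻¹ = (m * a * m⁻¹) * (m * z * m⁻¹) by group]
      exact mul_mem (mem_sup_left ((mem_normalizer_iff.1 hm a).1 ha))
        (mem_sup_right ((inferInstance : Z.Normal).conj_mem z hz m))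
  obtain ⟨k, hk'⟩ : q * e ∣ Nat.card N := by
    rw [← hCu, ← hNu]
    exact card_dvd_of_le le_normalizer
  have hg : Nat.card H = q * e * k * n := by rw [← hk', hndef, card_mul_index]
  have hpos : 0 < q * e * k := hk' ▸ Nat.card_pos
  have he : 0 < e := Nat.pos_of_ne_zero (by rintro h0; simp [h0] at hpos)
  -- the conjugates of `u`
  set OP := conjSet Z u with hOP
  have hOPc : (Nat.card OP : ℤ) = e * n * ((q : ℤ) - 1) := by
    have h1 := card_conjSet_mul hZc hCA huZ
    rw [hCu, hNu, hg, hk', ← hOP] at h1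
    have h1' : (Nat.card OP : ℤ) * (q * e * k) + q * e * k * n * e = q * e * k * n * (q * e) := by
      exact_mod_cast h1
    have hne : (q : ℤ) * e * k ≠ 0 := by exact_mod_cast hpos.ne'
    apply mul_left_cancel₀ hne
    linear_combination h1'
  have hcc : ∀ x y : H, x ∉ Z → y ∉ Z → y ∈ conjSet Z x →
      Nat.card (centralizer ({y} : Set H)) = Nat.card (centralizer ({x} : Set H)) := by
    rintro x y hx hy ⟨-, a, ha⟩
    rw [← cent_eq_of_mem hCA hx (conj_notMem hZc hy a) ha]
    refine Nat.card_congr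
      ⟨fun w => ⟨a * w * a⁻¹, conj_mem_cent w.2⟩, fun w => ⟨a⁻¹ * w * a, ?_⟩,
        fun w => Subtype.ext (by group), fun w => Subtype.ext (by group)⟩
    have h := conj_mem_cent (h := a⁻¹) w.2
    simpa [mul_assoc] using h
  have hsing : ∀ x ∉ Z, p ∣ Nat.card (centralizer ({x} : Set H)) → x ∈ OP := by
    intro x hx hd
    obtain ⟨w, hw⟩ := exists_prime_orderOf_dvd_card' p hd
    have hwp : IsPGroup p (zpowers (w : H)) := IsPGroup.of_card (n := 1) (by
      rw [Nat.card_zpowers, orderOf_coe, hw, pow_one])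
    obtain ⟨R, hR⟩ := hwp.exists_le_sylow
    obtain ⟨a, ha⟩ := MulAction.exists_smul_eq H R P
    have h1 : a * w * a⁻¹ ∈ (P : Subgroup H) := by
      rw [← ha, Sylow.coe_subgroup_smul]
      exact smul_mem_pointwise_smul _ (MulAut.conj a) _ (hR (mem_zpowers _))
    have h1' : a * w * a⁻¹ ≠ 1 := fun h => by
      rw [conj_eq_one_iff] at h
      rw [show w = 1 from Subtype.ext h, orderOf_one] at hw
      exact hp.out.one_lt.ne hw
    refine ⟨hx, a, ?_⟩
    rw [hPc u hu hu1, ← hPc _ h1 h1']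
    refine conj_mem_cent ?_
    have h8 := mem_cent.1 w.2
    exact mem_cent.2 h8.symm
  -- bounds for the other classes
  have hother : ∀ y ∉ Z, y ∉ OP → ∃ d s : ℕ, 2 ≤ d ∧
      Nat.card (centralizer ({y} : Set H)) = e * d ∧ (s = 1 ∨ s = 2) ∧
      (Nat.card (conjSet Z y) : ℤ) * (s * d) = q * e * k * n * ((d : ℤ) - 1) := by
    intro y hy hyP
    have hpy : ¬ p ∣ Nat.card (centralizer ({y} : Set H)) := fun h => hyP (hsing y hy h)
    have hZC : Z ≤ centralizer ({y} : Set H) := fun z hz =>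
      mem_cent.2 (mem_center_iff.1 (hZc hz) y).symm
    obtain ⟨d, hd⟩ : e ∣ Nat.card (centralizer ({y} : Set H)) := card_dvd_of_le hZC
    obtain ⟨s, hs⟩ : Nat.card (centralizer ({y} : Set H)) ∣
        Nat.card (normalizer (centralizer ({y} : Set H) : Set H)) := card_dvd_of_le le_normalizer
    have hd2 : 2 ≤ d := by
      by_contra hcon
      have hle : Nat.card (centralizer ({y} : Set H)) ≤ Nat.card Z := by
        rw [hd, ← hedef]
        calc e * d ≤ e * 1 := Nat.mul_le_mul_left e (by omega)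
          _ = e := mul_one e
      exact hy ((eq_of_le_of_card_ge hZC hle).symm ▸ mem_cent.2 rfl)
    have hs2 : s ≤ 2 := by
      have h := htor y hy hpy
      rw [hs, mul_comm 2] at h
      exact Nat.le_of_mul_le_mul_left h Nat.card_pos
    have hs0 : s ≠ 0 := by
      rintro rfl
      exact Nat.card_pos.ne' (hs.trans (mul_zero _))
    have h1 := card_conjSet_mul hZc hCA hy
    rw [hs, hd, hg, ← hedef] at h1
    have h1' : (Nat.card (conjSet Z y) : ℤ) * (e * d * s) + q * e * k * n * e =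
        q * e * k * n * (e * d) := by exact_mod_cast h1
    refine ⟨d, s, hd2, hd, by omega, ?_⟩
    have hne : (e : ℤ) ≠ 0 := by exact_mod_cast he.ne'
    apply mul_left_cancel₀ hne
    linear_combination h1'
  have hquarter : ∀ y ∉ Z, y ∉ OP →
      (q : ℤ) * e * k * n ≤ 4 * Nat.card (conjSet Z y) := by
    intro y hy hyP
    obtain ⟨d, s, hd2, -, hs, hD⟩ := hother y hy hyP
    have hd2' : (2 : ℤ) ≤ d := by exact_mod_cast hd2
    have hD0 : (0 : ℤ) ≤ (Nat.card (conjSet Z y) : ℤ) := Int.natCast_nonneg _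
    have hg0 : (0 : ℤ) ≤ (q : ℤ) * e * k * n := by positivity
    rcases hs with rfl | rfl <;> push_cast at hD <;> nlinarith
  have huniv : ∀ S : Set H, S ⊆ {y | y ∉ Z} → (Nat.card S : ℤ) ≤ q * e * k * n - e ∧
      ((Nat.card S : ℤ) = q * e * k * n - e ∨ ∃ y, y ∉ Z ∧ y ∉ S) := by
    intro S hS
    have h1 : Nat.card ({y | y ∉ Z} : Set H) + e = Nat.card H := by
      rw [Nat.card_coe_set_eq, hedef,
        show Nat.card Z = (Z : Set H).ncard from Nat.card_coe_set_eq _, ← Set.ncard_univ H,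
        ← Set.ncard_sdiff_add_ncard_of_subset (Set.subset_univ (Z : Set H)) (Set.toFinite _)]
      congr 2
      ext y
      simp
    have h1' : (Nat.card ({y | y ∉ Z} : Set H) : ℤ) + e = q * e * k * n := by
      rw [hg] at h1; exact_mod_cast h1
    have hle : Nat.card S ≤ Nat.card ({y | y ∉ Z} : Set H) :=
      Nat.card_mono (Set.toFinite _) hS
    refine ⟨by omega, ?_⟩
    by_cases heq : {y | y ∉ Z} ⊆ S
    · rw [Set.Subset.antisymm hS heq]
      exact Or.inl (by omega)
    · obtain ⟨y, hy, hy'⟩ := Set.not_subset.1 heq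
      exact Or.inr ⟨y, hy, hy'⟩
  have hcu : ∀ A B : Set H, Disjoint A B →
      (Nat.card (A ∪ B : Set H) : ℤ) = Nat.card A + Nat.card B := fun A B h => by
    rw [Nat.card_coe_set_eq, Nat.card_coe_set_eq, Nat.card_coe_set_eq, Set.ncard_union_eq h]
    push_cast
    ring
  have hsub : ∀ y, conjSet Z y ⊆ {y | y ∉ Z} := fun y w hw => hw.1
  have hnz : (n : ℤ) = 1 + (q : ℤ) * r := by exact_mod_cast hr
  have hqz : (3 : ℤ) ≤ q := by exact_mod_cast hq3.1
  have hrz : (1 : ℤ) ≤ r := by exact_mod_cast hr1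
  have hez : (1 : ℤ) ≤ e := by exact_mod_cast he
  have hn4 : (4 : ℤ) ≤ n := by nlinarith
  have hen : 0 < (e : ℤ) * n := by positivity
  have hk1 : k + 1 ≤ q := by
    have h : q * e * k ≤ q * e * (q - 1) := by
      calc q * e * k = Nat.card N := hk'.symm
        _ ≤ e * q * (q - 1) := hk
        _ = q * e * (q - 1) := by ring
    have h' := Nat.le_of_mul_le_mul_left h (Nat.mul_pos (by omega) he)
    omega
  rcases (show k = 1 ∨ 2 ≤ k by rcases Nat.eq_zero_or_pos k with rfl | h <;> [simp at hpos; omega])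
    with rfl | hk2
  · left
    obtain ⟨hle, heq⟩ := huniv OP (hsub u)
    rcases heq with heq | ⟨y, hy, hyP⟩
    · exfalso
      rw [hOPc] at heq
      push_cast at heq
      nlinarith
    have hdis := disjoint_conjSet hCA hZc huZ hy hyP
    obtain ⟨-, heq2⟩ := huniv (OP ∪ conjSet Z y) (Set.union_subset (hsub u) (hsub y))
    rw [hcu _ _ hdis, hOPc] at heq2
    rcases heq2 with heq2 | ⟨z, hz, hzn⟩
    swap
    · exfalso
      rw [Set.mem_union, not_or] at hzn
      have hdz : Disjoint (OP ∪ conjSet Z y) (conjSet Z z) :=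
        Set.disjoint_union_left.2 ⟨disjoint_conjSet hCA hZc huZ hz hzn.1,
          disjoint_conjSet hCA hZc hy hz hzn.2⟩
      have h3 := (huniv _ (Set.union_subset (Set.union_subset (hsub u) (hsub y)) (hsub z))).1
      rw [hcu _ _ hdz, hcu _ _ hdis, hOPc] at h3
      have h4 := hquarter y hy hyP
      have h5 := hquarter z hz hzn.1
      push_cast at h3 h4 h5
      nlinarith
    obtain ⟨d, s, hd2, -, hs, hD⟩ := hother y hy hyP
    have hd2' : (2 : ℤ) ≤ d := by exact_mod_cast hd2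
    push_cast at hD heq2
    have hDe : (Nat.card (conjSet Z y) : ℤ) = e * ((n : ℤ) - 1) := by linear_combination heq2
    rw [hDe] at hD
    have hD' : ((n : ℤ) - 1) * (s * d) = q * n * ((d : ℤ) - 1) := by
      apply mul_left_cancel₀ (show (e : ℤ) ≠ 0 by omega)
      linear_combination hD
    have hn0 : (0 : ℤ) ≤ n := by omega
    have h6 := mul_le_mul_of_nonneg_right hqz (mul_nonneg hn0 (show (0 : ℤ) ≤ (d : ℤ) - 1 by omega))
    have h8 := mul_le_mul_of_nonneg_left (show (d : ℤ) ≤ 2 * ((d : ℤ) - 1) by omega) hn0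
    have h9 := mul_nonneg hn0 (show (0 : ℤ) ≤ (d : ℤ) by omega)
    rcases hs with rfl | rfl <;> push_cast at hD'
    · exfalso; linarith
    have hq4 : (q : ℤ) < 4 := by
      by_contra hcon
      have h6' := mul_le_mul_of_nonneg_right (not_lt.1 hcon)
        (mul_nonneg hn0 (show (0 : ℤ) ≤ (d : ℤ) - 1 by omega))
      linarith
    have hq : (q : ℤ) = 3 := by omega
    rw [hq] at hD' hnz
    have hd3 : (d : ℤ) < 3 := by
      by_contra hcon
      have h10 := mul_le_mul_of_nonneg_left (not_lt.1 hcon) hn0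
      linarith
    have hd : (d : ℤ) = 2 := by omega
    rw [hd] at hD'
    omega
  · obtain ⟨x, hx, hxc⟩ := hNT (by
      rw [hk', mul_comm e q]
      calc q * e = q * e * 1 := (mul_one _).symm
        _ < q * e * k := Nat.mul_lt_mul_of_pos_left (by omega) (Nat.mul_pos (by omega) he))
    have hxk : Nat.card (centralizer ({x} : Set H)) = e * k := by
      rw [hk'] at hxc
      refine Nat.eq_of_mul_eq_mul_right (show 0 < q by omega) ?_
      rw [hxc]; ring
    have hxP : x ∉ OP := fun h => by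
      have h1 := hcc u x huZ hx h
      rw [hxk, hCu, mul_comm q e] at h1
      have := Nat.eq_of_mul_eq_mul_left he h1
      omega
    obtain ⟨d, s, hd2, hdx, hs, hT⟩ := hother x hx hxP
    obtain rfl : k = d := Nat.eq_of_mul_eq_mul_left he (hxk.symm.trans hdx)
    have hk2' : (2 : ℤ) ≤ k := by exact_mod_cast hk2
    have hdis := disjoint_conjSet hCA hZc huZ hx hxP
    obtain ⟨-, heq⟩ := huniv (OP ∪ conjSet Z x) (Set.union_subset (hsub u) (hsub x))
    rw [hcu _ _ hdis, hOPc] at heq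
    have hkne : (k : ℤ) ≠ 0 := by omega
    have hTs : (Nat.card (conjSet Z x) : ℤ) * s = q * e * n * ((k : ℤ) - 1) := by
      apply mul_left_cancel₀ hkne
      linear_combination hT
    have henq := mul_le_mul_of_nonneg_left hqz hen.le
    have hen4 := mul_le_mul_of_nonneg_left hn4 (show (0 : ℤ) ≤ e by omega)
    rcases hs with rfl | rfl <;> push_cast at hTs
    · exfalso
      rcases heq with heq | ⟨y, hy, hyn⟩
      · have h0 : (e : ℤ) * ((n : ℤ) - 1) = 0 := by linear_combination -heq + hTs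
        rcases mul_eq_zero.1 h0 with h0 | h0 <;> omega
      rw [Set.mem_union, not_or] at hyn
      have hdy : Disjoint (OP ∪ conjSet Z x) (conjSet Z y) :=
        Set.disjoint_union_left.2 ⟨disjoint_conjSet hCA hZc huZ hy hyn.1,
          disjoint_conjSet hCA hZc hx hy hyn.2⟩
      have h3 := (huniv _ (Set.union_subset (Set.union_subset (hsub u) (hsub x)) (hsub y))).1
      rw [hcu _ _ hdy, hcu _ _ hdis, hOPc] at h3
      have h4 := hquarter y hy hyn.1
      have h5 := mul_le_mul_of_nonneg_left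
        (show (6 : ℤ) ≤ q * k from (mul_le_mul hqz hk2' (by omega) (by omega))) hen.le
      linarith
    rcases heq with heq | ⟨y, hy, hyn⟩
    · exfalso
      have h5 := mul_le_mul_of_nonneg_left
        (mul_le_mul_of_nonneg_left hk2' (show (0 : ℤ) ≤ q by omega)) hen.le
      linarith
    rw [Set.mem_union, not_or] at hyn
    have hdy : Disjoint (OP ∪ conjSet Z x) (conjSet Z y) :=
      Set.disjoint_union_left.2 ⟨disjoint_conjSet hCA hZc huZ hy hyn.1,
        disjoint_conjSet hCA hZc hx hy hyn.2⟩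
    obtain ⟨d, s, hd2, -, hs, hD⟩ := hother y hy hyn.1
    obtain ⟨h3, heq3⟩ := huniv _ (Set.union_subset (Set.union_subset (hsub u) (hsub x)) (hsub y))
    rw [hcu _ _ hdy, hcu _ _ hdis, hOPc] at h3 heq3
    rcases heq3 with heq3 | ⟨z, hz, hzn⟩
    swap
    · exfalso
      rw [Set.mem_union, Set.mem_union, not_or, not_or] at hzn
      have hdz : Disjoint (OP ∪ conjSet Z x ∪ conjSet Z y) (conjSet Z z) :=
        Set.disjoint_union_left.2 ⟨Set.disjoint_union_left.2
          ⟨disjoint_conjSet hCA hZc huZ hz hzn.1.1, disjoint_conjSet hCA hZc hx hz hzn.1.2⟩,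
          disjoint_conjSet hCA hZc hy hz hzn.2⟩
      have h6 := (huniv _ (Set.union_subset
        (Set.union_subset (Set.union_subset (hsub u) (hsub x)) (hsub y)) (hsub z))).1
      rw [hcu _ _ hdz, hcu _ _ hdy, hcu _ _ hdis, hOPc] at h6
      have h4 := hquarter y hy hyn.1
      have h5 := hquarter z hz hzn.1.1
      linarith
    have hd2' : (2 : ℤ) ≤ d := by exact_mod_cast hd2
    have hDe : 2 * (Nat.card (conjSet Z y) : ℤ) =
        e * ((n : ℤ) * q * k - n * q + 2 * n - 2) := by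
      linear_combination 2 * heq3 - hTs
    rcases hs with rfl | rfl <;> push_cast at hD
    · exfalso
      have hg0 : (0 : ℤ) ≤ q * e * k * n := by positivity
      have h5 := mul_le_mul_of_nonneg_left (show (d : ℤ) ≤ 2 * ((d : ℤ) - 1) by omega) hg0
      have h6 : (q : ℤ) * e * k * n * d ≤ 2 * Nat.card (conjSet Z y) * d := by linarith
      have h7 := le_of_mul_le_mul_right h6 (show (0 : ℤ) < d by omega)
      linarith
    have heq4 : (q : ℤ) * n * k = d * ((n : ℤ) * ((q : ℤ) - 2) + 2) := by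
      apply mul_left_cancel₀ (show (e : ℤ) ≠ 0 by omega)
      linear_combination hD - (d : ℤ) * hDe
    rcases arith_two_tori hq3.1 hq3.2 hr hr1 hk1 hk2 heq4 with h | ⟨h1, h4, h5⟩
    · exact Or.inl h
    · refine Or.inr ⟨h1, h4, ?_⟩
      rw [hk', h5]
      ring

end Cfsg.Lib.Linear.Dickson
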