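import Mathlib
import Cfsg.Agent.Lib.Linear.DicksonCount
import Cfsg.Agent.Lib.Linear.SLBasic

/-!
# A weak form of Dickson's theorem on `SL₂`

* `exists_SL2_map_le`: in odd characteristic `p`, a finite subgroup of `SL₂` with two
  non-commuting `p`-elements contains a `GL₂`-conjugate of `SL₂` over the prime field.
-/

set_option autoImplicit false
set_option linter.style.haveILetI false
set_option linter.unusedSectionVars false

namespace Cfsg.Lib.Linear.Dickson

open Matrix
open scoped MatrixGroups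

variable {F : Type*} [Field F]

/-- Upper unitriangular. -/
def tU (a : F) : SL(2, F) := ⟨!![1, a; 0, 1], by simp [det_fin_two]⟩

/-- Lower unitriangular. -/
def tL (a : F) : SL(2, F) := ⟨!![1, 0; a, 1], by simp [det_fin_two]⟩

theorem tU_coe (a : F) : (tU a : Matrix (Fin 2) (Fin 2) F) = !![1, a; 0, 1] := rfl

theorem tL_coe (a : F) : (tL a : Matrix (Fin 2) (Fin 2) F) = !![1, 0; a, 1] := rfl

theorem ext_two {x y : SL(2, F)} (h00 : x 0 0 = y 0 0) (h01 : x 0 1 = y 0 1) (h10 : x 1 0 = y 1 0)
    (h11 : x 1 1 = y 1 1) : x = y := by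
  apply Subtype.ext
  ext i j
  fin_cases i <;> fin_cases j <;> assumption

theorem det_eq (x : SL(2, F)) : x 0 0 * x 1 1 - x 0 1 * x 1 0 = 1 := by
  have h := x.2
  rwa [det_fin_two] at h

theorem mul_apply' (x y : SL(2, F)) (i j : Fin 2) :
    (x * y) i j = x i 0 * y 0 j + x i 1 * y 1 j := by
  simp [Matrix.mul_apply, Fin.sum_univ_two]

theorem inv_apply00 (x : SL(2, F)) : x⁻¹ 0 0 = x 1 1 ∧ x⁻¹ 0 1 = -x 0 1 ∧ x⁻¹ 1 0 = -x 1 0 ∧
    x⁻¹ 1 1 = x 0 0 := by
  simp [adjugate_fin_two]

theorem tU_mul (a b : F) : tU a * tU b = tU (a + b) := by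
  apply ext_two <;> simp [mul_apply', tU_coe, add_comm]

theorem tL_mul (a b : F) : tL a * tL b = tL (a + b) := by
  apply ext_two <;> simp [mul_apply', tL_coe, add_comm]

theorem tU_zero : tU (0 : F) = 1 := by
  apply ext_two <;> simp [tU_coe]

theorem tL_zero : tL (0 : F) = 1 := by
  apply ext_two <;> simp [tL_coe]

theorem tU_inv (a : F) : (tU a)⁻¹ = tU (-a) :=
  inv_eq_of_mul_eq_one_right (by rw [tU_mul, add_neg_cancel, tU_zero])

theorem tU_pow (a : F) (n : ℕ) : tU a ^ n = tU (n * a) := by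
  induction n with
  | zero => simp [tU_zero]
  | succ n ih => rw [pow_succ, ih, tU_mul]; push_cast; ring_nf

theorem tL_pow (a : F) (n : ℕ) : tL a ^ n = tL (n * a) := by
  induction n with
  | zero => simp [tL_zero]
  | succ n ih => rw [pow_succ, ih, tL_mul]; push_cast; ring_nf

theorem map_apply' {R : Type*} [CommRing R] (f : R →+* F) (x : SL(2, R)) (i j : Fin 2) :
    SpecialLinearGroup.map f x i j = f (x i j) := rfl

/-- Conjugation by an invertible matrix. -/
def conjGL (g : GL (Fin 2) F) : SL(2, F) →* SL(2, F) where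
  toFun x := ⟨(g : Matrix (Fin 2) (Fin 2) F) * x * (g⁻¹ : GL (Fin 2) F), by
    rw [det_units_conj]; exact x.2⟩
  map_one' := Subtype.ext (by simp)
  map_mul' x y := Subtype.ext (by
    show _ = ((g : Matrix (Fin 2) (Fin 2) F) * x.1 * (g⁻¹ : GL (Fin 2) F)) *
      ((g : Matrix (Fin 2) (Fin 2) F) * y.1 * (g⁻¹ : GL (Fin 2) F))
    simp [mul_assoc])

theorem conjGL_coe (g : GL (Fin 2) F) (x : SL(2, F)) :
    (conjGL g x : Matrix (Fin 2) (Fin 2) F) =
      (g : Matrix (Fin 2) (Fin 2) F) * x * (g⁻¹ : GL (Fin 2) F) := rfl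

theorem conjGL_comp (g h : GL (Fin 2) F) (x : SL(2, F)) :
    conjGL g (conjGL h x) = conjGL (g * h) x :=
  Subtype.ext (by simp [conjGL_coe, _root_.mul_inv_rev, mul_assoc])

theorem conjGL_one (x : SL(2, F)) : conjGL 1 x = x := Subtype.ext (by simp [conjGL_coe])

theorem conjGL_injective (g : GL (Fin 2) F) : Function.Injective (conjGL g) := fun x y h => by
  have := congrArg (conjGL g⁻¹) h
  simpa [conjGL_comp, conjGL_one] using this

theorem conjGL_eq_of_mul_eq (g : GL (Fin 2) F) {x y : SL(2, F)}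
    (h : (g : Matrix (Fin 2) (Fin 2) F) * x = (y : Matrix (Fin 2) (Fin 2) F) * g) :
    conjGL g x = y := by
  apply Subtype.ext
  rw [conjGL_coe, h, mul_assoc, Units.mul_inv, mul_one]

/-- The trace. -/
def tr2 (x : SL(2, F)) : F := x 0 0 + x 1 1

/-- Cayley-Hamilton. -/
theorem sq_entries (x : SL(2, F)) : (x * x) 0 0 = tr2 x * x 0 0 - 1 ∧ (x * x) 0 1 = tr2 x * x 0 1 ∧
    (x * x) 1 0 = tr2 x * x 1 0 ∧ (x * x) 1 1 = tr2 x * x 1 1 - 1 := by
  have h := det_eq x
  simp only [mul_apply', tr2]
  refine ⟨?_, by ring, by ring, ?_⟩ <;> linear_combination -h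

theorem isScalar_of_mem_center {x : SL(2, F)} (h : x ∈ Subgroup.center SL(2, F)) :
    x 0 1 = 0 ∧ x 1 0 = 0 ∧ x 0 0 = x 1 1 := by
  have hu := congrArg (fun y : SL(2, F) => y 0 1) (Subgroup.mem_center_iff.1 h (tU 1))
  have hl := congrArg (fun y : SL(2, F) => y 0 0) (Subgroup.mem_center_iff.1 h (tU 1))
  have hl' := congrArg (fun y : SL(2, F) => y 0 0) (Subgroup.mem_center_iff.1 h (tL 1))
  simp [mul_apply', tU_coe, tL_coe] at hu hl hl'
  exact ⟨hl', hl, by linear_combination -hu⟩

theorem mem_center_of_scalar {x : SL(2, F)} (h1 : x 0 1 = 0) (h2 : x 1 0 = 0)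
    (h3 : x 0 0 = x 1 1) : x ∈ Subgroup.center SL(2, F) :=
  Subgroup.mem_center_iff.2 fun y => by
    apply ext_two <;> simp [mul_apply', h1, h2, h3, mul_comm]

theorem exists_param {x y : SL(2, F)} (hx : x ∉ Subgroup.center SL(2, F)) (h : Commute y x) :
    ∃ r s : F, y 0 0 = r + s * x 0 0 ∧ y 0 1 = s * x 0 1 ∧ y 1 0 = s * x 1 0 ∧
      y 1 1 = r + s * x 1 1 := by
  have e00 := congrArg (fun z : SL(2, F) => z 0 0) h.eq
  have e01 := congrArg (fun z : SL(2, F) => z 0 1) h.eq
  have e10 := congrArg (fun z : SL(2, F) => z 1 0) h.eq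
  simp [mul_apply'] at e00 e01 e10
  by_cases h01 : x 0 1 = 0
  · by_cases h10 : x 1 0 = 0
    · have hd : x 0 0 - x 1 1 ≠ 0 := fun hd =>
        hx (mem_center_of_scalar h01 h10 (sub_eq_zero.1 hd))
      rw [h01] at e01
      rw [h10] at e10
      have y01 : y 0 1 = 0 := (mul_eq_zero.1 (show (x 0 0 - x 1 1) * y 0 1 = 0 by
        linear_combination -e01)).resolve_left hd
      have y10 : y 1 0 = 0 := (mul_eq_zero.1 (show (x 0 0 - x 1 1) * y 1 0 = 0 by
        linear_combination e10)).resolve_left hd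
      refine ⟨y 0 0 - (y 0 0 - y 1 1) / (x 0 0 - x 1 1) * x 0 0,
        (y 0 0 - y 1 1) / (x 0 0 - x 1 1), by ring, by rw [h01, y01, mul_zero],
        by rw [h10, y10, mul_zero], ?_⟩
      field_simp
      ring
    · refine ⟨y 0 0 - y 1 0 / x 1 0 * x 0 0, y 1 0 / x 1 0, by ring, ?_, by field_simp, ?_⟩
      · field_simp
        linear_combination e00
      · field_simp
        linear_combination e10
  · refine ⟨y 0 0 - y 0 1 / x 0 1 * x 0 0, y 0 1 / x 0 1, by ring, by field_simp, ?_, ?_⟩
    · field_simp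
      linear_combination -e00
    · field_simp
      linear_combination -e01

theorem commute_of_commute {x y z : SL(2, F)} (hx : x ∉ Subgroup.center SL(2, F))
    (hy : Commute y x) (hz : Commute z x) : Commute y z := by
  obtain ⟨r, s, a00, a01, a10, a11⟩ := exists_param hx hy
  obtain ⟨r', s', b00, b01, b10, b11⟩ := exists_param hx hz
  refine ext_two ?_ ?_ ?_ ?_ <;>
    simp only [mul_apply', a00, a01, a10, a11, b00, b01, b10, b11] <;> ring

theorem mem_center_of_sq_eq_one {x : SL(2, F)} (h2 : (2 : F) ≠ 0) (h : x * x = 1) :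
    x ∈ Subgroup.center SL(2, F) := by
  obtain ⟨c00, c01, c10, c11⟩ := sq_entries x
  rw [h] at c00 c01 c10 c11
  simp at c00 c01 c10 c11
  have ht : tr2 x ≠ 0 := fun ht => h2 (by linear_combination c00 + x 0 0 * ht)
  refine mem_center_of_scalar (c01.resolve_left ht) (c10.resolve_left ht) ?_
  exact mul_left_cancel₀ ht (by linear_combination c11 - c00)

section Char

variable {p : ℕ} [hp : Fact p.Prime] [CharP F p]

theorem two_ne_zero' (h2 : p ≠ 2) : (2 : F) ≠ 0 := fun h => by
  have h' : ((2 : ℕ) : F) = 0 := by exact_mod_cast h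
  exact h2 ((Nat.prime_dvd_prime_iff_eq hp.out Nat.prime_two).1 ((CharP.cast_eq_zero_iff F p 2).1 h'))

theorem tr2_of_pow_eq_one {x : SL(2, F)} {k : ℕ} (h : x ^ p ^ k = 1) : tr2 x = 2 := by
  set N : Matrix (Fin 2) (Fin 2) F := (x : Matrix (Fin 2) (Fin 2) F) - 1 with hN
  have h1 : N ^ p ^ k = 0 := by
    have h' : (x : Matrix (Fin 2) (Fin 2) F) ^ p ^ k = 1 := congrArg Subtype.val h
    rw [hN, sub_pow_char_pow_of_commute (p := p) k (Commute.one_right _), one_pow, h', sub_self]
  have hdet : N.det = 0 := by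
    have h3 := congrArg Matrix.det h1
    rw [det_pow, det_zero] at h3
    exact eq_zero_of_pow_eq_zero h3
  have hsq : N * N = N.trace • N := by
    have hd := hdet
    rw [det_fin_two] at hd
    ext i j
    fin_cases i <;> fin_cases j <;>
      simp [Matrix.mul_apply, Fin.sum_univ_two, trace_fin_two] <;>
      first | linear_combination -hd | ring1
  have hpow : ∀ m : ℕ, N ^ (m + 1) = N.trace ^ m • N := by
    intro m
    induction m with
    | zero => simp
    | succ m ih => rw [pow_succ N (m + 1), ih, smul_mul_assoc, hsq, smul_smul, ← pow_succ]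
  obtain ⟨m, hm⟩ := Nat.exists_eq_add_of_le' (Nat.one_le_pow k p hp.out.pos)
  rw [hm, hpow] at h1
  have ht : N.trace = 0 := by
    rcases smul_eq_zero.1 h1 with h1 | h1
    · exact eq_zero_of_pow_eq_zero h1
    · rw [h1]; exact trace_zero _ _
  rw [hN, trace_sub, trace_one, trace_fin_two] at ht
  simp at ht
  rw [tr2]
  linear_combination ht

theorem pow_eq_one_of_tr2 {x : SL(2, F)} (h : tr2 x = 2) : x ^ p = 1 := by
  apply Subtype.ext
  obtain ⟨c00, c01, c10, c11⟩ := sq_entries x
  set N : Matrix (Fin 2) (Fin 2) F := (x : Matrix (Fin 2) (Fin 2) F) - 1 with hN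
  have hsq : N * N = 0 := by
    simp only [mul_apply'] at c00 c01 c10 c11
    ext i j
    fin_cases i <;> fin_cases j <;> simp [hN, Matrix.mul_apply, Fin.sum_univ_two] <;>
      first
        | linear_combination c00 + x 0 0 * h
        | linear_combination c01 + x 0 1 * h
        | linear_combination c10 + x 1 0 * h
        | linear_combination c11 + x 1 1 * h
  have hNp : N ^ p = 0 := by
    rw [← Nat.sub_add_cancel hp.out.two_le, pow_add, pow_two, hsq, mul_zero]
  rw [hN, sub_pow_char_of_commute (p := p) (Commute.one_right _), one_pow, sub_eq_zero] at hNp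
  exact hNp

/-- An element of trace `±2`. -/
theorem sq_pow_eq_one {y : SL(2, F)} (h : tr2 y * tr2 y = 4) : (y * y) ^ p = 1 := by
  refine pow_eq_one_of_tr2 ?_
  obtain ⟨c00, -, -, c11⟩ := sq_entries y
  rw [tr2, c00, c11]
  linear_combination (norm := ring_nf) h
  simp [tr2]
  ring

theorem tr2_param {x y : SL(2, F)} {r s : F} (a00 : y 0 0 = r + s * x 0 0)
    (a01 : y 0 1 = s * x 0 1) (a10 : y 1 0 = s * x 1 0) (a11 : y 1 1 = r + s * x 1 1) :
    tr2 y = 2 * r + s * tr2 x ∧ r * r + r * s * tr2 x + s * s = 1 := by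
  refine ⟨by rw [tr2, tr2, a00, a11]; ring, ?_⟩
  have h := det_eq y
  rw [a00, a01, a10, a11] at h
  rw [tr2]
  linear_combination h - s * s * det_eq x

theorem mem_of_isPGroup_commute {G : Type*} [Group G] {P : Sylow p G} {y : G} {i : ℕ}
    (hy : y ^ p ^ i = 1) (h : ∀ a ∈ (P : Subgroup G), Commute y a) : y ∈ (P : Subgroup G) := by
  have hle : Subgroup.zpowers y ≤ Subgroup.normalizer ((P : Subgroup G) : Set G) := by
    rw [Subgroup.zpowers_le, Subgroup.mem_normalizer_iff]
    intro a
    refine ⟨fun ha => ?_, fun ha => ?_⟩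
    · rw [(h a ha).eq, mul_inv_cancel_right]; exact ha
    · have h1 := (h _ ha).eq
      have h2 : y * a * y⁻¹ = a :=
        mul_left_cancel (h1.trans (by group : y * a * y⁻¹ * y = y * a))
      rwa [h2] at ha
  have hyp : IsPGroup p (Subgroup.zpowers y) := fun ⟨w, m, hm⟩ =>
    ⟨i, Subtype.ext (by
      show w ^ p ^ i = 1
      rw [← hm]
      show (y ^ m) ^ p ^ i = 1
      rw [← zpow_natCast, ← _root_.zpow_mul, mul_comm, _root_.zpow_mul, zpow_natCast, hy, _root_.one_zpow])⟩
  have hsup := hyp.to_sup_of_normal_right' P.isPGroup' hle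
  have h1 := P.is_maximal' hsup le_sup_right
  rw [← h1]
  exact Subgroup.mem_sup_left (Subgroup.mem_zpowers y)

end Char

/-- The possible first columns, as ratios. -/
def ratios (H : Subgroup SL(2, F)) : Set F :=
  {z | ∃ h ∈ H, h 1 0 ≠ 0 ∧ h 0 0 = z * h 1 0}

/-- The translations in `H`. -/
def trans (H : Subgroup SL(2, F)) : AddSubgroup F where
  carrier := {a | tU a ∈ H}
  zero_mem' := by simp [tU_zero, one_mem]
  add_mem' ha hb := by
    show tU _ ∈ H
    rw [← tU_mul]; exact mul_mem ha hb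
  neg_mem' ha := by
    show tU _ ∈ H
    rw [← tU_inv]; exact inv_mem ha

theorem ratios_mul {H : Subgroup SL(2, F)} {z : F} (hz : z ∈ ratios H) {g : SL(2, F)} (hg : g ∈ H)
    (h0 : g 1 0 * z + g 1 1 ≠ 0) : (g 0 0 * z + g 0 1) / (g 1 0 * z + g 1 1) ∈ ratios H := by
  obtain ⟨h, hh, h10, h00⟩ := hz
  have e : (g * h) 1 0 = (g 1 0 * z + g 1 1) * h 1 0 := by rw [mul_apply', h00]; ring
  refine ⟨g * h, mul_mem hg hh, by rw [e]; exact mul_ne_zero h0 h10, ?_⟩
  rw [e, ← mul_assoc, div_mul_cancel₀ _ h0, mul_apply', h00]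
  ring

theorem ratios_add {H : Subgroup SL(2, F)} {z a : F} (hz : z ∈ ratios H) (ha : a ∈ trans H) :
    z + a ∈ ratios H := by
  have h := ratios_mul hz (g := tU a) ha (by simp [tU_coe])
  simpa [tU_coe] using h

section Main

variable {p : ℕ} [hp : Fact p.Prime] [CharP F p]

/-- The counting alternative. -/
theorem count_cases (h2 : p ≠ 2) (H : Subgroup SL(2, F)) [Finite H] (h1 : tU 1 ∈ H)
    {h₀ : SL(2, F)} (hh₀ : h₀ ∈ H) (h₀10 : h₀ 1 0 ≠ 0) :
    Nat.card (ratios H) = Nat.card (trans H) ∨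
      (Nat.card (trans H) = 3 ∧ Nat.card (ratios H) = 9 ∧
        ∃ x ∈ H, x 1 0 = 0 ∧ x 0 0 * x 0 0 = -1) := by
  classical
  have two : (2 : F) ≠ 0 := two_ne_zero' h2
  let Z : Subgroup H := (Subgroup.center SL(2, F)).subgroupOf H
  have hZc : Z ≤ Subgroup.center H := fun z hz => Subgroup.mem_center_iff.2 fun g =>
    Subtype.ext (Subgroup.mem_center_iff.1 hz (g : SL(2, F)))
  have hZsq : ∀ z ∈ Z, z * z = 1 := fun z hz => by
    obtain ⟨s1, s2, s3⟩ := isScalar_of_mem_center (show (z : SL(2, F)) ∈ _ from hz)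
    have hd := det_eq (z : SL(2, F))
    rw [s1, s2, ← s3] at hd
    apply Subtype.ext
    refine ext_two ?_ ?_ ?_ ?_ <;> simp [mul_apply', s1, s2, ← s3] <;> linear_combination hd
  have hpZ : ∀ z ∈ Z, ∀ i : ℕ, z ^ p ^ i = 1 → z = 1 := by
    intro z hz i hi
    have hcop : Nat.Coprime 2 (p ^ i) :=
      Nat.Coprime.pow_right _ ((Nat.coprime_primes Nat.prime_two hp.out).2 h2.symm)
    have h := pow_gcd_eq_one.2 ⟨(by rw [pow_two]; exact hZsq z hz : z ^ 2 = 1), hi⟩
    rwa [hcop.gcd_eq_one, pow_one] at h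
  have hZp : ¬ p ∣ Nat.card Z := fun hd => by
    obtain ⟨z, hz⟩ := exists_prime_orderOf_dvd_card' p hd
    have : (z : H) = 1 := hpZ z z.2 1 (by
      rw [pow_one, ← hz]
      exact congrArg Subtype.val (pow_orderOf_eq_one z))
    rw [show z = 1 from Subtype.ext this, orderOf_one] at hz
    exact hp.out.one_lt.ne hz
  have hnZ : ∀ x : H, x ∉ Z → (x : SL(2, F)) ∉ Subgroup.center SL(2, F) := fun x hx => hx
  have hCA : ∀ x ∉ Z, ∀ y z : H, Commute y x → Commute z x → Commute y z := fun x hx y z hy hz =>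
    Subtype.ext (commute_of_commute (hnZ x hx) (congrArg Subtype.val hy.eq : (y : SL(2, F)) * x = x * y)
      (congrArg Subtype.val hz.eq : (z : SL(2, F)) * x = x * z)).eq
  -- the Sylow subgroup
  set u : H := ⟨tU 1, h1⟩ with hu
  have hup : u ^ p = 1 := Subtype.ext (by simp [hu, tU_pow, CharP.cast_eq_zero, tU_zero])
  have hu1 : u ≠ 1 := fun h => by
    have h' := congrArg (fun y : H => (y : SL(2, F)) 0 1) h
    simp [hu, tU_coe] at h'
  have huz : IsPGroup p (Subgroup.zpowers u) := IsPGroup.of_card (n := 1) (by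
    rw [Nat.card_zpowers, pow_one, orderOf_eq_prime hup hu1])
  obtain ⟨P, hP⟩ := huz.exists_le_sylow
  have huP : u ∈ (P : Subgroup H) := hP (Subgroup.mem_zpowers u)
  have hPpow : ∀ a ∈ (P : Subgroup H), ∃ i : ℕ, a ^ p ^ i = 1 := fun a ha => by
    obtain ⟨i, hi⟩ := P.isPGroup' ⟨a, ha⟩
    exact ⟨i, congrArg Subtype.val hi⟩
  have hPne : (P : Subgroup H) ≠ ⊥ := fun h => hu1 (by rwa [h, Subgroup.mem_bot] at huP)
  have hPab : ∀ a ∈ (P : Subgroup H), ∀ b ∈ (P : Subgroup H), Commute a b := by
    haveI : Nontrivial (P : Subgroup H) := (Subgroup.nontrivial_iff_ne_bot _).2 hPne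
    haveI := P.isPGroup'.center_nontrivial
    obtain ⟨⟨z, hz⟩, hz1⟩ := exists_ne (1 : Subgroup.center (P : Subgroup H))
    have hzP := z.2
    have hzZ : (z : H) ∉ Z := fun h => hz1 (by
      obtain ⟨i, hi⟩ := hPpow z hzP
      exact Subtype.ext (Subtype.ext (hpZ z h i hi)))
    intro a ha b hb
    exact hCA z hzZ a b (congrArg Subtype.val (Subgroup.mem_center_iff.1 hz ⟨a, ha⟩))
      (congrArg Subtype.val (Subgroup.mem_center_iff.1 hz ⟨b, hb⟩))
  haveI : Z.Normal := ⟨fun z hz g => by
    rw [Subgroup.mem_center_iff.1 (hZc hz) g, mul_inv_cancel_right]; exact hz⟩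
  -- elements of trace `±2` centralising an element of `P`
  have hPZ : ∀ w : H, w ≠ 1 → w ∈ (P : Subgroup H) → ∀ y : H, Commute y w →
      tr2 (y : SL(2, F)) * tr2 (y : SL(2, F)) = 4 → y ∈ (P : Subgroup H) ⊔ Z := by
    intro w hw hwP y hy ht
    have hwZ : w ∉ Z := fun h => hw (by obtain ⟨i, hi⟩ := hPpow w hwP; exact hpZ w h i hi)
    have h3 : (y * y) ^ p = 1 := Subtype.ext (sq_pow_eq_one ht)
    have h4 : y ^ p ∈ Z := by
      refine mem_center_of_sq_eq_one two ?_
      have : y ^ p * y ^ p = 1 := by rw [← (Commute.refl y).mul_pow]; exact h3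
      exact congrArg Subtype.val this
    obtain ⟨j, hj⟩ := hp.out.odd_of_ne_two h2
    have h5 : y ^ (p + 1) ∈ (P : Subgroup H) := by
      refine mem_of_isPGroup_commute (i := 1) ?_ fun a ha => ?_
      · rw [pow_one, ← pow_mul, show (p + 1) * p = (2 * p) * (j + 1) by rw [hj]; ring, pow_mul,
          pow_mul, pow_two, h3, one_pow]
      · exact (hCA w hwZ y a hy (hPab a ha w hwP)).pow_left _
    have h6 : y = y ^ (p + 1) * (y ^ p)⁻¹ := by rw [pow_succ' y p]; group
    rw [h6]
    exact Subgroup.mul_mem_sup h5 (inv_mem h4)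
  have hPc : ∀ w ∈ (P : Subgroup H), w ≠ 1 →
      Subgroup.centralizer ({w} : Set H) = (P : Subgroup H) ⊔ Z := by
    intro w hw hw1
    refine le_antisymm (fun y hy => ?_) (sup_le (fun a ha => ?_) fun z hz => ?_)
    · have hc : Commute y w := mem_cent.1 hy
      have hwZ : w ∉ Z := fun h => hw1 (by obtain ⟨i, hi⟩ := hPpow w hw; exact hpZ w h i hi)
      refine hPZ w hw1 hw y hc ?_
      obtain ⟨r, s, a00, a01, a10, a11⟩ :=
        exists_param (hnZ w hwZ) (congrArg Subtype.val hc.eq : (y : SL(2, F)) * w = w * y)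
      obtain ⟨i, hi⟩ := hPpow w hw
      have htw : tr2 (w : SL(2, F)) = 2 := tr2_of_pow_eq_one (congrArg Subtype.val hi)
      obtain ⟨e1, e2⟩ := tr2_param a00 a01 a10 a11
      rw [e1, htw]
      rw [htw] at e2
      linear_combination 4 * e2
    · exact mem_cent.2 (hPab a ha w hw)
    · exact mem_cent.2 (Subgroup.mem_center_iff.1 (hZc hz) w).symm
  -- membership in `P` and in its normalizer
  have hmemP : ∀ y : H, y ∈ (P : Subgroup H) ↔
      (y : SL(2, F)) 1 0 = 0 ∧ (y : SL(2, F)) 0 0 = 1 := by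
    intro y
    constructor
    · intro hy
      have hc := congrArg Subtype.val (hPab y hy u huP).eq
      have e00 := congrArg (fun z : SL(2, F) => z 0 0) hc
      have e01 := congrArg (fun z : SL(2, F) => z 0 1) hc
      simp [hu, mul_apply', tU_coe] at e00 e01
      obtain ⟨i, hi⟩ := hPpow y hy
      have ht : tr2 (y : SL(2, F)) = 2 := tr2_of_pow_eq_one (congrArg Subtype.val hi)
      rw [tr2] at ht
      exact ⟨e00, mul_left_cancel₀ two (by linear_combination ht + e01)⟩
    · rintro ⟨y10, y00⟩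
      have hd := det_eq (y : SL(2, F))
      rw [y10, y00] at hd
      have y11 : (y : SL(2, F)) 1 1 = 1 := by linear_combination hd
      refine mem_of_isPGroup_commute (i := 1) ?_ fun a ha => ?_
      · rw [pow_one]
        exact Subtype.ext (pow_eq_one_of_tr2 (by rw [tr2, y00, y11]; norm_num))
      · have hc : Commute y u := Subtype.ext (by
          refine ext_two ?_ ?_ ?_ ?_ <;> simp [hu, mul_apply', tU_coe, y10, y00, y11, add_comm])
        exact hCA u (fun h => hu1 (hpZ u h 1 (by rw [pow_one]; exact hup))) y a hc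
          (hPab a ha u huP)
  have hmemN : ∀ y : H, y ∈ Subgroup.normalizer ((P : Subgroup H) : Set H) ↔
      (y : SL(2, F)) 1 0 = 0 := by
    intro y
    constructor
    · intro hy
      have h := ((hmemP _).1 ((Subgroup.mem_normalizer_iff.1 hy u).1 huP)).1
      simp [hu, mul_apply', tU_coe, inv_apply00] at h
      have h' : (y : SL(2, F)) 1 0 * (y : SL(2, F)) 1 0 = 0 := by linear_combination -h
      simpa using h'
    · intro hy
      refine Subgroup.mem_normalizer_fintype fun a ha => ?_
      obtain ⟨a10, a00⟩ := (hmemP a).1 ha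
      have hd := det_eq (y : SL(2, F))
      rw [hy] at hd
      show y * a * y⁻¹ ∈ (P : Subgroup H)
      rw [hmemP]
      constructor
      · simp [mul_apply', inv_apply00, hy, a10]
      · simp [mul_apply', inv_apply00, hy, a10, a00]
        linear_combination hd
  have htor : ∀ x ∉ Z, ¬ p ∣ Nat.card (Subgroup.centralizer ({x} : Set H)) →
      Nat.card (Subgroup.normalizer (Subgroup.centralizer ({x} : Set H) : Set H)) ≤
        2 * Nat.card (Subgroup.centralizer ({x} : Set H)) := by
    intro x hx hpx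
    set C := Subgroup.centralizer ({x} : Set H) with hC
    have hxC : x ∈ C := mem_cent.2 rfl
    have ht4 : tr2 (x : SL(2, F)) * tr2 (x : SL(2, F)) ≠ 4 := fun h => by
      have h3 : (x * x) ^ p = 1 := Subtype.ext (sq_pow_eq_one h)
      have hxx : x * x ≠ 1 := fun h' => hx (mem_center_of_sq_eq_one two (congrArg Subtype.val h'))
      refine hpx ?_
      rw [← orderOf_eq_prime h3 hxx]
      exact Subgroup.orderOf_dvd_natCard C (mul_mem hxC hxC)
    have key : ∀ m ∈ Subgroup.normalizer (C : Set H), m * x * m⁻¹ = x ∨ m * x * m⁻¹ = x⁻¹ := by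
      intro m hm
      have hz : Commute (m * x * m⁻¹) x := mem_cent.1 ((Subgroup.mem_normalizer_iff.1 hm x).1 hxC)
      obtain ⟨r, s, a00, a01, a10, a11⟩ := exists_param (hnZ x hx)
        (congrArg Subtype.val hz.eq :
          ((m * x * m⁻¹ : H) : SL(2, F)) * (x : SL(2, F)) = x * ((m * x * m⁻¹ : H) : SL(2, F)))
      obtain ⟨e1, e2⟩ := tr2_param a00 a01 a10 a11
      have htr : tr2 ((m * x * m⁻¹ : H) : SL(2, F)) = tr2 (x : SL(2, F)) := by
        have hd := det_eq (m : SL(2, F))
        simp only [tr2, Subgroup.coe_mul, Subgroup.coe_inv, mul_apply', (inv_apply00 _).1,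
          (inv_apply00 _).2.1, (inv_apply00 _).2.2.1, (inv_apply00 _).2.2.2]
        linear_combination ((x : SL(2, F)) 0 0 + (x : SL(2, F)) 1 1) * hd
      rw [htr] at e1
      have h0 : (1 - s * s) * (tr2 (x : SL(2, F)) * tr2 (x : SL(2, F)) - 4) = 0 := by
        linear_combination 4 * e2 + (tr2 (x : SL(2, F)) + 2 * r + s * tr2 (x : SL(2, F))) * e1
      have hs : (1 - s) * (1 + s) = 0 := by
        have h0' := (mul_eq_zero.1 h0).resolve_right (sub_ne_zero.2 ht4)
        linear_combination h0'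
      rcases mul_eq_zero.1 hs with hs | hs
      · have hs1 : s = 1 := by linear_combination -hs
        have hr : r = 0 := mul_left_cancel₀ two (by linear_combination -e1 - tr2 (x : SL(2, F)) * hs1)
        subst hs1 hr
        left
        exact Subtype.ext (ext_two (by rw [a00]; ring) (by rw [a01]; ring) (by rw [a10]; ring)
          (by rw [a11]; ring))
      · have hs1 : s = -1 := by linear_combination hs
        have hr : r = tr2 (x : SL(2, F)) :=
          mul_left_cancel₀ two (by linear_combination -e1 - tr2 (x : SL(2, F)) * hs1)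
        subst hs1 hr
        right
        refine Subtype.ext (ext_two ?_ ?_ ?_ ?_)
        · rw [a00, Subgroup.coe_inv, (inv_apply00 _).1, tr2]; ring
        · rw [a01, Subgroup.coe_inv, (inv_apply00 _).2.1]; ring
        · rw [a10, Subgroup.coe_inv, (inv_apply00 _).2.2.1]; ring
        · rw [a11, Subgroup.coe_inv, (inv_apply00 _).2.2.2, tr2]; ring
    by_cases hex : ∃ m₀ ∈ Subgroup.normalizer (C : Set H), m₀ * x * m₀⁻¹ = x⁻¹
    · obtain ⟨m₀, hm₀, hm₀x⟩ := hex
      have hsub : (Subgroup.normalizer (C : Set H) : Set H) ⊆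
          (C : Set H) ∪ (fun c => m₀ * c) '' (C : Set H) := by
        intro m hm
        rcases key m hm with h | h
        · exact Or.inl (mem_cent.2 (eq_mul_inv_iff_mul_eq.1 h.symm).symm)
        · refine Or.inr ⟨m₀⁻¹ * m, mem_cent.2 ?_, by simp⟩
          have h' : m * x * m⁻¹ = m₀ * x * m₀⁻¹ := h.trans hm₀x.symm
          calc m₀⁻¹ * m * x = m₀⁻¹ * (m * x * m⁻¹) * m := by group
            _ = m₀⁻¹ * (m₀ * x * m₀⁻¹) * m := by rw [h']
            _ = x * (m₀⁻¹ * m) := by group
      calc Nat.card (Subgroup.normalizer (C : Set H))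
          ≤ ((C : Set H) ∪ (fun c => m₀ * c) '' (C : Set H)).ncard := by
            rw [show Nat.card (Subgroup.normalizer (C : Set H)) =
              (Subgroup.normalizer (C : Set H) : Set H).ncard from Nat.card_coe_set_eq _]
            exact Set.ncard_le_ncard hsub (Set.toFinite _)
        _ ≤ (C : Set H).ncard + ((fun c => m₀ * c) '' (C : Set H)).ncard := Set.ncard_union_le _ _
        _ ≤ (C : Set H).ncard + (C : Set H).ncard := by exact Nat.add_le_add_left (Set.ncard_image_le (C : Set H).toFinite) _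
        _ = 2 * Nat.card C := by
          rw [two_mul, show Nat.card C = (C : Set H).ncard from Nat.card_coe_set_eq _]
    · push Not at hex
      calc Nat.card (Subgroup.normalizer (C : Set H)) ≤ Nat.card C :=
          Subgroup.card_le_of_le fun m hm =>
            mem_cent.2 (eq_mul_inv_iff_mul_eq.1 ((key m hm).resolve_right (hex m hm)).symm).symm
        _ ≤ 2 * Nat.card C := Nat.le_mul_of_pos_left _ two_pos
  set N := Subgroup.normalizer ((P : Subgroup H) : Set H) with hNdef
  have hcardP : Nat.card (P : Subgroup H) = Nat.card (trans H) := by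
    refine Nat.card_congr ⟨fun y => ⟨(y : SL(2, F)) 0 1, ?_⟩, fun a => ⟨⟨tU a, a.2⟩, (hmemP _).2
      ⟨by simp [tU_coe], by simp [tU_coe]⟩⟩, fun y => ?_, fun a => Subtype.ext (by simp [tU_coe])⟩
    · obtain ⟨y10, y00⟩ := (hmemP y).1 y.2
      have hd := det_eq (y : SL(2, F))
      rw [y10, y00] at hd
      have hy : tU ((y : SL(2, F)) 0 1) = (y : SL(2, F)) :=
        ext_two (by simp [tU_coe, y00]) (by simp [tU_coe]) (by simp [tU_coe, y10])
          (by simp [tU_coe]; linear_combination -hd)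
      show tU _ ∈ H
      rw [hy]; exact (y : H).2
    · obtain ⟨y10, y00⟩ := (hmemP y).1 y.2
      have hd := det_eq (y : SL(2, F))
      rw [y10, y00] at hd
      refine Subtype.ext (Subtype.ext ?_)
      exact ext_two (by simp [tU_coe, y00]) (by simp [tU_coe]) (by simp [tU_coe, y10])
          (by simp [tU_coe]; linear_combination -hd)
  have hupper : ∀ y ∈ N, (y : SL(2, F)) 0 0 * (y : SL(2, F)) 0 0 = 1 →
      y ∈ (P : Subgroup H) ⊔ Z := by
    intro y hy h00
    have y10 := (hmemN y).1 hy
    have hd := det_eq (y : SL(2, F))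
    rw [y10] at hd
    have y11 : (y : SL(2, F)) 1 1 = (y : SL(2, F)) 0 0 :=
      mul_left_cancel₀ (left_ne_zero_of_mul (by rw [h00]; exact one_ne_zero) :
        (y : SL(2, F)) 0 0 ≠ 0) (by linear_combination hd - h00)
    refine hPZ u hu1 huP y (Subtype.ext (ext_two ?_ ?_ ?_ ?_)) ?_
    any_goals simp [hu, mul_apply', tU_coe, y10, y11, add_comm]
    rw [tr2, y11]
    linear_combination 4 * h00
  -- the diagonal entry
  let φ : N →* F :=
    { toFun := fun y => ((y : H) : SL(2, F)) 0 0
      map_one' := by simp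
      map_mul' := fun a b => by simp [mul_apply', (hmemN _).1 b.2] }
  have hNT : Nat.card Z * Nat.card (P : Subgroup H) < Nat.card N →
      ∃ x ∉ Z, Nat.card (Subgroup.centralizer ({x} : Set H)) * Nat.card (P : Subgroup H) =
        Nat.card N := by
    intro hlt
    haveI : Finite φ.toHomUnits.range :=
      Finite.of_surjective φ.toHomUnits.rangeRestrict φ.toHomUnits.rangeRestrict_surjective
    haveI : IsCyclic φ.toHomUnits.range := inferInstance
    obtain ⟨⟨γ, x, rfl⟩, hgen⟩ := IsCyclic.exists_generator (α := φ.toHomUnits.range)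
    have hpowers : ∀ y : N, ∃ m : ℤ, ((x ^ m)⁻¹ * y : N).1 ∈ (P : Subgroup H) := fun y => by
      obtain ⟨m, hm⟩ := hgen ⟨_, y, rfl⟩
      refine ⟨m, (hmemP _).2 ⟨(hmemN _).1 ((x ^ m)⁻¹ * y).2, ?_⟩⟩
      have hm' : φ.toHomUnits (x ^ m) = φ.toHomUnits y := by
        rw [map_zpow]; exact congrArg Subtype.val hm
      show φ ((x ^ m)⁻¹ * y) = 1
      have h := congrArg Units.val (show φ.toHomUnits ((x ^ m)⁻¹ * y) = 1 by
        rw [map_mul, map_inv, hm', inv_mul_cancel])
      exact h
    have hx00 : ((x : H) : SL(2, F)) 0 0 * ((x : H) : SL(2, F)) 0 0 ≠ 1 := fun h => by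
      have hxPZ := hupper x x.2 h
      have hle : N ≤ (P : Subgroup H) ⊔ Z := fun y hy => by
        obtain ⟨m, hm⟩ := hpowers ⟨y, hy⟩
        have h' : y = ((x : H) ^ m) * (((x ^ m)⁻¹ * ⟨y, hy⟩ : N) : H) := by simp
        rw [h']
        exact mul_mem (zpow_mem hxPZ m) (Subgroup.mem_sup_left hm)
      have h' : Nat.card N ≤ Nat.card (P : Subgroup H) * Nat.card Z :=
        (Subgroup.card_le_of_le hle).trans (by
          rw [← Nat.card_prod]
          refine Nat.card_le_card_of_surjective
            (fun w : ↥(P : Subgroup H) × ↥Z => (⟨w.1 * w.2, mul_mem (Subgroup.mem_sup_left w.1.2)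
              (Subgroup.mem_sup_right w.2.2)⟩ : ↥((P : Subgroup H) ⊔ Z))) ?_
          rintro ⟨w, hw⟩
          obtain ⟨a, ha, b, hb, rfl⟩ := Subgroup.mem_sup_of_normal_right.1 hw
          exact ⟨(⟨a, ha⟩, ⟨b, hb⟩), rfl⟩)
      rw [mul_comm] at hlt
      omega
    have x10 := (hmemN _).1 x.2
    have hxd := det_eq ((x : H) : SL(2, F))
    rw [x10] at hxd
    have hne : ((x : H) : SL(2, F)) 0 0 - ((x : H) : SL(2, F)) 1 1 ≠ 0 := fun h =>
      hx00 (by linear_combination hxd + ((x : H) : SL(2, F)) 0 0 * h)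
    have hxZ : (x : H) ∉ Z := fun h => hne (sub_eq_zero.2 (isScalar_of_mem_center h).2.2)
    refine ⟨x, hxZ, ?_⟩
    set C := Subgroup.centralizer ({(x : H)} : Set H) with hC
    have hCN : C ≤ N := fun y hy => by
      rw [hmemN]
      have e10 := congrArg (fun z : H => (z : SL(2, F)) 1 0) (mem_cent.1 hy)
      simp [mul_apply', x10] at e10
      exact (mul_eq_zero.1 (show (((x : H) : SL(2, F)) 0 0 - ((x : H) : SL(2, F)) 1 1) *
        (y : SL(2, F)) 1 0 = 0 by linear_combination e10)).resolve_left hne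
    rw [← Nat.card_prod]
    refine Nat.card_congr (Equiv.ofBijective (fun w : ↥C × ↥(P : Subgroup H) =>
      (⟨w.1 * w.2, mul_mem (hCN w.1.2) (Subgroup.le_normalizer w.2.2)⟩ : N)) ⟨?_, ?_⟩)
    · rintro ⟨c, a⟩ ⟨c', a'⟩ h
      have h' : (c : H) * a = c' * a' := congrArg Subtype.val h
      have h3 : (c' : H)⁻¹ * c = a' * (a : H)⁻¹ := by
        calc (c' : H)⁻¹ * c = (c' : H)⁻¹ * (c * a) * (a : H)⁻¹ := by group
          _ = (c' : H)⁻¹ * (c' * a') * (a : H)⁻¹ := by rw [h']
          _ = a' * (a : H)⁻¹ := by group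
      set w := (c' : H)⁻¹ * c with hw
      have hwC : w ∈ C := mul_mem (inv_mem c'.2) c.2
      obtain ⟨w10, w00⟩ := (hmemP w).1 (h3 ▸ (P : Subgroup H).mul_mem a'.2 ((P : Subgroup H).inv_mem a.2))
      have hwd := det_eq (w : SL(2, F))
      rw [w10, w00] at hwd
      have w11 : (w : SL(2, F)) 1 1 = 1 := by linear_combination hwd
      have e01 := congrArg (fun z : H => (z : SL(2, F)) 0 1) (mem_cent.1 hwC)
      simp [mul_apply', w00, w11] at e01
      have w01 : (w : SL(2, F)) 0 1 = 0 :=
        (mul_eq_zero.1 (show (((x : H) : SL(2, F)) 0 0 - ((x : H) : SL(2, F)) 1 1) *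
          (w : SL(2, F)) 0 1 = 0 by linear_combination -e01)).resolve_left hne
      have hw1 : w = 1 := Subtype.ext (ext_two (by simp [w00]) (by simp [w01]) (by simp [w10])
        (by simp [w11]))
      rw [hw, inv_mul_eq_one] at hw1
      obtain rfl : c' = c := Subtype.ext hw1
      exact Prod.ext rfl (Subtype.ext (mul_left_cancel h'))
    · intro y
      obtain ⟨m, hm⟩ := hpowers y
      exact ⟨(⟨(x : H) ^ m, zpow_mem (mem_cent.2 rfl) m⟩, ⟨_, hm⟩), Subtype.ext (by simp)⟩
  have hk : Nat.card N ≤ Nat.card Z * Nat.card (P : Subgroup H) *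
      (Nat.card (P : Subgroup H) - 1) := by
    let S : Set (P : Subgroup H) := {(1 : (P : Subgroup H))}ᶜ
    have hS : Nat.card S = Nat.card (P : Subgroup H) - 1 := by
      rw [Nat.card_coe_set_eq, Set.ncard_compl, Set.ncard_singleton]
    let f : N → S := fun y => ⟨⟨(y : H) * u * (y : H)⁻¹,
      (Subgroup.mem_normalizer_iff.1 y.2 u).1 huP⟩, fun h => hu1 (by
        have h' : (y : H) * u * (y : H)⁻¹ = 1 := congrArg Subtype.val h
        simpa using h')⟩
    haveI : Nonempty N := ⟨1⟩
    let g : N → S × ↥((P : Subgroup H) ⊔ Z) := fun y => (f y, ⟨((Function.invFun f (f y) : N) : H)⁻¹ * y, by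
      have h1 := congrArg (fun z : S => ((z : (P : Subgroup H)) : H))
        (Function.invFun_eq (f := f) ⟨y, rfl⟩)
      rw [← hPc u huP hu1, mem_cent]
      simp only [f] at h1
      set m := ((Function.invFun f (f y) : N) : H)
      calc m⁻¹ * y * u = m⁻¹ * ((y : H) * u * (y : H)⁻¹) * y := by group
        _ = m⁻¹ * (m * u * m⁻¹) * y := by rw [h1]
        _ = u * (m⁻¹ * y) := by group⟩)
    have hg : Function.Injective g := fun a b h => by
      obtain ⟨h1, h2⟩ := Prod.ext_iff.1 h
      have h2' := congrArg Subtype.val h2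
      change f a = f b at h1
      simp only [g, h1] at h2'
      exact Subtype.ext (mul_left_cancel h2')
    have hle := Nat.card_le_card_of_injective g hg
    rw [Nat.card_prod, hS] at hle
    refine hle.trans ?_
    rw [mul_comm]
    refine Nat.mul_le_mul_right _ ?_
    rw [mul_comm, ← Nat.card_prod]
    refine Nat.card_le_card_of_surjective
      (fun w : ↥(P : Subgroup H) × ↥Z => (⟨w.1 * w.2, mul_mem (Subgroup.mem_sup_left w.1.2)
        (Subgroup.mem_sup_right w.2.2)⟩ : ↥((P : Subgroup H) ⊔ Z))) ?_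
    rintro ⟨w, hw⟩
    obtain ⟨a, ha, b, hb, rfl⟩ := Subgroup.mem_sup_of_normal_right.1 hw
    exact ⟨(⟨a, ha⟩, ⟨b, hb⟩), rfl⟩
  -- the index of the normalizer
  let rat : H → Option F := fun h =>
    if (h : SL(2, F)) 1 0 = 0 then none else some ((h : SL(2, F)) 0 0 / (h : SL(2, F)) 1 0)
  have hrat : ∀ a b : H, rat a = rat b ↔ a⁻¹ * b ∈ N := by
    intro a b
    rw [hmemN]
    simp only [rat, Subgroup.coe_mul, Subgroup.coe_inv, mul_apply', (inv_apply00 _).2.2.1,
      (inv_apply00 _).2.2.2]
    by_cases ha : (a : SL(2, F)) 1 0 = 0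
    · have hd := det_eq (a : SL(2, F))
      rw [ha] at hd
      have ha0 : (a : SL(2, F)) 0 0 ≠ 0 := fun h => by simp [h] at hd
      by_cases hb : (b : SL(2, F)) 1 0 = 0 <;> simp [ha, hb, ha0]
    · by_cases hb : (b : SL(2, F)) 1 0 = 0
      · have hd := det_eq (b : SL(2, F))
        rw [hb] at hd
        have hb0 : (b : SL(2, F)) 0 0 ≠ 0 := fun h => by simp [h] at hd
        simp [ha, hb, hb0]
      · simp only [ha, hb, if_false, Option.some.injEq, div_eq_div_iff ha hb]
        constructor <;> intro h <;> linear_combination h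
  have hidx : N.index = Nat.card (ratios H) + 1 := by
    have hr : Set.range rat = insert none (some '' ratios H) := by
      ext o
      constructor
      · rintro ⟨h, rfl⟩
        by_cases hh : (h : SL(2, F)) 1 0 = 0
        · exact Or.inl (if_pos hh)
        · exact Or.inr ⟨_, ⟨h, h.2, hh, by field_simp⟩, (if_neg hh).symm⟩
      · rintro (rfl | ⟨z, ⟨h, hh, h10, h00⟩, rfl⟩)
        · exact ⟨1, if_pos (by simp)⟩
        · refine ⟨⟨h, hh⟩, (if_neg h10).trans ?_⟩
          rw [h00, mul_div_assoc, div_self h10, mul_one]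
    let gq : H ⧸ N → Set.range rat := Quotient.lift (fun a => ⟨rat a, a, rfl⟩)
      (fun a b hab => Subtype.ext ((hrat a b).2 (QuotientGroup.leftRel_apply.1 hab)))
    have hgq : Function.Bijective gq := by
      refine ⟨?_, ?_⟩
      · intro a b
        induction a using QuotientGroup.induction_on
        induction b using QuotientGroup.induction_on
        exact fun h => QuotientGroup.eq.2 ((hrat _ _).1 (congrArg Subtype.val h))
      · rintro ⟨_, a, rfl⟩
        exact ⟨a, rfl⟩
    rw [Subgroup.index_eq_card, Nat.card_congr (Equiv.ofBijective gq hgq), hr,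
      Nat.card_coe_set_eq, Nat.card_coe_set_eq]
    have hfin : (ratios H).Finite := by
      have := (Set.finite_range rat).subset (hr ▸ Set.subset_insert none (some '' ratios H))
      exact Set.Finite.of_finite_image this (Option.some_injective F).injOn
    rw [Set.ncard_insert_of_notMem (by simp) (hfin.image _),
      Set.ncard_image_of_injective _ (Option.some_injective F)]
  obtain ⟨r, hr⟩ : Nat.card (trans H) ∣ Nat.card (ratios H) := by
    have hpre : QuotientAddGroup.mk ⁻¹' (QuotientAddGroup.mk '' ratios H : Set (F ⧸ trans H)) =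
        ratios H := by
      refine Set.Subset.antisymm ?_ (Set.subset_preimage_image _ _)
      rintro z ⟨w, hw, hwz⟩
      have := ratios_add hw (QuotientAddGroup.eq.1 hwz)
      simpa using this
    have hcard := Nat.card_congr (QuotientAddGroup.preimageMkEquivAddSubgroupProdSet (trans H)
      (QuotientAddGroup.mk '' ratios H : Set (F ⧸ trans H)))
    rw [hpre, Nat.card_prod] at hcard
    exact ⟨_, hcard⟩
  have hr1 : 1 ≤ r := by
    have hfinN : N.index ≠ 0 := Subgroup.index_ne_zero_of_finite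
    rcases Nat.eq_zero_or_pos r with rfl | h
    · exfalso
      rw [mul_zero] at hr
      have h0 : N.index = 1 := by rw [hidx, hr]
      rw [Subgroup.index_eq_one] at h0
      exact h₀10 ((hmemN ⟨h₀, hh₀⟩).1 (h0 ▸ Subgroup.mem_top _))
    · exact h
  rcases sylow_count h2 hZc hZp hCA P hPne hPc htor hNT hk
      (r := r) (by rw [hidx, hr, hcardP, add_comm]) hr1 with h | ⟨hq, h3, hN2⟩
  · left
    rw [hr, h, mul_one]
  · right
    rw [hcardP] at hq
    refine ⟨hq, by rw [hr, hq, h3], ?_⟩
    have hlt : Nat.card Z * Nat.card (P : Subgroup H) < Nat.card N := by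
      rw [hN2]
      exact lt_two_mul_self (Nat.mul_pos Nat.card_pos Nat.card_pos)
    obtain ⟨x, hxZ, hxc⟩ := hNT hlt
    have hxc' : Nat.card (Subgroup.centralizer ({x} : Set H)) = 2 * Nat.card Z := by
      rw [hN2, ← mul_assoc] at hxc
      exact Nat.eq_of_mul_eq_mul_right Nat.card_pos hxc
    -- a torus of order `2e`
    have hxN : ∃ y ∈ N, y ∉ (P : Subgroup H) ⊔ Z := by
      by_contra hcon
      push Not at hcon
      have h' : Nat.card N ≤ Nat.card (P : Subgroup H) * Nat.card Z :=
        (Subgroup.card_le_of_le hcon).trans (by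
          rw [← Nat.card_prod]
          refine Nat.card_le_card_of_surjective
            (fun w : ↥(P : Subgroup H) × ↥Z => (⟨w.1 * w.2, mul_mem (Subgroup.mem_sup_left w.1.2)
              (Subgroup.mem_sup_right w.2.2)⟩ : ↥((P : Subgroup H) ⊔ Z))) ?_
          rintro ⟨w, hw⟩
          obtain ⟨a, ha, b, hb, rfl⟩ := Subgroup.mem_sup_of_normal_right.1 hw
          exact ⟨(⟨a, ha⟩, ⟨b, hb⟩), rfl⟩)
      rw [mul_comm] at hlt
      omega
    obtain ⟨y, hy, hyPZ⟩ := hxN
    refine ⟨y, y.2, (hmemN y).1 hy, ?_⟩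
    -- the square of `y` lies in `P Z`
    have hle : (P : Subgroup H) ⊔ Z ≤ N := sup_le Subgroup.le_normalizer fun z hz =>
      (hmemN z).2 (isScalar_of_mem_center hz).2.1
    have hcPZ : Nat.card ((P : Subgroup H) ⊔ Z : Subgroup H) =
        Nat.card (P : Subgroup H) * Nat.card Z := by
      rw [← Subgroup.index_bot, ← Subgroup.index_bot (G := ↥(P : Subgroup H)),
        ← Subgroup.index_bot (G := Z), Subgroup.index_bot, Subgroup.index_bot, Subgroup.index_bot,
        ← Nat.card_prod]
      refine (Nat.card_congr (Equiv.ofBijective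
        (fun w : ↥(P : Subgroup H) × ↥Z => (⟨w.1 * w.2, mul_mem (Subgroup.mem_sup_left w.1.2)
          (Subgroup.mem_sup_right w.2.2)⟩ : ↥((P : Subgroup H) ⊔ Z))) ⟨?_, ?_⟩)).symm
      · rintro ⟨a, b⟩ ⟨a', b'⟩ h
        have h' : (a : H) * b = a' * b' := congrArg Subtype.val h
        have h3 : (a' : H)⁻¹ * a = b' * (b : H)⁻¹ := by
          calc (a' : H)⁻¹ * a = (a' : H)⁻¹ * (a * b) * (b : H)⁻¹ := by group
            _ = (a' : H)⁻¹ * (a' * b') * (b : H)⁻¹ := by rw [h']
            _ = b' * (b : H)⁻¹ := by group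
        obtain ⟨i, hi⟩ := hPpow _ ((P : Subgroup H).mul_mem ((P : Subgroup H).inv_mem a'.2) a.2)
        have h4 := hpZ ((a' : H)⁻¹ * a) (h3 ▸ Z.mul_mem b'.2 (Z.inv_mem b.2)) i hi
        rw [inv_mul_eq_one] at h4
        obtain rfl : a' = a := Subtype.ext h4
        exact Prod.ext rfl (Subtype.ext (mul_left_cancel h'))
      · rintro ⟨w, hw⟩
        obtain ⟨a, ha, b, hb, rfl⟩ := Subgroup.mem_sup_of_normal_right.1 hw
        exact ⟨(⟨a, ha⟩, ⟨b, hb⟩), rfl⟩
    have hrel : ((P : Subgroup H) ⊔ Z).relIndex N = 2 := by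
      have h := Subgroup.card_mul_index (((P : Subgroup H) ⊔ Z).subgroupOf N)
      rw [Nat.card_congr (Subgroup.subgroupOfEquivOfLe hle).toEquiv, hcPZ, hN2,
        mul_comm (Nat.card Z), mul_comm 2] at h
      exact Nat.eq_of_mul_eq_mul_left (Nat.mul_pos Nat.card_pos Nat.card_pos) h
    have hy2 : y * y ∈ (P : Subgroup H) ⊔ Z :=
      Subgroup.mul_self_mem_of_index_two
        (H := (((P : Subgroup H) ⊔ Z).subgroupOf N)) hrel ⟨y, hy⟩
    obtain ⟨a, ha, z, hz, haz⟩ := Subgroup.mem_sup_of_normal_right.1 hy2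
    obtain ⟨a10, a00⟩ := (hmemP a).1 ha
    obtain ⟨z01, z10, z00⟩ := isScalar_of_mem_center (show (z : SL(2, F)) ∈ _ from hz)
    have hzd := det_eq (z : SL(2, F))
    rw [z01, z10, ← z00] at hzd
    have e00 := congrArg (fun w : H => (w : SL(2, F)) 0 0) haz
    simp [mul_apply', a00, z10, (hmemN y).1 hy] at e00
    have hz1 : ((z : SL(2, F)) 0 0 - 1) * ((z : SL(2, F)) 0 0 + 1) = 0 := by
      linear_combination hzd
    rcases mul_eq_zero.1 hz1 with hz1 | hz1
    · exact absurd (hupper y hy (by linear_combination hz1 - e00)) hyPZ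
    · linear_combination hz1 - e00

/-- A criterion for containing a conjugate of `SL₂` over the prime field. -/
theorem exists_of_criterion (H : Subgroup SL(2, F)) {a b : F} (ha : tU a ∈ H) (hb : tU b ∈ H)
    {h : SL(2, F)} (hh : h ∈ H) (n : ZMod p) (hn : n ≠ 0)
    (he : a * b * (h 1 0 * h 1 0) = ZMod.castHom (dvd_refl p) F n) :
    ∃ g : GL (Fin 2) F, ∀ A : SL(2, ZMod p),
      conjGL g (SpecialLinearGroup.map (ZMod.castHom (dvd_refl p) F) A) ∈ H := by
  set ι := ZMod.castHom (dvd_refl p) F with hι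
  have hne : a * b * (h 1 0 * h 1 0) ≠ 0 := by
    rw [he]; exact (map_ne_zero ι).2 hn
  have ha0 : a ≠ 0 := fun h0 => hne (by rw [h0]; ring)
  have hγ : h 1 0 ≠ 0 := fun h0 => hne (by rw [h0]; ring)
  set z₀ := h 0 0 / h 1 0 with hz₀
  have hz : z₀ * h 1 0 = h 0 0 := div_mul_cancel₀ _ hγ
  let g : GL (Fin 2) F := GeneralLinearGroup.mkOfDetNeZero !![a, z₀; 0, 1]
    (by simpa [det_fin_two] using ha0)
  have hg : (g : Matrix (Fin 2) (Fin 2) F) = !![a, z₀; 0, 1] := rfl
  have e1 : conjGL g (tU 1) = tU a := by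
    refine conjGL_eq_of_mul_eq g ?_
    rw [hg, tU_coe, tU_coe]
    ext i j
    fin_cases i <;> fin_cases j <;> simp [add_comm]
  set y := h * tU b * h⁻¹ with hy
  have hd := det_eq h
  have y00 : y 0 0 = 1 - b * (h 0 0 * h 1 0) := by
    simp only [hy, mul_apply', (inv_apply00 _).1, (inv_apply00 _).2.2.1]
    simp [tU_coe]
    linear_combination hd
  have y01 : y 0 1 = b * (h 0 0 * h 0 0) := by
    simp only [hy, mul_apply', (inv_apply00 _).2.1, (inv_apply00 _).2.2.2]
    simp [tU_coe]
    ring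
  have y10 : y 1 0 = -(b * (h 1 0 * h 1 0)) := by
    simp only [hy, mul_apply', (inv_apply00 _).1, (inv_apply00 _).2.2.1]
    simp [tU_coe]
    ring
  have y11 : y 1 1 = 1 + b * (h 0 0 * h 1 0) := by
    simp only [hy, mul_apply', (inv_apply00 _).2.1, (inv_apply00 _).2.2.2]
    simp [tU_coe]
    linear_combination hd
  have e2 : conjGL g (tL (ι (-n))) = y := by
    refine conjGL_eq_of_mul_eq g ?_
    rw [hg, tL_coe, map_neg, ← he]
    ext i j
    fin_cases i <;> fin_cases j <;>
      simp [Matrix.mul_apply, Fin.sum_univ_two, y00, y01, y10, y11] <;>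
      first
        | linear_combination -(a * b * h 1 0) * hz
        | linear_combination (b * h 0 0) * hz
        | linear_combination (b * h 1 0) * hz
        | ring1
  refine ⟨g, fun A => ?_⟩
  set φ : SL(2, ZMod p) →* SL(2, F) := (conjGL g).comp (SpecialLinearGroup.map ι) with hφ
  suffices htop : H.comap φ = ⊤ from (htop.ge (Subgroup.mem_top A) : A ∈ H.comap φ)
  rw [eq_top_iff, ← Cfsg.Lib.Linear.closure_transvection_eq_top, Subgroup.closure_le]
  have hU : ∀ c : ZMod p, conjGL g (tU (ι c)) ∈ H := fun c => by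
    rw [show ι c = ((c.val : ℕ) : F) * 1 by rw [mul_one, ← map_natCast ι, ZMod.natCast_zmod_val],
      ← tU_pow, map_pow, e1]
    exact pow_mem ha _
  have hL : ∀ c : ZMod p, conjGL g (tL (ι c)) ∈ H := fun c => by
    rw [show ι c = (((c / -n).val : ℕ) : F) * ι (-n) by
      rw [← map_natCast ι, ZMod.natCast_zmod_val, ← map_mul, div_mul_cancel₀ c (neg_ne_zero.2 hn)],
      ← tL_pow, map_pow, e2]
    exact pow_mem (mul_mem (mul_mem hh hb) (inv_mem hh)) _
  rintro t ⟨i, j, hij, c, rfl⟩
  show φ _ ∈ H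
  fin_cases i <;> fin_cases j
  · exact absurd rfl hij
  · convert hU c using 1
    simp only [hφ, MonoidHom.comp_apply]
    congr 1
    apply ext_two <;>
      simp [tU_coe, map_apply',
        SpecialLinearGroup.transvection_coe, Matrix.single]
  · convert hL c using 1
    simp only [hφ, MonoidHom.comp_apply]
    congr 1
    apply ext_two <;>
      simp [tL_coe, map_apply',
        SpecialLinearGroup.transvection_coe, Matrix.single]
  · exact absurd rfl hij

theorem exists_of_trans_one (h2 : p ≠ 2) (H : Subgroup SL(2, F)) [Finite H] (h1 : tU 1 ∈ H)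
    {h₀ : SL(2, F)} (hh₀ : h₀ ∈ H) (h₀10 : h₀ 1 0 ≠ 0) :
    ∃ g : GL (Fin 2) F, ∀ A : SL(2, ZMod p),
      conjGL g (SpecialLinearGroup.map (ZMod.castHom (dvd_refl p) F) A) ∈ H := by
  classical
  set ι := ZMod.castHom (dvd_refl p) F with hι
  have one_mem : (1 : F) ∈ trans H := h1
  have hTfin : (trans H : Set F).Finite := by
    refine Set.Finite.subset (Set.toFinite ((fun y : H => (y : SL(2, F)) 0 1) '' Set.univ)) ?_
    intro a ha
    exact ⟨⟨tU a, ha⟩, trivial, by simp [tU_coe]⟩
  haveI : Finite (trans H) := hTfin.to_subtype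
  -- the conjugate of the translation
  have conj_col : ∀ h ∈ H, h 1 0 ≠ 0 →
      h 0 0 / h 1 0 - 1 / (h 1 0 * h 1 0) ∈ ratios H := by
    intro h hh hγ
    refine ⟨h * tU 1 * h⁻¹, mul_mem (mul_mem hh h1) (inv_mem hh), ?_, ?_⟩
    · simp only [mul_apply', (inv_apply00 _).1, (inv_apply00 _).2.2.1]
      simp [tU_coe]
      intro h0
      exact hγ (by simpa using (show h 1 0 * h 1 0 = 0 by linear_combination -h0))
    · simp only [mul_apply', (inv_apply00 _).1, (inv_apply00 _).2.2.1]
      simp [tU_coe]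
      field_simp
      linear_combination h 1 0 * det_eq h
  rcases count_cases h2 H h1 hh₀ h₀10 with hcard | ⟨hA3, hR9, x, hxH, x10, x00⟩
  · set z₀ := h₀ 0 0 / h₀ 1 0 with hz₀
    have hz₀m : z₀ ∈ ratios H := ⟨h₀, hh₀, h₀10, by rw [hz₀, div_mul_cancel₀ _ h₀10]⟩
    have hRfin : (ratios H).Finite := by
      refine Set.finite_coe_iff.1 (Nat.finite_of_card_ne_zero ?_)
      rw [hcard]
      exact Nat.card_pos.ne'
    have heq : (fun a => z₀ + a) '' (trans H : Set F) = ratios H := by
      refine Set.eq_of_subset_of_ncard_le (fun z ⟨a, ha, hz⟩ => hz ▸ ratios_add hz₀m ha) ?_ hRfin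
      rw [Set.ncard_image_of_injective _ (add_right_injective z₀), ← Nat.card_coe_set_eq,
        ← Nat.card_coe_set_eq, hcard]
      rfl
    obtain ⟨a, ha, hae⟩ := heq.ge (conj_col h₀ hh₀ h₀10)
    have ha' : a = -(1 / (h₀ 1 0 * h₀ 1 0)) := by
      have hae' : z₀ + a = z₀ - 1 / (h₀ 1 0 * h₀ 1 0) := hae
      linear_combination hae'
    refine exists_of_criterion H (show tU a ∈ H from ha) h1 hh₀ (-1) (neg_ne_zero.2 one_ne_zero) ?_
    rw [map_neg, map_one, ha']
    field_simp
  -- the exceptional case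
  have two : (2 : F) ≠ 0 := two_ne_zero' h2
  have three : (3 : F) = 0 := by
    have h := congrArg Subtype.val (card_nsmul_eq_zero' (x := (⟨1, one_mem⟩ : trans H)))
    rw [hA3] at h
    simpa using h
  have hxd := det_eq x
  rw [x10] at hxd
  have x11 : x 1 1 = -x 0 0 := by linear_combination (x 1 1) * x00 - (x 0 0) * hxd
  have hi0 : x 0 0 ≠ 0 := fun h0 => by rw [h0] at x00; simp at x00
  set z₀ := x 0 1 * x 0 0 / 2 with hz₀
  have h2z : 2 * z₀ = x 0 1 * x 0 0 := mul_div_cancel₀ _ two
  -- the reflection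
  have hrefl : ∀ z ∈ ratios H, 2 * z₀ - z ∈ ratios H := by
    intro z hz
    have h := ratios_mul hz hxH (by rw [x10, x11]; simpa using hi0)
    convert h using 1
    rw [x10, x11, zero_mul, zero_add, eq_div_iff (neg_ne_zero.2 hi0)]
    linear_combination -(x 0 0) * h2z - x 0 1 * x00
  haveI : Finite (ratios H) := Nat.finite_of_card_ne_zero (by rw [hR9]; norm_num)
  have hz₀m : z₀ ∈ ratios H := by
    let σ : Equiv.Perm (ratios H) := Function.Involutive.toPerm
      (fun z => ⟨2 * z₀ - z, hrefl z z.2⟩) (fun z => Subtype.ext (by show _ - (2 * z₀ - _) = _; ring))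
    haveI := Fintype.ofFinite (ratios H)
    haveI : Fact (Nat.Prime 2) := ⟨Nat.prime_two⟩
    obtain ⟨⟨z, hz⟩, hzf⟩ := Equiv.Perm.exists_fixed_point_of_prime (p := 2) (n := 1)
      (by rw [← Nat.card_eq_fintype_card, hR9]; norm_num) (σ := σ)
      (Equiv.ext fun z => Subtype.ext (by simp [σ, Function.Involutive.toPerm, pow_two]))
    have hz' : 2 * z₀ - z = z := congrArg Subtype.val hzf
    rwa [show z₀ = z from mul_left_cancel₀ two (by linear_combination hz')]
  obtain ⟨h, hh, hγ, h00⟩ := id hz₀m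
  set c := -(h 1 0 * h 1 0) with hc
  have hc0 : c ≠ 0 := by simpa [hc] using hγ
  set v := h * tU 1 * h⁻¹ with hv
  have hvH : v ∈ H := mul_mem (mul_mem hh h1) (inv_mem hh)
  have hd := det_eq h
  have v00 : v 0 0 = 1 + c * z₀ := by
    simp only [hv, mul_apply', (inv_apply00 _).1, (inv_apply00 _).2.2.1]
    simp [tU_coe, hc]
    linear_combination hd - h 1 0 * h00
  have v01 : v 0 1 = -(c * z₀ * z₀) := by
    simp only [hv, mul_apply', (inv_apply00 _).2.1, (inv_apply00 _).2.2.2]
    simp [tU_coe, hc]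
    linear_combination (h 0 0 + z₀ * h 1 0) * h00
  have v10 : v 1 0 = c := by
    simp only [hv, mul_apply', (inv_apply00 _).1, (inv_apply00 _).2.2.1]
    simp [tU_coe, hc]
    ring
  have v11 : v 1 1 = 1 - c * z₀ := by
    simp only [hv, mul_apply', (inv_apply00 _).2.1, (inv_apply00 _).2.2.2]
    simp [tU_coe, hc]
    linear_combination hd + h 1 0 * h00
  have done : ∀ (k : SL(2, F)), k ∈ H → ∀ n : ZMod p, n ≠ 0 → k 1 0 * k 1 0 = ι n →
      ∃ g : GL (Fin 2) F, ∀ A : SL(2, ZMod p), conjGL g (SpecialLinearGroup.map ι A) ∈ H :=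
    fun k hk n hn hk' => exists_of_criterion H h1 h1 hk n hn (by rw [one_mul, one_mul, hk'])
  by_cases hc1 : c = 1
  · exact done h hh (-1) (neg_ne_zero.2 one_ne_zero) (by rw [map_neg, map_one]; linear_combination -hc1)
  by_cases hc2 : c = -1
  · exact done h hh 1 one_ne_zero (by rw [map_one]; linear_combination -hc2)
  have hw : z₀ + 1 / c ∈ ratios H := by
    have := conj_col h hh hγ
    convert this using 1
    rw [h00, hc]
    field_simp
    ring
  have hw' : z₀ - 1 / c ∈ ratios H := by
    convert hrefl _ hw using 1; ring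
  set T : Finset F := {0, 1, -1} with hTdef
  have hTA : ∀ j ∈ T, j ∈ trans H := by
    intro j hj
    simp only [hTdef, Finset.mem_insert, Finset.mem_singleton] at hj
    rcases hj with rfl | rfl | rfl
    exacts [zero_mem _, one_mem, neg_mem one_mem]
  have h11 : (1 : F) ≠ -1 := fun h => two (by linear_combination h)
  set Nine : Finset F := T.image (fun j => z₀ + j) ∪ T.image (fun j => z₀ + 1 / c + j) ∪
    T.image (fun j => z₀ - 1 / c + j) with hNine
  have hsub : (Nine : Set F) ⊆ ratios H := by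
    intro z hz
    simp only [hNine, Finset.coe_union, Set.mem_union, Finset.coe_image, Set.mem_image] at hz
    rcases hz with (⟨j, hj, rfl⟩ | ⟨j, hj, rfl⟩) | ⟨j, hj, rfl⟩
    exacts [ratios_add hz₀m (hTA j hj), ratios_add hw (hTA j hj), ratios_add hw' (hTA j hj)]
  have hdT : ∀ i ∈ T, ∀ j ∈ T, i - j ∈ T := by
    intro i hi j hj
    simp only [hTdef, Finset.mem_insert, Finset.mem_singleton] at hi hj ⊢
    rcases hi with rfl | rfl | rfl <;> rcases hj with rfl | rfl | rfl <;>
      first
        | (left; ring1)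
        | (right; left; linear_combination three)
        | (right; left; linear_combination -three)
        | (right; left; ring1)
        | (right; right; linear_combination three)
        | (right; right; linear_combination -three)
        | (right; right; ring1)
  have hinvc : ∀ j ∈ T, 1 / c ≠ j := by
    intro j hj hj'
    simp only [hTdef, Finset.mem_insert, Finset.mem_singleton] at hj
    rw [div_eq_iff hc0] at hj'
    rcases hj with rfl | rfl | rfl
    · simp at hj'
    · exact hc1 (by linear_combination -hj')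
    · exact hc2 (by linear_combination hj')
  have h2c : ∀ j ∈ T, 2 * (1 / c) ≠ j := fun j hj hj' => by
    refine hinvc (0 - j) (hdT 0 (by simp [hTdef]) j hj) ?_
    linear_combination -hj' + (1 / c) * three
  have hT3 : T.card = 3 := by
    rw [hTdef, Finset.card_insert_of_notMem (by simp [eq_comm]),
      Finset.card_insert_of_notMem (by simpa using h11), Finset.card_singleton]
  have hcard9 : Nine.card = 9 := by
    rw [hNine, Finset.card_union_of_disjoint, Finset.card_union_of_disjoint,
      Finset.card_image_of_injective _ (add_right_injective _),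
      Finset.card_image_of_injective _ (add_right_injective _),
      Finset.card_image_of_injective _ (add_right_injective _), hT3]
    · rw [Finset.disjoint_left]
      rintro _ hi hj
      simp only [Finset.mem_image] at hi hj
      obtain ⟨i, hi, rfl⟩ := hi
      obtain ⟨j, hj, hij⟩ := hj
      exact hinvc _ (hdT i hi j hj) (by linear_combination hij)
    · rw [Finset.disjoint_left]
      rintro _ hi hj
      simp only [Finset.mem_union, Finset.mem_image] at hi hj
      obtain ⟨j, hj, hij⟩ := hj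
      rcases hi with ⟨i, hi, rfl⟩ | ⟨i, hi, rfl⟩
      · exact hinvc _ (hdT j hj i hi) (by linear_combination -hij)
      · exact h2c _ (hdT j hj i hi) (by linear_combination -hij)
  have heq : (Nine : Set F) = ratios H := by
    refine Set.eq_of_subset_of_ncard_le hsub ?_ (Set.toFinite _)
    rw [Set.ncard_coe_finset, hcard9, ← Nat.card_coe_set_eq, hR9]
  -- the image of `z₀ + 1`
  have hden : v 1 0 * (z₀ + 1) + v 1 1 ≠ 0 := by
    rw [v10, v11]
    intro h0
    exact hc2 (by linear_combination h0)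
  have himg := ratios_mul (ratios_add hz₀m one_mem) hvH hden
  rw [v00, v01, v10, v11,
    show (1 + c * z₀) * (z₀ + 1) + -(c * z₀ * z₀) = z₀ * (1 + c) + 1 by ring,
    show c * (z₀ + 1) + (1 - c * z₀) = 1 + c by ring, ← heq] at himg
  have hc1' : 1 + c ≠ 0 := fun h0 => hc2 (by linear_combination h0)
  have hprod : ∀ s : F, tU s ∈ H → (v * tU s * v) 1 0 = c * (2 + s * c) := fun s _ => by
    simp only [mul_apply', tU_coe]
    simp [v00, v10, v11]
    ring
  simp only [hNine, Finset.coe_union, Set.mem_union, Finset.coe_image, Set.mem_image,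
    Finset.mem_coe] at himg
  have hrel : ∀ w : F, (z₀ * (1 + c) + 1) / (1 + c) = z₀ + w → w * (1 + c) = 1 := fun w hw => by
    rw [div_eq_iff hc1'] at hw
    linear_combination -hw
  have hcc : ∀ j : F, j * c = (j * (1 / c)) * (c * c) := fun j => by field_simp
  rcases himg with (⟨j, hj, hje⟩ | ⟨j, hj, hje⟩) | ⟨j, hj, hje⟩
  · exfalso
    have hr := hrel j hje.symm
    simp only [hTdef, Finset.mem_insert, Finset.mem_singleton] at hj
    rcases hj with rfl | rfl | rfl
    · simp at hr
    · exact hc0 (by linear_combination hr)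
    · exact hc1 (by linear_combination -hr - three)
  · have hr := hrel (1 / c + j) (hje.symm.trans (by ring))
    field_simp at hr
    simp only [hTdef, Finset.mem_insert, Finset.mem_singleton] at hj
    rcases hj with rfl | rfl | rfl
    · exact absurd (show (1 : F) = 0 by linear_combination hr) one_ne_zero
    · exfalso
      have h0 : (c - 1) * (c - 1) = 0 := by linear_combination hr - c * three
      exact hc1 (by simpa [sub_eq_zero] using h0)
    · -- `c² = 1 - c`
      refine done (v * tU (-1) * v) (mul_mem (mul_mem hvH (neg_mem one_mem)) hvH) 1 one_ne_zero ?_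
      rw [hprod _ (neg_mem one_mem), map_one]
      have e : c * c = 1 - c := by linear_combination -hr
      have hh : c * (2 + -1 * c) = -1 := by linear_combination -e + c * three
      rw [hh]; ring
  · have hr := hrel (-(1 / c) + j) (hje.symm.trans (by ring))
    field_simp at hr
    simp only [hTdef, Finset.mem_insert, Finset.mem_singleton] at hj
    rcases hj with rfl | rfl | rfl
    · exfalso
      exact hc1 (by linear_combination hr + c * three)
    · refine done (v * tU 1 * v) (mul_mem (mul_mem hvH h1) hvH) 1 one_ne_zero ?_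
      rw [hprod _ h1, map_one]
      have e : c * c = c + 1 := by linear_combination hr
      have hh : c * (2 + 1 * c) = 1 := by linear_combination e + c * three
      rw [hh]; ring
    · refine done v hvH (-1) (neg_ne_zero.2 one_ne_zero) ?_
      rw [v10, map_neg, map_one]
      linear_combination -hr - c * three

/-- Weak form of Dickson's theorem. -/
theorem exists_SL2_map_le (h2 : p ≠ 2) (H : Subgroup SL(2, F)) [Finite H] {u w : SL(2, F)}
    (hu : u ∈ H) (hw : w ∈ H) {i j : ℕ} (hup : u ^ p ^ i = 1) (hwp : w ^ p ^ j = 1)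
    (hne : ¬ Commute u w) :
    ∃ g : GL (Fin 2) F, ∀ A : SL(2, ZMod p),
      conjGL g (SpecialLinearGroup.map (ZMod.castHom (dvd_refl p) F) A) ∈ H := by
  have two : (2 : F) ≠ 0 := two_ne_zero' h2
  have ht := tr2_of_pow_eq_one (p := p) hup
  rw [tr2] at ht
  have hd := det_eq u
  -- move `u` to a translation
  obtain ⟨g₀, hg₀⟩ : ∃ g₀ : GL (Fin 2) F, conjGL g₀ (tU 1) = u := by
    by_cases h10 : u 1 0 = 0
    · have h00 : u 0 0 = 1 := by
        rw [h10] at hd
        have hsq : (u 0 0 - 1) * (u 0 0 - 1) = 0 := by linear_combination -hd + u 0 0 * ht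
        simpa [sub_eq_zero] using hsq
      have h11 : u 1 1 = 1 := by linear_combination ht - h00
      have h01 : u 0 1 ≠ 0 := fun h01 => hne (by
        have : u = 1 := ext_two (by simp [h00]) (by simp [h01]) (by simp [h10]) (by simp [h11])
        rw [this]; exact Commute.one_left w)
      refine ⟨GeneralLinearGroup.mkOfDetNeZero !![u 0 1, 0; 0, 1] (by simpa [det_fin_two] using h01),
        conjGL_eq_of_mul_eq _ ?_⟩
      ext a b
      fin_cases a <;> fin_cases b <;>
        simp [tU_coe, Matrix.mul_apply, Fin.sum_univ_two, h00, h10, h11]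
    · refine ⟨GeneralLinearGroup.mkOfDetNeZero !![u 0 0 - 1, 1; u 1 0, 0]
        (by simpa [det_fin_two] using h10), conjGL_eq_of_mul_eq _ ?_⟩
      ext a b
      fin_cases a <;> fin_cases b <;> simp [tU_coe, Matrix.mul_apply, Fin.sum_univ_two] <;>
        first
          | ring1
          | linear_combination hd - u 0 0 * ht
          | linear_combination -hd + u 0 0 * ht
          | linear_combination -(u 1 0) * ht
  set H' := H.comap (conjGL g₀) with hH'
  haveI : Finite H' := Finite.of_injective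
    (fun x : H' => (⟨conjGL g₀ x, x.2⟩ : H))
    (fun a b h => Subtype.ext (conjGL_injective g₀ (congrArg Subtype.val h)))
  have h1 : tU 1 ∈ H' := by
    show conjGL g₀ (tU 1) ∈ H
    rw [hg₀]; exact hu
  set w' := conjGL g₀⁻¹ w with hw'
  have hw'm : w' ∈ H' := by
    show conjGL g₀ (conjGL g₀⁻¹ w) ∈ H
    rw [conjGL_comp, mul_inv_cancel, conjGL_one]; exact hw
  have hw10 : w' 1 0 ≠ 0 := by
    intro h10
    have htw : tr2 w' = 2 := tr2_of_pow_eq_one (p := p) (k := j)
      (by rw [hw', ← map_pow, hwp, map_one])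
    rw [tr2] at htw
    have hdw := det_eq w'
    rw [h10] at hdw
    have h00 : w' 0 0 = 1 := by
      have hsq : (w' 0 0 - 1) * (w' 0 0 - 1) = 0 := by linear_combination -hdw + w' 0 0 * htw
      simpa [sub_eq_zero] using hsq
    have h11 : w' 1 1 = 1 := by linear_combination htw - h00
    have hc : Commute (tU 1) w' := by
      refine ext_two ?_ ?_ ?_ ?_ <;> simp [mul_apply', tU_coe, h00, h10, h11, add_comm]
    have hc' := hc.map (conjGL g₀)
    rw [hg₀, hw', conjGL_comp, mul_inv_cancel, conjGL_one] at hc'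
    exact hne hc'
  obtain ⟨g, hg⟩ := exists_of_trans_one h2 H' h1 hw'm hw10
  refine ⟨g₀ * g, fun A => ?_⟩
  rw [← conjGL_comp]
  exact hg A

end Main

end Cfsg.Lib.Linear.Dickson
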