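import Mathlib
import Cfsg.Agent.Lib.Linear.GLTwo

/-! `PSL₂` over very small fields as permutation groups of the projective line. -/

set_option autoImplicit false

namespace Cfsg.Lib.Linear.Two

open scoped LinearAlgebra.Projectivization

variable {F : Type*} [Field F] [Fintype F]

theorem card_PSL_two :
    Nat.gcd 2 (Fintype.card F - 1) * Nat.card (Matrix.ProjectiveSpecialLinearGroup (Fin 2) F) =
      Fintype.card F * (Fintype.card F ^ 2 - 1) := by
  rw [← card_SL_two (F := F), Cfsg.Lib.Linear.card_SL_eq_gcd_mul_card_PSL (ι := Fin 2), Fintype.card_fin]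

theorem card_line : Nat.card (ℙ F (Fin 2 → F)) = Fintype.card F + 1 := by
  rw [Projectivization.card_of_finrank_two F _ (by simp), Nat.card_eq_fintype_card]

theorem psl_equiv_alternating {n : ℕ} (hn : Fintype.card F + 1 = n)
    (h : 2 * Nat.card (Matrix.ProjectiveSpecialLinearGroup (Fin 2) F) = n.factorial) :
    Nonempty (Matrix.ProjectiveSpecialLinearGroup (Fin 2) F ≃* alternatingGroup (Fin n)) := by
  haveI : Finite (ℙ F (Fin 2 → F)) := inferInstance
  let e : ℙ F (Fin 2 → F) ≃ Fin n := (Finite.equivFin _).trans (finCongr (by rw [card_line, hn]))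
  let f : Matrix.ProjectiveSpecialLinearGroup (Fin 2) F →* Equiv.Perm (Fin n) :=
    e.permCongrHom.toMonoidHom.comp Projectivization.PSLAction.toPermHom
  have hf : Function.Injective f :=
    e.permCongrHom.injective.comp Matrix.ProjectiveSpecialLinearGroup.toPermHom_injective
  have hr : f.range = alternatingGroup (Fin n) := by
    refine Equiv.Perm.eq_alternatingGroup_of_index_eq_two ?_
    have h1 := Subgroup.card_mul_index f.range
    rw [← Nat.card_congr (MonoidHom.ofInjective hf).toEquiv, Nat.card_perm, Nat.card_fin, ← h,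
      mul_comm 2] at h1
    exact Nat.eq_of_mul_eq_mul_left Nat.card_pos h1
  exact ⟨(MonoidHom.ofInjective hf).trans (MulEquiv.subgroupCongr hr)⟩

theorem sl_equiv_perm (h2 : Fintype.card F = 2) :
    Nonempty (Matrix.SpecialLinearGroup (Fin 2) F ≃* Equiv.Perm (Fin 3)) := by
  let e : ℙ F (Fin 2 → F) ≃ Fin 3 := (Finite.equivFin _).trans (finCongr (by rw [card_line, h2]))
  let f : Matrix.SpecialLinearGroup (Fin 2) F →* Equiv.Perm (Fin 3) :=
    e.permCongrHom.toMonoidHom.comp (MulAction.toPermHom _ _)
  have hc : Nat.card (Matrix.SpecialLinearGroup (Fin 2) F) = 6 := by rw [card_SL_two, h2]; norm_num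
  have hf : Function.Injective f := by
    refine e.permCongrHom.injective.comp ?_
    rw [← MonoidHom.ker_eq_bot_iff, Projectivization.SL_mulAction_ker, ← Subgroup.card_eq_one,
      Cfsg.Lib.Linear.card_center_SL, Fintype.card_fin, h2]
    rfl
  exact ⟨MulEquiv.ofBijective f ((Nat.bijective_iff_injective_and_card f).2
    ⟨hf, by rw [hc, Nat.card_perm, Nat.card_fin]; rfl⟩)⟩

end Cfsg.Lib.Linear.Two
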