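import Mathlib

/-! Non-degenerate Hermitian forms: quasi-reflections and Witt's extension theorem. -/

set_option autoImplicit false

namespace Cfsg.Lib.Linear.Herm

open Module

variable {F V : Type*} [Field F] [AddCommGroup V] [Module F V] {σ : F →+* F}
  {B : V →ₛₗ[σ] V →ₗ[F] F}

/-- The isometry group of a sesquilinear form. -/
def iso (B : V →ₛₗ[σ] V →ₗ[F] F) : Subgroup (V ≃ₗ[F] V) where
  carrier := {g | ∀ u v, B (g u) (g v) = B u v}
  one_mem' := fun _ _ => rfl
  mul_mem' := fun {g h} hg hh u v => (hg _ _).trans (hh u v)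
  inv_mem' := fun {g} hg u v => by
    have := hg (g⁻¹ u) (g⁻¹ v)
    rw [← LinearEquiv.mul_apply, ← LinearEquiv.mul_apply, mul_inv_cancel] at this
    exact this.symm

/-- Isometries fixing `X` pointwise. -/
def fixer (B : V →ₛₗ[σ] V →ₗ[F] F) (X : Submodule F V) : Subgroup (V ≃ₗ[F] V) where
  carrier := {g | g ∈ iso B ∧ ∀ x ∈ X, g x = x}
  one_mem' := ⟨one_mem _, fun _ _ => rfl⟩
  mul_mem' := fun {g h} hg hh => ⟨mul_mem hg.1 hh.1, fun x hx => by
    rw [LinearEquiv.mul_apply, hh.2 x hx, hg.2 x hx]⟩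
  inv_mem' := fun {g} hg => ⟨inv_mem hg.1, fun x hx => by
    nth_rw 1 [← hg.2 x hx]
    rw [← LinearEquiv.mul_apply, inv_mul_cancel]; rfl⟩

theorem mem_fixer {X : Submodule F V} {g : V ≃ₗ[F] V} :
    g ∈ fixer B X ↔ g ∈ iso B ∧ ∀ x ∈ X, g x = x := Iff.rfl

theorem fixer_bot : fixer B ⊥ = iso B := by
  ext g; simp [mem_fixer]

theorem qrefl_comp (w : V) (l m : F) (h : l + m + m * l * B w w = 0) (x : V) :
    (x + (l * B w x) • w) + (m * B w (x + (l * B w x) • w)) • w = x := by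
  rw [map_add, map_smul, smul_eq_mul, add_assoc, ← add_smul]
  have : l * B w x + m * (B w x + l * B w x * B w w) = (l + m + m * l * B w w) * B w x := by ring
  rw [this, h, zero_mul, zero_smul, add_zero]

/-- The map `x ↦ x + l B(w, x) w`, a quasi-reflection or transvection. -/
def qrefl (w : V) (l : F) (h : l + σ l + σ l * l * B w w = 0) : V ≃ₗ[F] V where
  toFun x := x + (l * B w x) • w
  map_add' x y := by rw [map_add, mul_add, add_smul]; abel
  map_smul' a x := by
    rw [map_smul, smul_eq_mul, RingHom.id_apply, smul_add, smul_smul]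
    congr 2; ring
  invFun x := x + (σ l * B w x) • w
  left_inv x := qrefl_comp w l (σ l) h x
  right_inv x := qrefl_comp w (σ l) l (by rw [← h]; ring) x

@[simp] theorem qrefl_apply (w : V) (l : F) (h : l + σ l + σ l * l * B w w = 0) (x : V) :
    qrefl (B := B) w l h x = x + (l * B w x) • w := rfl

theorem qrefl_mem_iso (hS : B.IsSymm) (w : V) (l : F) (h : l + σ l + σ l * l * B w w = 0) :
    qrefl (B := B) w l h ∈ iso B := fun x y => by
  simp only [qrefl_apply, map_add, LinearMap.map_smulₛₗ, LinearMap.add_apply, LinearMap.smul_apply,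
    smul_eq_mul, map_mul, hS.eq w x, RingHom.id_apply]
  linear_combination (B x w * B w y) * h

/-- The form gives every linear functional. -/
theorem exists_eq_apply [FiniteDimensional F V] (hσ2 : ∀ a, σ (σ a) = a) (hB : B.Nondegenerate)
    (f : V →ₗ[F] F) : ∃ u, B u = f := by
  let W : Submodule F (Module.Dual F V) :=
    { carrier := Set.range B
      zero_mem' := ⟨0, map_zero B⟩
      add_mem' := by rintro _ _ ⟨a, rfl⟩ ⟨b, rfl⟩; exact ⟨a + b, map_add B a b⟩
      smul_mem' := by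
        rintro c _ ⟨a, rfl⟩
        exact ⟨σ c • a, by rw [LinearMap.map_smulₛₗ, hσ2]⟩ }
  have hW : W = ⊤ := by
    by_contra hne
    have hd : W.dualCoannihilator ≠ ⊥ := by
      intro h
      apply hne
      apply Submodule.eq_top_of_finrank_eq
      have := Subspace.finrank_add_finrank_dualCoannihilator_eq W
      rw [h, finrank_bot, add_zero] at this
      rw [this, Subspace.dual_finrank_eq]
    obtain ⟨v, hv, hv0⟩ := Submodule.exists_mem_ne_zero_of_ne_bot hd
    exact hv0 (hB.2 v fun x => (Submodule.mem_dualCoannihilator v).1 hv (B x) ⟨x, rfl⟩)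
  have : f ∈ W := hW ▸ Submodule.mem_top
  exact this

theorem exists_perp_ne_zero [FiniteDimensional F V] (hσ2 : ∀ a, σ (σ a) = a) (hS : B.IsSymm)
    (hB : B.Nondegenerate) (X : Submodule F V) {a : V} (ha : a ∉ X) :
    ∃ u, (∀ x ∈ X, B x u = 0) ∧ B a u ≠ 0 := by
  obtain ⟨f, hfa, hf⟩ := Submodule.exists_dual_map_eq_bot_of_notMem ha inferInstance
  obtain ⟨u, rfl⟩ := exists_eq_apply hσ2 hB f
  refine ⟨u, fun x hx => hS.isRefl _ _ ?_, fun h => hfa (hS.isRefl _ _ h)⟩
  have : B u x ∈ X.map (B u) := ⟨x, hx, rfl⟩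
  rwa [hf, Submodule.mem_bot] at this

theorem exists_norm_one_ne_neg_one (hσ : σ ≠ RingHom.id F) (hσ2 : ∀ a, σ (σ a) = a) :
    ∃ z : F, z * σ z = 1 ∧ z ≠ -1 := by
  obtain ⟨x, hx⟩ : ∃ x : F, σ x + x ≠ 0 := by
    by_contra hc
    push_neg at hc
    have h2 := hc 1
    rw [map_one] at h2
    refine hσ (RingHom.ext fun x => ?_)
    have h3 := hc x
    rw [RingHom.id_apply]
    linear_combination h3 - x * h2
  have hx0 : x ≠ 0 := fun h => hx (by simp [h])
  refine ⟨σ x / x, ?_, fun h => hx ?_⟩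
  · have : σ x ≠ 0 := by simpa using hx0
    rw [map_div₀, hσ2]; field_simp
  · rw [div_eq_iff hx0] at h; rw [h]; ring

theorem exists_trace_zero (hσ : σ ≠ RingHom.id F) (hσ2 : ∀ a, σ (σ a) = a) :
    ∃ y : F, y ≠ 0 ∧ y + σ y = 0 := by
  obtain ⟨x, hx⟩ : ∃ x : F, σ x ≠ x := by
    by_contra hc
    push_neg at hc
    exact hσ (RingHom.ext hc)
  exact ⟨x - σ x, sub_ne_zero.2 hx.symm, by rw [map_sub, hσ2]; ring⟩

/-- The group generated by quasi-reflections and transvections. -/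
def qreflGroup (B : V →ₛₗ[σ] V →ₗ[F] F) : Subgroup (V ≃ₗ[F] V) :=
  Subgroup.closure {g | ∃ (w : V) (l : F) (h : l + σ l + σ l * l * B w w = 0), g = qrefl w l h}

/-- The key transitivity statement, with the map in the quasi-reflection group. -/
theorem exists_map_gen [FiniteDimensional F V] (hσ : σ ≠ RingHom.id F) (hσ2 : ∀ a, σ (σ a) = a)
    (hS : B.IsSymm) (hB : B.Nondegenerate) (X : Submodule F V) {a b : V} (ha : a ∉ X) (hb : b ∉ X)
    (h : ∀ x ∈ X, B x a = B x b) (hab : B a a = B b b) :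
    ∃ t ∈ fixer B X ⊓ qreflGroup B, t a = b := by
  have key : ∀ a b : V, (∀ x ∈ X, B x (b - a) = 0) → B a a = B b b → B (b - a) a ≠ 0 →
      ∃ t ∈ fixer B X ⊓ qreflGroup B, t a = b := by
    intro a b hw hq hne
    have h1 : (B (b - a) a)⁻¹ + σ (B (b - a) a)⁻¹ +
        σ (B (b - a) a)⁻¹ * (B (b - a) a)⁻¹ * B (b - a) (b - a) = 0 := by
      have hne' : B a (b - a) ≠ 0 := fun e => hne (hS.isRefl _ _ e)
      rw [map_inv₀, hS.eq (b - a) a]
      field_simp
      simp only [map_sub, LinearMap.sub_apply]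
      linear_combination -hq
    refine ⟨qrefl (b - a) _ h1, Subgroup.mem_inf.mpr ⟨⟨qrefl_mem_iso hS _ _ _, fun x hx => ?_⟩,
      Subgroup.subset_closure ⟨_, _, h1, rfl⟩⟩, ?_⟩
    · rw [qrefl_apply, hS.isRefl _ _ (hw x hx), mul_zero, zero_smul, add_zero]
    · rw [qrefl_apply, inv_mul_cancel₀ hne, one_smul, add_sub_cancel]
  have hw : ∀ x ∈ X, B x (b - a) = 0 := fun x hx => by rw [map_sub, h x hx, sub_self]
  by_cases hne : B (b - a) a ≠ 0
  · exact key a b hw hab hne
  push_neg at hne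
  obtain ⟨u₀, hu₀, hua, hub⟩ : ∃ u, (∀ x ∈ X, B x u = 0) ∧ B a u ≠ 0 ∧ B b u ≠ 0 := by
    obtain ⟨u₁, hu₁, h1⟩ := exists_perp_ne_zero hσ2 hS hB X ha
    obtain ⟨u₂, hu₂, h2⟩ := exists_perp_ne_zero hσ2 hS hB X hb
    by_cases h12 : B b u₁ = 0
    · by_cases h21 : B a u₂ = 0
      · exact ⟨u₁ + u₂, fun x hx => by rw [map_add, hu₁ x hx, hu₂ x hx, add_zero],
          by rw [map_add, h21, add_zero]; exact h1, by rw [map_add, h12, zero_add]; exact h2⟩
      · exact ⟨u₂, hu₂, h21, h2⟩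
    · exact ⟨u₁, hu₁, h1, h12⟩
  set β := B a u₀ with hβ
  set s := B u₀ u₀ with hs
  have hss : σ s = s := hS.eq u₀ u₀
  have hua' : B u₀ a = σ β := (hS.eq a u₀).symm
  obtain ⟨c, hc0, hc⟩ : ∃ c : F, c ≠ 0 ∧ σ c * c * s + c * β + σ c * σ β = 0 := by
    by_cases hs0 : s = 0
    · obtain ⟨y, hy0, hy⟩ := exists_trace_zero hσ hσ2
      refine ⟨y / β, div_ne_zero hy0 hua, ?_⟩
      have hβ' : σ β ≠ 0 := by simpa using hua
      rw [hs0, map_div₀]; rw [mul_zero, div_mul_cancel₀ _ hua, div_mul_cancel₀ _ hβ', zero_add]; exact hy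
    · obtain ⟨z, hz, hz1⟩ := exists_norm_one_ne_neg_one hσ hσ2
      refine ⟨-(σ β) / s * (1 + z), mul_ne_zero (div_ne_zero (by simpa using hua) hs0)
        (fun e => hz1 (by linear_combination e)), ?_⟩
      simp only [map_mul, map_div₀, map_neg, hσ2, map_add, map_one, hss]
      field_simp
      linear_combination (β * σ β) * hz
  have hcu : ∀ x ∈ X, B x (c • u₀) = 0 := fun x hx => by rw [map_smul, hu₀ x hx, smul_zero]
  have hqc : B a a = B (a + c • u₀) (a + c • u₀) := by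
    simp only [map_add, LinearMap.map_smulₛₗ, LinearMap.add_apply, LinearMap.smul_apply, smul_eq_mul,
      ← hβ, ← hs, hua', RingHom.id_apply]
    linear_combination -hc
  have hc' : σ c ≠ 0 := by simpa using hc0
  obtain ⟨t₁, ht₁, hta⟩ := key a (a + c • u₀) (fun x hx => by rw [add_sub_cancel_left]; exact hcu x hx) hqc
    (by
      rw [add_sub_cancel_left, LinearMap.map_smulₛₗ, LinearMap.smul_apply, smul_eq_mul, hua']
      exact mul_ne_zero hc' (by simpa using hua))
  obtain ⟨t₂, ht₂, htb⟩ := key (a + c • u₀) b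
    (fun x hx => by rw [sub_add_eq_sub_sub, map_sub, hw x hx, hcu x hx, sub_zero]) (hqc.symm.trans hab) (by
      rw [map_sub B b, LinearMap.sub_apply, ← hqc, map_add, map_smul, smul_eq_mul]
      rw [map_sub B b, LinearMap.sub_apply, sub_eq_zero] at hne
      rw [hne, add_sub_cancel_left]
      exact mul_ne_zero hc0 hub)
  exact ⟨t₂ * t₁, mul_mem ht₂ ht₁, by rw [LinearEquiv.mul_apply, hta, htb]⟩

/-- The key transitivity statement. -/
theorem exists_map [FiniteDimensional F V] (hσ : σ ≠ RingHom.id F) (hσ2 : ∀ a, σ (σ a) = a)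
    (hS : B.IsSymm) (hB : B.Nondegenerate) (X : Submodule F V) {a b : V} (ha : a ∉ X) (hb : b ∉ X)
    (h : ∀ x ∈ X, B x a = B x b) (hab : B a a = B b b) : ∃ t ∈ fixer B X, t a = b := by
  obtain ⟨t, ht, htb⟩ := exists_map_gen hσ hσ2 hS hB X ha hb h hab
  exact ⟨t, (Subgroup.mem_inf.mp ht).1, htb⟩

/-- Witt's extension theorem. -/
theorem witt [FiniteDimensional F V] (hσ : σ ≠ RingHom.id F) (hσ2 : ∀ a, σ (σ a) = a) (hS : B.IsSymm)
    (hB : B.Nondegenerate) (X : Submodule F V) (φ : X →ₗ[F] V) (hinj : Function.Injective φ)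
    (hφ : ∀ x y : X, B (φ x) (φ y) = B (x : V) (y : V)) :
    ∃ t ∈ iso B, ∀ x : X, t (x : V) = φ x := by
  classical
  suffices H : ∀ (k : ℕ) (X' : Submodule F V) (h : X' ≤ X), finrank F ↥X' ≤ k →
      ∃ t ∈ iso B, ∀ x : X', t (x : V) = φ ⟨x, h x.2⟩ by
    obtain ⟨t, ht, hx⟩ := H _ X le_rfl le_rfl
    exact ⟨t, ht, hx⟩
  intro k
  induction k with
  | zero =>
    intro X' h hk
    have : X' = ⊥ := Submodule.finrank_eq_zero.1 (by omega)
    subst this
    refine ⟨1, one_mem _, fun x => ?_⟩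
    have : (x : V) = 0 := (Submodule.mem_bot F).1 x.2
    show (x : V) = φ _
    rw [show (⟨(x : V), h x.2⟩ : X) = 0 from Subtype.ext this, map_zero, this]
  | succ k ih =>
    intro X' h hk
    by_cases hX' : finrank F ↥X' ≤ k
    · exact ih X' h hX'
    have hpos : 0 < finrank F ↥X' := by omega
    obtain ⟨W, hW⟩ : ∃ W : Submodule F ↥X', IsCoatom W := by
      haveI : Nontrivial ↥X' := Module.finrank_pos_iff.1 hpos
      obtain ⟨W, hW, -⟩ := (eq_top_or_exists_le_coatom (⊥ : Submodule F ↥X')).resolve_left bot_ne_top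
      exact ⟨W, hW⟩
    set Y := W.map X'.subtype
    have hYX : Y ≤ X' := Submodule.map_subtype_le X' W
    have hYk : finrank F ↥Y ≤ k := by
      rw [Submodule.finrank_map_subtype_eq]
      have := Submodule.finrank_lt (s := W) hW.1
      omega
    obtain ⟨s, hs, hsY⟩ := ih Y (hYX.trans h) hYk
    obtain ⟨a', ha'⟩ : ∃ a' : X', a' ∉ W := by
      by_contra hc
      push_neg at hc
      exact hW.1 ((Submodule.eq_top_iff').2 hc)
    set a : V := (a' : V)
    set b : V := φ ⟨a, h a'.2⟩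
    set Z := Y.map (s : V →ₗ[F] V)
    have haY : a ∉ Y := fun hc => by
      obtain ⟨w, hw, he⟩ := hc
      exact ha' (Subtype.ext he ▸ hw)
    have hsa : s a ∉ Z := fun ⟨y, hy, he⟩ => haY (s.injective he ▸ hy)
    have hbZ : b ∉ Z := by
      rintro ⟨y, hy, he⟩
      have he' : s y = b := he
      rw [hsY ⟨y, hy⟩] at he'
      have h2 : y = a := congrArg Subtype.val (hinj he')
      exact haY (h2 ▸ hy)
    obtain ⟨t, ht, htb⟩ := exists_map hσ hσ2 hS hB Z hsa hbZ (by
      rintro _ ⟨y, hy, rfl⟩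
      show B (s y) (s a) = B (s y) b
      rw [hs y a, hsY ⟨y, hy⟩, hφ]) (by rw [hs a a, hφ])
    refine ⟨t * s, mul_mem ht.1 hs, fun x => ?_⟩
    have hsup : W ⊔ Submodule.span F {a'} = ⊤ := by
      refine hW.2 _ (lt_of_le_of_ne le_sup_left fun he => ha' ?_)
      rw [he]; exact Submodule.mem_sup_right (Submodule.mem_span_singleton_self a')
    have hx : x ∈ W ⊔ Submodule.span F {a'} := hsup ▸ Submodule.mem_top
    obtain ⟨w, hw, z, hz, rfl⟩ := Submodule.mem_sup.1 hx
    obtain ⟨c, rfl⟩ := Submodule.mem_span_singleton.1 hz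
    have hw' : (w : V) ∈ Y := ⟨w, hw, rfl⟩
    show t (s ((w : V) + c • a)) = _
    rw [map_add, map_add, map_smul, map_smul, htb,
      ht.2 (s (w : V)) ⟨(w : V), hw', rfl⟩, hsY ⟨(w : V), hw'⟩]
    rw [← map_smul, ← map_add]
    rfl

/-- A Hermitian form that vanishes on every `(v, v)` is zero. -/
theorem eq_zero_of_self (hσ : σ ≠ RingHom.id F) (hS : B.IsSymm) (h0 : ∀ v, B v v = 0) : B = 0 := by
  have hanti : ∀ u v, B u v + B v u = 0 := fun u v => by
    have := h0 (u + v)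
    simpa [h0] using this
  obtain ⟨c, hc⟩ : ∃ c : F, σ c ≠ c := by
    by_contra hcon
    push_neg at hcon
    exact hσ (RingHom.ext hcon)
  refine LinearMap.ext fun u => LinearMap.ext fun v => ?_
  have h1 := hanti (c • u) v
  simp only [LinearMap.map_smulₛₗ, LinearMap.smul_apply, map_smul, smul_eq_mul, RingHom.id_apply] at h1
  have h2 := hanti u v
  have h3 : (σ c - c) * B u v = 0 := by linear_combination h1 - c * h2
  exact (mul_eq_zero.1 h3).resolve_left (sub_ne_zero.2 hc)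

end Cfsg.Lib.Linear.Herm
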