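import Mathlib
import Cfsg.Prelude.Def_Classical
import Cfsg.Prelude.Def_ClassicalGeometry
import Cfsg.Prelude.Def_LieClassical
import Cfsg.Agent.Lib.Linear.Hermitian

/-! The standard Hermitian form over a field with `q²` elements: norms, point counts and group orders. -/

set_option autoImplicit false

namespace Cfsg.Lib.Linear.Herm

open Module

variable {F : Type*} [Field F] [Fintype F] {q : ℕ}

theorem two_le_q (hF : Fintype.card F = q ^ 2) : 2 ≤ q := by
  have := Fintype.one_lt_card (α := F)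
  rw [hF] at this
  by_contra h
  interval_cases q <;> simp_all

theorem card_units_sq (hF : Fintype.card F = q ^ 2) : Nat.card Fˣ = (q + 1) * (q - 1) := by
  classical
  rw [Nat.card_eq_fintype_card, Fintype.card_units, hF, ← Nat.sq_sub_sq, one_pow]

theorem card_norm_one (hF : Fintype.card F = q ^ 2) :
    Nat.card (powMonoidHom (q + 1) : Fˣ →* Fˣ).ker = q + 1 := by
  rw [IsCyclic.card_powMonoidHom_ker, card_units_sq hF, Nat.gcd_mul_right_left]

theorem norm_range_eq (hF : Fintype.card F = q ^ 2) :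
    (powMonoidHom (q + 1) : Fˣ →* Fˣ).range = (powMonoidHom (q - 1) : Fˣ →* Fˣ).ker := by
  refine Subgroup.eq_of_le_of_card_ge ?_ ?_
  · rintro _ ⟨x, rfl⟩
    rw [MonoidHom.mem_ker, powMonoidHom_apply, powMonoidHom_apply, ← pow_mul, ← card_units_sq hF]
    exact pow_card_eq_one'
  · have h := Subgroup.card_mul_index (powMonoidHom (q + 1) : Fˣ →* Fˣ).ker
    rw [card_norm_one hF, Subgroup.index_ker, card_units_sq hF] at h
    rw [IsCyclic.card_powMonoidHom_ker, card_units_sq hF, Nat.gcd_mul_left_left]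
    exact (Nat.eq_of_mul_eq_mul_left (Nat.succ_pos q) h).ge

theorem exists_norm_eq (hF : Fintype.card F = q ^ 2) {μ : F} (hμ : μ ≠ 0) (hμq : μ ^ q = μ) :
    ∃ x : Fˣ, (x : F) ^ (q + 1) = μ := by
  have hq := two_le_q hF
  have hmem : Units.mk0 μ hμ ∈ (powMonoidHom (q + 1) : Fˣ →* Fˣ).range := by
    rw [norm_range_eq hF, MonoidHom.mem_ker, powMonoidHom_apply]
    refine Units.ext ?_
    rw [Units.val_pow_eq_pow_val, Units.val_mk0, Units.val_one]
    apply mul_right_cancel₀ hμ
    rw [← pow_succ, show q - 1 + 1 = q by omega, hμq, one_mul]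
  obtain ⟨x, hx⟩ := hmem
  exact ⟨x, by simpa using congrArg Units.val hx⟩

theorem card_norm_eq (hF : Fintype.card F = q ^ 2) {μ : F} (hμ : μ ≠ 0) (hμq : μ ^ q = μ) :
    Nat.card {x : F // x ^ (q + 1) = μ} = q + 1 := by
  obtain ⟨x₀, hx₀⟩ := exists_norm_eq hF hμ hμq
  refine (Nat.card_congr (Equiv.ofBijective
    (fun z : (powMonoidHom (q + 1) : Fˣ →* Fˣ).ker => (⟨(x₀ : F) * ((z : Fˣ) : F), by
      have hz := congrArg Units.val (MonoidHom.mem_ker.1 z.2)
      rw [powMonoidHom_apply, Units.val_pow_eq_pow_val, Units.val_one] at hz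
      rw [mul_pow, hx₀, hz, mul_one]⟩ : {x : F // x ^ (q + 1) = μ})) ⟨?_, ?_⟩)).symm.trans (card_norm_one hF)
  · intro z w h
    exact Subtype.ext (Units.ext (mul_left_cancel₀ x₀.ne_zero (congrArg Subtype.val h)))
  · rintro ⟨x, hx⟩
    have hx0 : x ≠ 0 := fun h => hμ (by rw [← hx, h, zero_pow (by omega)])
    refine ⟨⟨x₀⁻¹ * Units.mk0 x hx0, ?_⟩, Subtype.ext (by simp)⟩
    rw [MonoidHom.mem_ker, powMonoidHom_apply]
    refine Units.ext ?_
    rw [Units.val_pow_eq_pow_val, Units.val_mul, Units.val_mk0, mul_pow, hx, Units.val_inv_eq_inv_val,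
      inv_pow, hx₀, inv_mul_cancel₀ hμ, Units.val_one]

theorem exists_frob (hF : Fintype.card F = q ^ 2) : ∃ σ : F →+* F, (∀ x, σ x = x ^ q) := by
  obtain ⟨f, hp, hcard⟩ := FiniteField.card F (ringChar F)
  haveI := ringChar.charP F
  haveI : Fact (ringChar F).Prime := ⟨hp⟩
  rw [hF] at hcard
  have hdvd : q ∣ ringChar F ^ (f : ℕ) := hcard ▸ dvd_pow_self q two_ne_zero
  obtain ⟨k, -, hk⟩ := (Nat.dvd_prime_pow hp).1 hdvd
  exact ⟨iterateFrobenius F (ringChar F) k, fun x => by rw [iterateFrobenius_def, hk]⟩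

/-- The involutory automorphism `x ↦ x ^ q`. -/
noncomputable def frob (hF : Fintype.card F = q ^ 2) : F →+* F := (exists_frob hF).choose

theorem frob_apply (hF : Fintype.card F = q ^ 2) (x : F) : frob hF x = x ^ q := (exists_frob hF).choose_spec x

theorem frob_frob (hF : Fintype.card F = q ^ 2) (x : F) : frob hF (frob hF x) = x := by
  rw [frob_apply, frob_apply, ← pow_mul, ← sq, ← hF, FiniteField.pow_card]

theorem frob_ne_id (hF : Fintype.card F = q ^ 2) : frob hF ≠ RingHom.id F := by
  intro h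
  obtain ⟨g, hg⟩ := IsCyclic.exists_ofOrder_eq_natCard (α := Fˣ)
  have hq := two_le_q hF
  have h1 : g ^ (q - 1) = 1 := by
    refine Units.ext ?_
    rw [Units.val_pow_eq_pow_val, Units.val_one]
    apply mul_right_cancel₀ g.ne_zero
    rw [← pow_succ, show q - 1 + 1 = q by omega, ← frob_apply hF, h, RingHom.id_apply, one_mul]
  have h2 := Nat.le_of_dvd (by omega) (orderOf_dvd_of_pow_eq_one h1)
  rw [hg, card_units_sq hF] at h2
  have : 3 * (q - 1) ≤ (q + 1) * (q - 1) := Nat.mul_le_mul_right _ (by omega)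
  omega

theorem q_cast_sum (hF : Fintype.card F = q ^ 2) {ι : Type*} (s : Finset ι) (f : ι → F) :
    (∑ i ∈ s, f i) ^ q = ∑ i ∈ s, f i ^ q := by
  rw [← frob_apply hF, map_sum]
  simp only [frob_apply]

/-- The standard form, linear in the second argument. -/
noncomputable def hB (hF : Fintype.card F = q ^ 2) (n : ℕ) :
    (Fin n → F) →ₛₗ[frob hF] (Fin n → F) →ₗ[F] F :=
  LinearMap.mk₂'ₛₗ (frob hF) (RingHom.id F) (fun a b => Cfsg.hermForm n F q b a)
    (fun a a' b => by simp [Cfsg.hermForm, ← frob_apply hF, mul_add, Finset.sum_add_distrib])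
    (fun c a b => by simp [Cfsg.hermForm, ← frob_apply hF, Finset.mul_sum, mul_left_comm])
    (fun a b b' => by simp [Cfsg.hermForm, add_mul, Finset.sum_add_distrib])
    (fun c a b => by simp [Cfsg.hermForm, Finset.mul_sum, mul_assoc])

theorem hB_apply (hF : Fintype.card F = q ^ 2) (n : ℕ) (a b : Fin n → F) :
    hB hF n a b = Cfsg.hermForm n F q b a := rfl

theorem hB_isSymm (hF : Fintype.card F = q ^ 2) (n : ℕ) : (hB hF n).IsSymm := ⟨fun x y => by
  simp only [hB_apply, Cfsg.hermForm, map_sum, map_mul]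
  refine Finset.sum_congr rfl fun i _ => ?_
  rw [← frob_apply hF (x i), frob_frob hF, frob_apply hF, mul_comm]⟩

theorem hB_single_right (hF : Fintype.card F = q ^ 2) (n : ℕ) (a : Fin n → F) (i : Fin n) (c : F) :
    hB hF n a (Pi.single i c) = c * a i ^ q := by
  rw [hB_apply, Cfsg.hermForm, Finset.sum_eq_single i (fun j _ hj => by simp [hj]) (by simp)]
  simp

theorem hB_nondegenerate (hF : Fintype.card F = q ^ 2) (n : ℕ) : (hB hF n).Nondegenerate := by
  have key : ∀ a, (∀ b, hB hF n a b = 0) → a = 0 := fun a h => funext fun i => by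
    have := h (Pi.single i 1)
    rw [hB_single_right, one_mul] at this
    exact eq_zero_of_pow_eq_zero this
  exact ⟨key, fun b h => key b fun a => (hB_isSymm hF n).isRefl _ _ (h a)⟩

theorem hermForm_self (n : ℕ) (v : Fin n → F) : Cfsg.hermForm n F q v v = ∑ i, v i ^ (q + 1) :=
  Finset.sum_congr rfl fun i _ => by rw [pow_succ']

/-- The number of vectors of norm `μ`. -/
noncomputable def N (F : Type*) [Field F] (q n : ℕ) (μ : F) : ℕ :=
  Nat.card {v : Fin n → F // ∑ i, v i ^ (q + 1) = μ}

theorem N_eq_N_one (hF : Fintype.card F = q ^ 2) (n : ℕ) {μ : F} (hμ : μ ≠ 0) (hμq : μ ^ q = μ) :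
    N F q n μ = N F q n 1 := by
  obtain ⟨x, hx⟩ := exists_norm_eq hF hμ hμq
  refine Nat.card_congr
    { toFun := fun v => ⟨(x : F)⁻¹ • v.1, by
        simp only [Pi.smul_apply, smul_eq_mul, mul_pow, ← Finset.mul_sum, v.2, inv_pow, hx,
          inv_mul_cancel₀ hμ]⟩
      invFun := fun v => ⟨(x : F) • v.1, by
        simp only [Pi.smul_apply, smul_eq_mul, mul_pow, ← Finset.mul_sum, v.2, hx, mul_one]⟩
      left_inv := fun v => Subtype.ext (by simp [smul_smul, x.ne_zero])
      right_inv := fun v => Subtype.ext (by simp [smul_smul, x.ne_zero]) }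

theorem N_succ (n : ℕ) (μ : F) : N F q (n + 1) μ = ∑ x : F, N F q n (μ - x ^ (q + 1)) := by
  let eqv : {v : Fin (n + 1) → F // ∑ i, v i ^ (q + 1) = μ} ≃
      Σ x : F, {v : Fin n → F // ∑ i, v i ^ (q + 1) = μ - x ^ (q + 1)} :=
    { toFun := fun v => ⟨v.1 0, fun i => v.1 i.succ, by
        have := v.2
        rw [Fin.sum_univ_succ] at this
        linear_combination this⟩
      invFun := fun p => ⟨Fin.cons (α := fun _ => F) p.1 p.2.1, by
        rw [Fin.sum_univ_succ]
        simp only [Fin.cons_zero, Fin.cons_succ]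
        rw [p.2.2]; ring⟩
      left_inv := fun v => Subtype.ext (Fin.cons_self_tail v.1)
      right_inv := fun p => Sigma.subtype_ext (Fin.cons_zero (α := fun _ => F) p.1 p.2.1)
        (funext fun i => Fin.cons_succ (α := fun _ => F) p.1 p.2.1 i) }
  rw [N, Nat.card_congr eqv, Nat.card_sigma]
  rfl

theorem norm_pow_q (hF : Fintype.card F = q ^ 2) (x : F) : (x ^ (q + 1)) ^ q = x ^ (q + 1) := by
  rw [← pow_mul, add_mul, ← sq, ← hF, one_mul, pow_add, FiniteField.pow_card, pow_succ']

theorem N_succ_zero (hF : Fintype.card F = q ^ 2) (n : ℕ) :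
    N F q (n + 1) 0 = N F q n 0 + (q ^ 2 - 1) * N F q n 1 := by
  classical
  rw [N_succ, ← Finset.add_sum_erase _ _ (Finset.mem_univ (0 : F)), zero_pow (by omega), sub_zero]
  congr 1
  rw [Finset.sum_congr rfl (g := fun _ => N F q n 1), Finset.sum_const, Finset.card_erase_of_mem (Finset.mem_univ _),
    Finset.card_univ, hF, smul_eq_mul]
  intro x hx
  rw [zero_sub]
  refine N_eq_N_one hF n (neg_ne_zero.2 (pow_ne_zero _ (Finset.ne_of_mem_erase hx))) ?_
  rw [← frob_apply hF, map_neg, frob_apply, norm_pow_q hF]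

theorem N_succ_one (hF : Fintype.card F = q ^ 2) (n : ℕ) :
    N F q (n + 1) 1 = (q + 1) * N F q n 0 + (q ^ 2 - (q + 1)) * N F q n 1 := by
  classical
  rw [N_succ, ← Finset.sum_filter_add_sum_filter_not Finset.univ (fun x : F => x ^ (q + 1) = 1)]
  have hc : (Finset.univ.filter fun x : F => x ^ (q + 1) = 1).card = q + 1 := by
    rw [← Fintype.card_subtype, ← Nat.card_eq_fintype_card, card_norm_eq hF one_ne_zero (one_pow q)]
  congr 1
  · rw [Finset.sum_congr rfl (g := fun _ => N F q n 0), Finset.sum_const, hc, smul_eq_mul]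
    intro x hx
    rw [(Finset.mem_filter.1 hx).2, sub_self]
  · rw [Finset.sum_congr rfl (g := fun _ => N F q n 1), Finset.sum_const, smul_eq_mul]
    · congr 1
      rw [Finset.filter_not, Finset.card_sdiff_of_subset (Finset.subset_univ _), hc, Finset.card_univ, hF]
    · intro x hx
      refine N_eq_N_one hF n (sub_ne_zero.2 fun h => (Finset.mem_filter.1 hx).2 h.symm) ?_
      rw [← frob_apply hF, map_sub, map_one, frob_apply, norm_pow_q hF]

theorem N_formula (hF : Fintype.card F = q ^ 2) (n : ℕ) :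
    (q : ℤ) * N F q n 0 = (q : ℤ) ^ (2 * n) + (-1) ^ n * ((q : ℤ) ^ (n + 1) - (q : ℤ) ^ n) ∧
      (q : ℤ) * N F q n 1 = (q : ℤ) ^ (2 * n) - (-1) ^ n * (q : ℤ) ^ n := by
  have hq := two_le_q hF
  have hqq : q + 1 ≤ q ^ 2 := by nlinarith
  induction n with
  | zero =>
    have h0 : N F q 0 (0 : F) = 1 := Nat.card_eq_one_iff_exists.2 ⟨⟨Fin.elim0, by simp⟩, fun v => Subtype.ext (funext fun i => i.elim0)⟩
    have h1 : N F q 0 (1 : F) = 0 := by
      haveI : IsEmpty {v : Fin 0 → F // ∑ i, v i ^ (q + 1) = (1 : F)} := ⟨fun v => by simpa using v.2⟩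
      exact Nat.card_of_isEmpty
    rw [h0, h1]; simp
  | succ n ih =>
    obtain ⟨iha, ihb⟩ := ih
    rw [N_succ_zero hF, N_succ_one hF]
    push_cast [Nat.cast_sub (show 1 ≤ q ^ 2 by omega), Nat.cast_sub hqq]
    constructor
    · linear_combination iha + ((q : ℤ) ^ 2 - 1) * ihb
    · linear_combination ((q : ℤ) + 1) * iha + ((q : ℤ) ^ 2 - (q + 1)) * ihb

theorem N_one_succ (hF : Fintype.card F = q ^ 2) (i : ℕ) :
    N F q (i + 1) 1 = q ^ i * (if Even i then q ^ (i + 1) + 1 else q ^ (i + 1) - 1) := by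
  have hq := two_le_q hF
  have h := (N_formula hF (i + 1)).2
  have h1 : 1 ≤ q ^ (i + 1) := Nat.one_le_pow _ _ (by omega)
  apply Nat.eq_of_mul_eq_mul_left (show 0 < q by omega)
  zify
  rw [h]
  split_ifs with he
  · rw [Odd.neg_one_pow he.add_one]; push_cast; ring
  · rw [Even.neg_one_pow (by rw [Nat.even_add_one]; exact he)]; push_cast [Nat.cast_sub h1]; ring

/-- Coordinate subspace of vectors supported on the first `k` indices. -/
def headSub (F : Type*) [Field F] (n k : ℕ) : Submodule F (Fin n → F) where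
  carrier := {v | ∀ i : Fin n, k ≤ (i : ℕ) → v i = 0}
  zero_mem' := fun _ _ => rfl
  add_mem' := fun {a b} ha hb i hi => by simp [ha i hi, hb i hi]
  smul_mem' := fun c a ha i hi => by simp [ha i hi]

omit [Fintype F] in
theorem mem_headSub {n k : ℕ} {v : Fin n → F} : v ∈ headSub F n k ↔ ∀ i : Fin n, k ≤ (i : ℕ) → v i = 0 := Iff.rfl

theorem card_fixer_head (hF : Fintype.card F = q ^ 2) (n : ℕ) :
    ∀ j k, k + j = n → Nat.card (fixer (hB hF n) (headSub F n k)) = ∏ i ∈ Finset.range j, N F q (i + 1) 1 := by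
  classical
  have hq := two_le_q hF
  intro j
  induction j with
  | zero =>
    intro k hk
    have : fixer (hB hF n) (headSub F n k) = ⊥ := le_bot_iff.1 fun g hg => LinearEquiv.ext fun x =>
      hg.2 x fun i hi => absurd hi (by omega)
    rw [this]; simp
  | succ j ih =>
    intro k hk
    set i₀ : Fin n := ⟨k, by omega⟩
    set e : Fin n → F := Pi.single i₀ 1
    have hstd : ∀ i : Fin n, (i : ℕ) < k → Pi.single i (1 : F) ∈ headSub F n k := fun i hi l hl => by
      simp [Pi.single_apply, Fin.ext_iff, show (l : ℕ) ≠ i by omega]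
    have hBe : ∀ x ∈ headSub F n k, hB hF n x e = 0 := fun x hx => by
      rw [hB_single_right, hx i₀ le_rfl, zero_pow (by omega), mul_zero]
    have he : e ∉ headSub F n k := fun h => by simpa [e] using h i₀ le_rfl
    have hee : hB hF n e e = 1 := by rw [hB_single_right]; simp [e]
    let S : Set (Fin n → F) := {b | b ∉ headSub F n k ∧ (∀ x ∈ headSub F n k, hB hF n x b = 0) ∧ hB hF n b b = 1}
    have horb : MulAction.orbit (fixer (hB hF n) (headSub F n k)) e = S := by
      ext b
      constructor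
      · rintro ⟨⟨g, hg⟩, rfl⟩
        refine ⟨fun hb => he ?_, fun x hx => ?_, (hg.1 e e).trans hee⟩
        · have h2 : g (g e) = g e := hg.2 _ hb
          rw [← g.injective h2]; exact hb
        · show hB hF n x (g e) = 0
          rw [← hg.2 x hx, hg.1, hBe x hx]
      · rintro ⟨hb, h1, h2⟩
        obtain ⟨t, ht, hte⟩ := exists_map (frob_ne_id hF) (frob_frob hF) (hB_isSymm hF n) (hB_nondegenerate hF n)
          _ he hb (fun x hx => (hBe x hx).trans (h1 x hx).symm) (hee.trans h2.symm)
        exact ⟨⟨t, ht⟩, hte⟩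
    have hle : fixer (hB hF n) (headSub F n (k + 1)) ≤ fixer (hB hF n) (headSub F n k) :=
      fun g hg => ⟨hg.1, fun x hx => hg.2 x fun i hi => hx i (by omega)⟩
    have hst : MulAction.stabilizer (fixer (hB hF n) (headSub F n k)) e =
        (fixer (hB hF n) (headSub F n (k + 1))).subgroupOf (fixer (hB hF n) (headSub F n k)) := by
      ext ⟨g, hg⟩
      rw [MulAction.mem_stabilizer_iff, Subgroup.mem_subgroupOf, mem_fixer]
      show g e = e ↔ _
      refine ⟨fun h => ⟨hg.1, fun x hx => ?_⟩,
        fun h => h.2 e fun i hi => by simp [e, Pi.single_apply, Fin.ext_iff, i₀, show (i : ℕ) ≠ k by omega]⟩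
      have hx' : x - x i₀ • e ∈ headSub F n k := fun i hi => by
        rcases eq_or_ne i i₀ with rfl | hne
        · simp [e]
        · have hne' : (i : ℕ) ≠ k := fun h => hne (Fin.ext h)
          simp [e, Pi.single_apply, hne, hx i (by omega)]
      have h2 := hg.2 _ hx'
      rw [map_sub, map_smul, h] at h2
      exact sub_left_inj.1 h2
    have hS : Nat.card S = N F q (j + 1) 1 := by
      refine Nat.card_congr
        { toFun := fun b => ⟨fun i => b.1 ⟨k + i, by omega⟩, ?_⟩
          invFun := fun w => ⟨fun i => if h : k ≤ (i : ℕ) then w.1 ⟨i - k, by omega⟩ else 0, ?_⟩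
          left_inv := ?_
          right_inv := ?_ }
      · have h3 := b.2.2.2
        have h4 := b.2.2.1
        rw [hB_apply, hermForm_self] at h3
        rw [← h3]
        refine Finset.sum_of_injOn (fun i : Fin (j + 1) => (⟨k + i, by omega⟩ : Fin n)) ?_ ?_ ?_ ?_
        · intro a _ c _ hac; simpa [Fin.ext_iff] using hac
        · intro a _; simp
        · intro i _ hi
          have hik : (i : ℕ) < k := by
            by_contra hik
            exact hi ⟨⟨i - k, by omega⟩, by simp, Fin.ext (show k + ((i : ℕ) - k) = i by omega)⟩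
          have h5 := (hB_isSymm hF n).isRefl _ _ (h4 _ (hstd i hik))
          rw [hB_single_right, one_mul] at h5
          rw [eq_zero_of_pow_eq_zero h5, zero_pow (by omega)]
        · intro i _; rfl
      · refine ⟨fun hw => ?_, fun x hx => ?_, ?_⟩
        · have hw1 := w.2
          rw [Finset.sum_eq_zero fun i _ => ?_] at hw1
          · exact zero_ne_one hw1
          · have h5 := hw ⟨k + i, by omega⟩ (by simp)
            simp only [le_add_iff_nonneg_right, zero_le, dite_true] at h5
            simp only [add_tsub_cancel_left, Fin.eta] at h5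
            rw [h5, zero_pow (by omega)]
        · rw [hB_apply]
          refine Finset.sum_eq_zero fun i _ => ?_
          by_cases hik : k ≤ (i : ℕ)
          · rw [hx i hik, zero_pow (by omega), mul_zero]
          · simp [hik]
        · rw [hB_apply, hermForm_self]
          refine Eq.trans ?_ w.2
          refine (Finset.sum_of_injOn (fun i : Fin (j + 1) => (⟨k + i, by omega⟩ : Fin n)) ?_ ?_ ?_ ?_).symm
          · intro a _ c _ hac; simpa [Fin.ext_iff] using hac
          · intro a _; simp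
          · intro i _ hi
            have hik : (i : ℕ) < k := by
              by_contra hik
              exact hi ⟨⟨i - k, by omega⟩, by simp, Fin.ext (show k + ((i : ℕ) - k) = i by omega)⟩
            simp [not_le.2 hik]
          · intro i _; simp
      · intro b
        refine Subtype.ext (funext fun i => ?_)
        by_cases hik : k ≤ (i : ℕ)
        · simp only [hik, dite_true]
          exact congrArg b.1 (Fin.ext (show k + ((i : ℕ) - k) = i by omega))
        · have h5 := (hB_isSymm hF n).isRefl _ _ (b.2.2.1 _ (hstd i (by omega)))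
          rw [hB_single_right, one_mul] at h5
          simp [hik, eq_zero_of_pow_eq_zero h5]
      · intro w
        refine Subtype.ext (funext fun i => ?_)
        simp
    rw [← Subgroup.card_mul_index (MulAction.stabilizer (fixer (hB hF n) (headSub F n k)) e),
      MulAction.index_stabilizer, horb, hst, Nat.card_congr (Subgroup.subgroupOfEquivOfLe hle).toEquiv,
      ih (k + 1) (by omega), Finset.prod_range_succ, ← Nat.card_coe_set_eq S, hS]

theorem prod_N (hF : Fintype.card F = q ^ 2) (n : ℕ) :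
    ∏ i ∈ Finset.range n, N F q (i + 1) 1 =
      q ^ (n * (n - 1) / 2) * ∏ i ∈ Finset.range n, (if Even i then q ^ (i + 1) + 1 else q ^ (i + 1) - 1) := by
  rw [Finset.prod_congr rfl fun i _ => N_one_succ hF i, Finset.prod_mul_distrib,
    Finset.prod_pow_eq_pow_sum, Finset.sum_range_id]

theorem card_iso_hB (hF : Fintype.card F = q ^ 2) (n : ℕ) :
    Nat.card (iso (hB hF n)) =
      q ^ (n * (n - 1) / 2) * ∏ i ∈ Finset.range n, (if Even i then q ^ (i + 1) + 1 else q ^ (i + 1) - 1) := by
  have h0 : headSub F n 0 = ⊥ := by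
    rw [eq_bot_iff]
    intro v hv
    exact (Submodule.mem_bot F).2 (funext fun i => hv i (Nat.zero_le _))
  rw [← fixer_bot, ← h0, card_fixer_head hF n n 0 (by omega), prod_N hF]

/-- `GU_n` is the isometry group of the standard form. -/
noncomputable def guEquiv (hF : Fintype.card F = q ^ 2) (n : ℕ) : Cfsg.GU n F q ≃* iso (hB hF n) where
  toFun g := ⟨LinearMap.GeneralLinearGroup.generalLinearEquiv F _
      (Matrix.GeneralLinearGroup.toLin (g : GL (Fin n) F)), fun u v => g.2 v u⟩
  invFun e := ⟨Matrix.GeneralLinearGroup.toLin.symm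
      ((LinearMap.GeneralLinearGroup.generalLinearEquiv F _).symm (e : (Fin n → F) ≃ₗ[F] (Fin n → F))), fun u v => by
    have hmv : ∀ x, (Matrix.GeneralLinearGroup.toLin.symm ((LinearMap.GeneralLinearGroup.generalLinearEquiv F _).symm
        (e : (Fin n → F) ≃ₗ[F] (Fin n → F))) : Matrix (Fin n) (Fin n) F).mulVec x =
          (e : (Fin n → F) ≃ₗ[F] (Fin n → F)) x := fun x => by
      show (LinearMap.toMatrix' _).mulVec x = _
      rw [← Matrix.toLin'_apply, Matrix.toLin'_toMatrix']; rfl
    simp only [Units.coeHom_apply, hmv]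
    exact e.2 v u⟩
  left_inv g := by ext1; simp
  right_inv e := by ext1; simp
  map_mul' g h := Subtype.ext (by simp [map_mul])

theorem guEquiv_apply (hF : Fintype.card F = q ^ 2) (n : ℕ) (g : Cfsg.GU n F q) (v : Fin n → F) :
    (guEquiv hF n g : (Fin n → F) ≃ₗ[F] (Fin n → F)) v =
      ((g : GL (Fin n) F) : Matrix (Fin n) (Fin n) F).mulVec v := rfl

theorem card_GU (hF : Fintype.card F = q ^ 2) (n : ℕ) : Nat.card (Cfsg.GU n F q) =
    q ^ (n * (n - 1) / 2) * ∏ i ∈ Finset.range n, (if Even i then q ^ (i + 1) + 1 else q ^ (i + 1) - 1) :=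
  (Nat.card_congr (guEquiv hF n).toEquiv).trans (card_iso_hB hF n)

theorem det_GU_pow (hF : Fintype.card F = q ^ 2) {n : ℕ} (g : Cfsg.GU n F q) :
    ((g : GL (Fin n) F) : Matrix (Fin n) (Fin n) F).det ^ (q + 1) = 1 := by
  set A := ((g : GL (Fin n) F) : Matrix (Fin n) (Fin n) F)
  have hA : A.transpose * A.map (frob hF) = 1 := by
    ext i j
    have h := g.2 (Pi.single i 1) (Pi.single j 1)
    simp only [Units.coeHom_apply, Cfsg.hermForm, Matrix.mulVec_single_one, Matrix.col_apply] at h
    rw [Matrix.mul_apply]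
    simp only [Matrix.transpose_apply, Matrix.map_apply, frob_apply]
    rw [show ∑ x, A x i * A x j ^ q = _ from h]
    rw [Finset.sum_eq_single i (fun l _ hl => by simp [hl]) (by simp)]
    rcases eq_or_ne i j with rfl | hij
    · simp
    · simp [hij, Matrix.one_apply_ne hij, zero_pow (show q ≠ 0 by have := two_le_q hF; omega)]
  have h := congrArg Matrix.det hA
  rw [Matrix.det_mul, Matrix.det_transpose, Matrix.det_one] at h
  rw [show (A.map (frob hF)).det = (frob hF) A.det from ((frob hF).map_det A).symm, frob_apply] at h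
  rw [pow_succ']
  exact h

theorem mem_SU_iff {n : ℕ} (A : Matrix.SpecialLinearGroup (Fin n) F) :
    A ∈ Cfsg.SU n F q ↔ Matrix.SpecialLinearGroup.toGL A ∈ Cfsg.GU n F q := Iff.rfl

theorem card_SU (hF : Fintype.card F = q ^ 2) {n : ℕ} (hn : 1 ≤ n) :
    (q + 1) * Nat.card (Cfsg.SU n F q) = Nat.card (Cfsg.GU n F q) := by
  classical
  let d : Cfsg.GU n F q →* Fˣ := Matrix.GeneralLinearGroup.det.comp (Cfsg.GU n F q).subtype
  have hr : d.range = (powMonoidHom (q + 1) : Fˣ →* Fˣ).ker := by
    apply le_antisymm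
    · rintro _ ⟨g, rfl⟩
      rw [MonoidHom.mem_ker, powMonoidHom_apply]
      exact Units.ext (by simpa [d] using det_GU_pow hF g)
    · intro z hz
      have hz1 : (z : F) ^ (q + 1) = 1 := by simpa using congrArg Units.val (MonoidHom.mem_ker.1 hz)
      let D : GL (Fin n) F := Units.map (Matrix.diagonalRingHom (Fin n) F).toMonoidHom
        (MulEquiv.piUnits.symm (Function.update (1 : Fin n → Fˣ) ⟨0, hn⟩ z))
      have hD : (D : Matrix (Fin n) (Fin n) F) = Matrix.diagonal (Function.update (1 : Fin n → F) ⟨0, hn⟩ z) := by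
        show Matrix.diagonal _ = _
        congr 1
        funext i
        simp [MulEquiv.piUnits, Function.update_apply]
        split_ifs <;> simp
      refine ⟨⟨D, fun u v => ?_⟩, Units.ext ?_⟩
      · simp only [Units.coeHom_apply, hD, Cfsg.hermForm, Matrix.mulVec_diagonal]
        refine Finset.sum_congr rfl fun i _ => ?_
        rw [Function.update_apply]
        split_ifs
        · rw [mul_pow]
          calc (z : F) * u i * ((z : F) ^ q * v i ^ q) = (z : F) ^ (q + 1) * (u i * v i ^ q) := by ring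
            _ = _ := by rw [hz1, one_mul]
        · simp
      · simp [d, hD, Matrix.det_diagonal, Finset.prod_update_of_mem]
  have hker : Nat.card d.ker = Nat.card (Cfsg.SU n F q) := by
    refine (Nat.card_congr (Equiv.ofBijective (fun A : Cfsg.SU n F q =>
      (⟨⟨Matrix.SpecialLinearGroup.toGL A.1, A.2⟩, Units.ext (by simp [d])⟩ : d.ker)) ⟨?_, ?_⟩)).symm
    · intro A C h
      exact Subtype.ext (Subtype.ext (congrArg (fun g : d.ker => ((g.1 : GL (Fin n) F) : Matrix (Fin n) (Fin n) F)) h))
    · intro g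
      refine ⟨⟨⟨((g.1 : GL (Fin n) F) : Matrix (Fin n) (Fin n) F), ?_⟩, ?_⟩, ?_⟩
      · simpa [d] using congrArg Units.val (MonoidHom.mem_ker.1 g.2)
      · exact g.1.2
      · exact Subtype.ext (Subtype.ext (Units.ext rfl))
  have h := Subgroup.card_mul_index d.ker
  rw [Subgroup.index_ker, hr, card_norm_one hF, hker, mul_comm] at h
  exact h

theorem exists_eq_frob {σ : F →+* F} (hσ : σ ≠ RingHom.id F) (hσ2 : ∀ a, σ (σ a) = a) :
    ∃ q, Fintype.card F = q ^ 2 ∧ ∀ x, σ x = x ^ q := by
  set p := ringChar F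
  haveI := ringChar.charP F
  haveI : Fact p.Prime := ⟨CharP.char_is_prime F p⟩
  letI : Algebra (ZMod p) F := ZMod.algebra F p
  let s : F ≃ₐ[ZMod p] F := AlgEquiv.ofRingEquiv (f := RingEquiv.ofRingHom σ σ (RingHom.ext hσ2) (RingHom.ext hσ2))
    (fun x => by
      show σ (algebraMap (ZMod p) F x) = algebraMap (ZMod p) F x
      exact RingHom.congr_fun (Subsingleton.elim (σ.comp (algebraMap (ZMod p) F)) (algebraMap (ZMod p) F)) x)
  obtain ⟨⟨k, hk⟩, hks⟩ := (FiniteField.bijective_frobeniusAlgEquivOfAlgebraic_pow (ZMod p) F).2 s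
  set φ := FiniteField.frobeniusAlgEquivOfAlgebraic (ZMod p) F
  have hsk : ∀ x, σ x = x ^ p ^ k := fun x => by
    have h1 : σ x = (φ ^ k) x := by rw [show φ ^ k = s from hks]; rfl
    rw [h1]
    have h2 : ∀ m : ℕ, ((φ ^ m : F ≃ₐ[ZMod p] F) : F → F) = (φ : F → F)^[m] := fun m => by
      clear h1
      induction m with
      | zero => rfl
      | succ m ih => rw [pow_succ', Function.iterate_succ', ← ih]; rfl
    rw [h2 k, FiniteField.coe_frobeniusAlgEquivOfAlgebraic_iterate, ZMod.card]
  have hord : orderOf φ = Module.finrank (ZMod p) F := FiniteField.orderOf_frobeniusAlgEquivOfAlgebraic _ _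
  have hk0 : k ≠ 0 := fun h => hσ (RingHom.ext fun x => by rw [hsk, h]; simp)
  have hdvd : Module.finrank (ZMod p) F ∣ 2 * k := by
    rw [← hord]
    refine orderOf_dvd_of_pow_eq_one ?_
    rw [mul_comm, pow_mul, show φ ^ k = s from hks]
    refine AlgEquiv.ext fun x => ?_
    rw [sq]
    exact hσ2 x
  have hf : Module.finrank (ZMod p) F = 2 * k := by
    obtain ⟨c, hc⟩ := hdvd
    have h1 : Module.finrank (ZMod p) F * c < Module.finrank (ZMod p) F * 2 := by omega
    have h2 := Nat.lt_of_mul_lt_mul_left h1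
    interval_cases c <;> omega
  refine ⟨p ^ k, ?_, hsk⟩
  rw [Module.card_eq_pow_finrank (K := ZMod p) (V := F), ZMod.card, hf, ← pow_mul, mul_comm]

end Cfsg.Lib.Linear.Herm
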