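import Mathlib
import Cfsg.Prelude.Def_Classical
import Cfsg.Prelude.Def_LieClassical
import Cfsg.Agent.Lib.Linear.HermStandard

/-! Centres of the finite unitary groups. -/

set_option autoImplicit false

namespace Cfsg.Lib.Linear.Herm

open scoped Matrix

variable {F : Type*} [Field F] [Fintype F] {q : ℕ}

omit [Fintype F] in
theorem mem_SU {n : ℕ} {A : Matrix.SpecialLinearGroup (Fin n) F} :
    A ∈ Cfsg.SU n F q ↔ ∀ u v, Cfsg.hermForm n F q ((A : Matrix (Fin n) (Fin n) F) *ᵥ u)
      ((A : Matrix (Fin n) (Fin n) F) *ᵥ v) = Cfsg.hermForm n F q u v := Iff.rfl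

omit [Fintype F] in
theorem mem_GU {n : ℕ} {A : Matrix.GeneralLinearGroup (Fin n) F} :
    A ∈ Cfsg.GU n F q ↔ ∀ u v, Cfsg.hermForm n F q ((A : Matrix (Fin n) (Fin n) F) *ᵥ u)
      ((A : Matrix (Fin n) (Fin n) F) *ᵥ v) = Cfsg.hermForm n F q u v := Iff.rfl

omit [Fintype F] in
theorem hermForm_diagonal {n : ℕ} (d : Fin n → F) (hd : ∀ i, d i ^ (q + 1) = 1) (u v : Fin n → F) :
    Cfsg.hermForm n F q (Matrix.diagonal d *ᵥ u) (Matrix.diagonal d *ᵥ v) = Cfsg.hermForm n F q u v := by
  refine Finset.sum_congr rfl fun i _ => ?_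
  simp only [Matrix.mulVec_diagonal, mul_pow]
  calc d i * u i * (d i ^ q * v i ^ q) = d i ^ (q + 1) * (u i * v i ^ q) := by ring
    _ = u i * v i ^ q := by rw [hd, one_mul]

theorem exists_norm_one_sq_ne (hF : Fintype.card F = q ^ 2) :
    ∃ z : F, z ^ (q + 1) = 1 ∧ z * z ≠ 1 := by
  classical
  have hq := two_le_q hF
  by_contra hc
  push_neg at hc
  have hsub : (Finset.univ.filter fun x : F => x ^ (q + 1) = 1) ⊆ ({1, -1} : Finset F) := by
    intro x hx
    simpa [mul_self_eq_one_iff] using hc x (Finset.mem_filter.1 hx).2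
  have h1 := (Finset.card_le_card hsub).trans Finset.card_le_two
  rw [← Fintype.card_subtype, ← Nat.card_eq_fintype_card, card_norm_eq hF one_ne_zero (one_pow q)] at h1
  omega

/-- A matrix commuting with all of `SU_n` is scalar. -/
theorem exists_scalar (hF : Fintype.card F = q ^ 2) {n : ℕ} (hn : 2 ≤ n) (M : Matrix (Fin n) (Fin n) F)
    (hM : ∀ A : Matrix.SpecialLinearGroup (Fin n) F, A ∈ Cfsg.SU n F q →
      (A : Matrix (Fin n) (Fin n) F) * M = M * (A : Matrix (Fin n) (Fin n) F)) :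
    ∃ c : F, M = Matrix.scalar (Fin n) c := by
  classical
  have hq := two_le_q hF
  have hdiag : ∀ k l : Fin n, k ≠ l → M k l = 0 := by
    intro k l hkl
    obtain ⟨z, hz, hzz⟩ := exists_norm_one_sq_ne hF
    have hz0 : z ≠ 0 := fun h => by rw [h, zero_pow (by omega)] at hz; exact zero_ne_one hz
    set d : Fin n → F := Function.update (Function.update (1 : Fin n → F) k z) l z⁻¹ with hd
    have hdk : d k = z := by simp [hd, hkl]
    have hdl : d l = z⁻¹ := by simp [hd]
    have hdet : (Matrix.diagonal d).det = 1 := by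
      rw [Matrix.det_diagonal, hd, Finset.prod_update_of_mem (Finset.mem_univ l),
        Finset.prod_update_of_mem (by simp [hkl])]
      simp [hz0]
    have hmem : (⟨Matrix.diagonal d, hdet⟩ : Matrix.SpecialLinearGroup (Fin n) F) ∈ Cfsg.SU n F q := by
      refine mem_SU.2 (hermForm_diagonal d fun i => ?_)
      simp only [hd, Function.update_apply, Pi.one_apply]
      split_ifs
      · rw [inv_pow, hz, inv_one]
      · exact hz
      · exact one_pow _
    have h := congrFun (congrFun (hM _ hmem) k) l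
    simp only [Matrix.diagonal_mul, Matrix.mul_diagonal, hdk, hdl] at h
    by_contra hne
    apply hzz
    have h2 : z * (z * M k l) = z * (M k l * z⁻¹) := by rw [h]
    rw [mul_comm (M k l) z⁻¹, ← mul_assoc z z⁻¹, mul_inv_cancel₀ hz0, one_mul, ← mul_assoc] at h2
    exact mul_right_cancel₀ hne (h2.trans (one_mul _).symm)
  let i₀ : Fin n := ⟨0, by omega⟩
  refine ⟨M i₀ i₀, Matrix.ext fun k l => ?_⟩
  by_cases hkl : k = l
  swap
  · rw [hdiag k l hkl, Matrix.scalar_apply, Matrix.diagonal_apply_ne _ hkl]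
  subst hkl
  rw [Matrix.scalar_apply, Matrix.diagonal_apply_eq]
  by_cases hk : k = i₀
  · rw [hk]
  set W : Matrix (Fin n) (Fin n) F :=
    Equiv.Perm.permMatrix F (Equiv.swap k i₀) * Matrix.diagonal (Function.update (1 : Fin n → F) k (-1)) with hW
  have hWdet : W.det = 1 := by
    rw [hW, Matrix.det_mul, Matrix.det_permutation, Equiv.Perm.sign_swap hk, Matrix.det_diagonal,
      Finset.prod_update_of_mem (Finset.mem_univ k)]
    simp
  have hmem : (⟨W, hWdet⟩ : Matrix.SpecialLinearGroup (Fin n) F) ∈ Cfsg.SU n F q := by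
    refine mem_SU.2 fun u v => ?_
    show Cfsg.hermForm n F q (W *ᵥ u) (W *ᵥ v) = _
    rw [hW, ← Matrix.mulVec_mulVec, ← Matrix.mulVec_mulVec, Matrix.permMatrix_mulVec, Matrix.permMatrix_mulVec]
    refine (Equiv.sum_comp (Equiv.swap k i₀) fun i => (Matrix.diagonal (Function.update (1 : Fin n → F) k (-1)) *ᵥ u) i *
      (Matrix.diagonal (Function.update (1 : Fin n → F) k (-1)) *ᵥ v) i ^ q).trans (hermForm_diagonal _ (fun i => ?_) u v)
    simp only [Function.update_apply, Pi.one_apply]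
    split_ifs
    · rw [pow_succ, ← frob_apply hF, map_neg, map_one]; ring
    · exact one_pow _
  have h := congrFun (congrFun (hM _ hmem) k) i₀
  have hW' : ∀ a b, W a b = if Equiv.swap k i₀ a = b then Function.update (1 : Fin n → F) k (-1) b else 0 := by
    intro a b
    rw [hW, Matrix.mul_diagonal, Equiv.Perm.permMatrix, PEquiv.toMatrix_apply]
    simp
  change (W * M) k i₀ = (M * W) k i₀ at h
  simp only [Matrix.mul_apply] at h
  rw [Finset.sum_eq_single i₀ (fun b _ hb => by rw [hdiag b i₀ hb, mul_zero]) (by simp),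
    Finset.sum_eq_single k (fun b _ hb => by rw [hdiag k b hb.symm, zero_mul]) (by simp),
    show W k i₀ = 1 from by
      rw [hW', Equiv.swap_apply_left, if_pos rfl, Function.update_of_ne (Ne.symm hk), Pi.one_apply]] at h
  rw [one_mul, mul_one] at h
  exact h.symm

theorem scalar_mem_GU {n : ℕ} {u : Fˣ} (hu : (u : F) ^ (q + 1) = 1) :
    Matrix.GeneralLinearGroup.scalar (Fin n) u ∈ Cfsg.GU n F q :=
  mem_GU.2 (hermForm_diagonal (fun _ => (u : F)) (fun _ => hu))

theorem card_roots_common {n : ℕ} (hF : Fintype.card F = q ^ 2) :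
    Nat.card {c : F // c ^ n = 1 ∧ c ^ (q + 1) = 1} = Nat.gcd n (q + 1) := by
  have hdvd : Nat.gcd n (q + 1) ∣ Nat.card Fˣ := by
    rw [card_units_sq hF]; exact (Nat.gcd_dvd_right _ _).trans (dvd_mul_right _ _)
  rw [← Nat.gcd_eq_right hdvd, ← IsCyclic.card_powMonoidHom_ker (G := Fˣ)]
  refine Nat.card_congr
    { toFun := fun c => ⟨Units.mk0 c.1 (fun h => by
          have := c.2.2; rw [h, zero_pow (by omega)] at this; exact zero_ne_one this), ?_⟩
      invFun := fun u => ⟨(u.1 : F), ?_⟩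
      left_inv := fun c => rfl
      right_inv := fun u => Subtype.ext (Units.ext rfl) }
  · rw [MonoidHom.mem_ker, powMonoidHom_apply]
    rw [pow_gcd_eq_one]
    constructor <;> refine Units.ext ?_ <;> simp [c.2.1, c.2.2]
  · have h := congrArg Units.val (MonoidHom.mem_ker.1 u.2)
    rw [powMonoidHom_apply, Units.val_pow_eq_pow_val, Units.val_one] at h
    obtain ⟨a, ha⟩ := Nat.gcd_dvd_left n (q + 1)
    obtain ⟨b, hb⟩ := Nat.gcd_dvd_right n (q + 1)
    constructor
    · calc (u.1 : F) ^ n = (u.1 : F) ^ (Nat.gcd n (q + 1) * a) := congrArg _ ha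
        _ = 1 := by rw [pow_mul, h, one_pow]
    · calc (u.1 : F) ^ (q + 1) = (u.1 : F) ^ (Nat.gcd n (q + 1) * b) := congrArg _ hb
        _ = 1 := by rw [pow_mul, h, one_pow]

theorem card_center_SU (hF : Fintype.card F = q ^ 2) {n : ℕ} (hn : 2 ≤ n) :
    Nat.card (Subgroup.center (Cfsg.SU n F q)) = Nat.gcd n (q + 1) := by
  rw [← card_roots_common (n := n) hF]
  let i₀ : Fin n := ⟨0, by omega⟩
  have hsc : ∀ A : Subgroup.center (Cfsg.SU n F q), ∃ c : F,
      ((A.1.1 : Matrix.SpecialLinearGroup (Fin n) F) : Matrix (Fin n) (Fin n) F) = Matrix.scalar (Fin n) c := fun A =>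
    exists_scalar hF hn _ fun B hB => by
      have h := Subgroup.mem_center_iff.1 A.2 ⟨B, hB⟩
      exact congrArg (fun x : Cfsg.SU n F q => ((x.1 : Matrix.SpecialLinearGroup (Fin n) F) : Matrix (Fin n) (Fin n) F)) h
  have hprop : ∀ c : F, c ^ n = 1 ∧ c ^ (q + 1) = 1 ↔ (Matrix.scalar (Fin n) c).det = 1 ∧
      ∀ u v, Cfsg.hermForm n F q (Matrix.scalar (Fin n) c *ᵥ u) (Matrix.scalar (Fin n) c *ᵥ v) =
        Cfsg.hermForm n F q u v := by
    intro c
    refine and_congr (by simp [Matrix.scalar_apply, Matrix.det_diagonal]) ⟨fun h => ?_, fun h => ?_⟩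
    · rw [Matrix.scalar_apply]
      exact hermForm_diagonal _ fun _ => h
    · have h2 := h (Pi.single i₀ 1) (Pi.single i₀ 1)
      simp only [Cfsg.hermForm, Matrix.scalar_apply, Matrix.mulVec_diagonal] at h2
      rw [Finset.sum_eq_single i₀ (fun b _ hb => by simp [hb]) (by simp),
        Finset.sum_eq_single i₀ (fun b _ hb => by simp [hb]) (by simp)] at h2
      simp only [Pi.single_eq_same, mul_one, one_pow] at h2
      rw [pow_succ', h2]
  refine Nat.card_congr
    { toFun := fun A => ⟨((A.1.1 : Matrix.SpecialLinearGroup (Fin n) F) : Matrix (Fin n) (Fin n) F) i₀ i₀, ?_⟩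
      invFun := fun c => ⟨⟨⟨Matrix.scalar (Fin n) c.1, ((hprop c.1).1 c.2).1⟩, mem_SU.2 ((hprop c.1).1 c.2).2⟩, ?_⟩
      left_inv := ?_
      right_inv := ?_ }
  · obtain ⟨c, hc⟩ := hsc A
    rw [hc, Matrix.scalar_apply, Matrix.diagonal_apply_eq]
    exact (hprop c).2 ⟨hc ▸ A.1.1.2, hc ▸ mem_SU.1 A.1.2⟩
  · refine Subgroup.mem_center_iff.2 fun B => Subtype.ext (Matrix.SpecialLinearGroup.ext _ _ fun i j => ?_)
    change ((((B.1 : Matrix.SpecialLinearGroup (Fin n) F)) : Matrix (Fin n) (Fin n) F) * Matrix.scalar (Fin n) c.1) i j =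
      (Matrix.scalar (Fin n) c.1 * ((B.1 : Matrix.SpecialLinearGroup (Fin n) F) : Matrix (Fin n) (Fin n) F)) i j
    simp [Matrix.scalar_apply, mul_comm]
  · intro A
    obtain ⟨c, hc⟩ := hsc A
    refine Subtype.ext (Subtype.ext (Matrix.SpecialLinearGroup.ext _ _ fun i j => ?_))
    simp [hc]
  · intro c
    exact Subtype.ext (by simp)

end Cfsg.Lib.Linear.Herm
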