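import Mathlib.LinearAlgebra.Dual.Lemmas
import Mathlib.LinearAlgebra.Matrix.SchurComplement
import Cfsg.Prelude.Def_GeometricClasses

set_option autoImplicit false

/-! Transvections fixing a subspace, subspace stabilizers. -/

namespace Cfsg.Lib.Linear

variable {ι : Type} [Fintype ι] [DecidableEq ι] {F : Type*} [Field F]

open Matrix

theorem mem_subspaceStabilizer_iff (W : Submodule F (ι → F)) (g : GL ι F) :
    g ∈ Cfsg.Geo.subspaceStabilizer W ↔ ∀ v, v ∈ W ↔ (g : Matrix ι ι F) *ᵥ v ∈ W :=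
  Iff.rfl

theorem mem_subspaceStabilizer_of_forall (W : Submodule F (ι → F)) (g : GL ι F)
    (h : ∀ v ∈ W, (g : Matrix ι ι F) *ᵥ v ∈ W) : g ∈ Cfsg.Geo.subspaceStabilizer W := by
  set f : W →ₗ[F] W :=
    ((Matrix.mulVecLin (g : Matrix ι ι F)).restrict h)
  have hf : Function.Injective f := by
    intro a b hab
    have h1 : (g : Matrix ι ι F) *ᵥ (a : ι → F) = (g : Matrix ι ι F) *ᵥ (b : ι → F) :=
      congrArg Subtype.val hab
    have h2 := congrArg (((g⁻¹ : GL ι F) : Matrix ι ι F) *ᵥ ·) h1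
    simp only [Matrix.mulVec_mulVec, ← Units.val_mul, inv_mul_cancel, Units.val_one, Matrix.one_mulVec] at h2
    exact Subtype.ext h2
  intro v
  refine ⟨h v, fun hv => ?_⟩
  obtain ⟨w, hw⟩ := (LinearMap.injective_iff_surjective.1 hf) ⟨_, hv⟩
  have h1 : (g : Matrix ι ι F) *ᵥ (w : ι → F) = (g : Matrix ι ι F) *ᵥ v := congrArg Subtype.val hw
  have h2 := congrArg (((g⁻¹ : GL ι F) : Matrix ι ι F) *ᵥ ·) h1
  simp only [Matrix.mulVec_mulVec, ← Units.val_mul, inv_mul_cancel, Units.val_one, Matrix.one_mulVec] at h2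
  exact h2 ▸ w.2

/-- A transvection of determinant one that fixes `W` pointwise and sends `u` to `u + z`. -/
theorem exists_transvection_mem_SL (W : Submodule F (ι → F)) (u z : ι → F)
    (hu : u ∉ W ⊔ Submodule.span F {z}) :
    ∃ g ∈ Cfsg.Geo.specialLinear ι F,
      (∀ w ∈ W, (g : Matrix ι ι F) *ᵥ w = w) ∧ (g : Matrix ι ι F) *ᵥ u = u + z ∧
      ∀ v, ∃ c : F, (g : Matrix ι ι F) *ᵥ v = v + c • z := by
  obtain ⟨φ, hφu, hφ⟩ := Submodule.exists_dual_map_eq_bot_of_notMem hu inferInstance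
  set a : ι → F := fun i => (φ u)⁻¹ * φ (Pi.single i 1)
  have ha : ∀ v, a ⬝ᵥ v = (φ u)⁻¹ * φ v := by
    intro v
    conv_rhs => rw [pi_eq_sum_univ v]
    simp only [map_sum, map_smul, smul_eq_mul, Finset.mul_sum, dotProduct, a]
    refine Finset.sum_congr rfl fun i _ => ?_
    have : (fun j => if i = j then (1 : F) else 0) = Pi.single i 1 := by
      funext j; simp [Pi.single_apply, eq_comm]
    rw [this]; ring
  have hz : ∀ v ∈ W ⊔ Submodule.span F {z}, a ⬝ᵥ v = 0 := by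
    intro v hv
    have : φ v ∈ (W ⊔ Submodule.span F {z}).map φ := ⟨v, hv, rfl⟩
    rw [hφ, Submodule.mem_bot] at this
    rw [ha, this, mul_zero]
  set M : Matrix ι ι F := 1 + replicateCol Unit z * replicateRow Unit a
  have hdet : M.det = 1 := by
    rw [det_one_add_replicateCol_mul_replicateRow,
      hz z (Submodule.mem_sup_right (Submodule.mem_span_singleton_self z)), add_zero]
  have hM : ∀ v, M *ᵥ v = v + (a ⬝ᵥ v) • z := by
    intro v
    rw [add_mulVec, one_mulVec, ← mulVec_mulVec]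
    congr 1
    funext i
    simp [mulVec, dotProduct, replicateCol, replicateRow, mul_comm]
  let g : GL ι F := Matrix.GeneralLinearGroup.mkOfDetNeZero M (by rw [hdet]; exact one_ne_zero)
  have hg : (g : Matrix ι ι F) = M := rfl
  refine ⟨g, Units.ext (by rw [Matrix.GeneralLinearGroup.val_det_apply, hg, hdet]; rfl), ?_, ?_,
    fun v => ⟨_, by rw [hg, hM]⟩⟩
  · intro w hw
    rw [hg, hM, hz w (Submodule.mem_sup_left hw), zero_smul, add_zero]
  · rw [hg, hM, ha, inv_mul_cancel₀ hφu, one_smul]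

theorem subspaceStabilizer_inf_SL_lt (W : Submodule F (ι → F)) (h0 : W ≠ ⊥) (h1 : W ≠ ⊤) :
    Cfsg.Geo.subspaceStabilizer W ⊓ Cfsg.Geo.specialLinear ι F < Cfsg.Geo.specialLinear ι F := by
  obtain ⟨w, hw, hw0⟩ := Submodule.exists_mem_ne_zero_of_ne_bot h0
  obtain ⟨z, -, hz⟩ := SetLike.exists_of_lt (lt_top_iff_ne_top.2 h1)
  have hwz : w ∉ (⊥ : Submodule F (ι → F)) ⊔ Submodule.span F {z} := by
    rw [bot_sup_eq, Submodule.mem_span_singleton]
    rintro ⟨c, rfl⟩
    have hc : c ≠ 0 := fun h => hw0 (by simp [h])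
    exact hz (by simpa [smul_smul, inv_mul_cancel₀ hc] using W.smul_mem c⁻¹ hw)
  obtain ⟨g, hg, -, hgw, -⟩ := exists_transvection_mem_SL ⊥ w z hwz
  refine lt_of_le_of_ne inf_le_right fun h => ?_
  rw [← h, Subgroup.mem_inf, mem_subspaceStabilizer_iff] at hg
  have := (hg.1 w).1 hw
  rw [hgw] at this
  exact hz ((W.add_mem_iff_right hw).1 this)

/-- A second subspace cuts the stabilizer of the first properly. -/
theorem subspaceStabilizer_pair_lt (W U : Submodule F (ι → F)) (u z : ι → F) (hu : u ∈ U)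
    (hz : z ∉ U) (huz : u ∉ W ⊔ Submodule.span F {z}) :
    Cfsg.Geo.subspaceStabilizer W ⊓ Cfsg.Geo.subspaceStabilizer U ⊓ Cfsg.Geo.specialLinear ι F <
      Cfsg.Geo.subspaceStabilizer W ⊓ Cfsg.Geo.specialLinear ι F := by
  obtain ⟨g, hg, hW, hgu, -⟩ := exists_transvection_mem_SL W u z huz
  refine lt_of_le_of_ne (inf_le_inf_right _ inf_le_left) fun h => ?_
  have hmem : g ∈ Cfsg.Geo.subspaceStabilizer W ⊓ Cfsg.Geo.specialLinear ι F :=
    Subgroup.mem_inf.2 ⟨mem_subspaceStabilizer_of_forall W g (fun w hw => by rwa [hW w hw]), hg⟩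
  rw [← h, Subgroup.mem_inf, Subgroup.mem_inf] at hmem
  have h2 := ((mem_subspaceStabilizer_iff U g).1 hmem.1.2 u).1 hu
  rw [hgu] at h2
  exact hz ((U.add_mem_iff_right hu).1 h2)

end Cfsg.Lib.Linear
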