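import Cfsg.Agent.Lib.Linear.SLBasic
import Cfsg.Agent.Lib.Linear.Subspace

set_option autoImplicit false

/-! Transvections in `GL`, and maximality of subspace stabilizers in `SL`. -/

namespace Cfsg.Lib.Linear

variable {ι : Type} [Fintype ι] [DecidableEq ι] {F : Type*} [Field F]

open Matrix

/-- The matrix of the transvection `v ↦ v + (a ⬝ᵥ v) • z`. -/
def tvMat (z a : ι → F) : Matrix ι ι F := 1 + Matrix.vecMulVec z a

theorem tvMat_mulVec (z a v : ι → F) : tvMat z a *ᵥ v = v + (a ⬝ᵥ v) • z := by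
  rw [tvMat, add_mulVec, one_mulVec, vecMulVec_mulVec]
  simp

theorem tvMat_smul (c : F) (z a : ι → F) : tvMat (c • z) a = tvMat z (c • a) := by
  ext i j
  simp [tvMat, vecMulVec_apply]

theorem det_tvMat (z a : ι → F) : (tvMat z a).det = 1 + a ⬝ᵥ z := by
  rw [tvMat, Matrix.vecMulVec_eq Unit, det_one_add_replicateCol_mul_replicateRow]

/-- The transvection as an element of `GL`. -/
def tv (z a : ι → F) (h : a ⬝ᵥ z = 0) : GL ι F :=
  Matrix.GeneralLinearGroup.mkOfDetNeZero (tvMat z a) (by rw [det_tvMat, h, add_zero]; exact one_ne_zero)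

theorem coe_tv (z a : ι → F) (h : a ⬝ᵥ z = 0) : (tv z a h : Matrix ι ι F) = tvMat z a := rfl

theorem tv_mem_SL (z a : ι → F) (h : a ⬝ᵥ z = 0) : tv z a h ∈ Cfsg.Geo.specialLinear ι F :=
  Units.ext (by rw [Matrix.GeneralLinearGroup.val_det_apply, coe_tv, det_tvMat, h, add_zero]; rfl)

theorem tv_congr {z z' a a' : ι → F} (h : a ⬝ᵥ z = 0) (h' : a' ⬝ᵥ z' = 0)
    (he : tvMat z a = tvMat z' a') : tv z a h = tv z' a' h' := Units.ext he

theorem tv_conj (g : GL ι F) (z a : ι → F) (h : a ⬝ᵥ ((g : Matrix ι ι F) *ᵥ z) = 0) :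
    tv ((g : Matrix ι ι F) *ᵥ z) a h =
      g * tv z (a ᵥ* (g : Matrix ι ι F)) (by rwa [← dotProduct_mulVec]) * g⁻¹ := by
  apply Units.ext
  rw [Units.val_mul, Units.val_mul, coe_tv, coe_tv, tvMat, tvMat, mul_add, add_mul, mul_one,
    ← Units.val_mul, mul_inv_cancel, Units.val_one, mul_vecMulVec, vecMulVec_mul, vecMul_vecMul,
    ← Units.val_mul, mul_inv_cancel, Units.val_one, vecMul_one]

/-- A subgroup of `GL` containing all transvections contains `SL`. -/
theorem SL_le_of_tv_mem (L : Subgroup (GL ι F)) (h : ∀ z a h, tv z a h ∈ L) :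
    Cfsg.Geo.specialLinear ι F ≤ L := by
  rw [Cfsg.Geo.specialLinear, ← range_toGL, MonoidHom.range_eq_map, ← closure_transvection_eq_top,
    MonoidHom.map_closure, Subgroup.closure_le]
  rintro _ ⟨_, ⟨i, j, hij, c, rfl⟩, rfl⟩
  have h0 : (c • (Pi.single j 1 : ι → F)) ⬝ᵥ (Pi.single i 1) = 0 := by
    simp [hij]
  have he : Matrix.SpecialLinearGroup.toGL (Matrix.SpecialLinearGroup.transvection hij c) =
      tv (Pi.single i 1) (c • Pi.single j 1) h0 := by
    apply Units.ext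
    rw [coe_tv, tvMat]
    show Matrix.transvection i j c = _
    rw [Matrix.transvection]
    congr 1
    ext x y
    simp [vecMulVec_apply, Matrix.single_apply, Pi.single_apply, eq_comm]
    split_ifs <;> simp_all
  rw [he]
  exact h _ _ _

/-- The stabilizer of a proper nontrivial subspace is maximal in `SL`. -/
theorem isMaximalIn_subspaceStabilizer_SL (W : Submodule F (ι → F)) (h0 : W ≠ ⊥) (h1 : W ≠ ⊤) :
    Cfsg.Geo.IsMaximalIn (Cfsg.Geo.specialLinear ι F)
      (Cfsg.Geo.subspaceStabilizer W ⊓ Cfsg.Geo.specialLinear ι F) := by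
  refine ⟨subspaceStabilizer_inf_SL_lt W h0 h1, fun L hL hLS => ?_⟩
  by_cases hLW : L ≤ Cfsg.Geo.subspaceStabilizer W
  · exact Or.inl (le_antisymm (le_inf hLW hLS) hL)
  refine Or.inr (le_antisymm hLS (SL_le_of_tv_mem L ?_))
  obtain ⟨g, hgL, hgW⟩ := SetLike.not_le_iff_exists.1 hLW
  let Z : Set (ι → F) := {z | ∀ a h, tv z a h ∈ L}
  have hWZ : ∀ z ∈ W, z ∈ Z := fun z hz a h => hL (Subgroup.mem_inf.2
    ⟨mem_subspaceStabilizer_of_forall W _ (fun v hv => by
      rw [coe_tv, tvMat_mulVec]; exact W.add_mem hv (W.smul_mem _ hz)), tv_mem_SL z a h⟩)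
  have hinv : ∀ k ∈ L, ∀ z ∈ Z, (k : Matrix ι ι F) *ᵥ z ∈ Z := fun k hk z hz a h => by
    rw [tv_conj]
    exact mul_mem (mul_mem hk (hz _ _)) (inv_mem hk)
  have hsmul : ∀ (c : F) z, z ∈ Z → c • z ∈ Z := fun c z hz a h => by
    have h' : (c • a) ⬝ᵥ z = 0 := by rwa [smul_dotProduct, ← dotProduct_smul]
    rw [tv_congr h h' (tvMat_smul c z a)]
    exact hz _ _
  obtain ⟨w, hw, hgw⟩ : ∃ w ∈ W, (g : Matrix ι ι F) *ᵥ w ∉ W := by
    by_contra hc
    push_neg at hc
    exact hgW (mem_subspaceStabilizer_of_forall W g hc)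
  set z := (g : Matrix ι ι F) *ᵥ w
  have hz : z ∈ Z := hinv g hgL w (hWZ w hw)
  -- the stabilizer of `W` is transitive outside `W`
  have hmove : ∀ d, z ∉ W ⊔ Submodule.span F {d} → z + d ∈ Z := by
    intro d hd
    obtain ⟨k, hk, hkW, hkz, -⟩ := exists_transvection_mem_SL W z d hd
    rw [← hkz]
    exact hinv k (hL (Subgroup.mem_inf.2 ⟨mem_subspaceStabilizer_of_forall W k
      (fun v hv => by rwa [hkW v hv]), hk⟩)) z hz
  intro y a h
  by_cases hy : y ∈ W
  · exact hWZ y hy a h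
  by_cases hyz : y ∈ W ⊔ Submodule.span F {z}
  · obtain ⟨u, hu, x, hx, rfl⟩ := Submodule.mem_sup.1 hyz
    obtain ⟨c, rfl⟩ := Submodule.mem_span_singleton.1 hx
    have hc : c ≠ 0 := by rintro rfl; exact hy (by simpa using hu)
    have hm := hsmul c _ (hmove (c⁻¹ • u)
      (by rw [sup_eq_left.2 ((Submodule.span_singleton_le_iff_mem _ _).2 (W.smul_mem _ hu))]; exact hgw))
    rw [smul_add, smul_smul, mul_inv_cancel₀ hc, one_smul, add_comm] at hm
    exact hm a h
  · have hd : z ∉ W ⊔ Submodule.span F {y - z} := by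
      intro hd
      obtain ⟨u, hu, x, hx, he⟩ := Submodule.mem_sup.1 hd
      obtain ⟨c, rfl⟩ := Submodule.mem_span_singleton.1 hx
      rcases eq_or_ne c 0 with rfl | hc
      · exact hgw (he ▸ by simpa using hu)
      · refine hyz (Submodule.mem_sup.2 ⟨-(c⁻¹ • u), W.neg_mem (W.smul_mem _ hu), (c⁻¹ + 1) • z,
          Submodule.smul_mem _ _ (Submodule.mem_span_singleton_self z), ?_⟩)
        have e2 : c⁻¹ • (u + c • (y - z)) = c⁻¹ • z := by rw [he]
        rw [smul_add, smul_smul, inv_mul_cancel₀ hc, one_smul] at e2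
        rw [add_smul, one_smul, ← e2]
        abel
    have hm := hmove (y - z) hd
    rw [add_sub_cancel] at hm
    exact hm a h

end Cfsg.Lib.Linear
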