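import Cfsg.Agent.Lib.Linear.Isotropic
import Mathlib.LinearAlgebra.Transvection.Basic

/-!
# Generation of special unitary groups by transvections

The group generated by isotropic transvections is transitive on anisotropic lines; since the
isometry group is generated by quasi-reflections, it consists of the isometries of determinant one.
-/

set_option autoImplicit false

namespace Cfsg.Lib.Linear.Herm

open Module

variable {F V : Type*} [Field F] [AddCommGroup V] [Module F V] {σ : F →+* F}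
  {B : V →ₛₗ[σ] V →ₗ[F] F}

/-- The group generated by the isotropic transvections. -/
def tvGroup (B : V →ₛₗ[σ] V →ₗ[F] F) : Subgroup (V ≃ₗ[F] V) :=
  Subgroup.closure {g | ∃ (w : V) (l : F) (h : l + σ l + σ l * l * B w w = 0), B w w = 0 ∧ g = qrefl w l h}

theorem qrefl_congr {w : V} {l l' : F} (e : l = l') (h : l + σ l + σ l * l * B w w = 0)
    (h' : l' + σ l' + σ l' * l' * B w w = 0) : qrefl w l h = qrefl w l' h' := by subst e; rfl

theorem iso_eq_qreflGroup [FiniteDimensional F V] (hσ : σ ≠ RingHom.id F)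
    (hσ2 : ∀ a, σ (σ a) = a) (hS : B.IsSymm) (hB : B.Nondegenerate) : iso B = qreflGroup B := by
  refine le_antisymm ?_ ?_
  · suffices H : ∀ (k : ℕ) (X : Submodule F V), finrank F V ≤ finrank F X + k →
        ∀ g ∈ fixer B X, g ∈ qreflGroup B by
      intro g hg
      exact H (finrank F V) ⊥ (by simp) g (by rw [fixer_bot]; exact hg)
    intro k
    induction k with
    | zero =>
      intro X hX g hg
      have : g = 1 := LinearEquiv.ext fun x => hg.2 x (by
        rw [Submodule.eq_top_of_finrank_eq (le_antisymm (Submodule.finrank_le X) (by omega))]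
        exact Submodule.mem_top)
      rw [this]
      exact one_mem _
    | succ k ih =>
      intro X hX g hg
      by_cases htop : X = ⊤
      · exact ih X (by rw [htop, finrank_top]; omega) g hg
      obtain ⟨a, -, ha⟩ := SetLike.exists_of_lt (lt_top_iff_ne_top.2 htop)
      have hga : g a ∉ X := fun h => ha (by
        have := hg.2 _ h
        rwa [g.injective this] at h)
      obtain ⟨t, ht, hta⟩ := exists_map_gen hσ hσ2 hS hB X ha hga
        (fun x hx => by rw [← hg.1 x a, hg.2 x hx]) (hg.1 a a).symm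
      obtain ⟨ht1, ht2⟩ := Subgroup.mem_inf.mp ht
      have hlt : finrank F X < finrank F ↥(X ⊔ Submodule.span F {a}) :=
        Submodule.finrank_lt_finrank_of_lt (lt_of_le_of_ne le_sup_left fun e => ha (by
          rw [e]; exact Submodule.mem_sup_right (Submodule.mem_span_singleton_self a)))
      have hfix : t⁻¹ * g ∈ fixer B (X ⊔ Submodule.span F {a}) := by
        refine ⟨mul_mem (inv_mem ht1.1) hg.1, fun x hx => ?_⟩
        obtain ⟨y, hy, z, hz, rfl⟩ := Submodule.mem_sup.1 hx
        obtain ⟨c, rfl⟩ := Submodule.mem_span_singleton.1 hz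
        have hy' : t⁻¹ y = y := by
          conv_lhs => rw [← ht1.2 y hy]
          rw [← LinearEquiv.mul_apply, inv_mul_cancel]; rfl
        have ha' : t⁻¹ (g a) = a := by
          rw [← hta, ← LinearEquiv.mul_apply, inv_mul_cancel]; rfl
        rw [LinearEquiv.mul_apply, map_add, map_add, map_smul, map_smul, hg.2 y hy, hy', ha']
      have := mul_mem ht2 (ih _ (by omega) _ hfix)
      rwa [mul_inv_cancel_left] at this
  · rw [qreflGroup, Subgroup.closure_le]
    rintro _ ⟨w, l, h, rfl⟩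
    exact qrefl_mem_iso hS w l h

theorem tvGroup_le_iso (hS : B.IsSymm) : tvGroup B ≤ iso B := by
  rw [tvGroup, Subgroup.closure_le]
  rintro _ ⟨w, l, h, -, rfl⟩
  exact qrefl_mem_iso hS w l h

theorem qrefl_conj {g : V ≃ₗ[F] V} (hg : g ∈ iso B) (w : V) (l : F)
    (h : l + σ l + σ l * l * B w w = 0) :
    g * qrefl w l h * g⁻¹ = qrefl (g w) l (by rw [hg w w]; exact h) := by
  refine LinearEquiv.ext fun x => ?_
  have hx : g (g⁻¹ x) = x := by rw [← LinearEquiv.mul_apply, mul_inv_cancel]; rfl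
  rw [LinearEquiv.mul_apply, LinearEquiv.mul_apply, qrefl_apply, qrefl_apply, map_add, map_smul, hx,
    ← hg w (g⁻¹ x), hx]

theorem tvGroup_conj {g : V ≃ₗ[F] V} (hg : g ∈ iso B) {t : V ≃ₗ[F] V} (ht : t ∈ tvGroup B) :
    g * t * g⁻¹ ∈ tvGroup B := by
  have hle : tvGroup B ≤ (tvGroup B).comap (MulAut.conj g).toMonoidHom := by
    rw [tvGroup, Subgroup.closure_le]
    rintro _ ⟨w, l, h, hw, rfl⟩
    exact Subgroup.subset_closure ⟨g w, l, _, by rw [hg w w, hw], qrefl_conj hg w l h⟩
  exact hle ht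

/-- A single transvection moving `v` to `w`. -/
theorem step_map (hS : B.IsSymm) {v w : V} (hne : B (w - v) v ≠ 0)
    (hd : B (w - v) (w - v) = 0) (htr : B (w - v) v + B v (w - v) = 0) :
    ∃ t ∈ tvGroup B, t v = w := by
  have h : (B (w - v) v)⁻¹ + σ (B (w - v) v)⁻¹ +
      σ (B (w - v) v)⁻¹ * (B (w - v) v)⁻¹ * B (w - v) (w - v) = 0 := by
    have hne' : B v (w - v) ≠ 0 := fun e => hne (hS.isRefl _ _ e)
    rw [hd, mul_zero, add_zero, map_inv₀, hS.eq, eq_neg_of_add_eq_zero_right htr, inv_neg,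
      add_neg_cancel]
  exact ⟨qrefl (w - v) _ h, Subgroup.subset_closure ⟨_, _, h, hd, rfl⟩, by
    rw [qrefl_apply, inv_mul_cancel₀ hne, one_smul, add_sub_cancel]⟩

/-- Transvection groups are transitive on anisotropic lines. -/
theorem line_map [Finite F] [FiniteDimensional F V] (hσ : σ ≠ RingHom.id F)
    (hσ2 : ∀ a, σ (σ a) = a) (hS : B.IsSymm) (hB : B.Nondegenerate)
    (hdim : 4 ≤ finrank F V ∨ (3 ≤ finrank F V ∧ ∃ y z : F, y ≠ 0 ∧ z ≠ 0 ∧ y ≠ z ∧
      y + σ y = 0 ∧ z + σ z = 0))
    {a b : V} (ha : B a a ≠ 0) (hb : B b b ≠ 0) : ∃ t ∈ tvGroup B, ∃ k : F, t a = k • b := by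
  -- same norm
  obtain ⟨c, hc⟩ := exists_norm_fixed hσ hσ2 (a := B a a / B b b) (div_ne_zero ha hb)
    (by rw [map_div₀, self_fixed hS, self_fixed hS])
  obtain ⟨v, hv⟩ : ∃ v, v = a := ⟨a, rfl⟩
  obtain ⟨w, hw⟩ : ∃ w, w = c • b := ⟨c • b, rfl⟩
  have hμ : B w w = B v v := by
    rw [hw, hv]
    simp only [LinearMap.map_smulₛₗ, LinearMap.smul_apply, RingHom.id_apply, smul_eq_mul]
    rw [← mul_assoc, mul_comm c, hc, div_mul_cancel₀ _ hb]
  suffices h : ∃ t ∈ tvGroup B, ∃ k : F, t v = k • w by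
    obtain ⟨t, ht, k, hk⟩ := h
    exact ⟨t, ht, k * c, by rw [← hv, hk, hw, smul_smul]⟩
  by_cases hdep : v ∈ Submodule.span F {w}
  · obtain ⟨k, hk⟩ := Submodule.mem_span_singleton.1 hdep
    exact ⟨1, one_mem _, k, hk.symm⟩
  have hdep' : w ∉ Submodule.span F {v} := by
    intro h
    obtain ⟨k, hk⟩ := Submodule.mem_span_singleton.1 h
    refine hdep (Submodule.mem_span_singleton.2 ⟨k⁻¹, ?_⟩)
    rw [← hk, smul_smul, inv_mul_cancel₀ (fun e => ha ?_), one_smul]
    rw [e, zero_smul] at hk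
    rw [← hv, ← hμ, ← hk]
    simp
  set μ := B v v with hμdef
  have hμσ : σ μ = μ := self_fixed hS v
  have hvanish : ∀ {x y : V}, x ∉ Submodule.span F {y} → ∃ u, B y u = 0 ∧ B x u = 1 := by
    intro x y hxy
    obtain ⟨u, hu, hxu⟩ := exists_perp_ne_zero hσ2 hS hB _ hxy
    exact ⟨(B x u)⁻¹ • u, by rw [map_smul, hu y (Submodule.mem_span_singleton_self y), smul_zero],
      by rw [map_smul, smul_eq_mul, inv_mul_cancel₀ hxu]⟩
  obtain ⟨uv, huv0, huv1⟩ := hvanish hdep
  obtain ⟨uw, huw0, huw1⟩ := hvanish hdep'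
  -- it is enough to find an intermediate vector
  suffices h : ∃ u z z', z + σ z = 0 ∧ z' + σ z' = 0 ∧ z ≠ 0 ∧ z' ≠ 0 ∧
      B v u = μ + z ∧ B w u = μ + z' ∧ B u u = μ by
    obtain ⟨u, z, z', hz, hz', hz0, hz'0, hvu, hwu, huu⟩ := h
    have huv : B u v = μ - z := by
      rw [← hS.eq, hvu, map_add, hμσ, eq_neg_of_add_eq_zero_right hz]; ring
    have huw : B u w = μ - z' := by
      rw [← hS.eq, hwu, map_add, hμσ, eq_neg_of_add_eq_zero_right hz']; ring
    obtain ⟨t₁, ht₁, h1⟩ := step_map hS (v := v) (w := u)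
      (by rw [map_sub B, LinearMap.sub_apply, huv, ← hμdef]; simpa using hz0)
      (by simp only [map_sub, LinearMap.sub_apply, huu, huv, hvu, ← hμdef]; ring)
      (by simp only [map_sub, LinearMap.sub_apply, huv, hvu, ← hμdef]; ring)
    obtain ⟨t₂, ht₂, h2⟩ := step_map hS (v := u) (w := w)
      (by rw [map_sub B, LinearMap.sub_apply, hwu, huu]; simpa using hz'0)
      (by simp only [map_sub, LinearMap.sub_apply, hμ, huu, huw, hwu, ← hμdef]; ring)
      (by simp only [map_sub, LinearMap.sub_apply, huu, huw, hwu]; ring)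
    exact ⟨t₂ * t₁, mul_mem ht₂ ht₁, 1, by rw [LinearEquiv.mul_apply, h1, h2, one_smul]⟩
  let K : Submodule F V := LinearMap.ker (B v) ⊓ LinearMap.ker (B w)
  have hK : finrank F V ≤ finrank F K + 2 := by
    have h4 := LinearMap.finrank_range_add_finrank_ker ((B v).prod (B w))
    have h5 := Submodule.finrank_le (LinearMap.range ((B v).prod (B w)))
    rw [LinearMap.ker_prod] at h4
    rw [Module.finrank_prod, Module.finrank_self] at h5
    show finrank F V ≤ finrank F ↥(LinearMap.ker (B v) ⊓ LinearMap.ker (B w)) + 2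
    omega
  have base : ∀ p p' : F, B v (p • uv + p' • uw) = p ∧ B w (p • uv + p' • uw) = p' := fun p p' =>
    ⟨by rw [map_add, map_smul, map_smul, huv1, huw0, smul_zero, smul_eq_mul, mul_one, add_zero],
     by rw [map_add, map_smul, map_smul, huv0, huw1, smul_zero, smul_eq_mul, mul_one, zero_add]⟩
  by_cases haniso : ∃ k ∈ K, B k k ≠ 0
  · obtain ⟨k, hk, hkk⟩ := haniso
    obtain ⟨hkv, hkw⟩ := Submodule.mem_inf.1 hk
    rw [LinearMap.mem_ker] at hkv hkw
    obtain ⟨z, hz0, hz⟩ := exists_trace_zero hσ hσ2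
    set u₀ := (μ + z) • uv + (μ + z) • uw
    obtain ⟨ρ, hρ⟩ : ∃ ρ : F, σ ρ * ρ = (μ - B u₀ u₀ + B u₀ k * B k u₀ / B k k) / B k k := by
      rcases eq_or_ne ((μ - B u₀ u₀ + B u₀ k * B k u₀ / B k k) / B k k) 0 with e | e
      · exact ⟨0, by rw [e, mul_zero]⟩
      · refine exists_norm_fixed hσ hσ2 e ?_
        simp only [map_div₀, map_add, map_sub, map_mul, hμσ, self_fixed hS, hS.eq u₀ k, hS.eq k u₀,
          mul_comm (B k u₀)]
    refine ⟨u₀ + (ρ - B k u₀ / B k k) • k, z, z, hz, hz, hz0, hz0, ?_, ?_, ?_⟩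
    · rw [map_add, map_smul, hkv, smul_zero, add_zero, (base _ _).1]
    · rw [map_add, map_smul, hkw, smul_zero, add_zero, (base _ _).2]
    · simp only [map_add, map_smul, LinearMap.add_apply, LinearMap.map_smulₛₗ, LinearMap.smul_apply,
        smul_eq_mul, map_sub, map_div₀, hS.eq k u₀, self_fixed hS]
      field_simp at hρ ⊢
      linear_combination hρ
  push Not at haniso
  have hKK : ∀ x ∈ K, ∀ y ∈ K, B x y = 0 := by
    intro x hx y hy
    by_contra hxy
    obtain ⟨c, hc⟩ : ∃ c : F, σ c ≠ c := by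
      by_contra hcon
      push Not at hcon
      exact hσ (RingHom.ext hcon)
    have h1 := haniso _ (K.add_mem hx hy)
    have h2 := haniso _ (K.add_mem (K.smul_mem c hx) hy)
    simp only [map_add, LinearMap.add_apply, LinearMap.map_smulₛₗ, LinearMap.smul_apply, map_smul,
      smul_eq_mul, RingHom.id_apply, haniso x hx, haniso y hy, mul_zero, add_zero, zero_add] at h1 h2
    have : (σ c - c) * B x y = 0 := by linear_combination h2 - c * h1
    exact hxy ((mul_eq_zero.1 this).resolve_left (sub_ne_zero.2 hc))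
  have hKS : K ≤ Submodule.span F {v} ⊔ Submodule.span F {w} := by
    intro x hx
    by_contra hxS
    obtain ⟨u, hu, hxu⟩ := exists_perp_ne_zero hσ2 hS hB _ hxS
    exact hxu (hKK x hx u (Submodule.mem_inf.2
      ⟨hu v (Submodule.mem_sup_left (Submodule.mem_span_singleton_self v)),
       hu w (Submodule.mem_sup_right (Submodule.mem_span_singleton_self w))⟩))
  rcases hdim with hdim | ⟨hdim, z₁, z₂, hz₁0, hz₂0, hz12, hz₁, hz₂⟩
  · exfalso
    have h2 : finrank F ↥(Submodule.span F {v} ⊔ Submodule.span F {w}) ≤ 2 := by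
      have h := Submodule.finrank_sup_add_finrank_inf_eq (Submodule.span F {v}) (Submodule.span F {w})
      have h1 : ∀ x : V, finrank F (Submodule.span F {x}) ≤ 1 := fun x => by
        by_cases hx : x = 0
        · rw [hx, Submodule.span_zero_singleton, finrank_bot]; omega
        · rw [finrank_span_singleton hx]
      have := h1 v
      have := h1 w
      omega
    have heq := Submodule.eq_of_le_of_finrank_le hKS (by omega)
    have : v ∈ K := heq ▸ Submodule.mem_sup_left (Submodule.mem_span_singleton_self v)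
    exact ha (by rw [← hv]; exact hKK v this v this)
  · obtain ⟨r, hr, hr0⟩ := Submodule.exists_mem_ne_zero_of_ne_bot
      (fun e : K = ⊥ => by rw [e, finrank_bot] at hK; omega)
    obtain ⟨x, hx, y, hy, hxy⟩ := Submodule.mem_sup.1 (hKS hr)
    obtain ⟨α, rfl⟩ := Submodule.mem_span_singleton.1 hx
    obtain ⟨β, rfl⟩ := Submodule.mem_span_singleton.1 hy
    obtain ⟨hrv, hrw⟩ := Submodule.mem_inf.1 hr
    rw [LinearMap.mem_ker] at hrv hrw
    have hβ : β ≠ 0 := by
      intro e
      rw [e, zero_smul, add_zero] at hxy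
      rw [← hxy, map_smul, smul_eq_mul, mul_eq_zero] at hrv
      rcases hrv with e' | e'
      · exact hr0 (by rw [← hxy, e', zero_smul])
      · exact ha (by rw [← hv]; exact e')
    obtain ⟨z', hz'0, hz', hne⟩ : ∃ z', z' ≠ 0 ∧ z' + σ z' = 0 ∧
        α * (μ - z₁) + β * (μ - z') ≠ 0 := by
      by_cases e : α * (μ - z₁) + β * (μ - z₁) = 0
      · refine ⟨z₂, hz₂0, hz₂, fun e' => hz12 ?_⟩
        exact mul_left_cancel₀ hβ (by linear_combination e' - e)
      · exact ⟨z₁, hz₁0, hz₁, e⟩
    set u₀ := (μ + z₁) • uv + (μ + z') • uw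
    have hur : B u₀ r = α * (μ - z₁) + β * (μ - z') := by
      rw [← hxy, map_add, map_smul, map_smul, ← hS.eq v u₀, ← hS.eq w u₀, (base _ _).1, (base _ _).2,
        map_add, map_add, hμσ, eq_neg_of_add_eq_zero_right hz₁, eq_neg_of_add_eq_zero_right hz']
      simp only [smul_eq_mul]
      ring
    rw [← hur] at hne
    obtain ⟨x, hx⟩ := exists_trace_eq hσ hσ2 (a := μ - B u₀ u₀)
      (by rw [map_sub, hμσ, self_fixed hS])
    refine ⟨u₀ + (x / B u₀ r) • r, z₁, z', hz₁, hz', hz₁0, hz'0, ?_, ?_, ?_⟩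
    · rw [map_add, map_smul, hrv, smul_zero, add_zero, (base _ _).1]
    · rw [map_add, map_smul, hrw, smul_zero, add_zero, (base _ _).2]
    · have hru : σ (B u₀ r) ≠ 0 := by simpa using hne
      simp only [map_add, map_smul, LinearMap.add_apply, LinearMap.map_smulₛₗ, LinearMap.smul_apply,
        smul_eq_mul, map_div₀, haniso r hr, ← hS.eq u₀ r, mul_zero, add_zero]
      rw [div_mul_cancel₀ _ hne, div_mul_cancel₀ _ hru]
      linear_combination hx

theorem det_qrefl [FiniteDimensional F V] (w : V) (l : F) (h : l + σ l + σ l * l * B w w = 0) :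
    LinearEquiv.det (qrefl w l h) = (1 : F) + l * B w w := by
  rw [LinearEquiv.coe_det]
  have e : ((qrefl w l h : V ≃ₗ[F] V) : V →ₗ[F] V) = LinearMap.transvection (l • B w) w :=
    LinearMap.ext fun x => by simp [LinearMap.transvection]
  rw [e, LinearMap.transvection.det]
  simp

/-- Isometries of determinant one are products of isotropic transvections. -/
theorem mem_tvGroup_iff [Finite F] [FiniteDimensional F V] (hσ : σ ≠ RingHom.id F)
    (hσ2 : ∀ a, σ (σ a) = a) (hS : B.IsSymm) (hB : B.Nondegenerate)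
    (hdim : 4 ≤ finrank F V ∨ (3 ≤ finrank F V ∧ ∃ y z : F, y ≠ 0 ∧ z ≠ 0 ∧ y ≠ z ∧
      y + σ y = 0 ∧ z + σ z = 0))
    (g : V ≃ₗ[F] V) : g ∈ tvGroup B ↔ g ∈ iso B ∧ LinearEquiv.det g = 1 := by
  have hdet : ∀ t ∈ tvGroup B, LinearEquiv.det t = 1 := by
    intro t ht
    induction ht using Subgroup.closure_induction with
    | mem x hx =>
      obtain ⟨w, l, h, hw, rfl⟩ := hx
      exact Units.ext (by rw [det_qrefl, hw, mul_zero, add_zero]; rfl)
    | one => exact map_one _
    | mul x y _ _ hx hy => rw [map_mul, hx, hy, mul_one]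
    | inv x _ hx => rw [map_inv, hx, inv_one]
  refine ⟨fun h => ⟨tvGroup_le_iso hS h, hdet g h⟩, fun ⟨hg, hd⟩ => ?_⟩
  obtain ⟨b, hb⟩ : ∃ b : V, B b b ≠ 0 := by
    by_contra h
    push Not at h
    have hz := eq_zero_of_self hσ hS h
    have : (⊤ : Submodule F V) = ⊥ := (Submodule.eq_bot_iff _).2 fun x _ =>
      hB.1 x fun y => by rw [hz]; rfl
    have h3 : finrank F V = 0 := by rw [← finrank_top, this, finrank_bot]
    omega
  let P : (V ≃ₗ[F] V) → Prop := fun g => ∃ t ∈ tvGroup B, ∃ (l : F)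
    (h : l + σ l + σ l * l * B b b = 0), g = t * qrefl b l h
  have hcomp : ∀ l m (h : l + σ l + σ l * l * B b b = 0) (h' : m + σ m + σ m * m * B b b = 0),
      ∃ h'' : (l + m + m * l * B b b) + σ (l + m + m * l * B b b) +
        σ (l + m + m * l * B b b) * (l + m + m * l * B b b) * B b b = 0,
      qrefl b m h' * qrefl b l h = qrefl b (l + m + m * l * B b b) h'' := by
    intro l m h h'
    refine ⟨?_, LinearEquiv.ext fun x => ?_⟩
    · simp only [map_add, map_mul, self_fixed hS]
      linear_combination (1 + B b b * m + B b b * σ m + B b b * B b b * σ m * m) * h + h'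
    · simp only [LinearEquiv.mul_apply, qrefl_apply, map_add, map_smul, smul_eq_mul, add_assoc,
        ← add_smul]
      module
  have hP1 : P 1 := ⟨1, one_mem _, 0, by simp, LinearEquiv.ext fun x => by simp⟩
  have hPmul : ∀ x y, P x → P y → P (x * y) := by
    rintro _ _ ⟨t, ht, l, h, rfl⟩ ⟨t', ht', l', h', rfl⟩
    obtain ⟨h'', e⟩ := hcomp l' l h' h
    refine ⟨t * (qrefl b l h * t' * (qrefl b l h)⁻¹),
      mul_mem ht (tvGroup_conj (qrefl_mem_iso hS b l h) ht'), _, h'', ?_⟩
    rw [← e]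
    group
  have hgen : ∀ (w : V) (l : F) (h : l + σ l + σ l * l * B w w = 0), P (qrefl w l h) := by
    intro w l h
    by_cases hw : B w w = 0
    · exact ⟨qrefl w l h, Subgroup.subset_closure ⟨w, l, h, hw, rfl⟩, 0, by simp,
        LinearEquiv.ext fun x => by simp [LinearEquiv.mul_apply]⟩
    obtain ⟨t, ht, k, hk⟩ := line_map hσ hσ2 hS hB hdim hw hb
    have htw : B w w = σ k * k * B b b := by
      rw [← tvGroup_le_iso hS ht w w, hk]
      simp [LinearMap.map_smulₛₗ, mul_assoc, mul_left_comm k]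
    have h' : σ k * k * l + σ (σ k * k * l) + σ (σ k * k * l) * (σ k * k * l) * B b b = 0 := by
      simp only [map_mul, hσ2]
      rw [htw] at h
      linear_combination (σ k * k) * h
    have e : t * qrefl w l h * t⁻¹ = qrefl b (σ k * k * l) h' := by
      rw [qrefl_conj (tvGroup_le_iso hS ht)]
      refine LinearEquiv.ext fun x => ?_
      simp only [qrefl_apply, hk, LinearMap.map_smulₛₗ, LinearMap.smul_apply, smul_eq_mul, smul_smul]
      congr 2
      ring
    refine ⟨t⁻¹ * (qrefl b (σ k * k * l) h' * t * (qrefl b (σ k * k * l) h')⁻¹),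
      mul_mem (inv_mem ht) (tvGroup_conj (qrefl_mem_iso hS _ _ _) ht), _, h', ?_⟩
    rw [← e]
    group
  have hPg : P g := by
    rw [iso_eq_qreflGroup hσ hσ2 hS hB] at hg
    have key : ∀ x ∈ qreflGroup B, P x ∧ P x⁻¹ := by
      intro x hx
      induction hx using Subgroup.closure_induction with
      | mem x hx =>
        obtain ⟨w, l, h, rfl⟩ := hx
        refine ⟨hgen w l h, ?_⟩
        have h' : σ l + σ (σ l) + σ (σ l) * σ l * B w w = 0 := by
          rw [hσ2]; linear_combination h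
        rw [show (qrefl w l h)⁻¹ = qrefl w (σ l) h' from LinearEquiv.ext fun x => rfl]
        exact hgen w (σ l) h'
      | one => exact ⟨hP1, by rw [inv_one]; exact hP1⟩
      | mul x y _ _ hx hy => exact ⟨hPmul x y hx.1 hy.1, by rw [mul_inv_rev]; exact hPmul _ _ hy.2 hx.2⟩
      | inv x _ hx => exact ⟨hx.2, by rw [inv_inv]; exact hx.1⟩
    exact (key g hg).1
  obtain ⟨t, ht, l, h, rfl⟩ := hPg
  rw [map_mul, hdet t ht, one_mul] at hd
  have hl : l = 0 := by
    have h1 := det_qrefl b l h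
    rw [hd, Units.val_one, left_eq_add, mul_eq_zero] at h1
    exact h1.resolve_right hb
  subst hl
  have : qrefl b (0 : F) h = 1 := LinearEquiv.ext fun x => by simp
  rw [this, mul_one]
  exact ht

end Cfsg.Lib.Linear.Herm
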