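import Cfsg.Agent.Lib.Linear.SLBasic

/-!
# `SL` is perfect over fields with at least four elements
-/

set_option autoImplicit false

namespace Cfsg.Lib.Linear

open Matrix
open scoped MatrixGroups commutatorElement

variable {ι : Type*} [Fintype ι] [DecidableEq ι] {F : Type*} [Field F]

theorem transvection_eq_diag_commutator {i j : ι} (hij : i ≠ j) (a : F) (ha : a ≠ 0) (ha2 : a * a ≠ 1) (c : F) :
    SpecialLinearGroup.transvection hij c =
      ⁅SpecialLinearGroup.diag2n hij a ha, SpecialLinearGroup.transvection hij (c / (a * a - 1))⁆ := by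
  have hne : a * a - 1 ≠ 0 := sub_ne_zero.2 ha2
  rw [commutatorElement_def, eq_mul_inv_iff_mul_eq, eq_mul_inv_iff_mul_eq]
  set t := c / (a * a - 1) with ht
  refine Subtype.ext ?_
  show (SpecialLinearGroup.transvection hij c).1 * (SpecialLinearGroup.transvection hij t).1 *
      (SpecialLinearGroup.diag2n hij a ha).1 =
    (SpecialLinearGroup.diag2n hij a ha).1 * (SpecialLinearGroup.transvection hij t).1
  have e : single i j c * single i j t = 0 := single_mul_single_of_ne (h := hij.symm) ..
  rw [SpecialLinearGroup.transvection_coe, SpecialLinearGroup.transvection_coe, SpecialLinearGroup.diag2n_coe]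
  simp only [Matrix.mul_add, Matrix.add_mul, Matrix.one_mul, Matrix.mul_one, e, Matrix.zero_mul, add_zero, add_assoc]
  congr 1
  ext r s
  simp only [Matrix.add_apply, Matrix.diagonal_mul, Matrix.mul_diagonal, Matrix.single_apply]
  by_cases h : i = r ∧ j = s
  · obtain ⟨rfl, rfl⟩ := h
    simp [hij, hij.symm]
    have h2 : t * (a * a - 1) = c := div_mul_cancel₀ c hne
    field_simp
    linear_combination -h2
  · simp [h]

theorem exists_sq_ne_one [Fintype F] (h : 4 ≤ Fintype.card F) : ∃ a : F, a ≠ 0 ∧ a * a ≠ 1 := by
  classical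
  by_contra hno
  push Not at hno
  have hsub : (Finset.univ : Finset F) ⊆ {0, 1, -1} := by
    intro x _
    rcases eq_or_ne x 0 with hx | hx
    · simp [hx]
    · rcases mul_self_eq_one_iff.1 (hno x hx) with h' | h' <;> simp [h']
  have := (Finset.card_le_card hsub).trans Finset.card_le_three
  rw [Finset.card_univ] at this
  omega

/-- `SL` is perfect, apart from `SL_2(2)` and `SL_2(3)`. -/
theorem commutator_SL_eq_top' [Fintype F] (h : 3 ≤ Fintype.card ι ∨ 4 ≤ Fintype.card F) :
    commutator (SpecialLinearGroup ι F) = ⊤ := by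
  rcases h with h | h
  · exact commutator_SL_eq_top h
  obtain ⟨a, ha, ha2⟩ := exists_sq_ne_one h
  rw [eq_top_iff, ← closure_transvection_eq_top, Subgroup.closure_le]
  rintro _ ⟨i, j, hij, c, rfl⟩
  rw [transvection_eq_diag_commutator hij a ha ha2 c]
  exact Subgroup.commutator_mem_commutator (Subgroup.mem_top _) (Subgroup.mem_top _)

end Cfsg.Lib.Linear
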