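import Cfsg.Agent.Lib.Linear.Absorb

/-!
# Element orders of `PSL_n(q)` and a prime divisor of `q - 1` not dividing `n`

Every element either commutes with a non-central element of order `r`, or its order divides the
product of the order of a projective Singer element and the exponent of a Sylow `p`-subgroup.
-/

set_option autoImplicit false

namespace Cfsg.Lib.Linear.AbsorbPSL

open Matrix Polynomial
open scoped MatrixGroups

section Polynomials

variable {F : Type*} [Field F] [Fintype F]

theorem expand_pow_card (f : F[X]) (T : ℕ) :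
    f ^ (Fintype.card F ^ T) = expand F (Fintype.card F ^ T) f := by
  induction T with
  | zero => simp
  | succ T ih => rw [pow_succ, pow_mul, ih, ← map_pow, ← FiniteField.expand_card, expand_expand]

theorem aeval_pow_card {A : Type*} [Ring A] [Algebra F A] (w : A) (f : F[X]) (T : ℕ)
    (hw : w ^ (Fintype.card F ^ T) = w) : (aeval w f) ^ (Fintype.card F ^ T) = aeval w f := by
  rw [← map_pow, expand_pow_card, expand_aeval, hw]

/-- A semisimple element with no nontrivial idempotent in its polynomial algebra has irreducible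
minimal polynomial. -/
theorem irreducible_minpoly {A : Type*} [Ring A] [Nontrivial A] [Algebra F A] [Module.Finite F A] (w : A) {T : ℕ}
    (hT : 1 ≤ T) (hw : w ^ (Fintype.card F ^ T) = w)
    (hE : ∀ f : F[X], IsIdempotentElem (aeval w f) → aeval w f = 0 ∨ aeval w f = 1) :
    Irreducible (minpoly F w) := by
  have hQ : 2 ≤ Fintype.card F ^ T :=
    (Fintype.one_lt_card (α := F)).trans_le (Nat.le_self_pow (by omega) _)
  have hunit : ∀ f : F[X], aeval w f = 0 ∨ IsUnit (aeval w f) := by
    intro f
    obtain ⟨Q, hQe⟩ : ∃ Q, Fintype.card F ^ T = Q + 2 := ⟨Fintype.card F ^ T - 2, by omega⟩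
    have ha := aeval_pow_card w f T hw
    rw [hQe] at ha
    have hidem : IsIdempotentElem (aeval w (f ^ (Q + 1))) := by
      rw [IsIdempotentElem, map_pow, ← pow_add, show Q + 1 + (Q + 1) = Q + 2 + Q by omega, pow_add, ha,
        ← pow_succ']
    rcases hE _ hidem with h0 | h1
    · rw [map_pow] at h0
      exact Or.inl (by rw [← ha, pow_succ, h0, zero_mul])
    · rw [map_pow] at h1
      exact Or.inr (IsUnit.of_pow_eq_one h1 (Nat.succ_ne_zero _))
  have hint : IsIntegral F w := Algebra.IsIntegral.isIntegral w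
  refine ⟨minpoly.not_isUnit F w, fun a b hab => ?_⟩
  have h0 : aeval w a * aeval w b = 0 := by rw [← map_mul, ← hab, minpoly.aeval]
  have ha0 : a ≠ 0 := left_ne_zero_of_mul (hab ▸ minpoly.ne_zero hint)
  have hb0 : b ≠ 0 := right_ne_zero_of_mul (hab ▸ minpoly.ne_zero hint)
  rcases hunit a with ha | ha
  · right
    have hd := Polynomial.natDegree_le_of_dvd (minpoly.dvd F w ha) ha0
    rw [hab, natDegree_mul ha0 hb0] at hd
    exact Polynomial.isUnit_iff_degree_eq_zero.2 (by rw [degree_eq_natDegree hb0]; norm_cast; omega)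
  · left
    have hb : aeval w b = 0 := ha.mul_right_eq_zero.1 h0
    have hd := Polynomial.natDegree_le_of_dvd (minpoly.dvd F w hb) hb0
    rw [hab, natDegree_mul ha0 hb0] at hd
    exact Polynomial.isUnit_iff_degree_eq_zero.2 (by rw [degree_eq_natDegree ha0]; norm_cast; omega)

end Polynomials

section Group

variable {n : ℕ} {F : Type*} [Field F]

/-- The class in `PSL`. -/
abbrev cls (g : Matrix.SpecialLinearGroup (Fin n) F) : ProjectiveSpecialLinearGroup (Fin n) F :=
  QuotientGroup.mk g

theorem cls_pow_eq_one_iff (g : Matrix.SpecialLinearGroup (Fin n) F) (N : ℕ) :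
    cls g ^ N = 1 ↔ ∃ c : F, (g : Matrix (Fin n) (Fin n) F) ^ N = Matrix.scalar (Fin n) c := by
  rw [cls, ← QuotientGroup.mk_pow, QuotientGroup.eq_one_iff, Matrix.SpecialLinearGroup.mem_center_iff]
  constructor
  · rintro ⟨c, -, hc⟩
    exact ⟨c, by rw [hc, Matrix.SpecialLinearGroup.coe_pow]⟩
  · rintro ⟨c, hc⟩
    refine ⟨c, ?_, by rw [← hc, Matrix.SpecialLinearGroup.coe_pow]⟩
    have := congrArg Matrix.det hc
    rw [Matrix.det_pow, g.2, one_pow, Matrix.scalar_apply, Matrix.det_diagonal, Finset.prod_const,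
      Finset.card_univ] at this
    exact this.symm

theorem det_idempotent_comb {E : Matrix (Fin n) (Fin n) F} (hE : IsIdempotentElem E) :
    ∃ m, m ≤ n ∧ ∀ a b : F, (a • E + b • (1 - E)).det = a ^ m * b ^ (n - m) := by
  have hf : IsIdempotentElem (Matrix.toLin' E) := by
    rw [IsIdempotentElem, Module.End.mul_eq_comp, ← Matrix.toLin'_mul, hE.eq]
  have hp := LinearMap.IsIdempotentElem.isProj_range _ hf
  set P := LinearMap.range (Matrix.toLin' E)
  set K := LinearMap.ker (Matrix.toLin' E)
  have hsum : Module.finrank F P + Module.finrank F K = n := by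
    rw [LinearMap.finrank_range_add_finrank_ker, Module.finrank_pi, Fintype.card_fin]
  refine ⟨Module.finrank F P, by omega, fun a b => ?_⟩
  let φ := P.prodEquivOfIsCompl K hp.isCompl
  have he : Matrix.toLin' (a • E + b • (1 - E)) = φ.conj ((a • LinearMap.id).prodMap (b • LinearMap.id)) := by
    have h1 : Matrix.toLin' E = φ.conj (LinearMap.prodMap LinearMap.id 0) := hp.eq_conj_prodMap
    have h2 : LinearMap.id = φ.conj (LinearMap.prodMap LinearMap.id LinearMap.id) := by
      rw [LinearMap.prodMap_id, LinearEquiv.conj_id]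
    rw [map_add, map_smul, map_smul, map_sub, Matrix.toLin'_one, h1, h2, ← map_sub, ← map_smul, ← map_smul,
      ← map_add]
    congr 1
    ext x <;> simp
  rw [← LinearMap.det_toLin', he, LinearEquiv.conj_apply, LinearMap.comp_assoc, LinearMap.det_conj, LinearMap.det_prodMap, LinearMap.det_smul,
    LinearMap.det_smul, LinearMap.det_id, LinearMap.det_id, mul_one, mul_one,
    show n - Module.finrank F P = Module.finrank F K by omega]

/-- A non-central element of order `r` built from an idempotent. -/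
theorem exists_orderOf_eq_of_idempotent {r : ℕ} (hr : r.Prime) {ζ : F} (hζ : IsPrimitiveRoot ζ r)
    (hrn : ¬ r ∣ n) {E : Matrix (Fin n) (Fin n) F} (hE : IsIdempotentElem E) (hE0 : E ≠ 0) (hE1 : E ≠ 1) :
    ∃ h : Matrix.SpecialLinearGroup (Fin n) F, orderOf (cls h) = r ∧
      ∀ x : Matrix.SpecialLinearGroup (Fin n) F, Commute (x : Matrix (Fin n) (Fin n) F) E → Commute (cls x) (cls h) := by
  obtain ⟨m, hm, hdet⟩ := det_idempotent_comb hE
  set a := ζ ^ (n - m)
  set b := ζ ^ ((r - 1) * m)
  have hζr : ζ ^ r = 1 := hζ.pow_eq_one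
  have hd : (a • E + b • (1 - E)).det = 1 := by
    rw [hdet, ← pow_mul, ← pow_mul, ← pow_add]
    have : (n - m) * m + (r - 1) * m * (n - m) = r * (m * (n - m)) := by
      obtain ⟨r, rfl⟩ : ∃ s, r = s + 1 := ⟨r - 1, by have := hr.two_le; omega⟩
      simp only [Nat.add_sub_cancel]; ring
    rw [this, pow_mul, hζr, one_pow]
  have hne : a ≠ b := by
    intro hab
    have h1 : ζ ^ n = 1 := by
      have := congrArg (fun t => t * ζ ^ m) hab
      simp only [a, b, ← pow_add] at this
      rw [Nat.sub_add_cancel hm] at this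
      rw [this, show (r - 1) * m + m = r * m by
        obtain ⟨r, rfl⟩ : ∃ s, r = s + 1 := ⟨r - 1, by have := hr.two_le; omega⟩
        simp only [Nat.add_sub_cancel]; ring, pow_mul, hζr, one_pow]
    exact hrn ((hζ.pow_eq_one_iff_dvd n).1 h1)
  have hEc : E * (1 - E) = 0 := by rw [mul_sub, mul_one, hE.eq, sub_self]
  have hcE : (1 - E) * E = 0 := by rw [sub_mul, one_mul, hE.eq, sub_self]
  have hpow : ∀ N, 1 ≤ N → (a • E + b • (1 - E)) ^ N = a ^ N • E + b ^ N • (1 - E) := by
    intro N hN
    induction N, hN using Nat.le_induction with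
    | base => simp
    | succ N _ ih =>
      rw [pow_succ, ih]
      simp only [add_mul, mul_add, smul_mul_assoc, mul_smul_comm, hE.eq, hE.one_sub.eq, hEc, hcE, smul_zero,
        add_zero, zero_add, smul_smul, pow_succ]
      simp [mul_comm]
  let H : Matrix.SpecialLinearGroup (Fin n) F := ⟨a • E + b • (1 - E), hd⟩
  refine ⟨H, ?_, fun x hx => ?_⟩
  · have : Fact r.Prime := ⟨hr⟩
    refine orderOf_eq_prime ?_ ?_
    · rw [cls_pow_eq_one_iff]
      refine ⟨1, ?_⟩
      rw [map_one]
      show (a • E + b • (1 - E)) ^ r = 1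
      rw [hpow r hr.one_le, ← pow_mul, ← pow_mul, mul_comm (n - m), mul_comm ((r - 1) * m), pow_mul, pow_mul,
        hζr, one_pow, one_pow, one_smul, one_smul, add_sub_cancel]
    · intro h1
      obtain ⟨c, hc⟩ := (cls_pow_eq_one_iff _ 1).1 (by rw [pow_one]; exact h1)
      rw [pow_one] at hc
      change a • E + b • (1 - E) = Matrix.scalar (Fin n) c at hc
      have e : (a - b) • E = (c - b) • (1 : Matrix (Fin n) (Fin n) F) := by
        rw [sub_smul, sub_smul, Matrix.smul_one_eq_diagonal c, ← Matrix.scalar_apply, ← hc, smul_sub]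
        abel
      have hEs : E = ((a - b)⁻¹ * (c - b)) • (1 : Matrix (Fin n) (Fin n) F) := by
        rw [← smul_smul, ← e, smul_smul, inv_mul_cancel₀ (sub_ne_zero.2 hne), one_smul]
      set t := (a - b)⁻¹ * (c - b)
      rcases n with _ | k
      · exact hE0 (Subsingleton.elim _ _)
      have ht : t * t = t := by
        have h2 := congrArg (fun M : Matrix (Fin (k + 1)) (Fin (k + 1)) F => M 0 0) hE.eq
        rw [hEs] at h2
        simpa using h2
      rcases mul_eq_zero.1 (show t * (t - 1) = 0 by rw [mul_sub, mul_one, ht, sub_self]) with ht0 | ht1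
      · exact hE0 (by rw [hEs, ht0, zero_smul])
      · exact hE1 (by rw [hEs, sub_eq_zero.1 ht1, one_smul])
  · refine (Commute.map (?_ : Commute x _) (QuotientGroup.mk' (Subgroup.center (Matrix.SpecialLinearGroup (Fin n) F))))
    exact Subtype.ext ((hx.smul_right a).add_right (((Commute.one_right _).sub_right hx).smul_right b))

end Group

section Dichotomy

variable {n : ℕ} {F : Type*} [Field F] [Fintype F] (p : ℕ) [Fact p.Prime] [CharP F p]

omit [Fintype F] in
theorem pow_eq_one_of_unipotent [NeZero n] {u : Matrix (Fin n) (Fin n) F} {a e : ℕ}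
    (he : n ≤ p ^ e) (hu : u ^ (p ^ a) = 1) : u ^ (p ^ e) = 1 := by
  have hnil : IsNilpotent (u - 1) := by
    refine ⟨p ^ a, ?_⟩
    rw [sub_pow_char_pow_of_commute (p := p) (n := a) (Commute.one_right u), hu, one_pow, sub_self]
  have h0 : (u - 1) ^ n = 0 := by
    have := Matrix.aeval_self_charpoly (u - 1)
    rwa [Matrix.isNilpotent_charpoly_sub_pow_of_isNilpotent hnil |> fun h => (isNilpotent_iff_eq_zero.1 h |> sub_eq_zero.1), map_pow, aeval_X, Fintype.card_fin] at this
  have := sub_pow_char_pow_of_commute (p := p) (n := e) (h := Commute.one_right u)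
  rw [pow_eq_zero_of_le he h0, one_pow] at this
  exact sub_eq_zero.1 this.symm

theorem gcd_dvd_geomSum (n q : ℕ) (hq : 1 ≤ q) : n.gcd (q - 1) ∣ ∑ i ∈ Finset.range n, q ^ i := by
  set g := n.gcd (q - 1)
  have hq' : q ≡ 1 [MOD g] := ((Nat.modEq_iff_dvd' hq).2 (Nat.gcd_dvd_right _ _)).symm
  have hs : ∀ s, (∑ i ∈ Finset.range s, q ^ i) ≡ s [MOD g] := fun s => by
    induction s with
    | zero => rfl
    | succ s ih => rw [Finset.sum_range_succ]; exact ih.add (by simpa using hq'.pow s)
  exact Nat.modEq_zero_iff_dvd.1 ((hs n).trans (Nat.modEq_zero_iff_dvd.2 (Nat.gcd_dvd_left _ _)))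

/-- The projective order of a Singer element. -/
def singerN (n q : ℕ) : ℕ := (∑ i ∈ Finset.range n, q ^ i) / n.gcd (q - 1)

omit [Fintype F] in
theorem exists_pow_card_fix [Fintype F] {e : ℕ} [NeZero n] (he : n ≤ p ^ e) (x : Matrix.SpecialLinearGroup (Fin n) F) :
    ∃ T, 1 ≤ T ∧ ((x : Matrix (Fin n) (Fin n) F) ^ (p ^ e)) ^ (Fintype.card F ^ T) =
      (x : Matrix (Fin n) (Fin n) F) ^ (p ^ e) := by
  obtain ⟨a, b, hb, hab⟩ := Nat.exists_eq_pow_mul_and_not_dvd (orderOf_pos x).ne' p (Fact.out : p.Prime).ne_one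
  have hu : ((x : Matrix (Fin n) (Fin n) F) ^ b) ^ (p ^ a) = 1 := by
    rw [← pow_mul, mul_comm, ← hab, ← Matrix.SpecialLinearGroup.coe_pow, pow_orderOf_eq_one]; rfl
  have hwb : ((x : Matrix (Fin n) (Fin n) F) ^ (p ^ e)) ^ b = 1 := by
    rw [← pow_mul, mul_comm, pow_mul]
    exact pow_eq_one_of_unipotent p he hu
  obtain ⟨k, hk⟩ := FiniteField.card F p
  have hco : (Fintype.card F).Coprime b := by
    rw [hk.2]; exact Nat.Coprime.pow_left _ ((Fact.out : p.Prime).coprime_iff_not_dvd.2 hb)
  have hb0 : 0 < b := Nat.pos_of_ne_zero fun h => hb (h ▸ dvd_zero p)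
  refine ⟨b.totient, Nat.totient_pos.2 hb0, ?_⟩
  have h1 := Nat.div_add_mod (Fintype.card F ^ b.totient) b
  have h2 : Fintype.card F ^ b.totient % b = 1 % b := Nat.ModEq.pow_totient hco
  rcases Nat.lt_or_ge 1 b with hb1 | hb1
  · rw [Nat.mod_eq_of_lt hb1] at h2
    rw [← h1, h2, pow_add, pow_mul, hwb, one_pow, one_mul, pow_one]
  · have : b = 1 := by omega
    rw [this, pow_one] at hwb
    rw [hwb, one_pow]

/-- The dichotomy for elements of `PSL_n(q)`. -/
theorem dichotomy {r : ℕ} (hr : r.Prime) {ζ : F} (hζ : IsPrimitiveRoot ζ r) (hrn : ¬ r ∣ n) {e : ℕ}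
    [NeZero n] (he : n ≤ p ^ e) (x : ProjectiveSpecialLinearGroup (Fin n) F) :
    (∃ y : ProjectiveSpecialLinearGroup (Fin n) F, orderOf x ∣ orderOf y ∧ r ∣ orderOf y) ∨ orderOf x ∣ p ^ e * singerN n (Fintype.card F) := by
  obtain ⟨g, rfl⟩ := QuotientGroup.mk_surjective x
  set M : Matrix (Fin n) (Fin n) F := (g : Matrix (Fin n) (Fin n) F)
  set w := M ^ (p ^ e) with hw
  by_cases hE : ∀ f : F[X], IsIdempotentElem (aeval w f) → aeval w f = 0 ∨ aeval w f = 1
  swap
  · left
    push Not at hE
    obtain ⟨f, hf, hf0, hf1⟩ := hE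
    obtain ⟨h, ho, hc⟩ := exists_orderOf_eq_of_idempotent hr hζ hrn hf hf0 hf1
    refine Absorb.exists_dvd_of_commute hr (hc g ?_) ho
    show Commute M (aeval w f)
    rw [show w = aeval M ((X : F[X]) ^ (p ^ e)) by simp [hw], ← aeval_comp]
    have hh := (Commute.all (X : F[X]) (f.comp (X ^ (p ^ e)))).map (aeval M)
    rwa [aeval_X] at hh
  right
  obtain ⟨T, hT, hwT⟩ := exists_pow_card_fix p he g
  have : Fact (Irreducible (minpoly F w)) := ⟨irreducible_minpoly w hT hwT hE⟩
  let K := AdjoinRoot (minpoly F w)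
  have hPne : minpoly F w ≠ 0 := minpoly.ne_zero (Algebra.IsIntegral.isIntegral w)
  have : Module.Finite F K := (AdjoinRoot.powerBasis hPne).finite
  have : Finite K := Module.finite_of_finite F
  let φ : K →ₐ[F] Matrix (Fin n) (Fin n) F :=
    Ideal.Quotient.liftₐ (Ideal.span {minpoly F w}) (aeval w) fun f hf => by
      obtain ⟨t, rfl⟩ := Ideal.mem_span_singleton'.1 hf
      rw [map_mul, minpoly.aeval, mul_zero]
  let ψ : K →ₐ[F] Module.End F (Fin n → F) := (Matrix.toLinAlgEquiv' : Matrix (Fin n) (Fin n) F ≃ₐ[F] _).toAlgHom.comp φ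
  let : Module K (Fin n → F) := Module.compHom _ ψ.toRingHom
  have : IsScalarTower F K (Fin n → F) := ⟨fun c a v => by
    show ψ (c • a) v = c • ψ a v
    rw [map_smul]; rfl⟩
  have : Module.Finite K (Fin n → F) := Module.Finite.of_restrictScalars_finite F K _
  set k := Module.finrank K (Fin n → F)
  have hdk : Module.finrank F K * k = n := by
    rw [Module.finrank_mul_finrank, Module.finrank_pi, Fintype.card_fin]
  set d := Module.finrank F K
  have hdetφ : ∀ c : K, (φ c).det = Algebra.norm F c ^ k := by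
    intro c
    have e1 : Matrix.toLin' (φ c) = (c • (LinearMap.id : (Fin n → F) →ₗ[K] (Fin n → F))).restrictScalars F :=
      LinearMap.ext fun v => rfl
    rw [← LinearMap.det_toLin', e1, LinearMap.det_restrictScalars, LinearMap.det_smul, LinearMap.det_id, mul_one,
      map_pow]
  set ρ : K := AdjoinRoot.root (minpoly F w)
  have hφρ : φ ρ = w := by
    show aeval w (X : F[X]) = w
    exact aeval_X w
  set q := Fintype.card F with hq
  have hq1 : 1 < q := Fintype.one_lt_card
  have hnorm : Algebra.norm F ρ ^ k = 1 := by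
    rw [← hdetφ, hφρ, hw, Matrix.det_pow, g.2, one_pow]
  have hρN : ρ ^ (∑ i ∈ Finset.range n, q ^ i) = 1 := by
    have hd : algebraMap F K (Algebra.norm F ρ) = ρ ^ ∑ i ∈ Finset.range d, q ^ i := by
      rw [FiniteField.algebraMap_norm_eq_pow, Module.natCard_eq_pow_finrank (K := F), Nat.card_eq_fintype_card,
        ← hq, Nat.geomSum_eq hq1]
    have hfix : ∀ j, (ρ ^ ∑ i ∈ Finset.range d, q ^ i) ^ (q ^ j) = ρ ^ ∑ i ∈ Finset.range d, q ^ i := by
      intro j
      rw [← hd, ← map_pow, FiniteField.pow_card_pow]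
    have hsum : ∀ j, ρ ^ (∑ i ∈ Finset.range (d * j), q ^ i) = (ρ ^ ∑ i ∈ Finset.range d, q ^ i) ^ j := by
      intro j
      induction j with
      | zero => simp
      | succ j ih =>
        rw [Nat.mul_succ, Finset.sum_range_add, pow_add, ih, pow_succ]
        congr 1
        simp_rw [pow_add, ← Finset.mul_sum]
        rw [mul_comm, pow_mul, hfix]
    have hk := hsum k
    rw [hdk] at hk
    rw [hk, ← hd, ← map_pow, hnorm, map_one]
  have hgd := gcd_dvd_geomSum n q hq1.le
  obtain ⟨c, hc⟩ : ∃ c : F, algebraMap F K c = ρ ^ singerN n q := by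
    have hz : (ρ ^ singerN n q) ^ q = ρ ^ singerN n q := by
      obtain ⟨t, ht⟩ := Nat.gcd_dvd_right n (q - 1)
      have h1 : (ρ ^ singerN n q) ^ (q - 1) = 1 := by
        rw [← pow_mul, ht, ← mul_assoc, singerN, Nat.div_mul_cancel hgd, pow_mul, hρN, one_pow]
      calc (ρ ^ singerN n q) ^ q = (ρ ^ singerN n q) ^ (q - 1) * ρ ^ singerN n q := by
            rw [← pow_succ, Nat.sub_add_cancel hq1.le]
        _ = ρ ^ singerN n q := by rw [h1, one_mul]
    have hmem : ρ ^ singerN n q ∈ (⊥ : Subfield K) ⊔ (algebraMap F K).fieldRange := by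
      by_contra hnot
      classical
      let : Fintype K := Fintype.ofFinite K
      have hP : ((X : K[X]) ^ q - X) ≠ 0 := FiniteField.X_pow_card_sub_X_ne_zero K hq1
      have hS : insert (ρ ^ singerN n q) (Finset.univ.image (algebraMap F K)) ⊆ ((X : K[X]) ^ q - X).roots.toFinset := by
        intro z hz'
        rw [Multiset.mem_toFinset, mem_roots hP]
        rw [Finset.mem_insert, Finset.mem_image] at hz'
        rcases hz' with rfl | ⟨c, -, rfl⟩
        · simp [hz]
        · simp [← map_pow, hq, FiniteField.pow_card]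
      have hni : ρ ^ singerN n q ∉ Finset.univ.image (algebraMap F K) := fun hh => by
        obtain ⟨c, -, hc⟩ := Finset.mem_image.1 hh
        exact hnot (le_sup_right (a := (⊥ : Subfield K)) ⟨c, hc⟩)
      have := (Finset.card_le_card hS).trans ((Multiset.toFinset_card_le _).trans (card_roots' _))
      rw [Finset.card_insert_of_notMem hni, Finset.card_image_of_injective _ (algebraMap F K).injective,
        Finset.card_univ, FiniteField.X_pow_card_sub_X_natDegree_eq K hq1, ← hq] at this
      omega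
    rw [bot_sup_eq] at hmem
    exact hmem
  refine orderOf_dvd_of_pow_eq_one ((cls_pow_eq_one_iff _ _).2 ⟨c, ?_⟩)
  rw [pow_mul, ← hw, ← hφρ, ← map_pow, ← hc, AlgHom.commutes]
  rfl

end Dichotomy

section Elements

variable {n : ℕ} {F : Type*} [Field F] [Fintype F] (p : ℕ) [Fact p.Prime] [CharP F p]

include p in
/-- A projective Singer element. -/
theorem exists_singer [NeZero n] :
    ∃ y : ProjectiveSpecialLinearGroup (Fin n) F, singerN n (Fintype.card F) ∣ orderOf y := by
  let K := FiniteField.Extension F p n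
  let b : Module.Basis (Fin n) F K := (Module.finBasis F K).reindex (finCongr (FiniteField.finrank_extension F p n))
  set q := Fintype.card F with hq
  have hq1 : 1 < q := Fintype.one_lt_card
  obtain ⟨ω, hω⟩ := IsCyclic.exists_ofOrder_eq_natCard (α := Kˣ)
  rw [Nat.card_units, FiniteField.natCard_extension, Nat.card_eq_fintype_card, ← hq] at hω
  set S := ∑ i ∈ Finset.range n, q ^ i
  have hS : q ^ n - 1 = (q - 1) * S := by
    have := geom_sum_mul_add (q - 1) n
    rw [Nat.sub_add_cancel hq1.le] at this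
    rw [← this, Nat.add_sub_cancel, mul_comm]
  rw [hS] at hω
  set v : Kˣ := ω ^ (q - 1)
  have hvo : orderOf v = S := by
    rw [orderOf_pow' _ (by omega), hω, Nat.gcd_eq_right (dvd_mul_right _ _), Nat.mul_div_cancel_left _ (by omega)]
  have hnv : Algebra.norm F (v : K) = 1 := by
    have : ((ω : K)) ≠ 0 := ω.ne_zero
    rw [Units.val_pow_eq_pow_val, map_pow]
    exact FiniteField.pow_card_sub_one_eq_one _ (fun h => this (Algebra.norm_eq_zero_iff.1 h))
  have hdet : (Algebra.leftMulMatrix b (v : K)).det = 1 := by rw [← Algebra.norm_eq_matrix_det b, hnv]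
  refine ⟨cls ⟨_, hdet⟩, ?_⟩
  obtain ⟨c, hc⟩ := (cls_pow_eq_one_iff _ _).1 (pow_orderOf_eq_one (cls (⟨_, hdet⟩ : Matrix.SpecialLinearGroup (Fin n) F)))
  generalize orderOf (cls (⟨_, hdet⟩ : Matrix.SpecialLinearGroup (Fin n) F)) = N at hc ⊢
  change (Algebra.leftMulMatrix b (v : K)) ^ N = Matrix.scalar (Fin n) c at hc
  have hvc : (v : K) ^ N = algebraMap F K c := by
    refine Algebra.leftMulMatrix_injective b ?_
    rw [map_pow, hc, AlgHom.commutes]
    rfl
  have hcn : c ^ n = 1 := by
    have := congrArg (Algebra.norm F) hvc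
    rw [map_pow, hnv, one_pow, Algebra.norm_algebraMap, FiniteField.finrank_extension] at this
    exact this.symm
  have hc0 : c ≠ 0 := fun h => by simp [h, NeZero.ne n] at hcn
  have hcg : c ^ n.gcd (q - 1) = 1 := pow_gcd_eq_one.2 ⟨hcn, FiniteField.pow_card_sub_one_eq_one c hc0⟩
  have hvg : v ^ (N * n.gcd (q - 1)) = 1 := by
    ext
    rw [Units.val_pow_eq_pow_val, pow_mul, hvc, ← map_pow, hcg, map_one, Units.val_one]
  have hd := orderOf_dvd_of_pow_eq_one hvg
  rw [hvo] at hd
  exact (Nat.div_dvd_iff_dvd_mul (gcd_dvd_geomSum n q hq1.le)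
    (Nat.gcd_pos_of_pos_left _ (NeZero.pos n))).2 (by rwa [mul_comm] at hd)

/-- The nilpotent shift on the first `l` coordinates. -/
def shift (n l : ℕ) (F : Type*) [Field F] : Matrix (Fin n) (Fin n) F :=
  Matrix.of fun i j => if j.val = i.val + 1 ∧ j.val < l then 1 else 0

omit [Fintype F] in
theorem shift_pow_apply (l k : ℕ) (hk : 1 ≤ k) (i j : Fin n) :
    (shift n l F ^ k) i j = if j.val = i.val + k ∧ j.val < l then 1 else 0 := by
  induction k, hk using Nat.le_induction generalizing j with
  | base => simp [shift]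
  | succ k hk ih =>
    rw [pow_succ, Matrix.mul_apply]
    simp only [ih]
    rcases Nat.eq_zero_or_pos j.val with hj | hj
    · rw [Finset.sum_eq_zero fun x _ => by simp [shift, hj], if_neg (by omega)]
    · rw [Finset.sum_eq_single ⟨j.val - 1, by omega⟩ (fun x _ hx => by
          have hx' : x.val ≠ j.val - 1 := fun h => hx (Fin.ext h)
          simp [shift, show j.val ≠ x.val + 1 by omega]) (by simp)]
      simp only [shift, Matrix.of_apply]
      split_ifs <;> first | omega | simp

omit [Fintype F] in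
/-- A unipotent element of order `p ^ e`, commuting with an idempotent if `l < n`. -/
theorem exists_unipotent [NeZero n] {e l : ℕ} (he : n ≤ p ^ (e + 1)) (hl : p ^ e < l) (hln : l ≤ n) :
    ∃ u : Matrix.SpecialLinearGroup (Fin n) F, p ^ (e + 1) ∣ orderOf (cls u) ∧
      Commute (u : Matrix (Fin n) (Fin n) F) (Matrix.diagonal fun i : Fin n => if i.val < l then (1 : F) else 0) := by
  have hdet : (1 + shift n l F).det = 1 := by
    rw [Matrix.det_of_isUpperTriangular]
    · exact Finset.prod_eq_one fun i _ => by simp [shift]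
    · intro i j hij
      simp only [id] at hij
      rw [Matrix.add_apply, Matrix.one_apply_ne (ne_of_gt hij), zero_add]
      simp only [shift, Matrix.of_apply]
      rw [if_neg]
      have := Fin.lt_def.1 hij
      omega
  let U : Matrix.SpecialLinearGroup (Fin n) F := ⟨_, hdet⟩
  refine ⟨U, ?_, ?_⟩
  · have hp1 : (1 : ℕ) ≤ p ^ e := Nat.one_le_pow _ _ (Fact.out : p.Prime).pos
    rw [orderOf_eq_prime_pow (p := p) (n := e)]
    · rw [cls_pow_eq_one_iff]
      rintro ⟨c, hc⟩
      change (1 + shift n l F) ^ (p ^ e) = Matrix.scalar (Fin n) c at hc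
      rw [add_pow_char_pow_of_commute (p := p) (h := Commute.one_left _), one_pow] at hc
      have h := congrFun (congrFun hc ⟨0, by omega⟩) ⟨p ^ e, by omega⟩
      rw [Matrix.add_apply, shift_pow_apply l _ hp1, Matrix.scalar_apply, Matrix.one_apply_ne
        (fun h => by simp only [Fin.ext_iff] at h; omega), Matrix.diagonal_apply_ne _
        (fun h => by simp only [Fin.ext_iff] at h; omega)] at h
      simp [hl] at h
    · rw [cls_pow_eq_one_iff]
      refine ⟨1, ?_⟩
      change (1 + shift n l F) ^ (p ^ (e + 1)) = _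
      have hp2 : (1 : ℕ) ≤ p ^ (e + 1) := Nat.one_le_pow _ _ (Fact.out : p.Prime).pos
      rw [add_pow_char_pow_of_commute (p := p) (h := Commute.one_left _), one_pow, map_one]
      ext i j
      rw [Matrix.add_apply, shift_pow_apply l _ hp2, if_neg (by omega), add_zero]
  · refine (Commute.one_left _).add_left ?_
    ext i j
    simp only [Matrix.mul_diagonal, Matrix.diagonal_mul, shift, Matrix.of_apply]
    split_ifs <;> first | omega | simp

end Elements

end Cfsg.Lib.Linear.AbsorbPSL
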