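import Mathlib
import Cfsg.Prelude.Def_ChevStructure
import Cfsg.Prelude.Def_ChevG2
import Cfsg.Prelude.Def_ChevB2
import Cfsg.Prelude.Def_ChevD4
import Cfsg.Prelude.Def_ChevF4
import Cfsg.Prelude.Def_ChevE6
import Cfsg.Prelude.Def_ChevE7
import Cfsg.Prelude.Def_ChevE8

/-! Elementary consequences of the shape of the Chevalley tables. -/

set_option autoImplicit false

namespace Cfsg.Lib.Linear.Chev

open Cfsg.Lie

/-- Checks on the sign and negative tables. -/
def goodIdx (D : ChevalleyDatum) : Bool :=
  (List.range D.nroots).all fun r =>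
    decide (D.neg r < D.nroots) && !(D.neg r == r) && (D.neg (D.neg r) == r) &&
      (decide (D.IsPosRoot r) || decide (D.IsNegRoot r)) && (decide (D.IsNegRoot r) == decide (D.IsPosRoot (D.neg r)))

/-- Chains of positive roots go up, those of negative roots go down. -/
def goodOrder (D : ChevalleyDatum) : Bool :=
  (List.range D.nroots).all fun r =>
    ((D.chain.getD r #[]).toList.all fun e => e.2.toList.all fun q =>
      if D.nroots ≤ 2 * r then decide (e.1 < q.1) else decide (q.1 < e.1)) &&
    (if D.nroots ≤ 2 * r then decide (2 * D.neg r + 2 ≤ D.nroots) else decide (2 * r + 2 ≤ D.nroots) && decide (D.nroots ≤ 2 * D.neg r)) &&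
    (decide (D.IsPosRoot r) == decide (D.nroots ≤ 2 * r))

/-- Every coroot is primitive. -/
def goodCoroot (D : ChevalleyDatum) : Bool :=
  (List.range D.nroots).all fun r =>
    ((List.range D.rank).foldl (fun g i => Nat.gcd g ((D.coroot.getD r #[]).getD i 0).natAbs) 0) == 1

theorem goodIdx_of_mem {D : ChevalleyDatum}
    (hD : D ∈ [chevG2, chevB2, chevD4, chevF4, chevE6, chevE7, chevE8]) : goodIdx D = true := by
  simp only [List.mem_cons, List.mem_singleton, List.not_mem_nil, or_false] at hD
  rcases hD with rfl | rfl | rfl | rfl | rfl | rfl | rfl <;> decide +kernel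

theorem goodOrder_of_mem {D : ChevalleyDatum}
    (hD : D ∈ [chevG2, chevB2, chevD4, chevF4, chevE6, chevE7, chevE8]) : goodOrder D = true := by
  simp only [List.mem_cons, List.mem_singleton, List.not_mem_nil, or_false] at hD
  rcases hD with rfl | rfl | rfl | rfl | rfl | rfl | rfl <;> decide +kernel

theorem goodCoroot_of_mem {D : ChevalleyDatum}
    (hD : D ∈ [chevG2, chevB2, chevD4, chevF4, chevE6, chevE7, chevE8]) : goodCoroot D = true := by
  simp only [List.mem_cons, List.mem_singleton, List.not_mem_nil, or_false] at hD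
  rcases hD with rfl | rfl | rfl | rfl | rfl | rfl | rfl <;> decide +kernel

theorem idx_spec {D : ChevalleyDatum} (h : goodIdx D = true) {r : ℕ} (hr : r < D.nroots) :
    D.neg r < D.nroots ∧ D.neg r ≠ r ∧ D.neg (D.neg r) = r ∧ (D.IsPosRoot r ∨ D.IsNegRoot r) ∧
      (D.IsNegRoot r → D.IsPosRoot (D.neg r)) := by
  have := List.all_eq_true.1 h r (List.mem_range.2 hr)
  simp only [Bool.and_eq_true, decide_eq_true_eq, Bool.or_eq_true, beq_iff_eq, Bool.not_eq_true',
    beq_eq_false_iff_ne, decide_eq_decide] at this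
  exact ⟨this.1.1.1.1, this.1.1.1.2, this.1.1.2, this.1.2, this.2.1⟩

variable {F : Type*} [Field F]

theorem x_zero (D : ChevalleyDatum) (r : ℕ) : D.x F r 0 = 1 := by
  unfold ChevalleyDatum.x
  split_ifs with h
  · ext row col
    rcases col with i | s
    · rcases row with i' | u <;> simp [ChevalleyDatum.xMat, Matrix.one_apply]
    · rcases row with i' | u
      · simp only [ChevalleyDatum.xMat, Matrix.of_apply]
        split_ifs <;> simp [Matrix.one_apply]
      · have hsum : (((D.chainCoeff r s.val u.val).map fun km => ((km.2 : ℤ) : F) * (0 : F) ^ km.1).sum) = 0 := by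
          refine List.sum_eq_zero fun x hx => ?_
          obtain ⟨km, hkm, rfl⟩ := List.mem_map.1 hx
          have hk : km.1 ≠ 0 := by
            simp only [ChevalleyDatum.chainCoeff, List.mem_flatMap, List.mem_map] at hkm
            obtain ⟨e, -, q, -, rfl⟩ := hkm
            exact Nat.succ_ne_zero _
          rw [zero_pow hk, mul_zero]
        simp only [ChevalleyDatum.xMat, Matrix.of_apply, Matrix.one_apply, Sum.inr.injEq]
        split_ifs <;> simp_all
  · rfl

theorem foldl_gcd_eq {ι : Type*} (f : ι → ℤ) (t : F) :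
    ∀ (l : List ι) (g : ℕ), (∀ i ∈ l, (f i : F) * t = 0) → (g : F) * t = 0 →
      ((l.foldl (fun g i => Nat.gcd g (f i).natAbs) g : ℕ) : F) * t = 0 := by
  intro l
  induction l with
  | nil => intro g _ hg; exact hg
  | cons a l ih =>
    intro g hl hg
    refine ih _ (fun i hi => hl i (List.mem_cons_of_mem _ hi)) ?_
    have ha := hl a (List.mem_cons_self ..)
    have ha' : (((f a).natAbs : ℕ) : F) * t = 0 := by
      rcases Int.natAbs_eq (f a) with h | h
      · rw [h, Int.cast_natCast] at ha; exact ha
      · rw [h, Int.cast_neg, Int.cast_natCast, neg_mul, neg_eq_zero] at ha; exact ha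
    have hb := congrArg (fun z : ℤ => (z : F)) (Nat.gcd_eq_gcd_ab g (f a).natAbs)
    push_cast [Nat.cast_natAbs] at hb ha'
    rw [hb]
    linear_combination (Nat.gcdA g (f a).natAbs : F) * hg + (Nat.gcdB g (f a).natAbs : F) * ha'

theorem x_eq_one_iff {D : ChevalleyDatum} (h1 : goodIdx D = true) (h2 : goodCoroot D = true) {r : ℕ}
    (hr : r < D.nroots) (t : F) : D.x F r t = 1 ↔ t = 0 := by
  refine ⟨fun h => ?_, fun h => h ▸ x_zero D r⟩
  obtain ⟨hn, hne, -⟩ := idx_spec h1 hr
  have hall : ∀ i ∈ List.range D.rank, (((D.coroot.getD r #[]).getD i 0 : ℤ) : F) * t = 0 := by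
    intro i hi
    have hi' := List.mem_range.1 hi
    have := congrFun (congrFun h (Sum.inl ⟨i, hi'⟩)) (Sum.inr ⟨D.neg r, hn⟩)
    rw [ChevalleyDatum.x, dif_pos hr, Matrix.one_apply_ne (by simp)] at this
    simp only [ChevalleyDatum.xMat, Matrix.of_apply] at this
    rw [if_neg (fun e => hne (congrArg Fin.val e)), if_pos (show D.neg r = D.negIdx.getD r 0 from rfl)] at this
    exact this
  have hg := foldl_gcd_eq (fun i => (D.coroot.getD r #[]).getD i 0) t (List.range D.rank) 0 hall (by simp)
  have := List.all_eq_true.1 h2 r (List.mem_range.2 hr)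
  rw [beq_iff_eq] at this
  rw [this, Nat.cast_one, one_mul] at hg
  exact hg

/-- Levels of the basis: negative roots, the toral part, positive roots. -/
def level (D : ChevalleyDatum) : D.Idx → ℕ
  | Sum.inl _ => D.nroots - 1
  | Sum.inr u => 2 * u.val

/-- Entries off the identity respect the levels. -/
theorem x_entry {D : ChevalleyDatum} (h1 : goodIdx D = true) (h3 : goodOrder D = true) {r : ℕ} (hr : r < D.nroots) (t : F)
    (i j : D.Idx) (h : D.x F r t i j ≠ (1 : Matrix D.Idx D.Idx F) i j) :
    (D.nroots ≤ 2 * r → level D j < level D i) ∧ (¬ D.nroots ≤ 2 * r → level D i < level D j) := by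
  obtain ⟨hn, hne, -⟩ := idx_spec h1 hr
  have hspec := List.all_eq_true.1 h3 r (List.mem_range.2 hr)
  simp only [Bool.and_eq_true] at hspec
  obtain ⟨⟨hchain, hside⟩, -⟩ := hspec
  rw [ChevalleyDatum.x, dif_pos hr] at h
  rcases j with k | s
  · rcases i with k' | u
    · exfalso
      apply h
      simp [ChevalleyDatum.xMat, Matrix.one_apply]
    · simp only [ChevalleyDatum.xMat, Matrix.of_apply] at h
      rw [Matrix.one_apply_ne (by simp)] at h
      split_ifs at h with hu
      · subst hu
        simp only [level]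
        constructor <;> intro hc <;> simp [hc] at hside <;> omega
      · exact absurd rfl h
  · simp only [ChevalleyDatum.xMat, Matrix.of_apply] at h
    by_cases hsr : s = (⟨r, hr⟩ : Fin D.nroots)
    · rw [if_pos hsr] at h
      exfalso
      apply h
      rcases i with k' | u
      · rw [Matrix.one_apply_ne (by simp)]
      · simp [Matrix.one_apply, hsr]
    rw [if_neg hsr] at h
    by_cases hsn : s.val = D.negIdx.getD r 0
    · rw [if_pos hsn] at h
      have hsn' : s.val = D.neg r := hsn
      rcases i with k' | u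
      · simp only [level]
        constructor <;> intro hc <;> simp [hc] at hside <;> omega
      · simp only [Matrix.one_apply, Sum.inr.injEq] at h
        split_ifs at h with h4 h5
        · exact absurd rfl h
        · subst h5
          simp only [level]
          constructor <;> intro hc <;> simp [hc] at hside <;> omega
        · exact absurd rfl h
    rw [if_neg hsn] at h
    rcases i with k' | u
    · exact absurd (Matrix.one_apply_ne (by simp)).symm h
    simp only [Matrix.one_apply, Sum.inr.injEq, ne_eq, add_eq_left] at h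
    obtain ⟨km, hkm⟩ : ∃ km, km ∈ D.chainCoeff r s.val u.val := by
      rcases hl : D.chainCoeff r s.val u.val with _ | ⟨a, l⟩
      · simp [hl] at h
      · exact ⟨a, List.mem_cons_self ..⟩
    simp only [ChevalleyDatum.chainCoeff, List.mem_flatMap, List.mem_map, List.mem_filter, decide_eq_true_eq] at hkm
    obtain ⟨e, ⟨he, hes⟩, q, ⟨hq, hqu⟩, -⟩ := hkm
    have := List.all_eq_true.1 (List.all_eq_true.1 hchain e he) q.1 (List.fst_mem_of_mem_zipIdx hq)
    simp only [level]
    constructor <;> intro hc <;> simp [hc] at this <;> omega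

theorem xdet (D : ChevalleyDatum) (h1 : goodIdx D = true) (h3 : goodOrder D = true) (r : ℕ) (t : F) :
    (D.x F r t).det ≠ 0 := by
  by_cases hr : r < D.nroots
  swap
  · rw [ChevalleyDatum.x, dif_neg hr, Matrix.det_one]; exact one_ne_zero
  have key : ∀ (M : Matrix D.Idx D.Idx F) (b : D.Idx → ℕ), M.BlockTriangular b →
      (∀ i j, b i = b j → M i j = (1 : Matrix D.Idx D.Idx F) i j) → M.det = 1 := by
    intro M b hM hdiag
    rw [hM.det]
    refine Finset.prod_eq_one fun a _ => ?_
    rw [show M.toSquareBlock b a = 1 from ?_, Matrix.det_one]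
    ext i j
    rw [Matrix.toSquareBlock_def]
    show M i j = _
    rw [hdiag i j (i.2.trans j.2.symm)]
    simp [Matrix.one_apply, Subtype.ext_iff]
  have hlev : ∀ i j, level D i = level D j → D.x F r t i j = (1 : Matrix D.Idx D.Idx F) i j := by
    intro i j hij
    by_contra hne
    obtain ⟨a, b⟩ := x_entry h1 h3 hr t i j hne
    by_cases hc : D.nroots ≤ 2 * r
    · exact absurd (a hc) (by omega)
    · exact absurd (b hc) (by omega)
  have hoff : ∀ i j, level D i ≠ level D j → (1 : Matrix D.Idx D.Idx F) i j = 0 := fun i j hij =>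
    Matrix.one_apply_ne fun e => hij (congrArg (level D) e)
  by_cases hc : D.nroots ≤ 2 * r
  · rw [← Matrix.det_transpose, key _ (level D)]
    · exact one_ne_zero
    · intro i j hij
      rw [Matrix.transpose_apply]
      by_contra hne
      exact absurd ((x_entry h1 h3 hr t j i (by rw [hoff j i (ne_of_lt hij)]; exact hne)).1 hc) (not_lt.2 hij.le)
    · intro i j hij
      rw [Matrix.transpose_apply, hlev j i hij.symm]
      simp [Matrix.one_apply, eq_comm]
  · rw [key _ (level D)]
    · exact one_ne_zero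
    · intro i j hij
      by_contra hne
      exact absurd ((x_entry h1 h3 hr t i j (by rw [hoff i j (ne_of_gt hij)]; exact hne)).2 hc) (not_lt.2 hij.le)
    · exact hlev

/-- An invertible matrix that is a word in root elements lies in the group. -/
theorem mem_closure_of_wordMat (D : ChevalleyDatum) (S : Subgroup (GL D.Idx F)) :
    ∀ (w : List (ℕ × F)), (∀ p ∈ w, ∀ g : GL D.Idx F, g.val = D.x F p.1 p.2 → g ∈ S) →
      ∀ g : GL D.Idx F, g.val = D.wordMat F w → g ∈ S := by
  intro w
  induction w with
  | nil =>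
    intro _ g hg
    rw [show g = 1 from Units.ext hg]
    exact one_mem S
  | cons p w ih =>
    intro hw g hg
    simp only [ChevalleyDatum.wordMat, List.map_cons, List.prod_cons] at hg
    have hu : IsUnit (D.x F p.1 p.2) := by
      rw [Matrix.isUnit_iff_isUnit_det]
      have h := (Matrix.isUnit_iff_isUnit_det _).1 g.isUnit
      rw [hg, Matrix.det_mul] at h
      exact isUnit_of_mul_isUnit_left h
    obtain ⟨a, ha⟩ := hu
    have hb : (a⁻¹ * g).val = D.wordMat F w := by
      rw [Units.val_mul, hg, ← ha, Units.inv_mul_cancel_left]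
      rfl
    rw [← mul_inv_cancel_left a g]
    exact mul_mem (hw p (List.mem_cons_self ..) a ha)
      (ih (fun q hq => hw q (List.mem_cons_of_mem _ hq)) _ hb)

theorem root_mem_group (D : ChevalleyDatum) (r : ℕ) (t : F) (g : GL D.Idx F) (hg : g.val = D.x F r t) :
    g ∈ D.group F := by
  by_cases h : r < D.nroots
  · exact Subgroup.subset_closure ⟨⟨r, h⟩, t, by rw [hg, ChevalleyDatum.x, dif_pos h]⟩
  · rw [ChevalleyDatum.x, dif_neg h] at hg
    rw [show g = 1 from Units.ext hg]
    exact one_mem _

theorem posUnipotent_le (D : ChevalleyDatum) : D.posUnipotent F ≤ D.group F :=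
  (Subgroup.closure_le _).2 fun g ⟨r, t, _, hg⟩ => root_mem_group D r t g hg

theorem negUnipotent_le (D : ChevalleyDatum) : D.negUnipotent F ≤ D.group F :=
  (Subgroup.closure_le _).2 fun g ⟨r, t, _, hg⟩ => root_mem_group D r t g hg

theorem diagonal_le (D : ChevalleyDatum) : D.diagonalSubgroup F ≤ D.group F :=
  (Subgroup.closure_le _).2 fun g ⟨_, _, _, _, hg⟩ =>
    mem_closure_of_wordMat D _ _ (fun p _ a ha => root_mem_group D p.1 p.2 a ha) g hg

theorem monomial_le (D : ChevalleyDatum) : D.monomialSubgroup F ≤ D.group F :=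
  sup_le (diagonal_le D) ((Subgroup.closure_le _).2 fun g ⟨_, _, hg⟩ =>
    mem_closure_of_wordMat D _ _ (fun p _ a ha => root_mem_group D p.1 p.2 a ha) g hg)

theorem borel_le (D : ChevalleyDatum) : D.borelSubgroup F ≤ D.group F :=
  sup_le (posUnipotent_le D) (diagonal_le D)

theorem pos_sup_neg {D : ChevalleyDatum} (h1 : goodIdx D = true) :
    D.posUnipotent F ⊔ D.negUnipotent F = D.group F := by
  refine le_antisymm (sup_le (posUnipotent_le D) (negUnipotent_le D)) ((Subgroup.closure_le _).2 ?_)
  rintro g ⟨r, t, hg⟩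
  have hg' : g.val = D.x F r t := by rw [hg, ChevalleyDatum.x, dif_pos r.2]
  rcases (idx_spec h1 r.2).2.2.2.1 with h | h
  · exact Subgroup.mem_sup_left (Subgroup.subset_closure ⟨r, t, h, hg'⟩)
  · exact Subgroup.mem_sup_right (Subgroup.subset_closure ⟨r, t, h, hg'⟩)

theorem borel_sup_monomial {D : ChevalleyDatum} (h1 : goodIdx D = true) (h3 : goodOrder D = true) :
    D.borelSubgroup F ⊔ D.monomialSubgroup F = D.group F := by
  refine le_antisymm (sup_le (borel_le D) (monomial_le D)) ((Subgroup.closure_le _).2 ?_)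
  rintro g ⟨r, t, hg⟩
  have hg' : g.val = D.x F r t := by rw [hg, ChevalleyDatum.x, dif_pos r.2]
  set K := D.borelSubgroup F ⊔ D.monomialSubgroup F
  obtain ⟨hn, -, hnn, hpn, hneg⟩ := idx_spec h1 r.2
  have hpos : ∀ (s : ℕ) (u : F), D.IsPosRoot s → ∀ a : GL D.Idx F, a.val = D.x F s u → a ∈ K := fun s u hs a ha =>
    Subgroup.mem_sup_left (Subgroup.mem_sup_left (Subgroup.subset_closure ⟨s, u, hs, ha⟩))
  rcases hpn with h | h
  · exact hpos _ _ h g hg'
  set s := D.neg r with hs_def
  have hs : D.IsPosRoot s := hneg h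
  by_cases ht : t = 0
  · rw [show g = 1 from Units.ext (by rw [hg', ht, x_zero]; rfl)]
    exact one_mem K
  set u := -t⁻¹ with hu
  have hu0 : u ≠ 0 := by simp [hu, ht]
  have hts : -u⁻¹ = t := by rw [hu, inv_neg, inv_inv, neg_neg]
  let X : F → GL D.Idx F := fun v => Matrix.GeneralLinearGroup.mkOfDetNeZero _ (xdet D h1 h3 s v)
  let Y : F → GL D.Idx F := fun v => Matrix.GeneralLinearGroup.mkOfDetNeZero _ (xdet D h1 h3 (D.neg s) v)
  have hX : ∀ v, X v ∈ K := fun v => hpos s v hs _ rfl
  have hn1 : ∀ v : F, (X v * Y (-v⁻¹) * X v).val = D.nMat F s v := fun v => by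
    simp only [ChevalleyDatum.nMat, ChevalleyDatum.wordMat, ChevalleyDatum.nWord, List.map_cons, List.map_nil,
      List.prod_cons, List.prod_nil, mul_one, Units.val_mul, ← mul_assoc]
    rfl
  have hN1 : X 1 * Y (-1⁻¹) * X 1 ∈ K :=
    Subgroup.mem_sup_right (Subgroup.mem_sup_right (Subgroup.subset_closure ⟨s, hs.1, hn1 1⟩))
  have hH : ∀ v : F, v ≠ 0 → (X v * Y (-v⁻¹) * X v) * (X (-1) * Y (-(-1)⁻¹) * X (-1)) ∈ K := by
    intro v hv
    refine Subgroup.mem_sup_right (Subgroup.mem_sup_left (Subgroup.subset_closure ⟨s, v, hs.1, hv, ?_⟩))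
    rw [Units.val_mul, hn1, hn1]
    simp [ChevalleyDatum.hMat, ChevalleyDatum.hWord, ChevalleyDatum.nMat, ChevalleyDatum.wordMat, List.prod_append]
  have hNm : X (-1) * Y (-(-1)⁻¹) * X (-1) ∈ K := (Subgroup.mul_mem_cancel_left K hN1).1 (hH 1 one_ne_zero)
  have hNu : X u * Y (-u⁻¹) * X u ∈ K := (Subgroup.mul_mem_cancel_right K hNm).1 (hH u hu0)
  have hgY : g = Y (-u⁻¹) := Units.ext (by
    rw [hg', hts]
    show D.x F r t = D.x F (D.neg s) t
    rw [hs_def, hnn])
  rw [hgY]
  exact (Subgroup.mul_mem_cancel_left K (hX u)).1 ((Subgroup.mul_mem_cancel_right K (hX u)).1 hNu)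

theorem xMat_map {K : Type*} [Field K] (D : ChevalleyDatum) (f : F →+* K) (r : ℕ) (t : F) :
    (D.x F r t).map f = D.x K r (f t) := by
  unfold ChevalleyDatum.x
  split_ifs with h
  · ext row col
    rcases col with i | s <;> rcases row with i' | u <;>
      simp only [ChevalleyDatum.xMat, Matrix.map_apply, Matrix.of_apply] <;> split_ifs <;>
      simp [map_list_sum, List.map_map, Function.comp_def]
  · exact Matrix.map_one f f.map_zero f.map_one

theorem group_map_le {K : Type*} [Field K] (D : ChevalleyDatum) (f : F →+* K) :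
    (D.group F).map (Matrix.GeneralLinearGroup.map f) ≤ D.group K := by
  rw [ChevalleyDatum.group, MonoidHom.map_closure]
  refine (Subgroup.closure_le _).2 ?_
  rintro _ ⟨g, ⟨r, t, hg⟩, rfl⟩
  refine root_mem_group D r (f t) _ ?_
  rw [← xMat_map D f r t, ChevalleyDatum.x, dif_pos r.2, ← hg]
  rfl

end Cfsg.Lib.Linear.Chev
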