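import Cfsg.Prelude.Def_LieExceptional

/-!
The elementary theory of (B, N)-pairs: Bruhat decomposition, length and exchange, parabolic subgroups.
-/

set_option autoImplicit false

namespace Cfsg.Lib.Linear.BN

open Cfsg

variable {G : Type*} [Group G] (P : BNPair G)

/-- The double coset `B n B`. -/
def cell (n : G) : Set G := DoubleCoset.doubleCoset n (P.B : Set G) P.B

variable {P}

theorem mem_cell {g n : G} : g ∈ cell P n ↔ ∃ b ∈ P.B, ∃ b' ∈ P.B, g = b * n * b' :=
  DoubleCoset.mem_doubleCoset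

theorem self_mem_cell (n : G) : n ∈ cell P n :=
  mem_cell.2 ⟨1, one_mem _, 1, one_mem _, by group⟩

theorem cell_eq_of_mem {g n : G} (h : g ∈ cell P n) : cell P g = cell P n :=
  DoubleCoset.doubleCoset_eq_of_mem h

theorem mul_mem_cell {g n b b' : G} (h : g ∈ cell P n) (hb : b ∈ P.B) (hb' : b' ∈ P.B) :
    b * g * b' ∈ cell P n := by
  rw [← cell_eq_of_mem h]
  exact mem_cell.2 ⟨b, hb, b', hb', rfl⟩

theorem inv_mem_cell {g n : G} (h : g ∈ cell P n) : g⁻¹ ∈ cell P n⁻¹ := by
  obtain ⟨b, hb, b', hb', rfl⟩ := mem_cell.1 h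
  exact mem_cell.2 ⟨b'⁻¹, inv_mem hb', b⁻¹, inv_mem hb, by group⟩

/-- Membership of the kernel `B ⊓ N` is stable under conjugation by `N`. -/
theorem conj_mem_T {n t : G} (hn : n ∈ P.N) (ht : t ∈ P.B ⊓ P.N) : n * t * n⁻¹ ∈ P.B ⊓ P.N :=
  Subgroup.mem_inf.2 ⟨P.conj_mem n hn t ht, mul_mem (mul_mem hn ht.2) (inv_mem hn)⟩

theorem conj_mem_T' {n t : G} (hn : n ∈ P.N) (ht : t ∈ P.B ⊓ P.N) : n⁻¹ * t * n ∈ P.B ⊓ P.N := by
  simpa using conj_mem_T (inv_mem hn) ht

variable (P) in
/-- Two elements of `N` with the same image in the Weyl group. -/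
def Same (n n' : G) : Prop := n⁻¹ * n' ∈ P.B ⊓ P.N

theorem Same.rfl' {n : G} : Same P n n := by simp [Same]

theorem Same.symm {n n' : G} (h : Same P n n') : Same P n' n := by
  simpa [Same] using (P.B ⊓ P.N).inv_mem h

theorem Same.trans {a b c : G} (h : Same P a b) (h' : Same P b c) : Same P a c := by
  have e : a⁻¹ * c = (a⁻¹ * b) * (b⁻¹ * c) := by group
  show a⁻¹ * c ∈ P.B ⊓ P.N
  rw [e]
  exact mul_mem h h'

theorem Same.mem_N {a b : G} (h : Same P a b) (ha : a ∈ P.N) : b ∈ P.N := by
  simpa using mul_mem ha h.2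

theorem Same.mul_left {a b : G} (x : G) (h : Same P a b) : Same P (x * a) (x * b) := by
  simpa [Same, mul_assoc] using h

theorem Same.mul_right {a b x : G} (hx : x ∈ P.N) (h : Same P a b) : Same P (a * x) (b * x) := by
  have := conj_mem_T' hx h
  simpa [Same, mul_assoc] using this

theorem Same.cell_eq {a b : G} (h : Same P a b) : cell P a = cell P b :=
  (cell_eq_of_mem (mem_cell.2 ⟨1, one_mem _, a⁻¹ * b, h.1, by group⟩)).symm

theorem same_of_mem {t : G} (ht : t ∈ P.B ⊓ P.N) : Same P 1 t := by simpa [Same] using ht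

theorem same_mul_T {n t : G} (ht : t ∈ P.B ⊓ P.N) : Same P n (n * t) := by simpa [Same] using ht

/-- The square of a distinguished representative. -/
theorem sq_mem_T {s : G} (hs : s ∈ P.S) : s * s ∈ P.B ⊓ P.N :=
  ⟨P.sq_mem s hs, mul_mem (P.subset hs) (P.subset hs)⟩

theorem same_inv_S {s : G} (hs : s ∈ P.S) : Same P s⁻¹ s := by simpa [Same] using sq_mem_T hs

theorem same_sq_mul {s n : G} (hs : s ∈ P.S) (hn : n ∈ P.N) : Same P n (s * (s * n)) := by
  have h := (same_of_mem (sq_mem_T hs)).mul_right hn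
  simpa [mul_assoc] using h

theorem not_mem_B {s : G} (hs : s ∈ P.S) : s ∉ P.B := by
  intro h
  apply P.conj_ne s hs
  ext g
  constructor
  · rintro ⟨b, hb, rfl⟩
    exact mul_mem (mul_mem h hb) h
  · intro hg
    exact ⟨s⁻¹ * g * s⁻¹, mul_mem (mul_mem (inv_mem h) hg) (inv_mem h), by group⟩

/-- The basic axiom, for cells. -/
theorem cell_mul {s n x y : G} (hs : s ∈ P.S) (hn : n ∈ P.N) (hx : x ∈ cell P s) (hy : y ∈ cell P n) :
    x * y ∈ cell P (s * n) ∨ x * y ∈ cell P n := by
  obtain ⟨b, hb, c, hc, rfl⟩ := mem_cell.1 hx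
  obtain ⟨d, hd, e, he, rfl⟩ := mem_cell.1 hy
  have e1 : b * s * c * (d * n * e) = b * (s * (c * d) * n) * e := by group
  rw [e1]
  rcases P.mul_mem_union s hs n hn (c * d) (mul_mem hc hd) with h | h
  · exact Or.inl (mul_mem_cell h hb he)
  · exact Or.inr (mul_mem_cell h hb he)

/-- The mirrored axiom: `n B s ⊆ B n s B ∪ B n B`. -/
theorem mul_mem_union' {s n b : G} (hs : s ∈ P.S) (hn : n ∈ P.N) (hb : b ∈ P.B) :
    n * b * s ∈ cell P (n * s) ∨ n * b * s ∈ cell P n := by
  have hx : s⁻¹ * b⁻¹ ∈ cell P s := by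
    rw [← (same_inv_S hs).cell_eq]
    exact mem_cell.2 ⟨1, one_mem _, b⁻¹, inv_mem hb, by group⟩
  rcases cell_mul hs (inv_mem hn) hx (self_mem_cell n⁻¹) with h | h
  · left
    have h1 := inv_mem_cell h
    have h2 : Same P (n * s⁻¹) (n * s) := (same_inv_S hs).mul_left n
    simp only [mul_inv_rev, inv_inv] at h1
    rw [← h2.cell_eq]
    simpa [mul_assoc] using h1
  · right
    simpa [mul_assoc] using inv_mem_cell h

/-! ### Words -/

theorem prod_mem_N {l : List G} (hl : ∀ r ∈ l, r ∈ P.S) : l.prod ∈ P.N :=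
  list_prod_mem fun r hr => P.subset (hl r hr)

theorem exists_word {J : Set G} (hJ : J ⊆ P.S) {n : G} (hn : n ∈ Subgroup.closure J ⊔ (P.B ⊓ P.N)) :
    ∃ l : List G, (∀ r ∈ l, r ∈ J) ∧ Same P l.prod n := by
  let M : Submonoid G :=
    { carrier := {x | ∃ l : List G, (∀ r ∈ l, r ∈ J) ∧ Same P l.prod x}
      one_mem' := ⟨[], by simp, Same.rfl'⟩
      mul_mem' := by
        rintro a b ⟨l, hl, hla⟩ ⟨l', hl', hlb⟩
        refine ⟨l ++ l', ?_, ?_⟩
        · intro r hr
          rcases List.mem_append.1 hr with h | h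
          exacts [hl r h, hl' r h]
        · rw [List.prod_append]
          exact (hla.mul_right (prod_mem_N fun r hr => hJ (hl' r hr))).trans (hlb.mul_left a) }
  have h1 : J ∪ ((P.B ⊓ P.N : Subgroup G) : Set G) ∪
      (J ∪ ((P.B ⊓ P.N : Subgroup G) : Set G))⁻¹ ⊆ M := by
    rintro x ((hx | hx) | (hx | hx))
    · exact ⟨[x], by simpa using hx, by simpa using Same.rfl'⟩
    · exact ⟨[], by simp, same_of_mem hx⟩
    · refine ⟨[x⁻¹], by simpa using hx, ?_⟩
      simpa using (same_inv_S (hJ hx)).symm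
    · refine ⟨[], by simp, same_of_mem ?_⟩
      simpa using inv_mem (show x⁻¹ ∈ (P.B ⊓ P.N) from hx)
  have h2 : n ∈ Subgroup.closure (J ∪ ((P.B ⊓ P.N : Subgroup G) : Set G)) := by
    rwa [Subgroup.closure_union, Subgroup.closure_eq]
  rw [← Subgroup.mem_toSubmonoid, Subgroup.closure_toSubmonoid] at h2
  exact Submonoid.closure_le.2 h1 h2

theorem exists_word_N {n : G} (hn : n ∈ P.N) :
    ∃ l : List G, (∀ r ∈ l, r ∈ P.S) ∧ Same P l.prod n := by
  rw [← P.closure_sup] at hn
  exact exists_word subset_rfl hn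

variable (P) in
/-- The length of the image of `n` in the Weyl group. -/
noncomputable def len (n : G) : ℕ :=
  sInf {k | ∃ l : List G, l.length = k ∧ (∀ r ∈ l, r ∈ P.S) ∧ Same P l.prod n}

theorem len_le {n : G} {l : List G} (hl : ∀ r ∈ l, r ∈ P.S) (h : Same P l.prod n) :
    len P n ≤ l.length := Nat.sInf_le ⟨l, rfl, hl, h⟩

theorem exists_reduced {n : G} (hn : n ∈ P.N) :
    ∃ l : List G, l.length = len P n ∧ (∀ r ∈ l, r ∈ P.S) ∧ Same P l.prod n := by
  obtain ⟨l, hl, h⟩ := exists_word_N hn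
  have hne : {k | ∃ l : List G, l.length = k ∧ (∀ r ∈ l, r ∈ P.S) ∧ Same P l.prod n}.Nonempty :=
    ⟨l.length, l, rfl, hl, h⟩
  exact Nat.sInf_mem hne

theorem len_congr {n n' : G} (h : Same P n n') : len P n = len P n' := by
  unfold len
  congr 1
  ext k
  exact ⟨fun ⟨l, a, b, c⟩ => ⟨l, a, b, c.trans h⟩, fun ⟨l, a, b, c⟩ => ⟨l, a, b, c.trans h.symm⟩⟩

theorem len_one : len P (1 : G) = 0 := by
  simpa using len_le (P := P) (n := 1) (l := []) (by simp) Same.rfl'

theorem mem_T_of_len_eq_zero {n : G} (hn : n ∈ P.N) (h : len P n = 0) : n ∈ P.B ⊓ P.N := by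
  obtain ⟨l, hl, -, h2⟩ := exists_reduced hn
  rw [h, List.length_eq_zero_iff] at hl
  subst hl
  simpa [Same] using h2

theorem len_S {s : G} (hs : s ∈ P.S) : len P s = 1 := by
  have h := len_le (P := P) (n := s) (l := [s]) (by simpa using hs) (by simpa using Same.rfl')
  rcases Nat.eq_zero_or_pos (len P s) with h0 | h0
  · exact absurd (mem_T_of_len_eq_zero (P.subset hs) h0).1 (not_mem_B hs)
  · simp at h; omega

theorem len_mul_le {s n : G} (hs : s ∈ P.S) (hn : n ∈ P.N) : len P (s * n) ≤ len P n + 1 := by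
  obtain ⟨l, hl, hS, h⟩ := exists_reduced hn
  have := len_le (P := P) (n := s * n) (l := s :: l) (by simpa [hs] using hS) (by simpa using h.mul_left s)
  simpa [hl] using this

theorem len_le_mul {s n : G} (hs : s ∈ P.S) (hn : n ∈ P.N) : len P n ≤ len P (s * n) + 1 := by
  rw [len_congr (same_sq_mul hs hn)]
  exact len_mul_le hs (mul_mem (P.subset hs) hn)

theorem len_mul_right_le {r n : G} (hr : r ∈ P.S) (hn : n ∈ P.N) : len P (n * r) ≤ len P n + 1 := by
  obtain ⟨l, hl, hS, h⟩ := exists_reduced hn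
  have := len_le (P := P) (n := n * r) (l := l ++ [r])
    (by
      intro x hx
      rcases List.mem_append.1 hx with h | h
      · exact hS x h
      · simp only [List.mem_singleton] at h; subst h; exact hr)
    (by simpa using h.mul_right (P.subset hr))
  simpa [hl] using this

/-- Peel a letter on the left of a reduced word. -/
theorem exists_head {n : G} (hn : n ∈ P.N) (h : 0 < len P n) :
    ∃ s ∈ P.S, ∃ m ∈ P.N, len P m < len P n ∧ Same P (s * m) n := by
  obtain ⟨l, hl, hS, hsame⟩ := exists_reduced hn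
  match l, hl, hS, hsame with
  | [], hl, _, _ => simp at hl; omega
  | s :: l', hl, hS, hsame =>
    refine ⟨s, hS s (List.mem_cons_self ..), l'.prod,
      prod_mem_N fun r hr => hS r (List.mem_cons_of_mem _ hr), ?_, by simpa using hsame⟩
    have := len_le (P := P) (n := l'.prod) (l := l') (fun r hr => hS r (List.mem_cons_of_mem _ hr)) Same.rfl'
    simp at hl
    omega

/-- Peel a letter on the right of a reduced word. -/
theorem exists_last {n : G} (hn : n ∈ P.N) (h : 0 < len P n) :
    ∃ r ∈ P.S, ∃ m ∈ P.N, len P m < len P n ∧ Same P (m * r) n := by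
  obtain ⟨l, hl, hS, hsame⟩ := exists_reduced hn
  obtain ⟨l', r, rfl⟩ : ∃ l' r, l = l' ++ [r] := by
    rcases List.eq_nil_or_concat l with h' | ⟨l', r, h'⟩
    · simp [h'] at hl; omega
    · exact ⟨l', r, by simpa using h'⟩
  refine ⟨r, hS r (by simp), l'.prod, prod_mem_N fun x hx => hS x (by simp [hx]), ?_, by simpa using hsame⟩
  have := len_le (P := P) (n := l'.prod) (l := l') (fun x hx => hS x (by simp [hx])) Same.rfl'
  simp at hl
  omega

/-! ### Bruhat decomposition -/

/-- A union of cells closed under left multiplication by `B` and `J` contains its translates by `P_J`. -/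
theorem parabolic_cells {J : Set G} (hJ : J ⊆ P.S) {g : G} (hg : g ∈ P.parabolic J) :
    ∃ n ∈ Subgroup.closure J, g ∈ cell P n := by
  have hmem : g ∈ Subgroup.closure ((P.B : Set G) ∪ J) := by
    rwa [Subgroup.closure_union, Subgroup.closure_eq]
  have key : ∀ x ∈ Subgroup.closure ((P.B : Set G) ∪ J), ∀ y : G,
      (∃ n ∈ Subgroup.closure J, y ∈ cell P n) → ∃ n ∈ Subgroup.closure J, x * y ∈ cell P n := by
    intro x hx
    induction hx using Subgroup.closure_induction'' with
    | mem x hx =>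
      rintro y ⟨n, hn, hy⟩
      rcases hx with hx | hx
      · exact ⟨n, hn, by simpa using mul_mem_cell hy hx (one_mem _)⟩
      · have hnN : n ∈ P.N := (Subgroup.closure_le _).2 (hJ.trans P.subset) hn
        rcases cell_mul (hJ hx) hnN (self_mem_cell x) hy with h | h
        · exact ⟨x * n, mul_mem (Subgroup.subset_closure hx) hn, h⟩
        · exact ⟨n, hn, h⟩
    | inv_mem x hx =>
      rintro y ⟨n, hn, hy⟩
      rcases hx with hx | hx
      · exact ⟨n, hn, by simpa using mul_mem_cell hy (inv_mem hx) (one_mem _)⟩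
      · have hnN : n ∈ P.N := (Subgroup.closure_le _).2 (hJ.trans P.subset) hn
        have hxc : x⁻¹ ∈ cell P x := by
          rw [← (same_inv_S (hJ hx)).cell_eq]; exact self_mem_cell _
        rcases cell_mul (hJ hx) hnN hxc hy with h | h
        · exact ⟨x * n, mul_mem (Subgroup.subset_closure hx) hn, h⟩
        · exact ⟨n, hn, h⟩
    | one => intro y hy; simpa using hy
    | mul a b _ _ iha ihb =>
      intro y hy
      rw [mul_assoc]
      exact iha _ (ihb _ hy)
  obtain ⟨n, hn, h⟩ := key g hmem 1 ⟨1, one_mem _, self_mem_cell 1⟩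
  exact ⟨n, hn, by simpa using h⟩

theorem parabolic_S_eq_top : P.parabolic P.S = ⊤ := by
  rw [eq_top_iff, ← P.sup_eq_top]
  refine sup_le le_sup_left ?_
  rw [← P.closure_sup]
  exact sup_le le_sup_right (inf_le_left.trans le_sup_left)

theorem bruhat (g : G) : ∃ n ∈ P.N, g ∈ cell P n := by
  obtain ⟨n, hn, h⟩ := parabolic_cells subset_rfl (show g ∈ P.parabolic P.S by
    rw [parabolic_S_eq_top]; trivial)
  exact ⟨n, (Subgroup.closure_le _).2 P.subset hn, h⟩

theorem same_of_cell_eq_aux : ∀ (k : ℕ) (n n' : G), n ∈ P.N → n' ∈ P.N → len P n = k →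
    k ≤ len P n' → cell P n = cell P n' → Same P n n' := by
  intro k
  induction k using Nat.strong_induction_on with
  | _ k ih =>
    intro n n' hn hn' hk hle hc
    rcases Nat.eq_zero_or_pos k with rfl | hpos
    · have hnT := mem_T_of_len_eq_zero hn hk
      have h1 : n' ∈ cell P 1 := by
        rw [(same_of_mem hnT).cell_eq, hc]; exact self_mem_cell _
      obtain ⟨b, hb, c, hc', rfl⟩ := mem_cell.1 h1
      refine (same_of_mem hnT).symm.trans (same_of_mem ⟨?_, hn'⟩)
      exact mul_mem (mul_mem hb (one_mem _)) hc'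
    · obtain ⟨s, hs, m, hm, hlt, hsm⟩ := exists_head hn (hk ▸ hpos)
      rw [hk] at hlt
      have hc' : n' ∈ cell P (s * m) := by rw [hsm.cell_eq, hc]; exact self_mem_cell _
      obtain ⟨b, hb, c, hcB, he⟩ := mem_cell.1 hc'
      have hs' : s⁻¹ * b⁻¹ ∈ cell P s := by
        rw [← (same_inv_S hs).cell_eq]
        exact mem_cell.2 ⟨1, one_mem _, b⁻¹, inv_mem hb, by group⟩
      have hm2 : m = (s⁻¹ * b⁻¹) * n' * c⁻¹ := by rw [he]; group
      have hsn' : s * n' ∈ P.N := mul_mem (P.subset hs) hn'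
      have hy : n' * c⁻¹ ∈ cell P n' := mem_cell.2 ⟨1, one_mem _, c⁻¹, inv_mem hcB, by group⟩
      rcases cell_mul hs hn' hs' hy with h | h <;> rw [← mul_assoc, ← hm2] at h
      · have h2 := len_le_mul hs hn'
        have := ih (len P m) hlt m (s * n') hm hsn' rfl (by omega) (cell_eq_of_mem h)
        exact hsm.symm.trans ((this.mul_left s).trans (same_sq_mul hs hn').symm)
      · have := len_congr (ih (len P m) hlt m n' hm hn' rfl (by omega) (cell_eq_of_mem h))
        omega

/-- Bruhat decomposition, uniqueness. -/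
theorem same_of_cell_eq {n n' : G} (hn : n ∈ P.N) (hn' : n' ∈ P.N) (h : cell P n = cell P n') :
    Same P n n' := by
  rcases le_total (len P n) (len P n') with hle | hle
  · exact same_of_cell_eq_aux _ n n' hn hn' rfl hle h
  · exact (same_of_cell_eq_aux _ n' n hn' hn rfl hle h.symm).symm

theorem same_of_mem_cell {g n n' : G} (hn : n ∈ P.N) (hn' : n' ∈ P.N)
    (h : g ∈ cell P n) (h' : g ∈ cell P n') : Same P n n' :=
  same_of_cell_eq hn hn' ((cell_eq_of_mem h).symm.trans (cell_eq_of_mem h'))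

/-! ### Length and exchange -/

theorem not_same_mul {s n : G} (hs : s ∈ P.S) (hn : n ∈ P.N) : ¬ Same P n (s * n) := by
  intro h
  apply not_mem_B hs
  have h2 := conj_mem_T hn h
  have e : n * (n⁻¹ * (s * n)) * n⁻¹ = s := by group
  rw [e] at h2
  exact h2.1

theorem mul_mem_cell_of_le : ∀ (k : ℕ) (n : G), len P n = k → n ∈ P.N → ∀ s ∈ P.S,
    k ≤ len P (s * n) → ∀ b ∈ P.B, s * b * n ∈ cell P (s * n) := by
  intro k
  induction k using Nat.strong_induction_on with
  | _ k ih =>
    intro n hk hn s hs hle b hb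
    rcases Nat.eq_zero_or_pos k with rfl | hpos
    · have hnT := mem_T_of_len_eq_zero hn hk
      exact mem_cell.2 ⟨1, one_mem _, n⁻¹ * b * n,
        mul_mem (mul_mem (inv_mem hnT.1) hb) hnT.1, by group⟩
    · obtain ⟨r, hr, m, hm, hlt, hmr⟩ := exists_last hn (hk ▸ hpos)
      rw [hk] at hlt
      rcases P.mul_mem_union s hs n hn b hb with h | h
      · exact h
      exfalso
      have hsm : s * m ∈ P.N := mul_mem (P.subset hs) hm
      have hlen : len P (s * n) ≤ len P (s * m) + 1 := by
        rw [← len_congr (hmr.mul_left s), ← mul_assoc]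
        exact len_mul_right_le hr hsm
      have hm1 := ih (len P m) hlt m rfl hm s hs (by omega) b hb
      obtain ⟨b1, hb1, b2, hb2, he⟩ := mem_cell.1 hm1
      have ht : (m * r)⁻¹ * n ∈ P.B := hmr.1
      have e : s * b * n = b1 * (s * m * b2 * r) * ((m * r)⁻¹ * n) := by
        calc s * b * n = (s * b * m) * r * ((m * r)⁻¹ * n) := by group
          _ = _ := by rw [he]; group
      rw [e] at h
      rcases mul_mem_union' hr hsm hb2 with h' | h'
      · have h'' := mul_mem_cell h' hb1 ht
        refine not_same_mul hs hn ((same_of_mem_cell hn (mul_mem hsm (P.subset hr)) h h'').trans ?_)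
        simpa [mul_assoc] using hmr.mul_left s
      · have h'' := mul_mem_cell h' hb1 ht
        have h3 : Same P n (s * m) := same_of_mem_cell hn hsm h h''
        have h4 : Same P (s * n) m := (h3.mul_left s).trans (same_sq_mul hs hm).symm
        rw [len_congr h4] at hle
        omega

/-- `C(s) C(n) = C(sn)` when the length does not decrease. -/
theorem cell_mul_of_le {s n x y : G} (hs : s ∈ P.S) (hn : n ∈ P.N) (hle : len P n ≤ len P (s * n))
    (hx : x ∈ cell P s) (hy : y ∈ cell P n) : x * y ∈ cell P (s * n) := by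
  obtain ⟨b, hb, c, hc, rfl⟩ := mem_cell.1 hx
  obtain ⟨d, hd, e, he, rfl⟩ := mem_cell.1 hy
  have e1 : b * s * c * (d * n * e) = b * (s * (c * d) * n) * e := by group
  rw [e1]
  exact mul_mem_cell (mul_mem_cell_of_le _ n rfl hn s hs hle (c * d) (mul_mem hc hd)) hb he

theorem exists_conj_mem_cell {s : G} (hs : s ∈ P.S) : ∃ b ∈ P.B, s * b * s ∈ cell P s := by
  by_contra h
  push Not at h
  have hsub : ∀ b ∈ P.B, s * b * s ∈ P.B := by
    intro b hb
    rcases P.mul_mem_union s hs s (P.subset hs) b hb with h' | h'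
    · obtain ⟨c, hc, d, hd, he⟩ := mem_cell.1 h'
      rw [he]
      exact mul_mem (mul_mem hc (P.sq_mem s hs)) hd
    · exact absurd h' (h b hb)
  apply P.conj_ne s hs
  ext g
  constructor
  · rintro ⟨b, hb, rfl⟩; exact hsub b hb
  · intro hg
    refine ⟨s⁻¹ * g * s⁻¹, ?_, by group⟩
    have h1 := hsub g hg
    have hq := P.sq_mem s hs
    have e : s⁻¹ * g * s⁻¹ = (s * s)⁻¹ * (s * g * s) * (s * s)⁻¹ := by group
    show _ ∈ P.B
    rw [e]
    exact mul_mem (mul_mem (inv_mem hq) h1) (inv_mem hq)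

/-- If the length does not increase then `s B n` meets `C(n)`. -/
theorem exists_mul_mem_cell_of_ge {s n : G} (hs : s ∈ P.S) (hn : n ∈ P.N)
    (hle : len P (s * n) ≤ len P n) : ∃ b ∈ P.B, s * b * n ∈ cell P n := by
  obtain ⟨b, hb, hbs⟩ := exists_conj_mem_cell hs
  have hsn : s * n ∈ P.N := mul_mem (P.subset hs) hn
  have hsq : Same P n (s * (s * n)) := same_sq_mul hs hn
  have hle' : len P (s * n) ≤ len P (s * (s * n)) := by rwa [← len_congr hsq]
  have h1 := cell_mul_of_le hs hsn hle' hbs (self_mem_cell (s * n))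
  rw [← hsq.cell_eq] at h1
  have hq := P.sq_mem s hs
  refine ⟨b * (s * s), mul_mem hb hq, ?_⟩
  simpa [mul_assoc] using h1

theorem len_mul_ne {s n : G} (hs : s ∈ P.S) (hn : n ∈ P.N) : len P (s * n) ≠ len P n := by
  intro h
  obtain ⟨b, hb, h1⟩ := exists_mul_mem_cell_of_ge hs hn h.le
  exact not_same_mul hs hn
    (same_of_mem_cell hn (mul_mem (P.subset hs) hn) h1 (mul_mem_cell_of_le _ n rfl hn s hs h.ge b hb))

theorem len_mul_cases {s n : G} (hs : s ∈ P.S) (hn : n ∈ P.N) :
    len P (s * n) = len P n + 1 ∨ len P (s * n) + 1 = len P n := by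
  have h1 := len_mul_le hs hn
  have h2 := len_le_mul hs hn
  have h3 := len_mul_ne hs hn
  omega

/-- The exchange property. -/
theorem exchange : ∀ (l : List G), (∀ r ∈ l, r ∈ P.S) → len P l.prod = l.length → ∀ s ∈ P.S,
    len P (s * l.prod) < l.length → ∃ i < l.length, Same P (l.eraseIdx i).prod (s * l.prod) := by
  intro l
  induction l using List.reverseRecOn with
  | nil => intro _ _ s _ h; simp at h
  | append_singleton l r ih =>
    intro hS hred s hs hlt
    have hlS : ∀ x ∈ l, x ∈ P.S := fun x hx => hS x (by simp [hx])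
    have hr : r ∈ P.S := hS r (by simp)
    have hm : l.prod ∈ P.N := prod_mem_N hlS
    simp only [List.prod_append, List.prod_singleton, List.length_append, List.length_singleton] at hred hlt ⊢
    have hlen : len P l.prod = l.length := by
      have h1 := len_le (P := P) (l := l) hlS Same.rfl'
      have h2 := len_mul_right_le hr hm
      omega
    by_cases hd : len P (s * l.prod) < l.length
    · obtain ⟨i, hi, h⟩ := ih hlS hlen s hs hd
      refine ⟨i, by omega, ?_⟩
      rw [List.eraseIdx_append_of_lt_length hi, List.prod_append, List.prod_singleton, ← mul_assoc]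
      exact h.mul_right (P.subset hr)
    · have hn : l.prod * r ∈ P.N := mul_mem hm (P.subset hr)
      obtain ⟨b, hb, h1⟩ := exists_mul_mem_cell_of_ge hs hn (by omega)
      have h2 := mul_mem_cell_of_le _ l.prod rfl hm s hs (by omega) b hb
      obtain ⟨b1, hb1, b2, hb2, he⟩ := mem_cell.1 h2
      have hsm : s * l.prod ∈ P.N := mul_mem (P.subset hs) hm
      have e : s * b * (l.prod * r) = b1 * (s * l.prod * b2 * r) * 1 := by
        rw [← mul_assoc (s * b), he]; group
      rw [e] at h1
      rcases mul_mem_union' hr hsm hb2 with h' | h'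
      · have h'' := mul_mem_cell h' hb1 P.B.one_mem
        have h3 := same_of_mem_cell hn (mul_mem hsm (P.subset hr)) h1 h''
        exact absurd (by simpa [mul_assoc] using h3) (not_same_mul hs hn)
      · have h'' := mul_mem_cell h' hb1 P.B.one_mem
        have h3 := same_of_mem_cell hn hsm h1 h''
        refine ⟨l.length, by omega, ?_⟩
        rw [List.eraseIdx_append_of_length_le le_rfl]
        simp only [Nat.sub_self, List.eraseIdx_cons_zero, List.append_nil]
        exact ((h3.mul_left s).trans (same_sq_mul hs hm).symm).symm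

/-- Any word reduces to a reduced word in the same letters. -/
theorem exists_reduced_in {J : Set G} (hJ : J ⊆ P.S) : ∀ (l : List G), (∀ r ∈ l, r ∈ J) →
    ∃ l' : List G, (∀ r ∈ l', r ∈ J) ∧ Same P l'.prod l.prod ∧ l'.length = len P l.prod := by
  intro l
  induction l with
  | nil => intro _; exact ⟨[], by simp, Same.rfl', by simp [len_one]⟩
  | cons r l ih =>
    intro hl
    obtain ⟨l', hl', hsame, hlen⟩ := ih fun x hx => hl x (List.mem_cons_of_mem _ hx)
    have hr : r ∈ J := hl r (List.mem_cons_self ..)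
    have hN : l.prod ∈ P.N := prod_mem_N fun x hx => hJ (hl x (List.mem_cons_of_mem _ hx))
    rw [List.prod_cons]
    rcases len_mul_cases (hJ hr) hN with h | h
    · refine ⟨r :: l', ?_, by simpa using hsame.mul_left r, by simp [hlen, h]⟩
      intro x hx
      rcases List.mem_cons.1 hx with rfl | hx
      exacts [hr, hl' x hx]
    · have hlt : len P (r * l'.prod) < l'.length := by
        rw [len_congr (hsame.mul_left r)]; omega
      obtain ⟨i, hi, hd⟩ := exchange l' (fun x hx => hJ (hl' x hx)) (by rw [len_congr hsame, hlen]) r (hJ hr) hlt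
      refine ⟨l'.eraseIdx i, fun x hx => hl' x (List.mem_of_mem_eraseIdx hx),
        hd.trans (hsame.mul_left r), ?_⟩
      rw [List.length_eraseIdx_of_lt hi]
      omega

/-! ### Subgroups containing `B` -/

/-- Every letter of a reduced word for `n` lies in any subgroup containing `B` and `n B n⁻¹`. -/
theorem letters_mem : ∀ (l : List G), (∀ r ∈ l, r ∈ P.S) → len P l.prod = l.length → ∀ (n : G),
    Same P l.prod n → ∀ M : Subgroup G, P.B ≤ M → (∀ b ∈ P.B, n * b * n⁻¹ ∈ M) → ∀ r ∈ l, r ∈ M := by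
  intro l
  induction l with
  | nil => simp
  | cons s l ih =>
    intro hS hred n hsame M hBM hconj
    simp only [List.prod_cons, List.length_cons] at hred hsame
    have hs : s ∈ P.S := hS s (List.mem_cons_self ..)
    have hlS : ∀ x ∈ l, x ∈ P.S := fun x hx => hS x (List.mem_cons_of_mem _ hx)
    have hm := prod_mem_N hlS
    have hN : s * l.prod ∈ P.N := mul_mem (P.subset hs) hm
    have hl1 : len P l.prod = l.length := by
      have h1 := len_le (P := P) (l := l) hlS Same.rfl'
      have h2 := len_mul_le hs hm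
      omega
    have hle : len P (s * (s * l.prod)) ≤ len P (s * l.prod) := by
      rw [← len_congr (same_sq_mul hs hm)]; omega
    obtain ⟨b, hb, hc⟩ := exists_mul_mem_cell_of_ge hs hN hle
    obtain ⟨b1, hb1, b2, hb2, he⟩ := mem_cell.1 hc
    -- pass from `n` to the product of the word
    have hconj' : ∀ c ∈ P.B, (s * l.prod) * c * (s * l.prod)⁻¹ ∈ M := by
      intro c hc
      have ht := hsame.1
      have := hconj (((s * l.prod)⁻¹ * n)⁻¹ * c * ((s * l.prod)⁻¹ * n))
        (mul_mem (mul_mem (inv_mem ht) hc) ht)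
      convert this using 1
      group
    have hsM : s ∈ M := by
      have e : s = b1 * ((s * l.prod) * b2 * (s * l.prod)⁻¹) * b⁻¹ := by
        calc s = (s * b * (s * l.prod)) * (s * l.prod)⁻¹ * b⁻¹ := by group
          _ = _ := by rw [he]; group
      rw [e]
      exact mul_mem (mul_mem (hBM hb1) (hconj' b2 hb2)) (inv_mem (hBM hb))
    intro r hr
    rcases List.mem_cons.1 hr with rfl | hr
    · exact hsM
    · refine ih hlS hl1 l.prod Same.rfl' M hBM (fun c hc => ?_) r hr
      have := mul_mem (mul_mem (inv_mem hsM) (hconj' c hc)) hsM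
      convert this using 1
      group

theorem mem_of_conj_le {n : G} (hn : n ∈ P.N) {M : Subgroup G} (hBM : P.B ≤ M)
    (h : ∀ b ∈ P.B, n * b * n⁻¹ ∈ M) : n ∈ M := by
  obtain ⟨l, hl, hS, hsame⟩ := exists_reduced hn
  have hl' : len P l.prod = l.length := by rw [len_congr hsame, hl]
  have h1 := letters_mem l hS hl' n hsame M hBM h
  have h2 : l.prod ∈ M := list_prod_mem h1
  have := mul_mem h2 (hBM hsame.1)
  simpa using this

theorem B_le_parabolic (J : Set G) : P.B ≤ P.parabolic J := le_sup_left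

theorem subset_parabolic (J : Set G) : J ⊆ (P.parabolic J : Set G) :=
  fun _ hx => Subgroup.mem_sup_right (Subgroup.subset_closure hx)

theorem closure_le_parabolic (J : Set G) : Subgroup.closure J ≤ P.parabolic J := le_sup_right

theorem mem_parabolic_iff {J : Set G} (hJ : J ⊆ P.S) (g : G) :
    g ∈ P.parabolic J ↔ ∃ n ∈ Subgroup.closure J, g ∈ cell P n := by
  refine ⟨parabolic_cells hJ, fun ⟨n, hn, h⟩ => ?_⟩
  obtain ⟨b, hb, c, hc, rfl⟩ := mem_cell.1 h
  exact mul_mem (mul_mem (B_le_parabolic J hb) (closure_le_parabolic J hn)) (B_le_parabolic J hc)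

/-- The only distinguished generators in `P_J` are those in `J`. -/
theorem S_inter_parabolic {J : Set G} (hJ : J ⊆ P.S) : P.S ∩ (P.parabolic J : Set G) = J := by
  refine Set.Subset.antisymm ?_ (Set.subset_inter hJ (subset_parabolic J))
  rintro s ⟨hs, hsJ⟩
  obtain ⟨n, hn, hsn⟩ := parabolic_cells hJ hsJ
  have hnN : n ∈ P.N := (Subgroup.closure_le _).2 (hJ.trans P.subset) hn
  have h1 : Same P n s := same_of_mem_cell hnN (P.subset hs) hsn (self_mem_cell s)
  obtain ⟨l, hl, h2⟩ := exists_word hJ (Subgroup.mem_sup_left hn)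
  obtain ⟨l', hl', h3, h4⟩ := exists_reduced_in hJ l hl
  have h5 : Same P l'.prod s := h3.trans (h2.trans h1)
  rw [len_congr (h2.trans h1), len_S hs] at h4
  obtain ⟨r, rfl⟩ := List.length_eq_one_iff.1 h4
  have hr : r ∈ J := hl' r (List.mem_singleton_self r)
  have : r = s := P.inj r (hJ hr) s hs (by simpa using h5.1)
  exact this ▸ hr

/-- Every subgroup containing `B` is parabolic. -/
theorem eq_parabolic {M : Subgroup G} (hM : P.B ≤ M) : M = P.parabolic (P.S ∩ (M : Set G)) := by
  refine le_antisymm ?_ (sup_le hM ((Subgroup.closure_le _).2 Set.inter_subset_right))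
  intro g hg
  obtain ⟨n, hn, h⟩ := bruhat (P := P) g
  obtain ⟨b, hb, c, hc, rfl⟩ := mem_cell.1 h
  have hnM : n ∈ M := by
    have e : n = b⁻¹ * (b * n * c) * c⁻¹ := by group
    rw [e]
    exact mul_mem (mul_mem (inv_mem (hM hb)) hg) (inv_mem (hM hc))
  obtain ⟨l, hl, hS, hsame⟩ := exists_reduced hn
  have h1 := letters_mem l hS (by rw [len_congr hsame, hl]) n hsame M hM
    (fun x hx => mul_mem (mul_mem hnM (hM hx)) (inv_mem hnM))
  have h2 : l.prod ∈ P.parabolic (P.S ∩ (M : Set G)) :=
    list_prod_mem fun r hr => subset_parabolic (P.S ∩ (M : Set G)) ⟨hS r hr, h1 r hr⟩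
  have h3 : n ∈ P.parabolic (P.S ∩ (M : Set G)) := by
    simpa using mul_mem h2 (B_le_parabolic _ hsame.1)
  exact mul_mem (mul_mem (B_le_parabolic _ hb) h3) (B_le_parabolic _ hc)

theorem parabolic_injective {J K : Set G} (hJ : J ⊆ P.S) (hK : K ⊆ P.S)
    (h : P.parabolic J = P.parabolic K) : J = K := by
  rw [← S_inter_parabolic hJ, ← S_inter_parabolic hK, h]

theorem parabolic_mono {J K : Set G} (h : J ⊆ K) : P.parabolic J ≤ P.parabolic K :=
  sup_le le_sup_left ((Subgroup.closure_mono h).trans le_sup_right)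

theorem parabolic_inf {J K : Set G} (hJ : J ⊆ P.S) (hK : K ⊆ P.S) :
    P.parabolic J ⊓ P.parabolic K = P.parabolic (J ∩ K) := by
  rw [eq_parabolic (M := P.parabolic J ⊓ P.parabolic K) (le_inf (B_le_parabolic J) (B_le_parabolic K))]
  congr 1
  rw [Subgroup.coe_inf, Set.inter_inter_distrib_left, S_inter_parabolic hJ, S_inter_parabolic hK]

/-- Conjugate subgroups containing `B` are equal. -/
theorem eq_of_conj {M M' : Subgroup G} (hM : P.B ≤ M) (hM' : P.B ≤ M') (g : G)
    (h : ∀ x, x ∈ M ↔ g * x * g⁻¹ ∈ M') : M = M' ∧ g ∈ M := by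
  obtain ⟨n, hn, hg⟩ := bruhat (P := P) g
  obtain ⟨b, hb, c, hc, rfl⟩ := mem_cell.1 hg
  have key : ∀ x ∈ M, n * x * n⁻¹ ∈ M' := by
    intro x hx
    have h1 := (h (c⁻¹ * x * c)).1 (mul_mem (mul_mem (inv_mem (hM hc)) hx) (hM hc))
    have := mul_mem (mul_mem (inv_mem (hM' hb)) h1) (hM' hb)
    convert this using 1
    group
  have hnM : n ∈ M' := mem_of_conj_le hn hM' fun x hx => key x (hM hx)
  have hgM : b * n * c ∈ M' := mul_mem (mul_mem (hM' hb) hnM) (hM' hc)
  have e : M = M' := by
    ext x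
    rw [h x]
    constructor
    · intro hx
      have := mul_mem (mul_mem (inv_mem hgM) hx) hgM
      simpa [mul_assoc] using this
    · intro hx
      exact mul_mem (mul_mem hgM hx) (inv_mem hgM)
  exact ⟨e, e ▸ hgM⟩

end Cfsg.Lib.Linear.BN
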