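import Cfsg.Agent.Lib.Linear.OrthBasic

/-!
# The standard even-dimensional quadratic forms are non-degenerate
-/

set_option autoImplicit false

namespace Cfsg.Lib.Linear.Orth

variable {F : Type*} [Field F]

theorem polar_plus_apply (m : ℕ) (u v : Fin m ⊕ Fin m → F) :
    QuadraticMap.polar (Cfsg.quadFormPlus m F) u v =
      ∑ i, (u (.inl i) * v (.inr i) + u (.inr i) * v (.inl i)) := by
  simp only [QuadraticMap.polar, Cfsg.quadFormPlus, Pi.add_apply, ← Finset.sum_sub_distrib]
  exact Finset.sum_congr rfl fun i _ => by ring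

theorem exists_space_plus (m : ℕ) :
    ∃ B : LinearMap.BilinForm F (Fin m ⊕ Fin m → F), Space (Cfsg.quadFormPlus m F) B := by
  classical
  refine ⟨LinearMap.mk₂ F (fun u v => ∑ i, (u (.inl i) * v (.inr i) + u (.inr i) * v (.inl i)))
    (fun a b c => by
      rw [← Finset.sum_add_distrib]
      exact Finset.sum_congr rfl fun i _ => by simp only [Pi.add_apply]; ring)
    (fun r a b => by
      rw [smul_eq_mul, Finset.mul_sum]
      exact Finset.sum_congr rfl fun i _ => by simp only [Pi.smul_apply, smul_eq_mul]; ring)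
    (fun a b c => by
      rw [← Finset.sum_add_distrib]
      exact Finset.sum_congr rfl fun i _ => by simp only [Pi.add_apply]; ring)
    (fun r a b => by
      rw [smul_eq_mul, Finset.mul_sum]
      exact Finset.sum_congr rfl fun i _ => by simp only [Pi.smul_apply, smul_eq_mul]; ring),
    fun c v => ?_, fun u v => polar_plus_apply m u v, fun v hv => funext fun j => ?_⟩
  · simp only [Cfsg.quadFormPlus, Pi.smul_apply, smul_eq_mul, Finset.mul_sum]
    exact Finset.sum_congr rfl fun i _ => by ring
  rcases j with j | j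
  · have := hv (Pi.single (.inr j) 1)
    simpa [Pi.single_apply] using this
  · have := hv (Pi.single (.inl j) 1)
    simpa [Pi.single_apply] using this

theorem exists_space_minus [Finite F] (m : ℕ) (a b : F)
    (hab : ∀ z₁ z₂ : F, z₁ ^ 2 + a * z₁ * z₂ + b * z₂ ^ 2 = 0 → z₁ = 0 ∧ z₂ = 0) :
    ∃ B : LinearMap.BilinForm F ((Fin m ⊕ Fin m) ⊕ Fin 2 → F),
      Space (Cfsg.quadFormMinus m F a b) B := by
  classical
  refine ⟨LinearMap.mk₂ F (fun u v =>
      (∑ i, (u (.inl (.inl i)) * v (.inl (.inr i)) + u (.inl (.inr i)) * v (.inl (.inl i)))) +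
        (2 * u (.inr 0) * v (.inr 0) + a * u (.inr 0) * v (.inr 1) + a * u (.inr 1) * v (.inr 0) +
          2 * b * u (.inr 1) * v (.inr 1)))
    (fun p r c => by
      simp only [Pi.add_apply, add_mul, mul_add, Finset.sum_add_distrib]; ring)
    (fun r p c => by
      simp only [Pi.smul_apply, smul_eq_mul, mul_add, Finset.mul_sum]
      congr 1
      · exact Finset.sum_congr rfl fun i _ => by ring
      · ring)
    (fun p r c => by
      simp only [Pi.add_apply, add_mul, mul_add, Finset.sum_add_distrib]; ring)
    (fun r p c => by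
      simp only [Pi.smul_apply, smul_eq_mul, mul_add, Finset.mul_sum]
      congr 1
      · exact Finset.sum_congr rfl fun i _ => by ring
      · ring),
    fun c v => ?_, fun u v => ?_, fun v hv => funext fun j => ?_⟩
  · simp only [Cfsg.quadFormMinus, Pi.smul_apply, smul_eq_mul, Finset.mul_sum, mul_add]
    congr 1
    · exact Finset.sum_congr rfl fun i _ => by ring
    · ring
  · simp only [QuadraticMap.polar, Cfsg.quadFormMinus, Pi.add_apply, LinearMap.mk₂_apply]
    have : ∀ i : Fin m, (u (.inl (.inl i)) + v (.inl (.inl i))) * (u (.inl (.inr i)) + v (.inl (.inr i)))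
        = u (.inl (.inl i)) * u (.inl (.inr i)) + v (.inl (.inl i)) * v (.inl (.inr i)) +
          (u (.inl (.inl i)) * v (.inl (.inr i)) + u (.inl (.inr i)) * v (.inl (.inl i))) :=
      fun i => by ring
    simp only [this, Finset.sum_add_distrib]
    ring
  rcases j with (j | j) | j
  · simpa [Pi.single_apply] using hv (Pi.single (.inl (.inr j)) 1)
  · simpa [Pi.single_apply] using hv (Pi.single (.inl (.inl j)) 1)
  have h0 := hv (Pi.single (.inr 0) 1)
  have h1 := hv (Pi.single (.inr 1) 1)
  simp [Pi.single_apply] at h0 h1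
  set x := v (.inr 0)
  set y := v (.inr 1)
  suffices hxy : x = 0 ∧ y = 0 by fin_cases j; exacts [hxy.1, hxy.2]
  by_cases h2 : (2 : F) = 0
  · have ha : a ≠ 0 := fun ha => by
      haveI : CharP F 2 := CharTwo.of_one_ne_zero_of_two_eq_zero one_ne_zero h2
      have := Fintype.ofFinite F
      obtain ⟨r, hr⟩ := FiniteField.isSquare_of_char_two (ringChar.eq F 2) b
      have := (hab r 1 (by rw [ha, hr]; linear_combination (r * r) * h2)).2
      exact one_ne_zero this
    exact ⟨(mul_eq_zero.mp (show a * x = 0 by linear_combination h1 - b * y * h2)).resolve_left ha,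
      (mul_eq_zero.mp (show a * y = 0 by linear_combination h0 - x * h2)).resolve_left ha⟩
  · refine hab x y (mul_left_cancel₀ h2 ?_)
    linear_combination x * h0 + y * h1

end Cfsg.Lib.Linear.Orth
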