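import Cfsg.Agent.Lib.Linear.OrthBasic

/-!
# The standard odd-dimensional quadratic form

`quadFormOdd m F` is a non-degenerate quadratic form when `2 ≠ 0` in `F`.
-/

set_option autoImplicit false

namespace Cfsg.Lib.Linear.Orth

variable {F : Type*} [Field F]

theorem two_ne_zero_of_odd_card [Fintype F] (h : Odd (Fintype.card F)) : (2 : F) ≠ 0 := by
  intro h2
  have : CharP F 2 := CharTwo.of_one_ne_zero_of_two_eq_zero one_ne_zero h2
  have h3 := FiniteField.even_card_of_char_two (F := F) (ringChar.eq F 2)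
  rw [Nat.odd_iff] at h
  omega

theorem isQuad_odd (m : ℕ) (h2 : (2 : F) ≠ 0) :
    Cfsg.Geo.IsNondegenerateQuadraticForm (Cfsg.quadFormOdd m F) := by
  have hpol : ∀ u v : Unit ⊕ (Fin m ⊕ Fin m) → F,
      QuadraticMap.polar (Cfsg.quadFormOdd m F) u v = 2 * u (.inl ()) * v (.inl ()) +
        ∑ i, (u (.inr (.inl i)) * v (.inr (.inr i)) + u (.inr (.inr i)) * v (.inr (.inl i))) := by
    intro u v
    simp only [QuadraticMap.polar, Cfsg.quadFormOdd, Pi.add_apply]
    rw [Finset.sum_add_distrib,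
      Finset.sum_congr rfl (fun i _ => show (u (.inr (.inl i)) + v (.inr (.inl i))) *
        (u (.inr (.inr i)) + v (.inr (.inr i))) = u (.inr (.inl i)) * u (.inr (.inr i)) +
        v (.inr (.inl i)) * v (.inr (.inr i)) + u (.inr (.inl i)) * v (.inr (.inr i)) +
        u (.inr (.inr i)) * v (.inr (.inl i)) by ring)]
    simp only [Finset.sum_add_distrib]
    ring
  refine ⟨fun c v => ?_, ⟨fun x y v => ?_, fun c x v => ?_, fun v x y => ?_, fun c v x => ?_⟩,
    fun v hv => ?_⟩
  · simp only [Cfsg.quadFormOdd, Pi.smul_apply, smul_eq_mul, mul_add, Finset.mul_sum, mul_pow]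
    congr 1
    exact Finset.sum_congr rfl fun i _ => by ring
  · simp only [hpol, Pi.add_apply, add_mul, mul_add, Finset.sum_add_distrib]; ring
  · simp only [hpol, Pi.smul_apply, smul_eq_mul, mul_add, Finset.mul_sum]
    congr 1
    · ring
    · exact Finset.sum_congr rfl fun i _ => by ring
  · simp only [hpol, Pi.add_apply, add_mul, mul_add, Finset.sum_add_distrib]; ring
  · simp only [hpol, Pi.smul_apply, smul_eq_mul, mul_add, Finset.mul_sum]
    congr 1
    · ring
    · exact Finset.sum_congr rfl fun i _ => by ring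
  have hx : ∃ x, QuadraticMap.polar (Cfsg.quadFormOdd m F) x v ≠ 0 := by
    obtain ⟨i, hi⟩ := Function.ne_iff.mp hv
    classical
    rcases i with _ | i | i
    · exact ⟨Pi.single (.inl ()) 1, by simpa [hpol, h2] using hi⟩
    · exact ⟨Pi.single (.inr (.inr i)) 1, by simpa [hpol, Pi.single_apply] using hi⟩
    · exact ⟨Pi.single (.inr (.inl i)) 1, by simpa [hpol, Pi.single_apply] using hi⟩
  obtain ⟨x, hx⟩ := hx
  exact ⟨⟨x, hx⟩, x, by rwa [QuadraticMap.polar_comm]⟩

theorem card_odd_index (m : ℕ) : Fintype.card (Unit ⊕ (Fin m ⊕ Fin m)) = 2 * m + 1 := by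
  simp; omega

end Cfsg.Lib.Linear.Orth
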