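import Cfsg.Agent.Lib.Linear.OrthOrder
import Cfsg.Agent.Lib.Linear.OrthForms
import Cfsg.Agent.Lib.Linear.OrthOdd

/-!
# The standard orthogonal spaces over a finite field: singular vectors and group orders
-/

set_option autoImplicit false

namespace Cfsg.Lib.Linear.Orth

open Module
open scoped Matrix

variable {ι : Type} [Fintype ι] [DecidableEq ι] {F : Type*} [Field F] [Finite F]
  {Q : (ι → F) → F} {B : LinearMap.BilinForm F (ι → F)}

theorem HypFam.hyp (C : Space Q B) {m : ℕ} {e f : Fin m → ι → F} (hf : HypFam Q B e f) (j : ℕ)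
    (h : j < m) : Hyp Q B (restOf B e f j) (e ⟨j, h⟩) (f ⟨j, h⟩) :=
  ⟨(mem_restOf e f h.le).mpr fun i hi => by
      have hne : i ≠ ⟨j, h⟩ := fun he => by rw [he] at hi; exact lt_irrefl j hi
      exact ⟨hf.ee _ _ hne, by rw [C.symm]; exact hf.ef _ _ hne.symm⟩,
    (mem_restOf e f h.le).mpr fun i hi => by
      have hne : i ≠ ⟨j, h⟩ := fun he => by rw [he] at hi; exact lt_irrefl j hi
      exact ⟨hf.ef _ _ hne, hf.ff _ _ hne⟩,
    hf.singE _, hf.singF _, hf.pair _⟩

theorem HypFam.ndeg_rest (C : Space Q B) {m : ℕ} {e f : Fin m → ι → F} (hf : HypFam Q B e f) :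
    ∀ j, j ≤ m → NDeg B (restOf B e f j) := by
  intro j
  induction j with
  | zero => exact fun _ => C.ndeg_top
  | succ j ih =>
    intro h
    rw [restOf_succ e f h]
    exact (hf.hyp C j h).ndeg C (ih (Nat.le_of_lt h))

/-- Singular vectors and group order of a space with a hyperbolic family and anisotropic rest. -/
theorem hypFam_counts (C : Space Q B) {m : ℕ} {e f : Fin m → ι → F} (hf : HypFam Q B e f)
    (r : ℕ) (G0 : ℤ)
    (hc : (Nat.card ↥(restOf B e f m) : ℤ) = (Nat.card F : ℤ) ^ r)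
    (hz : sgCount Q (restOf B e f m) = 1)
    (hg : (Nat.card ↥(relIso Q B (restOf B e f m)) : ℤ) = G0) :
    (m ≠ 0 → (Nat.card {x : ι → F // Q x = 0} : ℤ) =
      ((Nat.card F : ℤ) ^ m - 1) * ((Nat.card F : ℤ) ^ (r + m - 1) + 1) + 1) ∧
    (m = 0 → (Nat.card {x : ι → F // Q x = 0} : ℤ) = 1) ∧
    (Nat.card ↥(isometryGroup F Q) : ℤ) = (Nat.card F : ℤ) ^ (r * m + m * (m - 1)) *
      (∏ i ∈ Finset.range m,
        ((Nat.card F : ℤ) ^ (i + 1) - 1) * ((Nat.card F : ℤ) ^ (r + i) + 1)) * G0 := by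
  set q : ℤ := (Nat.card F : ℤ)
  have key : ∀ k j, j + k = m → (Nat.card ↥(restOf B e f j) : ℤ) = q ^ (r + 2 * k) ∧
      sgCount Q (restOf B e f j) =
        (if k = 0 then 0 else (q ^ k - 1) * (q ^ (r + k - 1) + 1)) + 1 ∧
      (Nat.card ↥(relIso Q B (restOf B e f j)) : ℤ) =
        q ^ (r * k + k * (k - 1)) *
          (∏ i ∈ Finset.range k, (q ^ (i + 1) - 1) * (q ^ (r + i) + 1)) * G0 := by
    intro k
    induction k with
    | zero =>
      intro j hj
      rw [Nat.add_zero] at hj
      subst hj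
      simp [hc, hz, hg]
    | succ k ih =>
      intro j hj
      obtain ⟨h1, h2, h3⟩ := ih (j + 1) (by omega)
      obtain ⟨-, e1, e2, e3⟩ := hypFam_rec C hf j (by omega)
      have hZ : sgCount Q (restOf B e f j) = (q ^ (k + 1) - 1) * (q ^ (r + k) + 1) + 1 := by
        rw [e2, h2, h1]
        rcases k with _ | k
        · simp; ring
        · rw [if_neg (Nat.succ_ne_zero k), show r + (k + 1) - 1 = r + k by omega,
            show r + 2 * (k + 1) = (r + k) + (k + 2) by ring, pow_add q (r + k)]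
          ring
      refine ⟨by rw [e1, h1]; ring, by rw [hZ, if_neg (Nat.succ_ne_zero k)]; rfl, ?_⟩
      rw [e3, hZ, h1, h3, Finset.prod_range_succ,
        show r * (k + 1) + (k + 1) * (k + 1 - 1) = (r * k + k * (k - 1)) + (r + 2 * k) by
          rcases k with _ | k
          · simp
          · simp only [Nat.add_sub_cancel]; ring, pow_add]
      ring
  obtain ⟨-, h2, h3⟩ := key m 0 (Nat.zero_add m)
  have hcard : (Nat.card {x : ι → F // Q x = 0} : ℤ) = sgCount Q (restOf B e f 0) := by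
    rw [sgCount]
    exact congrArg _ (Nat.card_congr (Equiv.subtypeEquivRight fun x => by simp [restOf]))
  refine ⟨fun hm => by rw [hcard, h2, if_neg hm], fun hm => by rw [hcard, h2, if_pos hm]; simp, ?_⟩
  rw [← h3]
  show _ = (Nat.card ↥(relIso Q B ⊤) : ℤ)
  rw [relIso_top C]

theorem prod_plus (q : ℤ) (k : ℕ) :
    ∏ i ∈ Finset.range (k + 1), (q ^ (i + 1) - 1) * (q ^ (0 + i) + 1) =
      2 * (q ^ (k + 1) - 1) * ∏ i ∈ Finset.range k, (q ^ (2 * (i + 1)) - 1) := by
  induction k with
  | zero => simp; ring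
  | succ k ih =>
    rw [Finset.prod_range_succ, ih, Finset.prod_range_succ (fun i => q ^ (2 * (i + 1)) - 1)]
    ring

theorem prod_odd (q : ℤ) (k : ℕ) :
    ∏ i ∈ Finset.range k, (q ^ (i + 1) - 1) * (q ^ (1 + i) + 1) =
      ∏ i ∈ Finset.range k, (q ^ (2 * (i + 1)) - 1) :=
  Finset.prod_congr rfl fun i _ => by ring

theorem prod_minus (q : ℤ) (k : ℕ) :
    (q + 1) * ∏ i ∈ Finset.range k, (q ^ (i + 1) - 1) * (q ^ (2 + i) + 1) =
      (q ^ (k + 1) + 1) * ∏ i ∈ Finset.range k, (q ^ (2 * (i + 1)) - 1) := by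
  induction k with
  | zero => simp
  | succ k ih =>
    rw [Finset.prod_range_succ, Finset.prod_range_succ, ← mul_assoc, ih]
    ring

theorem single_ext {g : GL ι F} (h : ∀ i, g.val *ᵥ Pi.single i 1 = Pi.single i 1) : g = 1 :=
  Units.ext (Matrix.ext_of_mulVec_single fun i => by rw [h, Units.val_one, Matrix.one_mulVec])

section Plus

variable {m : ℕ} {BP : LinearMap.BilinForm F (Fin m ⊕ Fin m → F)}

theorem hypFam_plus (C : Space (Cfsg.quadFormPlus m F) BP) :
    HypFam (Cfsg.quadFormPlus m F) BP (fun i => Pi.single (Sum.inl i) 1)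
      (fun i => Pi.single (Sum.inr i) 1) := by
  refine ⟨fun i => ?_, fun i => ?_, fun i => ?_, fun i j h => ?_, fun i j h => ?_, fun i j h => ?_⟩
  all_goals try rw [← C.polar, polar_plus_apply]
  all_goals simp [Cfsg.quadFormPlus, Pi.single_apply]
  all_goals exact fun h' => h h'.symm

theorem rest_plus (C : Space (Cfsg.quadFormPlus m F) BP) :
    restOf BP (fun i : Fin m => Pi.single (Sum.inl i) (1 : F))
      (fun i => Pi.single (Sum.inr i) 1) m = ⊥ := by
  refine eq_bot_iff.mpr fun x hx => (Submodule.mem_bot F).mpr (funext fun j => ?_)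
  have h := (mem_restOf _ _ le_rfl).mp hx
  rcases j with j | j
  · have := (h j j.2).2
    rw [← C.polar, polar_plus_apply] at this
    simpa [Pi.single_apply] using this
  · have := (h j j.2).1
    rw [← C.polar, polar_plus_apply] at this
    simpa [Pi.single_apply] using this

theorem counts_plus (m : ℕ) : (m ≠ 0 → (Nat.card {x // Cfsg.quadFormPlus m F x = 0} : ℤ) =
      ((Nat.card F : ℤ) ^ m - 1) * ((Nat.card F : ℤ) ^ (0 + m - 1) + 1) + 1) ∧
    (Nat.card ↥(isometryGroup F (Cfsg.quadFormPlus m F)) : ℤ) =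
      (Nat.card F : ℤ) ^ (m * (m - 1)) *
        ∏ i ∈ Finset.range m, ((Nat.card F : ℤ) ^ (i + 1) - 1) * ((Nat.card F : ℤ) ^ (0 + i) + 1) := by
  obtain ⟨BP, C⟩ := exists_space_plus (F := F) m
  have hR := rest_plus C
  have hbot : relIso (Cfsg.quadFormPlus m F) BP ⊥ = ⊥ := eq_bot_iff.mpr fun g hg =>
    Subgroup.mem_bot.mpr (single_ext fun i => hg.2 _ fun u hu => by
      rw [(Submodule.mem_bot F).mp hu, map_zero, LinearMap.zero_apply])
  obtain ⟨h1, -, h3⟩ := hypFam_counts C (hypFam_plus C) 0 1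
    (by rw [hR]; simp)
    (by
      rw [hR, sgCount, Nat.cast_eq_one, Nat.card_eq_one_iff_unique]
      refine ⟨⟨fun a b => Subtype.ext ?_⟩, ⟨⟨0, Submodule.zero_mem _, C.zero⟩⟩⟩
      rw [(Submodule.mem_bot F).mp a.2.1, (Submodule.mem_bot F).mp b.2.1])
    (by rw [hR, hbot]; simp)
  refine ⟨h1, ?_⟩
  rw [h3]
  ring

end Plus

section Odd

theorem counts_odd (h2 : (2 : F) ≠ 0) (m : ℕ) :
    (m ≠ 0 → (Nat.card {x // Cfsg.quadFormOdd m F x = 0} : ℤ) =
      ((Nat.card F : ℤ) ^ m - 1) * ((Nat.card F : ℤ) ^ (1 + m - 1) + 1) + 1) ∧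
    (m = 0 → (Nat.card {x // Cfsg.quadFormOdd m F x = 0} : ℤ) = 1) ∧
    (Nat.card ↥(isometryGroup F (Cfsg.quadFormOdd m F)) : ℤ) =
      (Nat.card F : ℤ) ^ (1 * m + m * (m - 1)) *
        (∏ i ∈ Finset.range m,
          ((Nat.card F : ℤ) ^ (i + 1) - 1) * ((Nat.card F : ℤ) ^ (1 + i) + 1)) * 2 := by
  classical
  obtain ⟨B, C⟩ := exists_space (isQuad_odd (F := F) m h2)
  set v : Unit ⊕ (Fin m ⊕ Fin m) → F := Pi.single (Sum.inl ()) 1 with hv
  let e : Fin m → Unit ⊕ (Fin m ⊕ Fin m) → F := fun i => Pi.single (Sum.inr (Sum.inl i)) 1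
  let f : Fin m → Unit ⊕ (Fin m ⊕ Fin m) → F := fun i => Pi.single (Sum.inr (Sum.inr i)) 1
  have hpol : ∀ x y, B x y = 2 * x (.inl ()) * y (.inl ()) + ∑ i,
      (x (.inr (.inl i)) * y (.inr (.inr i)) + x (.inr (.inr i)) * y (.inr (.inl i))) := fun x y => by
    rw [← C.polar]
    simp only [QuadraticMap.polar, Cfsg.quadFormOdd, Pi.add_apply]
    have : ∀ i : Fin m, (x (.inr (.inl i)) + y (.inr (.inl i))) * (x (.inr (.inr i)) + y (.inr (.inr i)))
        = x (.inr (.inl i)) * x (.inr (.inr i)) + y (.inr (.inl i)) * y (.inr (.inr i)) +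
          (x (.inr (.inl i)) * y (.inr (.inr i)) + x (.inr (.inr i)) * y (.inr (.inl i))) :=
      fun i => by ring
    simp only [this, Finset.sum_add_distrib]
    ring
  have hf : HypFam (Cfsg.quadFormOdd m F) B e f := by
    refine ⟨fun i => ?_, fun i => ?_, fun i => ?_, fun i j h => ?_, fun i j h => ?_, fun i j h => ?_⟩
    all_goals try rw [hpol]
    all_goals simp [e, f, Cfsg.quadFormOdd, Pi.single_apply]
    all_goals exact fun h' => h h'.symm
  have hQv : Cfsg.quadFormOdd m F v = 1 := by simp [hv, Cfsg.quadFormOdd, Pi.single_apply]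
  set R := restOf B e f m with hR
  have hmem : ∀ x, x ∈ R ↔ x = x (.inl ()) • v := fun x => by
    rw [hR, mem_restOf e f le_rfl]
    constructor
    · intro h
      funext j
      rcases j with ⟨⟨⟩⟩ | (j | j)
      · simp [hv]
      · have := (h j j.2).2
        simp [hpol, f, Pi.single_apply] at this
        simp [hv, this]
      · have := (h j j.2).1
        simp [hpol, e, Pi.single_apply] at this
        simp [hv, this]
    · intro h i _
      rw [h]
      simp [hpol, e, f, hv, Pi.single_apply]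
  have hvR : v ∈ R := (hmem v).mpr (by simp [hv])
  have e1 : R ≃ F := { toFun := fun x => x.1 (.inl ())
                       invFun := fun c => ⟨c • v, R.smul_mem c hvR⟩
                       left_inv := fun x => Subtype.ext ((hmem x.1).mp x.2).symm
                       right_inv := fun c => by simp [hv] }
  have hv1 : Cfsg.quadFormOdd m F v ≠ 0 := by rw [hQv]; exact one_ne_zero
  have hset : ∀ g : GL (Unit ⊕ (Fin m ⊕ Fin m)) F,
      g ∈ relIso (Cfsg.quadFormOdd m F) B R ↔ g = 1 ∨ g = rGL (Cfsg.quadFormOdd m F) v := by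
    intro g
    constructor
    · intro hg
      have hfix : ∀ i, g.val *ᵥ Pi.single (Sum.inr i) 1 = Pi.single (Sum.inr i) 1 := fun i =>
        hg.2 _ fun u hu => by
          rw [(hmem u).mp hu]
          simp [hpol, hv, Pi.single_apply]
      have hgv := relIso_act_mem C (hf.ndeg_rest C m le_rfl) hg hvR
      rw [hmem] at hgv
      set c := (g.val *ᵥ v) (.inl ())
      have hc : c * c = 1 := by
        have := mem_iso.mp hg.1 v
        rw [hgv, C.smul, hQv] at this
        linear_combination this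
      rcases mul_self_eq_one_iff.mp hc with hc | hc
      · refine Or.inl (single_ext fun i => ?_)
        rcases i with ⟨⟨⟩⟩ | i
        · rw [← hv, hgv, hc, one_smul]
        · exact hfix i
      · refine Or.inr ?_
        have h1 : rGL (Cfsg.quadFormOdd m F) v * g = 1 := single_ext fun i => by
          rcases i with ⟨⟨⟩⟩ | i
          · rw [mul_act, ← hv, hgv, hc, neg_one_smul, Matrix.mulVec_neg, rGL_self C hv1, neg_neg]
          · rw [mul_act, hfix i, rGL_fix C hv1 (by simp [hpol, hv, Pi.single_apply])]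
        rw [eq_inv_of_mul_eq_one_right h1, rGL_inv C hv1]
    · rintro (rfl | rfl)
      · exact one_mem _
      · exact rGL_mem_relIso C hvR hv1
  have hne : (1 : GL (Unit ⊕ (Fin m ⊕ Fin m)) F) ≠ rGL (Cfsg.quadFormOdd m F) v := fun h => by
    have h1 := rGL_self C hv1
    rw [← h, Units.val_one, Matrix.one_mulVec] at h1
    have h2' := congrFun h1 (.inl ())
    simp [hv] at h2'
    exact h2 (by linear_combination h2')
  refine hypFam_counts C hf 1 2 (by rw [Nat.card_congr e1, pow_one]) ?_ ?_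
  · rw [sgCount, Nat.cast_eq_one, Nat.card_eq_one_iff_unique]
    refine ⟨⟨fun a b => Subtype.ext ?_⟩, ⟨⟨0, Submodule.zero_mem _, C.zero⟩⟩⟩
    have h0 : ∀ x : {x // x ∈ R ∧ Cfsg.quadFormOdd m F x = 0}, x.1 = 0 := fun x => by
      have h := x.2.2
      rw [(hmem x.1).mp x.2.1, C.smul, hQv, mul_one] at h
      rw [(hmem x.1).mp x.2.1, pow_eq_zero_iff two_ne_zero |>.mp h, zero_smul]
    rw [h0 a, h0 b]
  · have e2 : (relIso (Cfsg.quadFormOdd m F) B R : Set _) = {1, rGL (Cfsg.quadFormOdd m F) v} :=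
      Set.ext hset
    rw [← SetLike.coe_sort_coe, e2, Nat.card_coe_set_eq, Set.ncard_pair hne]
    rfl

end Odd

/-! ## Anisotropic planes -/

section Minus

variable {a b : F}

theorem binary_fibre (hab : ∀ z₁ z₂ : F, z₁ ^ 2 + a * z₁ * z₂ + b * z₂ ^ 2 = 0 → z₁ = 0 ∧ z₂ = 0) :
    (Nat.card {z : F × F // z.1 ^ 2 + a * z.1 * z.2 + b * z.2 ^ 2 = 1} : ℤ) =
      (Nat.card F : ℤ) + 1 := by
  classical
  have := Fintype.ofFinite F
  let N : F × F → F := fun z => z.1 ^ 2 + a * z.1 * z.2 + b * z.2 ^ 2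
  have surj : ∀ c : F, ∃ z, N z = c := fun c => by
    by_cases h2 : (2 : F) = 0
    · haveI : CharP F 2 := CharTwo.of_one_ne_zero_of_two_eq_zero one_ne_zero h2
      obtain ⟨s, hs⟩ := FiniteField.isSquare_of_char_two (ringChar.eq F 2) c
      exact ⟨(s, 0), by show s ^ 2 + a * s * 0 + b * 0 ^ 2 = c; rw [hs]; ring⟩
    · obtain ⟨t, rfl⟩ : ∃ t, a = 2 * t := ⟨a / 2, (mul_div_cancel₀ a h2).symm⟩
      have hd : b - t ^ 2 ≠ 0 := fun h =>
        one_ne_zero (hab (-t) 1 (by linear_combination h)).2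
      obtain ⟨x, y, hxy⟩ := FiniteField.exists_root_sum_quadratic
        (f := (Polynomial.X : Polynomial F) ^ 2)
        (g := Polynomial.C (b - t ^ 2) * Polynomial.X ^ 2 - Polynomial.C c)
        (Polynomial.degree_X_pow 2)
        (by
          rw [Polynomial.degree_sub_eq_left_of_degree_lt, Polynomial.degree_C_mul_X_pow 2 hd]
          · rfl
          · rw [Polynomial.degree_C_mul_X_pow 2 hd]
            exact lt_of_le_of_lt Polynomial.degree_C_le (by decide))
        (FiniteField.odd_card_of_char_ne_two (fun h => h2 (by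
          haveI := ringChar.charP F
          have := CharP.cast_eq_zero F (ringChar F)
          rw [h] at this
          exact_mod_cast this)))
      simp at hxy
      refine ⟨(x - t * y, y), ?_⟩
      show (x - t * y) ^ 2 + 2 * t * (x - t * y) * y + b * y ^ 2 = c
      linear_combination hxy
  let mulz : F × F → F × F → F × F :=
    fun z w => (z.1 * w.1 - b * z.2 * w.2, z.1 * w.2 + z.2 * w.1 + a * z.2 * w.2)
  have hmul : ∀ z w, N (mulz z w) = N z * N w := fun z w => by simp only [N, mulz]; ring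
  have hinj : ∀ z, N z ≠ 0 → Function.Injective (mulz z) := fun z hz w w' h => by
    have h1 : mulz z (w - w') = 0 := by
      have e1 := congrArg Prod.fst h
      have e2 := congrArg Prod.snd h
      simp only [mulz] at e1 e2
      simp only [mulz, Prod.fst_sub, Prod.snd_sub]
      exact Prod.ext (by simp only [Prod.fst_zero]; linear_combination e1)
        (by simp only [Prod.snd_zero]; linear_combination e2)
    have h2 := hmul z (w - w')
    rw [h1] at h2
    have h3 : N (w - w') = 0 := by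
      have h00 : N 0 = 0 := by simp [N]
      rw [h00] at h2
      exact (mul_eq_zero.mp h2.symm).resolve_left hz
    obtain ⟨e1, e2⟩ := hab _ _ h3
    exact sub_eq_zero.mp (Prod.ext e1 e2)
  have heq : ∀ c d : F, c ≠ 0 → d ≠ 0 →
      (Finset.univ.filter fun z => N z = c).card ≤ (Finset.univ.filter fun z => N z = d).card := by
    intro c d hc hd
    obtain ⟨z, hz⟩ := surj (d / c)
    refine Finset.card_le_card_of_injOn (mulz z) (fun w hw => ?_)
      (fun w _ w' _ h => hinj z (by rw [hz]; exact div_ne_zero hd hc) h)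
    simp only [Finset.coe_filter, Finset.mem_univ, true_and, Set.mem_setOf_eq] at hw ⊢
    rw [hmul, hz, hw, div_mul_cancel₀ _ hc]
  have htot := Finset.card_eq_sum_card_fiberwise (f := N) (s := Finset.univ) (t := Finset.univ)
    (fun z _ => Finset.mem_univ _)
  rw [← Finset.add_sum_erase Finset.univ _ (Finset.mem_univ 0),
    Finset.sum_congr rfl fun c hc => le_antisymm
      (heq c 1 (Finset.ne_of_mem_erase hc) one_ne_zero)
      (heq 1 c one_ne_zero (Finset.ne_of_mem_erase hc)),
    Finset.sum_const, Finset.card_erase_of_mem (Finset.mem_univ _), Finset.card_univ,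
    Finset.card_univ, Fintype.card_prod, smul_eq_mul,
    show (Finset.univ.filter fun z => N z = 0) = {((0 : F), (0 : F))} by
      ext z
      simp only [Finset.mem_filter, Finset.mem_univ, true_and, Finset.mem_singleton, N]
      exact ⟨fun h => Prod.ext (hab _ _ h).1 (hab _ _ h).2, fun h => by subst h; simp⟩,
    Finset.card_singleton] at htot
  rw [Nat.card_eq_fintype_card, Nat.card_eq_fintype_card, Fintype.card_subtype]
  have hq := Fintype.one_lt_card (α := F)
  show ((Finset.univ.filter fun z => N z = 1).card : ℤ) = _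
  generalize (Finset.univ.filter fun z => N z = 1).card = n1 at htot ⊢
  obtain ⟨p, hp⟩ : ∃ p, Fintype.card F = p + 1 + 1 := ⟨Fintype.card F - 2, by omega⟩
  rw [hp] at htot ⊢
  simp only [Nat.add_sub_cancel] at htot
  have : n1 = p + 3 := Nat.eq_of_mul_eq_mul_left (Nat.succ_pos p) (by
    simp only [Nat.succ_eq_add_one]; nlinarith [htot])
  rw [this]; push_cast; ring

theorem counts_minus (m : ℕ)
    (hab : ∀ z₁ z₂ : F, z₁ ^ 2 + a * z₁ * z₂ + b * z₂ ^ 2 = 0 → z₁ = 0 ∧ z₂ = 0) :
    (m ≠ 0 → (Nat.card {x // Cfsg.quadFormMinus m F a b x = 0} : ℤ) =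
      ((Nat.card F : ℤ) ^ m - 1) * ((Nat.card F : ℤ) ^ (2 + m - 1) + 1) + 1) ∧
    (m = 0 → (Nat.card {x // Cfsg.quadFormMinus m F a b x = 0} : ℤ) = 1) ∧
    (Nat.card ↥(isometryGroup F (Cfsg.quadFormMinus m F a b)) : ℤ) =
      (Nat.card F : ℤ) ^ (2 * m + m * (m - 1)) *
        (∏ i ∈ Finset.range m,
          ((Nat.card F : ℤ) ^ (i + 1) - 1) * ((Nat.card F : ℤ) ^ (2 + i) + 1)) *
        (((Nat.card F : ℤ) + 1) * 2) := by
  classical
  obtain ⟨B, C⟩ := exists_space_minus (F := F) m a b hab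
  set QM := Cfsg.quadFormMinus m F a b with hQM
  let v : (Fin m ⊕ Fin m) ⊕ Fin 2 → F := Pi.single (Sum.inr 0) 1
  let w : (Fin m ⊕ Fin m) ⊕ Fin 2 → F := Pi.single (Sum.inr 1) 1
  let e : Fin m → (Fin m ⊕ Fin m) ⊕ Fin 2 → F := fun i => Pi.single (Sum.inl (Sum.inl i)) 1
  let f : Fin m → (Fin m ⊕ Fin m) ⊕ Fin 2 → F := fun i => Pi.single (Sum.inl (Sum.inr i)) 1
  have hpol : ∀ x y, B x y =
      (∑ i, (x (.inl (.inl i)) * y (.inl (.inr i)) + x (.inl (.inr i)) * y (.inl (.inl i)))) +
        (2 * x (.inr 0) * y (.inr 0) + a * x (.inr 0) * y (.inr 1) + a * x (.inr 1) * y (.inr 0) +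
          2 * b * x (.inr 1) * y (.inr 1)) := fun x y => by
    rw [← C.polar]
    simp only [hQM, QuadraticMap.polar, Cfsg.quadFormMinus, Pi.add_apply]
    have : ∀ i : Fin m, (x (.inl (.inl i)) + y (.inl (.inl i))) * (x (.inl (.inr i)) + y (.inl (.inr i)))
        = x (.inl (.inl i)) * x (.inl (.inr i)) + y (.inl (.inl i)) * y (.inl (.inr i)) +
          (x (.inl (.inl i)) * y (.inl (.inr i)) + x (.inl (.inr i)) * y (.inl (.inl i))) :=
      fun i => by ring
    simp only [this, Finset.sum_add_distrib]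
    ring
  have hf : HypFam QM B e f := by
    refine ⟨fun i => ?_, fun i => ?_, fun i => ?_, fun i j h => ?_, fun i j h => ?_, fun i j h => ?_⟩
    all_goals try rw [hpol]
    all_goals simp [e, f, hQM, Cfsg.quadFormMinus, Pi.single_apply]
    all_goals exact fun h' => h h'.symm
  set R := restOf B e f m with hR
  have hmem : ∀ x, x ∈ R ↔ x = x (.inr 0) • v + x (.inr 1) • w := fun x => by
    rw [hR, mem_restOf e f le_rfl]
    constructor
    · intro h
      funext j
      rcases j with (j | j) | j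
      · have := (h j j.2).2
        simp [hpol, f, Pi.single_apply] at this
        simp [v, w, this]
      · have := (h j j.2).1
        simp [hpol, e, Pi.single_apply] at this
        simp [v, w, this]
      · fin_cases j <;> simp [v, w]
    · intro h i _
      rw [h]
      simp [hpol, e, f, v, w, Pi.single_apply]
  have hvR : v ∈ R := (hmem v).mpr (by simp [v, w])
  have hwR : w ∈ R := (hmem w).mpr (by simp [v, w])
  have hQR : ∀ x ∈ R, QM x = x (.inr 0) ^ 2 + a * x (.inr 0) * x (.inr 1) + b * x (.inr 1) ^ 2 := by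
    intro x hx
    conv_lhs => rw [(hmem x).mp hx]
    simp [hQM, Cfsg.quadFormMinus, v, w, Pi.single_apply]
  have haniso : ∀ x ∈ R, QM x = 0 → x = 0 := fun x hx h => by
    rw [hQR x hx] at h
    obtain ⟨h0, h1⟩ := hab _ _ h
    rw [(hmem x).mp hx, h0, h1, zero_smul, zero_smul, add_zero]
  let e1 : R ≃ F × F :=
    { toFun := fun x => (x.1 (.inr 0), x.1 (.inr 1))
      invFun := fun z => ⟨z.1 • v + z.2 • w, R.add_mem (R.smul_mem _ hvR) (R.smul_mem _ hwR)⟩
      left_inv := fun x => Subtype.ext ((hmem x.1).mp x.2).symm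
      right_inv := fun z => by simp [v, w] }
  have hv1 : QM v = 1 := by rw [hQR v hvR]; simp [v]
  set p := a • v - (2 : F) • w with hp
  have hpR : p ∈ R := R.sub_mem (R.smul_mem _ hvR) (R.smul_mem _ hwR)
  have hvp : B v p = 0 := by simp [hp, hpol, v, w]; ring
  have hd : a ^ 2 - 4 * b ≠ 0 := fun h => by
    by_cases h2 : (2 : F) = 0
    · have ha : a = 0 := (pow_eq_zero_iff two_ne_zero).mp (by
        rw [show (4 : F) = 2 * 2 by norm_num, h2, zero_mul, zero_mul, sub_zero] at h; exact h)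
      haveI : CharP F 2 := CharTwo.of_one_ne_zero_of_two_eq_zero one_ne_zero h2
      have := Fintype.ofFinite F
      obtain ⟨r, hr⟩ := FiniteField.isSquare_of_char_two (ringChar.eq F 2) b
      exact one_ne_zero (hab r 1 (by rw [ha, hr]; linear_combination (r * r) * h2)).2
    · exact h2 (hab (-a) 2 (by linear_combination -h)).2
  have hwp : B w p = a ^ 2 - 4 * b := by simp [hp, hpol, v, w]; ring
  have hp0 : p ≠ 0 := fun h => hd (by rw [← hwp, h, map_zero])
  have hQp : QM p ≠ 0 := fun h => hp0 (haniso p hpR h)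
  have hfix : ∀ g ∈ relIso QM B R, ∀ i,
      g.val *ᵥ Pi.single (Sum.inl i) 1 = Pi.single (Sum.inl i) 1 := fun g hg i =>
    hg.2 _ fun u hu => by
      rw [(hmem u).mp hu]
      simp [hpol, v, w, Pi.single_apply]
  have hstab : ∀ g, (g ∈ relIso QM B R ∧ g.val *ᵥ v = v) ↔ g = 1 ∨ g = rGL QM p := by
    intro g
    constructor
    · rintro ⟨hg, hgv⟩
      have hgw := relIso_act_mem C (hf.ndeg_rest C m le_rfl) hg hwR
      set d := g.val *ᵥ w - w with hdd
      have hdR : d ∈ R := R.sub_mem hgw hwR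
      have hdv : B v d = 0 := by
        rw [hdd, map_sub]; nth_rewrite 1 [← hgv]; rw [C.B_act hg.1, sub_self]
      obtain ⟨t, ht⟩ : ∃ t : F, d = t • p := by
        rw [hpol] at hdv
        simp [v] at hdv
        by_cases h2 : (2 : F) = 0
        · have ha : a ≠ 0 := fun ha => hd (by
            rw [ha, show (4 : F) = 2 * 2 by norm_num, h2]; ring)
          have h1 : d (.inr 1) = 0 :=
            (mul_eq_zero.mp (show a * d (.inr 1) = 0 by
              linear_combination hdv - d (.inr 0) * h2)).resolve_left ha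
          refine ⟨d (.inr 0) / a, ?_⟩
          conv_lhs => rw [(hmem d).mp hdR, h1]
          rw [hp, h2]
          simp [smul_smul, div_mul_cancel₀ _ ha]
        · refine ⟨-(d (.inr 1)) / 2, ?_⟩
          conv_lhs => rw [(hmem d).mp hdR]
          rw [hp, smul_sub, smul_smul, smul_smul, div_mul_cancel₀ _ h2,
            show d (.inr 0) = -(d (.inr 1)) / 2 * a by field_simp; linear_combination hdv]
          module
      have hgw' : g.val *ᵥ w = w + t • p := by rw [← ht, hdd]; abel
      have hQt : t * (t * QM p + B w p) = 0 := by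
        have := mem_iso.mp hg.1 w
        rw [hgw', C.add, C.smul, map_smul, smul_eq_mul] at this
        linear_combination this
      rcases mul_eq_zero.mp hQt with ht0 | ht0
      · refine Or.inl (single_ext fun i => ?_)
        rcases i with i | i
        · exact hfix g hg i
        · fin_cases i
          · exact hgv
          · show g.val *ᵥ w = w
            rw [hgw', ht0, zero_smul, add_zero]
      · refine Or.inr ?_
        have hr := rGL_mem_relIso C hpR hQp
        have h1 : rGL QM p * g = 1 := single_ext fun i => by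
          rcases i with i | i
          · rw [mul_act, hfix g hg i, hfix _ hr i]
          · fin_cases i
            · show (rGL QM p * g).val *ᵥ v = v
              rw [mul_act, hgv, rGL_fix C hQp (by rw [C.symm]; exact hvp)]
            · show (rGL QM p * g).val *ᵥ w = w
              rw [mul_act, hgw', rGL_act C hQp, map_add, map_smul, C.self, smul_eq_mul, C.symm p w,
                show B w p = -(t * QM p) by linear_combination ht0,
                show (QM p)⁻¹ * (-(t * QM p) + t * (2 * QM p)) = t by field_simp; ring]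
              abel
        rw [eq_inv_of_mul_eq_one_right h1, rGL_inv C hQp]
    · rintro (rfl | rfl)
      · exact ⟨one_mem _, by simp⟩
      · exact ⟨rGL_mem_relIso C hpR hQp, rGL_fix C hQp (by rw [C.symm]; exact hvp)⟩
  have hne : (1 : GL ((Fin m ⊕ Fin m) ⊕ Fin 2) F) ≠ rGL QM p := fun h => by
    have h1 := rGL_act C hQp w
    rw [← h, Units.val_one, Matrix.one_mulVec, eq_comm, sub_eq_self, smul_eq_zero, mul_eq_zero,
      inv_eq_zero, C.symm p w, hwp] at h1
    simp [hQp, hd, hp0] at h1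
  let X := {x : (Fin m ⊕ Fin m) ⊕ Fin 2 → F // x ∈ R ∧ QM x = 1}
  have htr : ∀ x : X, ∃ g ∈ relIso QM B R, g.val *ᵥ v = x.1 := by
    rintro ⟨x, hxR, hx⟩
    by_cases hxv : v = x
    · exact ⟨1, one_mem _, by simp [hxv]⟩
    have hne' : QM (v - x) ≠ 0 := fun h => hxv (sub_eq_zero.mp (haniso _ (R.sub_mem hvR hxR) h))
    refine ⟨_, rGL_mem_relIso C (R.sub_mem hvR hxR) hne', ?_⟩
    have h1 : B (v - x) v = QM (v - x) := by
      rw [sub_eq_add_neg, C.add, C.neg, hv1, hx, map_add, LinearMap.add_apply, C.self, hv1,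
        map_neg, map_neg, LinearMap.neg_apply, C.symm x v]
      ring
    rw [rGL_act C hne', h1, inv_mul_cancel₀ hne', one_smul, sub_sub_cancel]
  choose s hsm hsv using htr
  let tgt : relIso QM B R → X := fun g => ⟨g.1.val *ᵥ v,
    relIso_act_mem C (hf.ndeg_rest C m le_rfl) g.2 hvR, by rw [mem_iso.mp g.2.1, hv1]⟩
  have hs' : ∀ g, (s (tgt g))⁻¹ * g.1 ∈ relIso QM B R ∧ ((s (tgt g))⁻¹ * g.1).val *ᵥ v = v :=
    fun g => ⟨mul_mem (inv_mem (hsm _)) g.2, by
      rw [mul_act]
      nth_rewrite 1 [show g.1.val *ᵥ v = (s (tgt g)).val *ᵥ v from (hsv (tgt g)).symm]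
      rw [inv_act]⟩
  have e2 : relIso QM B R ≃ X × ({1, rGL QM p} : Set (GL ((Fin m ⊕ Fin m) ⊕ Fin 2) F)) :=
    { toFun := fun g => (tgt g, ⟨_, (hstab _).mp (hs' g)⟩)
      invFun := fun x => ⟨s x.1 * x.2.1, mul_mem (hsm _) ((hstab _).mpr x.2.2).1⟩
      left_inv := fun g => Subtype.ext (mul_inv_cancel_left _ _)
      right_inv := fun x => by
        have ht : ∀ h, tgt ⟨s x.1 * x.2.1, h⟩ = x.1 := fun h => Subtype.ext (by
          show (s x.1 * x.2.1).val *ᵥ v = _
          rw [mul_act, ((hstab _).mpr x.2.2).2, hsv])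
        refine Prod.ext (ht _) (Subtype.ext ?_)
        show (s (tgt ⟨s x.1 * x.2.1, _⟩))⁻¹ * (s x.1 * x.2.1) = x.2.1
        rw [ht, inv_mul_cancel_left] }
  have e3 : X ≃ {z : F × F // z.1 ^ 2 + a * z.1 * z.2 + b * z.2 ^ 2 = 1} :=
    (Equiv.subtypeSubtypeEquivSubtypeInter (fun x => x ∈ R) fun x => QM x = 1).symm.trans
      (e1.subtypeEquiv fun x => by rw [hQR x.1 x.2]; simp [e1])
  refine hypFam_counts C hf 2 _ ?_ ?_ ?_
  · rw [Nat.card_congr e1, Nat.card_prod, sq, Nat.cast_mul]
  · rw [sgCount, Nat.cast_eq_one, Nat.card_eq_one_iff_unique]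
    refine ⟨⟨fun x y => Subtype.ext ?_⟩, ⟨⟨0, Submodule.zero_mem _, C.zero⟩⟩⟩
    rw [haniso _ x.2.1 x.2.2, haniso _ y.2.1 y.2.2]
  · rw [Nat.card_congr e2, Nat.card_prod, Nat.card_congr e3, Nat.card_coe_set_eq,
      Set.ncard_pair hne, Nat.cast_mul, binary_fibre hab]
    rfl

end Minus

end Cfsg.Lib.Linear.Orth
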