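import Cfsg.Agent.Lib.Linear.OrthSpinor
import Cfsg.Agent.Lib.Linear.SLBasic

/-!
# Recognising `PΩ` as the image of a linear group

If a group generated by squares maps onto a subgroup of the order of `Ω` with a central kernel,
then `PΩ` is that group modulo its centre.
-/

set_option autoImplicit false

namespace Cfsg.Lib.Linear.SmallIso

open scoped Matrix commutatorElement

/-- The subgroup generated by the squares. -/
def squares (G : Type*) [Group G] : Subgroup G := Subgroup.closure {x | ∃ y, x = y * y}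

theorem commutator_mem_squares {G : Type*} [Group G] (x y : G) : ⁅x, y⁆ ∈ squares G := by
  have h : ⁅x, y⁆ = x * x * (x⁻¹ * y * (x⁻¹ * y)) * (y⁻¹ * y⁻¹) := by
    rw [commutatorElement_def]; group
  rw [h]
  exact mul_mem (mul_mem (Subgroup.subset_closure ⟨x, rfl⟩) (Subgroup.subset_closure ⟨_, rfl⟩))
    (Subgroup.subset_closure ⟨_, rfl⟩)

/-- A product of groups generated by squares is generated by squares. -/
theorem squares_prod {G H : Type*} [Group G] [Group H] (hG : squares G = ⊤) (hH : squares H = ⊤) :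
    squares (G × H) = ⊤ := by
  rw [eq_top_iff]
  rintro ⟨g, h⟩ -
  have h1 : (squares G).map (MonoidHom.inl G H) ≤ squares (G × H) := by
    rw [squares, MonoidHom.map_closure, Subgroup.closure_le]
    rintro _ ⟨_, ⟨y, rfl⟩, rfl⟩
    exact Subgroup.subset_closure ⟨(y, 1), by simp⟩
  have h2 : (squares H).map (MonoidHom.inr G H) ≤ squares (G × H) := by
    rw [squares, MonoidHom.map_closure, Subgroup.closure_le]
    rintro _ ⟨_, ⟨y, rfl⟩, rfl⟩
    exact Subgroup.subset_closure ⟨(1, y), by simp⟩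
  have e : ((g, h) : G × H) = MonoidHom.inl G H g * MonoidHom.inr G H h := by simp
  rw [e]
  exact mul_mem (h1 ⟨g, by rw [hG]; trivial, rfl⟩) (h2 ⟨h, by rw [hH]; trivial, rfl⟩)

/-- Groups generated by squares: lifting through central kernels of exponent two. -/
theorem center_of_mem {G M : Type*} [Group G] [Group M] (hG : squares G = ⊤) (φ : G →* M)
    (hker : ∀ z ∈ φ.ker, z ∈ Subgroup.center G ∧ z * z = 1) {g : G}
    (hg : ∀ x, φ g * φ x = φ x * φ g) : g ∈ Subgroup.center G := by
  have hk : ∀ x, ⁅g, x⁆ ∈ φ.ker := fun x => by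
    rw [MonoidHom.mem_ker, map_commutatorElement, commutatorElement_eq_one_iff_mul_comm]
    exact hg x
  have hmul : ∀ x y : G, ⁅g, x * y⁆ = ⁅g, x⁆ * ⁅g, y⁆ := fun x y => by
    have h1 : ⁅g, x * y⁆ = ⁅g, x⁆ * (x * ⁅g, y⁆ * x⁻¹) := by
      simp only [commutatorElement_def]; group
    rw [h1, Subgroup.mem_center_iff.mp (hker _ (hk y)).1 x, mul_inv_cancel_right]
  let δ : G →* G := MonoidHom.mk' (fun x => ⁅g, x⁆) hmul
  have : squares G ≤ δ.ker := (Subgroup.closure_le _).mpr fun x ⟨y, hy⟩ => by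
    show δ x = 1
    rw [hy, map_mul]
    exact (hker _ (hk y)).2
  refine Subgroup.mem_center_iff.mpr fun x => ?_
  have hx : δ x = 1 := this (by rw [hG]; trivial)
  exact (commutatorElement_eq_one_iff_mul_comm.mp hx).symm

variable {ι : Type} [Fintype ι] [DecidableEq ι] {F : Type*} [Field F] [Fintype F]
  {Q : (ι → F) → F} {B : LinearMap.BilinForm F (ι → F)}

/-- Squares lie in `Ω`, and `Ω` has index four or two. -/
theorem omega_facts (C : Orth.Space Q B) (hn : 2 ≤ Fintype.card ι)
    (h : (2 : F) ≠ 0 ∨ Fintype.card F ≠ 2 ∨ Fintype.card ι ≠ 4) :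
    (∀ g : ↥(Cfsg.isometryGroup F Q), g * g ∈ Cfsg.Omega F Q) ∧
      ((2 : F) = 0 → (Cfsg.Omega F Q).index = 2) ∧ ((2 : F) ≠ 0 → (Cfsg.Omega F Q).index = 4) := by
  by_cases h2 : (2 : F) = 0
  · have h' := (Orth.omega_two C h2 hn (h.resolve_left fun h3 => h3 h2)).1
    refine ⟨fun g => ?_, fun _ => h', fun e => absurd h2 e⟩
    haveI : (Cfsg.Omega F Q).Normal := inferInstance
    have := Subgroup.mul_self_mem_of_index_two (H := Cfsg.Omega F Q) h' g
    exact this
  · obtain ⟨hker, hidx, -⟩ := Orth.omega_odd C h2 hn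
    refine ⟨fun g => ?_, fun e => absurd e h2, fun _ => hidx⟩
    show g * g ∈ commutator _
    rw [hker, MonoidHom.mem_ker, map_mul]
    refine Prod.ext ?_ (Int.units_mul_self _)
    show Matrix.GeneralLinearGroup.det (g : GL ι F) * Matrix.GeneralLinearGroup.det (g : GL ι F) = 1
    apply Units.ext
    rw [Units.val_mul, Matrix.GeneralLinearGroup.val_det_apply]
    rcases Orth.det_sq C g.2 with e | e <;> simp [e]

/-- `PΩ` as a quotient of a group mapping onto a subgroup of `Ω` of the same order. -/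
theorem pomega_equiv_of_le {G : Type*} [Group G] (hG : squares G = ⊤) (φ : G →* GL ι F)
    (hφ : ∀ g, φ g ∈ Cfsg.isometryGroup F Q)
    (hker : ∀ z, φ z = 1 → z ∈ Subgroup.center G ∧ z * z = 1)
    (hle : (φ.codRestrict _ hφ).range ≤ Cfsg.Omega F Q)
    [Finite G] (k : ℕ) (hk0 : 0 < k) (hk : Nat.card φ.ker ≤ k)
    (hcard : Nat.card ↥(Cfsg.isometryGroup F Q) * k ≤ Nat.card G * (Cfsg.Omega F Q).index) :
    Nonempty (Cfsg.POmega F Q ≃* G ⧸ Subgroup.center G) := by
  let ψ : G →* ↥(Cfsg.isometryGroup F Q) := φ.codRestrict _ hφ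
  let χ : G →* ↥(Cfsg.Omega F Q) := ψ.codRestrict _ fun g => hle ⟨g, rfl⟩
  have hkerχ : χ.ker = φ.ker := by
    ext g
    simp [χ, ψ, MonoidHom.mem_ker, Subtype.ext_iff]
  have hsurj : Function.Surjective χ := by
    rw [← MonoidHom.range_eq_top]
    refine Subgroup.eq_top_of_le_card _ ?_
    have h1 : Nat.card G = Nat.card χ.range * Nat.card φ.ker := by
      rw [← hkerχ, ← Nat.card_congr (QuotientGroup.quotientKerEquivRange χ).toEquiv,
        ← Subgroup.card_eq_card_quotient_mul_card_subgroup]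
    have hpos : 0 < (Cfsg.Omega F Q).index := Nat.pos_of_ne_zero Subgroup.index_ne_zero_of_finite
    rw [← (Cfsg.Omega F Q).card_mul_index, h1] at hcard
    refine Nat.le_of_mul_le_mul_right ?_ hk0
    refine le_trans ?_ (Nat.mul_le_mul_left _ hk)
    refine Nat.le_of_mul_le_mul_right ?_ hpos
    calc Nat.card ↥(Cfsg.Omega F Q) * k * (Cfsg.Omega F Q).index
        = Nat.card ↥(Cfsg.Omega F Q) * (Cfsg.Omega F Q).index * k := by ring
      _ ≤ _ := hcard
  have hcomap : (Subgroup.center ↥(Cfsg.Omega F Q)).comap χ = Subgroup.center G := by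
    refine le_antisymm (fun g hg => ?_) (fun g hg => ?_)
    · refine center_of_mem hG φ (fun z hz => hker z hz) fun x => ?_
      have := Subgroup.mem_center_iff.mp hg (χ x)
      exact congrArg (fun t : ↥(Cfsg.Omega F Q) => ((t : ↥(Cfsg.isometryGroup F Q)) : GL ι F)) this.symm
    · refine Subgroup.mem_center_iff.mpr fun y => ?_
      obtain ⟨x, rfl⟩ := hsurj y
      rw [← map_mul, ← map_mul, Subgroup.mem_center_iff.mp hg x]
  let π : G →* Cfsg.POmega F Q := (QuotientGroup.mk' _).comp χ
  have hπ : π.ker = Subgroup.center G := by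
    rw [← hcomap, MonoidHom.comap_ker (QuotientGroup.mk' _) χ |>.symm, QuotientGroup.ker_mk']
  exact ⟨((QuotientGroup.quotientMulEquivOfEq hπ.symm).trans
    (QuotientGroup.quotientKerEquivOfSurjective π ((QuotientGroup.mk'_surjective _).comp hsurj))).symm⟩

/-- `PΩ` as a quotient of a group mapping onto `Ω`. -/
theorem pomega_equiv (C : Orth.Space Q B) (hn : 2 ≤ Fintype.card ι)
    (h : (2 : F) ≠ 0 ∨ Fintype.card F ≠ 2 ∨ Fintype.card ι ≠ 4)
    {G : Type*} [Group G] (hG : squares G = ⊤) (φ : G →* GL ι F)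
    (hφ : ∀ g, φ g ∈ Cfsg.isometryGroup F Q)
    (hker : ∀ z, φ z = 1 → z ∈ Subgroup.center G ∧ z * z = 1)
    [Finite G] (k : ℕ) (hk0 : 0 < k) (hk : Nat.card φ.ker ≤ k)
    (hcard : Nat.card ↥(Cfsg.isometryGroup F Q) * k ≤ Nat.card G * (Cfsg.Omega F Q).index) :
    Nonempty (Cfsg.POmega F Q ≃* G ⧸ Subgroup.center G) := by
  obtain ⟨hsq, -⟩ := omega_facts C hn h
  refine pomega_equiv_of_le hG φ hφ hker ?_ k hk0 hk hcard
  rintro _ ⟨g, rfl⟩
  have : squares G ≤ (Cfsg.Omega F Q).comap (φ.codRestrict _ hφ) :=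
    (Subgroup.closure_le _).mpr fun x ⟨y, hy⟩ => by
      show φ.codRestrict _ hφ x ∈ Cfsg.Omega F Q
      rw [hy, map_mul]
      exact hsq _
  exact this (by rw [hG]; trivial)

omit [Fintype F] in
/-- `SL` is generated by squares. -/
theorem squares_SL (h : (2 : F) ≠ 0 ∨ 3 ≤ Fintype.card ι ∨ ∃ a : F, a ≠ 0 ∧ a * a ≠ 1) :
    squares (Matrix.SpecialLinearGroup ι F) = ⊤ := by
  rw [eq_top_iff, ← Linear.closure_transvection_eq_top, Subgroup.closure_le]
  rintro _ ⟨i, j, hij, c, rfl⟩
  rcases h with h2 | h3 | ⟨a, ha0, ha1⟩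
  · haveI : NeZero (2 : F) := ⟨h2⟩
    refine Subgroup.subset_closure ⟨Matrix.SpecialLinearGroup.transvection hij (c / 2), ?_⟩
    refine Subtype.ext ?_
    show Matrix.transvection i j c = Matrix.transvection i j (c / 2) * Matrix.transvection i j (c / 2)
    rw [Matrix.transvection_mul_transvection_same _ _ hij, add_halves]
  · obtain ⟨k, hik, hkj⟩ := Linear.exists_third (i := i) (j := j) h3
    rw [Linear.transvection_eq_commutator hij hik hkj c]
    exact commutator_mem_squares _ _
  · let D : Matrix ι ι F :=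
      Matrix.diagonal (Function.update (Function.update (1 : ι → F) i a) j a⁻¹)
    have hD : D.det = 1 := by
      rw [Matrix.det_diagonal, Finset.prod_update_of_mem (Finset.mem_univ j),
        Finset.prod_update_of_mem (by simp [hij])]
      simp [ha0]
    obtain ⟨D', hD'⟩ : ∃ D' : Matrix.SpecialLinearGroup ι F, D'.val = D := ⟨⟨D, hD⟩, rfl⟩
    have hc : Matrix.SpecialLinearGroup.transvection hij c =
        ⁅D', Matrix.SpecialLinearGroup.transvection hij (c / (a * a - 1))⁆ := by
      rw [commutatorElement_def, eq_mul_inv_iff_mul_eq, eq_mul_inv_iff_mul_eq]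
      refine Subtype.ext ?_
      show Matrix.transvection i j c * Matrix.transvection i j (c / (a * a - 1)) * D'.val =
        D'.val * Matrix.transvection i j (c / (a * a - 1))
      rw [hD']
      rw [Matrix.transvection_mul_transvection_same _ _ hij]
      ext r s
      rw [Matrix.mul_diagonal, Matrix.diagonal_mul]
      simp only [Matrix.transvection, Matrix.add_apply, Matrix.one_apply, Matrix.single_apply]
      by_cases hr : r = s
      · subst hr
        simp [show ¬ (i = r ∧ j = r) from fun h => hij (h.1.trans h.2.symm), mul_comm]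
      · by_cases hrs : i = r ∧ j = s
        · obtain ⟨rfl, rfl⟩ := hrs
          simp [hr, Function.update_of_ne hij, Function.update_self]
          obtain ⟨w, hw⟩ : ∃ w, w = c / (a * a - 1) := ⟨_, rfl⟩
          rw [← hw]
          have hwc : w * (a * a - 1) = c := by rw [hw, div_mul_cancel₀ _ (sub_ne_zero.mpr ha1)]
          field_simp
          linear_combination -hwc
        · simp [hr, hrs]
    rw [hc]
    exact commutator_mem_squares _ _

/-- A representation on a space of matrices, read in coordinates. -/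
theorem exists_hom {ι : Type} [Fintype ι] [DecidableEq ι] {F : Type*} [Field F] {G V : Type*}
    [Group G] [AddCommGroup V] [Module F V] (X : (ι → F) →ₗ[F] V) (co : V →ₗ[F] (ι → F))
    (hco : ∀ v, co (X v) = v) (ρ : G → (V →ₗ[F] V)) (hρ1 : ∀ M, ρ 1 M = M)
    (hρ : ∀ g h M, ρ (g * h) M = ρ g (ρ h M))
    (hclosed : ∀ g v, X (co (ρ g (X v))) = ρ g (X v)) :
    ∃ φ : G →* GL ι F, ∀ g v, X ((φ g).val *ᵥ v) = ρ g (X v) := by
  let f : G →* Matrix ι ι F :=
    { toFun := fun g => LinearMap.toMatrix' (co ∘ₗ ρ g ∘ₗ X)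
      map_one' := by
        rw [show co ∘ₗ ρ 1 ∘ₗ X = LinearMap.id from LinearMap.ext fun v => by simp [hρ1, hco],
          LinearMap.toMatrix'_id]
      map_mul' := fun g h => by
        rw [← LinearMap.toMatrix'_comp]
        congr 1
        refine LinearMap.ext fun v => ?_
        simp only [LinearMap.comp_apply]
        rw [hclosed h v, hρ] }
  refine ⟨f.toHomUnits, fun g v => ?_⟩
  show X (LinearMap.toMatrix' (co ∘ₗ ρ g ∘ₗ X) *ᵥ v) = _
  rw [LinearMap.toMatrix'_mulVec]
  exact hclosed g v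

/-- At most two elements square to one. -/
theorem card_le_roots {F : Type*} [Field F] {G : Type*} [Group G] [Finite G] (S : Subgroup G)
    (r : G → F) (hinj : ∀ x ∈ S, ∀ y ∈ S, r x = r y → x = y) (hsq : ∀ x ∈ S, r x * r x = 1) :
    Nat.card S ≤ 2 ∧ ((2 : F) = 0 → Nat.card S ≤ 1) := by
  classical
  have := Fintype.ofFinite G
  have hr : ∀ x : S, r x = 1 ∨ r x = -1 := fun x => mul_self_eq_one_iff.mp (hsq x x.2)
  rw [Nat.card_eq_fintype_card, ← Finset.card_univ]
  refine ⟨?_, fun h2 => ?_⟩
  · refine le_trans (Finset.card_le_card_of_injOn (fun x : S => r x) (t := {1, -1})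
      (fun x _ => by simpa using hr x) fun x _ y _ e => Subtype.ext (hinj x x.2 y y.2 e))
      Finset.card_le_two
  · refine Finset.card_le_one.mpr fun x _ y _ => Subtype.ext (hinj x x.2 y y.2 ?_)
    have hm : (-1 : F) = 1 := by linear_combination -h2
    rcases hr x with a | a <;> rcases hr y with b | b <;> simp only [a, b, hm]

/-- The kernel of a representation of `SL` made of scalar matrices. -/
theorem scalar_central {ι : Type} [Fintype ι] [DecidableEq ι] {F : Type*} [Field F]
    {z : Matrix.SpecialLinearGroup ι F} {c : F} (hc : c * c = 1) (hz : z.val = c • 1) :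
    z ∈ Subgroup.center _ ∧ z * z = 1 := by
  refine ⟨Subgroup.mem_center_iff.mpr fun x => Subtype.ext ?_, Subtype.ext ?_⟩
  · show x.val * z.val = z.val * x.val
    rw [hz, mul_smul_comm, smul_mul_assoc, one_mul, mul_one]
  · show z.val * z.val = 1
    rw [hz, smul_mul_smul_comm, hc, one_mul, one_smul]

end Cfsg.Lib.Linear.SmallIso
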