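import Mathlib

/-!
Non-degenerate alternating forms: transvections, Witt extension, generation of the isometry group by
transvections, its order over a finite field and its centre.
-/

set_option autoImplicit false

namespace Cfsg.Lib.Linear.Symp

open Module

variable {F V : Type*} [Field F] [AddCommGroup V] [Module F V] {B : LinearMap.BilinForm F V}

/-- The isometry group of a bilinear form. -/
def iso (B : LinearMap.BilinForm F V) : Subgroup (V ≃ₗ[F] V) where
  carrier := {g | ∀ u v, B (g u) (g v) = B u v}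
  one_mem' := fun _ _ => rfl
  mul_mem' := fun {g h} hg hh u v => (hg _ _).trans (hh u v)
  inv_mem' := fun {g} hg u v => by
    have := hg (g⁻¹ u) (g⁻¹ v)
    rw [← LinearEquiv.mul_apply, ← LinearEquiv.mul_apply, mul_inv_cancel] at this
    exact this.symm

theorem tvMap_comp (hA : B.IsAlt) (v : V) (c d : F) (x : V) :
    (x + (c * B x v) • v) + (d * B (x + (c * B x v) • v) v) • v = x + ((c + d) * B x v) • v := by
  rw [map_add, map_smul, LinearMap.add_apply, LinearMap.smul_apply, hA.self_eq_zero, smul_zero,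
    add_zero, add_assoc, ← add_smul, add_mul]

/-- The transvection `x ↦ x + c B(x, v) v`. -/
def tv (hA : B.IsAlt) (v : V) (c : F) : V ≃ₗ[F] V where
  toFun x := x + (c * B x v) • v
  map_add' x y := by rw [map_add, LinearMap.add_apply, mul_add, add_smul]; abel
  map_smul' a x := by
    rw [map_smul, LinearMap.smul_apply, smul_eq_mul, RingHom.id_apply, smul_add, smul_smul]
    congr 2; ring
  invFun x := x + ((-c) * B x v) • v
  left_inv x := by
    show (x + (c * B x v) • v) + ((-c) * B (x + (c * B x v) • v) v) • v = x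
    rw [tvMap_comp hA]; simp
  right_inv x := by
    show (x + ((-c) * B x v) • v) + (c * B (x + ((-c) * B x v) • v) v) • v = x
    rw [tvMap_comp hA]; simp

@[simp] theorem tv_apply (hA : B.IsAlt) (v : V) (c : F) (x : V) :
    tv hA v c x = x + (c * B x v) • v := rfl

theorem tv_mul_tv (hA : B.IsAlt) (v : V) (c d : F) : tv hA v c * tv hA v d = tv hA v (d + c) :=
  LinearEquiv.ext fun x => tvMap_comp hA v d c x

theorem tv_zero (hA : B.IsAlt) (v : V) : tv hA v (0 : F) = 1 := LinearEquiv.ext fun x => by simp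

theorem tv_smul (hA : B.IsAlt) (v : V) (a c : F) : tv hA (a • v) c = tv hA v (a ^ 2 * c) :=
  LinearEquiv.ext fun x => by
    simp only [tv_apply, map_smul, smul_eq_mul, smul_smul]
    congr 2; ring

theorem tv_mem_iso (hA : B.IsAlt) (v : V) (c : F) : tv hA v c ∈ iso B := fun x y => by
  simp only [tv_apply, map_add, map_smul, LinearMap.add_apply, LinearMap.smul_apply, smul_eq_mul,
    hA.self_eq_zero, ← LinearMap.IsAlt.neg hA y v]
  ring

theorem tv_conj (hA : B.IsAlt) {g : V ≃ₗ[F] V} (hg : g ∈ iso B) (v : V) (c : F) :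
    g * tv hA v c * g⁻¹ = tv hA (g v) c := by
  refine LinearEquiv.ext fun x => ?_
  have hx : g (g⁻¹ x) = x := by rw [← LinearEquiv.mul_apply, mul_inv_cancel]; rfl
  rw [LinearEquiv.mul_apply, LinearEquiv.mul_apply, tv_apply, tv_apply, map_add, map_smul, hx,
    ← hg (g⁻¹ x) v, hx]

/-- Transvections whose centre is orthogonal to `X`. -/
def T (hA : B.IsAlt) (X : Submodule F V) : Subgroup (V ≃ₗ[F] V) :=
  Subgroup.closure {t | ∃ v ∈ B.orthogonal X, ∃ c, t = tv hA v c}

theorem T_le_iso (hA : B.IsAlt) (X : Submodule F V) : T hA X ≤ iso B := by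
  rw [T, Subgroup.closure_le]
  rintro _ ⟨v, -, c, rfl⟩
  exact tv_mem_iso hA v c

theorem T_mono (hA : B.IsAlt) {X Y : Submodule F V} (h : X ≤ Y) : T hA Y ≤ T hA X :=
  Subgroup.closure_mono fun _ ⟨v, hv, hc⟩ => ⟨v, LinearMap.BilinForm.orthogonal_le h hv, hc⟩

theorem tv_mem_T_bot (hA : B.IsAlt) (v : V) (c : F) : tv hA v c ∈ T hA ⊥ :=
  Subgroup.subset_closure ⟨v, by simp, c, rfl⟩

/-- Isometries fixing `X` pointwise. -/
def fixer (B : LinearMap.BilinForm F V) (X : Submodule F V) : Subgroup (V ≃ₗ[F] V) where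
  carrier := {g | g ∈ iso B ∧ ∀ x ∈ X, g x = x}
  one_mem' := ⟨one_mem _, fun _ _ => rfl⟩
  mul_mem' := fun {g h} hg hh => ⟨mul_mem hg.1 hh.1, fun x hx => by
    rw [LinearEquiv.mul_apply, hh.2 x hx, hg.2 x hx]⟩
  inv_mem' := fun {g} hg => ⟨inv_mem hg.1, fun x hx => by
    nth_rw 1 [← hg.2 x hx]
    rw [← LinearEquiv.mul_apply, inv_mul_cancel]; rfl⟩

theorem mem_fixer {X : Submodule F V} {g : V ≃ₗ[F] V} :
    g ∈ fixer B X ↔ g ∈ iso B ∧ ∀ x ∈ X, g x = x := Iff.rfl

theorem fixer_bot : fixer B ⊥ = iso B := by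
  ext g; simp [mem_fixer]

theorem T_le_fixer (hA : B.IsAlt) (X : Submodule F V) : T hA X ≤ fixer B X := by
  rw [T, Subgroup.closure_le]
  rintro _ ⟨v, hv, c, rfl⟩
  exact ⟨tv_mem_iso hA v c, fun x hx => by simp [hv x hx]⟩

variable [FiniteDimensional F V]

/-- The key transitivity statement. -/
theorem exists_T_map (hB : B.Nondegenerate) (hA : B.IsAlt) (X : Submodule F V) {a b : V} (ha : a ∉ X)
    (hb : b ∉ X) (h : ∀ x ∈ X, B x a = B x b) : ∃ t ∈ T hA X, t a = b := by
  have key : ∀ a b : V, b - a ∈ B.orthogonal X → B a b ≠ 0 → ∃ t ∈ T hA X, t a = b := by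
    intro a b hm hne
    refine ⟨tv hA (b - a) (B a b)⁻¹, Subgroup.subset_closure ⟨b - a, hm, _, rfl⟩, ?_⟩
    rw [tv_apply, map_sub, hA.self_eq_zero, sub_zero, inv_mul_cancel₀ hne, one_smul, add_sub_cancel]
  have hw : b - a ∈ B.orthogonal X := fun x hx => by
    show B x (b - a) = 0
    rw [map_sub, h x hx, sub_self]
  by_cases hab : B a b ≠ 0
  · exact key a b hw hab
  push_neg at hab
  have hperp : ∀ c : V, c ∉ X → ∃ u ∈ B.orthogonal X, B c u ≠ 0 := by
    intro c hc
    by_contra hne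
    push_neg at hne
    apply hc
    rw [← LinearMap.BilinForm.orthogonal_orthogonal hB hA.isRefl X]
    exact fun u hu => hA.isRefl _ _ (hne u hu)
  obtain ⟨u, hu, hu1, hu2⟩ : ∃ u ∈ B.orthogonal X, B a u ≠ 0 ∧ B b u ≠ 0 := by
    obtain ⟨u₁, hu₁, h1⟩ := hperp a ha
    obtain ⟨u₂, hu₂, h2⟩ := hperp b hb
    by_cases h12 : B b u₁ = 0
    · by_cases h21 : B a u₂ = 0
      · exact ⟨u₁ + u₂, add_mem hu₁ hu₂, by simp [h21, h1], by simp [h12, h2]⟩
      · exact ⟨u₂, hu₂, h21, h2⟩
    · exact ⟨u₁, hu₁, h1, h12⟩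
  obtain ⟨s, hs, hsa⟩ := key a (a + u) (by rwa [add_sub_cancel_left])
    (by rwa [map_add, hA.self_eq_zero, zero_add])
  obtain ⟨t, ht, htb⟩ := key (a + u) b (by rw [sub_add_eq_sub_sub]; exact sub_mem hw hu)
    (by rwa [map_add, LinearMap.add_apply, hab, zero_add, ← LinearMap.IsAlt.neg hA b u, neg_ne_zero])
  exact ⟨t * s, mul_mem ht hs, by rw [LinearEquiv.mul_apply, hsa, htb]⟩

/-- Witt's extension theorem, with the extension in the transvection group. -/
theorem witt (hB : B.Nondegenerate) (hA : B.IsAlt) (X : Submodule F V) (φ : X →ₗ[F] V)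
    (hinj : Function.Injective φ) (hφ : ∀ x y : X, B (φ x) (φ y) = B (x : V) (y : V)) :
    ∃ t ∈ T hA ⊥, ∀ x : X, t (x : V) = φ x := by
  classical
  suffices H : ∀ (k : ℕ) (X' : Submodule F V) (h : X' ≤ X), finrank F ↥X' ≤ k →
      ∃ t ∈ T hA ⊥, ∀ x : X', t (x : V) = φ ⟨x, h x.2⟩ by
    obtain ⟨t, ht, hx⟩ := H _ X le_rfl le_rfl
    exact ⟨t, ht, hx⟩
  intro k
  induction k with
  | zero =>
    intro X' h hk
    have : X' = ⊥ := Submodule.finrank_eq_zero.1 (by omega)
    subst this
    refine ⟨1, one_mem _, fun x => ?_⟩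
    have : (x : V) = 0 := (Submodule.mem_bot F).1 x.2
    show (x : V) = φ _
    rw [show (⟨(x : V), h x.2⟩ : X) = 0 from Subtype.ext this, map_zero, this]
  | succ k ih =>
    intro X' h hk
    by_cases hX' : finrank F ↥X' ≤ k
    · exact ih X' h hX'
    have hpos : 0 < finrank F ↥X' := by omega
    obtain ⟨W, hW⟩ : ∃ W : Submodule F ↥X', IsCoatom W := by
      haveI : Nontrivial ↥X' := Module.finrank_pos_iff.1 hpos
      obtain ⟨W, hW, -⟩ := (eq_top_or_exists_le_coatom (⊥ : Submodule F ↥X')).resolve_left bot_ne_top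
      exact ⟨W, hW⟩
    set Y := W.map X'.subtype
    have hYX : Y ≤ X' := Submodule.map_subtype_le X' W
    have hYk : finrank F ↥Y ≤ k := by
      rw [Submodule.finrank_map_subtype_eq]
      have := Submodule.finrank_lt (s := W) hW.1
      omega
    obtain ⟨s, hs, hsY⟩ := ih Y (hYX.trans h) hYk
    obtain ⟨a', ha'⟩ : ∃ a' : X', a' ∉ W := by
      by_contra hc
      push_neg at hc
      exact hW.1 ((Submodule.eq_top_iff').2 hc)
    set a : V := (a' : V)
    set b : V := φ ⟨a, h a'.2⟩
    set Z := Y.map (s : V →ₗ[F] V)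
    have haY : a ∉ Y := fun hc => by
      obtain ⟨w, hw, he⟩ := hc
      exact ha' (Subtype.ext he ▸ hw)
    have hsa : s a ∉ Z := fun ⟨y, hy, he⟩ => haY (s.injective he ▸ hy)
    have hbZ : b ∉ Z := by
      rintro ⟨y, hy, he⟩
      have he' : s y = b := he
      rw [hsY ⟨y, hy⟩] at he'
      have h2 : y = a := congrArg Subtype.val (hinj he')
      exact haY (h2 ▸ hy)
    obtain ⟨t, ht, htb⟩ := exists_T_map hB hA Z hsa hbZ (by
      rintro _ ⟨y, hy, rfl⟩
      show B (s y) (s a) = B (s y) b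
      rw [T_le_iso hA _ hs y a, hsY ⟨y, hy⟩, hφ])
    refine ⟨t * s, mul_mem (T_mono hA bot_le ht) hs, fun x => ?_⟩
    have hsup : W ⊔ Submodule.span F {a'} = ⊤ := by
      refine hW.2 _ (lt_of_le_of_ne le_sup_left fun he => ha' ?_)
      rw [he]; exact Submodule.mem_sup_right (Submodule.mem_span_singleton_self a')
    have hx : x ∈ W ⊔ Submodule.span F {a'} := hsup ▸ Submodule.mem_top
    obtain ⟨w, hw, z, hz, rfl⟩ := Submodule.mem_sup.1 hx
    obtain ⟨c, rfl⟩ := Submodule.mem_span_singleton.1 hz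
    have hw' : (w : V) ∈ Y := ⟨w, hw, rfl⟩
    show t (s ((w : V) + c • a)) = _
    rw [map_add, map_add, map_smul, map_smul, htb,
      (T_le_fixer hA Z ht).2 (s (w : V)) ⟨(w : V), hw', rfl⟩, hsY ⟨(w : V), hw'⟩]
    rw [← map_smul, ← map_add]
    rfl

theorem iso_eq_T (hB : B.Nondegenerate) (hA : B.IsAlt) : iso B = T hA ⊥ := by
  refine le_antisymm (fun g hg => ?_) (T_le_iso hA ⊥)
  obtain ⟨t, ht, he⟩ := witt hB hA ⊤ ((g : V →ₗ[F] V).comp (⊤ : Submodule F V).subtype)
    (g.injective.comp Subtype.val_injective) (fun x y => hg _ _)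
  rwa [show g = t from LinearEquiv.ext fun x => (he ⟨x, Submodule.mem_top⟩).symm]

theorem exists_iso_pair (hB : B.Nondegenerate) (hA : B.IsAlt) {u v u' v' : V} (h : B u v = 1)
    (h' : B u' v' = 1) : ∃ g ∈ T hA ⊥, g u = u' ∧ g v = v' := by
  have hu : u ≠ 0 := fun e => by simp [e] at h
  have hu' : u' ≠ 0 := fun e => by simp [e] at h'
  obtain ⟨s, hs, hsu⟩ := exists_T_map hB hA ⊥ (a := u) (b := u') (by simpa) (by simpa)
    (fun x hx => by simp [(Submodule.mem_bot F).1 hx])
  have hn : ∀ w, B u' w = 1 → w ∉ Submodule.span F {u'} := fun w hw hm => by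
    obtain ⟨c, rfl⟩ := Submodule.mem_span_singleton.1 hm
    simp [hA.self_eq_zero] at hw
  have hsv : B u' (s v) = 1 := by rw [← hsu, T_le_iso hA _ hs, h]
  obtain ⟨t, ht, htv⟩ := exists_T_map hB hA (Submodule.span F {u'}) (hn _ hsv) (hn _ h') (fun x hx => by
    obtain ⟨c, rfl⟩ := Submodule.mem_span_singleton.1 hx
    simp [hsv, h'])
  refine ⟨t * s, mul_mem (T_mono hA bot_le ht) hs, ?_, by rw [LinearEquiv.mul_apply, htv]⟩
  rw [LinearEquiv.mul_apply, hsu, (T_le_fixer hA _ ht).2 u' (Submodule.mem_span_singleton_self u')]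

theorem exists_iso_vec (hB : B.Nondegenerate) (hA : B.IsAlt) {u u' : V} (hu : u ≠ 0) (hu' : u' ≠ 0) :
    ∃ g ∈ T hA ⊥, g u = u' :=
  exists_T_map hB hA ⊥ (by simpa) (by simpa) (fun x hx => by simp [(Submodule.mem_bot F).1 hx])

theorem exists_apply_ne_zero (hB : B.Nondegenerate) {v : V} (hv : v ≠ 0) : ∃ x, B x v ≠ 0 := by
  by_contra h
  push_neg at h
  exact hv (hB.2 v h)

/-- An isometry commuting with all transvections is `± 1`. -/
theorem eq_smul_of_commute (hB : B.Nondegenerate) (hA : B.IsAlt) {g : V ≃ₗ[F] V} (hg : g ∈ iso B)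
    (hc : ∀ v c, g * tv hA v c = tv hA v c * g) : ∃ a : F, a * a = 1 ∧ ∀ v, g v = a • v := by
  have hline : ∀ v : V, ∃ a : F, g v = a • v := by
    intro v
    rcases eq_or_ne v 0 with rfl | hv
    · exact ⟨0, by simp⟩
    obtain ⟨x, hx⟩ := exists_apply_ne_zero hB hv
    have he := tv_conj hA hg v 1
    rw [hc, mul_inv_cancel_right] at he
    have h2 : B x v • v = B x (g v) • g v := by
      simpa using LinearEquiv.congr_fun he x
    have hne : B x (g v) ≠ 0 := fun e => by
      rw [e, zero_smul, smul_eq_zero] at h2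
      exact h2.elim hx hv
    exact ⟨(B x (g v))⁻¹ * B x v, by rw [← smul_smul, h2, smul_smul, inv_mul_cancel₀ hne, one_smul]⟩
  choose a ha using hline
  have hinv : ∀ v w, B v w ≠ 0 → a v * a w = 1 := fun v w h => by
    have := hg v w
    rw [ha, ha, map_smul, map_smul, LinearMap.smul_apply, smul_eq_mul, smul_eq_mul, ← mul_assoc,
      mul_comm (a w)] at this
    exact (mul_eq_right₀ h).1 this
  rcases subsingleton_or_nontrivial V with hsub | hnt
  · exact ⟨1, one_mul 1, fun v => Subsingleton.elim _ _⟩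
  obtain ⟨e, he⟩ := exists_ne (0 : V)
  obtain ⟨f, hf⟩ := exists_apply_ne_zero hB he
  have hef : B e f ≠ 0 := fun h => hf (hA.isRefl _ _ h)
  have hsame : ∀ v, v ≠ 0 → a v = a e := fun v hv => by
    obtain ⟨x, hx⟩ := exists_apply_ne_zero hB hv
    obtain ⟨u, hu1, hu2⟩ : ∃ u, B u v ≠ 0 ∧ B u e ≠ 0 := by
      by_cases h1 : B x e = 0
      · by_cases h2 : B f v = 0
        · exact ⟨x + f, by simp [h2, hx], by simp [h1, hf]⟩
        · exact ⟨f, h2, hf⟩
      · exact ⟨x, hx, h1⟩
    have h1 := hinv u v hu1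
    have h2 := hinv u e hu2
    exact mul_left_cancel₀ (left_ne_zero_of_mul_eq_one h1) (h1.trans h2.symm)
  have hf0 : f ≠ 0 := fun h => by simp [h] at hf
  refine ⟨a e, ?_, fun v => ?_⟩
  · have := hinv e f hef
    rwa [hsame f hf0] at this
  · rcases eq_or_ne v 0 with rfl | hv
    · simp
    · rw [ha v, hsame v hv]

/-- Orbit-stabilizer for pointwise fixers. -/
theorem card_fixer_step [Finite V] (hB : B.Nondegenerate) (hA : B.IsAlt) (X : Submodule F V) {a : V}
    (ha : a ∉ X) :
    Nat.card (fixer B X) = Nat.card {b : V // b ∉ X ∧ ∀ x ∈ X, B x a = B x b} *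
      Nat.card (fixer B (X ⊔ Submodule.span F {a})) := by
  classical
  have horb : MulAction.orbit (fixer B X) a = {b : V | b ∉ X ∧ ∀ x ∈ X, B x a = B x b} := by
    ext b
    constructor
    · rintro ⟨⟨g, hg⟩, rfl⟩
      refine ⟨fun hb => ha ?_, fun x hx => ?_⟩
      · have h2 : g (g a) = g a := hg.2 _ hb
        rw [← g.injective h2]
        exact hb
      · show B x a = B x (g a)
        conv_rhs => rw [← hg.2 x hx, hg.1]
    · rintro ⟨hb, h⟩
      obtain ⟨t, ht, hta⟩ := exists_T_map hB hA X ha hb h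
      exact ⟨⟨t, T_le_fixer hA X ht⟩, hta⟩
  have hst : MulAction.stabilizer (fixer B X) a =
      (fixer B (X ⊔ Submodule.span F {a})).subgroupOf (fixer B X) := by
    ext ⟨g, hg⟩
    rw [MulAction.mem_stabilizer_iff, Subgroup.mem_subgroupOf, mem_fixer]
    show g a = a ↔ _
    refine ⟨fun h => ⟨hg.1, fun x hx => ?_⟩,
      fun h => h.2 a (Submodule.mem_sup_right (Submodule.mem_span_singleton_self a))⟩
    obtain ⟨y, hy, z, hz, rfl⟩ := Submodule.mem_sup.1 hx
    obtain ⟨c, rfl⟩ := Submodule.mem_span_singleton.1 hz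
    show g (y + c • a) = y + c • a
    rw [map_add, map_smul, h, hg.2 y hy]
  have hle : fixer B (X ⊔ Submodule.span F {a}) ≤ fixer B X :=
    fun g hg => ⟨hg.1, fun x hx => hg.2 x (Submodule.mem_sup_left hx)⟩
  rw [← Subgroup.card_mul_index (MulAction.stabilizer (fixer B X) a), MulAction.index_stabilizer, horb,
    hst, Nat.card_congr (Subgroup.subgroupOfEquivOfLe hle).toEquiv, mul_comm]
  rfl

omit [FiniteDimensional F V] in
theorem inf_perp_hyperbolic (hA : B.IsAlt) (X : Submodule F V) (hX : X ⊓ B.orthogonal X = ⊥) {e f : V}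
    (he : e ∈ B.orthogonal X) (hf : f ∈ B.orthogonal X) (hef : B e f = 1) :
    ((X ⊔ Submodule.span F {e}) ⊔ Submodule.span F {f}) ⊓
      B.orthogonal ((X ⊔ Submodule.span F {e}) ⊔ Submodule.span F {f}) = ⊥ := by
  rw [eq_bot_iff]
  rintro z ⟨hz, hzp⟩
  obtain ⟨z', hz', q, hq, rfl⟩ := Submodule.mem_sup.1 hz
  obtain ⟨x, hx, p, hp, rfl⟩ := Submodule.mem_sup.1 hz'
  obtain ⟨c, rfl⟩ := Submodule.mem_span_singleton.1 hp
  obtain ⟨d, rfl⟩ := Submodule.mem_span_singleton.1 hq
  have hfe : B f e = -1 := by rw [← LinearMap.IsAlt.neg hA, hef]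
  have h1 : B e (x + c • e + d • f) = 0 :=
    hzp e (Submodule.mem_sup_left (Submodule.mem_sup_right (Submodule.mem_span_singleton_self e)))
  have h2 : B f (x + c • e + d • f) = 0 :=
    hzp f (Submodule.mem_sup_right (Submodule.mem_span_singleton_self f))
  have hex : B e x = 0 := hA.isRefl _ _ (he x hx)
  have hfx : B f x = 0 := hA.isRefl _ _ (hf x hx)
  simp [hex, hfx, hef, hfe, hA.self_eq_zero] at h1 h2
  subst h1 h2
  have : x ∈ X ⊓ B.orthogonal X := ⟨hx, fun y hy => by
    have := hzp y (Submodule.mem_sup_left (Submodule.mem_sup_left hy))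
    simpa using this⟩
  rw [hX, Submodule.mem_bot] at this
  simp [this]

theorem natCard_submodule [Fintype F] [Finite V] (W : Submodule F V) :
    Nat.card ↥W = Fintype.card F ^ finrank F ↥W := by
  rw [← Nat.card_eq_fintype_card]; exact Module.natCard_eq_pow_finrank

/-- The order of the pointwise fixer of a non-degenerate subspace. -/
theorem card_fixer [Fintype F] [Finite V] (hB : B.Nondegenerate) (hA : B.IsAlt) :
    ∀ (d : ℕ) (X : Submodule F V), X ⊓ B.orthogonal X = ⊥ → finrank F ↥(B.orthogonal X) ≤ d →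
      ∃ k, finrank F ↥(B.orthogonal X) = 2 * k ∧ Nat.card (fixer B X) =
        Fintype.card F ^ (k ^ 2) * ∏ i ∈ Finset.range k, (Fintype.card F ^ (2 * (i + 1)) - 1) := by
  classical
  intro d
  induction d with
  | zero =>
    intro X hX hd
    refine ⟨0, by omega, ?_⟩
    have hXt : X = ⊤ := by
      rw [← LinearMap.BilinForm.orthogonal_orthogonal hB hA.isRefl X,
        Submodule.finrank_eq_zero.1 (Nat.le_zero.1 hd), LinearMap.BilinForm.orthogonal_bot]
    subst hXt
    have : fixer B (⊤ : Submodule F V) = ⊥ :=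
      le_bot_iff.1 fun g hg => LinearEquiv.ext fun x => hg.2 x Submodule.mem_top
    rw [this]
    simp
  | succ d ih =>
    intro X hX hd
    by_cases h0 : finrank F ↥(B.orthogonal X) ≤ d
    · exact ih X hX h0
    have hne : B.orthogonal X ≠ ⊥ := fun h => by rw [h, finrank_bot] at h0; omega
    obtain ⟨e, he, he0⟩ := Submodule.exists_mem_ne_zero_of_ne_bot hne
    have hdisj : ∀ z, z ∈ X → z ∈ B.orthogonal X → z = 0 := fun z h1 h2 => by
      have : z ∈ X ⊓ B.orthogonal X := ⟨h1, h2⟩
      rwa [hX, Submodule.mem_bot] at this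
    have heX : e ∉ X := fun h => he0 (hdisj e h he)
    -- a partner of `e`
    obtain ⟨f, hf, hef⟩ : ∃ f ∈ B.orthogonal X, B e f = 1 := by
      obtain ⟨u, hu, hu0⟩ : ∃ u ∈ B.orthogonal X, B e u ≠ 0 := by
        by_contra hc
        push_neg at hc
        apply heX
        rw [← LinearMap.BilinForm.orthogonal_orthogonal hB hA.isRefl X]
        exact fun u hu => hA.isRefl _ _ (hc u hu)
      exact ⟨(B e u)⁻¹ • u, Submodule.smul_mem _ _ hu, by simp [hu0]⟩
    set Y := X ⊔ Submodule.span F {e}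
    have hfY : f ∉ Y := by
      intro h
      obtain ⟨x, hx, z, hz, he'⟩ := Submodule.mem_sup.1 h
      obtain ⟨c, rfl⟩ := Submodule.mem_span_singleton.1 hz
      rw [← he'] at hef
      have hex : B e x = 0 := hA.isRefl _ _ (he x hx)
      simp [hex, hA.self_eq_zero] at hef
    set Z := Y ⊔ Submodule.span F {f}
    have hZ : Z ⊓ B.orthogonal Z = ⊥ := inf_perp_hyperbolic hA X hX he hf hef
    have hstepY : finrank F ↥Y = finrank F ↥X + 1 := Submodule.finrank_sup_span_singleton heX
    have hstepZ : finrank F ↥Z = finrank F ↥Y + 1 := Submodule.finrank_sup_span_singleton hfY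
    have hV := Submodule.finrank_le Z
    rw [LinearMap.BilinForm.finrank_orthogonal hB] at hd h0
    obtain ⟨k, hk, hcard⟩ := ih Z hZ (by rw [LinearMap.BilinForm.finrank_orthogonal hB]; omega)
    rw [LinearMap.BilinForm.finrank_orthogonal hB] at hk
    refine ⟨k + 1, by rw [LinearMap.BilinForm.finrank_orthogonal hB]; omega, ?_⟩
    rw [card_fixer_step hB hA X heX, card_fixer_step hB hA Y hfY, hcard]
    set q := Fintype.card F
    -- first orbit
    have hc1 : Nat.card {b : V // b ∉ X ∧ ∀ x ∈ X, B x e = B x b} = q ^ (2 * (k + 1)) - 1 := by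
      have hset : {b : V | b ∉ X ∧ ∀ x ∈ X, B x e = B x b} = (B.orthogonal X : Set V) \ {0} := by
        ext b
        simp only [Set.mem_setOf_eq, Set.mem_sdiff, SetLike.mem_coe, Set.mem_singleton_iff]
        constructor
        · rintro ⟨h1, h2⟩
          exact ⟨fun x hx => (h2 x hx).symm.trans (he x hx), fun h => h1 (h ▸ zero_mem X)⟩
        · rintro ⟨h1, h2⟩
          exact ⟨fun h => h2 (hdisj b h h1), fun x hx => (he x hx).trans (h1 x hx).symm⟩
      calc Nat.card {b : V // b ∉ X ∧ ∀ x ∈ X, B x e = B x b}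
          = ({b : V | b ∉ X ∧ ∀ x ∈ X, B x e = B x b}).ncard := Nat.card_coe_set_eq _
        _ = (B.orthogonal X : Set V).ncard - 1 := by
          rw [hset, Set.ncard_sdiff_singleton_of_mem (zero_mem _)]
        _ = _ := by
          rw [← Nat.card_coe_set_eq, show Nat.card ((B.orthogonal X : Submodule F V) : Set V) = q ^ finrank F ↥(B.orthogonal X) from natCard_submodule _,
            LinearMap.BilinForm.finrank_orthogonal hB]
          congr 2; omega
    -- second orbit
    have hc2 : Nat.card {b : V // b ∉ Y ∧ ∀ x ∈ Y, B x f = B x b} = q ^ (2 * k + 1) := by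
      let eqv : {b : V // b ∉ Y ∧ ∀ x ∈ Y, B x f = B x b} ≃ ↥(B.orthogonal Y) :=
        { toFun := fun b => ⟨(b : V) - f, fun x hx => by
            show B x ((b : V) - f) = 0
            rw [map_sub, b.2.2 x hx, sub_self]⟩
          invFun := fun w => ⟨(w : V) + f, fun hm => by
              have hwe : B e (w : V) = 0 := w.2 e (Submodule.mem_sup_right (Submodule.mem_span_singleton_self e))
              obtain ⟨x, hx, z, hz, he'⟩ := Submodule.mem_sup.1 hm
              obtain ⟨c, rfl⟩ := Submodule.mem_span_singleton.1 hz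
              have h1 := congrArg (B e) he'
              have hex : B e x = 0 := hA.isRefl _ _ (he x hx)
              simp [hex, hA.self_eq_zero, hef, hwe] at h1,
            fun x hx => by
              have : B x (w : V) = 0 := w.2 x hx
              rw [map_add, this, zero_add]⟩
          left_inv := fun b => Subtype.ext (sub_add_cancel _ _)
          right_inv := fun w => Subtype.ext (add_sub_cancel_right _ _) }
      rw [Nat.card_congr eqv,
        show Nat.card ↥(B.orthogonal Y) = q ^ finrank F ↥(B.orthogonal Y) from natCard_submodule _,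
        LinearMap.BilinForm.finrank_orthogonal hB]
      congr 1; omega
    rw [hc1, hc2, Finset.prod_range_succ]
    ring

theorem card_iso [Fintype F] [Finite V] (hB : B.Nondegenerate) (hA : B.IsAlt) {m : ℕ}
    (hm : finrank F V = 2 * m) :
    Nat.card (iso B) =
      Fintype.card F ^ (m ^ 2) * ∏ i ∈ Finset.range m, (Fintype.card F ^ (2 * (i + 1)) - 1) := by
  obtain ⟨k, hk, hcard⟩ := card_fixer hB hA _ ⊥ (by simp) le_rfl
  rw [LinearMap.BilinForm.orthogonal_bot, finrank_top, hm] at hk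
  rw [← fixer_bot, hcard, show k = m by omega]

end Cfsg.Lib.Linear.Symp
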