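import Mathlib
import Cfsg.Prelude.Def_ClassicalGeometry
import Cfsg.Agent.Lib.Linear.Alternating

/-! Perfectness, primitivity and simplicity for symplectic groups. -/

set_option autoImplicit false

namespace Cfsg.Lib.Linear.Symp

open Module
open scoped LinearAlgebra.Projectivization Matrix Pointwise

variable {F V : Type*} [Field F] [AddCommGroup V] [Module F V] [FiniteDimensional F V]
  {B : LinearMap.BilinForm F V}

/-- The transvection as an element of the isometry group. -/
def tvG (hA : B.IsAlt) (v : V) (c : F) : iso B := ⟨tv hA v c, tv_mem_iso hA v c⟩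

theorem tvG_conj (hA : B.IsAlt) (g : iso B) (v : V) (c : F) :
    g * tvG hA v c * g⁻¹ = tvG hA ((g : V ≃ₗ[F] V) v) c := Subtype.ext (tv_conj hA g.2 v c)

theorem tvG_add (hA : B.IsAlt) (v : V) (c d : F) : tvG hA v (c + d) = tvG hA v c * tvG hA v d := by
  apply Subtype.ext
  show tv hA v (c + d) = tv hA v c * tv hA v d
  rw [tv_mul_tv, add_comm]

theorem closure_tvG (hB : B.Nondegenerate) (hA : B.IsAlt) :
    Subgroup.closure {t : iso B | ∃ v c, t = tvG hA v c} = ⊤ := by
  refine Subgroup.map_injective (iso B).subtype_injective ?_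
  rw [MonoidHom.map_closure, ← MonoidHom.range_eq_map, Subgroup.range_subtype]
  conv_rhs => rw [iso_eq_T hB hA]
  rw [T]
  congr 1
  ext t
  constructor
  · rintro ⟨_, ⟨v, c, rfl⟩, rfl⟩; exact ⟨v, by simp, c, rfl⟩
  · rintro ⟨v, -, c, rfl⟩; exact ⟨tvG hA v c, ⟨v, c, rfl⟩, rfl⟩

theorem mem_center_iff_smul (hB : B.Nondegenerate) (hA : B.IsAlt) (g : iso B) :
    g ∈ Subgroup.center (iso B) ↔ ∃ a : F, a * a = 1 ∧ ∀ v, (g : V ≃ₗ[F] V) v = a • v := by
  constructor
  · intro hg
    exact eq_smul_of_commute hB hA g.2 fun v c =>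
      (congrArg Subtype.val (Subgroup.mem_center_iff.1 hg (tvG hA v c))).symm
  · rintro ⟨a, -, h⟩
    rw [Subgroup.mem_center_iff]
    refine fun k => Subtype.ext (LinearEquiv.ext fun x => ?_)
    show (k : V ≃ₗ[F] V) ((g : V ≃ₗ[F] V) x) = (g : V ≃ₗ[F] V) ((k : V ≃ₗ[F] V) x)
    rw [h, h, map_smul]

theorem card_center (hB : B.Nondegenerate) (hA : B.IsAlt) [Nontrivial V] :
    Nat.card (Subgroup.center (iso B)) = Nat.card {a : F // a * a = 1} := by
  obtain ⟨e, he⟩ := exists_ne (0 : V)
  have hz : ∀ a : F, a * a = 1 → a ≠ 0 := fun a h h0 => by simp [h0] at h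
  refine (Nat.card_congr (Equiv.ofBijective (fun a : {a : F // a * a = 1} =>
    (⟨⟨LinearEquiv.smulOfUnit (Units.mk0 a.1 (hz _ a.2)), fun u v => by
      show B (a.1 • u) (a.1 • v) = B u v
      rw [map_smul, map_smul, LinearMap.smul_apply, smul_smul, a.2, one_smul]⟩,
      (mem_center_iff_smul hB hA _).2 ⟨a.1, a.2, fun v => rfl⟩⟩ : Subgroup.center (iso B))) ⟨?_, ?_⟩)).symm
  · intro a b h
    have h2 : a.1 • e = b.1 • e := congrArg (fun g : Subgroup.center (iso B) => ((g : iso B) : V ≃ₗ[F] V) e) h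
    exact Subtype.ext (smul_left_injective F he h2)
  · intro g
    obtain ⟨a, ha, h⟩ := (mem_center_iff_smul hB hA _).1 g.2
    exact ⟨⟨a, ha⟩, Subtype.ext (Subtype.ext (LinearEquiv.ext fun v => (h v).symm))⟩

theorem exists_not_mem_perp (hB : B.Nondegenerate) (W : Submodule F V)
    (h : 2 * finrank F ↥W < finrank F V) : ∃ x ∈ B.orthogonal W, x ∉ W := by
  by_contra hc
  push_neg at hc
  have hle : finrank F ↥(B.orthogonal W) ≤ finrank F ↥W := Submodule.finrank_mono hc
  rw [LinearMap.BilinForm.finrank_orthogonal hB] at hle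
  omega

theorem mk_tvG_eq (hB : B.Nondegenerate) (hA : B.IsAlt) {v w : V} (hv : v ≠ 0) (hw : w ≠ 0) (c : F) :
    Abelianization.of (tvG hA v c) = Abelianization.of (tvG hA w c) := by
  obtain ⟨g, hg, rfl⟩ := exists_iso_vec hB hA hv hw
  rw [← tvG_conj hA ⟨g, T_le_iso hA ⊥ hg⟩ v c, map_mul, map_mul, map_inv, mul_inv_cancel_comm]

/-- The isometry group of a symplectic space is perfect apart from the three small exceptions. -/
theorem commutator_eq_top (hB : B.Nondegenerate) (hA : B.IsAlt)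
    (h : 6 ≤ finrank F V ∨ (4 ≤ finrank F V ∧ ((2 : F) ≠ 0 ∨ ∃ a : F, a ≠ 0 ∧ a ^ 2 ≠ 1)) ∨
      ∃ a : F, a ≠ 0 ∧ a ^ 2 ≠ 1) :
    commutator (iso B) = ⊤ := by
  rw [← Abelianization.ker_of, eq_top_iff, ← closure_tvG hB hA, Subgroup.closure_le]
  rintro _ ⟨v, c, rfl⟩
  rw [SetLike.mem_coe, MonoidHom.mem_ker]
  rcases eq_or_ne v 0 with rfl | hv
  · rw [show tvG hA (0 : V) c = 1 from Subtype.ext (LinearEquiv.ext fun x => by simp [tvG])]
    exact map_one _
  set χ : F → Abelianization (iso B) := fun c => Abelianization.of (tvG hA v c) with hχ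
  have hadd : ∀ c d, χ (c + d) = χ c * χ d := fun c d => by simp only [hχ, tvG_add, map_mul]
  have hany : ∀ w, w ≠ 0 → ∀ c, Abelianization.of (tvG hA w c) = χ c := fun w hw c =>
    mk_tvG_eq hB hA hw hv c
  have hzero : χ 0 = 1 := by
    have := hadd 0 0
    rw [add_zero] at this
    exact left_eq_mul.1 this
  -- a square different from `1` kills `χ`
  have hsq : (∃ a : F, a ≠ 0 ∧ a ^ 2 ≠ 1) → ∀ c, χ c = 1 := by
    rintro ⟨a, ha, ha2⟩ c
    have h1 : ∀ c, χ (a ^ 2 * c) = χ c := fun c => by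
      rw [← hany (a • v) (smul_ne_zero ha hv) c]
      simp only [hχ]
      congr 1
      exact Subtype.ext (tv_smul hA v a c).symm
    have h3 := hadd ((a ^ 2 - 1) * (c / (a ^ 2 - 1))) (c / (a ^ 2 - 1))
    rw [show (a ^ 2 - 1) * (c / (a ^ 2 - 1)) + c / (a ^ 2 - 1) = a ^ 2 * (c / (a ^ 2 - 1)) by ring, h1,
      mul_div_cancel₀ c (sub_ne_zero.2 ha2)] at h3
    exact right_eq_mul.1 h3
  -- two orthogonal vectors in odd characteristic
  have hodd : (2 : F) ≠ 0 → 4 ≤ finrank F V → ∀ c, χ c = 1 := by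
    intro h2 hd c
    obtain ⟨f, hf, hfv⟩ := exists_not_mem_perp hB (Submodule.span F {v})
      (by rw [finrank_span_singleton hv]; omega)
    have hvf : B v f = 0 := hf v (Submodule.mem_span_singleton_self v)
    have hfv' : B f v = 0 := hA.isRefl _ _ hvf
    set d := c / 2 with hd'
    have hne1 : v + f ≠ 0 := fun e => hfv (by
      rw [eq_neg_of_add_eq_zero_right e]
      exact Submodule.neg_mem _ (Submodule.mem_span_singleton_self v))
    have hne2 : v - f ≠ 0 := fun e => hfv (by rw [← sub_eq_zero.1 e]; exact Submodule.mem_span_singleton_self v)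
    have hne3 : f ≠ 0 := fun e => hfv (e ▸ Submodule.zero_mem _)
    have key : tvG hA (v + f) d * tvG hA (v - f) d = tvG hA v (2 * d) * tvG hA f (2 * d) := by
      refine Subtype.ext (LinearEquiv.ext fun x => ?_)
      simp only [tvG, Subgroup.coe_mul, LinearEquiv.mul_apply, tv_apply, map_add, map_sub, map_smul,
        LinearMap.add_apply, LinearMap.sub_apply, LinearMap.smul_apply, hA.self_eq_zero, hvf, hfv',
        smul_zero, sub_zero, add_zero]
      module
    have h3 := congrArg Abelianization.of key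
    rw [map_mul, map_mul, hany _ hne1, hany _ hne2, hany _ hne3, ← hadd,
      show Abelianization.of (tvG hA v (2 * d)) = χ (2 * d) from rfl, ← hadd] at h3
    rw [hd', show c / 2 + c / 2 = c by field_simp; ring, show 2 * (c / 2) = c by field_simp, hadd] at h3
    exact right_eq_mul.1 h3
  -- three orthogonal vectors in characteristic two
  have hthree : (2 : F) = 0 → 6 ≤ finrank F V → ∀ c, χ c = 1 := by
    intro h2 hd c
    obtain ⟨f, hf, hfv⟩ := exists_not_mem_perp hB (Submodule.span F {v})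
      (by rw [finrank_span_singleton hv]; omega)
    set W := Submodule.span F {v} ⊔ Submodule.span F {f}
    have hW : finrank F ↥W = 2 := by
      rw [Submodule.finrank_sup_span_singleton hfv, finrank_span_singleton hv]
    obtain ⟨g, hg, hgW⟩ := exists_not_mem_perp hB W (by rw [hW]; omega)
    have hvW : v ∈ W := Submodule.mem_sup_left (Submodule.mem_span_singleton_self v)
    have hfW : f ∈ W := Submodule.mem_sup_right (Submodule.mem_span_singleton_self f)
    have hvf : B v f = 0 := hf v (Submodule.mem_span_singleton_self v)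
    have hvg : B v g = 0 := hg v hvW
    have hfg : B f g = 0 := hg f hfW
    have hneW : ∀ x ∈ W, x + g ≠ 0 := fun x hx e => hgW (by
      rw [eq_neg_of_add_eq_zero_right e]; exact W.neg_mem hx)
    have hf0 : f ≠ 0 := fun e => hfv (e ▸ Submodule.zero_mem _)
    have hg0 : g ≠ 0 := fun e => hgW (e ▸ Submodule.zero_mem _)
    have hvf0 : v + f ≠ 0 := fun e => hfv (by
      rw [eq_neg_of_add_eq_zero_right e]
      exact Submodule.neg_mem _ (Submodule.mem_span_singleton_self v))
    have key : tvG hA v c * tvG hA f c * tvG hA g c * tvG hA (v + f) c * tvG hA (v + g) c *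
        tvG hA (f + g) c * tvG hA (v + f + g) c = 1 := by
      refine Subtype.ext (LinearEquiv.ext fun x => ?_)
      simp only [tvG, Subgroup.coe_mul, LinearEquiv.mul_apply, tv_apply, map_add, map_smul,
        LinearMap.add_apply, LinearMap.smul_apply, hA.self_eq_zero, hvf, hvg, hfg, hA.isRefl _ _ hvf,
        hA.isRefl _ _ hvg, hA.isRefl _ _ hfg, smul_zero, add_zero, Subgroup.coe_one, LinearEquiv.coe_one, id]
      match_scalars <;> simp only [mul_one, mul_zero, add_zero, zero_add] <;> ring_nf <;>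
        simp [show (4 : F) = 2 * 2 by norm_num, h2]
    have h3 := congrArg Abelianization.of key
    simp only [map_mul, map_one, hany _ hf0, hany _ hg0, hany _ hvf0, hany _ (hneW v hvW), hany _ (hneW f hfW),
      hany _ (hneW (v + f) (add_mem hvW hfW))] at h3
    have hsq2 : χ c * χ c = 1 := by rw [← hadd, show c + c = 2 * c by ring, h2, zero_mul, hzero]
    rw [show Abelianization.of (tvG hA v c) = χ c from rfl] at h3
    rwa [hsq2, one_mul, hsq2, one_mul, hsq2, one_mul] at h3
  rcases h with h6 | ⟨h4, h4'⟩ | ha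
  · by_cases h2 : (2 : F) = 0
    · exact hthree h2 h6 c
    · exact hodd h2 (by omega) c
  · rcases h4' with h2 | ha
    · exact hodd h2 h4 c
    · exact hsq ha c
  · exact hsq ha c

instance isoSMulComm : SMulCommClass (iso B) F V := ⟨fun g a v => map_smul (g : V ≃ₗ[F] V) a v⟩

theorem smul_mk' (g : iso B) {v : V} (hv : v ≠ 0) :
    g • Projectivization.mk F v hv = Projectivization.mk F ((g : V ≃ₗ[F] V) v) (by simp [hv]) := rfl

theorem isPretransitive (hB : B.Nondegenerate) (hA : B.IsAlt) :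
    MulAction.IsPretransitive (iso B) (ℙ F V) := ⟨fun p q => by
  obtain ⟨g, hg, he⟩ := exists_iso_vec hB hA p.rep_nonzero q.rep_nonzero
  refine ⟨⟨g, T_le_iso hA ⊥ hg⟩, ?_⟩
  rw [← p.mk_rep, smul_mk']
  simp only [he]
  exact q.mk_rep⟩

theorem isPreprimitive (hB : B.Nondegenerate) (hA : B.IsAlt) :
    MulAction.IsPreprimitive (iso B) (ℙ F V) := by
  haveI := isPretransitive (B := B) hB hA
  constructor
  intro S hS
  rw [MulAction.IsTrivialBlock]
  by_cases hsub : S.Subsingleton
  · exact Or.inl hsub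
  right
  rw [Set.eq_univ_iff_forall]
  have hmove : ∀ p ∈ S, ∀ q ∈ S, ∀ g : iso B, g • p = p → g • q ∈ S := by
    intro p hp q hq g hgp
    have hgS : g • S = S := MulAction.IsBlock.smul_eq_of_nonempty hS ⟨p, ⟨p, hp, hgp⟩, hp⟩
    exact hgS ▸ ⟨q, hq, rfl⟩
  have hmk : ∀ (g : iso B) (p q : ℙ F V) (a : Fˣ), (g : V ≃ₗ[F] V) p.rep = a • q.rep → g • p = q := by
    intro g p q a h
    rw [← p.mk_rep, smul_mk']
    conv_rhs => rw [← q.mk_rep]
    exact (Projectivization.mk_eq_mk_iff F _ _ _ q.rep_nonzero).2 ⟨a, h.symm⟩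
  -- step 1: a non-orthogonal pair spreads
  have hspread : ∀ p ∈ S, ∀ q ∈ S, B p.rep q.rep ≠ 0 → ∀ r : ℙ F V, B p.rep r.rep ≠ 0 → r ∈ S := by
    intro p hp q hq hpq r hpr
    obtain ⟨g, hg, h1, h2⟩ := exists_iso_pair hB hA (u := p.rep) (v := (B p.rep q.rep)⁻¹ • q.rep)
      (u' := p.rep) (v' := (B p.rep r.rep)⁻¹ • r.rep) (by simp [hpq]) (by simp [hpr])
    have hgq : (g : V ≃ₗ[F] V) q.rep = (Units.mk0 (B p.rep q.rep * (B p.rep r.rep)⁻¹)
        (mul_ne_zero hpq (inv_ne_zero hpr))) • r.rep := by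
      rw [map_smul] at h2
      have := congrArg (fun x => B p.rep q.rep • x) h2
      simp only [smul_smul, mul_inv_cancel₀ hpq, one_smul] at this
      rw [this]; rfl
    rw [← hmk ⟨g, T_le_iso hA ⊥ hg⟩ q r _ hgq]
    exact hmove p hp q hq _ (hmk _ p p 1 (by rw [one_smul]; exact h1))
  obtain ⟨p, hp, q, hq, hpq⟩ := Set.not_subsingleton_iff.1 hsub
  obtain ⟨a, ha, b, hb, hab⟩ : ∃ a ∈ S, ∃ b ∈ S, B a.rep b.rep ≠ 0 := by
    by_contra hc
    push_neg at hc
    have hqp : q.rep ∉ Submodule.span F {p.rep} := fun h => by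
      obtain ⟨c, hc⟩ := Submodule.mem_span_singleton.1 h
      apply hpq
      rw [← p.mk_rep, ← q.mk_rep]
      exact (Projectivization.mk_eq_mk_iff' F _ _ p.rep_nonzero q.rep_nonzero).2
        ⟨c⁻¹, by rw [← hc, smul_smul, inv_mul_cancel₀ (fun e => q.rep_nonzero (by rw [← hc, e, zero_smul])), one_smul]⟩
    obtain ⟨r, hr1, hr2⟩ : ∃ r ∈ B.orthogonal (Submodule.span F {p.rep}), B q.rep r ≠ 0 := by
      by_contra hne
      push_neg at hne
      apply hqp
      rw [← LinearMap.BilinForm.orthogonal_orthogonal hB hA.isRefl (Submodule.span F {p.rep})]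
      exact fun u hu => hA.isRefl _ _ (hne u hu)
    by_cases hrp : r ∈ Submodule.span F {p.rep}
    · obtain ⟨c, rfl⟩ := Submodule.mem_span_singleton.1 hrp
      simp [hc q hq p hp] at hr2
    obtain ⟨g, hg, hgq⟩ := exists_T_map hB hA (Submodule.span F {p.rep}) hqp hrp (fun x hx => by
      obtain ⟨c, rfl⟩ := Submodule.mem_span_singleton.1 hx
      simp [hc p hp q hq, hr1 p.rep (Submodule.mem_span_singleton_self _)])
    have hr0 : r ≠ 0 := fun e => hr2 (by rw [e, map_zero])
    have hgS := hmove p hp q hq ⟨g, T_le_iso hA _ hg⟩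
      (hmk _ p p 1 (by rw [one_smul]; exact (T_le_fixer hA _ hg).2 _ (Submodule.mem_span_singleton_self _)))
    obtain ⟨w, hw⟩ := Projectivization.exists_smul_eq_mk_rep F r hr0
    have hrS : Projectivization.mk F r hr0 ∈ S := by
      rw [← hmk ⟨g, T_le_iso hA _ hg⟩ q (Projectivization.mk F r hr0) w⁻¹ (by
        rw [← hw, inv_smul_smul]; exact hgq)]
      exact hgS
    apply hr2
    have h5 := hc q hq _ hrS
    rw [← hw, Units.smul_def, map_smul, smul_eq_mul, mul_eq_zero] at h5
    exact h5.resolve_left w.ne_zero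
  intro r
  by_cases har : B a.rep r.rep = 0
  · obtain ⟨x, hx1, hx2⟩ : ∃ x, B a.rep x ≠ 0 ∧ B r.rep x ≠ 0 := by
      obtain ⟨x, hx⟩ := exists_apply_ne_zero hB r.rep_nonzero
      have hx' : B r.rep x ≠ 0 := fun e => hx (hA.isRefl _ _ e)
      by_cases h1 : B a.rep x = 0
      · by_cases h2 : B r.rep b.rep = 0
        · exact ⟨x + b.rep, by simp [h1, hab], by simp [h2, hx']⟩
        · exact ⟨b.rep, hab, h2⟩
      · exact ⟨x, h1, hx'⟩
    have hx0 : x ≠ 0 := fun e => hx1 (by rw [e, map_zero])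
    obtain ⟨w, hw⟩ := Projectivization.exists_smul_eq_mk_rep F x hx0
    set s := Projectivization.mk F x hx0
    have h3 : B a.rep s.rep ≠ 0 := by
      rw [← hw, Units.smul_def, map_smul, smul_eq_mul]; exact mul_ne_zero w.ne_zero hx1
    have hs : s ∈ S := hspread a ha b hb hab s h3
    refine hspread s hs a ha (fun e => h3 (hA.isRefl _ _ e)) r (fun e => ?_)
    have h4 := hA.isRefl _ _ e
    rw [← hw, Units.smul_def, map_smul, smul_eq_mul] at h4
    exact mul_ne_zero w.ne_zero hx2 h4
  · exact hspread a ha b hb hab r har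

/-- Root groups as an Iwasawa structure. -/
def iwasawa (hB : B.Nondegenerate) (hA : B.IsAlt) : MulAction.IwasawaStructure (iso B) (ℙ F V) where
  T p :=
    { carrier := {t | ∃ c, t = tvG hA p.rep c}
      one_mem' := ⟨0, Subtype.ext (tv_zero hA _).symm⟩
      mul_mem' := by
        rintro _ _ ⟨c, rfl⟩ ⟨d, rfl⟩
        exact ⟨c + d, (tvG_add hA _ c d).symm⟩
      inv_mem' := by
        rintro _ ⟨c, rfl⟩
        exact ⟨-c, inv_eq_of_mul_eq_one_right (by
          rw [← tvG_add, add_neg_cancel]; exact Subtype.ext (tv_zero hA _))⟩ }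
  is_comm p := ⟨⟨by
    rintro ⟨_, c, rfl⟩ ⟨_, d, rfl⟩
    exact Subtype.ext (show tvG hA p.rep c * tvG hA p.rep d = tvG hA p.rep d * tvG hA p.rep c by
      rw [← tvG_add, ← tvG_add, add_comm])⟩⟩
  is_conj g p := by
    have h0 : (g : V ≃ₗ[F] V) p.rep ≠ 0 := by simp [p.rep_nonzero]
    have hgp : g • p = Projectivization.mk F ((g : V ≃ₗ[F] V) p.rep) h0 := by
      conv_lhs => rw [← p.mk_rep, smul_mk']
    obtain ⟨w, hw⟩ := Projectivization.exists_smul_eq_mk_rep F _ h0
    rw [← hgp] at hw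
    ext t
    show (∃ c, t = tvG hA (g • p).rep c) ↔ t ∈ (MulAut.conj g) • _
    rw [Subgroup.mem_pointwise_smul_iff_inv_smul_mem]
    show _ ↔ ∃ c, (MulAut.conj g)⁻¹ • t = tvG hA p.rep c
    simp only [inv_smul_eq_iff]
    have hsm : ∀ d, tvG hA (g • p).rep d = MulAut.conj g • tvG hA p.rep ((w : F) ^ 2 * d) := by
      intro d
      show _ = g * tvG hA p.rep ((w : F) ^ 2 * d) * g⁻¹
      rw [tvG_conj, ← hw]
      exact Subtype.ext (tv_smul hA _ _ _)
    constructor
    · rintro ⟨c, rfl⟩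
      exact ⟨_, hsm c⟩
    · rintro ⟨c, rfl⟩
      refine ⟨((w : F) ^ 2)⁻¹ * c, ?_⟩
      rw [hsm, ← mul_assoc, mul_inv_cancel₀ (pow_ne_zero 2 w.ne_zero), one_mul]
  is_generator := by
    rw [eq_top_iff, ← closure_tvG hB hA, Subgroup.closure_le]
    rintro _ ⟨v, c, rfl⟩
    rcases eq_or_ne v 0 with rfl | hv
    · rw [show tvG hA (0 : V) c = 1 from Subtype.ext (LinearEquiv.ext fun x => by simp [tvG])]
      exact one_mem _
    · obtain ⟨w, hw⟩ := Projectivization.exists_smul_eq_mk_rep F v hv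
      refine Subgroup.mem_iSup_of_mem (Projectivization.mk F v hv) ⟨((w : F)⁻¹) ^ 2 * c, ?_⟩
      rw [← hw]
      exact Subtype.ext ((congrArg (fun d => tv hA v d) (by field_simp)).trans (tv_smul hA v w _).symm)

theorem eq_center_or_top (hB : B.Nondegenerate) (hA : B.IsAlt) (hperf : commutator (iso B) = ⊤)
    (N : Subgroup (iso B)) [N.Normal] : N ≤ Subgroup.center (iso B) ∨ N = ⊤ := by
  haveI := isPreprimitive (B := B) hB hA
  by_cases h : MulAction.fixedPoints N (ℙ F V) = Set.univ
  · left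
    intro g hg
    rw [Subgroup.mem_center_iff]
    intro k
    have hline : ∀ v : V, ∃ a : F, (g : V ≃ₗ[F] V) v = a • v := fun v => by
      rcases eq_or_ne v 0 with rfl | hv
      · exact ⟨0, by simp⟩
      · have := (Set.eq_univ_iff_forall.1 h (Projectivization.mk F v hv)) ⟨g, hg⟩
        change g • Projectivization.mk F v hv = _ at this
        rw [smul_mk', Projectivization.mk_eq_mk_iff'] at this
        obtain ⟨a, ha⟩ := this
        exact ⟨a, ha.symm⟩
    obtain ⟨a, ha⟩ := LinearMap.exists_eq_smul_id_of_forall_notLinearIndependent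
      (f := ((g : V ≃ₗ[F] V) : V →ₗ[F] V)) (fun v hli => by
        obtain ⟨a, ha⟩ := hline v
        rw [LinearEquiv.coe_coe, ha] at hli
        exact hli.ne_zero 1 (by
          by_contra _
          rcases eq_or_ne a 0 with rfl | ha0
          · exact hli.ne_zero 1 (by simp)
          · have := LinearIndependent.pair_iff.1 hli a (-1) (by simp)
            simp at this))
    refine Subtype.ext (LinearEquiv.ext fun x => ?_)
    have hg' : ∀ y, (g : V ≃ₗ[F] V) y = a • y := fun y => by
      simpa using LinearMap.congr_fun ha y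
    show (k : V ≃ₗ[F] V) ((g : V ≃ₗ[F] V) x) = (g : V ≃ₗ[F] V) ((k : V ≃ₗ[F] V) x)
    rw [hg', hg', map_smul]
  · right
    exact top_le_iff.1 (hperf ▸ (iwasawa hB hA).commutator_le N h)

theorem isSimpleGroup_quotient (hB : B.Nondegenerate) (hA : B.IsAlt) [Nontrivial V]
    (hperf : commutator (iso B) = ⊤) : IsSimpleGroup (iso B ⧸ Subgroup.center (iso B)) := by
  have hne : Subgroup.center (iso B) ≠ ⊤ := by
    intro h
    haveI : IsMulCommutative (iso B) :=
      ⟨⟨fun x y => Subgroup.mem_center_iff.1 (h ▸ Subgroup.mem_top y) x⟩⟩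
    have h0 : commutator (iso B) = ⊥ := by
      rw [eq_bot_iff, commutator_def, Subgroup.commutator_le]
      intro x _ y _
      rw [Subgroup.mem_bot, commutatorElement_eq_one_iff_mul_comm]
      exact mul_comm' x y
    obtain ⟨e, he⟩ := exists_ne (0 : V)
    obtain ⟨x, hx⟩ := exists_apply_ne_zero hB he
    have h1 : tvG hA e 1 ∈ (⊥ : Subgroup (iso B)) := by rw [← h0, hperf]; exact Subgroup.mem_top _
    have h2 : tv hA e (1 : F) x = x :=
      LinearEquiv.congr_fun (congrArg Subtype.val (Subgroup.mem_bot.1 h1)) x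
    simp at h2
    exact h2.elim hx he
  haveI : Nontrivial (iso B ⧸ Subgroup.center (iso B)) := QuotientGroup.nontrivial_iff.2 hne
  refine ⟨fun N hN => ?_⟩
  rcases eq_center_or_top hB hA hperf (N.comap (QuotientGroup.mk' _)) with h | h
  · left
    rw [← Subgroup.map_comap_eq_self_of_surjective (QuotientGroup.mk'_surjective _) N, Subgroup.map_eq_bot_iff,
      QuotientGroup.ker_mk']
    exact h
  · right
    rw [← Subgroup.map_comap_eq_self_of_surjective (QuotientGroup.mk'_surjective _) N, h,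
      Subgroup.map_top_of_surjective _ (QuotientGroup.mk'_surjective _)]

/-! ### The standard form -/

section Standard

variable (m : ℕ) (F : Type*) [Field F]

/-- The standard symplectic bilinear form. -/
noncomputable def spB : LinearMap.BilinForm F (Fin m ⊕ Fin m → F) := Matrix.toBilin' (Matrix.J (Fin m) F)

theorem spB_apply (u v : Fin m ⊕ Fin m → F) : spB m F u v = Cfsg.sympForm m F u v :=
  Matrix.toBilin'_apply' _ u v

theorem J_mulVec (v : Fin m ⊕ Fin m → F) :
    Matrix.J (Fin m) F *ᵥ v = Sum.elim (fun i => -v (Sum.inr i)) (fun i => v (Sum.inl i)) := by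
  funext i
  rcases i with i | i <;>
    simp [Matrix.J, Matrix.mulVec, dotProduct, Fintype.sum_sum_type, Matrix.one_apply, Matrix.neg_apply]

theorem spB_isAlt : (spB m F).IsAlt := fun u => by
  rw [spB_apply, Cfsg.sympForm, J_mulVec]
  simp only [dotProduct, Fintype.sum_sum_type, Sum.elim_inl, Sum.elim_inr]
  rw [← Finset.sum_add_distrib]
  exact Finset.sum_eq_zero fun i _ => by ring

theorem spB_nondegenerate : (spB m F).Nondegenerate :=
  Matrix.Nondegenerate.toBilin' (Matrix.nondegenerate_of_det_ne_zero (Matrix.isUnit_det_J (Fin m) F).ne_zero)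

variable {m F}

theorem mem_symplecticGroup_iff (A : Matrix (Fin m ⊕ Fin m) (Fin m ⊕ Fin m) F) :
    A ∈ Matrix.symplecticGroup (Fin m) F ↔
      ∀ u v, spB m F (A *ᵥ u) (A *ᵥ v) = spB m F u v := by
  rw [SymplecticGroup.mem_iff']
  have h : ∀ u v, spB m F (A *ᵥ u) (A *ᵥ v) = Matrix.toBilin' (Matrix.transpose A * Matrix.J (Fin m) F * A) u v :=
    fun u v => by
      simp only [spB, Matrix.toBilin'_apply', ← Matrix.mulVec_mulVec, Matrix.dotProduct_mulVec,
        Matrix.vecMul_transpose]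
  simp only [h]
  constructor
  · intro he u v; rw [he]; rfl
  · intro he
    exact Matrix.toBilin'.injective (LinearMap.ext₂ he)

/-- Mathlib's symplectic group is the isometry group of the standard form. -/
noncomputable def spEquiv : Matrix.symplecticGroup (Fin m) F ≃* iso (spB m F) where
  toFun A := ⟨LinearEquiv.ofLinear (Matrix.toLin' (A : Matrix _ _ F))
    (Matrix.toLin' ((A⁻¹ : Matrix.symplecticGroup (Fin m) F) : Matrix _ _ F))
    (by rw [← Matrix.toLin'_mul, ← Submonoid.coe_mul, mul_inv_cancel, Submonoid.coe_one, Matrix.toLin'_one])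
    (by rw [← Matrix.toLin'_mul, ← Submonoid.coe_mul, inv_mul_cancel, Submonoid.coe_one, Matrix.toLin'_one]),
    fun u v => (mem_symplecticGroup_iff _).1 A.2 u v⟩
  invFun g := ⟨LinearMap.toMatrix' ((g : (Fin m ⊕ Fin m → F) ≃ₗ[F] (Fin m ⊕ Fin m → F)) : (Fin m ⊕ Fin m → F) →ₗ[F] _),
    (mem_symplecticGroup_iff _).2 fun u v => by
      rw [← Matrix.toLin'_apply, ← Matrix.toLin'_apply, Matrix.toLin'_toMatrix']
      exact g.2 u v⟩
  left_inv A := Subtype.ext (LinearMap.toMatrix'_toLin' _)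
  right_inv g := Subtype.ext (LinearEquiv.ext fun x => by
    show Matrix.toLin' (LinearMap.toMatrix' _) x = _
    rw [Matrix.toLin'_toMatrix']; rfl)
  map_mul' A C := Subtype.ext (LinearEquiv.ext fun x => (Matrix.mulVec_mulVec x _ _).symm)

theorem spEquiv_apply (A : Matrix.symplecticGroup (Fin m) F) (v : Fin m ⊕ Fin m → F) :
    (spEquiv A : (Fin m ⊕ Fin m → F) ≃ₗ[F] (Fin m ⊕ Fin m → F)) v =
      (A : Matrix (Fin m ⊕ Fin m) (Fin m ⊕ Fin m) F) *ᵥ v := rfl

theorem finrank_space : finrank F (Fin m ⊕ Fin m → F) = 2 * m := by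
  rw [Module.finrank_pi, Fintype.card_sum, Fintype.card_fin, two_mul]

theorem sympTransvection_mulVec (v : Fin m ⊕ Fin m → F) (c : F) (x : Fin m ⊕ Fin m → F) :
    Cfsg.sympTransvection m v c *ᵥ x = x + (c * spB m F x v) • v := by
  rw [Cfsg.sympTransvection, Matrix.add_mulVec, Matrix.one_mulVec, Matrix.smul_mulVec,
    Matrix.vecMulVec_mulVec, spB_apply, Cfsg.sympForm, dotProduct_comm]
  simp [smul_smul]

theorem sympTransvection_mem (v : Fin m ⊕ Fin m → F) (c : F) :
    Cfsg.sympTransvection m v c ∈ Matrix.symplecticGroup (Fin m) F := by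
  rw [mem_symplecticGroup_iff]
  intro x y
  rw [sympTransvection_mulVec, sympTransvection_mulVec]
  exact tv_mem_iso (spB_isAlt m F) v c x y

end Standard

end Cfsg.Lib.Linear.Symp
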