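import Cfsg.Agent.Lib.Linear.AbsorbPSU
import Cfsg.Agent.Lib.Spec.UnitaryThreeSinger

/-!
# Elements of unitary groups of prescribed projective orders

A hermitian form given by a matrix is equivalent to the standard one; this gives a cyclic torus of
order `((-q) ^ n - 1) / (-q - 1)` and regular unipotent elements.
-/

set_option autoImplicit false

namespace Cfsg.Lib.Linear.AbsorbPSU

open Matrix Polynomial
open Cfsg.Lib.Linear.Herm (frob frob_apply frob_frob frob_ne_id)

variable {F : Type*} [Field F] [Fintype F] {q : ℕ} (hF : Fintype.card F = q ^ 2)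

section Transport

include hF in
theorem exists_transport {ι : Type*} [Fintype ι] [DecidableEq ι] {n : ℕ} (hι : Fintype.card ι = n)
    {H : Matrix ι ι F} (hH : ad (frob hF) H = H) (hdet : IsUnit H.det) :
    ∃ ψ : Matrix ι ι F →ₐ[F] Matrix (Fin n) (Fin n) F, Function.Injective ψ ∧ (∀ X, (ψ X).det = X.det) ∧
      (∀ X, ad (frob hF) X * H * X = H → ad (frob hF) (ψ X) * ψ X = 1) ∧
      (∀ E, ad (frob hF) E * H = H * E → ad (frob hF) (ψ E) = ψ E) := by
  classical
  set σ := frob hF
  have hσσ : ∀ x, σ (σ x) = x := frob_frob hF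
  let e : ι ≃ Fin n := Fintype.equivFinOfCardEq hι
  set H' : Matrix (Fin n) (Fin n) F := Matrix.reindexAlgEquiv F F e H with hH'
  have had : ∀ X : Matrix ι ι F, ad σ (Matrix.reindexAlgEquiv F F e X) = Matrix.reindexAlgEquiv F F e (ad σ X) :=
    fun X => by ext; rfl
  have hH'ad : ad σ H' = H' := by rw [hH', had, hH]
  let B : (Fin n → F) →ₛₗ[σ] (Fin n → F) →ₗ[F] F :=
    LinearMap.mk₂'ₛₗ σ (RingHom.id F) (fun u v => (σ ∘ u) ⬝ᵥ (H' *ᵥ v))
      (fun u u' v => by
        rw [show σ ∘ (u + u') = σ ∘ u + σ ∘ u' from funext fun i => map_add σ _ _, add_dotProduct])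
      (fun c u v => by
        rw [show σ ∘ (c • u) = σ c • (σ ∘ u) from funext fun i => map_mul σ _ _, smul_dotProduct])
      (fun u v v' => by rw [Matrix.mulVec_add, dotProduct_add])
      (fun c u v => by rw [Matrix.mulVec_smul, dotProduct_smul]; rfl)
  have hB : ∀ u v, B u v = (σ ∘ u) ⬝ᵥ (H' *ᵥ v) := fun u v => rfl
  have hS : B.IsSymm := ⟨fun x y => by
    rw [hB, hB, RingHom.map_dotProduct, show σ ∘ σ ∘ x = x from funext fun i => hσσ _,
      show σ ∘ (H' *ᵥ y) = H'.map σ *ᵥ (σ ∘ y) from funext fun i => RingHom.map_mulVec σ H' y i,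
      Matrix.dotProduct_mulVec, ← Matrix.mulVec_transpose, show (H'.map σ)ᵀ = H' from hH'ad, dotProduct_comm]⟩
  have hdet' : IsUnit H'.det := by rwa [hH', Matrix.coe_reindexAlgEquiv, Matrix.det_reindex_self]
  have hright : ∀ y, (∀ x, B x y = 0) → y = 0 := fun y h => by
    have h1 : H' *ᵥ y = 0 := funext fun i => by
      have h2 := h (Pi.single i 1)
      rw [hB, show σ ∘ Pi.single i (1 : F) = Pi.single i 1 by
        funext k; rcases eq_or_ne k i with rfl | hk <;> simp [*]] at h2
      simpa using h2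
    have h3 := congrArg (fun v => H'⁻¹ *ᵥ v) h1
    simpa [Matrix.mulVec_mulVec, Matrix.nonsing_inv_mul _ hdet'] using h3
  obtain ⟨b, hb⟩ := Spec.UThree.exists_orthonormal_basis_herm hF (Module.finrank_fin_fun (n := n) F) B hS
    ⟨fun x h => hright x fun y => hS.isRefl _ _ (h y), hright⟩
  set P : Matrix (Fin n) (Fin n) F := Matrix.of fun k i => b i k with hP
  have hP1 : ad σ P * H' * P = 1 := by
    ext i j
    rw [Matrix.mul_assoc, Matrix.one_apply, ← hb i j, hB]
    rfl
  have hP2 : P * (ad σ P * H') = 1 := mul_eq_one_comm.1 hP1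
  let Pu : (Matrix (Fin n) (Fin n) F)ˣ := ⟨ad σ P * H', P, hP1, hP2⟩
  let ψ : Matrix ι ι F →ₐ[F] Matrix (Fin n) (Fin n) F :=
    { toFun := fun X => ad σ P * H' * Matrix.reindexAlgEquiv F F e X * P
      map_one' := by rw [map_one, Matrix.mul_one, hP1]
      map_mul' := fun X Y => by
        rw [map_mul]
        calc _ = ad σ P * H' * Matrix.reindexAlgEquiv F F e X * (P * (ad σ P * H')) *
              Matrix.reindexAlgEquiv F F e Y * P := by rw [hP2]; simp [Matrix.mul_assoc]
          _ = _ := by simp [Matrix.mul_assoc]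
      map_zero' := by simp
      map_add' := fun X Y => by rw [map_add, Matrix.mul_add, Matrix.add_mul]
      commutes' := fun c => by
        rw [AlgEquiv.commutes, ← Algebra.commutes c (ad σ P * H'), Matrix.mul_assoc, hP1, mul_one] }
  have hψ : ∀ X, ψ X = ad σ P * H' * Matrix.reindexAlgEquiv F F e X * P := fun X => rfl
  refine ⟨ψ, fun X Y h => (Matrix.reindexAlgEquiv F F e).injective ?_, fun X => ?_, fun X hX => ?_, fun E hE => ?_⟩
  · rw [hψ, hψ] at h
    have h' := congrArg (fun Z => P * Z * (ad σ P * H')) h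
    calc Matrix.reindexAlgEquiv F F e X
        = P * (ad σ P * H' * Matrix.reindexAlgEquiv F F e X * P) * (ad σ P * H') := by
          rw [← mul_assoc P, ← mul_assoc P, hP2, one_mul, mul_assoc, hP2, mul_one]
      _ = _ := h'
      _ = Matrix.reindexAlgEquiv F F e Y := by
          rw [← mul_assoc P, ← mul_assoc P, hP2, one_mul, mul_assoc, hP2, mul_one]
  · rw [hψ, Matrix.det_mul, Matrix.det_mul, mul_right_comm, ← Matrix.det_mul (ad σ P * H'), hP1, Matrix.det_one,
      one_mul, Matrix.coe_reindexAlgEquiv, Matrix.det_reindex_self]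
  · have hX' : ad σ (Matrix.reindexAlgEquiv F F e X) * H' * Matrix.reindexAlgEquiv F F e X = H' := by
      rw [had, hH', ← map_mul, ← map_mul, hX]
    rw [hψ, ad_mul, ad_mul, ad_mul, ad_ad σ hσσ, hH'ad]
    set R := Matrix.reindexAlgEquiv F F e X
    calc ad σ P * (ad σ R * (H' * P)) * (ad σ P * H' * R * P)
        = ad σ P * (ad σ R * H' * (P * (ad σ P * H')) * R) * P := by simp [Matrix.mul_assoc]
      _ = 1 := by rw [hP2, Matrix.mul_one, hX', hP1]
  · have hE' : ad σ (Matrix.reindexAlgEquiv F F e E) * H' = H' * Matrix.reindexAlgEquiv F F e E := by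
      rw [had, hH', ← map_mul, ← map_mul, hE]
    rw [hψ, ad_mul, ad_mul, ad_mul, ad_ad σ hσσ, hH'ad, ← mul_assoc (ad σ (Matrix.reindexAlgEquiv F F e E)), hE']
    simp [Matrix.mul_assoc]

include hF in
/-- An element of `SU` built from an isometry of a hermitian form. -/
theorem exists_of_form {ι : Type*} [Fintype ι] [DecidableEq ι] {n : ℕ} (hι : Fintype.card ι = n)
    {H : Matrix ι ι F} (hH : ad (frob hF) H = H) (hdet : IsUnit H.det) (X : Matrix ι ι F)
    (hX : ad (frob hF) X * H * X = H) (hX1 : X.det = 1) :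
    ∃ (ψ : Matrix ι ι F →ₐ[F] Matrix (Fin n) (Fin n) F) (g : Cfsg.SU n F q),
      Function.Injective ψ ∧ mat g = ψ X ∧
      (∀ E, ad (frob hF) E * H = H * E → ad (frob hF) (ψ E) = ψ E) := by
  obtain ⟨ψ, hinj, hd, hiso, hsa⟩ := exists_transport hF hι hH hdet
  let G : Matrix.SpecialLinearGroup (Fin n) F := ⟨ψ X, by rw [hd, hX1]⟩
  exact ⟨ψ, ⟨G, (mem_SU_iff_ad hF G).2 (hiso X hX)⟩, hinj, rfl, hsa⟩

omit [Fintype F] in
theorem perm_form {ι : Type*} [Fintype ι] [DecidableEq ι] (σ : F →+* F) {π : ι → ι} (hπ : Function.Involutive π) :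
    ad σ ((1 : Matrix ι ι F).submatrix π id) = (1 : Matrix ι ι F).submatrix π id ∧
      IsUnit ((1 : Matrix ι ι F).submatrix π id).det ∧
      ∀ X : Matrix ι ι F, (ad σ X).submatrix π π * X = 1 →
        ad σ X * (1 : Matrix ι ι F).submatrix π id * X = (1 : Matrix ι ι F).submatrix π id := by
  have hmul : ∀ M : Matrix ι ι F, M * (1 : Matrix ι ι F).submatrix π id = M.submatrix id π := fun M => by
    ext i j
    rw [Matrix.mul_apply, Finset.sum_eq_single (π j)]
    · rw [Matrix.submatrix_apply, hπ, id, Matrix.one_apply_eq, mul_one]; rfl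
    · intro k _ hk
      show M i k * (1 : Matrix ι ι F) (π k) j = 0
      rw [Matrix.one_apply_ne (fun h => hk ((hπ k).symm.trans (congrArg π h))), mul_zero]
    · simp
  refine ⟨?_, ?_, fun X hX => ?_⟩
  · ext i j
    simp only [ad, Matrix.transpose_apply, Matrix.map_apply, Matrix.submatrix_apply, Matrix.one_apply, id]
    rw [apply_ite σ, map_one, map_zero]
    exact if_congr ⟨fun h => by rw [← h, hπ j], fun h => by rw [← h, hπ i]⟩ rfl rfl
  · refine (Matrix.isUnit_iff_isUnit_det _).1 (IsUnit.of_mul_eq_one ((1 : Matrix ι ι F).submatrix π id) ?_)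
    rw [hmul]
    ext i j
    simp [Matrix.submatrix_apply, Matrix.one_apply, hπ.injective.eq_iff]
  · rw [hmul]
    ext i j
    have h := congrFun (congrFun hX (π i)) j
    simp only [Matrix.mul_apply, Matrix.submatrix_apply, hπ i, id] at h ⊢
    exact h

end Transport

section Torus

variable (p : ℕ) [Fact p.Prime] [CharP F p]

include hF p in
/-- The cyclic torus. -/
theorem exists_torus {n : ℕ} (hn : 2 ≤ n) :
    ∃ g : Cfsg.SU n F q, singerU n q ∣ orderOf (cls g) := by
  classical
  obtain ⟨⟨a, -, hqa⟩, hq2⟩ := Spec.UThree.char_facts p hF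
  set σ := frob hF
  have hσσ : ∀ x, σ (σ x) = x := frob_frob hF
  have hcardF : ∀ c : F, c ^ q ^ 2 = c := fun c => by rw [← hF, FiniteField.pow_card]
  -- it is enough that the scalar powers have exponent a multiple of the torus order
  suffices h : ∃ g : Cfsg.SU n F q, ∀ N : ℕ, ∀ c : F, mat g ^ N = Matrix.scalar (Fin n) c →
      c ^ n.gcd (q + 1) = 1 → (tau q n).natAbs ∣ N * n.gcd (q + 1) by
    obtain ⟨g, hg⟩ := h
    refine ⟨g, ?_⟩
    obtain ⟨c, hc⟩ := (cls_pow_eq_one_iff hF hn g _).1 (pow_orderOf_eq_one (cls g))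
    refine (Nat.div_dvd_iff_dvd_mul (gcd_dvd_tau n q) (Nat.gcd_pos_of_pos_left _ (by omega))).2 ?_
    rw [mul_comm]
    refine hg _ c hc (pow_gcd_eq_one.2 ⟨?_, ?_⟩)
    · have h1 := congrArg Matrix.det hc
      rwa [Matrix.det_pow, (g : Matrix.SpecialLinearGroup (Fin n) F).2, one_pow, Matrix.scalar_apply,
        Matrix.det_diagonal, Finset.prod_const, Finset.card_univ, Fintype.card_fin, eq_comm] at h1
    · have hcomm : Commute (ad σ (mat g)) (mat g) := (ad_mul_self hF g).trans (mul_ad_self hF g).symm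
      have h1 : ad σ (mat g ^ orderOf (cls g)) * mat g ^ orderOf (cls g) = 1 := by
        rw [ad_pow, ← hcomm.mul_pow, ad_mul_self hF g, one_pow]
      rw [hc] at h1
      have h2 := congrFun (congrFun h1 ⟨0, by omega⟩) ⟨0, by omega⟩
      simp only [Matrix.scalar_apply, ad, Matrix.diagonal_map (map_zero σ), Matrix.diagonal_transpose,
        Matrix.diagonal_mul_diagonal, Matrix.diagonal_apply_eq, Matrix.one_apply_eq] at h2
      rwa [frob_apply, ← pow_succ] at h2
  rcases Nat.even_or_odd n with hev | hodd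
  · -- two totally isotropic subspaces
    obtain ⟨m, rfl⟩ := hev
    have : NeZero m := ⟨by omega⟩
    let K := FiniteField.Extension F p m
    let β : Module.Basis (Fin m) F K := (Module.finBasis F K).reindex (finCongr (FiniteField.finrank_extension F p m))
    obtain ⟨ω, hω⟩ := IsCyclic.exists_ofOrder_eq_natCard (α := Kˣ)
    rw [Nat.card_units, FiniteField.natCard_extension, Nat.card_eq_fintype_card, hF] at hω
    set T := (tau q (m + m)).natAbs
    have hT : T * (q + 1) = q ^ (m + m) - 1 := by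
      have h := congrArg Int.natAbs (tau_mul q (m + m))
      rw [Int.natAbs_mul, (Even.add_self m).neg_pow, show (-(q : ℤ) - 1) = -((q + 1 : ℕ) : ℤ) by push_cast; ring,
        Int.natAbs_neg, Int.natAbs_natCast,
        show ((q : ℤ) ^ (m + m) - 1) = ((q ^ (m + m) - 1 : ℕ) : ℤ) by
          rw [Nat.cast_sub (Nat.one_le_pow _ _ (by omega))]; push_cast; ring, Int.natAbs_natCast] at h
      exact h
    have hω' : orderOf ω = T * (q + 1) := by rw [hω, hT, ← pow_mul, two_mul]
    set u : Kˣ := ω ^ (q + 1)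
    have huo : orderOf u = T := by
      rw [orderOf_pow' _ (by omega), hω', Nat.gcd_eq_right (dvd_mul_left _ _), Nat.mul_div_cancel _ (by omega)]
    let A := Algebra.leftMulMatrix β (u : K)
    let A' := ad σ (Algebra.leftMulMatrix β ((u⁻¹ : Kˣ) : K))
    let X : Matrix (Fin m ⊕ Fin m) (Fin m ⊕ Fin m) F := fromBlocks A 0 0 A'
    have hAA : Algebra.leftMulMatrix β ((u⁻¹ : Kˣ) : K) * A = 1 := by
      rw [← map_mul, Units.inv_mul, map_one]
    have hAA' : ad σ A * A' = 1 := by rw [← ad_mul, hAA, ad_one]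
    have hX1 : X.det = 1 := by
      rw [Matrix.det_fromBlocks_zero₂₁, det_ad, ← Algebra.norm_eq_matrix_det, ← Algebra.norm_eq_matrix_det]
      set N := Algebra.norm F (ω : K)
      have hN : N ≠ 0 := fun h => ω.ne_zero (Algebra.norm_eq_zero_iff.1 h)
      have hu : Algebra.norm F (u : K) = N ^ (q + 1) := by rw [Units.val_pow_eq_pow_val, map_pow]
      have hinv : Algebra.norm F ((u⁻¹ : Kˣ) : K) = (N ^ (q + 1))⁻¹ := by
        rw [← hu]
        exact eq_inv_of_mul_eq_one_left (by rw [← map_mul, Units.inv_mul, map_one])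
      rw [hu, hinv, map_inv₀, frob_apply, ← pow_mul]
      have hfix : N ^ ((q + 1) * q) = N ^ (q + 1) := by
        have h1 : N ^ (q ^ 2) = N := hcardF N
        rw [add_mul, one_mul, pow_add, ← sq, h1, pow_succ]
        ring
      rw [hfix, mul_inv_cancel₀ (pow_ne_zero _ hN)]
    obtain ⟨hH, hHdet, hiso⟩ := perm_form σ (ι := Fin m ⊕ Fin m) (π := Sum.swap) Sum.swap_swap
    have hX : (ad σ X).submatrix Sum.swap Sum.swap * X = 1 := by
      have e : (ad σ X).submatrix Sum.swap Sum.swap = fromBlocks (ad σ A') 0 0 (ad σ A) := by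
        ext (i | i) (j | j) <;> simp [X, ad]
      rw [e, fromBlocks_multiply, show ad σ A' * A = 1 by rw [ad_ad σ hσσ]; exact hAA, hAA']
      simp [fromBlocks_one]
    obtain ⟨ψ, g, hinj, hg, -⟩ := exists_of_form hF (n := m + m) (by simp) hH hHdet X (hiso X hX) hX1
    refine ⟨g, fun N c hc hcg => ?_⟩
    rw [hg, ← map_pow, show Matrix.scalar (Fin (m + m)) c = ψ (Matrix.scalar _ c) from (AlgHom.commutes ψ c).symm] at hc
    have h1 := hinj hc
    have h3 : A ^ N = Matrix.scalar (Fin m) c := by
      ext i j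
      have := congrFun (congrFun h1 (Sum.inl i)) (Sum.inl j)
      rw [fromBlocks_diagonal_pow] at this
      simpa [Matrix.diagonal_apply] using this
    have h2 : (u : K) ^ N = algebraMap F K c := Algebra.leftMulMatrix_injective β (by
      rw [map_pow, AlgHom.commutes]; exact h3)
    rw [← huo]
    refine orderOf_dvd_of_pow_eq_one (Units.ext ?_)
    rw [Units.val_pow_eq_pow_val, pow_mul, h2, ← map_pow, hcg, map_one, Units.val_one]
  · -- the quadratic extension
    have : NeZero n := ⟨by omega⟩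
    let K := FiniteField.Extension F p n
    let : Fintype K := Fintype.ofFinite K
    have : CharP K p := charP_of_injective_algebraMap (algebraMap F K).injective p
    let β : Module.Basis (Fin n) F K := (Module.finBasis F K).reindex (finCongr (FiniteField.finrank_extension F p n))
    have hcardK : Fintype.card K = (q ^ 2) ^ n := by
      rw [← Nat.card_eq_fintype_card, FiniteField.natCard_extension, Nat.card_eq_fintype_card, hF]
    let φ : K →+* K := iterateFrobenius K p a
    have hφ : ∀ x, φ x = x ^ q := fun x => by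
      show iterateFrobenius K p a x = _
      rw [iterateFrobenius_def, hqa]
    let θ : K →+* K := iterateFrobenius K p (a * n)
    have hθ : ∀ x, θ x = x ^ (q ^ n) := fun x => by
      show iterateFrobenius K p (a * n) x = _
      rw [iterateFrobenius_def, pow_mul, hqa]
    have hθθ : ∀ x, θ (θ x) = x := fun x => by
      rw [hθ, hθ, ← pow_mul, ← mul_pow, ← sq, ← hcardK, FiniteField.pow_card]
    obtain ⟨t, ht⟩ := hodd
    have hqn : ∀ c : F, c ^ (q ^ n) = c ^ q := fun c => by
      rw [ht, pow_succ, pow_mul q, pow_mul]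
      congr 1
      clear ht
      induction t with
      | zero => simp
      | succ t ih => rw [pow_succ, pow_mul, ih, hcardF]
    have hθσ : ∀ (c : F) (x : K), θ (c • x) = σ c • θ x := fun c x => by
      rw [Algebra.smul_def, Algebra.smul_def, RingHom.map_mul θ, hθ (algebraMap F K c), ← map_pow, hqn, frob_apply]
    have htr : ∀ z : K, σ (Algebra.trace F K z) = Algebra.trace F K (θ z) := by
      intro z
      have h1 : Algebra.trace F K (θ z) = Algebra.trace F K (φ z) := by
        have h2 := Algebra.trace_eq_of_algEquiv ((FiniteField.Extension.frob F p n) ^ t) (φ z)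
        rw [FiniteField.Extension.frob_iterate_apply, Nat.card_eq_fintype_card, hF, hφ, ← pow_mul, ← pow_mul q,
          ← pow_succ', ← ht] at h2
        rw [hθ, hφ]
        exact h2
      rw [h1]
      apply (algebraMap F K).injective
      rw [frob_apply, map_pow, ← hφ, FiniteField.algebraMap_trace_eq_sum_pow,
        FiniteField.algebraMap_trace_eq_sum_pow, map_sum]
      exact Finset.sum_congr rfl fun i _ => map_pow φ z _
    set G : Matrix (Fin n) (Fin n) F := Matrix.of fun i j => Algebra.trace F K (θ (β i) * β j) with hG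
    have hGad : ad σ G = G := by
      ext i j
      show σ (Algebra.trace F K (θ (β j) * β i)) = Algebra.trace F K (θ (β i) * β j)
      rw [htr, RingHom.map_mul θ, hθθ, mul_comm]
    have hGright : ∀ (x : Fin n → F) i, (G *ᵥ x) i = Algebra.trace F K (θ (β i) * β.equivFun.symm x) := by
      intro x i
      rw [β.equivFun_symm_apply, Finset.mul_sum, map_sum, Matrix.mulVec, dotProduct]
      exact Finset.sum_congr rfl fun k _ => by rw [mul_smul_comm, map_smul, smul_eq_mul, mul_comm]; rfl
    have hGdet : IsUnit G.det := by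
      refine isUnit_iff_ne_zero.2 fun h0 => ?_
      obtain ⟨x, hx, hGx⟩ := Matrix.exists_mulVec_eq_zero_iff.2 h0
      refine hx (β.equivFun.symm.injective ?_)
      rw [map_zero]
      refine (traceForm_nondegenerate F K).2 _ fun y => ?_
      rw [Algebra.traceForm_apply]
      obtain ⟨z, rfl⟩ : ∃ z, θ z = y := ⟨θ y, hθθ y⟩
      conv_lhs => rw [← β.sum_repr z]
      rw [map_sum, Finset.sum_mul, map_sum]
      refine Finset.sum_eq_zero fun i _ => ?_
      rw [hθσ, smul_mul_assoc, map_smul, ← hGright, hGx, Pi.zero_apply, smul_zero]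
    obtain ⟨ω, hω⟩ := IsCyclic.exists_ofOrder_eq_natCard (α := Kˣ)
    rw [Nat.card_units, Nat.card_eq_fintype_card, hcardK] at hω
    set T := (tau q n).natAbs
    have hnodd : Odd n := ⟨t, ht⟩
    have hT : T * (q + 1) = q ^ n + 1 := by
      have h := congrArg Int.natAbs (tau_mul q n)
      rw [Int.natAbs_mul, hnodd.neg_pow, show (-(q : ℤ) - 1) = -((q + 1 : ℕ) : ℤ) by push_cast; ring,
        show (-(q : ℤ) ^ n - 1) = -((q ^ n + 1 : ℕ) : ℤ) by push_cast; ring,
        Int.natAbs_neg, Int.natAbs_natCast, Int.natAbs_neg, Int.natAbs_natCast] at h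
      exact h
    have hfac : (q ^ 2) ^ n - 1 = (q ^ n - 1) * (q + 1) * T := by
      rw [mul_assoc, mul_comm (q + 1) T, hT, ← pow_mul, mul_comm 2 n, pow_mul,
        show (q ^ n) ^ 2 - 1 = (q ^ n) ^ 2 - 1 ^ 2 by simp, Nat.sq_sub_sq, mul_comm]
    have hpos : 0 < q ^ n - 1 := Nat.sub_pos_of_lt (Nat.one_lt_pow (by omega) (by omega))
    set u : Kˣ := ω ^ ((q ^ n - 1) * (q + 1))
    have huo : orderOf u = T := by
      rw [orderOf_pow' _ (by positivity), hω, hfac, Nat.gcd_eq_right (dvd_mul_right _ _),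
        Nat.mul_div_cancel_left _ (by positivity)]
    have huu : θ (u : K) * u = 1 := by
      rw [hθ, ← pow_succ, ← hT, pow_mul, ← Units.val_pow_eq_pow_val, ← huo, pow_orderOf_eq_one, Units.val_one,
        one_pow]
    set X := Algebra.leftMulMatrix β (u : K)
    have hX1 : X.det = 1 := by
      rw [← Algebra.norm_eq_matrix_det, Units.val_pow_eq_pow_val, map_pow]
      have hN : Algebra.norm F (ω : K) ≠ 0 := fun h => ω.ne_zero (Algebra.norm_eq_zero_iff.1 h)
      obtain ⟨c, hc⟩ : Fintype.card F - 1 ∣ (q ^ n - 1) * (q + 1) := by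
        rw [hF, show q ^ 2 - 1 = q ^ 2 - 1 ^ 2 by simp, Nat.sq_sub_sq, mul_comm (q + 1)]
        exact Nat.mul_dvd_mul_right (Nat.sub_one_dvd_pow_sub_one (x := q) (n := n)) _
      rw [hc, pow_mul, FiniteField.pow_card_sub_one_eq_one _ hN, one_pow]
    have hX : ad σ X * G * X = G := by
      ext i j
      rw [Matrix.mul_assoc, Matrix.mul_apply]
      have hcol : ∀ k, (G * X) k j = Algebra.trace F K (θ (β k) * ((u : K) * β j)) := fun k => by
        rw [← β.equivFun.symm_apply_apply ((u : K) * β j), ← hGright, Matrix.mul_apply]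
        exact Finset.sum_congr rfl fun l _ => by
          show G k l * (Algebra.leftMulMatrix β (u : K)) l j = G k l * _
          rw [Algebra.leftMulMatrix_eq_repr_mul, β.equivFun_apply]
      simp only [hcol, ad, Matrix.transpose_apply, Matrix.map_apply, X, Algebra.leftMulMatrix_eq_repr_mul]
      show _ = Algebra.trace F K (θ (β i) * β j)
      rw [show θ (β i) * β j = θ ((u : K) * β i) * ((u : K) * β j) by
        rw [RingHom.map_mul θ]; linear_combination -(θ (β i) * β j) * huu]
      conv_rhs => rw [← β.sum_repr ((u : K) * β i)]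
      rw [map_sum, Finset.sum_mul, map_sum]
      exact Finset.sum_congr rfl fun k _ => by rw [hθσ, smul_mul_assoc, map_smul, smul_eq_mul]
    obtain ⟨ψ, g, hinj, hg, -⟩ := exists_of_form hF (Fintype.card_fin n) hGad hGdet X hX hX1
    refine ⟨g, fun N c hc hcg => ?_⟩
    rw [hg, ← map_pow, show Matrix.scalar (Fin n) c = ψ (Matrix.scalar _ c) from (AlgHom.commutes ψ c).symm] at hc
    have h2 : (u : K) ^ N = algebraMap F K c := Algebra.leftMulMatrix_injective β (by
      rw [map_pow, AlgHom.commutes]; exact hinj hc)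
    rw [← huo]
    refine orderOf_dvd_of_pow_eq_one (Units.ext ?_)
    rw [Units.val_pow_eq_pow_val, pow_mul, h2, ← map_pow, hcg, map_one, Units.val_one]

end Torus

section Unipotent

open AbsorbPSL (shift shift_pow_apply)

/-- An upper triangular matrix with three diagonal blocks. -/
def blk3 {α β γ : Type*} (a : Matrix α α F) (b : Matrix α β F) (c : Matrix α γ F) (e : Matrix β β F)
    (f : Matrix β γ F) (g : Matrix γ γ F) : Matrix (α ⊕ (β ⊕ γ)) (α ⊕ (β ⊕ γ)) F :=
  fromBlocks a (fromCols b c) 0 (fromBlocks e f 0 g)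

omit [Fintype F] in
theorem blk3_mul {α β γ : Type*} [Fintype α] [Fintype β] [Fintype γ]
    (a a' : Matrix α α F) (b b' : Matrix α β F) (c c' : Matrix α γ F) (e e' : Matrix β β F)
    (f f' : Matrix β γ F) (g g' : Matrix γ γ F) :
    blk3 a b c e f g * blk3 a' b' c' e' f' g' =
      blk3 (a * a') (a * b' + b * e') (a * c' + b * f' + c * g') (e * e') (e * f' + f * g') (g * g') := by
  simp only [blk3, fromBlocks_multiply, Matrix.mul_fromCols, fromCols_mul_fromBlocks, Matrix.mul_zero,
    Matrix.zero_mul, add_zero, zero_add]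
  congr 1
  ext i (j | j) <;> simp [add_assoc]

omit [Fintype F] in
theorem blk3_one {α β γ : Type*} [DecidableEq α] [DecidableEq β] [DecidableEq γ] :
    blk3 (1 : Matrix α α F) 0 0 (1 : Matrix β β F) 0 (1 : Matrix γ γ F) = 1 := by
  rw [blk3, fromBlocks_one, show fromCols (0 : Matrix α β F) (0 : Matrix α γ F) = 0 by ext i (j | j) <;> simp,
    fromBlocks_one]

variable (p : ℕ) [Fact p.Prime] [CharP F p]

include hF in
theorem exists_theta (c : Fin 2) : ∃ θ : F, θ + frob hF θ + (c.val : F) = 0 ∧ (c.val = 0 → θ ≠ 0) := by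
  set σ := frob hF
  fin_cases c
  · obtain ⟨y, hy⟩ : ∃ y, σ y ≠ y := by
      by_contra h
      push Not at h
      exact frob_ne_id hF (RingHom.ext h)
    exact ⟨y - σ y, by simp [σ, frob_frob hF], fun _ => sub_ne_zero.2 fun h => hy h.symm⟩
  · obtain ⟨x, hx⟩ : ∃ x, x + σ x ≠ 0 := by
      by_contra h
      push Not at h
      refine frob_ne_id hF (RingHom.ext fun x => ?_)
      have h1 := h 1
      rw [map_one] at h1
      rw [RingHom.id_apply]
      linear_combination h x - x * h1
    refine ⟨-(x / (x + σ x)), ?_, fun h => by simp at h⟩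
    have hs : σ (x + σ x) = x + σ x := by rw [map_add, frob_frob hF, add_comm]
    simp only [map_neg, map_div₀, hs]
    field_simp
    ring

include hF p in
/-- A regular unipotent isometry of an isotropic form in dimension `2 m + c`. -/
theorem exists_regular (m : ℕ) (hm : 1 ≤ m) (c : Fin 2) :
    ∃ (π : Fin m ⊕ (Fin c.val ⊕ Fin m) → Fin m ⊕ (Fin c.val ⊕ Fin m))
      (U : Matrix (Fin m ⊕ (Fin c.val ⊕ Fin m)) (Fin m ⊕ (Fin c.val ⊕ Fin m)) F),
      Function.Involutive π ∧ (ad (frob hF) U).submatrix π π * U = 1 ∧ U.det = 1 ∧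
      (U - 1) ^ (2 * m + c.val - 1) ≠ 0 ∧ (U - 1) ^ (2 * m + c.val) = 0 := by
  classical
  set σ := frob hF
  have hσσ : ∀ x, σ (σ x) = x := frob_frob hF
  have hc2 := c.isLt
  let π : Fin m ⊕ (Fin c.val ⊕ Fin m) → Fin m ⊕ (Fin c.val ⊕ Fin m) :=
    Sum.elim (fun i => Sum.inr (Sum.inr i)) (Sum.elim (fun j => Sum.inr (Sum.inl j)) Sum.inl)
  have hπ : Function.Involutive π := by rintro (i | (j | i)) <;> rfl
  obtain ⟨θ, hθ, hθ0⟩ := exists_theta hF c
  set X : Matrix (Fin m) (Fin m) F := shift m m F with hX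
  set A : Matrix (Fin m) (Fin m) F := 1 + X with hA
  let last : Fin m := ⟨m - 1, by omega⟩
  let v : Matrix (Fin m) (Fin c.val) F := Matrix.of fun i _ => if i = last then 1 else 0
  let E : Matrix (Fin m) (Fin m) F := Matrix.single last last 1
  let s : Matrix (Fin m) (Fin m) F := θ • E
  have hadE : ad σ E = E := by
    ext i j
    by_cases h1 : i = last <;> by_cases h2 : j = last <;> simp [ad, E, Matrix.single_apply, h1, h2, Ne.symm]
  have hvv : v * (Matrix.of fun j i => σ (v i j)) = (c.val : F) • E := by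
    ext i j
    by_cases h1 : i = last <;> by_cases h2 : j = last <;>
      simp [v, E, Matrix.mul_apply, Matrix.single_apply, h1, h2, Ne.symm]
  have hXm : X ^ m = 0 := by
    ext i j
    rw [hX, shift_pow_apply m m hm, if_neg (by omega)]
    rfl
  have hAu : IsUnit A.det := (Matrix.isUnit_iff_isUnit_det A).1 ((show IsNilpotent X from ⟨m, hXm⟩).isUnit_one_add)
  set Ai := A⁻¹ with hAi
  have hAiA : Ai * A = 1 := Matrix.nonsing_inv_mul _ hAu
  have hAAi : A * Ai = 1 := Matrix.mul_nonsing_inv _ hAu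
  set A' := ad σ Ai with hA'
  let dv : Matrix (Fin c.val) (Fin m) F := Matrix.of fun j i => σ (v i j)
  have hvdv : v * dv = (c.val : F) • E := hvv
  let U := blk3 A (A * v) (A * s) 1 (-dv) A'
  refine ⟨π, U, hπ, ?_, ?_, ?_, ?_⟩
  · have e : (ad σ U).submatrix π π = blk3 Ai (-v) (Matrix.of fun j i => σ ((A * s) i j)) 1 (Matrix.of fun j i => σ ((A * v) i j)) (ad σ A) := by
      ext (i | (i | i)) (j | (j | j)) <;>
        simp [U, π, blk3, ad, dv, hA', hσσ, Matrix.one_apply, eq_comm]
    rw [e, blk3_mul, show (Matrix.of fun j i => σ ((A * s) i j)) = ad σ (A * s) from rfl]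
    have h1 : ad σ A * A' = 1 := by rw [hA', ← ad_mul, hAiA, ad_one]
    have h2 : (Matrix.of fun j i => σ ((A * v) i j)) * A' = dv := by
      have : (Matrix.of fun j i => σ ((A * v) i j)) = dv * ad σ A := by
        ext j i
        simp [dv, ad, Matrix.mul_apply, map_sum, map_mul, mul_comm]
      rw [this, Matrix.mul_assoc, h1, Matrix.mul_one]
    have hs : ad σ (A * s) * A' = σ θ • E := by
      rw [ad_mul, Matrix.mul_assoc, h1, Matrix.mul_one, ad_smul, hadE]
    rw [hAiA, h1, h2, hs, ← Matrix.mul_assoc, hAiA, Matrix.one_mul, ← Matrix.mul_assoc, hAiA, Matrix.one_mul,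
      Matrix.one_mul, Matrix.mul_one, Matrix.neg_mul, Matrix.mul_neg, neg_neg, Matrix.one_mul, neg_add_cancel,
      add_neg_cancel, hvdv, ← add_smul, ← add_smul]
    rw [show θ + (c.val : F) + σ θ = 0 by linear_combination hθ, zero_smul, blk3_one]
  · simp only [U, blk3, Matrix.det_fromBlocks_zero₂₁, Matrix.det_one, one_mul, hA', det_ad]
    have hdA : A.det = 1 := by
      rw [Matrix.det_of_isUpperTriangular]
      · exact Finset.prod_eq_one fun i _ => by simp [hA, hX, shift]
      · intro i j hij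
        simp only [id] at hij
        rw [hA, Matrix.add_apply, Matrix.one_apply_ne (ne_of_gt hij), zero_add]
        simp only [hX, shift, Matrix.of_apply]
        rw [if_neg]
        have := Fin.lt_def.1 hij
        omega
    have hdAi : Ai.det = 1 := by
      have h := congrArg Matrix.det hAiA
      rwa [Matrix.det_mul, hdA, mul_one, Matrix.det_one] at h
    rw [hdA, hdAi, map_one, mul_one]
  all_goals
    set Y := A' - 1 with hY
    set R := fromCols (A * v) (A * s)
    set N2 : Matrix (Fin c.val ⊕ Fin m) (Fin c.val ⊕ Fin m) F := fromBlocks 0 (-dv) 0 Y with hN2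
    have hsub : U - 1 = fromBlocks X R 0 N2 := by
      ext (i | (i | i)) (j | (j | j)) <;>
        simp [U, blk3, R, hN2, hY, hA, Matrix.one_apply]
    have hblk : ∀ k, 1 ≤ k → ∃ P, (U - 1) ^ k = fromBlocks (X ^ k) P 0 (N2 ^ k) ∧
        X ^ (m - 1) * P = X ^ (m - 1) * R * N2 ^ (k - 1) := by
      intro k hk
      induction k, hk using Nat.le_induction with
      | base => exact ⟨R, by rw [pow_one, hsub, pow_one, pow_one], by simp⟩
      | succ k hk ih =>
        obtain ⟨P, hP, hP'⟩ := ih
        refine ⟨X * P + R * N2 ^ k, ?_, ?_⟩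
        · rw [pow_succ', hP, hsub, fromBlocks_multiply]
          simp [pow_succ']
        · rw [Matrix.mul_add, ← Matrix.mul_assoc, ← pow_succ, Nat.sub_add_cancel hm, hXm, Matrix.zero_mul, zero_add,
            Nat.add_sub_cancel, Matrix.mul_assoc]
    have hN2pow : ∀ k, 1 ≤ k → N2 ^ k = fromBlocks 0 (-dv * Y ^ (k - 1)) 0 (Y ^ k) := by
      intro k hk
      induction k, hk using Nat.le_induction with
      | base => simp [hN2]
      | succ k hk ih =>
        rw [pow_succ, ih, hN2, fromBlocks_multiply]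
        simp [← pow_succ, Nat.sub_add_cancel hk, Matrix.mul_assoc]
    have hXA : Commute X Ai := by
      have hc' : Commute X A := (Commute.one_right X).add_right (Commute.refl X)
      calc X * Ai = Ai * A * X * Ai := by rw [hAiA, Matrix.one_mul]
        _ = Ai * (A * X) * Ai := by rw [Matrix.mul_assoc Ai]
        _ = Ai * X := by rw [← hc'.eq, Matrix.mul_assoc, Matrix.mul_assoc, hAAi, Matrix.mul_one]
    have hYeq : Y = ad σ (-X * Ai) := by
      rw [hY, hA', show -X * Ai = Ai - 1 by
        rw [show -X = 1 - A by rw [hA, sub_add_cancel_left], Matrix.sub_mul, Matrix.one_mul, hAAi], ad_sub, ad_one]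
    have hYm : Y ^ m = 0 := by
      rw [hYeq, ← ad_pow, hXA.neg_left.mul_pow, neg_pow, hXm, Matrix.mul_zero, Matrix.zero_mul, ad_zero]
    have hN2z : N2 ^ (m + c.val) = 0 := by
      rw [hN2pow _ (by omega), pow_eq_zero_of_le (Nat.le_add_right m c.val) hYm]
      rcases Nat.eq_zero_or_pos c.val with h | h
      · have : IsEmpty (Fin c.val) := by rw [h]; infer_instance
        rw [show (-dv * Y ^ (m + c.val - 1)) = 0 from Subsingleton.elim _ _, fromBlocks_zero]
      · rw [pow_eq_zero_of_le (show m ≤ m + c.val - 1 by omega) hYm, Matrix.mul_zero, fromBlocks_zero]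
  · intro h0
    obtain ⟨P, hP, hP'⟩ := hblk (m + c.val) (by omega)
    have hXt : ∀ i j, (X ^ (m - 1)) i j = if i.val = 0 ∧ j.val = m - 1 then 1 else 0 := by
      intro i j
      rcases Nat.eq_zero_or_pos (m - 1) with h | h
      · rw [h, pow_zero, Matrix.one_apply]
        have : i.val = 0 ∧ j.val = 0 := by omega
        rw [if_pos (Fin.ext (this.1.trans this.2.symm)), if_pos this]
      · rw [hX, shift_pow_apply m _ h]
        congr 1
        exact propext ⟨fun h => ⟨by omega, by omega⟩, fun h => ⟨by omega, by omega⟩⟩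
    have hXAi : X ^ (m - 1) * Ai = X ^ (m - 1) := by
      have h : X ^ (m - 1) * A = X ^ (m - 1) := by
        rw [hA, Matrix.mul_add, Matrix.mul_one, ← pow_succ, Nat.sub_add_cancel hm, hXm, add_zero]
      nth_rewrite 1 [← h]
      rw [Matrix.mul_assoc, hAAi, Matrix.mul_one]
    have hYt : Y ^ (m - 1) = σ ((-1 : F) ^ (m - 1)) • ad σ (X ^ (m - 1)) := by
      have hAik : ∀ k, X ^ (m - 1) * Ai ^ k = X ^ (m - 1) := fun k => by
        induction k with
        | zero => simp
        | succ k ih => rw [pow_succ, ← Matrix.mul_assoc, ih, hXAi]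
      rw [hYeq, ← ad_pow, hXA.neg_left.mul_pow, ← neg_one_smul F X, _root_.smul_pow, smul_mul_assoc, hAik, ad_smul]
    -- the corner of the product
    have hcorner : X ^ (m - 1) * P = 0 := by
      rcases Nat.eq_zero_or_pos (m - 1) with hm1 | hm1
      · rw [show 2 * m + c.val - 1 = m + c.val by omega, hP, ← fromBlocks_zero, fromBlocks_inj] at h0
        rw [h0.2.1, Matrix.mul_zero]
      · obtain ⟨Q, hQ, -⟩ := hblk (m - 1) hm1
        rw [show 2 * m + c.val - 1 = (m - 1) + (m + c.val) by omega, pow_add, hQ, hP, fromBlocks_multiply,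
          ← fromBlocks_zero, fromBlocks_inj, hN2z, Matrix.mul_zero, add_zero] at h0
        simpa using h0.2.1
    rw [hP'] at hcorner
    -- the right column of blocks
    have hcol : X ^ (m - 1) * (A * ((if c.val = 0 then θ else -1) • E)) * Y ^ (m - 1) = 0 := by
      have h := congrArg Matrix.toCols₂ hcorner
      rw [show Matrix.toCols₂ (0 : Matrix (Fin m) (Fin c.val ⊕ Fin m) F) = 0 from rfl] at h
      rw [Matrix.mul_assoc] at h
      rcases Nat.eq_zero_or_pos c.val with hc | hc
      · rw [if_pos hc]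
        have hempty : IsEmpty (Fin c.val) := by rw [hc]; infer_instance
        rcases Nat.eq_zero_or_pos (m - 1) with hm1 | hm1
        · rw [show m + c.val - 1 = 0 by omega, pow_zero, Matrix.mul_one] at h
          rw [hm1, pow_zero, pow_zero, Matrix.one_mul, Matrix.mul_one]
          simpa [R, s, hm1, Matrix.mul_fromCols] using h
        · rw [show m + c.val - 1 = m - 1 by omega, hN2pow _ hm1] at h
          simp only [R, fromCols_mul_fromBlocks, Matrix.mul_fromCols, toCols₂_fromCols, Matrix.mul_zero, zero_add,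
            show (A * v) = 0 from Subsingleton.elim _ _, Matrix.zero_mul] at h
          rw [Matrix.mul_assoc]
          simpa [s] using h
      · rw [if_neg (by omega)]
        have hc1 : c.val = 1 := by omega
        rw [show m + c.val - 1 = m by omega, hN2pow _ hm, hYm] at h
        simp only [R, fromCols_mul_fromBlocks, Matrix.mul_fromCols, toCols₂_fromCols, Matrix.mul_zero,
          zero_add, add_zero] at h
        rw [← Matrix.mul_assoc (A * v), Matrix.mul_neg, Matrix.mul_assoc A v, hvdv] at h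
        rw [Matrix.mul_assoc]
        simpa [hc1] using h
    have h2 := congrFun (congrFun hcol ⟨0, by omega⟩) ⟨0, by omega⟩
    rw [hYt] at h2
    simp only [Matrix.mul_smul, Matrix.smul_apply, Matrix.mul_apply, ad, Matrix.transpose_apply, Matrix.map_apply,
      hXt, Matrix.zero_apply, true_and, smul_eq_mul] at h2
    rw [Finset.sum_eq_single last (fun x _ hx => by
        simp [show x.val ≠ m - 1 from fun hh => hx (Fin.ext hh)]) (by simp)] at h2
    rw [Finset.sum_eq_single last (fun x _ hx => by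
        simp [show x.val ≠ m - 1 from fun hh => hx (Fin.ext hh)]) (by simp)] at h2
    simp only [last, if_true, map_one, mul_one, one_mul] at h2
    rw [Finset.sum_eq_single last (fun x _ hx => by
        simp [E, Matrix.single_apply, Ne.symm hx]) (by simp)] at h2
    simp [E, last, hA, hX, shift] at h2
    split_ifs at h2 with hc
    · exact hθ0 (by simp [hc]) ((mul_eq_zero.1 h2).resolve_right (pow_ne_zero _ (by simp)))
    · simp at h2
  · obtain ⟨P, hP, -⟩ := hblk m hm
    obtain ⟨P', hP', -⟩ := hblk (m + c.val) (by omega)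
    rw [show 2 * m + c.val = m + (m + c.val) by omega, pow_add, hP, hP', fromBlocks_multiply, hXm, hN2z]
    simp

include hF p in
/-- Unipotent elements of projective order `p ^ (e + 1)`, centralised by an element of order `r` if they do not
need the whole space. -/
theorem exists_unipotent {n e : ℕ} (hn : 3 ≤ n) (he : p ^ e < n) :
    (∃ g : Cfsg.SU n F q, p ^ (e + 1) ∣ orderOf (cls g)) ∧
      ∀ {r : ℕ}, r.Prime → ∀ ζ : F, IsPrimitiveRoot ζ r → r ∣ q + 1 → ¬ r ∣ n → p ^ e < n - 1 →
        ∃ y : Cfsg.PSU n F q, p ^ (e + 1) ∣ orderOf y ∧ r ∣ orderOf y := by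
  classical
  have hpp : p.Prime := Fact.out
  set σ := frob hF
  -- the order of a unipotent element
  have horder : ∀ (g : Cfsg.SU n F q) (L : ℕ), (mat g - 1) ^ L ≠ 0 → (mat g - 1) ^ (L + 1) = 0 → p ^ e ≤ L →
      p ^ (e + 1) ∣ orderOf (cls g) := by
    intro g L hL hL' hle
    have : NeZero n := ⟨by omega⟩
    set N := orderOf (cls g)
    obtain ⟨c, hc⟩ := (cls_pow_eq_one_iff hF (by omega) g N).1 (pow_orderOf_eq_one _)
    set U := mat g
    have hbig : U ^ (p ^ (L + 1)) = 1 := by
      have h1 := sub_pow_char_pow_of_commute (p := p) (n := L + 1) (h := Commute.one_right U)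
      rw [pow_eq_zero_of_le (Nat.lt_pow_self hpp.one_lt).le hL', one_pow, eq_comm, sub_eq_zero] at h1
      exact h1
    have hc1 : c = 1 := by
      have h1 : c ^ (p ^ (L + 1)) = 1 := by
        have h2 : Matrix.scalar (Fin n) (c ^ (p ^ (L + 1))) = Matrix.scalar (Fin n) 1 := by
          rw [map_pow, ← hc, ← pow_mul, mul_comm, pow_mul, hbig, one_pow, map_one]
        exact Matrix.scalar_inj.1 h2
      have h3 : (c - 1) ^ (p ^ (L + 1)) = 0 := by rw [sub_pow_char_pow, h1, one_pow, sub_self]
      exact sub_eq_zero.1 (eq_zero_of_pow_eq_zero h3)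
    rw [hc1, map_one] at hc
    obtain ⟨t, ht, hNt⟩ := (Nat.dvd_prime_pow hpp).1 (Nat.gcd_dvd_right N (p ^ (L + 1)))
    by_cases hts : e + 1 ≤ t
    · exact (pow_dvd_pow p hts).trans (hNt ▸ Nat.gcd_dvd_left _ _)
    exfalso
    have hUt : U ^ (p ^ t) = 1 := by rw [← hNt]; exact pow_gcd_eq_one.2 ⟨hc, hbig⟩
    refine hL (pow_eq_zero_of_le ((pow_le_pow_right₀ hpp.one_le (show t ≤ e by omega)).trans hle) ?_)
    rw [sub_pow_char_pow_of_commute (p := p) (n := t) (h := Commute.one_right U), hUt, one_pow, sub_self]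
  constructor
  · obtain ⟨π, U, hπ, hU, hdet, hne, hz⟩ := exists_regular hF p (n / 2) (by omega) ⟨n % 2, Nat.mod_lt _ two_pos⟩
    obtain ⟨hH, hHdet, hiso⟩ := perm_form σ hπ
    obtain ⟨ψ, g, hinj, hg, -⟩ := exists_of_form hF (n := n)
      (by simp only [Fintype.card_sum, Fintype.card_fin]; omega) hH hHdet U (hiso U hU) hdet
    have h1 : ∀ L, (mat g - 1) ^ L = ψ ((U - 1) ^ L) := fun L => by rw [map_pow, map_sub, map_one, hg]
    refine ⟨g, horder g (2 * (n / 2) + n % 2 - 1) ?_ ?_ (by omega)⟩
    · rw [h1]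
      exact fun h => hne (hinj (h.trans (map_zero ψ).symm))
    · rw [h1, Nat.sub_add_cancel (by omega), hz, map_zero]
  · intro r hr ζ hζ hrq hrn hlt
    obtain ⟨π, U, hπ, hU, hdet, hne, hz⟩ :=
      exists_regular hF p ((n - 1) / 2) (by omega) ⟨(n - 1) % 2, Nat.mod_lt _ two_pos⟩
    obtain ⟨hH, hHdet, hiso⟩ := perm_form σ hπ
    set H := (1 : Matrix (Fin ((n - 1) / 2) ⊕ (Fin ((n - 1) % 2) ⊕ Fin ((n - 1) / 2)))
      (Fin ((n - 1) / 2) ⊕ (Fin ((n - 1) % 2) ⊕ Fin ((n - 1) / 2))) F).submatrix π id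
    set X := fromBlocks U 0 0 (1 : Matrix (Fin 1) (Fin 1) F)
    set H2 := fromBlocks H 0 0 (1 : Matrix (Fin 1) (Fin 1) F)
    have had2 : ∀ (A : Matrix (Fin ((n - 1) / 2) ⊕ (Fin ((n - 1) % 2) ⊕ Fin ((n - 1) / 2)))
        (Fin ((n - 1) / 2) ⊕ (Fin ((n - 1) % 2) ⊕ Fin ((n - 1) / 2))) F) (D : Matrix (Fin 1) (Fin 1) F),
        ad σ (fromBlocks A 0 0 D) = fromBlocks (ad σ A) 0 0 (ad σ D) :=
      fun A D => by ext (i | i) (j | j) <;> simp [ad]
    obtain ⟨ψ, g, hinj, hg, hsa⟩ := exists_of_form hF (n := n)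
      (by simp only [Fintype.card_sum, Fintype.card_fin]; omega)
      (show ad σ H2 = H2 by rw [had2, hH, ad_one]) (by rw [Matrix.det_fromBlocks_zero₂₁, Matrix.det_one, mul_one]; exact hHdet)
      X (by rw [had2, ad_one, fromBlocks_multiply, fromBlocks_multiply]; simp [hiso U hU, H2])
      (by rw [Matrix.det_fromBlocks_zero₂₁, hdet, Matrix.det_one, mul_one])
    set L := 2 * ((n - 1) / 2) + (n - 1) % 2 - 1
    have hsubX : X - 1 = fromBlocks (U - 1) 0 0 0 := by
      ext (i | i) (j | j) <;> simp [X, Matrix.one_apply]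
    have h1 : ∀ k, 1 ≤ k → (mat g - 1) ^ k = ψ (fromBlocks ((U - 1) ^ k) 0 0 0) := fun k hk => by
      rw [hg, ← map_one ψ, ← map_sub, ← map_pow, hsubX, fromBlocks_diagonal_pow, zero_pow (by omega)]
    have hL : 1 ≤ L := by omega
    have hord := horder g L
      (by
        rw [h1 L hL]
        exact fun h => hne ((fromBlocks_inj.1 ((hinj (h.trans (map_zero ψ).symm)).trans fromBlocks_zero.symm)).1))
      (by rw [h1 _ (by omega), Nat.sub_add_cancel (by omega), hz, fromBlocks_zero, map_zero]) (by omega)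
    set E0 := fromBlocks (1 : Matrix (Fin ((n - 1) / 2) ⊕ (Fin ((n - 1) % 2) ⊕ Fin ((n - 1) / 2)))
      (Fin ((n - 1) / 2) ⊕ (Fin ((n - 1) % 2) ⊕ Fin ((n - 1) / 2))) F) 0 0 (0 : Matrix (Fin 1) (Fin 1) F)
    have hE : IsIdempotentElem (ψ E0) := by
      rw [IsIdempotentElem, ← map_mul]
      congr 1
      rw [fromBlocks_multiply]; simp [E0]
    obtain ⟨h, ho, hcomm⟩ := exists_orderOf_eq hF (by omega) hr hζ hrq hrn hE
      (hsa E0 (by rw [had2, ad_one, ad_zero, fromBlocks_multiply, fromBlocks_multiply]; simp [H2]))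
      (fun h0 => by
        have := hinj (h0.trans (map_zero ψ).symm)
        have h2 := congrFun (congrFun this (Sum.inl (Sum.inl ⟨0, by omega⟩))) (Sum.inl (Sum.inl ⟨0, by omega⟩))
        simp [E0] at h2)
      (fun h0 => by
        have := hinj (h0.trans (map_one ψ).symm)
        have h2 := congrFun (congrFun this (Sum.inr 0)) (Sum.inr 0)
        simp [E0] at h2)
    obtain ⟨y, hy, hy'⟩ := Absorb.exists_dvd_of_commute hr (hcomm g (by
      rw [hg]
      refine Commute.map (f := ψ) ?_
      show X * E0 = E0 * X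
      rw [fromBlocks_multiply, fromBlocks_multiply]; simp)) ho
    exact ⟨y, hord.trans hy, hy'⟩

end Unipotent

end Cfsg.Lib.Linear.AbsorbPSU
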