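import Cfsg.Agent.Lib.Linear.AbsorbPSpElems

/-!
# Tori of symplectic groups in every characteristic
-/

set_option autoImplicit false

namespace Cfsg.Lib.Linear.AbsorbPSp

open Matrix Polynomial
open scoped MatrixGroups

variable {F : Type*} [Field F] [Fintype F] (p : ℕ) [Fact p.Prime] [CharP F p]

include p in
/-- Elements of `Sp_2d(q)` powers of which are scalar only if the exponent is a multiple of half of
`q ^ d + 1`, respectively `q ^ d - 1`. -/
theorem exists_tori_any (d : ℕ) [NeZero d] :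
    (∃ g : symplecticGroup (Fin d) F, ∀ N : ℕ,
      ((g : Matrix (Fin d ⊕ Fin d) (Fin d ⊕ Fin d) F) ^ N = 1 → Fintype.card F ^ d + 1 ∣ N) ∧
      ((g : Matrix (Fin d ⊕ Fin d) (Fin d ⊕ Fin d) F) ^ N = -1 → Fintype.card F ^ d + 1 ∣ 2 * N)) ∧
    (∃ g : symplecticGroup (Fin d) F, ∀ N : ℕ,
      ((g : Matrix (Fin d ⊕ Fin d) (Fin d ⊕ Fin d) F) ^ N = 1 → Fintype.card F ^ d - 1 ∣ N) ∧
      ((g : Matrix (Fin d ⊕ Fin d) (Fin d ⊕ Fin d) F) ^ N = -1 → Fintype.card F ^ d - 1 ∣ 2 * N)) := by
  let K := FiniteField.Extension F p d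
  let β : Module.Basis (Fin d) F K := (Module.finBasis F K).reindex (finCongr (FiniteField.finrank_extension F p d))
  let : Fintype K := Fintype.ofFinite K
  have : CharP K p := charP_of_injective_algebraMap (algebraMap F K).injective p
  have hQ : Fintype.card K = Fintype.card F ^ d := by
    rw [← Nat.card_eq_fintype_card, FiniteField.natCard_extension, Nat.card_eq_fintype_card]
  rw [← hQ]
  set Q := Fintype.card K
  have hQ1 : 1 < Q := Fintype.one_lt_card
  constructor
  · let L := FiniteField.Extension K p 2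
    let γ : Module.Basis (Fin 2) K L := (Module.finBasis K L).reindex (finCongr (FiniteField.finrank_extension K p 2))
    obtain ⟨ω, hω⟩ := IsCyclic.exists_ofOrder_eq_natCard (α := Lˣ)
    rw [Nat.card_units, FiniteField.natCard_extension, Nat.card_eq_fintype_card] at hω
    change orderOf ω = Q ^ 2 - 1 at hω
    have hS : Q ^ 2 - 1 = (Q - 1) * (Q + 1) := by
      rw [show Q ^ 2 - 1 = Q ^ 2 - 1 ^ 2 by simp, Nat.sq_sub_sq, mul_comm]
    set v : Lˣ := ω ^ (Q - 1)
    have hvo : orderOf v = Q + 1 := by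
      rw [orderOf_pow' _ (by omega), hω, hS, Nat.gcd_eq_right (dvd_mul_right _ _), Nat.mul_div_cancel_left _ (by omega)]
    have hnv : Algebra.norm K (v : L) = 1 := by
      rw [Units.val_pow_eq_pow_val, map_pow]
      exact FiniteField.pow_card_sub_one_eq_one _ (fun h => ω.ne_zero (Algebra.norm_eq_zero_iff.1 h))
    have hdet : (Algebra.leftMulMatrix γ (v : L)).det = 1 := by rw [← Algebra.norm_eq_matrix_det γ, hnv]
    obtain ⟨g, hg⟩ := exists_symplectic β (⟨_, hdet⟩ : SL(2, K))
    have key : ∀ N, ∀ c : L, (c = 1 ∨ c = -1) → Algebra.leftMulMatrix γ (v : L) ^ N = Algebra.leftMulMatrix γ c →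
        (v : L) ^ N = c := fun N c _ h => Algebra.leftMulMatrix_injective γ (by rw [map_pow, h])
    refine ⟨g, fun N => ⟨fun h => ?_, fun h => ?_⟩⟩
    · have h1 := key N 1 (Or.inl rfl) (((hg N).1 h).trans (map_one _).symm)
      rw [← hvo]
      exact orderOf_dvd_of_pow_eq_one (Units.ext (by rw [Units.val_pow_eq_pow_val, h1, Units.val_one]))
    · have h1 := key N (-1) (Or.inr rfl) (((hg N).2 h).trans (by rw [map_neg, map_one]))
      rw [← hvo]
      exact orderOf_dvd_of_pow_eq_one
        (Units.ext (by rw [Units.val_pow_eq_pow_val, mul_comm, pow_mul, h1, neg_one_sq, Units.val_one]))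
  · obtain ⟨ω, hω⟩ := IsCyclic.exists_ofOrder_eq_natCard (α := Kˣ)
    rw [Nat.card_units, Nat.card_eq_fintype_card] at hω
    have hdet : (Matrix.diagonal ![(ω : K), ((ω⁻¹ : Kˣ) : K)]).det = 1 := by simp [Matrix.det_diagonal]
    obtain ⟨g, hg⟩ := exists_symplectic β (⟨_, hdet⟩ : SL(2, K))
    have key : ∀ N, ∀ c : K, (Matrix.diagonal ![(ω : K), ((ω⁻¹ : Kˣ) : K)]) ^ N = Matrix.diagonal (fun _ => c) →
        (ω : K) ^ N = c := fun N c h => by
      rw [Matrix.diagonal_pow] at h
      simpa using congrFun (Matrix.diagonal_injective h) 0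
    refine ⟨g, fun N => ⟨fun h => ?_, fun h => ?_⟩⟩
    · have h1 := key N 1 (((hg N).1 h).trans Matrix.diagonal_one.symm)
      rw [← hω]
      exact orderOf_dvd_of_pow_eq_one (Units.ext (by rw [Units.val_pow_eq_pow_val, h1, Units.val_one]))
    · have h1 := key N (-1) (((hg N).2 h).trans (by rw [← Matrix.diagonal_one, Matrix.diagonal_neg]))
      rw [← hω]
      exact orderOf_dvd_of_pow_eq_one
        (Units.ext (by rw [Units.val_pow_eq_pow_val, mul_comm, pow_mul, h1, neg_one_sq, Units.val_one]))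

end Cfsg.Lib.Linear.AbsorbPSp
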