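import Cfsg.Agent.Lib.Linear.SylowLarge
import Cfsg.Agent.Lib.Linear.SymplecticGroup

/-!
# Sylow subgroups of `Sp_{2n}(q)` at primes larger than `n`
-/

set_option autoImplicit false

namespace Cfsg.Agent.SylowLargeSp

open Matrix Finset Cfsg.Lib.Linear.SylowLarge

variable {F : Type*} [Field F]

section Block

variable (e k t : ℕ)

/-- the indices of `k` hyperbolic blocks and a remainder -/
def idx : Fin (e * k + t) ⊕ Fin (e * k + t) ≃ ((Fin e ⊕ Fin e) × Fin k) ⊕ (Fin t ⊕ Fin t) :=
  let s : Fin (e * k + t) ≃ (Fin e × Fin k) ⊕ Fin t :=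
    finSumFinEquiv.symm.trans (Equiv.sumCongr finProdFinEquiv.symm (Equiv.refl _))
  (Equiv.sumCongr s s).trans
    { toFun := Sum.elim (Sum.elim (fun p => Sum.inl (Sum.inl p.1, p.2)) (fun i => Sum.inr (Sum.inl i)))
        (Sum.elim (fun p => Sum.inl (Sum.inr p.1, p.2)) (fun i => Sum.inr (Sum.inr i)))
      invFun := Sum.elim (fun p => Sum.elim (fun a => Sum.inl (Sum.inl (a, p.2))) (fun a => Sum.inr (Sum.inl (a, p.2))) p.1)
        (Sum.elim (fun i => Sum.inl (Sum.inr i)) (fun i => Sum.inr (Sum.inr i)))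
      left_inv := by rintro ((p | i) | (p | i)) <;> rfl
      right_inv := by rintro (⟨a | a, b⟩ | (i | i)) <;> rfl }

theorem J_submatrix :
    (Matrix.fromBlocks (Matrix.blockDiagonal fun _ : Fin k => J (Fin e) F) 0 0 (J (Fin t) F)).submatrix
      (idx e k t) (idx e k t) = J (Fin (e * k + t)) F := by
  have hs : ∀ i, ∃ z : (Fin e × Fin k) ⊕ Fin t,
      (finSumFinEquiv.symm.trans (Equiv.sumCongr finProdFinEquiv.symm (Equiv.refl (Fin t)))).symm z = i :=
    fun i => Equiv.surjective _ i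
  ext (i | i) (j | j) <;>
    obtain ⟨(⟨a, b⟩ | a), rfl⟩ := hs i <;> obtain ⟨(⟨a', b'⟩ | a'), rfl⟩ := hs j <;>
    simp [idx, Matrix.J, Matrix.one_apply, Matrix.blockDiagonal_apply, -finSumFinEquiv_apply_left,
      -finSumFinEquiv_apply_right] <;> (try split_ifs) <;> simp_all [-finSumFinEquiv_apply_left, -finSumFinEquiv_apply_right]

/-- a block diagonal symplectic matrix -/
noncomputable def blockMat (c : Fin k → Matrix.symplecticGroup (Fin e) F) :
    Matrix (Fin (e * k + t) ⊕ Fin (e * k + t)) (Fin (e * k + t) ⊕ Fin (e * k + t)) F :=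
  (Matrix.fromBlocks (Matrix.blockDiagonal fun i => (c i).1) 0 0 1).submatrix (idx e k t) (idx e k t)

theorem blockMat_mem (c : Fin k → Matrix.symplecticGroup (Fin e) F) :
    blockMat e k t c ∈ Matrix.symplecticGroup (Fin (e * k + t)) F := by
  rw [SymplecticGroup.mem_iff, blockMat, Matrix.transpose_submatrix, ← J_submatrix, Matrix.submatrix_mul_equiv,
    Matrix.submatrix_mul_equiv, Matrix.fromBlocks_transpose, Matrix.fromBlocks_multiply,
    Matrix.fromBlocks_multiply]
  congr 1
  simp only [Matrix.transpose_zero, Matrix.transpose_one, Matrix.mul_zero, Matrix.zero_mul, add_zero, zero_add,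
    Matrix.mul_one, Matrix.one_mul, Matrix.blockDiagonal_transpose, ← Matrix.blockDiagonal_mul]
  congr 2
  funext i
  exact SymplecticGroup.mem_iff.1 (c i).2

/-- `Sp_{2e}^k` inside `Sp_{2(ek+t)}` -/
noncomputable def blockHom : (Fin k → Matrix.symplecticGroup (Fin e) F) →* Matrix.symplecticGroup (Fin (e * k + t)) F where
  toFun c := ⟨blockMat e k t c, blockMat_mem e k t c⟩
  map_one' := Subtype.ext (by
    show blockMat e k t 1 = 1
    rw [blockMat, show (fun i : Fin k => ((1 : Fin k → Matrix.symplecticGroup (Fin e) F) i).1) = 1 from rfl,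
      Matrix.blockDiagonal_one, Matrix.fromBlocks_one, Matrix.submatrix_one_equiv])
  map_mul' a b := Subtype.ext (by
    show blockMat e k t (a * b) = blockMat e k t a * blockMat e k t b
    rw [blockMat, blockMat, blockMat, Matrix.submatrix_mul_equiv, Matrix.fromBlocks_multiply]
    simp [← Matrix.blockDiagonal_mul])

theorem blockHom_injective : Function.Injective (blockHom (F := F) e k t) := fun a b h => by
  funext i
  apply Subtype.ext
  have h1 : blockMat e k t a = blockMat e k t b := congrArg Subtype.val h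
  have h2 := congrArg (fun M => (M.submatrix (idx e k t).symm (idx e k t).symm).toBlocks₁₁) h1
  simp only [blockMat, Matrix.submatrix_submatrix, Equiv.self_comp_symm, Matrix.submatrix_id_id,
    Matrix.toBlocks_fromBlocks₁₁] at h2
  exact congrFun (Matrix.blockDiagonal_injective h2) i

end Block

/-- `GL_e` inside `Sp_{2e}` -/
noncomputable def hyperHom (e : ℕ) : GL (Fin e) F →* Matrix.symplecticGroup (Fin e) F where
  toFun A := ⟨Matrix.fromBlocks A.1 0 0 (A⁻¹).1.transpose, by
    rw [SymplecticGroup.mem_iff, Matrix.fromBlocks_transpose, Matrix.J, Matrix.fromBlocks_multiply,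
      Matrix.fromBlocks_multiply]
    simp [← Matrix.transpose_mul, Matrix.mul_neg, Matrix.neg_mul]⟩
  map_one' := Subtype.ext (by simp [Matrix.fromBlocks_one])
  map_mul' A B := Subtype.ext (by simp [Matrix.fromBlocks_multiply, ← Matrix.transpose_mul, _root_.mul_inv_rev])

theorem hyperHom_injective (e : ℕ) : Function.Injective (hyperHom (F := F) e) := fun A B h => by
  have h1 := congrArg Matrix.toBlocks₁₁ (congrArg Subtype.val h)
  exact Units.ext (by simpa [hyperHom] using h1)

variable [Fintype F] {q r : ℕ} [hr : Fact r.Prime]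

theorem card_sp (hq : Fintype.card F = q) (n : ℕ) :
    Nat.card (Matrix.symplecticGroup (Fin n) F) = q ^ (n ^ 2) * ∏ i ∈ Finset.range n, ((q ^ 2) ^ (i + 1) - 1) := by
  rw [Nat.card_congr (Cfsg.Lib.Linear.Symp.spEquiv (F := F) (m := n)).toEquiv,
    Cfsg.Lib.Linear.Symp.card_iso (Cfsg.Lib.Linear.Symp.spB_nondegenerate n F) (Cfsg.Lib.Linear.Symp.spB_isAlt n F)
      (Cfsg.Lib.Linear.Symp.finrank_space (m := n) (F := F)), hq]
  simp [← pow_mul]

/-- the order of `q²` modulo `r` -/
noncomputable def ord2 (q r : ℕ) : ℕ := orderOf ((q ^ 2 : ℕ) : ZMod r)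

omit [Fintype F] in
theorem ord2_facts (hr2 : r ≠ 2) (hrq : ¬ r ∣ q) :
    (∀ i, orderOf (q : ZMod r) ∣ 2 * i ↔ ord2 q r ∣ i) ∧ 0 < ord2 q r ∧ 2 * ord2 q r < r ∧ ¬ r ∣ q ^ 2 := by
  have h2 : ¬ r ∣ q ^ 2 := fun h => hrq (hr.out.dvd_of_dvd_pow h)
  have hodd : r % 2 = 1 := hr.out.eq_two_or_odd.resolve_left hr2
  have h1 : ∀ i, orderOf (q : ZMod r) ∣ 2 * i ↔ ord2 q r ∣ i := fun i => by
    rw [ord2, orderOf_dvd_iff_pow_eq_one, orderOf_dvd_iff_pow_eq_one, Nat.cast_pow, pow_mul]
  refine ⟨h1, ord_pos h2, ?_, h2⟩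
  have hd : ord2 q r ∣ (r - 1) / 2 := (h1 _).1 (by
    rw [show 2 * ((r - 1) / 2) = r - 1 by omega]
    exact ZMod.orderOf_dvd_card_sub_one (q_ne_zero hrq))
  have := Nat.le_of_dvd (by have := hr.out.two_le; omega) hd
  omega

omit [Fintype F] in
theorem vexp_sq (hr2 : r ≠ 2) (hrq : ¬ r ∣ q) (h1 : 1 < q) : vexp (q ^ 2) r = vexp q r := by
  obtain ⟨hiff, he, hlt, -⟩ := ord2_facts (r := r) hr2 hrq
  have hd : orderOf (q : ZMod r) ∣ 2 * ord2 q r := (hiff _).2 dvd_rfl
  rw [vexp, ← pow_mul]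
  have h := fact_pow_sub_one hrq h1 (show 0 < 2 * ord2 q r by omega) hlt
  rwa [if_pos hd] at h

theorem fact_card_sp (hq : Fintype.card F = q) (n : ℕ) (hr2 : r ≠ 2) (hrn : n < r) (hrq : ¬ r ∣ q) :
    (Nat.card (Matrix.symplecticGroup (Fin n) F)).factorization r = n / ord2 q r * vexp q r := by
  have h1 := one_lt_q hq
  have h2 := (ord2_facts (r := r) hr2 hrq).2.2.2
  have hne : ∀ i ∈ Finset.range n, (q ^ 2) ^ (i + 1) - 1 ≠ 0 := fun i _ => by
    have : 2 ≤ (q ^ 2) ^ (i + 1) := le_trans (Nat.one_lt_pow (by omega) h1) (Nat.le_self_pow (by omega) _)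
    omega
  rw [card_sp hq n, Nat.factorization_mul (pow_ne_zero _ (by omega)) (Finset.prod_ne_zero_iff.2 hne),
    Finsupp.add_apply, Nat.factorization_eq_zero_of_not_dvd (fun h => hrq (hr.out.dvd_of_dvd_pow h)), zero_add,
    Nat.factorization_prod hne, Finsupp.finsetSum_apply]
  rw [Finset.sum_congr rfl (g := fun i => if ord2 q r ∣ i + 1 then vexp q r else 0) (fun i hi => by
    rw [Finset.mem_range] at hi
    rw [fact_pow_sub_one h2 (Nat.one_lt_pow (by omega) h1) (Nat.succ_pos i) (by omega), vexp_sq hr2 hrq h1]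
    rfl), ← Finset.sum_filter, Finset.sum_const, smul_eq_mul, ← Nat.Ioc_filter_dvd_card_eq_div]
  congr 1
  refine Finset.card_nbij' (fun i => i + 1) (fun j => j - 1) ?_ ?_ ?_ ?_
  · intro i hi; simp at hi ⊢; exact ⟨by omega, hi.2⟩
  · intro j hj; simp at hj ⊢; refine ⟨by omega, ?_⟩; rw [Nat.sub_add_cancel (by omega)]; exact hj.2
  · intro i hi; simp
  · intro j hj; simp at hj; simp; omega

/-- a cyclic subgroup of full order in the small symplectic group -/
theorem exists_sp_singer (hq : Fintype.card F = q) (hr2 : r ≠ 2) (hrq : ¬ r ∣ q) :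
    ∃ u : Multiplicative (ZMod (r ^ vexp q r)) →* Matrix.symplecticGroup (Fin (ord2 q r)) F, Function.Injective u := by
  classical
  obtain ⟨hiff, he, hlt, h2⟩ := ord2_facts (r := r) hr2 hrq
  set d := orderOf (q : ZMod r)
  have hd0 : 0 < d := ord_pos hrq
  have hd2e : d ∣ 2 * ord2 q r := (hiff _).2 dvd_rfl
  rcases Nat.even_or_odd d with ⟨a, ha⟩ | hodd
  · -- the Sylow subgroup of `GL_d` is cyclic
    have hde : d = 2 * ord2 q r := by
      refine Nat.dvd_antisymm hd2e ?_
      rw [show d = 2 * a by omega]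
      exact Nat.mul_dvd_mul_left 2 ((hiff a).1 (by rw [show 2 * a = d by omega]))
    let P : Sylow r (Matrix.symplecticGroup (Fin (ord2 q r)) F) := default
    let τ : Fin (ord2 q r) ⊕ Fin (ord2 q r) ≃ Fin d := finSumFinEquiv.trans (finCongr (by omega))
    let ι : Matrix.symplecticGroup (Fin (ord2 q r)) F →* GL (Fin d) F :=
      ((Matrix.reindexAlgEquiv F F τ).toMonoidHom.comp (Matrix.symplecticGroup (Fin (ord2 q r)) F).subtype).toHomUnits
    have hι : Function.Injective ι := fun x y h =>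
      Subtype.ext ((Matrix.reindexAlgEquiv F F τ).injective (congrArg Units.val h))
    have hPc : Nat.card ↥((P : Subgroup (Matrix.symplecticGroup (Fin (ord2 q r)) F)).map ι) =
        r ^ (Nat.card (GL (Fin d) F)).factorization r := by
      rw [Subgroup.card_map_of_injective hι, P.card_eq_multiplicity, fact_card_sp hq _ hr2 (by omega) hrq,
        fact_card_GL hq d (by omega) hrq, Nat.div_self he, Nat.div_self hd0]
    obtain ⟨eq⟩ := gl_sylow hq d (by omega) hrq (Sylow.ofCard _ hPc)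
    have h11 : d / d = 1 := Nat.div_self hd0
    let c : Multiplicative (ZMod (r ^ vexp q r)) →* (Fin (d / d) → Multiplicative (ZMod (r ^ vexp q r))) :=
      Pi.monoidHom fun _ => MonoidHom.id _
    have hc : Function.Injective c := fun x y h => congrFun h ⟨0, by omega⟩
    let eq' := (Subgroup.equivMapOfInjective (P : Subgroup (Matrix.symplecticGroup (Fin (ord2 q r)) F)) ι hι).trans eq
    exact ⟨((P : Subgroup (Matrix.symplecticGroup (Fin (ord2 q r)) F)).subtype.comp eq'.symm.toMonoidHom).comp c,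
      fun x y h => hc (eq'.symm.injective (Subtype.ext h))⟩
  · have hde : ord2 q r = d := by
      refine Nat.dvd_antisymm ((hiff d).1 (dvd_mul_left d 2)) ?_
      exact (Nat.Coprime.dvd_mul_left (Nat.coprime_two_right.2 hodd)).1 hd2e
    obtain ⟨u, hu⟩ := exists_singer (r := r) hq hrq
    rw [hde]
    exact ⟨(hyperHom d).comp u, (hyperHom_injective d).comp hu⟩

theorem sp_sylow (hq : Fintype.card F = q) (n : ℕ) (hr2 : r ≠ 2) (hrn : n < r) (hrq : ¬ r ∣ q)
    (P : Sylow r (Matrix.symplecticGroup (Fin n) F)) :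
    Nonempty (↥(P : Subgroup (Matrix.symplecticGroup (Fin n) F)) ≃*
      (Fin ((Finset.Icc 1 n).filter (fun i => orderOf (q : ZMod r) ∣ 2 * i)).card →
        Multiplicative (ZMod (r ^ vexp q r)))) := by
  classical
  obtain ⟨hiff, he, -, -⟩ := ord2_facts (r := r) hr2 hrq
  have hk : ((Finset.Icc 1 n).filter (fun i => orderOf (q : ZMod r) ∣ 2 * i)).card = n / ord2 q r := by
    rw [← Nat.Ioc_filter_dvd_card_eq_div]
    refine congrArg Finset.card ?_
    ext i
    simp only [Finset.mem_filter, Finset.mem_Icc, Finset.mem_Ioc, hiff]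
    omega
  rw [hk]
  obtain ⟨u, hu⟩ := exists_sp_singer (r := r) hq hr2 hrq
  obtain ⟨t, ht⟩ : ∃ t, n = ord2 q r * (n / ord2 q r) + t :=
    ⟨n % ord2 q r, (Nat.div_add_mod n _).symm⟩
  obtain ⟨Ψ, hΨ⟩ : ∃ Ψ : (Fin (n / ord2 q r) → Multiplicative (ZMod (r ^ vexp q r))) →*
      Matrix.symplecticGroup (Fin n) F, Function.Injective Ψ := by
    have hh := fun (k : ℕ) (m : ℕ) (hm : m = ord2 q r * k + t) => show ∃ Ψ : (Fin k → Multiplicative (ZMod (r ^ vexp q r))) →*
        Matrix.symplecticGroup (Fin m) F, Function.Injective Ψ from by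
      subst hm
      refine ⟨(blockHom (ord2 q r) k t).comp (Pi.monoidHom fun i => u.comp (Pi.evalMonoidHom _ i)), ?_⟩
      exact (blockHom_injective _ _ _).comp fun a b h => funext fun i => hu (congrFun h i)
    exact hh _ n ht
  have hcard : Nat.card Ψ.range = r ^ (Nat.card (Matrix.symplecticGroup (Fin n) F)).factorization r := by
    rw [← Nat.card_congr (MonoidHom.ofInjective hΨ).toEquiv, card_pi_cyc, fact_card_sp hq n hr2 hrn hrq, ← pow_mul,
      mul_comm]
  exact ⟨(Sylow.equiv P (Sylow.ofCard Ψ.range hcard)).trans (MonoidHom.ofInjective hΨ).symm⟩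

end Cfsg.Agent.SylowLargeSp
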