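import Cfsg.Agent.Lib.Linear.SLBasic
import Cfsg.Agent.S2638

/-!
# Sylow subgroups of `GL n q` and `SL n q` at primes larger than `n`
-/

set_option autoImplicit false

namespace Cfsg.Lib.Linear.SylowLarge

open Matrix Finset

section Arith

variable {q r : ℕ}

theorem q_ne_zero [Fact r.Prime] (hrq : ¬ r ∣ q) : (q : ZMod r) ≠ 0 := fun h =>
  hrq ((ZMod.natCast_eq_zero_iff q r).mp h)

theorem q_pos (hrq : ¬ r ∣ q) : 0 < q := Nat.pos_of_ne_zero fun h => hrq (h ▸ dvd_zero r)

theorem ord_pos [Fact r.Prime] (hrq : ¬ r ∣ q) : 0 < orderOf (q : ZMod r) := by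
  refine orderOf_pos_iff.mpr (isOfFinOrder_iff_pow_eq_one.mpr ?_)
  have h2 := (Fact.out : r.Prime).two_le
  exact ⟨r - 1, by omega, ZMod.pow_card_sub_one_eq_one (q_ne_zero hrq)⟩

theorem dvd_pow_sub_one_iff [Fact r.Prime] (hrq : ¬ r ∣ q) (j : ℕ) :
    r ∣ q ^ j - 1 ↔ orderOf (q : ZMod r) ∣ j := by
  rw [← ZMod.natCast_eq_zero_iff, Nat.cast_sub (Nat.one_le_pow _ _ (q_pos hrq)), Nat.cast_pow, Nat.cast_one,
    sub_eq_zero, orderOf_dvd_iff_pow_eq_one]

/-- The exponent of the large prime. -/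
noncomputable def vexp (q r : ℕ) : ℕ := (q ^ orderOf (q : ZMod r) - 1).factorization r

theorem vexp_pos [hr : Fact r.Prime] (hrq : ¬ r ∣ q) (h1 : 1 < q) : 1 ≤ vexp q r := by
  have h : r ∣ q ^ orderOf (q : ZMod r) - 1 := (dvd_pow_sub_one_iff hrq _).mpr dvd_rfl
  have h2 : 2 ≤ q ^ orderOf (q : ZMod r) := le_trans h1 (Nat.le_self_pow (ord_pos hrq).ne' q)
  exact (hr.out.dvd_iff_one_le_factorization (by omega)).mp h

theorem cyc_eval [hr : Fact r.Prime] (hrq : ¬ r ∣ q) (h1 : 1 < q) :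
    padicValNat r ((Polynomial.cyclotomic (orderOf (q : ZMod r)) ℤ).eval (q : ℤ)).natAbs = vexp q r := by
  classical
  set d := orderOf (q : ZMod r) with hd
  have hd0 : 0 < d := ord_pos hrq
  have hprod : ∀ e, 0 < e → ∏ i ∈ e.divisors, ((Polynomial.cyclotomic i ℤ).eval (q : ℤ)).natAbs = q ^ e - 1 := by
    intro e he
    have h := congrArg (Polynomial.eval (q : ℤ)) (Polynomial.prod_cyclotomic_eq_X_pow_sub_one he ℤ)
    rw [Polynomial.eval_prod, Polynomial.eval_sub, Polynomial.eval_pow, Polynomial.eval_X, Polynomial.eval_one] at h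
    have h' : ((q ^ e - 1 : ℕ) : ℤ) = (q : ℤ) ^ e - 1 := by
      rw [Nat.cast_sub (Nat.one_le_pow _ _ (by omega))]; simp
    rw [← h'] at h
    calc _ = (∏ i ∈ e.divisors, (Polynomial.cyclotomic i ℤ).eval (q : ℤ)).natAbs :=
          (map_prod Int.natAbsHom _ _).symm
      _ = _ := by rw [h, Int.natAbs_natCast]
  have hne : ∀ i ∈ d.divisors, ((Polynomial.cyclotomic i ℤ).eval (q : ℤ)).natAbs ≠ 0 := by
    refine Finset.prod_ne_zero_iff.mp ?_
    rw [hprod d hd0]
    have : 2 ≤ q ^ d := le_trans h1 (Nat.le_self_pow hd0.ne' q)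
    omega
  rw [← Nat.factorization_def _ hr.out, vexp, ← hd, ← hprod d hd0, Nat.factorization_prod hne, Finsupp.finsetSum_apply]
  symm
  refine Finset.sum_eq_single d (fun i hi hid => ?_) (fun h => absurd (Nat.mem_divisors_self d hd0.ne') h)
  refine Nat.factorization_eq_zero_of_not_dvd fun hdiv => hid ?_
  have hi0 : 0 < i := Nat.pos_of_mem_divisors hi
  have h2 : r ∣ q ^ i - 1 := by
    rw [← hprod i hi0]
    exact hdiv.trans (Finset.dvd_prod_of_mem _ (Nat.mem_divisors_self i hi0.ne'))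
  rw [dvd_pow_sub_one_iff hrq] at h2
  exact Nat.dvd_antisymm (Nat.dvd_of_mem_divisors hi) h2

theorem fact_pow_sub_one [hr : Fact r.Prime] (hrq : ¬ r ∣ q) (h1 : 1 < q) {j : ℕ} (hj0 : 0 < j) (hjr : j < r) :
    (q ^ j - 1).factorization r = if orderOf (q : ZMod r) ∣ j then vexp q r else 0 := by
  set d := orderOf (q : ZMod r) with hd
  split_ifs with h
  · obtain ⟨k, rfl⟩ := h
    have hd0 : 0 < d := ord_pos hrq
    obtain ⟨x, hx⟩ : ∃ x, q ^ d = x + 1 := ⟨q ^ d - 1, (Nat.sub_add_cancel (Nat.one_le_pow _ _ (by omega))).symm⟩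
    have hg : (∑ i ∈ Finset.range k, (x + 1) ^ i) * x + 1 = (x + 1) ^ k := geom_sum_mul_add x k
    have hS : q ^ (d * k) - 1 = (∑ i ∈ Finset.range k, (x + 1) ^ i) * x := by rw [pow_mul, hx, ← hg]; omega
    have hx0 : x ≠ 0 := by
      have : 2 ≤ q ^ d := le_trans h1 (Nat.le_self_pow hd0.ne' q)
      omega
    have hSr : ¬ r ∣ ∑ i ∈ Finset.range k, (x + 1) ^ i := by
      rw [← ZMod.natCast_eq_zero_iff, Nat.cast_sum]
      have : ∀ i, (((x + 1) ^ i : ℕ) : ZMod r) = 1 := fun i => by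
        rw [← hx, Nat.cast_pow, Nat.cast_pow, hd, pow_orderOf_eq_one, one_pow]
      simp only [this, Finset.sum_const, Finset.card_range, nsmul_one]
      rw [ZMod.natCast_eq_zero_iff]
      intro hk
      have hk0 : 0 < k := Nat.pos_of_mul_pos_left hj0
      have := Nat.le_of_dvd hk0 hk
      have := Nat.le_mul_of_pos_left k hd0
      omega
    rw [hS, Nat.factorization_mul (fun h => hSr (by rw [h]; exact dvd_zero r)) hx0, Finsupp.add_apply,
      Nat.factorization_eq_zero_of_not_dvd hSr, zero_add, vexp, ← hd, hx, Nat.add_sub_cancel]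
  · exact Nat.factorization_eq_zero_of_not_dvd fun h' => h ((dvd_pow_sub_one_iff hrq j).mp h')

end Arith

section Groups

variable {F : Type*} [Field F] [Fintype F] {q : ℕ} {r : ℕ} [hr : Fact r.Prime]

theorem one_lt_q (hq : Fintype.card F = q) : 1 < q := hq ▸ Fintype.one_lt_card

theorem fact_card_GL (hq : Fintype.card F = q) (n : ℕ) (hrn : n < r) (hrq : ¬ r ∣ q) :
    (Nat.card (GL (Fin n) F)).factorization r = n / orderOf (q : ZMod r) * vexp q r := by
  classical
  have h1 := one_lt_q hq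
  rw [Matrix.card_GL_field, hq, Nat.factorization_prod, Finsupp.finsetSum_apply]
  · have : ∀ i : Fin n, (q ^ n - q ^ (i : ℕ)).factorization r =
        if orderOf (q : ZMod r) ∣ n - (i : ℕ) then vexp q r else 0 := fun i => by
      have hi := i.isLt
      have hlt : 1 < q ^ (n - (i : ℕ)) := Nat.one_lt_pow (by omega) h1
      have hs : q ^ n - q ^ (i : ℕ) = q ^ (i : ℕ) * (q ^ (n - i) - 1) := by
        rw [Nat.mul_sub, mul_one, ← pow_add, Nat.add_sub_cancel' hi.le]
      rw [hs, Nat.factorization_mul (pow_ne_zero _ (by omega)) (by omega), Finsupp.add_apply,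
        Nat.factorization_eq_zero_of_not_dvd (fun h => hrq (hr.out.dvd_of_dvd_pow h)), zero_add,
        fact_pow_sub_one hrq h1 (by omega) (by omega)]
    rw [Finset.sum_congr rfl (fun i _ => this i), Fin.sum_univ_eq_sum_range
      (fun i => if orderOf (q : ZMod r) ∣ n - i then vexp q r else 0) n, ← Nat.Ioc_filter_dvd_card_eq_div,
      ← smul_eq_mul, ← Finset.sum_const, Finset.sum_filter]
    refine Finset.sum_nbij' (fun i => n - i) (fun j => n - j) ?_ ?_ ?_ ?_ ?_
    · intro i hi; simp at hi ⊢; omega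
    · intro j hj; simp at hj ⊢; omega
    · intro i hi; simp at hi; omega
    · intro j hj; simp at hj; omega
    · intro i hi; rfl
  · intro i _
    have : q ^ (i : ℕ) < q ^ n := Nat.pow_lt_pow_right h1 i.isLt
    omega

theorem card_Icc_filter (d n : ℕ) :
    ((Finset.Icc 2 n).filter (fun i => d ∣ i)).card + (if d = 1 ∧ 1 ≤ n then 1 else 0) = n / d := by
  classical
  rw [← Nat.Ioc_filter_dvd_card_eq_div]
  by_cases hn : 1 ≤ n
  · have : (Finset.Ioc 0 n) = insert 1 (Finset.Icc 2 n) := by ext x; simp; omega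
    rw [this, Finset.filter_insert]
    by_cases hd : d = 1
    · simp [hd, hn]
    · simp [hd, hn, Nat.dvd_one]
  · have h1 : Finset.Icc 2 n = ∅ := Finset.Icc_eq_empty (by omega)
    have h2 : Finset.Ioc 0 n = ∅ := Finset.Ioc_eq_empty (by omega)
    simp [h1, h2, hn]

theorem fact_card_SL (hq : Fintype.card F = q) (n : ℕ) (hrn : n < r) (hrq : ¬ r ∣ q) :
    (Nat.card (SpecialLinearGroup (Fin n) F)).factorization r =
      ((Finset.Icc 2 n).filter (fun i => orderOf (q : ZMod r) ∣ i)).card * vexp q r := by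
  classical
  have h1 := one_lt_q hq
  have hc := card_Icc_filter (orderOf (q : ZMod r)) n
  rcases Nat.eq_zero_or_pos n with rfl | hn
  · haveI : Subsingleton (SpecialLinearGroup (Fin 0) F) := ⟨fun a b => Subtype.ext (Subsingleton.elim _ _)⟩
    rw [Nat.card_of_subsingleton (1 : SpecialLinearGroup (Fin 0) F)]; simp
  have h := fact_card_GL hq n hrn hrq
  haveI : Nonempty (Fin n) := ⟨⟨0, hn⟩⟩
  rw [card_GL_eq_mul_card_SL, hq, Nat.factorization_mul (by omega) Nat.card_pos.ne', Finsupp.add_apply, ← hc,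
    add_mul] at h
  have hq1 := fact_pow_sub_one hrq h1 one_pos hr.out.one_lt
  rw [pow_one] at hq1
  rw [hq1] at h
  by_cases hd : orderOf (q : ZMod r) = 1
  · rw [if_pos (hd ▸ dvd_rfl), if_pos ⟨hd, hn⟩, one_mul] at h
    omega
  · rw [if_neg (fun h => hd (Nat.dvd_one.mp h)), if_neg (fun h => hd h.1)] at h
    omega

/-- A cyclic group of order `r ^ v` embeds whenever there is a cyclic subgroup of order divisible by it. -/
theorem exists_cyclic_hom {G : Type*} [Group G] {H : Subgroup G} [Finite H] [IsCyclic H] {m : ℕ}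
    (hm : m ∣ Nat.card H) : ∃ φ : Multiplicative (ZMod m) →* G, Function.Injective φ := by
  obtain ⟨g, hg⟩ := IsCyclic.exists_generator (α := H)
  obtain ⟨k, hk⟩ := hm
  have hord : orderOf g = Nat.card H := orderOf_eq_card_of_forall_mem_zpowers hg
  have hy : orderOf (g ^ k) = m := by
    have hk0 : k ≠ 0 := fun h => by rw [h, mul_zero] at hk; exact Nat.card_pos.ne' hk
    rw [orderOf_pow_of_dvd hk0 (hord ▸ hk ▸ Dvd.intro_left m rfl), hord, hk, Nat.mul_div_cancel _ (Nat.pos_of_ne_zero hk0)]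
  subst hy
  rw [← Nat.card_zpowers]
  let e := zmodCyclicMulEquiv (inferInstance : IsCyclic (Subgroup.zpowers (g ^ k)))
  exact ⟨(H.subtype.comp (Subgroup.zpowers (g ^ k)).subtype).comp e.toMonoidHom,
    fun a b h => e.injective (Subtype.ext (Subtype.ext h))⟩

theorem exists_block_hom (n k d : ℕ) (hkd : d * k ≤ n) {C : Type*} [CommGroup C]
    (u : C →* GL (Fin d) F) (hu : Function.Injective u) :
    ∃ Ψ : (Fin k → C) →* GL (Fin n) F, Function.Injective Ψ := by
  classical
  obtain ⟨t, rfl⟩ : ∃ t, n = d * k + t := ⟨n - d * k, by omega⟩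
  let e : Fin (d * k + t) ≃ (Fin d × Fin k) ⊕ Fin t :=
    finSumFinEquiv.symm.trans (Equiv.sumCongr finProdFinEquiv.symm (Equiv.refl _))
  let Ψ₀ : (Fin k → C) →* Matrix (Fin (d * k + t)) (Fin (d * k + t)) F :=
    { toFun := fun c => (Matrix.fromBlocks
        (Matrix.blockDiagonal fun i => (u (c i) : Matrix (Fin d) (Fin d) F)) 0 0 1).submatrix e e
      map_one' := by
        have : (fun i : Fin k => (u ((1 : Fin k → C) i) : Matrix (Fin d) (Fin d) F)) = 1 := by
          funext i; simp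
        rw [this, Matrix.blockDiagonal_one, Matrix.fromBlocks_one, Matrix.submatrix_one_equiv]
      map_mul' := fun a b => by
        rw [Matrix.submatrix_mul_equiv, Matrix.fromBlocks_multiply]
        simp [← Matrix.blockDiagonal_mul] }
  refine ⟨Ψ₀.toHomUnits, fun a b h => funext fun i => hu (Units.ext ?_)⟩
  have h' : Ψ₀ a = Ψ₀ b := congrArg Units.val h
  have h2 := congrArg (fun M => M.submatrix e.symm e.symm) h'
  simp only [Ψ₀, MonoidHom.coe_mk, OneHom.coe_mk, Matrix.submatrix_submatrix, Equiv.self_comp_symm,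
    Matrix.submatrix_id_id] at h2
  have h3 := congrArg Matrix.toBlocks₁₁ h2
  rw [Matrix.toBlocks_fromBlocks₁₁, Matrix.toBlocks_fromBlocks₁₁] at h3
  exact congrFun (Matrix.blockDiagonal_injective h3) i

theorem exists_singer (hq : Fintype.card F = q) (hrq : ¬ r ∣ q) :
    ∃ u : Multiplicative (ZMod (r ^ vexp q r)) →* GL (Fin (orderOf (q : ZMod r))) F, Function.Injective u := by
  classical
  obtain ⟨p, hp⟩ := CharP.exists F
  haveI := hp
  haveI : Fact p.Prime := ⟨CharP.char_is_prime F p⟩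
  set d := orderOf (q : ZMod r) with hd
  have hd0 : 0 < d := ord_pos hrq
  have hrp : r ≠ p := fun h => by
    subst h
    obtain ⟨k, -, hk⟩ := FiniteField.card F r
    exact hrq (hq ▸ hk ▸ dvd_pow_self r k.ne_zero)
  have h2 : r ∣ Nat.card (GL (Fin d) F) := by
    rw [Matrix.card_GL_field, hq]
    refine dvd_trans ?_ (Finset.dvd_prod_of_mem _ (Finset.mem_univ (⟨0, hd0⟩ : Fin d)))
    simpa using (dvd_pow_sub_one_iff hrq d).mpr dvd_rfl
  obtain ⟨x, hx⟩ := exists_prime_orderOf_dvd_card' r h2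
  obtain ⟨hcyc, hcard⟩ := Cfsg.Agent.S2638.result hq hd0 hr.out hrp hd.symm x hx
  haveI := hcyc
  exact exists_cyclic_hom (by rw [hcard]; exact Nat.ordProj_dvd _ r)

theorem card_pi_cyc (k m : ℕ) : Nat.card (Fin k → Multiplicative (ZMod m)) = m ^ k := by
  rw [Nat.card_fun, Nat.card_congr Multiplicative.toAdd, Nat.card_zmod, Nat.card_fin]

theorem gl_sylow (hq : Fintype.card F = q) (n : ℕ) (hrn : n < r) (hrq : ¬ r ∣ q) (P : Sylow r (GL (Fin n) F)) :
    Nonempty (↥(P : Subgroup (GL (Fin n) F)) ≃*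
      (Fin (n / orderOf (q : ZMod r)) → Multiplicative (ZMod (r ^ vexp q r)))) := by
  classical
  obtain ⟨u, hu⟩ := exists_singer (r := r) hq hrq
  obtain ⟨Ψ, hΨ⟩ := exists_block_hom n (n / orderOf (q : ZMod r)) _ (Nat.mul_div_le _ _) u hu
  have hcard : Nat.card Ψ.range = r ^ (Nat.card (GL (Fin n) F)).factorization r := by
    rw [← Nat.card_congr (MonoidHom.ofInjective hΨ).toEquiv, card_pi_cyc, fact_card_GL hq n hrn hrq, ← pow_mul, mul_comm]
  exact ⟨(Sylow.equiv P (Sylow.ofCard Ψ.range hcard)).trans (MonoidHom.ofInjective hΨ).symm⟩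

theorem exists_torus_sl (hq : Fintype.card F = q) (hd : orderOf (q : ZMod r) = 1) (a : ℕ) :
    ∃ Ψ : (Fin a → Multiplicative (ZMod (r ^ vexp q r))) →* SpecialLinearGroup (Fin (a + 1)) F,
      Function.Injective Ψ := by
  classical
  have hv : r ^ vexp q r ∣ Nat.card (⊤ : Subgroup Fˣ) := by
    rw [Subgroup.card_top, card_units_eq, hq, vexp, hd, pow_one]
    exact Nat.ordProj_dvd _ r
  obtain ⟨u, hu⟩ := exists_cyclic_hom hv
  let w : (Fin a → Multiplicative (ZMod (r ^ vexp q r))) → Fin (a + 1) → F :=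
    fun c => Fin.snoc (fun i => (u (c i) : F)) ((∏ i, u (c i))⁻¹ : Fˣ)
  refine ⟨{ toFun := fun c => ⟨Matrix.diagonal (w c), ?_⟩, map_one' := ?_, map_mul' := fun b c => ?_ }, ?_⟩
  · rw [Matrix.det_diagonal, Fin.prod_univ_castSucc]
    simp only [w, Fin.snoc_castSucc, Fin.snoc_last]
    rw [← Units.coe_prod, ← Units.val_mul, mul_inv_cancel, Units.val_one]
  · refine Subtype.ext ?_
    show Matrix.diagonal (w 1) = 1
    rw [← Matrix.diagonal_one]
    congr 1
    funext i
    refine Fin.lastCases ?_ (fun i => ?_) i <;> simp [w]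
  · refine Subtype.ext ?_
    show Matrix.diagonal (w (b * c)) = Matrix.diagonal (w b) * Matrix.diagonal (w c)
    rw [Matrix.diagonal_mul_diagonal]
    congr 1
    funext i
    refine Fin.lastCases ?_ (fun i => ?_) i
    · simp only [w, Fin.snoc_last, Pi.mul_apply, map_mul, Finset.prod_mul_distrib, mul_inv, Units.val_mul]
    · simp [w]
  · intro b c h
    funext i
    refine hu (Units.ext ?_)
    have h' := congrFun (Matrix.diagonal_injective (congrArg Subtype.val h)) i.castSucc
    simpa [w] using h'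

theorem sl_sylow (hq : Fintype.card F = q) (n : ℕ) (hrn : n < r) (hrq : ¬ r ∣ q)
    (P : Sylow r (SpecialLinearGroup (Fin n) F)) :
    Nonempty (↥(P : Subgroup (SpecialLinearGroup (Fin n) F)) ≃*
      (Fin ((Finset.Icc 2 n).filter (fun i => orderOf (q : ZMod r) ∣ i)).card →
        Multiplicative (ZMod (r ^ vexp q r)))) := by
  classical
  have hS := fact_card_SL hq n hrn hrq
  have hc := card_Icc_filter (orderOf (q : ZMod r)) n
  set a := ((Finset.Icc 2 n).filter (fun i => orderOf (q : ZMod r) ∣ i)).card with ha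
  clear_value a
  by_cases hd : orderOf (q : ZMod r) = 1 ∧ 1 ≤ n
  · rw [if_pos hd, hd.1, Nat.div_one] at hc
    subst hc
    obtain ⟨Ψ, hΨ⟩ := exists_torus_sl (r := r) hq hd.1 a
    have hcard : Nat.card Ψ.range = r ^ (Nat.card (SpecialLinearGroup (Fin (a + 1)) F)).factorization r := by
      rw [← Nat.card_congr (MonoidHom.ofInjective hΨ).toEquiv, card_pi_cyc, hS, ← pow_mul, mul_comm]
    exact ⟨(Sylow.equiv P (Sylow.ofCard Ψ.range hcard)).trans (MonoidHom.ofInjective hΨ).symm⟩
  · rw [if_neg hd, add_zero] at hc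
    have hinj : Function.Injective (Matrix.SpecialLinearGroup.toGL : SpecialLinearGroup (Fin n) F →* GL (Fin n) F) :=
      toGL_injective'
    have hcard : Nat.card ↥((P : Subgroup (SpecialLinearGroup (Fin n) F)).map Matrix.SpecialLinearGroup.toGL) =
        r ^ (Nat.card (GL (Fin n) F)).factorization r := by
      rw [Subgroup.card_map_of_injective hinj, P.card_eq_multiplicity, hS, fact_card_GL hq n hrn hrq, hc]
    rw [hc]
    obtain ⟨e⟩ := gl_sylow hq n hrn hrq (Sylow.ofCard _ hcard)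
    exact ⟨(Subgroup.equivMapOfInjective _ _ hinj).trans e⟩

end Groups

end Cfsg.Lib.Linear.SylowLarge
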