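import Cfsg.Agent.Lib.Linear.UnitaryGen

/-!
The special unitary group in dimension three is perfect and simple modulo scalars (`q ≥ 3`).
-/

set_option autoImplicit false
set_option linter.unusedSectionVars false

namespace Cfsg.Lib.Linear.Herm.Three

open Module
open scoped commutatorElement

variable {F V : Type*} [Field F] [Finite F] [AddCommGroup V] [Module F V] [FiniteDimensional F V]
  {σ : F →+* F} {B : V →ₛₗ[σ] V →ₗ[F] F}

/-- The standing assumptions. -/
structure Space (B : V →ₛₗ[σ] V →ₗ[F] F) : Prop where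
  ne_id : σ ≠ RingHom.id F
  invol : ∀ a, σ (σ a) = a
  symm : B.IsSymm
  ndeg : B.Nondegenerate
  dim : finrank F V = 3
  traces : ∃ y z : F, y ≠ 0 ∧ z ≠ 0 ∧ y ≠ z ∧ y + σ y = 0 ∧ z + σ z = 0

variable (C : Space B)
include C

theorem mem_tv {g : V ≃ₗ[F] V} : g ∈ tvGroup B ↔ g ∈ iso B ∧ LinearEquiv.det g = 1 :=
  mem_tvGroup_iff C.ne_id C.invol C.symm C.ndeg (Or.inr ⟨C.dim.ge, C.traces⟩) g

theorem span_top {a b z : V} (hb : b ∉ Submodule.span F {a}) (ha : a ≠ 0)
    (hz : z ∉ Submodule.span F {a, b}) : Submodule.span F {a, b} ⊔ Submodule.span F {z} = ⊤ := by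
  have h1 : Submodule.span F {a} < Submodule.span F {a, b} :=
    lt_of_le_of_ne (Submodule.span_mono (by simp)) fun h => hb (h ▸ Submodule.subset_span (by simp))
  have h2 : Submodule.span F {a, b} < Submodule.span F {a, b} ⊔ Submodule.span F {z} :=
    lt_of_le_of_ne le_sup_left fun h => hz (h ▸ Submodule.mem_sup_right (Submodule.mem_span_singleton_self z))
  have h1' := Submodule.finrank_lt_finrank_of_lt h1
  have h2' := Submodule.finrank_lt_finrank_of_lt h2
  rw [finrank_span_singleton ha] at h1'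
  refine Submodule.eq_top_of_finrank_eq (le_antisymm (Submodule.finrank_le _) ?_)
  rw [C.dim]
  omega

theorem exists_notMem_span_pair (a b : V) : ∃ z, z ∉ Submodule.span F {a, b} := by
  by_contra h
  push Not at h
  have htop : Submodule.span F ({a, b} : Set V) = ⊤ := eq_top_iff.2 fun x _ => h x
  classical
  have h2 : finrank F (Submodule.span F ({a, b} : Set V)) ≤ 2 := by
    have := finrank_span_finset_le_card (R := F) ({a, b} : Finset V)
    rw [Finset.coe_pair] at this
    exact this.trans Finset.card_le_two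
  rw [htop, finrank_top, C.dim] at h2
  omega

/-- Distinct isotropic lines are not perpendicular. -/
theorem pair_ne_zero {e f : V} (he : B e e = 0) (hf : B f f = 0) (he0 : e ≠ 0)
    (hind : f ∉ Submodule.span F {e}) : B e f ≠ 0 := by
  intro hef
  have hfe : B f e = 0 := C.symm.isRefl _ _ hef
  obtain ⟨z, hzker⟩ : ∃ z, B e z ≠ 0 := by
    by_contra h
    push Not at h
    exact he0 (C.ndeg.1 e h)
  have hperp : ∀ x ∈ Submodule.span F {e, f}, B e x = 0 ∧ B f x = 0 := fun x hx => by
    obtain ⟨u, v, rfl⟩ := Submodule.mem_span_pair.1 hx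
    simp [map_add, map_smul, he, hf, hef, hfe]
  have hz : z ∉ Submodule.span F {e, f} := fun h => hzker (hperp z h).1
  set c := B f z / B e z with hc
  have key : ∀ x, B (f - σ c • e) x = 0 := fun x => by
    have hx : x ∈ Submodule.span F {e, f} ⊔ Submodule.span F {z} := by
      rw [span_top C hind he0 hz]; trivial
    obtain ⟨p, hp, r, hr, rfl⟩ := Submodule.mem_sup.1 hx
    obtain ⟨k, rfl⟩ := Submodule.mem_span_singleton.1 hr
    simp [map_sub, LinearMap.sub_apply, LinearMap.map_smulₛₗ, C.invol, (hperp p hp).1, (hperp p hp).2, hc]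
    field_simp
    ring
  exact hind (Submodule.mem_span_singleton.2 ⟨σ c, (sub_eq_zero.1 (C.ndeg.1 _ key)).symm⟩)

/-- Transitivity on hyperbolic pairs, up to a scalar on the second vector. -/
theorem exists_map_pair {e f e' f' : V} (he : B e e = 0) (hf : B f f = 0) (hef : B e f ≠ 0)
    (he' : B e' e' = 0) (hf' : B f' f' = 0) (hef' : B e' f' ≠ 0) :
    ∃ t ∈ tvGroup B, t e = e' ∧ ∃ k : F, t f = k • f' := by
  have hfe : B f e ≠ 0 := fun h => hef (C.symm.isRefl _ _ h)
  have hfe' : B f' e' ≠ 0 := fun h => hef' (C.symm.isRefl _ _ h)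
  set k := B e f / B e' f' with hk
  set X := Submodule.span F {e, f}
  let φ : X →ₗ[F] V := (((B f e)⁻¹ • B f).smulRight e' + ((B e f)⁻¹ • B e).smulRight (k • f')).comp X.subtype
  have hφ : ∀ (u v : F) (x : X), (x : V) = u • e + v • f → φ x = u • e' + (v * k) • f' := by
    intro u v x hx
    simp only [φ, LinearMap.comp_apply, Submodule.subtype_apply, hx, LinearMap.add_apply,
      LinearMap.smulRight_apply, LinearMap.smul_apply, map_add, map_smul, smul_eq_mul, he, hf,
      mul_zero, add_zero, zero_add, smul_smul]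
    match_scalars <;> field_simp <;> ring
  have hrep : ∀ x : X, ∃ u v, (x : V) = u • e + v • f := fun x => by
    obtain ⟨u, v, h⟩ := Submodule.mem_span_pair.1 x.2
    exact ⟨u, v, h.symm⟩
  have hkef : k * B e' f' = B e f := div_mul_cancel₀ _ hef'
  have hσk : σ k * B f' e' = B f e := by
    have h := congrArg σ hkef
    rwa [map_mul, C.symm.eq, C.symm.eq] at h
  have hinj : Function.Injective φ := by
    rw [injective_iff_map_eq_zero]
    intro x hx
    obtain ⟨u, v, huv⟩ := hrep x
    rw [hφ u v x huv] at hx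
    have h1 := congrArg (B f') hx
    have h2 := congrArg (B e') hx
    simp only [map_add, map_smul, smul_eq_mul, hf', he', mul_zero, add_zero, zero_add, map_zero] at h1 h2
    have hu : u = 0 := (mul_eq_zero.1 h1).resolve_right hfe'
    have hk0 : k ≠ 0 := div_ne_zero hef hef'
    have hv : v = 0 := by
      rcases mul_eq_zero.1 h2 with h | h
      · exact (mul_eq_zero.1 h).resolve_right hk0
      · exact absurd h hef'
    exact Subtype.ext (by rw [huv, hu, hv, zero_smul, zero_smul, add_zero]; rfl)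
  obtain ⟨t, ht, htX⟩ := witt C.ne_id C.invol C.symm C.ndeg X φ hinj (by
    intro x y
    obtain ⟨u, v, huv⟩ := hrep x
    obtain ⟨a, b, hab⟩ := hrep y
    rw [hφ u v x huv, hφ a b y hab, huv, hab]
    simp only [map_add, LinearMap.map_smulₛₗ, LinearMap.add_apply, LinearMap.smul_apply,
      RingHom.id_apply, smul_eq_mul, map_smul, map_mul, he, hf, he', hf', mul_zero, add_zero, zero_add]
    linear_combination (b * σ u) * hkef + (a * σ v) * hσk)
  have hte : t e = e' := by
    have h := htX ⟨e, Submodule.subset_span (by simp)⟩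
    rw [hφ 1 0 _ (by simp)] at h
    simpa using h
  have htf : t f = k • f' := by
    have h := htX ⟨f, Submodule.subset_span (by simp)⟩
    rw [hφ 0 1 _ (by simp)] at h
    simpa using h
  -- correct the determinant
  obtain ⟨a, ha⟩ := exists_notMem_span_pair C e' f'
  obtain ⟨z, hz, haz⟩ := exists_perp_ne_zero C.invol C.symm C.ndeg (Submodule.span F {e', f'}) ha
  have hze : B e' z = 0 := hz _ (Submodule.subset_span (by simp))
  have hzf : B f' z = 0 := hz _ (Submodule.subset_span (by simp))
  have hze' : B z e' = 0 := C.symm.isRefl _ _ hze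
  have hzf' : B z f' = 0 := C.symm.isRefl _ _ hzf
  have hf'e' : f' ∉ Submodule.span F {e'} := by
    intro h
    obtain ⟨c, rfl⟩ := Submodule.mem_span_singleton.1 h
    exact hef' (by simp [he'])
  have he'0 : e' ≠ 0 := fun h => hef' (by simp [h])
  have hzX : z ∉ Submodule.span F {e', f'} := by
    intro h
    obtain ⟨u, v, rfl⟩ := Submodule.mem_span_pair.1 h
    simp only [map_add, map_smul, smul_eq_mul, he', hf', mul_zero, add_zero, zero_add] at hze hzf
    rw [(mul_eq_zero.1 hze).resolve_right hef', (mul_eq_zero.1 hzf).resolve_right hfe'] at haz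
    simp at haz
  have hzz : B z z ≠ 0 := by
    intro hzz
    have hx : a ∈ Submodule.span F {e', f'} ⊔ Submodule.span F {z} := by
      rw [span_top C hf'e' he'0 hzX]; trivial
    obtain ⟨p, hp, r, hr, rfl⟩ := Submodule.mem_sup.1 hx
    obtain ⟨c, rfl⟩ := Submodule.mem_span_singleton.1 hr
    exact haz (by simp [map_add, LinearMap.map_smulₛₗ, hz p hp, hzz])
  set δ : F := (LinearEquiv.det t : F) with hδ
  have hδ0 : δ ≠ 0 := (LinearEquiv.det t).ne_zero
  -- the determinant of an isometry has norm one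
  have hnorm : δ * σ δ = 1 := by
    rw [iso_eq_qreflGroup C.ne_id C.invol C.symm C.ndeg] at ht
    rw [hδ]
    clear htX hte htf hδ hδ0 δ
    induction ht using Subgroup.closure_induction with
    | mem x hx =>
      obtain ⟨w, l, h, rfl⟩ := hx
      rw [det_qrefl]
      simp only [map_add, map_one, map_mul, self_fixed C.symm]
      linear_combination (B w w) * h
    | one => simp
    | mul x y _ _ hx hy =>
      rw [map_mul, Units.val_mul, map_mul]
      linear_combination (σ (LinearEquiv.det x : F) * (LinearEquiv.det x : F)) * hy + hx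
    | inv x _ hx => rw [map_inv, Units.val_inv_eq_inv_val, map_inv₀, ← mul_inv, hx, inv_one]
  set l := (δ⁻¹ - 1) / B z z with hl
  have hlh : l + σ l + σ l * l * B z z = 0 := by
    rw [hl]
    simp only [map_div₀, map_sub, map_inv₀, map_one, self_fixed C.symm,
      eq_inv_of_mul_eq_one_right hnorm, inv_inv]
    field_simp
    ring
  refine ⟨qrefl z l hlh * t, ?_, ?_, k, ?_⟩
  · rw [mem_tv C]
    refine ⟨mul_mem (qrefl_mem_iso C.symm _ _ _) ht, Units.ext ?_⟩
    rw [map_mul, Units.val_mul, det_qrefl, hl, ← hδ, Units.val_one, div_mul_cancel₀ _ hzz,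
      add_sub_cancel, inv_mul_cancel₀ hδ0]
  · rw [LinearEquiv.mul_apply, hte, qrefl_apply, hze', mul_zero, zero_smul, add_zero]
  · rw [LinearEquiv.mul_apply, htf, qrefl_apply, map_smul, hzf']
    simp

theorem exists_partner {e : V} (he : B e e = 0) (he0 : e ≠ 0) : ∃ f, B f f = 0 ∧ B e f ≠ 0 := by
  by_contra h
  push Not at h
  have hs := iso_span C.ne_id C.invol C.symm C.ndeg ⊤ (by rw [finrank_top, C.dim]; norm_num)
  exact he0 (C.ndeg.1 e fun x => by
    have hle : Submodule.span F {w | w ∈ (⊤ : Submodule F V) ∧ B w w = 0} ≤ LinearMap.ker (B e) :=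
      Submodule.span_le.2 fun w hw => h w hw.2
    exact hle (hs Submodule.mem_top))

/-- Transitivity on isotropic vectors. -/
theorem exists_map {e e' : V} (he : B e e = 0) (he0 : e ≠ 0) (he' : B e' e' = 0) (he'0 : e' ≠ 0) :
    ∃ t ∈ tvGroup B, t e = e' := by
  obtain ⟨f, hf, hef⟩ := exists_partner C he he0
  obtain ⟨f', hf', hef'⟩ := exists_partner C he' he'0
  obtain ⟨t, ht, h, -⟩ := exists_map_pair C he hf hef he' hf' hef'
  exact ⟨t, ht, h⟩

/-- An isometry fixing all isotropic lines is a scalar. -/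
theorem scalar_of_lines {g : V ≃ₗ[F] V} (hg : g ∈ iso B)
    (h : ∀ e, B e e = 0 → g e ∈ Submodule.span F {e}) : ∃ c : F, ∀ x, g x = c • x := by
  obtain ⟨e, -, he0, he⟩ := exists_iso_ne_zero C.ne_id C.invol C.symm ⊤ (by rw [finrank_top, C.dim]; norm_num)
  obtain ⟨a, ha⟩ := Submodule.mem_span_singleton.1 (h e he)
  refine ⟨a, fun x => ?_⟩
  have hle : Submodule.span F {w | w ∈ (⊤ : Submodule F V) ∧ B w w = 0} ≤
      LinearMap.ker ((g : V →ₗ[F] V) - a • LinearMap.id) := by
    rw [Submodule.span_le]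
    intro f hf
    replace hf : B f f = 0 := hf.2
    show g f - a • f = 0
    obtain ⟨b, hb⟩ := Submodule.mem_span_singleton.1 (h f hf)
    by_cases hdep : f ∈ Submodule.span F {e}
    · obtain ⟨c, rfl⟩ := Submodule.mem_span_singleton.1 hdep
      rw [map_smul, ← ha, smul_smul, smul_smul, mul_comm, sub_self]
    have hef := pair_ne_zero C he hf he0 hdep
    -- a third isotropic line in the same plane
    obtain ⟨y, -, hy0, -, -, hy, -⟩ := C.traces
    set c := y / B e f with hc
    have hw : B (e + c • f) (e + c • f) = 0 := by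
      have h1 : B f e = σ (B e f) := (C.symm.eq e f).symm
      have h2 : σ c * σ (B e f) = σ y := by rw [← map_mul, hc, div_mul_cancel₀ _ hef]
      have h3 : c * B e f = y := div_mul_cancel₀ _ hef
      simp only [map_add, LinearMap.map_smulₛₗ, LinearMap.add_apply, LinearMap.smul_apply, map_smul,
        smul_eq_mul, he, hf, h1, mul_zero, add_zero, zero_add]
      linear_combination h2 + h3 + hy
    obtain ⟨d, hd⟩ := Submodule.mem_span_singleton.1 (h _ hw)
    rw [map_add, map_smul, ← ha, ← hb] at hd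
    have h1 := congrArg (B e) hd
    have h2 := congrArg (B f) hd
    simp only [map_add, map_smul, smul_eq_mul, he, hf, mul_zero, add_zero, zero_add] at h1 h2
    have hfe : B f e ≠ 0 := fun h => hef (C.symm.isRefl _ _ h)
    have hda : d = a := mul_right_cancel₀ hfe h2
    have hc0 : c ≠ 0 := div_ne_zero hy0 hef
    have hdb : d = b := by
      apply mul_right_cancel₀ (mul_ne_zero hc0 hef)
      linear_combination h1
    rw [← hb, ← hdb, hda, sub_self]
  have := hle (iso_span C.ne_id C.invol C.symm C.ndeg ⊤ (by rw [finrank_top, C.dim]; norm_num) (Submodule.mem_top (x := x)))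
  exact sub_eq_zero.1 this

/-- Transvections are commutators. -/
theorem tv_le_commutator (hnorm : ∃ a : F, a ≠ 0 ∧ a * σ a ≠ 1) :
    tvGroup B ≤ ⁅tvGroup B, tvGroup B⁆ := by
  rw [tvGroup, Subgroup.closure_le, ← tvGroup]
  rintro _ ⟨w, l, h, hw, rfl⟩
  by_cases hw0 : w = 0
  · subst hw0
    have : qrefl (B := B) (0 : V) l h = 1 := LinearEquiv.ext fun x => by simp
    rw [this]
    exact one_mem _
  obtain ⟨a, ha0, ha⟩ := hnorm
  obtain ⟨t, ht, htw⟩ := exists_map C hw hw0 (e' := a • w)
    (by simp [LinearMap.map_smulₛₗ, hw]) (smul_ne_zero ha0 hw0)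
  have hν : a * σ a - 1 ≠ 0 := sub_ne_zero.2 ha
  set m := l / (a * σ a - 1) with hm
  have hh : m + σ m + σ m * m * B w w = 0 := by
    rw [hw, mul_zero, add_zero] at h ⊢
    rw [hm, map_div₀, map_sub, map_mul, C.invol, map_one, mul_comm (σ a), ← add_div, h, zero_div]
  have hmem : qrefl w m hh ∈ tvGroup B := Subgroup.subset_closure ⟨w, m, hh, hw, rfl⟩
  have key : qrefl w l h = ⁅t, qrefl w m hh⁆ := by
    rw [commutatorElement_def, qrefl_conj (tvGroup_le_iso C.symm ht), eq_mul_inv_iff_mul_eq]
    refine LinearEquiv.ext fun x => ?_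
    have hlm : l = m * (a * σ a - 1) := (div_mul_cancel₀ _ hν).symm
    simp only [LinearEquiv.mul_apply, qrefl_apply, htw, map_add, LinearMap.map_smulₛₗ,
      LinearMap.smul_apply, RingHom.id_apply, smul_eq_mul, hw, hlm]
    module
  rw [key]
  exact Subgroup.commutator_mem_commutator ht hmem

/-- A subgroup normalised by the transvection group is scalar or contains its derived group. -/
theorem scalars_or_commutator_le {N : Subgroup (V ≃ₗ[F] V)} (hN : N ≤ tvGroup B)
    (hnorm : ∀ t ∈ tvGroup B, ∀ g ∈ N, t * g * t⁻¹ ∈ N) :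
    (∀ g ∈ N, ∃ c : F, ∀ x, g x = c • x) ∨ ⁅tvGroup B, tvGroup B⁆ ≤ N := by
  by_cases hall : ∀ g ∈ N, ∀ e, B e e = 0 → g e ∈ Submodule.span F {e}
  · exact Or.inl fun g hg => scalar_of_lines C (tvGroup_le_iso C.symm (hN hg)) (hall g hg)
  right
  push Not at hall
  obtain ⟨g, hg, e, he, hge⟩ := hall
  have he0 : e ≠ 0 := fun h => hge (by simp [h])
  have hg_iso := tvGroup_le_iso C.symm (hN hg)
  have hgee : B (g e) (g e) = 0 := by rw [hg_iso e e, he]
  have hef := pair_ne_zero C he hgee he0 hge
  -- `N` is transitive on isotropic lines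
  have htrans : ∀ w, B w w = 0 → w ≠ 0 → ∃ n ∈ N, ∃ k : F, k ≠ 0 ∧ n e = k • w := by
    intro w hw hw0
    by_cases hdep : w ∈ Submodule.span F {e}
    · obtain ⟨c, rfl⟩ := Submodule.mem_span_singleton.1 hdep
      have hc : c ≠ 0 := fun h => hw0 (by simp [h])
      exact ⟨1, one_mem _, c⁻¹, inv_ne_zero hc, by simp [smul_smul, hc]⟩
    obtain ⟨t, ht, hte, k, htf⟩ :=
      exists_map_pair C he hgee hef he hw (pair_ne_zero C he hw he0 hdep)
    refine ⟨t * g * t⁻¹, hnorm t ht g hg, k, fun hk => ?_, ?_⟩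
    · rw [hk, zero_smul, LinearEquiv.map_eq_zero_iff] at htf
      exact hge (by rw [htf]; exact Submodule.zero_mem _)
    · have : t⁻¹ e = e := by
        conv_lhs => rw [← hte]
        rw [← LinearEquiv.mul_apply, inv_mul_cancel]
        rfl
      rw [LinearEquiv.mul_apply, LinearEquiv.mul_apply, this, htf]
  -- every transvection is congruent to one with centre `e`
  set N' : Subgroup (tvGroup B) := N.subgroupOf (tvGroup B)
  haveI : N'.Normal := ⟨fun n hn t => hnorm _ t.2 _ hn⟩
  let A : Set (tvGroup B) := {t | ∃ (l : F) (h : l + σ l + σ l * l * B e e = 0), (t : V ≃ₗ[F] V) = qrefl e l h}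
  set A' : Set (tvGroup B ⧸ N') := QuotientGroup.mk' N' '' A
  have hAcomm : ∀ x ∈ A', ∀ y ∈ A', x * y = y * x := by
    rintro _ ⟨x, ⟨l, h, hx⟩, rfl⟩ _ ⟨y, ⟨m, h', hy⟩, rfl⟩
    rw [← map_mul, ← map_mul]
    refine congrArg _ (Subtype.ext ?_)
    rw [Subgroup.coe_mul, Subgroup.coe_mul, hx, hy]
    refine LinearEquiv.ext fun z => ?_
    simp only [LinearEquiv.mul_apply, qrefl_apply, map_add, map_smul, smul_eq_mul, he]
    module
  have hgen : ∀ x : tvGroup B, QuotientGroup.mk' N' x ∈ Subgroup.closure A' := by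
    intro x
    obtain ⟨x, hx⟩ := x
    induction hx using Subgroup.closure_induction with
    | mem x hx =>
      obtain ⟨w, l, h, hw, rfl⟩ := hx
      by_cases hw0 : w = 0
      · subst hw0
        refine Subgroup.subset_closure ⟨1, ⟨0, by simp, LinearEquiv.ext fun z => by simp⟩, ?_⟩
        exact congrArg _ (Subtype.ext (LinearEquiv.ext fun z => by simp))
      obtain ⟨n, hn, k, hk, hne⟩ := htrans w hw hw0
      set l' := l / (k * σ k)
      have hkk : k * σ k ≠ 0 := mul_ne_zero hk (by simpa using hk)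
      have hl' : l' + σ l' + σ l' * l' * B e e = 0 := by
        rw [he, mul_zero, add_zero]
        rw [hw, mul_zero, add_zero] at h
        simp only [l', map_div₀, map_mul, C.invol, mul_comm (σ k)]
        rw [← add_div, h, zero_div]
      have hs : qrefl e l' hl' ∈ tvGroup B := Subgroup.subset_closure ⟨e, l', hl', he, rfl⟩
      refine Subgroup.subset_closure ⟨⟨qrefl e l' hl', hs⟩, ⟨l', hl', rfl⟩, ?_⟩
      have hn' : (⟨n, hN hn⟩ : tvGroup B) ∈ N' := hn
      have hconj : n * qrefl e l' hl' * n⁻¹ = qrefl w l h := by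
        rw [qrefl_conj (tvGroup_le_iso C.symm (hN hn))]
        refine LinearEquiv.ext fun z => ?_
        have hl : l = l' * (k * σ k) := (div_mul_cancel₀ _ hkk).symm
        simp only [qrefl_apply, hne, LinearMap.map_smulₛₗ, LinearMap.smul_apply, smul_eq_mul, hl]
        module
      have hq := congrArg (QuotientGroup.mk' N') (Subtype.ext hconj :
        (⟨n, hN hn⟩ : tvGroup B) * ⟨_, hs⟩ * (⟨n, hN hn⟩ : tvGroup B)⁻¹ =
          ⟨qrefl w l h, Subgroup.subset_closure ⟨w, l, h, hw, rfl⟩⟩)
      rw [map_mul, map_mul, map_inv, show QuotientGroup.mk' N' (⟨n, hN hn⟩ : tvGroup B) = 1 from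
        (QuotientGroup.eq_one_iff _).2 hn', one_mul, inv_one, mul_one] at hq
      exact hq
    | one => exact one_mem _
    | mul x y _ _ hx hy => exact mul_mem hx hy
    | inv x _ hx => exact inv_mem hx
  have habel : IsMulCommutative (Subgroup.closure A') :=
    Subgroup.isMulCommutative_closure hAcomm
  rw [Subgroup.commutator_le]
  intro a ha b hb
  have h : QuotientGroup.mk' N' ⁅(⟨a, ha⟩ : tvGroup B), ⟨b, hb⟩⁆ = 1 := by
    rw [map_commutatorElement, commutatorElement_eq_one_iff_mul_comm]
    exact congrArg Subtype.val (habel.is_comm.comm ⟨_, hgen ⟨a, ha⟩⟩ ⟨_, hgen ⟨b, hb⟩⟩)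
  have h' : ⁅(⟨a, ha⟩ : tvGroup B), ⟨b, hb⟩⁆ ∈ N' := (QuotientGroup.eq_one_iff _).1 h
  exact h'

end Cfsg.Lib.Linear.Herm.Three
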