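import Cfsg.Agent.Lib.Linear.PermModule

/-!
# Transport of the permutation representations
-/

set_option autoImplicit false

namespace Cfsg.Lib.Linear.PermModule

open scoped Matrix

variable {P : Type*} [Fintype P] {k : ℕ}

/-- Half the weight. -/
def halfWeight (v : P → ZMod 2) : ZMod 2 := (((Finset.univ.filter fun p => v p = 1).card / 2 : ℕ) : ZMod 2)

theorem halfWeight_perm (g : Equiv.Perm P) (v : P → ZMod 2) : halfWeight (v ∘ g.symm) = halfWeight v := by
  unfold halfWeight
  congr 2
  exact Finset.card_equiv g.symm (fun p => by simp)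

variable {e f : Fin k → P → ZMod 2} {c : P → ZMod 2}

/-- The representation over any field with two elements, in any indexing. -/
noncomputable def Good.homF (G : Good e f c) {F : Type*} [Field F] (φ : ZMod 2 ≃+* F)
    {ι : Type} [Fintype ι] [DecidableEq ι] (σ : ι ≃ Fin k ⊕ Fin k) :
    Equiv.Perm P →* GL ι F :=
  (Units.map ((φ.toRingHom.mapMatrix.comp
    (Matrix.reindexAlgEquiv (ZMod 2) (ZMod 2) σ.symm).toRingEquiv.toRingHom).toMonoidHom)).comp G.hom

theorem Good.homF_val (G : Good e f c) {F : Type*} [Field F] (φ : ZMod 2 ≃+* F) {ι : Type}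
    [Fintype ι] [DecidableEq ι] (σ : ι ≃ Fin k ⊕ Fin k) (g : Equiv.Perm P) :
    (G.homF φ σ g).val = ((G.hom g).val.submatrix σ σ).map φ := rfl

theorem Good.homF_mulVec (G : Good e f c) {F : Type*} [Field F] (φ : ZMod 2 ≃+* F) {ι : Type}
    [Fintype ι] [DecidableEq ι] (σ : ι ≃ Fin k ⊕ Fin k) (g : Equiv.Perm P)
    (y : Fin k ⊕ Fin k → ZMod 2) :
    (G.homF φ σ g).val *ᵥ (fun i => φ (y (σ i))) = fun i => φ (((G.hom g).val *ᵥ y) (σ i)) := by
  funext i
  rw [G.homF_val]
  simp only [Matrix.mulVec, dotProduct, Matrix.map_apply, Matrix.submatrix_apply, map_sum, map_mul]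
  exact σ.sum_comp (fun j => φ ((G.hom g).val (σ i) j) * φ (y j))

theorem Good.homF_injective (G : Good e f c) (h5 : 5 ≤ Fintype.card P) {F : Type*} [Field F]
    (φ : ZMod 2 ≃+* F) {ι : Type} [Fintype ι] [DecidableEq ι] (σ : ι ≃ Fin k ⊕ Fin k) :
    Function.Injective (G.homF φ σ) := fun g h e' => by
  refine G.hom_injective h5 (Units.ext (Matrix.ext fun i j => φ.injective ?_))
  have h' := congrArg (fun M : GL ι F => M.val (σ.symm i) (σ.symm j)) e'
  simpa [G.homF_val] using h'

theorem Good.homF_mem (G : Good e f c) {F : Type*} [Field F] (φ : ZMod 2 ≃+* F) {ι : Type}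
    [Fintype ι] [DecidableEq ι] (σ : ι ≃ Fin k ⊕ Fin k) (W : (P → ZMod 2) → ZMod 2)
    (hc : ∀ v, ∑ p, v p = 0 → W (v + c) = W v)
    (hW : ∀ (g : Equiv.Perm P) v, W (v ∘ g.symm) = W v)
    (Q : (ι → F) → F) (hQ : ∀ y, Q (fun i => φ (y (σ i))) = φ (W (sec e f y)))
    (g : Equiv.Perm P) : G.homF φ σ g ∈ Cfsg.isometryGroup F Q := by
  intro v _
  show Q ((G.homF φ σ g).val *ᵥ v) = Q v
  obtain ⟨y, hy⟩ : ∃ y, v = fun i => φ (y (σ i)) :=
    ⟨fun j => φ.symm (v (σ.symm j)), by funext i; simp⟩
  rw [hy, G.homF_mulVec, hQ, hQ, G.invariant W hc hW]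

/-- An injective map between finite groups of the same order. -/
theorem equiv_of_card {G H : Type*} [Group G] [Group H] [Finite H] (f : G →* H)
    (hf : Function.Injective f) (hc : Nat.card G = Nat.card H) : Nonempty (H ≃* G) := by
  haveI : Finite G := Finite.of_injective f hf
  have := Fintype.ofFinite G
  have := Fintype.ofFinite H
  exact ⟨(MulEquiv.ofBijective f ((Fintype.bijective_iff_injective_and_card f).mpr
    ⟨hf, by rwa [← Nat.card_eq_fintype_card, ← Nat.card_eq_fintype_card]⟩)).symm⟩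

/-- A ring homomorphism maps symplectic matrices to symplectic matrices. -/
theorem symp_map {R S : Type*} [CommRing R] [CommRing S] (φ : R →+* S) {m : ℕ}
    {A : Matrix (Fin m ⊕ Fin m) (Fin m ⊕ Fin m) R} (hA : A ∈ Matrix.symplecticGroup (Fin m) R) :
    A.map φ ∈ Matrix.symplecticGroup (Fin m) S := by
  rw [SymplecticGroup.mem_iff] at hA ⊢
  have h' := congrArg (fun M => M.map φ) hA
  simp only [Matrix.map_mul, Matrix.transpose_map] at h'
  have hJ : (Matrix.J (Fin m) R).map φ = Matrix.J (Fin m) S := by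
    simp [Matrix.J, Matrix.fromBlocks_map, Matrix.map_neg]
  rwa [hJ] at h'

/-- The symplectic group along a ring isomorphism. -/
theorem symp_equiv {R S : Type*} [CommRing R] [CommRing S] (φ : R ≃+* S) (m : ℕ) :
    Nonempty (Matrix.symplecticGroup (Fin m) R ≃* Matrix.symplecticGroup (Fin m) S) := by
  exact ⟨{ toFun := fun A => ⟨A.1.map φ.toRingHom, symp_map _ A.2⟩
           invFun := fun A => ⟨A.1.map φ.symm.toRingHom, symp_map _ A.2⟩
           left_inv := fun A => Subtype.ext (Matrix.ext fun i j => φ.symm_apply_apply _)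
           right_inv := fun A => Subtype.ext (Matrix.ext fun i j => φ.apply_symm_apply _)
           map_mul' := fun A B => Subtype.ext Matrix.map_mul }⟩

end Cfsg.Lib.Linear.PermModule
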