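import Cfsg.Agent.Lib.Linear.OrthSpinorApp
import Cfsg.Agent.Lib.Linear.OrthForms
import Mathlib.LinearAlgebra.Matrix.Transvection

/-!
# The Levi subgroup of the plus type orthogonal group and the swap of the two halves
-/

set_option autoImplicit false

namespace Cfsg.Lib.Linear.Orth

open Module
open scoped Matrix commutatorElement

variable {F : Type*} [Field F] {m : ℕ}

theorem quadFormPlus_eq (v : Fin m ⊕ Fin m → F) :
    Cfsg.quadFormPlus m F v = (v ∘ Sum.inl) ⬝ᵥ (v ∘ Sum.inr) := rfl

/-- `A` and its inverse transpose. -/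
def levGL (m : ℕ) : GL (Fin m) F →* GL (Fin m ⊕ Fin m) F where
  toFun A :=
    { val := Matrix.fromBlocks A.val 0 0 (A⁻¹ : GL (Fin m) F).valᵀ
      inv := Matrix.fromBlocks (A⁻¹ : GL (Fin m) F).val 0 0 A.valᵀ
      val_inv := by simp [Matrix.fromBlocks_multiply, ← Matrix.transpose_mul, ← Units.val_mul]
      inv_val := by simp [Matrix.fromBlocks_multiply, ← Matrix.transpose_mul, ← Units.val_mul] }
  map_one' := Units.ext (by simp)
  map_mul' A A' := Units.ext (by simp [Matrix.fromBlocks_multiply, Matrix.transpose_mul])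

theorem levGL_mem (A : GL (Fin m) F) : levGL m A ∈ isometryGroup F (Cfsg.quadFormPlus m F) :=
  mem_iso.mpr fun v => by
    rw [quadFormPlus_eq, quadFormPlus_eq]
    show (Matrix.fromBlocks A.val 0 0 (A⁻¹ : GL (Fin m) F).valᵀ *ᵥ v) ∘ Sum.inl ⬝ᵥ
      (Matrix.fromBlocks A.val 0 0 (A⁻¹ : GL (Fin m) F).valᵀ *ᵥ v) ∘ Sum.inr = _
    rw [Matrix.fromBlocks_mulVec]
    simp only [Sum.elim_comp_inl, Sum.elim_comp_inr, Matrix.zero_mulVec, add_zero, zero_add]
    rw [Matrix.mulVec_transpose, dotProduct_comm, ← Matrix.dotProduct_mulVec, Matrix.mulVec_mulVec,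
      ← Units.val_mul, inv_mul_cancel, Units.val_one, Matrix.one_mulVec, dotProduct_comm]

/-- The Levi subgroup inside the isometry group. -/
def lev (m : ℕ) : GL (Fin m) F →* ↥(isometryGroup F (Cfsg.quadFormPlus m F)) :=
  (levGL m).codRestrict _ levGL_mem

theorem lev_val (A : GL (Fin m) F) :
    ((lev m A : ↥(isometryGroup F (Cfsg.quadFormPlus m F))) : GL (Fin m ⊕ Fin m) F).val =
      Matrix.fromBlocks A.val 0 0 (A⁻¹ : GL (Fin m) F).valᵀ := rfl

/-- An elementary unit. -/
def tUnit (i j : Fin m) (h : i ≠ j) (c : F) : GL (Fin m) F :=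
  { val := Matrix.transvection i j c
    inv := Matrix.transvection i j (-c)
    val_inv := by rw [Matrix.transvection_mul_transvection_same i j h, add_neg_cancel, Matrix.transvection_zero]
    inv_val := by rw [Matrix.transvection_mul_transvection_same i j h, neg_add_cancel, Matrix.transvection_zero] }

/-- A diagonal unit. -/
def dUnit (d : Fin m → Fˣ) : GL (Fin m) F :=
  { val := Matrix.diagonal fun i => (d i : F)
    inv := Matrix.diagonal fun i => ((d i)⁻¹ : Fˣ)
    val_inv := by simp
    inv_val := by simp }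

theorem dUnit_mul (d e : Fin m → Fˣ) : dUnit d * dUnit e = dUnit (fun i => d i * e i) :=
  Units.ext (by simp [dUnit])

theorem tUnit_mem_commutator [Fintype F] (h : Fintype.card F ≠ 2 ∨ m ≠ 2) (i j : Fin m) (hij : i ≠ j) (c : F) :
    tUnit i j hij c ∈ commutator (GL (Fin m) F) := by
  classical
  have key : ∀ x y : GL (Fin m) F, x * y = tUnit i j hij c * (y * x) → tUnit i j hij c ∈ commutator (GL (Fin m) F) := by
    intro x y hxy
    have e : tUnit i j hij c = ⁅x, y⁆ := by rw [commutatorElement_def, hxy]; group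
    rw [e]
    exact Subgroup.commutator_mem_commutator (Subgroup.mem_top _) (Subgroup.mem_top _)
  by_cases hq : Fintype.card F = 2
  · have hm : m ≠ 2 := h.resolve_left (fun h => h hq)
    obtain ⟨k, hk⟩ : ∃ k, k ∉ ({i, j} : Finset (Fin m)) := by
      by_contra! hall
      have h1 := Finset.card_le_card (show (Finset.univ : Finset (Fin m)) ⊆ {i, j} from fun k _ => hall k)
      rw [Finset.card_univ, Fintype.card_fin, Finset.card_pair hij] at h1
      have h2 : 2 ≤ m := by
        have := Finset.card_le_univ ({i, j} : Finset (Fin m))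
        rw [Finset.card_pair hij, Fintype.card_fin] at this
        exact this
      omega
    simp only [Finset.mem_insert, Finset.mem_singleton, not_or] at hk
    refine key (tUnit i k (Ne.symm hk.1) 1) (tUnit k j hk.2 c) (Units.ext ?_)
    show Matrix.transvection i k 1 * Matrix.transvection k j c =
      Matrix.transvection i j c * (Matrix.transvection k j c * Matrix.transvection i k 1)
    simp [Matrix.transvection, add_mul, mul_add, hij, Ne.symm hij, hk.1, hk.2, Ne.symm hk.1, Ne.symm hk.2]
    abel
  · obtain ⟨d, hd0, hd1⟩ : ∃ d : F, d ≠ 0 ∧ d ≠ 1 := by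
      by_contra! hall
      apply hq
      have h1 := Finset.card_le_card (show (Finset.univ : Finset F) ⊆ {0, 1} from fun x _ => by
        by_cases hx : x = 0
        · simp [hx]
        · simp [hall x hx])
      have h2 := Finset.card_le_two (a := (0 : F)) (b := 1)
      have h3 := Fintype.one_lt_card (α := F)
      rw [Finset.card_univ] at h1
      omega
    have hd' : d - 1 ≠ 0 := sub_ne_zero.mpr hd1
    refine key (dUnit (Function.update 1 i (Units.mk0 d hd0))) (tUnit i j hij (c / (d - 1))) (Units.ext ?_)
    show Matrix.diagonal _ * Matrix.transvection i j (c / (d - 1)) =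
      Matrix.transvection i j c * (Matrix.transvection i j (c / (d - 1)) * Matrix.diagonal _)
    rw [← mul_assoc, Matrix.transvection_mul_transvection_same i j hij]
    ext a b
    rw [Matrix.diagonal_mul, Matrix.mul_diagonal]
    simp only [Matrix.transvection, Matrix.add_apply, Matrix.one_apply, Matrix.single_apply, Function.update_apply,
      Pi.one_apply]
    by_cases hab : a = b
    · subst hab
      have h' : ¬ (i = a ∧ j = a) := fun h => hij (h.1.trans h.2.symm)
      rw [if_pos rfl, if_neg h', if_neg h']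
      split_ifs <;> simp
    · rw [if_neg hab]
      by_cases h' : i = a ∧ j = b
      · obtain ⟨rfl, rfl⟩ := h'
        simp [Ne.symm hij]
        field_simp
        ring
      · rw [if_neg h', if_neg h']
        simp

variable [Fintype F]

/-- The criterion for a single diagonal entry. -/
theorem detSpin_lev_single (h2 : (2 : F) ≠ 0) (i : Fin m) (c : Fˣ) :
    detSpin (Cfsg.quadFormPlus m F) (lev m (dUnit (Function.update 1 i c))) = (1, sqSign (c : F)) := by
  classical
  obtain ⟨B, C⟩ := exists_space_plus (F := F) m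
  set v : Fin m ⊕ Fin m → F := Pi.single (Sum.inl i) 1 - Pi.single (Sum.inr i) 1 with hv
  set w : Fin m ⊕ Fin m → F := Pi.single (Sum.inl i) 1 - (c : F) • Pi.single (Sum.inr i) 1 with hw
  have hQv : Cfsg.quadFormPlus m F v = -1 := by simp [v, Cfsg.quadFormPlus, Pi.single_apply]
  have hQw : Cfsg.quadFormPlus m F w = -(c : F) := by simp [w, Cfsg.quadFormPlus, Pi.single_apply]
  obtain ⟨g, hg, hd, hs⟩ := exists_refl_prod C h2 [v, w] (by
    intro u hu
    simp only [List.mem_cons, List.not_mem_nil, or_false] at hu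
    rcases hu with rfl | rfl
    · rw [hQv]; simp
    · rw [hQw]; simp)
  have hB : ∀ u x, B u x = ∑ k : Fin m, (u (.inl k) * x (.inr k) + u (.inr k) * x (.inl k)) := fun u x => by
    rw [← C.polar, polar_plus_apply]
  have he : lev m (dUnit (Function.update 1 i c)) = g := by
    refine Subtype.ext (Units.ext (mat_ext fun x => ?_))
    rw [hg, lev_val, List.map_cons, List.map_cons, List.map_nil, List.prod_cons, List.prod_cons, List.prod_nil,
      mul_one, ← Matrix.mulVec_mulVec, rMat_mulVec C, rMat_mulVec C, hQv, hQw, Matrix.fromBlocks_mulVec]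
    have hc : (c : F) ≠ 0 := c.ne_zero
    have hBw : B w x = x (.inr i) - (c : F) * x (.inl i) := by
      rw [hB]; simp [w, Pi.single_apply, Finset.sum_add_distrib]; ring
    have hBv : ∀ y, B v y = y (.inr i) - y (.inl i) := fun y => by
      rw [hB]; simp [v, Pi.single_apply, Finset.sum_add_distrib]; ring
    rw [hBv, hBw]
    funext k
    rcases k with k | k <;> by_cases hk : k = i
    all_goals simp [v, w, dUnit, hk, Matrix.mulVec_diagonal, Pi.single_apply, Function.update_apply,
      Matrix.diagonal_transpose]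
    all_goals first | done | (field_simp; ring) | skip
  rw [he]
  refine Prod.ext ?_ ?_
  · rw [hd]; simp
  · show spin _ g = _
    rw [hs]
    simp [hQv, hQw]

theorem detSpin_lev_diag (h2 : (2 : F) ≠ 0) (d : Fin m → Fˣ) :
    detSpin (Cfsg.quadFormPlus m F) (lev m (dUnit d)) = (1, sqSign (∏ i, (d i : F))) := by
  classical
  have key : ∀ s : Finset (Fin m), detSpin (Cfsg.quadFormPlus m F) (lev m (dUnit fun i => if i ∈ s then d i else 1)) =
      (1, sqSign (∏ i ∈ s, (d i : F))) := by
    intro s
    induction s using Finset.induction with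
    | empty =>
      have : dUnit (fun i => if i ∈ (∅ : Finset (Fin m)) then d i else 1) = 1 := Units.ext (by simp [dUnit])
      rw [this, map_one, map_one, Finset.prod_empty, sqSign_eq_one.mpr IsSquare.one]; rfl
    | insert a s ha ih =>
      have : dUnit (fun i => if i ∈ insert a s then d i else 1) =
          dUnit (Function.update 1 a (d a)) * dUnit (fun i => if i ∈ s then d i else 1) := by
        rw [dUnit_mul]
        congr 1
        funext i
        by_cases hi : i = a
        · subst hi; simp [ha]
        · simp [hi]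
      rw [this, map_mul, map_mul, ih, detSpin_lev_single h2, Finset.prod_insert ha,
        sqSign_mul h2 (Units.ne_zero _) (Finset.prod_ne_zero_iff.mpr fun i _ => Units.ne_zero _)]
      simp
  have h := key Finset.univ
  simpa using h

/-- Membership of the Levi elements. -/
theorem lev_mem_omega_iff (hm : 1 ≤ m) (h : Fintype.card F ≠ 2 ∨ m ≠ 2) (A : GL (Fin m) F) :
    lev m A ∈ Omega F (Cfsg.quadFormPlus m F) ↔ IsSquare A.val.det := by
  classical
  obtain ⟨B, C⟩ := exists_space_plus (F := F) m
  have hn : 2 ≤ Fintype.card (Fin m ⊕ Fin m) := by simp; omega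
  set N := (commutator ↥(isometryGroup F (Cfsg.quadFormPlus m F))).comap (lev m) with hN
  have ht : commutator (GL (Fin m) F) ≤ N := by
    refine Subgroup.map_le_iff_le_comap.mp ?_
    rw [_root_.commutator_def, Subgroup.map_commutator, _root_.commutator_def]
    exact Subgroup.commutator_mono le_top le_top
  have hdiag : ∀ d : Fin m → Fˣ, dUnit d ∈ N ↔ IsSquare (∏ i, (d i : F)) := by
    intro d
    by_cases h2 : (2 : F) = 0
    · haveI : CharP F 2 := CharTwo.of_one_ne_zero_of_two_eq_zero one_ne_zero h2
      have hsq : ∀ x : F, IsSquare x := fun x => FiniteField.isSquare_of_char_two (ringChar.eq F 2) x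
      refine iff_of_true ?_ (hsq _)
      choose e he using fun i => hsq (d i : F)
      have he0 : ∀ i, e i ≠ 0 := fun i h0 => (d i).ne_zero (by rw [he i, h0, mul_zero])
      have : dUnit d = dUnit (fun i => Units.mk0 (e i) (he0 i)) * dUnit (fun i => Units.mk0 (e i) (he0 i)) := by
        rw [dUnit_mul]
        congr 1
        funext i
        exact Units.ext (he i)
      rw [this]
      rw [hN, Subgroup.mem_comap, map_mul]
      exact Subgroup.mul_self_mem_of_index_two
        (omega_two C h2 hn (h.imp_right fun h => by simp; omega)).1 _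
    · show lev m (dUnit d) ∈ commutator _ ↔ _
      rw [(omega_odd C h2 hn).1, MonoidHom.mem_ker, detSpin_lev_diag h2, Prod.mk_eq_one, sqSign_eq_one]
      simp
  obtain ⟨L, L', D, hA⟩ := Matrix.Pivot.exists_list_transvec_mul_diagonal_mul_list_transvec A.val
  have hlist : ∀ L : List (Matrix.TransvectionStruct (Fin m) F), ∃ u : GL (Fin m) F,
      u.val = (L.map Matrix.TransvectionStruct.toMatrix).prod ∧ u ∈ N ∧ u.val.det = 1 := by
    intro L
    induction L with
    | nil => exact ⟨1, by simp, one_mem _, by simp⟩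
    | cons t L ih =>
      obtain ⟨u, hu, huN, hud⟩ := ih
      refine ⟨tUnit t.i t.j t.hij t.c * u, ?_, mul_mem (ht (tUnit_mem_commutator h _ _ _ _)) huN, ?_⟩
      · rw [List.map_cons, List.prod_cons, ← hu]; rfl
      · rw [Units.val_mul, Matrix.det_mul, hud, mul_one]
        exact Matrix.det_transvection_of_ne _ _ t.hij _
  obtain ⟨u, hu, huN, hud⟩ := hlist L
  obtain ⟨u', hu', huN', hud'⟩ := hlist L'
  rw [← hu, ← hu'] at hA
  have hdet : A.val.det = ∏ i, D i := by
    rw [hA, Matrix.det_mul, Matrix.det_mul, hud, hud', Matrix.det_diagonal, one_mul, mul_one]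
  have hD : ∀ i, D i ≠ 0 := fun i h0 => by
    have : A.val.det ≠ 0 := Matrix.GeneralLinearGroup.det_ne_zero A
    exact this (by rw [hdet]; exact Finset.prod_eq_zero (Finset.mem_univ i) h0)
  have hAe : A = u * dUnit (fun i => Units.mk0 (D i) (hD i)) * u' := Units.ext hA
  show A ∈ N ↔ _
  rw [hdet]
  conv_lhs => rw [hAe, Subgroup.mul_mem_cancel_right _ huN', Subgroup.mul_mem_cancel_left _ huN, hdiag]
  simp

/-- The swap of the two halves. -/
def swapM (m : ℕ) : Matrix (Fin m ⊕ Fin m) (Fin m ⊕ Fin m) F := Matrix.fromBlocks 0 1 1 0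

theorem swap_refl_prod {B : LinearMap.BilinForm F (Fin m ⊕ Fin m → F)}
    (C : Space (Cfsg.quadFormPlus m F) B) :
    ((List.finRange m).map fun i => Cfsg.reflectionMatrix (Cfsg.quadFormPlus m F)
      (Pi.single (Sum.inl i) 1 - Pi.single (Sum.inr i) 1)).prod = swapM m := by
  classical
  have hB : ∀ u x, B u x = ∑ k : Fin m, (u (.inl k) * x (.inr k) + u (.inr k) * x (.inl k)) := fun u x => by
    rw [← C.polar, polar_plus_apply]
  have key : ∀ L : List (Fin m), L.Nodup → ∀ x : Fin m ⊕ Fin m → F,
      (L.map fun i => Cfsg.reflectionMatrix (Cfsg.quadFormPlus m F)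
        (Pi.single (Sum.inl i) 1 - Pi.single (Sum.inr i) 1)).prod *ᵥ x =
        Sum.elim (fun k => if k ∈ L then x (.inr k) else x (.inl k))
          (fun k => if k ∈ L then x (.inl k) else x (.inr k)) := by
    intro L
    induction L with
    | nil => intro _ x; funext k; rcases k with k | k <;> simp
    | cons a L ih =>
      intro hnd x
      obtain ⟨ha, hL⟩ := List.nodup_cons.mp hnd
      have hQ : Cfsg.quadFormPlus m F (Pi.single (Sum.inl a) 1 - Pi.single (Sum.inr a) 1) = -1 := by
        simp [Cfsg.quadFormPlus, Pi.single_apply]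
      have hBv : ∀ y, B (Pi.single (Sum.inl a) 1 - Pi.single (Sum.inr a) 1) y = y (.inr a) - y (.inl a) := fun y => by
        rw [hB]; simp [Pi.single_apply, Finset.sum_add_distrib]; ring
      rw [List.map_cons, List.prod_cons, ← Matrix.mulVec_mulVec, ih hL, rMat_mulVec C, hQ, hBv]
      funext k
      rcases k with k | k <;> by_cases hk : k = a <;> by_cases hkL : k ∈ L <;>
        simp_all [Pi.single_apply]
  refine mat_ext fun x => ?_
  rw [key _ (List.nodup_finRange m) x, swapM, Matrix.fromBlocks_mulVec]
  funext k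
  rcases k with k | k <;> simp

/-- Swapping the halves inside `Ω`. -/
theorem swap_mem_omega_iff (hm : 1 ≤ m) (h : Fintype.card F ≠ 2 ∨ m ≠ 2) :
    (∃ g : ↥(isometryGroup F (Cfsg.quadFormPlus m F)), g ∈ Omega F (Cfsg.quadFormPlus m F) ∧
      (∀ v : Fin m ⊕ Fin m → F, (∀ i, v (Sum.inr i) = 0) → ∀ i, ((g : GL (Fin m ⊕ Fin m) F).val *ᵥ v) (Sum.inl i) = 0) ∧
      (∀ v : Fin m ⊕ Fin m → F, (∀ i, v (Sum.inl i) = 0) → ∀ i, ((g : GL (Fin m ⊕ Fin m) F).val *ᵥ v) (Sum.inr i) = 0)) ↔
      Even m := by
  classical
  obtain ⟨B, C⟩ := exists_space_plus (F := F) m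
  have hn : 2 ≤ Fintype.card (Fin m ⊕ Fin m) := by simp; omega
  have hbig : Fintype.card F ≠ 2 ∨ Fintype.card (Fin m ⊕ Fin m) ≠ 4 := h.imp_right fun h => by simp; omega
  set Q := Cfsg.quadFormPlus m F with hQdef
  have hQv : ∀ i, Q (Pi.single (Sum.inl i) 1 - Pi.single (Sum.inr i) 1) = -1 := fun i => by
    simp [Q, Cfsg.quadFormPlus, Pi.single_apply]
  have hQne : ∀ i, Q (Pi.single (Sum.inl i) 1 - Pi.single (Sum.inr i) 1) ≠ 0 := fun i => by rw [hQv]; simp
  set R : List ↥(isometryGroup F Q) := (List.finRange m).map fun i => rI C _ (hQne i) with hR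
  set J := R.prod with hJ
  have hJv : (J : GL (Fin m ⊕ Fin m) F).val = swapM m := by
    rw [← swap_refl_prod C, hJ]
    have := map_list_prod ((Units.coeHom _).comp (isometryGroup F Q).subtype) R
    refine (show (R.prod : GL (Fin m ⊕ Fin m) F).val = _ from this).trans ?_
    rw [hR, List.map_map]
    congr 1
    refine List.map_congr_left fun i _ => ?_
    exact rGL_val C (hQne i)
  -- a sign character
  obtain ⟨χ, hχ, hχJ⟩ : ∃ χ : ↥(isometryGroup F Q) → Prop, (∀ g, g ∈ Omega F Q → χ g) ∧
      ((∀ A : GL (Fin m) F, ∀ g, g = J * lev m A → χ g → Even m) ∧ (Even m → J ∈ Omega F Q)) := by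
    by_cases h2 : (2 : F) = 0
    · haveI : CharP F 2 := CharTwo.of_one_ne_zero_of_two_eq_zero one_ne_zero h2
      obtain ⟨δ, hδ⟩ := exists_dickson C hbig h2
      have hδJ : δ J = (-1) ^ m := by
        rw [hJ, map_list_prod, hR, List.map_map]
        rw [List.prod_eq_pow_card _ (-1 : ℤˣ) (fun x hx => by
          obtain ⟨i, -, rfl⟩ := List.mem_map.mp hx
          exact hδ _ (hQne i))]
        simp
      have hsurj : Function.Surjective δ := fun x => by
        rcases Int.units_eq_one_or x with rfl | rfl
        exacts [⟨1, map_one δ⟩, ⟨_, hδ _ (hQne ⟨0, hm⟩)⟩]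
      have heq : commutator ↥(isometryGroup F Q) = δ.ker := by
        refine Subgroup.eq_of_le_of_card_ge (Abelianization.commutator_subset_ker δ) ?_
        have e1 := (commutator ↥(isometryGroup F Q)).card_mul_index
        have e2 := δ.ker.card_mul_index
        have hker : δ.ker.index = 2 := by
          rw [Subgroup.index_ker, MonoidHom.range_eq_top.mpr hsurj, Subgroup.card_top,
            Nat.card_eq_fintype_card]
          rfl
        rw [(omega_two C h2 hn hbig).1] at e1; rw [hker] at e2
        omega
      refine ⟨fun g => δ g = 1, fun g hg => MonoidHom.mem_ker.mp (heq ▸ hg), ?_, ?_⟩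
      · rintro A g rfl hg
        have hl : δ (lev m A) = 1 := MonoidHom.mem_ker.mp (heq ▸ ((lev_mem_omega_iff hm h A).mpr
          (FiniteField.isSquare_of_char_two (ringChar.eq F 2) _)))
        rw [map_mul, hl, mul_one, hδJ] at hg
        by_contra hodd
        rw [(Nat.not_even_iff_odd.mp hodd).neg_one_pow] at hg
        exact absurd hg (by decide)
      · intro hev
        show J ∈ commutator _
        rw [heq, MonoidHom.mem_ker, hδJ, hev.neg_one_pow]
    · refine ⟨fun g => Matrix.GeneralLinearGroup.det (g : GL (Fin m ⊕ Fin m) F) = 1, fun g hg => ?_, ?_, ?_⟩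
      · exact MonoidHom.mem_ker.mp (Abelianization.commutator_subset_ker
          (Matrix.GeneralLinearGroup.det.comp (isometryGroup F Q).subtype) hg)
      · rintro A g rfl hg
        have hl : Matrix.GeneralLinearGroup.det ((lev m A : ↥(isometryGroup F Q)) : GL (Fin m ⊕ Fin m) F) = 1 := by
          refine Units.ext ?_
          rw [Matrix.GeneralLinearGroup.val_det_apply, lev_val, Matrix.det_fromBlocks_zero₂₁, Matrix.det_transpose,
            ← Matrix.det_mul, ← Units.val_mul, mul_inv_cancel, Units.val_one, Matrix.det_one, Units.val_one]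
        rw [Subgroup.coe_mul, map_mul, hl, mul_one] at hg
        have hdJ : Matrix.GeneralLinearGroup.det (J : GL (Fin m ⊕ Fin m) F) = (-1) ^ m := by
          show (Matrix.GeneralLinearGroup.det.comp (isometryGroup F Q).subtype) J = _
          rw [hJ, map_list_prod, hR, List.map_map]
          rw [List.prod_eq_pow_card _ (-1 : Fˣ) (fun x hx => by
            obtain ⟨i, -, rfl⟩ := List.mem_map.mp hx
            exact det_rI C (hQne i))]
          simp
        rw [hdJ] at hg
        exact (neg_one_pow_units_eq_one h2 m).mp hg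
      · intro hev
        refine (refl_prod_mem_omega_iff C h2 hn
          ((List.finRange m).map fun i => Pi.single (Sum.inl i) 1 - Pi.single (Sum.inr i) 1) ?_ J ?_).mpr ?_
        · intro v hv
          obtain ⟨i, -, rfl⟩ := List.mem_map.mp hv
          exact hQne i
        · rw [hJv, List.map_map, ← swap_refl_prod C]; rfl
        · refine ⟨by simpa using hev, ?_⟩
          rw [List.prod_eq_pow_card _ (-1 : F) (fun x hx => by
            obtain ⟨v, hv, rfl⟩ := List.mem_map.mp hx
            obtain ⟨i, -, rfl⟩ := List.mem_map.mp hv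
            exact hQv i)]
          simp [hev.neg_one_pow]
  obtain ⟨hnec, hsuf⟩ := hχJ
  constructor
  · rintro ⟨g, hg, hg1, hg2⟩
    set G := (g : GL (Fin m ⊕ Fin m) F).val with hG
    set P := G.toBlocks₁₂ with hP
    set S := G.toBlocks₂₁ with hS
    have hblocks : G = Matrix.fromBlocks 0 P S 0 := by
      ext a b
      rcases a with a | a <;> rcases b with b | b
      · simpa using hg1 (Pi.single (Sum.inl b) 1) (fun i => by simp) a
      · rfl
      · rfl
      · simpa using hg2 (Pi.single (Sum.inr b) 1) (fun i => by simp) a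
    have hh : swapM m * G = Matrix.fromBlocks S 0 0 P := by
      rw [hblocks, swapM]; simp [Matrix.fromBlocks_multiply]
    have hiso : ∀ v, Q ((swapM m * G) *ᵥ v) = Q v := fun v => by
      have := mem_iso.mp (mul_mem J.2 g.2) v
      rwa [Units.val_mul, hJv] at this
    have hSP : Pᵀ * S = 1 := by
      ext a b
      have h1 := hiso (Sum.elim (Pi.single b 1) (Pi.single a 1))
      rw [hh, Matrix.fromBlocks_mulVec] at h1
      simp only [hQdef, quadFormPlus_eq, Sum.elim_comp_inl, Sum.elim_comp_inr, Matrix.zero_mulVec, add_zero,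
        zero_add, Matrix.mulVec_single, dotProduct] at h1
      rw [Matrix.mul_apply]
      simp only [Matrix.transpose_apply, Matrix.one_apply]
      simpa [mul_comm, Pi.single_apply, eq_comm] using h1
    let A : GL (Fin m) F := ⟨S, Pᵀ, mul_eq_one_comm.mp hSP, hSP⟩
    refine hnec A g ?_ (hχ g hg)
    refine Subtype.ext (Units.ext ?_)
    show G = ((J : GL (Fin m ⊕ Fin m) F) * _).val
    rw [Units.val_mul, hJv, lev_val, swapM, hblocks]
    simp [A, Matrix.fromBlocks_multiply]
  · intro hev
    refine ⟨J, hsuf hev, ?_, ?_⟩ <;> intro v hv i <;> rw [hJv, swapM, Matrix.fromBlocks_mulVec] <;> simp [hv]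

end Cfsg.Lib.Linear.Orth
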