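import Cfsg.Agent.Lib.Linear.OrthMax

/-!
# The two families of maximal totally singular subspaces

For a plus-type space, `Ω` preserves the parity of the dimension of the intersection of two
maximal totally singular subspaces.
-/

set_option autoImplicit false

namespace Cfsg.Lib.Linear.Orth

open Module
open scoped Matrix

variable {ι : Type} [Fintype ι] [DecidableEq ι] {F : Type*} [Field F]
  {Q : (ι → F) → F} {B : LinearMap.BilinForm F (ι → F)}

/-- A totally singular subspace of half the dimension. -/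
def IsHalf (Q : (ι → F) → F) (A : Submodule F (ι → F)) : Prop :=
  (∀ x ∈ A, Q x = 0) ∧ 2 * finrank F A = Fintype.card ι

/-- The image of a subspace. -/
def img (g : GL ι F) (A : Submodule F (ι → F)) : Submodule F (ι → F) :=
  A.map (Matrix.mulVecLin g.val)

theorem mem_img {g : GL ι F} {A : Submodule F (ι → F)} {x : ι → F} :
    x ∈ img g A ↔ (g⁻¹ : GL ι F).val *ᵥ x ∈ A := by
  refine ⟨fun ⟨a, ha, e⟩ => ?_, fun h => ⟨_, h, act_inv g x⟩⟩
  rw [← e]
  show (g⁻¹ : GL ι F).val *ᵥ (g.val *ᵥ a) ∈ A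
  rwa [inv_act]

theorem finrank_img (g : GL ι F) (A : Submodule F (ι → F)) :
    finrank F (img g A) = finrank F A :=
  (Submodule.equivMapOfInjective _ (act_injective g) A).finrank_eq.symm

theorem img_mul (g h : GL ι F) (A : Submodule F (ι → F)) : img (g * h) A = img g (img h A) := by
  ext x; simp [mem_img, mul_act]

theorem img_one (A : Submodule F (ι → F)) : img (1 : GL ι F) A = A := by
  ext x; simp [mem_img]

theorem IsHalf.img {g : GL ι F} (hg : g ∈ isometryGroup F Q) {A : Submodule F (ι → F)}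
    (hA : IsHalf Q A) : IsHalf Q (img g A) :=
  ⟨fun x hx => by rw [← mem_iso.mp (inv_mem hg)]; exact hA.1 _ (mem_img.mp hx),
    by rw [finrank_img]; exact hA.2⟩

theorem ts_orth (C : Space Q B) {A : Submodule F (ι → F)} (hA : ∀ x ∈ A, Q x = 0) {x y : ι → F}
    (hx : x ∈ A) (hy : y ∈ A) : B x y = 0 := by
  have := hA _ (A.add_mem hx hy)
  rw [C.add, hA x hx, hA y hy] at this
  simpa using this

theorem IsHalf.perp_mem (C : Space Q B) {A : Submodule F (ι → F)} (hA : IsHalf Q A) {x : ι → F}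
    (hx : ∀ a ∈ A, B a x = 0) : x ∈ A := by
  by_contra hne
  let K := A ⊔ Submodule.span F {x}
  let Φ : K →ₗ[F] Module.Dual F (ι → F) := B.domRestrict K
  have hinj : Function.Injective Φ := by
    rw [injective_iff_map_eq_zero]
    intro a ha
    exact Subtype.ext (C.nondeg' fun u => LinearMap.congr_fun ha u)
  have hle : LinearMap.range Φ ≤ A.dualAnnihilator := by
    rintro _ ⟨⟨k, hk⟩, rfl⟩
    rw [Submodule.mem_dualAnnihilator]
    intro a ha
    show B k a = 0
    obtain ⟨p, hp, q, hq, rfl⟩ := Submodule.mem_sup.mp hk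
    obtain ⟨c, rfl⟩ := Submodule.mem_span_singleton.mp hq
    rw [map_add, LinearMap.add_apply, map_smul, LinearMap.smul_apply, ts_orth C hA.1 hp ha,
      C.symm x, hx a ha]
    simp
  have h1 := Submodule.finrank_mono hle
  rw [LinearMap.finrank_range_of_inj hinj] at h1
  have h2 := Subspace.finrank_add_finrank_dualAnnihilator_eq A
  rw [finrank_fintype_fun_eq_card] at h2
  have hlt : A < K := lt_of_le_of_ne le_sup_left fun h => hne
    (h ▸ Submodule.mem_sup_right (Submodule.mem_span_singleton_self x))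
  have h3 := Submodule.finrank_lt_finrank_of_lt hlt
  have := hA.2
  omega

theorem finrank_inf_ker_ge (U : Submodule F (ι → F)) (φ : (ι → F) →ₗ[F] F) :
    finrank F U ≤ finrank F (U ⊓ LinearMap.ker φ : Submodule F (ι → F)) + 1 := by
  have h3 := Submodule.finrank_sup_add_finrank_inf_eq U (LinearMap.ker φ)
  have h4 := LinearMap.finrank_range_add_finrank_ker φ
  have h5 : finrank F (LinearMap.range φ) ≤ 1 := by
    simpa using Submodule.finrank_le (LinearMap.range φ)
  have h6 := Submodule.finrank_le (U ⊔ LinearMap.ker φ)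
  omega

/-- A totally singular `W` and a half-dimensional `A`: `A` meets `W⊥` in more than `A ⊓ W` unless
`W` is large. -/
theorem exists_mem_perp (C : Space Q B) {A W : Submodule F (ι → F)} (hA : IsHalf Q A)
    (hW : finrank F W < finrank F A) :
    ∃ a ∈ A, a ∉ W ∧ ∀ w ∈ W, B w a = 0 := by
  let Φ : A →ₗ[F] Module.Dual F W :=
    { toFun := fun a => (B (a : ι → F)).comp W.subtype
      map_add' := fun a b => by ext; simp
      map_smul' := fun c a => by ext; simp }
  have hle : LinearMap.range Φ ≤ ((A ⊓ W).comap W.subtype).dualAnnihilator := by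
    rintro _ ⟨a, rfl⟩
    rw [Submodule.mem_dualAnnihilator]
    intro w hw
    exact ts_orth C hA.1 a.2 hw.1
  have h1 := Submodule.finrank_mono hle
  have h2 := Subspace.finrank_add_finrank_dualAnnihilator_eq ((A ⊓ W).comap W.subtype)
  have h3 := LinearMap.finrank_range_add_finrank_ker Φ
  have h4 : finrank F ((A ⊓ W).comap W.subtype) = finrank F (A ⊓ W : Submodule F (ι → F)) :=
    (Submodule.comapSubtypeEquivOfLe inf_le_right).finrank_eq
  by_contra hne
  push Not at hne
  have h5 : (LinearMap.ker Φ).map A.subtype ≤ A ⊓ W := by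
    rintro _ ⟨a, ha, rfl⟩
    refine ⟨a.2, ?_⟩
    by_contra haW
    obtain ⟨w, hw, hwa⟩ := hne a a.2 haW
    exact hwa (by rw [C.symm]; exact LinearMap.congr_fun (LinearMap.mem_ker.mp ha) ⟨w, hw⟩)
  have h6 := Submodule.finrank_mono h5
  rw [(Submodule.equivMapOfInjective _ A.injective_subtype _).finrank_eq.symm] at h6
  omega

/-- A reflection changes the parity of the intersection. -/
theorem parity_flip (C : Space Q B) {A D : Submodule F (ι → F)} (hA : IsHalf Q A)
    (hD : IsHalf Q D) {v : ι → F} (hv : Q v ≠ 0) :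
    (finrank F (A ⊓ D : Submodule F (ι → F)) +
      finrank F (A ⊓ img (rGL Q v) D : Submodule F (ι → F))) % 2 = 1 := by
  set D' := img (rGL Q v) D with hD'
  set D0 := D ⊓ LinearMap.ker (B v) with hD0
  have hfix : ∀ y, B v y = 0 → (y ∈ D' ↔ y ∈ D) := fun y hy => by
    rw [hD', mem_img, rGL_inv C hv, rGL_fix C hv hy]
  obtain ⟨x0, hx0, hvx0⟩ : ∃ x0 ∈ D, B v x0 = 1 := by
    obtain ⟨x, hx, hvx⟩ : ∃ x ∈ D, B v x ≠ 0 := by
      by_contra hne
      push Not at hne
      exact hv (hD.1 v (hD.perp_mem C fun a ha => by rw [C.symm]; exact hne a ha))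
    exact ⟨(B v x)⁻¹ • x, D.smul_mem _ hx,
      by rw [map_smul, smul_eq_mul, inv_mul_cancel₀ hvx]⟩
  have hD0lt : finrank F D0 < finrank F A := by
    have hlt : D0 < D := lt_of_le_of_ne inf_le_left fun h => by
      have : x0 ∈ D0 := h ▸ hx0
      exact one_ne_zero (hvx0 ▸ LinearMap.mem_ker.mp (Submodule.mem_inf.mp this).2)
    have := Submodule.finrank_lt_finrank_of_lt hlt
    have := hA.2
    have := hD.2
    omega
  set S := A ⊓ D0
  have hsub : ∀ {y}, y ∈ A → B v y = 0 → y ∈ D → y ∈ S := fun h1 h2 h3 => ⟨h1, h3, h2⟩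
  have hle1 : finrank F (A ⊓ D : Submodule F (ι → F)) ≤ finrank F S + 1 := by
    refine (finrank_inf_ker_ge (A ⊓ D) (B v)).trans (Nat.add_le_add_right ?_ 1)
    exact Submodule.finrank_mono fun y hy => hsub hy.1.1 hy.2 hy.1.2
  have hle2 : finrank F (A ⊓ D' : Submodule F (ι → F)) ≤ finrank F S + 1 := by
    refine (finrank_inf_ker_ge (A ⊓ D') (B v)).trans (Nat.add_le_add_right ?_ 1)
    exact Submodule.finrank_mono fun y hy => hsub hy.1.1 hy.2 ((hfix y hy.2).mp hy.1.2)
  have hge1 : S ≤ A ⊓ D := fun y hy => ⟨hy.1, hy.2.1⟩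
  have hge2 : S ≤ A ⊓ D' := fun y hy => ⟨hy.1, (hfix y hy.2.2).mpr hy.2.1⟩
  have notboth : ¬ ((∃ x ∈ A ⊓ D, B v x ≠ 0) ∧ ∃ x ∈ A ⊓ D', B v x ≠ 0) := by
    rintro ⟨⟨x, ⟨hxA, hxD⟩, hvx⟩, x', ⟨hx'A, hx'D⟩, hvx'⟩
    have hb := mem_img.mp hx'D
    rw [rGL_inv C hv, rGL_act C hv] at hb
    set c := (Q v)⁻¹ * B v x'
    have hc : c ≠ 0 := mul_ne_zero (inv_ne_zero hv) hvx'
    set t := B v (x' - c • v) / B v x with ht
    have ha : x' - t • x ∈ A := A.sub_mem hx'A (A.smul_mem _ hxA)
    set b0 := x' - c • v - t • x with hb0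
    have hb0D : b0 ∈ D := D.sub_mem hb (D.smul_mem _ hxD)
    have hvb0 : B v b0 = 0 := by
      rw [hb0, map_sub, map_smul, ht, smul_eq_mul, div_mul_cancel₀ _ hvx, sub_self]
    have h := hA.1 _ ha
    rw [show x' - t • x = b0 + c • v by rw [hb0]; abel, C.add, C.smul, hD.1 _ hb0D, map_smul,
      C.symm b0 v, hvb0] at h
    simp [hc, hv] at h
  have notneither : (∃ x ∈ A ⊓ D, B v x ≠ 0) ∨ ∃ x ∈ A ⊓ D', B v x ≠ 0 := by
    by_contra hne
    push Not at hne
    obtain ⟨hne1, hne2⟩ := hne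
    obtain ⟨a, haA, haD0, hperp⟩ := exists_mem_perp C hA hD0lt
    set β := B x0 a with hβ
    have hzD : a - β • v ∈ D := hD.perp_mem C fun d hd => by
      have h0 : d - B v d • x0 ∈ D0 := ⟨D.sub_mem hd (D.smul_mem _ hx0),
        LinearMap.mem_ker.mpr (by rw [map_sub, map_smul, hvx0, smul_eq_mul, mul_one, sub_self])⟩
      have h1 := hperp _ h0
      rw [map_sub, LinearMap.sub_apply, map_smul, LinearMap.smul_apply, smul_eq_mul,
        sub_eq_zero] at h1
      rw [map_sub, map_smul, h1, C.symm d v, smul_eq_mul, hβ]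
      ring
    by_cases hβ0 : β = 0
    · rw [hβ0, zero_smul, sub_zero] at hzD
      exact haD0 ⟨hzD, LinearMap.mem_ker.mpr (hne1 a ⟨haA, hzD⟩)⟩
    · have h := hA.1 a haA
      rw [show a = (a - β • v) + β • v by abel, C.add, C.smul, hD.1 _ hzD, map_smul,
        C.symm _ v, smul_eq_mul] at h
      have h2 : B v (a - β • v) = -(β * Q v) := mul_left_cancel₀ hβ0 (by linear_combination h)
      have haD' : a ∈ D' := by
        refine ⟨a - β • v, hzD, ?_⟩
        show (rGL Q v).val *ᵥ _ = a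
        rw [rGL_act C hv, h2]
        match_scalars
        · ring
        · field_simp; ring
      have h3 := hne2 a ⟨haA, haD'⟩
      rw [map_sub, map_smul, h3, C.self, smul_eq_mul] at h2
      exact hv ((mul_eq_zero.mp (show β * Q v = 0 by linear_combination -h2)).resolve_left hβ0)
  rcases notneither with h1 | h2
  · obtain ⟨x, hx, hvx⟩ := h1
    have e1 := Submodule.finrank_lt_finrank_of_lt (lt_of_le_of_ne hge1
      fun h => hvx (LinearMap.mem_ker.mp (h ▸ hx : x ∈ S).2.2))
    have e2 : A ⊓ D' ≤ S := fun y hy => by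
      by_cases hvy : B v y = 0
      · exact hsub hy.1 hvy ((hfix y hvy).mp hy.2)
      · exact absurd ⟨⟨x, hx, hvx⟩, y, hy, hvy⟩ notboth
    rw [le_antisymm e2 hge2]
    omega
  · obtain ⟨x, hx, hvx⟩ := h2
    have e1 := Submodule.finrank_lt_finrank_of_lt (lt_of_le_of_ne hge2
      fun h => hvx (LinearMap.mem_ker.mp (h ▸ hx : x ∈ S).2.2))
    have e2 : A ⊓ D ≤ S := fun y hy => by
      by_cases hvy : B v y = 0
      · exact hsub hy.1 hvy hy.2
      · exact absurd ⟨⟨y, hy, hvy⟩, x, hx, hvx⟩ notboth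
    rw [le_antisymm e2 hge1]
    omega

/-- Elements of `Ω` preserve the parity of intersections of half-dimensional subspaces. -/
theorem omega_parity [Finite F] (C : Space Q B) (h5 : 5 ≤ Fintype.card ι) {g : GL ι F}
    (hg : g ∈ Cfsg.Geo.omegaGL Q) {A D : Submodule F (ι → F)} (hA : IsHalf Q A)
    (hD : IsHalf Q D) : finrank F (A ⊓ img g D : Submodule F (ι → F)) % 2 =
      finrank F (A ⊓ D : Submodule F (ι → F)) % 2 := by
  let P : Subgroup (GL ι F) :=
    { carrier := {g | g ∈ isometryGroup F Q ∧ ∀ A D : Submodule F (ι → F), IsHalf Q A → IsHalf Q D →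
        finrank F (A ⊓ img g D : Submodule F (ι → F)) % 2 =
          finrank F (A ⊓ D : Submodule F (ι → F)) % 2}
      mul_mem' := fun {a b} ha hb => ⟨mul_mem ha.1 hb.1, fun A D hA hD => by
        rw [img_mul, ha.2 A _ hA (hD.img hb.1), hb.2 A D hA hD]⟩
      one_mem' := ⟨one_mem _, fun A D _ _ => by rw [img_one]⟩
      inv_mem' := fun {a} ha => ⟨inv_mem ha.1, fun A D hA hD => by
        rw [← ha.2 A _ hA (hD.img (inv_mem ha.1)), ← img_mul, mul_inv_cancel, img_one]⟩ }
  suffices Cfsg.Geo.omegaGL Q ≤ P from (this hg).2 A D hA hD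
  rw [omegaGL_eq C h5]
  have key : ∀ u a, Q u = 0 → B u a = 0 → Q a ≠ 0 → sGL Q B u a ∈ P := fun u a hu hua ha => by
    refine ⟨sGL_mem C hu hua, fun A D hA hD => ?_⟩
    obtain ⟨h1, h2⟩ := rGL_mul_rGL C ha hu hua
    have hb : Q (a + Q a • u) ≠ 0 := by rwa [h1]
    have e1 := parity_flip C hA hD hb
    have e2 := parity_flip C hA (hD.img (rGL_mem C hb)) ha
    rw [← img_mul, h2] at e2
    omega
  refine root_le_of_pairs C h5 P fun u v hu hv huv => ?_
  obtain ⟨z, hz, hQz⟩ : ∃ z ∈ perp2 B ⊤ u v, Q z ≠ 0 :=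
    exists_nonsing_of_lt C (by
      have := finrank_ker_prod_ge (B := B) u v
      omega)
  obtain ⟨-, huz, hvz⟩ := mem_perp2.mp hz
  have h1 : B u (v + z) = 0 := by rw [map_add, huv, huz, add_zero]
  have h2 : B u (-z) = 0 := by rw [map_neg, huz, neg_zero]
  rw [show v = (v + z) + -z by abel, ← sGL_mul C hu h1 h2]
  exact mul_mem (key _ _ hu h1 (by rwa [C.add, hv, hvz, zero_add, add_zero]))
    (key _ _ hu h2 (by rwa [C.neg]))

end Cfsg.Lib.Linear.Orth
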