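import Cfsg.Agent.Lib.Linear.OrthParity

/-!
# In characteristic two no orthogonal transvection lies in `Ω`

Doubling the space gives a plus type form, where the two families of maximal totally singular
subspaces separate reflections from `Ω`.
-/

set_option autoImplicit false

namespace Cfsg.Lib.Linear.Orth

open Module
open scoped Matrix

variable {ι : Type} [Fintype ι] [DecidableEq ι] {F : Type*} [Field F]
  {Q : (ι → F) → F} {B : LinearMap.BilinForm F (ι → F)}

/-- Two copies of a quadratic form. -/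
def dblQ (Q : (ι → F) → F) (v : ι ⊕ ι → F) : F := Q (v ∘ Sum.inl) + Q (v ∘ Sum.inr)

/-- The polar form of two copies. -/
def dblB (B : LinearMap.BilinForm F (ι → F)) : LinearMap.BilinForm F (ι ⊕ ι → F) :=
  LinearMap.mk₂ F (fun u v => B (u ∘ Sum.inl) (v ∘ Sum.inl) + B (u ∘ Sum.inr) (v ∘ Sum.inr))
    (fun a b c => by simp [Pi.add_comp]; ring) (fun c a b => by simp [Pi.smul_comp]; ring)
    (fun a b c => by simp [Pi.add_comp]; ring) (fun c a b => by simp [Pi.smul_comp]; ring)

theorem Space.dbl (C : Space Q B) : Space (dblQ Q) (dblB B) := by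
  refine ⟨fun c v => ?_, fun u v => ?_, fun v hv => ?_⟩
  · simp [dblQ, Pi.smul_comp, C.smul]; ring
  · simp only [dblQ, dblB, QuadraticMap.polar, LinearMap.mk₂_apply, Pi.add_comp, C.add]
    ring
  · have h1 : v ∘ Sum.inl = 0 := C.nondeg _ fun u => by
      simpa [dblB] using hv (Sum.elim u 0)
    have h2 : v ∘ Sum.inr = 0 := C.nondeg _ fun u => by
      simpa [dblB] using hv (Sum.elim 0 u)
    funext i
    rcases i with i | i
    · exact congrFun h1 i
    · exact congrFun h2 i

/-- A matrix acting on the first copy. -/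
def dblHom : GL ι F →* GL (ι ⊕ ι) F :=
  Units.map
    { toFun := fun M => Matrix.fromBlocks M 0 0 1
      map_one' := Matrix.fromBlocks_one
      map_mul' := fun M N => by simp [Matrix.fromBlocks_multiply] }

theorem dblHom_act (g : GL ι F) (v : ι ⊕ ι → F) :
    ((dblHom g).val *ᵥ v) ∘ Sum.inl = g.val *ᵥ (v ∘ Sum.inl) ∧
      ((dblHom g).val *ᵥ v) ∘ Sum.inr = v ∘ Sum.inr := by
  show (Matrix.fromBlocks g.val 0 0 1 *ᵥ v) ∘ Sum.inl = _ ∧
    (Matrix.fromBlocks g.val 0 0 1 *ᵥ v) ∘ Sum.inr = _
  rw [Matrix.fromBlocks_mulVec]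
  simp

theorem dblHom_mem {g : GL ι F} (hg : g ∈ isometryGroup F Q) :
    dblHom g ∈ isometryGroup F (dblQ Q) := mem_iso.mpr fun v => by
  rw [dblQ, dblQ, (dblHom_act g v).1, (dblHom_act g v).2, mem_iso.mp hg]

theorem rGL_notMem_omega [Finite F] (C : Space Q B) (h2 : (2 : F) = 0)
    (h5 : 5 ≤ Fintype.card ι) {w : ι → F} (hw : Q w ≠ 0) : rGL Q w ∉ Cfsg.Geo.omegaGL Q := by
  intro hmem
  have C2 := C.dbl
  have hcard : Fintype.card (ι ⊕ ι) = Fintype.card ι + Fintype.card ι := Fintype.card_sum
  let φ : (ι → F) →ₗ[F] (ι ⊕ ι → F) :=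
    { toFun := fun v => Sum.elim v v
      map_add' := fun a b => by funext i; rcases i with i | i <;> rfl
      map_smul' := fun c a => by funext i; rcases i with i | i <;> rfl }
  have hφ : Function.Injective φ := fun a b h => funext fun i => congrFun h (Sum.inl i)
  have hA : IsHalf (dblQ Q) (LinearMap.range φ) := by
    refine ⟨?_, ?_⟩
    · rintro _ ⟨v, rfl⟩
      show Q (Sum.elim v v ∘ Sum.inl) + Q (Sum.elim v v ∘ Sum.inr) = 0
      rw [Sum.elim_comp_inl, Sum.elim_comp_inr]
      linear_combination Q v * h2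
    · rw [LinearMap.finrank_range_of_inj hφ, finrank_fintype_fun_eq_card, hcard]; ring
  have hw2 : dblQ Q (Sum.elim w 0) ≠ 0 := by
    simpa [dblQ, C.zero] using hw
  have heq : dblHom (rGL Q w) = rGL (dblQ Q) (Sum.elim w 0) := by
    refine gl_ext fun v => ?_
    rw [rGL_act C2 hw2]
    funext i
    rcases i with i | i
    · refine (congrFun (dblHom_act (rGL Q w) v).1 i).trans ?_
      rw [rGL_act C hw]
      simp [dblB, dblQ, C.zero]
    · refine (congrFun (dblHom_act (rGL Q w) v).2 i).trans ?_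
      simp
  have hmap : dblHom (rGL Q w) ∈ Cfsg.Geo.omegaGL (dblQ Q) := by
    rw [omegaGL_eq C2 (by omega), ← comm_eq_root C2 (by omega)]
    rw [omegaGL_eq C h5, ← comm_eq_root C h5] at hmem
    have := Subgroup.mem_map_of_mem dblHom hmem
    rw [Subgroup.map_commutator] at this
    refine Subgroup.commutator_mono ?_ ?_ this <;>
      exact Subgroup.map_le_iff_le_comap.mpr fun g hg => dblHom_mem hg
  rw [heq] at hmap
  have h1 := omega_parity C2 (by omega) hmap hA hA
  have h3 := parity_flip C2 hA hA hw2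
  omega

end Cfsg.Lib.Linear.Orth
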