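import Cfsg.Agent.S0786
import Cfsg.Agent.Lib.Linear.OrthDouble

/-!
# The spinor character and the Dickson invariant over finite fields

For odd characteristic the sign of the permutation of the vectors of a fixed norm separates the two
classes of reflections; in characteristic two the parity of the fixed space is a homomorphism.
-/

set_option autoImplicit false

namespace Cfsg.Lib.Linear.Orth

open Module
open scoped Matrix commutatorElement

variable {ι : Type} [Fintype ι] [DecidableEq ι] {F : Type*} [Field F]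
  {Q : (ι → F) → F} {B : LinearMap.BilinForm F (ι → F)}

/-! ## Reflections generate -/

theorem refl_closure [Fintype F] (C : Space Q B)
    (h : Fintype.card F ≠ 2 ∨ Fintype.card ι ≠ 4) :
    isometryGroup F Q = Subgroup.closure {g | ∃ v, Q v ≠ 0 ∧ g = rGL Q v} := by
  refine le_antisymm ?_ ((Subgroup.closure_le _).mpr fun g ⟨v, hv, hg⟩ => hg ▸ rGL_mem C hv)
  have hr : ∀ v, Q v ≠ 0 → rGL Q v ∈ Subgroup.closure {g | ∃ v, Q v ≠ 0 ∧ g = rGL Q v} :=
    fun v hv => Subgroup.subset_closure ⟨v, hv, rfl⟩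
  rw [iso_eq_closure C, Subgroup.closure_le]
  rintro _ (⟨v, hv, rfl⟩ | ⟨u, v, hu, hv, huv, rfl⟩)
  · exact hr v hv
  · exact Cfsg.Agent.S0786.pair_mem C h _ hr hu hv huv

/-- A reflection as an element of the isometry group. -/
noncomputable def rI (C : Space Q B) (v : ι → F) (hv : Q v ≠ 0) : ↥(isometryGroup F Q) :=
  ⟨rGL Q v, rGL_mem C hv⟩

theorem rI_val (C : Space Q B) {v : ι → F} (hv : Q v ≠ 0) :
    ((rI C v hv : ↥(isometryGroup F Q)) : GL ι F) = rGL Q v := rfl

theorem rI_sq (C : Space Q B) {v : ι → F} (hv : Q v ≠ 0) : rI C v hv * rI C v hv = 1 :=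
  Subtype.ext (rGL_sq C hv)

/-- Induction over products of reflections. -/
theorem refl_induction [Fintype F] (C : Space Q B)
    (h : Fintype.card F ≠ 2 ∨ Fintype.card ι ≠ 4) (p : ↥(isometryGroup F Q) → Prop) (h1 : p 1)
    (hmul : ∀ v (hv : Q v ≠ 0) g, p g → p (rI C v hv * g)) (g : ↥(isometryGroup F Q)) : p g := by
  obtain ⟨g, hg⟩ := g
  have hg' := hg
  rw [refl_closure C h] at hg'
  suffices hmain : ∀ hh : g ∈ isometryGroup F Q, p ⟨g, hh⟩ from hmain hg
  refine Subgroup.closure_induction_left (p := fun g _ => ∀ hh : g ∈ isometryGroup F Q, p ⟨g, hh⟩)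
    (fun _ => h1) ?_ ?_ hg'
  · rintro x ⟨v, hv, rfl⟩ y hy ih hh
    have hy' : y ∈ isometryGroup F Q := by rw [refl_closure C h]; exact hy
    exact hmul v hv _ (ih hy')
  · rintro x ⟨v, hv, rfl⟩ y hy ih hh
    have hy' : y ∈ isometryGroup F Q := by rw [refl_closure C h]; exact hy
    have : (⟨(rGL Q v)⁻¹ * y, hh⟩ : ↥(isometryGroup F Q)) = rI C v hv * ⟨y, hy'⟩ :=
      Subtype.ext (by simp [rI_val C hv, rGL_inv C hv])
    rw [this]
    exact hmul v hv _ (ih hy')

/-- A vector is as good as its multiples. -/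
theorem rGL_smul (C : Space Q B) {v : ι → F} (hv : Q v ≠ 0) {c : F} (hc : c ≠ 0) :
    rGL Q (c • v) = rGL Q v := gl_ext fun x => by
  have hcv : Q (c • v) ≠ 0 := by rw [C.smul]; exact mul_ne_zero (pow_ne_zero 2 hc) hv
  rw [rGL_act C hcv, rGL_act C hv, C.smul, map_smul, LinearMap.smul_apply, smul_eq_mul, smul_smul]
  congr 2
  field_simp

/-- Vectors of equal non-zero norm have conjugate reflections. -/
theorem refl_conj [Fintype F] (C : Space Q B) (h : Fintype.card F ≠ 2 ∨ Fintype.card ι ≠ 4)
    {x y : ι → F} (hx : Q x ≠ 0) (hxy : Q x = Q y) :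
    ∃ g ∈ isometryGroup F Q, g * rGL Q x * g⁻¹ = rGL Q y := by
  have hy : Q y ≠ 0 := hxy ▸ hx
  have key : ∀ g ∈ isometryGroup F Q, ∀ c : F, c ≠ 0 → g.val *ᵥ x = c • y →
      ∃ g ∈ isometryGroup F Q, g * rGL Q x * g⁻¹ = rGL Q y := fun g hg c hc hgx =>
    ⟨g, hg, by rw [rGL_conj C hx hg, hgx, rGL_smul C hy hc]⟩
  have step : ∀ {a b : ι → F}, Q a = Q b → Q (a - b) ≠ 0 → (rGL Q (a - b)).val *ᵥ a = b := by
    intro a b hab hne
    have h1 : B (a - b) a = Q (a - b) := by
      have h2 := C.add (a - b) b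
      rw [sub_add_cancel, map_sub, LinearMap.sub_apply, C.self b, hab] at h2
      rw [map_sub, LinearMap.sub_apply, C.self a, hab, C.symm b a]
      linear_combination h2
    rw [rGL_act C hne, h1, inv_mul_cancel₀ hne, one_smul, sub_sub_cancel]
  by_cases h2 : (2 : F) = 0
  · have hsub : ∀ {a b : ι → F}, Q a = Q b → B a b ≠ 0 → Q (a - b) ≠ 0 := by
      intro a b hab hB h0
      rw [sub_eq_add_neg, C.add, C.neg, map_neg, ← hab] at h0
      exact hB (by linear_combination (Q a) * h2 - h0)
    by_cases hB : B x y ≠ 0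
    · exact key _ (rGL_mem C (hsub hxy hB)) 1 one_ne_zero
        (by rw [step hxy (hsub hxy hB), one_smul])
    push Not at hB
    by_cases hmul : ∃ c : F, y = c • x
    · obtain ⟨c, rfl⟩ := hmul
      have hc : c ≠ 0 := fun h => hy (by rw [h, zero_smul, C.zero])
      exact ⟨1, one_mem _, by rw [rGL_smul C hx hc]; group⟩
    have hx0 : x ≠ 0 := fun h => hx (h ▸ C.zero)
    have hy0 : y ≠ 0 := fun h => hy (h ▸ C.zero)
    obtain ⟨w, hwx, hwy⟩ : ∃ w, B x w ≠ 0 ∧ B y w ≠ 0 := by
      obtain ⟨a, ha⟩ := C.exists_pair hx0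
      obtain ⟨b, hb⟩ := C.exists_pair hy0
      by_cases ha' : B y a = 0
      · by_cases hb' : B x b = 0
        · exact ⟨a + b, by simp [ha, hb'], by simp [ha', hb]⟩
        · exact ⟨b, hb', by simp [hb]⟩
      · exact ⟨a, by simp [ha], ha'⟩
    by_cases hq : Fintype.card F = 2
    · have h5 : 5 ≤ Fintype.card ι := by
        have h4 : Fintype.card ι ≠ 4 := h.resolve_left (not_not.mpr hq)
        have hli : LinearIndependent F ![x, y, w] := by
          rw [Fintype.linearIndependent_iff]
          intro g hg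
          simp only [Fin.sum_univ_three, Matrix.cons_val_zero, Matrix.cons_val_one,
            Matrix.cons_val] at hg
          have h3 := congrArg (B x) hg
          simp [C.self, h2, hB, hwx] at h3
          rw [h3, zero_smul, add_zero] at hg
          have hb : g 1 = 0 := by
            by_contra hb
            refine hmul ⟨-((g 1)⁻¹ * g 0), ?_⟩
            have h4 : g 1 • y = -(g 0 • x) := eq_neg_of_add_eq_zero_right hg
            rw [neg_smul, ← smul_smul, ← smul_neg, ← h4, inv_smul_smul₀ hb]
          rw [hb, zero_smul, add_zero, smul_eq_zero] at hg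
          intro i
          fin_cases i
          exacts [hg.resolve_right hx0, hb, h3]
        have hle := hli.fintype_card_le_finrank
        rw [Fintype.card_fin, finrank_fintype_fun_eq_card] at hle
        by_contra hlt
        have htop := hli.span_eq_top_of_card_eq_finrank
          (by rw [Fintype.card_fin, finrank_fintype_fun_eq_card]; omega)
        have hz : x - y = 0 := C.nondeg' fun u => by
          have hu : u ∈ Submodule.span F (Set.range ![x, y, w]) := htop ▸ Submodule.mem_top
          have hle : Submodule.span F (Set.range ![x, y, w]) ≤ LinearMap.ker (B (x - y)) := by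
            rw [Submodule.span_le]
            rintro _ ⟨i, rfl⟩
            have h01 : ∀ t : F, t = 0 ∨ t = 1 := fun t => by
              classical
              by_contra hne
              push Not at hne
              have := Finset.card_le_univ ({0, 1, t} : Finset F)
              rw [Finset.card_insert_of_notMem (by simp [hne.1.symm]),
                Finset.card_pair hne.2.symm, hq] at this
              omega
            have e1 : B x w = B y w :=
              ((h01 _).resolve_left hwx).trans ((h01 _).resolve_left hwy).symm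
            refine LinearMap.mem_ker.mpr ?_
            fin_cases i <;> simp [C.self, h2, hB, C.symm y x, e1]
          exact LinearMap.mem_ker.mp (hle hu)
        exact hmul ⟨1, by rw [one_smul, sub_eq_zero.mp hz]⟩
      obtain ⟨g, hg, hgx⟩ := trans_top C h5 hx0 hy0 hxy
      exact key g (root_le_iso C _ hg) 1 one_ne_zero (by rw [hgx, one_smul])
    obtain ⟨v, hv, hvx, hvy⟩ : ∃ v, Q v ≠ 0 ∧ B x v ≠ 0 ∧ B y v ≠ 0 := by
      by_cases hw : Q w ≠ 0
      · exact ⟨w, hw, hwx, hwy⟩
      push Not at hw
      classical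
      obtain ⟨t, -, ht⟩ : ∃ t ∈ (Finset.univ : Finset F), t ∉ ({0, -(B x w) / Q x} : Finset F) := by
        refine Finset.exists_mem_notMem_of_card_lt_card (lt_of_le_of_lt Finset.card_le_two ?_)
        have := Fintype.one_lt_card (α := F)
        rw [Finset.card_univ]; omega
      simp only [Finset.mem_insert, Finset.mem_singleton, not_or, eq_div_iff hx] at ht
      refine ⟨w + t • x, ?_, by simp [C.self, h2, hwx], by simp [C.symm y x, hB, hwy]⟩
      rw [C.add, C.smul, hw, map_smul, C.symm w x, smul_eq_mul,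
        show (0 : F) + t ^ 2 * Q x + t * B x w = t * (t * Q x + B x w) by ring]
      exact mul_ne_zero ht.1 fun h0 => ht.2 (by linear_combination h0)
    haveI : CharP F 2 := CharTwo.of_one_ne_zero_of_two_eq_zero one_ne_zero h2
    obtain ⟨c, hc⟩ := FiniteField.isSquare_of_char_two (ringChar.eq F 2) (Q x / Q v)
    have hc0 : c ≠ 0 := fun h0 => div_ne_zero hx hv (by rw [hc, h0, mul_zero])
    have hcv : Q x = Q (c • v) := by
      rw [C.smul, sq, ← hc, div_mul_cancel₀ _ hv]
    have h1 := hsub hcv (by rw [map_smul]; exact smul_ne_zero hc0 hvx)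
    have h3 := hsub (hcv.symm.trans hxy)
      (by rw [map_smul, LinearMap.smul_apply, C.symm]; exact smul_ne_zero hc0 hvy)
    refine key _ (mul_mem (rGL_mem C h3) (rGL_mem C h1)) 1 one_ne_zero ?_
    rw [mul_act, step hcv h1, step (hcv.symm.trans hxy) h3, one_smul]
  · by_cases hne : Q (x - y) ≠ 0
    · exact key _ (rGL_mem C hne) 1 one_ne_zero (by rw [step hxy hne, one_smul])
    push Not at hne
    have hne' : Q (x - -y) ≠ 0 := fun h0 => by
      rw [sub_neg_eq_add, C.add] at h0
      rw [sub_eq_add_neg, C.add, C.neg, map_neg] at hne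
      have h4 : (2 : F) * 2 * Q x = 0 := by linear_combination h0 + hne + 2 * hxy
      exact hx ((mul_eq_zero.mp h4).resolve_left (mul_ne_zero h2 h2))
    exact key _ (rGL_mem C hne') (-1) (neg_ne_zero.mpr one_ne_zero)
      (by rw [step (by rw [C.neg, hxy]) hne', neg_one_smul])

/-! ## Upper bounds for indices -/

theorem rI_mul_mem_comm [Fintype F] (C : Space Q B)
    (h : Fintype.card F ≠ 2 ∨ Fintype.card ι ≠ 4) {v w : ι → F} (hv : Q v ≠ 0) (hw : Q w ≠ 0)
    (hs : IsSquare (Q v / Q w)) :
    rI C v hv * rI C w hw ∈ commutator ↥(isometryGroup F Q) := by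
  obtain ⟨c, hc⟩ := hs
  have hc0 : c ≠ 0 := fun h0 => div_ne_zero hv hw (by rw [hc, h0, mul_zero])
  have hcw : Q (c • w) = Q v := by rw [C.smul, sq, ← hc, div_mul_cancel₀ _ hw]
  obtain ⟨g, hg, hgv⟩ := refl_conj C h hv hcw.symm
  rw [rGL_smul C hw hc0] at hgv
  have he : rI C v hv * rI C w hw = ⁅rI C v hv, (⟨g, hg⟩ : ↥(isometryGroup F Q))⁆ := by
    refine Subtype.ext ?_
    show rGL Q v * rGL Q w = rGL Q v * g * (rGL Q v)⁻¹ * g⁻¹
    rw [rGL_inv C hv, mul_assoc (rGL Q v), mul_assoc (rGL Q v), hgv]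
  rw [he]
  exact Subgroup.commutator_mem_commutator (Subgroup.mem_top _) (Subgroup.mem_top _)

theorem index_le_four [Fintype F] (C : Space Q B)
    (h : Fintype.card F ≠ 2 ∨ Fintype.card ι ≠ 4) (N : Subgroup ↥(isometryGroup F Q))
    (hN : commutator ↥(isometryGroup F Q) ≤ N) {v0 v1 : ι → F} (h0 : Q v0 ≠ 0) (h1 : Q v1 ≠ 0)
    (hcl : ∀ v (hv : Q v ≠ 0), rI C v hv * rI C v0 h0 ∈ N ∨ rI C v hv * rI C v1 h1 ∈ N) :
    N.index ≤ 4 ∧ (rI C v0 h0 * rI C v1 h1 ∈ N → N.index ≤ 2) := by
  haveI : N.Normal := ⟨fun n hn g => by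
    have h1 := N.mul_mem (hN (Subgroup.commutator_mem_commutator (Subgroup.mem_top g)
      (Subgroup.mem_top n))) hn
    rwa [commutatorElement_def, inv_mul_cancel_right] at h1⟩
  set π := QuotientGroup.mk' N with hπ
  have hker : ∀ g, π g = 1 ↔ g ∈ N := fun g => QuotientGroup.eq_one_iff g
  have hcomm : ∀ x y, π x * π y = π y * π x := fun x y => by
    have : π ⁅x, y⁆ = 1 := (hker _).mpr (hN
      (Subgroup.commutator_mem_commutator (Subgroup.mem_top _) (Subgroup.mem_top _)))
    rw [map_commutatorElement, commutatorElement_eq_one_iff_mul_comm] at this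
    exact this
  set a := π (rI C v0 h0) with ha
  set b := π (rI C v1 h1) with hb
  have ha2 : a * a = 1 := by rw [ha, ← map_mul, rI_sq, map_one]
  have hb2 : b * b = 1 := by rw [hb, ← map_mul, rI_sq, map_one]
  have hgen : ∀ g, ∃ i j : Bool, π g = (if i then a else 1) * (if j then b else 1) := by
    refine refl_induction C h _ ⟨false, false, by simp⟩ ?_
    rintro v hv g ⟨i, j, hg⟩
    have hv' : π (rI C v hv) = a ∨ π (rI C v hv) = b := by
      rcases hcl v hv with hm | hm <;> [left; right] <;>
      · have h2 := (hker _).mpr hm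
        rw [map_mul] at h2
        first
          | rw [eq_inv_of_mul_eq_one_left h2, inv_eq_of_mul_eq_one_right ha2]
          | rw [eq_inv_of_mul_eq_one_left h2, inv_eq_of_mul_eq_one_right hb2]
    rcases hv' with hv' | hv'
    · refine ⟨!i, j, ?_⟩
      rw [map_mul, hv', hg]
      cases i <;> simp [← mul_assoc, ha2]
    · refine ⟨i, !j, ?_⟩
      rw [map_mul, hv', hg, ← mul_assoc,
        show b * (if i then a else 1) = (if i then a else 1) * b by
          cases i <;> simp [ha, hb, hcomm], mul_assoc]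
      cases j <;> simp [hb2]
  constructor
  · have := Nat.card_le_card_of_surjective
      (fun p : Bool × Bool => (if p.1 then a else 1) * (if p.2 then b else 1)) fun q => by
        obtain ⟨g, rfl⟩ := QuotientGroup.mk'_surjective N q
        obtain ⟨i, j, hg⟩ := hgen g
        exact ⟨(i, j), hg.symm⟩
    simpa [Subgroup.index] using this
  · intro hab
    have hab' : a = b := by
      have h2 := (hker _).mpr hab
      rw [map_mul] at h2
      rw [ha, eq_inv_of_mul_eq_one_left h2, inv_eq_of_mul_eq_one_right hb2]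
    have := Nat.card_le_card_of_surjective (fun i : Bool => if i then a else 1) fun q => by
        obtain ⟨g, rfl⟩ := QuotientGroup.mk'_surjective N q
        obtain ⟨i, j, hg⟩ := hgen g
        refine ⟨Bool.xor i j, ?_⟩
        change (if Bool.xor i j then a else 1) = π g
        rw [hg, ← hab']
        cases i <;> cases j <;> simp [ha2]
    simpa [Subgroup.index] using this

/-! ## The signature on the vectors of a given norm -/

theorem four_dvd_card {α : Type*} [DecidableEq α] (f g : α → α) (hf : ∀ x, f (f x) = x)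
    (hg : ∀ x, g (g x) = x) (hfg : ∀ x, f (g x) = g (f x)) (s : Finset α)
    (hfs : ∀ x ∈ s, f x ∈ s ∧ g x ∈ s ∧ f x ≠ x ∧ g x ≠ x ∧ f x ≠ g x) : 4 ∣ s.card := by
  induction s using Finset.strongInduction with
  | H s ih =>
    rcases s.eq_empty_or_nonempty with rfl | ⟨x, hx⟩
    · simp
    obtain ⟨h1, h2, h3, h4, h5⟩ := hfs x hx
    set t : Finset α := {x, f x, g x, f (g x)} with ht
    have hts : t ⊆ s := by
      simp [ht, Finset.insert_subset_iff, hx, h1, h2, (hfs _ h2).1]
    have hc : t.card = 4 := by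
      rw [ht, Finset.card_insert_of_notMem, Finset.card_insert_of_notMem,
        Finset.card_insert_of_notMem, Finset.card_singleton] <;>
        simp only [Finset.mem_insert, Finset.mem_singleton, not_or]
      · exact fun e => (hfs _ h2).2.2.1 e.symm
      · refine ⟨h5, fun e => h4 ?_⟩
        have := congrArg f e
        rw [hf, hf] at this
        exact this.symm
      · refine ⟨fun e => h3 e.symm, fun e => h4 e.symm, fun e => h5 ?_⟩
        have := congrArg f e
        rw [hf] at this
        exact this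
    have hinv : ∀ y ∈ t, f y ∈ t ∧ g y ∈ t := by
      intro y hy
      simp only [ht, Finset.mem_insert, Finset.mem_singleton] at hy ⊢
      rcases hy with rfl | rfl | rfl | rfl <;> simp [hf, hg, ← hfg]
    have h4t := ih (s \ t) (Finset.sdiff_ssubset hts ⟨x, by simp [ht]⟩) fun y hy => by
      obtain ⟨hy1, hy2⟩ := Finset.mem_sdiff.mp hy
      obtain ⟨a1, a2, a3⟩ := hfs y hy1
      refine ⟨Finset.mem_sdiff.mpr ⟨a1, fun hh => hy2 ?_⟩,
        Finset.mem_sdiff.mpr ⟨a2, fun hh => hy2 ?_⟩, a3⟩
      · simpa [hf] using (hinv _ hh).1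
      · simpa [hg] using (hinv _ hh).2
    have := Finset.card_sdiff_add_card_eq_card hts
    omega

/-- The permutation of the vectors of norm `c`. -/
def levelPerm (Q : (ι → F) → F) (c : F) : ↥(isometryGroup F Q) →* Equiv.Perm {x // Q x = c} where
  toFun g :=
    { toFun := fun x => ⟨(g : GL ι F).val *ᵥ x.1, by rw [mem_iso.mp g.2, x.2]⟩
      invFun := fun x => ⟨((g⁻¹ : ↥(isometryGroup F Q)) : GL ι F).val *ᵥ x.1,
        by rw [mem_iso.mp (g⁻¹).2, x.2]⟩
      left_inv := fun x => Subtype.ext (inv_act (g : GL ι F) x.1)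
      right_inv := fun x => Subtype.ext (act_inv (g : GL ι F) x.1) }
  map_one' := Equiv.ext fun x => Subtype.ext (by simp)
  map_mul' g h := Equiv.ext fun x => Subtype.ext (mul_act (g : GL ι F) (h : GL ι F) x.1)

section Sign

variable [Fintype F]

open scoped Classical in
/-- The sign of the permutation of the vectors of norm one. -/
noncomputable def spin (Q : (ι → F) → F) : ↥(isometryGroup F Q) →* ℤˣ :=
  Equiv.Perm.sign.comp (levelPerm Q 1)

open scoped Classical in
/-- The sign of a reflection detects the square class. -/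
theorem spin_rI (C : Space Q B) (h2 : (2 : F) ≠ 0) {v : ι → F} (hv : Q v ≠ 0) :
    spin Q (rI C v hv) = if IsSquare (Q v) then -1 else 1 := by
  classical
  set σ := levelPerm Q 1 (rI C v hv) with hσ
  have hact : ∀ x : {x // Q x = 1}, (σ x).1 = x.1 - ((Q v)⁻¹ * B v x.1) • v := fun x =>
    rGL_act C hv x.1
  have hsq : σ ^ 2 = 1 := by rw [sq, hσ, ← map_mul, rI_sq, map_one]
  have hcy := Equiv.Perm.cycleType_of_pow_prime_eq_one hsq
  show Equiv.Perm.sign σ = _
  rw [Equiv.Perm.sign_of_cycleType_eq_replicate (σ := σ) two_pos hcy, if_neg (by decide)]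
  have hfix : ∀ x : {x // Q x = 1}, σ x = x ↔ B v x.1 = 0 := fun x => by
    rw [Subtype.ext_iff, hact, sub_eq_self, smul_eq_zero, mul_eq_zero]
    simp only [inv_eq_zero, hv, false_or, or_iff_left_iff_imp]
    exact fun h => absurd (h ▸ C.zero) hv
  set M : Finset {x // Q x = 1} := Finset.univ.filter fun x => B v x.1 ≠ 0 with hM
  have hcard : Fintype.card {x // Q x = 1} - Fintype.card (Function.fixedPoints σ) = M.card := by
    rw [← Fintype.card_compl_set, Fintype.card_of_subtype M]
    intro x
    simp [hM, Function.fixedPoints, Function.IsFixedPt, hfix x]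
  rw [hcard]
  set M1 : Finset {x // Q x = 1} := M.filter fun x => ∃ t : F, x.1 = t • v with hM1
  set M2 : Finset {x // Q x = 1} := M.filter fun x => ¬ ∃ t : F, x.1 = t • v with hM2
  have hsplit : M.card = M1.card + M2.card :=
    (Finset.card_filter_add_card_filter_not _).symm
  have hn : ∀ x : {x // Q x = 1}, Q (-x.1) = 1 := fun x => by rw [C.neg, x.2]
  have h4 : 4 ∣ M2.card := by
    refine four_dvd_card (fun x => σ x) (fun x => ⟨-x.1, hn x⟩) (fun x => ?_) (fun x => ?_)
      (fun x => ?_) M2 fun x hx => ?_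
    · rw [← Equiv.Perm.mul_apply, ← sq, hsq, Equiv.Perm.one_apply]
    · exact Subtype.ext (neg_neg _)
    · refine Subtype.ext ?_
      simp only [hact, map_neg, mul_neg, neg_smul]
      abel
    obtain ⟨hxM, hxs⟩ := Finset.mem_filter.mp hx
    have hBx : B v x.1 ≠ 0 := (Finset.mem_filter.mp hxM).2
    have hBσ : B v (σ x).1 = - B v x.1 := by
      rw [hact, map_sub, map_smul, C.self, smul_eq_mul]; field_simp; ring
    have hx0 : x.1 ≠ 0 := fun h => hxs ⟨0, by rw [h, zero_smul]⟩
    refine ⟨?_, ?_, ?_, ?_, ?_⟩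
    · refine Finset.mem_filter.mpr ⟨Finset.mem_filter.mpr ⟨Finset.mem_univ _, by
        rw [hBσ]; exact neg_ne_zero.mpr hBx⟩, fun ⟨t, ht⟩ => hxs ⟨t + (Q v)⁻¹ * B v x.1, ?_⟩⟩
      rw [add_smul, ← ht, hact, sub_add_cancel]
    · exact Finset.mem_filter.mpr ⟨Finset.mem_filter.mpr ⟨Finset.mem_univ _, by simpa using hBx⟩,
        fun ⟨t, ht⟩ => hxs ⟨-t, by rw [neg_smul, ← ht, neg_neg]⟩⟩
    · exact fun e => hBx ((hfix x).mp e)
    · intro e
      have e' := congrArg Subtype.val e
      have : (2 : F) • x.1 = 0 := by rw [two_smul]; nth_rewrite 1 [← e']; exact neg_add_cancel x.1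
      exact hx0 ((smul_eq_zero.mp this).resolve_left h2)
    · intro e
      have e' : x.1 - ((Q v)⁻¹ * B v x.1) • v = -x.1 := by rw [← hact, e]
      refine hxs ⟨(2 : F)⁻¹ * ((Q v)⁻¹ * B v x.1), ?_⟩
      have : (2 : F) • x.1 = ((Q v)⁻¹ * B v x.1) • v := by
        rw [two_smul]; linear_combination (norm := module) e'
      rw [← smul_smul, ← this, inv_smul_smul₀ h2]
  have hmem1 : ∀ x, x ∈ M1 ↔ ∃ t : F, x.1 = t • v := fun x => by
    refine ⟨fun hx => (Finset.mem_filter.mp hx).2, fun ⟨t, ht⟩ =>
      Finset.mem_filter.mpr ⟨Finset.mem_filter.mpr ⟨Finset.mem_univ _, fun h0 => ?_⟩, t, ht⟩⟩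
    rw [ht, map_smul, C.self, smul_eq_mul] at h0
    have h3 := x.2
    rw [ht, C.smul] at h3
    simp [hv, h2] at h0
    simp [h0] at h3
  split_ifs with hs
  · obtain ⟨r, hr⟩ := hs
    have hr0 : r ≠ 0 := fun h => hv (by rw [hr, h, mul_zero])
    have hp : Q (r⁻¹ • v) = 1 := by rw [C.smul, hr]; field_simp
    have hm : Q (-(r⁻¹ • v)) = 1 := by rw [C.neg, hp]
    have h1 : M1 = {⟨r⁻¹ • v, hp⟩, ⟨-(r⁻¹ • v), hm⟩} := by
      ext x
      rw [hmem1, Finset.mem_insert, Finset.mem_singleton, Subtype.ext_iff, Subtype.ext_iff]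
      refine ⟨fun ⟨t, ht⟩ => ?_, ?_⟩
      · have h3 := x.2
        rw [ht, C.smul, hr] at h3
        have : (t * r) * (t * r) = 1 := by linear_combination h3
        rcases mul_self_eq_one_iff.mp this with h | h
        · exact Or.inl (ht.trans (by rw [eq_inv_of_mul_eq_one_left h]))
        · exact Or.inr (ht.trans (show t • v = -(r⁻¹ • v) by
            rw [← neg_smul, ← eq_inv_of_mul_eq_one_left (show -t * r = 1 by linear_combination -h),
              neg_neg]))
      · rintro (h | h)
        · exact ⟨_, h⟩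
        · exact ⟨-r⁻¹, by rw [h, neg_smul]⟩
    have hne : (⟨r⁻¹ • v, hp⟩ : {x // Q x = 1}) ≠ ⟨-(r⁻¹ • v), hm⟩ := fun e => by
      have e0 : r⁻¹ • v = -(r⁻¹ • v) := congrArg Subtype.val e
      have e' : (2 : F) • (r⁻¹ • v) = 0 := by
        rw [two_smul]; nth_rewrite 1 [e0]; exact neg_add_cancel _
      simp [h2, hr0] at e'
      exact hv (e' ▸ C.zero)
    rw [hsplit, h1, Finset.card_pair hne]
    obtain ⟨k, hk⟩ := h4
    rw [hk, show (2 + 4 * k) / 2 = 2 * k + 1 by omega, pow_succ, pow_mul]
    simp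
  · have h1 : M1 = ∅ := Finset.eq_empty_of_forall_notMem fun x hx => by
      obtain ⟨t, ht⟩ := (hmem1 x).mp hx
      have h3 := x.2
      rw [ht, C.smul] at h3
      refine hs ⟨t⁻¹, ?_⟩
      have ht0 : t ≠ 0 := fun h => by rw [h] at h3; simp at h3
      field_simp
      linear_combination h3
    obtain ⟨k, hk⟩ := h4
    rw [hsplit, h1, Finset.card_empty, hk, show (0 + 4 * k) / 2 = 2 * k by omega, pow_mul]
    simp

end Sign

/-! ## The Dickson invariant -/

theorem fixSpace_flip (C : Space Q B) (h2 : (2 : F) = 0) {g : GL ι F}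
    (hg : g ∈ isometryGroup F Q) {v : ι → F} (hv : Q v ≠ 0) :
    (finrank F (fixSpace g) + finrank F (fixSpace (rGL Q v * g))) % 2 = 1 := by
  have C2 := C.dbl
  let φ : (ι → F) →ₗ[F] (ι ⊕ ι → F) :=
    { toFun := fun v => Sum.elim v v
      map_add' := fun a b => by funext i; rcases i with i | i <;> rfl
      map_smul' := fun c a => by funext i; rcases i with i | i <;> rfl }
  have hφ : Function.Injective φ := fun a b h => funext fun i => congrFun h (Sum.inl i)
  have hA : IsHalf (dblQ Q) (LinearMap.range φ) := by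
    refine ⟨?_, ?_⟩
    · rintro _ ⟨v, rfl⟩
      show Q (Sum.elim v v ∘ Sum.inl) + Q (Sum.elim v v ∘ Sum.inr) = 0
      rw [Sum.elim_comp_inl, Sum.elim_comp_inr]
      linear_combination Q v * h2
    · rw [LinearMap.finrank_range_of_inj hφ, finrank_fintype_fun_eq_card, Fintype.card_sum]; ring
  have hw2 : dblQ Q (Sum.elim v 0) ≠ 0 := by simpa [dblQ, C.zero] using hv
  have heq : dblHom (rGL Q v) = rGL (dblQ Q) (Sum.elim v 0) := by
    refine gl_ext fun x => ?_
    rw [rGL_act C2 hw2]
    funext i
    rcases i with i | i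
    · refine (congrFun (dblHom_act (rGL Q v) x).1 i).trans ?_
      rw [rGL_act C hv]
      simp [dblB, dblQ, C.zero]
    · refine (congrFun (dblHom_act (rGL Q v) x).2 i).trans ?_
      simp
  have key : ∀ k : GL ι F, finrank F (fixSpace k) =
      finrank F (LinearMap.range φ ⊓ img (dblHom k) (LinearMap.range φ) :
        Submodule F (ι ⊕ ι → F)) := fun k => by
    have : LinearMap.range φ ⊓ img (dblHom k) (LinearMap.range φ) = (fixSpace k).map φ := by
      apply le_antisymm
      · rintro _ ⟨⟨a, rfl⟩, h⟩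
        obtain ⟨_, ⟨c, rfl⟩, hc⟩ := h
        have h1 := (dblHom_act k (φ c)).1
        have h3 := (dblHom_act k (φ c)).2
        rw [show (dblHom k).val *ᵥ φ c = φ a from hc] at h1 h3
        simp [φ] at h1 h3
        subst h3
        exact ⟨a, mem_fixSpace.mpr h1.symm, rfl⟩
      · rintro _ ⟨a, ha, rfl⟩
        refine ⟨⟨a, rfl⟩, φ a, ⟨a, rfl⟩, ?_⟩
        show (dblHom k).val *ᵥ φ a = φ a
        funext i
        rcases i with i | i
        · refine (congrFun (dblHom_act k (φ a)).1 i).trans ?_
          simp [φ, mem_fixSpace.mp ha]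
        · exact (congrFun (dblHom_act k (φ a)).2 i).trans rfl
    rw [this, (Submodule.equivMapOfInjective φ hφ _).finrank_eq]
  rw [key, key, map_mul, img_mul, heq]
  exact parity_flip C2 hA (hA.img (dblHom_mem hg)) hw2

/-- In characteristic two the parity of the fixed space gives a homomorphism onto two elements. -/
theorem exists_dickson [Fintype F] (C : Space Q B) (h : Fintype.card F ≠ 2 ∨ Fintype.card ι ≠ 4)
    (h2 : (2 : F) = 0) : ∃ δ : ↥(isometryGroup F Q) →* ℤˣ, ∀ v (hv : Q v ≠ 0),
      δ (rI C v hv) = -1 := by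
  have hpar : ∀ (g : ↥(isometryGroup F Q)) (v : ι → F) (hv : Q v ≠ 0),
      (-1 : ℤˣ) ^ (Fintype.card ι + finrank F (fixSpace ((rI C v hv * g : ↥(isometryGroup F Q)) : GL ι F))) =
        -(-1 : ℤˣ) ^ (Fintype.card ι + finrank F (fixSpace (g : GL ι F))) := fun g v hv => by
    have hf := fixSpace_flip C h2 g.2 hv
    show (-1 : ℤˣ) ^ (Fintype.card ι + finrank F (fixSpace (rGL Q v * (g : GL ι F)))) = _
    set a := finrank F (fixSpace (g : GL ι F))
    set b := finrank F (fixSpace (rGL Q v * (g : GL ι F)))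
    rcases Nat.even_or_odd a with ha | ha <;> rcases Nat.even_or_odd b with hb | hb <;>
      simp only [pow_add, ha.neg_one_pow, hb.neg_one_pow] <;>
      first | (exfalso; obtain ⟨x, hx⟩ := ha; obtain ⟨y, hy⟩ := hb; omega) | simp
  have hone : (-1 : ℤˣ) ^ (Fintype.card ι + finrank F (fixSpace (1 : GL ι F))) = 1 := by
    have : fixSpace (1 : GL ι F) = ⊤ := eq_top_iff.mpr fun x _ => mem_fixSpace.mpr (by simp)
    rw [this, finrank_top, finrank_fintype_fun_eq_card, ← two_mul, pow_mul]
    simp
  let f : ↥(isometryGroup F Q) → ℤˣ := fun g =>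
    (-1 : ℤˣ) ^ (Fintype.card ι + finrank F (fixSpace (g : GL ι F)))
  refine ⟨{
    toFun := f
    map_one' := hone
    map_mul' := fun g k => ?_ }, fun v hv => ?_⟩
  · revert k
    refine refl_induction C h (fun g => ∀ k : ↥(isometryGroup F Q), f (g * k) = f g * f k)
      (fun k => ?_) (fun v hv g ih k => ?_) g
    · rw [one_mul]
      show _ = (-1 : ℤˣ) ^ (Fintype.card ι + finrank F (fixSpace (1 : GL ι F))) * _
      rw [hone, one_mul]
    · have ih' := ih k
      simp only [f] at ih' ⊢
      rw [mul_assoc, hpar, ih', hpar]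
      simp
  · have := hpar 1 v hv
    rw [mul_one] at this
    show (-1 : ℤˣ) ^ _ = _
    rw [this]
    show -((-1 : ℤˣ) ^ (Fintype.card ι + finrank F (fixSpace (1 : GL ι F)))) = -1
    rw [hone]

/-! ## The index of `Ω` -/

theorem card_ne_two [Fintype F] (h2 : (2 : F) ≠ 0) : Fintype.card F ≠ 2 := fun h => h2 (by
  have := FiniteField.cast_card_eq_zero F
  rw [h] at this
  exact_mod_cast this)

theorem det_rI (C : Space Q B) {v : ι → F} (hv : Q v ≠ 0) :
    Matrix.GeneralLinearGroup.det ((rI C v hv : ↥(isometryGroup F Q)) : GL ι F) = -1 :=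
  Units.ext (by
    rw [Matrix.GeneralLinearGroup.val_det_apply, rI_val, rGL_det C hv]
    simp)

/-- A space of dimension at least two represents every non-zero value in odd characteristic. -/
theorem exists_value [Fintype F] (C : Space Q B) (h2 : (2 : F) ≠ 0) (hn : 2 ≤ Fintype.card ι)
    {d : F} (hd : d ≠ 0) : ∃ v, Q v = d := by
  obtain ⟨u, -, hu⟩ := exists_nonsing C C.ndeg_top (fun h => by
    have := congrArg (fun U : Submodule F (ι → F) => finrank F U) h
    simp [finrank_fintype_fun_eq_card] at this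
    omega)
  have hproj : ∀ y, B u (y - ((2 * Q u)⁻¹ * B u y) • u) = 0 := fun y => by
    rw [map_sub, map_smul, C.self, smul_eq_mul]; field_simp; ring
  have hK : NDeg B (LinearMap.ker (B u)) := fun x hx hxy => C.nondeg' fun y => by
    have h1 := hxy _ (LinearMap.mem_ker.mpr (hproj y))
    rw [map_sub, map_smul, C.symm x u, LinearMap.mem_ker.mp hx, smul_zero, sub_zero] at h1
    exact h1
  obtain ⟨w, hw, hQw⟩ := exists_nonsing C hK (fun h => by
    have h1 := LinearMap.finrank_range_add_finrank_ker (B u)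
    have h3 := Submodule.finrank_le (LinearMap.range (B u))
    rw [h, finrank_bot, finrank_fintype_fun_eq_card] at h1
    rw [Module.finrank_self] at h3
    omega)
  obtain ⟨a, b, hab⟩ := FiniteField.exists_root_sum_quadratic
    (f := Polynomial.C (Q u) * Polynomial.X ^ 2)
    (g := Polynomial.C (Q w) * Polynomial.X ^ 2 - Polynomial.C d)
    (Polynomial.degree_C_mul_X_pow 2 hu)
    (by
      rw [Polynomial.degree_sub_eq_left_of_degree_lt, Polynomial.degree_C_mul_X_pow 2 hQw]
      · rfl
      · rw [Polynomial.degree_C_mul_X_pow 2 hQw, Polynomial.degree_C hd]; decide)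
    (FiniteField.odd_card_of_char_ne_two (fun h => h2 (by
      haveI := ringChar.charP F
      have := CharP.cast_eq_zero F (ringChar F)
      rw [h] at this
      exact_mod_cast this)))
  refine ⟨a • u + b • w, ?_⟩
  rw [C.smul_add, LinearMap.mem_ker.mp hw]
  simp at hab
  linear_combination hab

/-- The subgroup generated by the squares in the special isometry group. -/
def sqSub (Q : (ι → F) → F) : Subgroup ↥(isometryGroup F Q) :=
  Subgroup.closure {x | ∃ s ∈ specialIsometryGroup F Q, x = s * s}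

theorem sqSub_normal : (sqSub Q).Normal := ⟨fun n hn g => by
  refine Subgroup.closure_induction (p := fun n _ => g * n * g⁻¹ ∈ sqSub Q) ?_ ?_ ?_ ?_ hn
  · rintro x ⟨t, ht, rfl⟩
    refine Subgroup.subset_closure ⟨g * t * g⁻¹, ?_, by group⟩
    exact (MonoidHom.normal_ker _).conj_mem t ht g
  · simp [one_mem]
  · intro x y _ _ hx hy
    rw [show g * (x * y) * g⁻¹ = (g * x * g⁻¹) * (g * y * g⁻¹) by group]
    exact mul_mem hx hy
  · intro x _ hx
    rw [show g * x⁻¹ * g⁻¹ = (g * x * g⁻¹)⁻¹ by group]
    exact inv_mem hx⟩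

/-- The commutator subgroup is generated by squares of special isometries. -/
theorem comm_le_sqSub [Fintype F] (C : Space Q B)
    (h : Fintype.card F ≠ 2 ∨ Fintype.card ι ≠ 4) :
    commutator ↥(isometryGroup F Q) ≤ sqSub Q := by
  haveI : (sqSub Q).Normal := sqSub_normal
  set π := QuotientGroup.mk' (sqSub Q) with hπ
  have hpair : ∀ v (hv : Q v ≠ 0) w (hw : Q w ≠ 0),
      Commute (π (rI C v hv)) (π (rI C w hw)) := fun v hv w hw => by
    have hmem : ⁅rI C v hv, rI C w hw⁆ ∈ sqSub Q := Subgroup.subset_closure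
      ⟨rI C v hv * rI C w hw, by
        show _ ∈ (Matrix.GeneralLinearGroup.det.comp (isometryGroup F Q).subtype).ker
        rw [MonoidHom.mem_ker, map_mul, MonoidHom.comp_apply, MonoidHom.comp_apply,
          Subgroup.coe_subtype, det_rI C hv, det_rI C hw]; simp, by
        rw [commutatorElement_def, inv_eq_of_mul_eq_one_right (rI_sq C hv),
          inv_eq_of_mul_eq_one_right (rI_sq C hw), mul_assoc (_ * _)]⟩
    have h1 : π ⁅rI C v hv, rI C w hw⁆ = 1 := (QuotientGroup.eq_one_iff _).mpr hmem
    rw [map_commutatorElement, commutatorElement_eq_one_iff_mul_comm] at h1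
    exact h1
  have hall : ∀ g k, Commute (π g) (π k) := by
    refine refl_induction C h _ (fun k => by rw [map_one]; exact Commute.one_left _)
      fun v hv g ih k => ?_
    rw [map_mul]
    refine Commute.mul_left ?_ (ih k)
    refine refl_induction C h (fun k => Commute (π (rI C v hv)) (π k))
      (by rw [map_one]; exact Commute.one_right _)
      (fun w hw k ihk => by rw [map_mul]; exact Commute.mul_right (hpair v hv w hw) ihk) k
  rw [_root_.commutator_def, Subgroup.commutator_le]
  intro g _ k _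
  refine (QuotientGroup.eq_one_iff (N := sqSub Q) _).mp ?_
  show π ⁅g, k⁆ = 1
  rw [map_commutatorElement, commutatorElement_eq_one_iff_commute]
  exact hall g k

/-- Determinant and spinor character. -/
noncomputable def detSpin [Fintype F] (Q : (ι → F) → F) :
    ↥(isometryGroup F Q) →* Fˣ × ℤˣ :=
  (Matrix.GeneralLinearGroup.det.comp (isometryGroup F Q).subtype).prod (spin Q)

theorem omega_odd [Fintype F] (C : Space Q B) (h2 : (2 : F) ≠ 0) (hn : 2 ≤ Fintype.card ι) :
    commutator ↥(isometryGroup F Q) = (detSpin Q).ker ∧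
      (commutator ↥(isometryGroup F Q)).index = 4 ∧
      (specialIsometryGroup F Q).index = 2 := by
  classical
  have h : Fintype.card F ≠ 2 ∨ Fintype.card ι ≠ 4 := Or.inl (card_ne_two h2)
  have hchar : ringChar F ≠ 2 := fun hc => h2 (by
    haveI := ringChar.charP F
    have := CharP.cast_eq_zero F (ringChar F)
    rw [hc] at this
    exact_mod_cast this)
  obtain ⟨α, hα⟩ := FiniteField.exists_nonsquare hchar
  have hα0 : α ≠ 0 := fun h => hα (h ▸ ⟨0, (mul_zero 0).symm⟩)
  obtain ⟨v0, hv0⟩ := exists_value C h2 hn one_ne_zero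
  obtain ⟨v1, hv1⟩ := exists_value C h2 hn hα0
  have h0 : Q v0 ≠ 0 := by rw [hv0]; exact one_ne_zero
  have h1 : Q v1 ≠ 0 := by rw [hv1]; exact hα0
  have hle : commutator ↥(isometryGroup F Q) ≤ (detSpin Q).ker :=
    Abelianization.commutator_subset_ker _
  have hup := (index_le_four C h _ le_rfl h0 h1 fun v hv => by
    by_cases hs : IsSquare (Q v)
    · exact Or.inl (rI_mul_mem_comm C h hv h0 (by rwa [hv0, div_one]))
    · refine Or.inr (rI_mul_mem_comm C h hv h1 ?_)
      rw [hv1, ← quadraticChar_one_iff_isSquare (div_ne_zero hv hα0), div_eq_mul_inv, map_mul,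
        quadraticChar_neg_one_iff_not_isSquare.mpr hs,
        quadraticChar_neg_one_iff_not_isSquare.mpr (by rwa [isSquare_inv])]
      norm_num).1
  have hne : (-1 : Fˣ) ≠ 1 := fun e => h2 (by
    have e' : (-1 : F) = 1 := by simpa using congrArg Units.val e
    linear_combination -e')
  have hlow : 4 ≤ (detSpin Q).ker.index := by
    rw [Subgroup.index_ker]
    have hs : ({((-1 : Fˣ), (-1 : ℤˣ)), (-1, 1), (1, -1), (1, 1)} : Finset (Fˣ × ℤˣ)) ⊆
        ((detSpin Q).range : Set (Fˣ × ℤˣ)).toFinset := by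
      have e0 : detSpin Q (rI C v0 h0) = (-1, -1) := Prod.ext (det_rI C h0) (by
        show spin Q _ = _
        rw [spin_rI C h2 h0, if_pos (hv0 ▸ IsSquare.one)])
      have e1 : detSpin Q (rI C v1 h1) = (-1, 1) := Prod.ext (det_rI C h1) (by
        show spin Q _ = _
        rw [spin_rI C h2 h1, if_neg (hv1 ▸ hα)])
      simp only [Finset.insert_subset_iff, Finset.singleton_subset_iff, Set.mem_toFinset,
        SetLike.mem_coe]
      exact ⟨⟨_, e0⟩, ⟨_, e1⟩, ⟨rI C v0 h0 * rI C v1 h1, by rw [map_mul, e0, e1]; simp⟩,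
        ⟨1, map_one _⟩⟩
    have hc : ({((-1 : Fˣ), (-1 : ℤˣ)), (-1, 1), (1, -1), (1, 1)} : Finset (Fˣ × ℤˣ)).card = 4 := by
      rw [Finset.card_insert_of_notMem, Finset.card_insert_of_notMem,
        Finset.card_insert_of_notMem, Finset.card_singleton] <;> simp [hne, hne.symm]
    calc 4 = _ := hc.symm
      _ ≤ _ := Finset.card_le_card hs
      _ = _ := by rw [Set.toFinset_card, ← Nat.card_eq_fintype_card]; rfl
  have hidx : (detSpin Q).ker.index ≤ (commutator ↥(isometryGroup F Q)).index :=
    Nat.le_of_dvd (Nat.pos_of_ne_zero Subgroup.index_ne_zero_of_finite)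
      (Subgroup.index_dvd_of_le hle)
  refine ⟨Subgroup.eq_of_le_of_card_ge hle ?_, by omega, ?_⟩
  · have e1 := (commutator ↥(isometryGroup F Q)).card_mul_index
    have e2 := (detSpin Q).ker.card_mul_index
    rw [show (commutator ↥(isometryGroup F Q)).index = 4 by omega] at e1
    rw [show (detSpin Q).ker.index = 4 by omega] at e2
    omega
  · show (MonoidHom.ker _).index = 2
    rw [Subgroup.index_ker]
    have hr : (((Matrix.GeneralLinearGroup.det.comp (isometryGroup F Q).subtype).range :
        Subgroup Fˣ) : Set Fˣ) = {1, -1} := by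
      ext a
      refine ⟨?_, ?_⟩
      · rintro ⟨g, rfl⟩
        rcases det_sq C g.2 with hd | hd
        · exact Or.inl (Units.ext hd)
        · exact Or.inr (Units.ext (by simpa using hd))
      · rintro (rfl | rfl)
        · exact ⟨1, map_one _⟩
        · exact ⟨rI C v0 h0, det_rI C h0⟩
    rw [← SetLike.coe_sort_coe, hr, Nat.card_coe_set_eq, Set.ncard_pair hne.symm]

theorem omega_two [Fintype F] (C : Space Q B) (h2 : (2 : F) = 0) (hn : 2 ≤ Fintype.card ι)
    (h : Fintype.card F ≠ 2 ∨ Fintype.card ι ≠ 4) :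
    (commutator ↥(isometryGroup F Q)).index = 2 ∧ specialIsometryGroup F Q = ⊤ := by
  obtain ⟨v0, -, h0⟩ := exists_nonsing C C.ndeg_top (fun h => by
    have := congrArg (fun U : Submodule F (ι → F) => finrank F U) h
    simp [finrank_fintype_fun_eq_card] at this
    omega)
  haveI : CharP F 2 := CharTwo.of_one_ne_zero_of_two_eq_zero one_ne_zero h2
  have hcl : ∀ v (hv : Q v ≠ 0),
      rI C v hv * rI C v0 h0 ∈ commutator ↥(isometryGroup F Q) := fun v hv =>
    rI_mul_mem_comm C h hv h0 (FiniteField.isSquare_of_char_two (ringChar.eq F 2) _)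
  have hup := (index_le_four C h _ le_rfl h0 h0 fun v hv => Or.inl (hcl v hv)).2 (hcl v0 h0)
  obtain ⟨δ, hδ⟩ := exists_dickson C h h2
  have hsurj : Function.Surjective δ := fun x => by
    rcases Int.units_eq_one_or x with rfl | rfl
    exacts [⟨1, map_one δ⟩, ⟨_, hδ v0 h0⟩]
  have hker : δ.ker.index = 2 := by
    rw [Subgroup.index_ker, MonoidHom.range_eq_top.mpr hsurj, Subgroup.card_top,
      Nat.card_eq_fintype_card]
    rfl
  have := Nat.le_of_dvd (Nat.pos_of_ne_zero Subgroup.index_ne_zero_of_finite)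
    (Subgroup.index_dvd_of_le (Abelianization.commutator_subset_ker δ))
  refine ⟨by omega, eq_top_iff.mpr fun g _ => Units.ext ?_⟩
  rcases det_sq C g.2 with hd | hd
  · exact hd
  · rw [Units.val_one, ← CharTwo.neg_eq (1 : F)]; exact hd

/-- The special isometry group has a unique subgroup of index two. -/
theorem special_unique_index_two [Fintype F] (C : Space Q B) (hn : 2 ≤ Fintype.card ι)
    (h : Fintype.card F ≠ 2 ∨ Fintype.card ι ≠ 4) :
    ∃! H : Subgroup ↥(specialIsometryGroup F Q), H.index = 2 := by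
  set K := (commutator ↥(isometryGroup F Q)).subgroupOf (specialIsometryGroup F Q) with hK
  have hle : commutator ↥(isometryGroup F Q) ≤ specialIsometryGroup F Q :=
    Abelianization.commutator_subset_ker _
  have hidx : K.index = 2 := by
    have e := Subgroup.relIndex_mul_index hle
    show (commutator ↥(isometryGroup F Q)).relIndex (specialIsometryGroup F Q) = 2
    by_cases h2 : (2 : F) = 0
    · obtain ⟨e1, e2⟩ := omega_two C h2 hn h
      rw [e1] at e
      rw [e2, Subgroup.index_top, mul_one] at e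
      rw [e2]; exact e
    · obtain ⟨-, e1, e2⟩ := omega_odd C h2 hn
      rw [e1, e2] at e
      omega
  refine ⟨K, hidx, fun H hH => ?_⟩
  have hKH : K ≤ H := by
    intro x hx
    have hsq : sqSub Q ≤ H.map (specialIsometryGroup F Q).subtype := by
      rw [sqSub, Subgroup.closure_le]
      rintro _ ⟨t, ht, rfl⟩
      exact ⟨⟨t, ht⟩ * ⟨t, ht⟩, Subgroup.mul_self_mem_of_index_two hH _, rfl⟩
    obtain ⟨y, hy, hyx⟩ := hsq (comm_le_sqSub C h (Subgroup.mem_subgroupOf.mp hx))
    exact Subtype.coe_injective hyx ▸ hy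
  refine (Subgroup.eq_of_le_of_card_ge hKH ?_).symm
  have e1 := K.card_mul_index
  have e2 := H.card_mul_index
  rw [hidx] at e1
  rw [hH] at e2
  omega

/-! ## The negative of the identity -/

theorem spin_neg_one [Fintype F] (C : Space Q B) (h2 : (2 : F) ≠ 0) {κ : Type*} [Fintype κ]
    [DecidableEq κ] (b : κ → ι → F) (hcard : Fintype.card κ = Fintype.card ι)
    (hb : ∀ i, Q (b i) ≠ 0) (horth : ∀ i j, i ≠ j → B (b i) (b j) = 0)
    [DecidablePred fun i => IsSquare (Q (b i))]
    {g : ↥(isometryGroup F Q)} (hg : (g : GL ι F).val = -1) :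
    spin Q g = ∏ i, if IsSquare (Q (b i)) then (-1 : ℤˣ) else 1 := by
  classical
  have hli : LinearIndependent F b := by
    rw [Fintype.linearIndependent_iff]
    intro c hc i
    have h1 := congrArg (B (b i)) hc
    rw [map_sum, map_zero, Finset.sum_eq_single i (fun j _ hj => by
      rw [map_smul, horth i j (Ne.symm hj), smul_zero]) (fun h => absurd (Finset.mem_univ i) h),
      map_smul, C.self, smul_eq_mul] at h1
    exact (mul_eq_zero.mp h1).resolve_right (mul_ne_zero h2 (hb i))
  have key : ∀ s : Finset κ, ∃ e : ↥(isometryGroup F Q),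
      (∀ i, (e : GL ι F).val *ᵥ b i = if i ∈ s then -b i else b i) ∧
      spin Q e = ∏ i ∈ s, if IsSquare (Q (b i)) then (-1 : ℤˣ) else 1 := by
    intro s
    induction s using Finset.induction with
    | empty => exact ⟨1, fun i => by simp, by simp⟩
    | insert a s has ih =>
      obtain ⟨e, he, hes⟩ := ih
      refine ⟨rI C (b a) (hb a) * e, fun i => ?_, ?_⟩
      · show (rGL Q (b a) * (e : GL ι F)).val *ᵥ b i = _
        rw [mul_act, he i]
        by_cases hia : i = a
        · subst hia
          rw [if_neg has, if_pos (Finset.mem_insert_self _ _), rGL_self C (hb i)]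
        · by_cases his : i ∈ s
          · rw [if_pos his, if_pos (Finset.mem_insert_of_mem his), rGL_fix C (hb a)
              (by rw [map_neg, horth a i (Ne.symm hia), neg_zero])]
          · rw [if_neg his, if_neg (by simp [hia, his]),
              rGL_fix C (hb a) (horth a i (Ne.symm hia))]
      · rw [map_mul, hes, spin_rI C h2 (hb a), Finset.prod_insert has]
        congr 1
        split_ifs <;> rfl
  obtain ⟨e, he, hes⟩ := key Finset.univ
  have htop := hli.span_eq_top_of_card_eq_finrank'
    (by rw [hcard, finrank_fintype_fun_eq_card])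
  have heg : g = e := Subtype.ext (Units.ext (by
    rw [hg]
    refine mat_ext fun x => ?_
    have hlin : Matrix.mulVecLin (-1 : Matrix ι ι F) = Matrix.mulVecLin (e : GL ι F).val :=
      LinearMap.ext_on_range htop fun i => by simp [he i, Matrix.neg_mulVec]
    exact LinearMap.congr_fun hlin x))
  rw [heg, hes]

/-- Membership of the negative of the identity in `Ω` in even dimension. -/
theorem neg_one_mem_omega_iff [Fintype F] (C : Space Q B) (h2 : (2 : F) ≠ 0)
    (hev : Even (Fintype.card ι)) (hn : 2 ≤ Fintype.card ι) {κ : Type*} [Fintype κ]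
    [DecidableEq κ] (b : κ → ι → F) (hcard : Fintype.card κ = Fintype.card ι)
    (hb : ∀ i, Q (b i) ≠ 0) (horth : ∀ i j, i ≠ j → B (b i) (b j) = 0)
    [DecidablePred fun i => IsSquare (Q (b i))] :
    (∃ g : ↥(isometryGroup F Q), g ∈ Omega F Q ∧ (g : GL ι F).val = -1) ↔
      ∏ i, (if IsSquare (Q (b i)) then (-1 : ℤˣ) else 1) = 1 := by
  obtain ⟨e1, -, -⟩ := omega_odd C h2 hn
  constructor
  · rintro ⟨g, hg, hgv⟩
    rw [← spin_neg_one C h2 b hcard hb horth hgv]
    have h1 : g ∈ (detSpin Q).ker := e1 ▸ hg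
    exact congrArg Prod.snd h1
  · intro hp
    have hm : (toGL (-1 : Matrix ι ι F)).val = -1 := toGL_val (M' := -1) (by simp)
    have hiso : toGL (-1 : Matrix ι ι F) ∈ isometryGroup F Q := mem_iso.mpr fun v => by
      rw [hm, Matrix.neg_mulVec, Matrix.one_mulVec, C.neg]
    refine ⟨⟨_, hiso⟩, ?_, hm⟩
    show _ ∈ commutator _
    rw [e1]
    refine Prod.ext (Units.ext ?_) ?_
    · show (toGL (-1 : Matrix ι ι F)).val.det = 1
      rw [hm, Matrix.det_neg, Matrix.det_one, hev.neg_one_pow, one_mul]
    · show spin Q _ = 1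
      rw [spin_neg_one C h2 b hcard hb horth (g := ⟨_, hiso⟩) hm, hp]

end Cfsg.Lib.Linear.Orth
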