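import Cfsg.Agent.Lib.Linear.OrthSimple
import Cfsg.Agent.Lib.Linear.OrthSpinor

/-!
# The centre of `Ω`
-/

set_option autoImplicit false

namespace Cfsg.Lib.Linear.Orth

open Module
open scoped Matrix

variable {ι : Type} [Fintype ι] [DecidableEq ι] {F : Type*} [Field F]
  {Q : (ι → F) → F} {B : LinearMap.BilinForm F (ι → F)}

theorem omega_center_pm [Finite F] (C : Space Q B) (h7 : 7 ≤ Fintype.card ι)
    {z : ↥(Cfsg.Omega F Q)} (hz : z ∈ Subgroup.center ↥(Cfsg.Omega F Q)) :
    ((z : ↥(isometryGroup F Q)) : GL ι F).val = 1 ∨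
      ((z : ↥(isometryGroup F Q)) : GL ι F).val = -1 := by
  set g : GL ι F := ((z : ↥(isometryGroup F Q)) : GL ι F) with hg
  have hgI : g ∈ isometryGroup F Q := (z : ↥(isometryGroup F Q)).2
  have hlines : ∀ e, Q e = 0 → g.val *ᵥ e ∈ Submodule.span F {e} := by
    intro e he
    by_contra hne
    have he0 : e ≠ 0 := fun h => hne (by rw [h, Matrix.mulVec_zero]; exact Submodule.zero_mem _)
    set e' := g.val *ᵥ e with he'
    have hQe' : Q e' = 0 := by rw [he', mem_iso.mp hgI, he]
    -- vectors `x ⊥ e'` moved along `e'` by the root elements at `e`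
    have key : ∀ a, B e a = 0 → ∀ x, B e' x = 0 →
        (sGL Q B e a).val *ᵥ x = x - (B (g.val *ᵥ a) x) • e' := by
      intro a ha x hx
      have hm : sGL Q B e a ∈ Cfsg.Geo.omegaGL Q := by
        rw [omegaGL_eq C (by omega)]; exact sGL_mem_root trivial trivial he ha
      obtain ⟨y, hy, hys⟩ := hm
      have hcomm : g * sGL Q B e a = sGL Q B e a * g := by
        have := congrArg (fun t : ↥(Cfsg.Omega F Q) => ((t : ↥(isometryGroup F Q)) : GL ι F))
          (Subgroup.mem_center_iff.mp hz ⟨y, hy⟩)
        simp only [Subgroup.coe_mul] at this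
        rw [← hys]
        exact this.symm
      have h1 : sGL Q B e a = sGL Q B e' (g.val *ᵥ a) := by
        rw [he', ← sGL_conj C he ha hgI, hcomm, mul_inv_cancel_right]
      rw [h1, sGL_act C hQe' (by rw [he', C.B_act hgI, ha]), hx]
      simp
    -- `x ⊥ e'` with `B e x ≠ 0`
    obtain ⟨x, hx, hex⟩ : ∃ x, B e' x = 0 ∧ B e x = 1 := by
      have he'0 : e' ≠ 0 := act_ne_zero he0
      obtain ⟨u, hu⟩ := C.exists_pair he'0
      by_contra hno
      push Not at hno
      have hall : ∀ x, B e' x = 0 → B e x = 0 := fun x hx => by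
        by_contra hne'
        exact hno ((B e x)⁻¹ • x) (by rw [map_smul, hx, smul_zero])
          (by rw [map_smul, smul_eq_mul, inv_mul_cancel₀ hne'])
      refine hne (Submodule.mem_span_singleton.mpr ?_)
      have heq : e = B e u • e' := by
        have h0 : e - B e u • e' = 0 := C.nondeg' fun v => by
          have h3 := hall (v - B e' v • u)
            (by rw [map_sub, map_smul, hu, smul_eq_mul, mul_one, sub_self])
          rw [map_sub, map_smul, smul_eq_mul, sub_eq_zero] at h3
          rw [map_sub, map_smul, LinearMap.sub_apply, LinearMap.smul_apply, h3, smul_eq_mul]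
          ring
        exact sub_eq_zero.mp h0
      have hc : B e u ≠ 0 := fun h => he0 (by rw [heq, h, zero_smul])
      exact ⟨(B e u)⁻¹, by rw [inv_smul_eq_iff₀ hc]; exact heq⟩
    -- then every `a ⊥ e` lies in the span of `e` and `e'`
    have hspan : LinearMap.ker (B e) ≤ Submodule.span F {e, e'} := fun a ha => by
      have ha' := LinearMap.mem_ker.mp ha
      have h := key a ha' x hx
      rw [sGL_act C he ha', hex, one_smul, mul_one] at h
      have : a = (B a x + Q a) • e - (B (g.val *ᵥ a) x) • e' := by
        linear_combination (norm := module) h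
      exact Submodule.mem_span_pair.mpr ⟨B a x + Q a, -B (g.val *ᵥ a) x,
        by rw [neg_smul, ← sub_eq_add_neg]; exact this.symm⟩
    have h1 := LinearMap.finrank_range_add_finrank_ker (B e)
    have h3 := Submodule.finrank_le (LinearMap.range (B e))
    have h4 := Submodule.finrank_mono hspan
    have h5 : finrank F (Submodule.span F {e, e'}) ≤ 2 := by
      classical
      have h := finrank_span_finset_le_card (R := F) ({e, e'} : Finset (ι → F))
      rw [Finset.coe_pair] at h
      exact h.trans Finset.card_le_two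
    rw [finrank_fintype_fun_eq_card] at h1
    rw [Module.finrank_self] at h3
    omega
  obtain ⟨c, hc⟩ := scalar_of_lines C h7 hlines
  obtain ⟨v, -, hv⟩ := exists_nonsing C C.ndeg_top (fun h => by
    have := congrArg (fun U : Submodule F (ι → F) => finrank F U) h
    simp [finrank_fintype_fun_eq_card] at this
    omega)
  have h2 := mem_iso.mp hgI v
  rw [hc, C.smul] at h2
  have h3 : c * c = 1 := by
    have : (c * c - 1) * Q v = 0 := by linear_combination h2
    exact sub_eq_zero.mp ((mul_eq_zero.mp this).resolve_right hv)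
  rcases mul_self_eq_one_iff.mp h3 with h | h
  · exact Or.inl (mat_ext fun x => by rw [hc, h, one_smul, Matrix.one_mulVec])
  · exact Or.inr (mat_ext fun x => by rw [hc, h, neg_one_smul, Matrix.neg_mulVec, Matrix.one_mulVec])

open scoped Classical in
theorem card_pomega [Finite F] (C : Space Q B) (h7 : 7 ≤ Fintype.card ι) :
    (commutator ↥(isometryGroup F Q)).index * (Nat.card (Cfsg.POmega F Q) *
      (if (2 : F) ≠ 0 ∧ ∃ g : ↥(isometryGroup F Q), g ∈ Cfsg.Omega F Q ∧ (g : GL ι F).val = -1
        then 2 else 1)) = Nat.card ↥(isometryGroup F Q) := by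
  classical
  set f : ↥(Subgroup.center ↥(Cfsg.Omega F Q)) → Matrix ι ι F := fun z =>
    (((z : ↥(Cfsg.Omega F Q)) : ↥(isometryGroup F Q)) : GL ι F).val with hf
  have hinj : Function.Injective f := fun a b h =>
    Subtype.ext (Subtype.ext (Subtype.ext (Units.ext h)))
  have hone : (1 : Matrix ι ι F) = f 1 := by simp [hf]
  have hZ : Nat.card ↥(Subgroup.center ↥(Cfsg.Omega F Q)) =
      if (2 : F) ≠ 0 ∧ ∃ g : ↥(isometryGroup F Q), g ∈ Cfsg.Omega F Q ∧ (g : GL ι F).val = -1
        then 2 else 1 := by
    split_ifs with hc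
    · obtain ⟨h2, g, hg, hgv⟩ := hc
      have hgc : (⟨g, hg⟩ : ↥(Cfsg.Omega F Q)) ∈ Subgroup.center ↥(Cfsg.Omega F Q) :=
        Subgroup.mem_center_iff.mpr fun y => Subtype.ext (Subtype.ext (gl_ext fun x => by
          simp only [Subgroup.coe_mul, mul_act, hgv, Matrix.neg_mulVec, Matrix.one_mulVec,
            Matrix.mulVec_neg]))
      rw [Nat.card_eq_two_iff]
      refine ⟨1, ⟨_, hgc⟩, fun h => ?_, Set.eq_univ_of_forall fun z => ?_⟩
      · have h1 := congrArg f h
        rw [← hone] at h1
        simp only [hf, hgv] at h1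
        obtain ⟨i⟩ : Nonempty ι := Fintype.card_pos_iff.mp (by omega)
        have h3 := congrFun (congrFun h1 i) i
        simp at h3
        exact h2 (by linear_combination h3)
      · rcases omega_center_pm C h7 z.2 with h | h
        · exact Or.inl (hinj (by rw [← hone]; exact h))
        · exact Or.inr (hinj (by simp only [hf, hgv]; exact h))
    · rw [Nat.card_eq_one_iff_unique]
      have hall : ∀ z : ↥(Subgroup.center ↥(Cfsg.Omega F Q)), f z = 1 := fun z => by
        rcases omega_center_pm C h7 z.2 with h | h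
        · exact h
        · by_cases h2 : (2 : F) = 0
          · show f z = 1
            refine h.trans ?_
            ext i j
            haveI : CharP F 2 := CharTwo.of_one_ne_zero_of_two_eq_zero one_ne_zero h2
            simp [CharTwo.neg_eq]
          · exact absurd ⟨h2, _, (z : ↥(Cfsg.Omega F Q)).2, h⟩ hc
      exact ⟨⟨fun a b => hinj ((hall a).trans (hall b).symm)⟩, ⟨1⟩⟩
  rw [← hZ, ← Subgroup.card_eq_card_quotient_mul_card_subgroup, mul_comm,
    Subgroup.card_mul_index]

end Cfsg.Lib.Linear.Orth
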