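import Cfsg.Agent.Lib.Linear.OrthSpinor
import Cfsg.Agent.Lib.Linear.OrthOrderStd
import Cfsg.Agent.Lib.Linear.OrthLevi

/-!
# Fixed points of prime order isometries in characteristic two

Non-singular points, the parity criterion for membership of `Ω`, and isometries of odd prime order
without fixed non-zero vectors.
-/

set_option autoImplicit false

namespace Cfsg.Lib.Linear.Orth

open Module
open scoped Matrix

variable {ι : Type} [Fintype ι] [DecidableEq ι] {F : Type*} [Field F] [Fintype F]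
  {Q : (ι → F) → F} {B : LinearMap.BilinForm F (ι → F)}

theorem exists_sqrt_two (h2 : (2 : F) = 0) (t : F) : ∃ s : F, s ^ 2 = t := by
  haveI : CharP F 2 := CharTwo.of_one_ne_zero_of_two_eq_zero one_ne_zero h2
  obtain ⟨s, hs⟩ := FiniteField.isSquare_of_char_two (ringChar.eq F 2) t
  exact ⟨s, by rw [hs, sq]⟩

theorem sq_injective_two (h2 : (2 : F) = 0) {a b : F} (h : a ^ 2 = b ^ 2) : a = b := by
  have : (a - b) ^ 2 = 0 := by linear_combination h + b * (b - a) * h2
  exact sub_eq_zero.mp (eq_zero_of_pow_eq_zero this)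

omit [Fintype F] in
/-- An isometry with a scalar matrix is trivial. -/
theorem scalar_iso_eq_one (C : Space Q B) (h2 : (2 : F) = 0) [Nonempty ι] {g : GL ι F}
    (hg : g ∈ isometryGroup F Q) {z : F} (hz : g.val = z • (1 : Matrix ι ι F)) : g = 1 := by
  obtain ⟨v, -, hv⟩ := exists_nonsing C C.ndeg_top top_ne_bot
  have h := mem_iso.mp hg v
  rw [hz, Matrix.smul_mulVec, Matrix.one_mulVec, C.smul] at h
  have hz1 : z ^ 2 = 1 := mul_right_cancel₀ hv (h.trans (one_mul _).symm)
  have : (z - 1) ^ 2 = 0 := by linear_combination hz1 + (1 - z) * h2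
  exact Units.ext (by rw [hz, sub_eq_zero.mp (eq_zero_of_pow_eq_zero this), one_smul, Units.val_one])

omit [Fintype F] in
/-- A stable point spanned by a non-singular vector is a fixed vector. -/
theorem point_iff (C : Space Q B) (h2 : (2 : F) = 0) {g : GL ι F} (hg : g ∈ isometryGroup F Q) :
    (∃ W : Submodule F (ι → F), (finrank F ↥W = 1 ∧ ∃ v ∈ W, Q v ≠ 0) ∧
      W.map (Matrix.toLin' g.val) ≤ W) ↔ ∃ v, g.val *ᵥ v = v ∧ Q v ≠ 0 := by
  constructor
  · rintro ⟨W, ⟨hW, v, hvW, hv⟩, hmap⟩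
    have hgv : g.val *ᵥ v ∈ W := hmap ⟨v, hvW, Matrix.toLin'_apply _ _⟩
    have hv0 : v ≠ 0 := fun h => hv (by rw [h, C.zero])
    obtain ⟨c, hc⟩ := (finrank_eq_one_iff_of_nonzero' (⟨v, hvW⟩ : W) (by simpa using hv0)).mp hW
      ⟨_, hgv⟩
    have hc' : c • v = g.val *ᵥ v := congrArg Subtype.val hc
    have h := mem_iso.mp hg v
    rw [← hc', C.smul] at h
    have hc1 : c ^ 2 = 1 := mul_right_cancel₀ hv (h.trans (one_mul _).symm)
    have : (c - 1) ^ 2 = 0 := by linear_combination hc1 + (1 - c) * h2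
    exact ⟨v, by rw [← hc', sub_eq_zero.mp (eq_zero_of_pow_eq_zero this), one_smul], hv⟩
  · rintro ⟨v, hgv, hv⟩
    refine ⟨Submodule.span F {v}, ⟨finrank_span_singleton (fun h => hv (by rw [h, C.zero])), v,
      Submodule.mem_span_singleton_self v, hv⟩, ?_⟩
    rw [Submodule.map_span, Submodule.span_le]
    rintro _ ⟨_, rfl, rfl⟩
    simp [Matrix.toLin'_apply, hgv, Submodule.mem_span_singleton_self]

/-! ## Counting -/

/-- Each non-singular line has a unique vector of norm one. -/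
theorem card_level (C : Space Q B) (h2 : (2 : F) = 0) (U : Submodule F (ι → F)) :
    (Nat.card {v : ι → F // v ∈ U ∧ Q v = 1} : ℤ) * ((Nat.card F : ℤ) - 1) + sgCount Q U =
      Nat.card U := by
  classical
  choose s hs using exists_sqrt_two h2
  have e : {v : ι → F // v ∈ U ∧ Q v = 1} × Fˣ ≃ {v : U // ¬ Q v.1 = 0} :=
    { toFun := fun p => ⟨⟨(p.2 : F) • p.1.1, U.smul_mem _ p.1.2.1⟩, by
        rw [C.smul, p.1.2.2, mul_one]; exact pow_ne_zero 2 p.2.ne_zero⟩
      invFun := fun v => (⟨(s (Q v.1.1))⁻¹ • v.1.1, U.smul_mem _ v.1.2,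
        by rw [C.smul, inv_pow, hs, inv_mul_cancel₀ v.2]⟩,
        Units.mk0 (s (Q v.1.1)) fun h => v.2 (by rw [← hs (Q v.1.1), h]; ring))
      left_inv := fun p => by
        obtain ⟨⟨v, hvU, hv⟩, c⟩ := p
        have hc : s (Q ((c : F) • v)) = (c : F) :=
          sq_injective_two h2 (by rw [hs, C.smul, hv, mul_one])
        refine Prod.ext (Subtype.ext ?_) (Units.ext ?_)
        · simp only [hc]
          rw [smul_smul, inv_mul_cancel₀ c.ne_zero, one_smul]
        · simpa using hc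
      right_inv := fun v => Subtype.ext (Subtype.ext (by
        have h0 : s (Q v.1.1) ≠ 0 := fun h => v.2 (by rw [← hs (Q v.1.1), h]; ring)
        simp [smul_smul, mul_inv_cancel₀ h0])) }
  have h1 := Nat.card_congr e
  rw [Nat.card_prod, Nat.card_units] at h1
  have h3 : Nat.card {v : U // Q v.1 = 0} + Nat.card {v : U // ¬ Q v.1 = 0} = Nat.card U := by
    rw [← Nat.card_sum]; exact Nat.card_congr (Equiv.sumCompl _)
  have h4 : (Nat.card {v : U // Q v.1 = 0} : ℤ) = sgCount Q U := by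
    rw [sgCount]
    exact congrArg _ (Nat.card_congr
      (Equiv.subtypeSubtypeEquivSubtypeInter (fun x => x ∈ U) fun x => Q x = 0))
  have hF : 1 < Nat.card F := Finite.one_lt_card
  rw [← h1] at h3
  rw [← h4, ← h3]
  push_cast [Nat.cast_sub hF.le]
  ring

/-- Non-singular points correspond to vectors of norm one. -/
theorem card_points (C : Space Q B) (h2 : (2 : F) = 0) :
    Nat.card {W : Submodule F (ι → F) // finrank F ↥W = 1 ∧ ∃ v ∈ W, Q v ≠ 0} =
      Nat.card {v : ι → F // v ∈ (⊤ : Submodule F (ι → F)) ∧ Q v = 1} := by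
  have hne : ∀ v : {v : ι → F // v ∈ (⊤ : Submodule F (ι → F)) ∧ Q v = 1}, v.1 ≠ 0 := fun v h =>
    one_ne_zero (v.2.2.symm.trans (by rw [h, C.zero]))
  symm
  refine Nat.card_eq_of_bijective (fun v => ⟨Submodule.span F {v.1}, finrank_span_singleton (hne v),
    v.1, Submodule.mem_span_singleton_self _, by rw [v.2.2]; exact one_ne_zero⟩) ⟨?_, ?_⟩
  · intro v w h
    have hw : w.1 ∈ Submodule.span F {v.1} := by
      have h' : Submodule.span F {v.1} = Submodule.span F {w.1} := congrArg Subtype.val h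
      rw [h']; exact Submodule.mem_span_singleton_self _
    obtain ⟨c, hc⟩ := Submodule.mem_span_singleton.mp hw
    have h3 := w.2.2
    rw [← hc, C.smul, v.2.2, mul_one] at h3
    exact Subtype.ext (by rw [← hc, sq_injective_two h2 (h3.trans (one_pow 2).symm), one_smul])
  · rintro ⟨W, hW, v, hvW, hv⟩
    obtain ⟨s, hs⟩ := exists_sqrt_two h2 (Q v)
    have hv0 : v ≠ 0 := fun h => hv (by rw [h, C.zero])
    have hs0 : s ≠ 0 := fun h => hv (by rw [← hs, h]; ring)
    refine ⟨⟨s⁻¹ • v, trivial, by rw [C.smul, inv_pow, hs, inv_mul_cancel₀ hv]⟩, Subtype.ext ?_⟩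
    show Submodule.span F {s⁻¹ • v} = W
    rw [Submodule.span_singleton_smul_eq (isUnit_iff_ne_zero.mpr (inv_ne_zero hs0))]
    exact Submodule.eq_of_le_of_finrank_eq ((Submodule.span_singleton_le_iff_mem v W).mpr hvW)
      (by rw [finrank_span_singleton hv0, hW])

theorem card_top : (Nat.card (⊤ : Submodule F (ι → F)) : ℤ) = (Nat.card F : ℤ) ^ Fintype.card ι := by
  rw [Nat.card_congr Submodule.topEquiv.toEquiv, Nat.card_fun, Nat.card_eq_fintype_card (α := ι)]
  push_cast
  ring

theorem sgCount_top : sgCount Q (⊤ : Submodule F (ι → F)) = (Nat.card {x : ι → F // Q x = 0} : ℤ) := by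
  rw [sgCount]
  exact congrArg _ (Nat.card_congr (Equiv.subtypeEquivRight fun x => by simp))

/-- A totally singular subspace of half the dimension forces the plus count. -/
theorem ts_half_count (C : Space Q B) {A : Submodule F (ι → F)} (hA : ∀ x ∈ A, Q x = 0)
    {k : ℕ} (hk : finrank F A = k + 1) (hι : Fintype.card ι = 2 * (k + 1)) :
    (Nat.card {x : ι → F // Q x = 0} : ℤ) = (Nat.card F : ℤ) ^ (k + 1) +
      ((Nat.card F : ℤ) ^ (k + 1) - 1) * (Nat.card F : ℤ) ^ k := by
  classical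
  obtain ⟨W, hW⟩ := A.exists_isCompl
  have hd : finrank F W = k + 1 := by
    have := Submodule.finrank_add_eq_of_isCompl hW
    rw [finrank_fintype_fun_eq_card] at this
    omega
  have hperp : ∀ v, (∀ a ∈ A, B v a = 0) → v ∈ A := by
    have hAA : A ≤ B.orthogonal A := fun x hx y hy => by
      have := hA _ (A.add_mem hy hx)
      rw [C.add, hA _ hy, hA _ hx] at this
      show B y x = 0
      simpa using this
    have hfr : finrank F (B.orthogonal A) = finrank F (ι → F) - finrank F A :=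
      LinearMap.BilinForm.finrank_orthogonal ⟨fun v hv => C.nondeg' hv,
        fun v hv => C.nondeg' fun u => by rw [C.symm]; exact hv u⟩ A
    rw [finrank_fintype_fun_eq_card] at hfr
    have heq : A = B.orthogonal A := Submodule.eq_of_le_of_finrank_eq hAA (by omega)
    intro v hv
    rw [heq]
    intro a ha
    show B a v = 0
    rw [C.symm]; exact hv a ha
  let φ := Submodule.prodEquivOfIsCompl W A hW.symm
  have hval : ∀ p : W × A, Q (φ p) = Q p.1.1 + B p.1.1 p.2.1 := fun p => by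
    rw [Submodule.coe_prodEquivOfIsCompl', C.add, hA _ p.2.2, add_zero]
  have e : {x : ι → F // Q x = 0} ≃ Σ w : W, {a : A // Q w.1 + B w.1 a.1 = 0} :=
    { toFun := fun x => ⟨(φ.symm x.1).1, (φ.symm x.1).2, by
        have h := hval (φ.symm x.1)
        rw [LinearEquiv.apply_symm_apply, x.2] at h
        exact h.symm⟩
      invFun := fun p => ⟨φ (p.1, p.2.1), by rw [hval]; exact p.2.2⟩
      left_inv := fun x => Subtype.ext (φ.apply_symm_apply x.1)
      right_inv := fun p => by
        obtain ⟨w, a, ha⟩ := p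
        have h := φ.symm_apply_apply (w, a)
        exact Sigma.subtype_ext (congrArg Prod.fst h) (congrArg Prod.snd h) }
  rw [Nat.card_congr e, Nat.card_sigma, Nat.cast_sum]
  have h0 : (Nat.card {a : A // Q (0 : W).1 + B (0 : W).1 a.1 = 0} : ℤ) =
      (Nat.card F : ℤ) ^ (k + 1) := by
    rw [Nat.card_congr (Equiv.subtypeUnivEquiv fun a => by simp [C.zero]),
      Module.natCard_eq_pow_finrank (K := F) (V := A), hk]
    push_cast; rfl
  have hne : ∀ w : W, w ≠ 0 → (Nat.card {a : A // Q w.1 + B w.1 a.1 = 0} : ℤ) =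
      (Nat.card F : ℤ) ^ k := by
    intro w hw
    let ℓ : A →ₗ[F] F := (B w.1).domRestrict A
    obtain ⟨a0, ha0⟩ : ∃ a : A, ℓ a ≠ 0 := by
      by_contra h
      push Not at h
      have hwA : w.1 ∈ A := hperp _ fun a ha => h ⟨a, ha⟩
      exact hw (Subtype.ext (Submodule.disjoint_def.mp hW.disjoint _ hwA w.2))
    let a1 : A := (-Q w.1 * (ℓ a0)⁻¹) • a0
    have ha1 : ℓ a1 = -Q w.1 := by simp [a1, ha0]
    have e2 : {a : A // Q w.1 + B w.1 a.1 = 0} ≃ LinearMap.ker ℓ :=
      { toFun := fun a => ⟨a.1 - a1, by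
          rw [LinearMap.mem_ker, map_sub, ha1, sub_neg_eq_add, add_comm]
          exact a.2⟩
        invFun := fun a => ⟨a.1 + a1, by
          show Q w.1 + ℓ (a.1 + a1) = 0
          rw [map_add, LinearMap.mem_ker.mp a.2, ha1]; ring⟩
        left_inv := fun a => Subtype.ext (sub_add_cancel _ _)
        right_inv := fun a => Subtype.ext (add_sub_cancel_right _ _) }
    have hsurj : LinearMap.range ℓ = ⊤ := LinearMap.range_eq_top.mpr fun t =>
      ⟨(t * (ℓ a0)⁻¹) • a0, by simp [ha0]⟩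
    have hker := LinearMap.finrank_range_add_finrank_ker ℓ
    rw [hsurj, finrank_top, finrank_self, hk] at hker
    rw [Nat.card_congr e2, Module.natCard_eq_pow_finrank (K := F) (V := LinearMap.ker ℓ),
      show finrank F (LinearMap.ker ℓ) = k by omega]
    push_cast; rfl
  rw [← Finset.add_sum_erase _ _ (Finset.mem_univ (0 : W)), h0,
    Finset.sum_congr rfl fun w hw => hne w (Finset.ne_of_mem_erase hw), Finset.sum_const,
    Finset.card_erase_of_mem (Finset.mem_univ _), Finset.card_univ, ← Nat.card_eq_fintype_card,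
    Module.natCard_eq_pow_finrank (K := F) (V := W), hd, nsmul_eq_mul,
    Nat.cast_sub (Nat.one_le_pow _ _ Nat.card_pos)]
  push_cast; ring

/-! ## Membership of `Ω` -/

/-- In characteristic two `Ω` consists of the isometries with even-dimensional fixed space. -/
theorem mem_omegaGL_iff_even (C : Space Q B) (h2 : (2 : F) = 0) (hn : 2 ≤ Fintype.card ι)
    (hne : Even (Fintype.card ι)) (h : Fintype.card F ≠ 2 ∨ Fintype.card ι ≠ 4) {g : GL ι F}
    (hg : g ∈ isometryGroup F Q) :
    g ∈ Cfsg.Geo.omegaGL Q ↔ Even (finrank F (fixSpace g)) := by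
  obtain ⟨δ, hδ⟩ := exists_dickson C h h2
  have key : ∀ k : ↥(isometryGroup F Q), δ k = (-1 : ℤˣ) ^ finrank F (fixSpace (k : GL ι F)) := by
    refine refl_induction C h _ ?_ ?_
    · have : fixSpace ((1 : ↥(isometryGroup F Q)) : GL ι F) = ⊤ :=
        eq_top_iff.mpr fun x _ => mem_fixSpace.mpr (by simp)
      rw [map_one, this, finrank_top, finrank_fintype_fun_eq_card, hne.neg_one_pow]
    · intro v hv k ih
      rw [map_mul, hδ v hv, ih]
      have hf := fixSpace_flip C h2 k.2 hv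
      show _ = (-1 : ℤˣ) ^ finrank F (fixSpace (rGL Q v * (k : GL ι F)))
      set a := finrank F (fixSpace (k : GL ι F))
      set b := finrank F (fixSpace (rGL Q v * (k : GL ι F)))
      rcases Nat.even_or_odd a with ha | ha <;> rcases Nat.even_or_odd b with hb | hb <;>
        simp only [ha.neg_one_pow, hb.neg_one_pow] <;>
        first | (exfalso; obtain ⟨x, hx⟩ := ha; obtain ⟨y, hy⟩ := hb; omega) | simp
  constructor
  · rintro ⟨k, hk, rfl⟩
    have h1 : δ k = 1 := Abelianization.commutator_subset_ker δ hk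
    rw [key k] at h1
    by_contra hodd
    rw [show (k : GL ι F) = (isometryGroup F Q).subtype k from rfl] at h1
    rw [(Nat.not_even_iff_odd.mp hodd).neg_one_pow] at h1
    exact absurd h1 (by decide)
  · intro he
    refine ⟨⟨g, hg⟩, ?_, rfl⟩
    show (⟨g, hg⟩ : ↥(isometryGroup F Q)) ∈ commutator _
    have hidx := (omega_two C h2 hn h).1
    obtain ⟨v, -, hv⟩ := exists_nonsing C C.ndeg_top (fun h => by
      have := congrArg (fun U : Submodule F (ι → F) => finrank F U) h
      simp [finrank_fintype_fun_eq_card] at this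
      omega)
    have hr : rI C v hv ∉ commutator ↥(isometryGroup F Q) := fun hm => by
      have := Abelianization.commutator_subset_ker δ hm
      rw [MonoidHom.mem_ker, hδ] at this
      exact absurd this (by decide)
    by_contra hng
    have hm := (Subgroup.mul_mem_iff_of_index_two hidx (a := ⟨g, hg⟩) (b := rI C v hv)).mpr
      (iff_of_false hng hr)
    have := Abelianization.commutator_subset_ker δ hm
    rw [MonoidHom.mem_ker, map_mul, hδ, key, he.neg_one_pow] at this
    exact absurd this (by decide)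

/-- Isometries of odd order lie in `Ω`. -/
theorem mem_omegaGL_of_pow (C : Space Q B) (h2 : (2 : F) = 0) (hn : 2 ≤ Fintype.card ι)
    (h : Fintype.card F ≠ 2 ∨ Fintype.card ι ≠ 4) {g : GL ι F} (hg : g ∈ isometryGroup F Q)
    {r : ℕ} (hr : Odd r) (hgr : g ^ r = 1) : g ∈ Cfsg.Geo.omegaGL Q := by
  obtain ⟨k, rfl⟩ := hr
  refine ⟨⟨g, hg⟩, ?_, rfl⟩
  show (⟨g, hg⟩ : ↥(isometryGroup F Q)) ∈ commutator _
  have : (⟨g, hg⟩ : ↥(isometryGroup F Q)) = ⟨g, hg⟩ ^ (k + 1) * ⟨g, hg⟩ ^ (k + 1) := by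
    apply Subtype.ext
    show g = g ^ (k + 1) * g ^ (k + 1)
    rw [← pow_add, show k + 1 + (k + 1) = 2 * k + 1 + 1 by ring, pow_succ, hgr, one_mul]
  rw [this]
  exact Subgroup.mul_self_mem_of_index_two (omega_two C h2 hn h).1 _

/-! ## Enlarging an element of odd prime order -/

theorem card_modEq_fixed {α : Type*} [Finite α] {r : ℕ} [Fact r.Prime] (σ : Equiv.Perm α)
    (hσ : σ ^ r = 1) : Nat.card α ≡ Nat.card {a : α // σ a = a} [MOD r] := by
  classical
  have hG : IsPGroup r (Subgroup.zpowers σ) := by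
    rintro ⟨τ, hτ⟩
    obtain ⟨k, rfl⟩ := Subgroup.mem_zpowers_iff.mp hτ
    refine ⟨1, Subtype.ext ?_⟩
    show (σ ^ k) ^ (r ^ 1) = 1
    rw [pow_one, ← zpow_natCast, ← zpow_mul, mul_comm, zpow_mul, zpow_natCast, hσ, one_zpow]
  have h := hG.card_modEq_card_fixedPoints α
  have e : MulAction.fixedPoints (Subgroup.zpowers σ) α ≃ {a : α // σ a = a} :=
    Equiv.subtypeEquivRight fun a => by
      constructor
      · exact fun ha => ha ⟨σ, Subgroup.mem_zpowers σ⟩
      · rintro ha ⟨τ, hτ⟩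
        obtain ⟨k, rfl⟩ := Subgroup.mem_zpowers_iff.mp hτ
        exact Equiv.Perm.zpow_apply_eq_self_of_apply_eq_self ha k
  rwa [Nat.card_congr e] at h

/-- The permutation of the vectors given by a matrix. -/
noncomputable def actPerm (g : GL ι F) : Equiv.Perm (ι → F) :=
  { toFun := fun v => g.val *ᵥ v
    invFun := fun v => (g⁻¹ : GL ι F).val *ᵥ v
    left_inv := inv_act g
    right_inv := act_inv g }

omit [Fintype F] in
theorem actPerm_pow (g : GL ι F) (n : ℕ) (v : ι → F) : (actPerm g ^ n) v = (g ^ n).val *ᵥ v := by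
  induction n generalizing v with
  | zero => simp
  | succ n ih => rw [pow_succ, Equiv.Perm.mul_apply, ih, pow_succ, mul_act]; rfl

omit [Fintype F] in
theorem act_pow_of_sub {g : GL ι F} {u v : ι → F} (hgu : g.val *ᵥ u = u)
    (huv : g.val *ᵥ v = v + u) (n : ℕ) : (g ^ n).val *ᵥ v = v + (n : F) • u := by
  induction n with
  | zero => simp
  | succ n ih =>
    rw [pow_succ', mul_act, ih, Matrix.mulVec_add, Matrix.mulVec_smul, hgu, huv, Nat.cast_succ,
      add_smul, one_smul, add_assoc, add_comm u]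

section Shrink

variable {r : ℕ} (hrF : (r : F) ≠ 0) {x : GL ι F} (hxr : x ^ r = 1)

include hrF hxr

theorem fix_isCompl :
    IsCompl (fixSpace x) (LinearMap.range (Matrix.mulVecLin x.val - LinearMap.id)) := by
  set N := Matrix.mulVecLin x.val - LinearMap.id with hN
  have hd : Disjoint (fixSpace x) (LinearMap.range N) := by
    rw [Submodule.disjoint_def]
    rintro u hu ⟨v, hv⟩
    have hv' : x.val *ᵥ v = v + u := by
      rw [← hv]; simp [hN]
    have h := act_pow_of_sub (mem_fixSpace.mp hu) hv' r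
    rw [hxr, Units.val_one, Matrix.one_mulVec, left_eq_add] at h
    exact (smul_eq_zero.mp h).resolve_left hrF
  refine ⟨hd, codisjoint_iff.mpr (Submodule.eq_top_of_finrank_eq ?_)⟩
  have h1 := Submodule.finrank_sup_add_finrank_inf_eq (fixSpace x) (LinearMap.range N)
  rw [hd.eq_bot, finrank_bot, add_zero] at h1
  rw [h1, ← LinearMap.finrank_range_add_finrank_ker N, add_comm]
  rfl

theorem fix_ndeg (C : Space Q B) (hx : x ∈ isometryGroup F Q) : NDeg B (fixSpace x) := by
  intro c hc hcc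
  refine C.nondeg' fun v => ?_
  have hv : v ∈ fixSpace x ⊔ LinearMap.range (Matrix.mulVecLin x.val - LinearMap.id) := by
    rw [(fix_isCompl hrF hxr).sup_eq_top]; trivial
  obtain ⟨c', hc', w, ⟨u, rfl⟩, rfl⟩ := Submodule.mem_sup.mp hv
  rw [map_add, hcc c' hc', zero_add]
  have : B c (x.val *ᵥ u) = B c u := by
    conv_lhs => rw [← mem_fixSpace.mp hc]
    exact C.B_act hx c u
  simp [this]

/-- An element of order `r` among the isometries of the fixed space shrinks it. -/
theorem shrink [hr : Fact r.Prime] (C : Space Q B) (hx : x ∈ isometryGroup F Q)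
    (hdiv : r ∣ Nat.card ↥(relIso Q B (fixSpace x))) :
    ∃ z ∈ isometryGroup F Q, z ^ r = 1 ∧ finrank F (fixSpace z) < finrank F (fixSpace x) := by
  haveI : Finite ↥(relIso Q B (fixSpace x)) := Subtype.finite
  obtain ⟨⟨y, hy⟩, hyo⟩ := exists_prime_orderOf_dvd_card' r hdiv
  have hyr : y ^ r = 1 := by
    have := pow_orderOf_eq_one (⟨y, hy⟩ : relIso Q B (fixSpace x))
    rw [hyo] at this
    exact congrArg Subtype.val this
  have hy1 : y ≠ 1 := fun h => by
    have : (⟨y, hy⟩ : relIso Q B (fixSpace x)) = 1 := Subtype.ext h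
    rw [this, orderOf_one] at hyo
    exact hr.out.ne_one hyo.symm
  set N := Matrix.mulVecLin x.val - LinearMap.id with hN
  have hc := fix_isCompl hrF hxr
  have hperp : ∀ u ∈ fixSpace x, ∀ w ∈ LinearMap.range N, B u w = 0 := by
    rintro u hu _ ⟨v, rfl⟩
    have : B u (x.val *ᵥ v) = B u v := by
      conv_lhs => rw [← mem_fixSpace.mp hu]
      exact C.B_act hx u v
    simp [hN, this]
  have hyR : ∀ w ∈ LinearMap.range N, y.val *ᵥ w = w := fun w hw => hy.2 w fun u hu => hperp u hu w hw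
  have hyC : ∀ u ∈ fixSpace x, y.val *ᵥ u ∈ fixSpace x := fun u hu =>
    relIso_act_mem C (fix_ndeg hrF hxr C hx) hy hu
  have hxR : ∀ w ∈ LinearMap.range N, x.val *ᵥ w ∈ LinearMap.range N := by
    rintro _ ⟨v, rfl⟩
    exact ⟨x.val *ᵥ v, by simp [hN, Matrix.mulVec_sub]⟩
  have hsplit : ∀ v, ∃ c ∈ fixSpace x, ∃ w ∈ LinearMap.range N, v = c + w := fun v => by
    obtain ⟨c, hc', w, hw, h⟩ := Submodule.mem_sup.mp
      (show v ∈ fixSpace x ⊔ LinearMap.range N by rw [hc.sup_eq_top]; trivial)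
    exact ⟨c, hc', w, hw, h.symm⟩
  have hcomm : Commute y x := by
    refine gl_ext fun v => ?_
    obtain ⟨c, hc', w, hw, rfl⟩ := hsplit v
    rw [mul_act, mul_act, Matrix.mulVec_add, Matrix.mulVec_add, Matrix.mulVec_add,
      Matrix.mulVec_add, mem_fixSpace.mp hc', mem_fixSpace.mp (hyC c hc'), hyR w hw,
      hyR _ (hxR w hw)]
  refine ⟨y * x, mul_mem hy.1 hx, by rw [hcomm.mul_pow, hyr, hxr, one_mul], ?_⟩
  have hle : fixSpace (y * x) ≤ fixSpace x ⊓ fixSpace y := by
    intro v hv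
    obtain ⟨c, hc', w, hw, rfl⟩ := hsplit v
    rw [mem_fixSpace, mul_act, Matrix.mulVec_add, Matrix.mulVec_add, mem_fixSpace.mp hc',
      hyR _ (hxR w hw)] at hv
    have h1 : y.val *ᵥ c - c = w - x.val *ᵥ w := by
      rw [sub_eq_sub_iff_add_eq_add, hv]; abel
    have h0 : w - x.val *ᵥ w = 0 := Submodule.disjoint_def.mp hc.disjoint _
      (h1 ▸ Submodule.sub_mem _ (hyC c hc') hc') (Submodule.sub_mem _ hw (hxR w hw))
    have hw0 : w = 0 := Submodule.disjoint_def.mp hc.disjoint w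
      (mem_fixSpace.mpr (sub_eq_zero.mp h0).symm) hw
    subst hw0
    rw [add_zero]
    exact ⟨hc', mem_fixSpace.mpr (sub_eq_zero.mp (h1.trans h0))⟩
  refine lt_of_le_of_lt (Submodule.finrank_mono hle) (Submodule.finrank_lt_finrank_of_lt ?_)
  refine lt_of_le_of_ne inf_le_left fun heq => hy1 (gl_ext fun v => ?_)
  obtain ⟨c, hc', w, hw, rfl⟩ := hsplit v
  rw [Units.val_one, Matrix.one_mulVec, Matrix.mulVec_add, hyR w hw]
  rw [← heq] at hc'
  rw [mem_fixSpace.mp hc'.2]

end Shrink

/-- Vectors of norm one of an anisotropic subspace form one orbit. -/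
theorem level_dvd_relIso (C : Space Q B) (h2 : (2 : F) = 0) {U : Submodule F (ι → F)}
    (hU : NDeg B U) (hU0 : U ≠ ⊥) (hsing : ∀ v ∈ U, Q v = 0 → v = 0) :
    Nat.card {v : ι → F // v ∈ U ∧ Q v = 1} ∣ Nat.card ↥(relIso Q B U) := by
  classical
  letI : MulAction ↥(relIso Q B U) {v : ι → F // v ∈ U ∧ Q v = 1} :=
    { smul := fun g v => ⟨g.1.val *ᵥ v.1, relIso_act_mem C hU g.2 v.2.1,
        by rw [mem_iso.mp g.2.1, v.2.2]⟩
      one_smul := fun v => Subtype.ext (Matrix.one_mulVec v.1)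
      mul_smul := fun g k v => Subtype.ext (mul_act g.1 k.1 v.1) }
  rcases isEmpty_or_nonempty {v : ι → F // v ∈ U ∧ Q v = 1} with he | ⟨⟨v0⟩⟩
  · obtain ⟨v, hvU, hv⟩ := exists_nonsing C hU hU0
    obtain ⟨s, hs⟩ := exists_sqrt_two h2 (Q v)
    exact (he.false ⟨s⁻¹ • v, U.smul_mem _ hvU,
      by rw [C.smul, inv_pow, hs, inv_mul_cancel₀ hv]⟩).elim
  · haveI : MulAction.IsPretransitive ↥(relIso Q B U) {v : ι → F // v ∈ U ∧ Q v = 1} := by
      refine ⟨fun v w => ?_⟩
      by_cases hvw : v = w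
      · exact ⟨1, by rw [one_smul, hvw]⟩
      have hne : Q (v.1 - w.1) ≠ 0 := fun h => hvw (Subtype.ext
        (sub_eq_zero.mp (hsing _ (U.sub_mem v.2.1 w.2.1) h)))
      refine ⟨⟨_, rGL_mem_relIso C (U.sub_mem v.2.1 w.2.1) hne⟩, Subtype.ext ?_⟩
      show (rGL Q (v.1 - w.1)).val *ᵥ v.1 = w.1
      have h1 : B (v.1 - w.1) v.1 = Q (v.1 - w.1) := by
        rw [sub_eq_add_neg, C.add, C.neg, v.2.2, w.2.2, map_add, LinearMap.add_apply, C.self,
          v.2.2, map_neg, map_neg, LinearMap.neg_apply, C.symm w.1 v.1]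
        ring
      rw [rGL_act C hne, h1, inv_mul_cancel₀ hne, one_smul, sub_sub_cancel]
    rw [← MulAction.index_stabilizer_of_transitive ↥(relIso Q B U) v0]
    exact Subgroup.index_dvd_card _

/-- Isometries of odd prime order without fixed non-zero vectors. -/
theorem exists_fpf {r : ℕ} [hr : Fact r.Prime] (C : Space Q B) (h2 : (2 : F) = 0)
    (hrF : (r : F) ≠ 0)
    (hS : (r : ℤ) ∣ sgCount Q (⊤ : Submodule F (ι → F)) - 1)
    (hV : (r : ℤ) ∣ (Nat.card F : ℤ) ^ Fintype.card ι - 1)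
    (hq : ¬ (r : ℤ) ∣ (Nat.card F : ℤ) - 1) :
    ∃ x ∈ isometryGroup F Q, x ^ r = 1 ∧ fixSpace x = ⊥ := by
  classical
  have hex : ∃ n, ∃ x ∈ isometryGroup F Q, x ^ r = 1 ∧ finrank F (fixSpace x) = n :=
    ⟨_, 1, one_mem _, one_pow r, rfl⟩
  obtain ⟨x, hx, hxr, hfin⟩ := Nat.find_spec hex
  refine ⟨x, hx, hxr, ?_⟩
  have hmin : ∀ z ∈ isometryGroup F Q, z ^ r = 1 → finrank F (fixSpace x) ≤ finrank F (fixSpace z) :=
    fun z hz hzr => hfin ▸ Nat.find_min' hex ⟨z, hz, hzr, rfl⟩
  set U := fixSpace x with hUdef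
  have hU : NDeg B U := fix_ndeg hrF hxr C hx
  have hperm : actPerm x ^ r = 1 := Equiv.ext fun v => by
    rw [actPerm_pow, hxr]; simp
  have hno : ¬ r ∣ Nat.card ↥(relIso Q B U) := fun h => by
    obtain ⟨z, hz, hzr, hlt⟩ := shrink hrF hxr C hx h
    exact absurd (hmin z hz hzr) (not_le.mpr hlt)
  -- vectors
  have hcV : (r : ℤ) ∣ (Nat.card U : ℤ) - (Nat.card F : ℤ) ^ Fintype.card ι := by
    have h := card_modEq_fixed (r := r) (actPerm x) hperm
    rw [show Nat.card {a // actPerm x a = a} = Nat.card U from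
      Nat.card_congr (Equiv.subtypeEquivRight fun v => (mem_fixSpace (g := x)).symm)] at h
    have h' := (Int.natCast_modEq_iff.mpr h).dvd
    rw [Nat.card_fun, Nat.card_eq_fintype_card (α := ι)] at h'
    push_cast at h'
    exact h'
  -- singular vectors
  have hcS : (r : ℤ) ∣ sgCount Q U - sgCount Q (⊤ : Submodule F (ι → F)) := by
    let σ : Equiv.Perm {v : ι → F // Q v = 0} :=
      { toFun := fun v => ⟨x.val *ᵥ v.1, by rw [mem_iso.mp hx, v.2]⟩
        invFun := fun v => ⟨(x⁻¹ : GL ι F).val *ᵥ v.1, by rw [mem_iso.mp (inv_mem hx), v.2]⟩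
        left_inv := fun v => Subtype.ext (inv_act x v.1)
        right_inv := fun v => Subtype.ext (act_inv x v.1) }
    have hσp : ∀ (n : ℕ) v, ((σ ^ n) v).1 = (actPerm x ^ n) v.1 := by
      intro n
      induction n with
      | zero => intro v; rfl
      | succ n ih => intro v; rw [pow_succ, Equiv.Perm.mul_apply, ih, pow_succ, Equiv.Perm.mul_apply]; rfl
    have hσ : σ ^ r = 1 := Equiv.ext fun v => Subtype.ext (by rw [hσp, hperm]; rfl)
    have h := card_modEq_fixed (r := r) σ hσ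
    have e : {a : {v : ι → F // Q v = 0} // σ a = a} ≃ {v : ι → F // v ∈ U ∧ Q v = 0} :=
      { toFun := fun a => ⟨a.1.1, mem_fixSpace.mpr (congrArg Subtype.val a.2), a.1.2⟩
        invFun := fun v => ⟨⟨v.1, v.2.2⟩, Subtype.ext (mem_fixSpace.mp v.2.1)⟩
        left_inv := fun _ => rfl
        right_inv := fun _ => rfl }
    rw [Nat.card_congr e] at h
    rw [sgCount_top, sgCount]
    exact (Int.natCast_modEq_iff.mpr h).dvd
  have hU1 : (r : ℤ) ∣ sgCount Q U - 1 := by
    have := dvd_add hcS hS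
    rwa [sub_add_sub_cancel] at this
  have hcard : (r : ℤ) ∣ (Nat.card U : ℤ) - 1 := by
    have := dvd_add hcV hV
    rwa [sub_add_sub_cancel] at this
  have hsing : ∀ v ∈ U, Q v = 0 → v = 0 := by
    intro e he hQe
    by_contra he0
    obtain ⟨f, H⟩ := exists_hyp C hU he he0 hQe
    refine hno (Int.natCast_dvd_natCast.mp ?_)
    rw [card_relIso_step C hU H, mul_assoc]
    exact dvd_mul_of_dvd_left hU1 _
  by_contra hbot
  have h0 : 1 ≤ finrank F U := Submodule.one_le_finrank_iff.mpr hbot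
  have h3 : finrank F U < 3 := by
    by_contra h3
    push Not at h3
    obtain ⟨v, hv, hv0, hQv⟩ := Sing.exists_singular C.smul C.polar U h3
    exact hv0 (hsing v hv hQv)
  have h1 : finrank F U ≠ 1 := fun h1 => by
    obtain ⟨⟨v, hv⟩, hv0, hspan⟩ := finrank_eq_one_iff'.mp h1
    refine hv0 (Subtype.ext (hU v hv fun w hw => ?_))
    obtain ⟨c, hc⟩ := hspan ⟨w, hw⟩
    have hw' : w = c • v := (congrArg Subtype.val hc).symm
    rw [hw', map_smul, C.self, h2, zero_mul, smul_zero]
  have h22 : finrank F U = 2 := by omega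
  have hq2 : Nat.card U = Nat.card F ^ 2 := by
    rw [Module.natCard_eq_pow_finrank (K := F) (V := U), h22]
  rw [hq2] at hcard
  push_cast at hcard
  have hL := card_level C h2 U
  have hsg : sgCount Q U = 1 := by
    rw [sgCount, Nat.cast_eq_one, Nat.card_eq_one_iff_unique]
    exact ⟨⟨fun a b => Subtype.ext ((hsing _ a.2.1 a.2.2).trans (hsing _ b.2.1 b.2.2).symm)⟩,
      ⟨⟨0, U.zero_mem, C.zero⟩⟩⟩
  rw [hsg, hq2] at hL
  push_cast at hL
  have hF : (Nat.card F : ℤ) - 1 ≠ 0 := by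
    have : 1 < Nat.card F := Finite.one_lt_card
    omega
  have hLe : (Nat.card {v : ι → F // v ∈ U ∧ Q v = 1} : ℤ) = (Nat.card F : ℤ) + 1 :=
    mul_right_cancel₀ hF (by linear_combination hL)
  rw [show (Nat.card F : ℤ) ^ 2 - 1 = ((Nat.card F : ℤ) + 1) * ((Nat.card F : ℤ) - 1) by ring]
    at hcard
  refine hno (Nat.dvd_trans (Int.natCast_dvd_natCast.mp ?_) (level_dvd_relIso C h2 hU hbot hsing))
  rw [hLe]
  exact ((Nat.prime_iff_prime_int.mp hr.out).dvd_or_dvd hcard).resolve_right hq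

omit [Fintype F] in
theorem omegaGL_le_iso {g : GL ι F} (hg : g ∈ Cfsg.Geo.omegaGL Q) : g ∈ isometryGroup F Q := by
  obtain ⟨k, -, rfl⟩ := hg
  exact k.2

omit [Fintype F] in
/-- An involution in characteristic two fixes at least half of the space. -/
theorem two_fix (h2 : (2 : F) = 0) {g : GL ι F} (hg : g ^ 2 = 1) :
    Fintype.card ι ≤ 2 * finrank F (fixSpace g) := by
  set N := Matrix.mulVecLin g.val - LinearMap.id with hN
  have hle : LinearMap.range N ≤ fixSpace g := by
    rintro _ ⟨v, rfl⟩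
    rw [mem_fixSpace]
    have h : g.val *ᵥ (g.val *ᵥ v) = v := by
      rw [← mul_act, ← sq, hg, Units.val_one, Matrix.one_mulVec]
    simp only [hN, LinearMap.sub_apply, LinearMap.id_apply, Matrix.mulVecLin_apply,
      Matrix.mulVec_sub, h]
    funext i
    simp only [Pi.sub_apply]
    linear_combination (v i - (g.val *ᵥ v) i) * h2
  have h1 := Submodule.finrank_mono hle
  have h3 := LinearMap.finrank_range_add_finrank_ker N
  have h4 : LinearMap.ker N = fixSpace g := rfl
  rw [h4, finrank_fintype_fun_eq_card] at h3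
  omega

/-- An element of `Ω` of order `r` with no fixed non-singular vector is a counterexample. -/
theorem not_forall_fix (C : Space Q B) (h2 : (2 : F) = 0) [Nonempty ι] {r : ℕ} {x : GL ι F}
    (hx : x ∈ Cfsg.Geo.omegaGL Q) (hxr : x ^ r = 1) (hx1 : x ≠ 1)
    (hfix : ∀ v, x.val *ᵥ v = v → Q v = 0) :
    ¬ ∀ x : GL ι F, x ∈ Cfsg.Geo.omegaGL Q →
      (∃ z : F, ((x ^ r : GL ι F) : Matrix ι ι F) = z • (1 : Matrix ι ι F)) →
      (∀ z : F, (x : Matrix ι ι F) ≠ z • (1 : Matrix ι ι F)) →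
      ∃ W : Submodule F (ι → F), (finrank F ↥W = 1 ∧ ∃ v ∈ W, Q v ≠ 0) ∧
        W.map (Matrix.toLin' (x : Matrix ι ι F)) ≤ W := by
  intro h
  obtain ⟨v, hv, hQv⟩ := (point_iff C h2 (omegaGL_le_iso hx)).mp
    (h x hx ⟨1, by rw [hxr, one_smul, Units.val_one]⟩
      fun z hz => hx1 (scalar_iso_eq_one C h2 (omegaGL_le_iso hx) hz))
  exact hQv (hfix v hv)

end Cfsg.Lib.Linear.Orth
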