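import Cfsg.Agent.Lib.Linear.UnitaryGen

/-!
The special unitary group in dimension at least four: every transvection is a commutator, and the
group is simple modulo scalars.
-/

set_option autoImplicit false
set_option linter.unusedSectionVars false

namespace Cfsg.Lib.Linear.Herm.Big

open Module
open scoped commutatorElement

variable {F V : Type*} [Field F] [Finite F] [AddCommGroup V] [Module F V] [FiniteDimensional F V]
  {σ : F →+* F} {B : V →ₛₗ[σ] V →ₗ[F] F}

/-- The standing assumptions. -/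
structure Space (B : V →ₛₗ[σ] V →ₗ[F] F) : Prop where
  ne_id : σ ≠ RingHom.id F
  invol : ∀ a, σ (σ a) = a
  symm : B.IsSymm
  ndeg : B.Nondegenerate
  dim : 4 ≤ finrank F V

variable (C : Space B)
include C

theorem mem_tv {g : V ≃ₗ[F] V} : g ∈ tvGroup B ↔ g ∈ iso B ∧ LinearEquiv.det g = 1 :=
  mem_tvGroup_iff C.ne_id C.invol C.symm C.ndeg (Or.inl C.dim) g

theorem swap_zero {x y : V} (h : B x y = 0) : B y x = 0 := C.symm.isRefl _ _ h

theorem swap_one {x y : V} (h : B x y = 1) : B y x = 1 := by rw [← C.symm.eq x y, h, map_one]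

theorem exists_equiv (L : V →ₗ[F] V) (hiso : ∀ x y, B (L x) (L y) = B x y) :
    ∃ g ∈ iso B, (LinearEquiv.det g : F) = LinearMap.det L ∧ ∀ x, g x = L x := by
  have hinj : Function.Injective L := by
    rw [← LinearMap.ker_eq_bot, LinearMap.ker_eq_bot']
    intro a ha
    refine C.ndeg.1 a fun b => ?_
    rw [← hiso, ha, map_zero, LinearMap.zero_apply]
  exact ⟨LinearEquiv.ofInjectiveEndo L hinj, hiso, by rw [LinearEquiv.coe_det]; rfl, fun x => rfl⟩

theorem exists_dual {e w : V} (h : e ∉ Submodule.span F {w}) : ∃ u, B u e = 1 ∧ B u w = 0 := by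
  obtain ⟨u, hu, heu⟩ := exists_perp_ne_zero C.invol C.symm C.ndeg _ h
  have hue : B u e ≠ 0 := fun h' => heu (swap_zero C h')
  refine ⟨σ (B u e)⁻¹ • u, ?_, ?_⟩
  · rw [LinearMap.map_smulₛₗ, LinearMap.smul_apply, C.invol, smul_eq_mul, inv_mul_cancel₀ hue]
  · rw [LinearMap.map_smulₛₗ, LinearMap.smul_apply, swap_zero C (hu w (Submodule.mem_span_singleton_self w)),
      smul_zero]

theorem adjust {e u : V} (he : B e e = 0) (heu : B e u = 1) :
    ∃ t : F, B (u + t • e) (u + t • e) = 0 := by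
  obtain ⟨t, ht⟩ := exists_trace_eq C.ne_id C.invol (a := -(B u u)) (by rw [map_neg, self_fixed C.symm])
  refine ⟨t, ?_⟩
  simp only [map_add, map_smul, LinearMap.map_smulₛₗ, LinearMap.add_apply, LinearMap.smul_apply, smul_eq_mul,
    he, heu, swap_one C heu]
  linear_combination ht

theorem exists_partner_perp {e : V} (he : B e e = 0) (X : Submodule F V) (heX : e ∉ X)
    (hX : ∀ x ∈ X, B x e = 0) : ∃ f, B f f = 0 ∧ B e f = 1 ∧ ∀ x ∈ X, B x f = 0 := by
  obtain ⟨u, hu, heu⟩ := exists_perp_ne_zero C.invol C.symm C.ndeg X heX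
  have h1 : B e ((B e u)⁻¹ • u) = 1 := by rw [map_smul, smul_eq_mul, inv_mul_cancel₀ heu]
  obtain ⟨t, ht⟩ := adjust C he h1
  exact ⟨_, ht, by rw [map_add, h1, map_smul, he, smul_zero, add_zero],
    fun x hx => by rw [map_add, map_smul, map_smul, hu x hx, hX x hx, smul_zero, smul_zero, add_zero]⟩

theorem exists_frame {e : V} (he : B e e = 0) (he0 : e ≠ 0) :
    ∃ u v, B u u = 0 ∧ B v v = 0 ∧ B e u = 0 ∧ B e v = 0 ∧ B u v = 1 := by
  obtain ⟨f, hf, hef, -⟩ := exists_partner_perp C he ⊥ (by simpa using he0)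
    (fun x hx => by rw [(Submodule.mem_bot F).1 hx]; simp)
  have hK : finrank F V ≤ finrank F ↥(LinearMap.ker (B e) ⊓ LinearMap.ker (B f)) + 2 := by
    have h4 := LinearMap.finrank_range_add_finrank_ker ((B e).prod (B f))
    have h5 := Submodule.finrank_le (LinearMap.range ((B e).prod (B f)))
    rw [LinearMap.ker_prod] at h4
    rw [Module.finrank_prod, Module.finrank_self] at h5
    omega
  have := C.dim
  obtain ⟨u, hu, hu0, huu⟩ := exists_iso_ne_zero C.ne_id C.invol C.symm _
    (show 2 ≤ finrank F ↥(LinearMap.ker (B e) ⊓ LinearMap.ker (B f)) by omega)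
  obtain ⟨hue, huf⟩ := Submodule.mem_inf.1 hu
  rw [LinearMap.mem_ker] at hue huf
  have hnot : u ∉ Submodule.span F {e} := by
    intro h
    obtain ⟨c, rfl⟩ := Submodule.mem_span_singleton.1 h
    rw [map_smul, swap_one C hef, smul_eq_mul, mul_one] at huf
    exact hu0 (by rw [huf, zero_smul])
  obtain ⟨v, hv, huv, hev⟩ := exists_partner_perp C huu _ hnot (fun x hx => by
    obtain ⟨c, rfl⟩ := Submodule.mem_span_singleton.1 hx
    rw [LinearMap.map_smulₛₗ, LinearMap.smul_apply, hue, smul_zero])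
  exact ⟨u, v, huu, hv, hue, hev e (Submodule.mem_span_singleton_self e), huv⟩

theorem exists_root {e w : V} (he : B e e = 0) (hw : B w w = 0) (hew : B e w = 0) (c : F) :
    ∃ g ∈ tvGroup B, ∀ x, g x = x + (c * B w x) • e + (-σ c * B e x) • w := by
  let L : V →ₗ[F] V := (LinearMap.transvection ((-σ c) • B e) w).comp (LinearMap.transvection (c • B w) e)
  have hwe := swap_zero C hew
  have hL : ∀ x, L x = x + (c * B w x) • e + (-σ c * B e x) • w := fun x => by
    simp [L, LinearMap.transvection, he]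
  obtain ⟨g, hg, hdet, hgL⟩ := exists_equiv C L fun x y => by
    simp only [hL, map_add, map_smul, LinearMap.map_smulₛₗ, LinearMap.add_apply, LinearMap.smul_apply,
      smul_eq_mul, map_mul, map_neg, C.symm.eq, C.invol, he, hw, hew, hwe]
    ring
  refine ⟨g, (mem_tv C).2 ⟨hg, Units.ext ?_⟩, fun x => (hgL x).trans (hL x)⟩
  rw [hdet]
  simp [L, LinearMap.det_comp, hew, hwe]

/-- Transvections are commutators. -/
theorem tv_commutator (e : V) (l : F) (h : l + σ l + σ l * l * B e e = 0) (he : B e e = 0) :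
    ∃ t ∈ tvGroup B, ∃ x ∈ tvGroup B, qrefl e l h = ⁅t, x⁆ := by
  by_cases he0 : e = 0
  · subst he0
    refine ⟨1, one_mem _, 1, one_mem _, ?_⟩
    rw [commutatorElement_one_left]
    exact LinearEquiv.ext fun z => by simp
  obtain ⟨u, v, hu, hv, heu, hev, huv⟩ := exists_frame C he he0
  obtain ⟨s, hs⟩ := exists_trace_eq C.ne_id C.invol (a := (1 : F)) (map_one σ)
  have hl : σ l = -l := by
    rw [he, mul_zero, add_zero] at h
    linear_combination h
  set a := -(l * s) with ha
  have hla : σ a - a = l := by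
    rw [ha, map_neg, map_mul, hl]
    linear_combination l * hs
  obtain ⟨t, ht, htx⟩ := exists_root C he hv hev a
  obtain ⟨x, hx, hxx⟩ := exists_root C he hu heu 1
  refine ⟨t, ht, x, hx, ?_⟩
  rw [commutatorElement_def, eq_mul_inv_iff_mul_eq, eq_mul_inv_iff_mul_eq]
  refine LinearEquiv.ext fun z => ?_
  simp only [LinearEquiv.mul_apply, qrefl_apply, htx, hxx, map_add, map_smul, smul_eq_mul, he, hu, hv, heu, hev,
    swap_zero C heu, swap_zero C hev, huv, swap_one C huv, map_one, ← hla]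
  module

theorem tv_le_commutator : tvGroup B ≤ ⁅tvGroup B, tvGroup B⁆ := by
  rw [tvGroup, Subgroup.closure_le, ← tvGroup]
  rintro _ ⟨w, l, h, hw, rfl⟩
  obtain ⟨t, ht, x, hx, e⟩ := tv_commutator C w l h hw
  rw [e]
  exact Subgroup.commutator_mem_commutator ht hx

theorem det_norm {g : V ≃ₗ[F] V} (hg : g ∈ iso B) :
    σ (LinearEquiv.det g : F) * (LinearEquiv.det g : F) = 1 := by
  rw [iso_eq_qreflGroup C.ne_id C.invol C.symm C.ndeg] at hg
  induction hg using Subgroup.closure_induction with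
  | mem x hx =>
    obtain ⟨w, l, h, rfl⟩ := hx
    rw [det_qrefl]
    simp only [map_add, map_one, map_mul, self_fixed C.symm]
    linear_combination (B w w) * h
  | one => simp
  | mul x y _ _ hx hy =>
    rw [map_mul, Units.val_mul, map_mul]
    linear_combination (σ (LinearEquiv.det x : F) * (LinearEquiv.det x : F)) * hy + hx
  | inv x _ hx => rw [map_inv, Units.val_inv_eq_inv_val, map_inv₀, ← mul_inv, hx, inv_one]

/-- An isometry of prescribed determinant supported on a hyperbolic pair. -/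
theorem exists_det_fix {e f : V} (he : B e e = 0) (hf : B f f = 0) (hef : B e f = 1) {z : F}
    (hz : σ z * z = 1) : ∃ D ∈ iso B, (LinearEquiv.det D : F) = z ∧
      (∃ α : F, α ≠ 0 ∧ D e = α • e) ∧ (∃ μ : F, μ ≠ 0 ∧ D f = μ • f) ∧
      ∀ x, B e x = 0 → B f x = 0 → D x = x := by
  obtain ⟨α, hα0, hα⟩ : ∃ a : F, a ≠ 0 ∧ a = z * σ a := by
    by_cases h : z = -1
    · obtain ⟨y, hy0, hy⟩ := exists_trace_zero C.ne_id C.invol
      exact ⟨y, hy0, by rw [h]; linear_combination hy⟩
    · refine ⟨1 + z, fun h' => h (eq_neg_of_add_eq_zero_right h'), ?_⟩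
      rw [map_add, map_one]
      linear_combination -hz
  have hσα : σ α ≠ 0 := fun h => hα0 (by rw [hα, h, mul_zero])
  set μ := (σ α)⁻¹ with hμ
  have h1 : σ α * μ = 1 := mul_inv_cancel₀ hσα
  have h2 : σ μ * α = 1 := by rw [hμ, map_inv₀, C.invol, inv_mul_cancel₀ hα0]
  have hfe := swap_one C hef
  let L : V →ₗ[F] V := (LinearMap.transvection ((μ - 1) • B e) f).comp (LinearMap.transvection ((α - 1) • B f) e)
  have hL : ∀ x, L x = x + ((α - 1) * B f x) • e + ((μ - 1) * B e x) • f := fun x => by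
    simp [L, LinearMap.transvection, he]
  obtain ⟨D, hD, hdet, hDL⟩ := exists_equiv C L fun x y => by
    simp only [hL, map_add, map_smul, LinearMap.map_smulₛₗ, LinearMap.add_apply, LinearMap.smul_apply,
      smul_eq_mul, map_mul, map_sub, map_one, C.symm.eq, he, hf, hef, hfe]
    linear_combination (B x f * B e y) * h1 + (B x e * B f y) * h2
  refine ⟨D, hD, ?_, ⟨α, hα0, ?_⟩, ⟨μ, inv_ne_zero hσα, ?_⟩, fun x hx hx' => ?_⟩
  · rw [hdet]
    simp [L, LinearMap.det_comp, hef, hfe]
    linear_combination μ * hα + z * h1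
  · rw [hDL, hL, hfe, he]; module
  · rw [hDL, hL, hf, hef]; module
  · rw [hDL, hL, hx, hx']; module

/-- Transitivity on pairs of isotropic lines of either type. -/
theorem exists_map_lines {e w e' w' : V} (he : B e e = 0) (hw : B w w = 0) (he' : B e' e' = 0)
    (hw' : B w' w' = 0) (hi1 : e ∉ Submodule.span F {w}) (hi2 : w ∉ Submodule.span F {e})
    (hi1' : e' ∉ Submodule.span F {w'}) (hi2' : w' ∉ Submodule.span F {e'})
    (htype : B e w = 0 ↔ B e' w' = 0) :
    ∃ t ∈ tvGroup B, ∃ k l : F, k ≠ 0 ∧ l ≠ 0 ∧ t e = k • e' ∧ t w = l • w' := by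
  obtain ⟨c, hc0, hc⟩ : ∃ c : F, c ≠ 0 ∧ B e' (c • w') = B e w := by
    by_cases h : B e w = 0
    · exact ⟨1, one_ne_zero, by rw [one_smul, h, htype.1 h]⟩
    · refine ⟨B e w / B e' w', div_ne_zero h (mt htype.2 h), ?_⟩
      rw [map_smul, smul_eq_mul, div_mul_cancel₀ _ (mt htype.2 h)]
  have hc' : B (c • w') e' = B w e := by rw [← C.symm.eq e' (c • w'), hc, C.symm.eq]
  have hcw : B (c • w') (c • w') = B w w := by
    simp [map_smul, LinearMap.map_smulₛₗ, hw', hw]
  obtain ⟨u₁, h11, h12⟩ := exists_dual C hi1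
  obtain ⟨u₂, h22, h21⟩ := exists_dual C hi2
  set X := Submodule.span F ({e, w} : Set V)
  let φ : X →ₗ[F] V := ((B u₁).smulRight e' + (B u₂).smulRight (c • w')).comp X.subtype
  have hrep : ∀ x : X, ∃ a b, (x : V) = a • e + b • w ∧ φ x = a • e' + b • (c • w') := fun x => by
    obtain ⟨a, b, h⟩ := Submodule.mem_span_pair.1 x.2
    refine ⟨a, b, h.symm, ?_⟩
    show B u₁ (x : V) • e' + B u₂ (x : V) • (c • w') = _
    rw [← h]
    simp [h11, h12, h22, h21]
  obtain ⟨t, ht, htX⟩ := witt C.ne_id C.invol C.symm C.ndeg X φ (by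
      rw [injective_iff_map_eq_zero]
      intro x hx
      obtain ⟨a, b, hab, hφ⟩ := hrep x
      rw [hφ, smul_smul] at hx
      have ha : a = 0 := by
        by_contra ha
        refine hi1' (Submodule.mem_span_singleton.2 ⟨a⁻¹ * -(b * c), ?_⟩)
        rw [← smul_smul, neg_smul, ← eq_neg_of_add_eq_zero_left hx, smul_smul, inv_mul_cancel₀ ha, one_smul]
      have hb : b = 0 := by
        rw [ha, zero_smul, zero_add, smul_eq_zero] at hx
        rcases hx with hx | hx
        · exact (mul_eq_zero.1 hx).resolve_right hc0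
        · exact absurd (hx ▸ Submodule.zero_mem _) hi2'
      exact Subtype.ext (by rw [hab, ha, hb, zero_smul, zero_smul, add_zero]; rfl))
    (fun x y => by
      obtain ⟨a, b, hab, hφ⟩ := hrep x
      obtain ⟨a', b', hab', hφ'⟩ := hrep y
      rw [hφ, hφ', hab, hab']
      simp only [map_add, LinearMap.map_smulₛₗ, LinearMap.add_apply, LinearMap.smul_apply,
        RingHom.id_apply, smul_eq_mul] at hc hc' hcw ⊢
      linear_combination (σ a * b') * hc + (σ b * a') * hc' + (σ b * b') * hcw + (σ a * a') * (he'.trans he.symm))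
  have hte : t e = e' := by
    rw [htX ⟨e, Submodule.subset_span (by simp)⟩]
    show B u₁ e • e' + B u₂ e • (c • w') = e'
    simp [h11, h21]
  have htw : t w = c • w' := by
    rw [htX ⟨w, Submodule.subset_span (by simp)⟩]
    show B u₁ w • e' + B u₂ w • (c • w') = c • w'
    simp [h12, h22]
  -- correct the determinant
  have hδ : σ (LinearEquiv.det t⁻¹ : F) * (LinearEquiv.det t⁻¹ : F) = 1 := det_norm C (inv_mem ht)
  obtain ⟨D, hD, hdet, k, l, hk, hl, hDe, hDw⟩ : ∃ D ∈ iso B, (LinearEquiv.det D : F) = (LinearEquiv.det t⁻¹ : F) ∧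
      ∃ k l : F, k ≠ 0 ∧ l ≠ 0 ∧ D e' = k • e' ∧ D w' = l • w' := by
    by_cases h : B e' w' = 0
    · obtain ⟨f, hf, hef, hwf⟩ := exists_partner_perp C he' _ hi1' (fun x hx => by
        obtain ⟨d, rfl⟩ := Submodule.mem_span_singleton.1 hx
        rw [LinearMap.map_smulₛₗ, LinearMap.smul_apply, swap_zero C h, smul_zero])
      obtain ⟨D, hD, hdet, ⟨α, hα, hDe⟩, -, hfix⟩ := exists_det_fix C he' hf hef hδ
      exact ⟨D, hD, hdet, α, 1, hα, one_ne_zero, hDe, by
        rw [one_smul, hfix w' h (swap_zero C (hwf w' (Submodule.mem_span_singleton_self w')))]⟩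
    · set f := (B e' w')⁻¹ • w' with hfdef
      have hf : B f f = 0 := by simp [hfdef, map_smul, LinearMap.map_smulₛₗ, hw']
      have hef : B e' f = 1 := by rw [hfdef, map_smul, smul_eq_mul, inv_mul_cancel₀ h]
      obtain ⟨D, hD, hdet, ⟨α, hα, hDe⟩, ⟨μ, hμ, hDf⟩, -⟩ := exists_det_fix C he' hf hef hδ
      refine ⟨D, hD, hdet, α, μ, hα, hμ, hDe, ?_⟩
      rw [hfdef, map_smul, smul_comm] at hDf
      exact smul_right_injective V (inv_ne_zero h) hDf
  refine ⟨D * t, (mem_tv C).2 ⟨mul_mem hD ht, ?_⟩, k, c * l, hk, mul_ne_zero hc0 hl, ?_, ?_⟩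
  · have : LinearEquiv.det D = LinearEquiv.det t⁻¹ := Units.ext hdet
    rw [map_mul, this, ← map_mul, inv_mul_cancel, map_one]
  · rw [LinearEquiv.mul_apply, hte, hDe]
  · rw [LinearEquiv.mul_apply, htw, map_smul, hDw, smul_smul]

/-- An isometry fixing all isotropic lines is a scalar. -/
theorem scalar_of_lines {g : V ≃ₗ[F] V}
    (h : ∀ e, B e e = 0 → g e ∈ Submodule.span F {e}) : ∃ c : F, ∀ x, g x = c • x := by
  have := C.dim
  obtain ⟨e, -, he0, he⟩ := exists_iso_ne_zero C.ne_id C.invol C.symm ⊤ (by rw [finrank_top]; omega)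
  obtain ⟨a, ha⟩ := Submodule.mem_span_singleton.1 (h e he)
  refine ⟨a, fun x => ?_⟩
  have hle : Submodule.span F {w | w ∈ (⊤ : Submodule F V) ∧ B w w = 0} ≤
      LinearMap.ker ((g : V →ₗ[F] V) - a • LinearMap.id) := by
    rw [Submodule.span_le]
    intro f hf
    replace hf : B f f = 0 := hf.2
    show g f - a • f = 0
    obtain ⟨b, hb⟩ := Submodule.mem_span_singleton.1 (h f hf)
    by_cases hdep : f ∈ Submodule.span F {e}
    · obtain ⟨c, rfl⟩ := Submodule.mem_span_singleton.1 hdep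
      rw [map_smul, ← ha, smul_smul, smul_smul, mul_comm, sub_self]
    obtain ⟨c, hc0, hw⟩ : ∃ c : F, c ≠ 0 ∧ B (e + c • f) (e + c • f) = 0 := by
      by_cases hef : B e f = 0
      · exact ⟨1, one_ne_zero, by simp [he, hf, hef, swap_zero C hef]⟩
      · obtain ⟨y, hy0, hy⟩ := exists_trace_zero C.ne_id C.invol
        refine ⟨y / B e f, div_ne_zero hy0 hef, ?_⟩
        have h1 : B f e = σ (B e f) := (C.symm.eq e f).symm
        have h2 : σ (y / B e f) * σ (B e f) = σ y := by rw [← map_mul, div_mul_cancel₀ _ hef]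
        have h3 : y / B e f * B e f = y := div_mul_cancel₀ _ hef
        simp only [map_add, LinearMap.map_smulₛₗ, LinearMap.add_apply, LinearMap.smul_apply, map_smul,
          smul_eq_mul, he, hf, h1, mul_zero, add_zero, zero_add]
        linear_combination h2 + h3 + hy
    obtain ⟨d, hd⟩ := Submodule.mem_span_singleton.1 (h _ hw)
    rw [map_add, map_smul, ← ha, ← hb] at hd
    have hcoef : (d - a) • e + (c * (d - b)) • f = 0 := by
      linear_combination (norm := module) hd
    have hcb : c * (d - b) = 0 := by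
      by_contra hne
      refine hdep (Submodule.mem_span_singleton.2 ⟨(c * (d - b))⁻¹ * -(d - a), ?_⟩)
      rw [← smul_smul, neg_smul, ← eq_neg_of_add_eq_zero_right hcoef, smul_smul, inv_mul_cancel₀ hne, one_smul]
    rw [hcb, zero_smul, add_zero, smul_eq_zero, or_iff_left he0, sub_eq_zero] at hcoef
    rw [← hb, ← hcoef, sub_eq_zero.1 ((mul_eq_zero.1 hcb).resolve_left hc0), sub_self]
  exact sub_eq_zero.1 (hle (iso_span C.ne_id C.invol C.symm C.ndeg ⊤ (by rw [finrank_top]; omega)
    (Submodule.mem_top (x := x))))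

/-- A subgroup normalised by the transvection group is scalar or contains its derived group. -/
theorem scalars_or_commutator_le {N : Subgroup (V ≃ₗ[F] V)} (hN : N ≤ tvGroup B)
    (hnorm : ∀ t ∈ tvGroup B, ∀ g ∈ N, t * g * t⁻¹ ∈ N) :
    (∀ g ∈ N, ∃ c : F, ∀ x, g x = c • x) ∨ ⁅tvGroup B, tvGroup B⁆ ≤ N := by
  by_cases hall : ∀ g ∈ N, ∀ e, B e e = 0 → g e ∈ Submodule.span F {e}
  · exact Or.inl fun g hg => scalar_of_lines C (hall g hg)
  right
  push Not at hall
  obtain ⟨g, hg, e, he, hge⟩ := hall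
  have he0 : e ≠ 0 := fun h => hge (by simp [h])
  have hg_iso := tvGroup_le_iso C.symm (hN hg)
  have hgee : B (g e) (g e) = 0 := by rw [hg_iso e e, he]
  let R : V → V → Prop := fun x y => ∃ n ∈ N, ∃ k : F, k ≠ 0 ∧ n x = k • y
  have hRtrans : ∀ {x y z}, R x y → R y z → R x z := by
    rintro x y z ⟨n, hn, k, hk, hnx⟩ ⟨m, hm, l, hl, hmy⟩
    exact ⟨m * n, mul_mem hm hn, k * l, mul_ne_zero hk hl, by
      rw [LinearEquiv.mul_apply, hnx, map_smul, hmy, smul_smul]⟩
  have hRconj : ∀ {x y x' y' : V} {t : V ≃ₗ[F] V}, t ∈ tvGroup B → R x y →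
      (∃ k : F, k ≠ 0 ∧ t x = k • x') → (∃ l : F, l ≠ 0 ∧ t y = l • y') → R x' y' := by
    rintro x y x' y' t ht ⟨n, hn, j, hj, hnx⟩ ⟨k, hk, htx⟩ ⟨l, hl, hty⟩
    refine ⟨t * n * t⁻¹, hnorm t ht n hn, k⁻¹ * (j * l), mul_ne_zero (inv_ne_zero hk) (mul_ne_zero hj hl), ?_⟩
    have hx' : x' = k⁻¹ • t x := by rw [htx, smul_smul, inv_mul_cancel₀ hk, one_smul]
    have htt : t⁻¹ (t x) = x := by rw [← LinearEquiv.mul_apply, inv_mul_cancel]; rfl
    rw [hx', LinearEquiv.mul_apply, LinearEquiv.mul_apply, map_smul, map_smul, map_smul, htt, hnx, map_smul, hty,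
      smul_smul, smul_smul, mul_assoc]
  have hge' : e ∉ Submodule.span F {g e} := fun h => by
    obtain ⟨c, hc⟩ := Submodule.mem_span_singleton.1 h
    have hc0 : c ≠ 0 := fun h0 => he0 (by rw [← hc, h0, zero_smul])
    exact hge (Submodule.mem_span_singleton.2 ⟨c⁻¹, by
      conv_lhs => rw [← hc]
      rw [smul_smul, inv_mul_cancel₀ hc0, one_smul]⟩)
  have hsame : ∀ x y, B x x = 0 → B y y = 0 → x ∉ Submodule.span F {y} → y ∉ Submodule.span F {x} →
      (B x y = 0 ↔ B e (g e) = 0) → R x y := by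
    intro x y hx hy h1 h2 htype
    obtain ⟨t, ht, k, l, hk, hl, hte, htg⟩ := exists_map_lines C he hgee hx hy hge' hge h1 h2 htype.symm
    exact hRconj ht ⟨g, hg, 1, one_ne_zero, (one_smul F _).symm⟩ ⟨k, hk, hte⟩ ⟨l, hl, htg⟩
  have hind : ∀ {x y : V}, B x y = 1 → B x x = 0 → B y y = 0 →
      x ∉ Submodule.span F {y} ∧ y ∉ Submodule.span F {x} := by
    intro x y hxy hx hy
    constructor <;> intro h <;> obtain ⟨c, rfl⟩ := Submodule.mem_span_singleton.1 h
    · rw [LinearMap.map_smulₛₗ, LinearMap.smul_apply, hy, smul_zero] at hxy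
      exact zero_ne_one hxy
    · rw [map_smul, hx, smul_zero] at hxy
      exact zero_ne_one hxy
  -- `N` is transitive on isotropic lines
  have htrans : ∀ w, B w w = 0 → w ≠ 0 → ∃ n ∈ N, ∃ k : F, k ≠ 0 ∧ n e = k • w := by
    intro w hw hw0
    by_cases hdep : w ∈ Submodule.span F {e}
    · obtain ⟨c, rfl⟩ := Submodule.mem_span_singleton.1 hdep
      have hc : c ≠ 0 := fun h => hw0 (by simp [h])
      exact ⟨1, one_mem _, c⁻¹, inv_ne_zero hc, by simp [smul_smul, hc]⟩
    have hdep' : e ∉ Submodule.span F {w} := fun h => by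
      obtain ⟨c, hc⟩ := Submodule.mem_span_singleton.1 h
      have hc0 : c ≠ 0 := fun h0 => he0 (by rw [← hc, h0, zero_smul])
      exact hdep (Submodule.mem_span_singleton.2 ⟨c⁻¹, by rw [← hc, smul_smul, inv_mul_cancel₀ hc0, one_smul]⟩)
    by_cases htype : B e w = 0 ↔ B e (g e) = 0
    · exact hsame e w he hw hdep' hdep htype
    by_cases hew : B e w = 0
    · -- a common non-orthogonal neighbour
      have hne : B e (g e) ≠ 0 := fun h => htype (iff_of_true hew h)
      obtain ⟨u₁, h11, h12⟩ := exists_dual C hdep'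
      obtain ⟨u₂, h22, h21⟩ := exists_dual C hdep
      have h1 : B e (u₁ + u₂) = 1 := by
        rw [map_add, swap_one C h11, swap_zero C h21, add_zero]
      obtain ⟨t, ht⟩ := adjust C he h1
      have hev : B e (u₁ + u₂ + t • e) = 1 := by
        rw [map_add (B e), h1, map_smul, he, smul_zero, add_zero]
      have hwv : B w (u₁ + u₂ + t • e) = 1 := by
        rw [map_add (B w), map_add (B w), swap_zero C h12, swap_one C h22, map_smul, swap_zero C hew,
          smul_zero, add_zero, zero_add]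
      have hvw := swap_one C hwv
      refine hRtrans (hsame e _ he ht (hind hev he ht).1 (hind hev he ht).2 ?_)
        (hsame _ w ht hw (hind hvw ht hw).1 (hind hvw ht hw).2 ?_)
      · rw [hev]; exact iff_of_false one_ne_zero hne
      · rw [hvw]; exact iff_of_false one_ne_zero hne
    · -- a common orthogonal neighbour
      have hzero : B e (g e) = 0 := by
        by_contra h
        exact htype (iff_of_false hew h)
      have hK : finrank F V ≤ finrank F ↥(LinearMap.ker (B e) ⊓ LinearMap.ker (B w)) + 2 := by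
        have h4 := LinearMap.finrank_range_add_finrank_ker ((B e).prod (B w))
        have h5 := Submodule.finrank_le (LinearMap.range ((B e).prod (B w)))
        rw [LinearMap.ker_prod] at h4
        rw [Module.finrank_prod, Module.finrank_self] at h5
        omega
      have := C.dim
      obtain ⟨v, hv, hv0, hvv⟩ := exists_iso_ne_zero C.ne_id C.invol C.symm _
        (show 2 ≤ finrank F ↥(LinearMap.ker (B e) ⊓ LinearMap.ker (B w)) by omega)
      obtain ⟨hve, hvw⟩ := Submodule.mem_inf.1 hv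
      rw [LinearMap.mem_ker] at hve hvw
      have hwe : B w e ≠ 0 := fun h => hew (swap_zero C h)
      have hind' : ∀ {x : V}, x ≠ 0 → (∃ z, B z v = 0 ∧ B z x ≠ 0) →
          x ∉ Submodule.span F {v} ∧ v ∉ Submodule.span F {x} := by
        rintro x hx0 ⟨z, hzv, hzx⟩
        constructor <;> intro h <;> obtain ⟨c, hc⟩ := Submodule.mem_span_singleton.1 h
        · exact hzx (by rw [← hc, map_smul, hzv, smul_zero])
        · rw [← hc, map_smul, smul_eq_mul, mul_eq_zero, or_iff_left hzx] at hzv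
          exact hv0 (by rw [← hc, hzv, zero_smul])
      have i1 := hind' he0 ⟨w, hvw, hwe⟩
      have i2 := hind' hw0 ⟨e, hve, hew⟩
      exact hRtrans (hsame e v he hvv i1.1 i1.2 (iff_of_true hve hzero))
        (hsame v w hvv hw i2.2 i2.1 (iff_of_true (swap_zero C hvw) hzero))
  -- every transvection is congruent to one with centre `e`
  set N' : Subgroup (tvGroup B) := N.subgroupOf (tvGroup B)
  haveI : N'.Normal := ⟨fun n hn t => hnorm _ t.2 _ hn⟩
  let A : Set (tvGroup B) := {t | ∃ (l : F) (h : l + σ l + σ l * l * B e e = 0), (t : V ≃ₗ[F] V) = qrefl e l h}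
  set A' : Set (tvGroup B ⧸ N') := QuotientGroup.mk' N' '' A
  have hAcomm : ∀ x ∈ A', ∀ y ∈ A', x * y = y * x := by
    rintro _ ⟨x, ⟨l, h, hx⟩, rfl⟩ _ ⟨y, ⟨m, h', hy⟩, rfl⟩
    rw [← map_mul, ← map_mul]
    refine congrArg _ (Subtype.ext ?_)
    rw [Subgroup.coe_mul, Subgroup.coe_mul, hx, hy]
    refine LinearEquiv.ext fun z => ?_
    simp only [LinearEquiv.mul_apply, qrefl_apply, map_add, map_smul, smul_eq_mul, he]
    module
  have hgen : ∀ x : tvGroup B, QuotientGroup.mk' N' x ∈ Subgroup.closure A' := by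
    intro x
    obtain ⟨x, hx⟩ := x
    induction hx using Subgroup.closure_induction with
    | mem x hx =>
      obtain ⟨w, l, h, hw, rfl⟩ := hx
      by_cases hw0 : w = 0
      · subst hw0
        refine Subgroup.subset_closure ⟨1, ⟨0, by simp, LinearEquiv.ext fun z => by simp⟩, ?_⟩
        exact congrArg _ (Subtype.ext (LinearEquiv.ext fun z => by simp))
      obtain ⟨n, hn, k, hk, hne⟩ := htrans w hw hw0
      set l' := l / (k * σ k)
      have hkk : k * σ k ≠ 0 := mul_ne_zero hk (by simpa using hk)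
      have hl' : l' + σ l' + σ l' * l' * B e e = 0 := by
        rw [he, mul_zero, add_zero]
        rw [hw, mul_zero, add_zero] at h
        simp only [l', map_div₀, map_mul, C.invol, mul_comm (σ k)]
        rw [← add_div, h, zero_div]
      have hs : qrefl e l' hl' ∈ tvGroup B := Subgroup.subset_closure ⟨e, l', hl', he, rfl⟩
      refine Subgroup.subset_closure ⟨⟨qrefl e l' hl', hs⟩, ⟨l', hl', rfl⟩, ?_⟩
      have hn' : (⟨n, hN hn⟩ : tvGroup B) ∈ N' := hn
      have hconj : n * qrefl e l' hl' * n⁻¹ = qrefl w l h := by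
        rw [qrefl_conj (tvGroup_le_iso C.symm (hN hn))]
        refine LinearEquiv.ext fun z => ?_
        have hl : l = l' * (k * σ k) := (div_mul_cancel₀ _ hkk).symm
        simp only [qrefl_apply, hne, LinearMap.map_smulₛₗ, LinearMap.smul_apply, smul_eq_mul, hl]
        module
      have hq := congrArg (QuotientGroup.mk' N') (Subtype.ext hconj :
        (⟨n, hN hn⟩ : tvGroup B) * ⟨_, hs⟩ * (⟨n, hN hn⟩ : tvGroup B)⁻¹ =
          ⟨qrefl w l h, Subgroup.subset_closure ⟨w, l, h, hw, rfl⟩⟩)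
      rw [map_mul, map_mul, map_inv, show QuotientGroup.mk' N' (⟨n, hN hn⟩ : tvGroup B) = 1 from
        (QuotientGroup.eq_one_iff _).2 hn', one_mul, inv_one, mul_one] at hq
      exact hq
    | one => exact one_mem _
    | mul x y _ _ hx hy => exact mul_mem hx hy
    | inv x _ hx => exact inv_mem hx
  have habel : IsMulCommutative (Subgroup.closure A') :=
    Subgroup.isMulCommutative_closure hAcomm
  rw [Subgroup.commutator_le]
  intro a ha b hb
  have h : QuotientGroup.mk' N' ⁅(⟨a, ha⟩ : tvGroup B), ⟨b, hb⟩⁆ = 1 := by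
    rw [map_commutatorElement, commutatorElement_eq_one_iff_mul_comm]
    exact congrArg Subtype.val (habel.is_comm.comm ⟨_, hgen ⟨a, ha⟩⟩ ⟨_, hgen ⟨b, hb⟩⟩)
  have h' : ⁅(⟨a, ha⟩ : tvGroup B), ⟨b, hb⟩⁆ ∈ N' := (QuotientGroup.eq_one_iff _).1 h
  exact h'

end Cfsg.Lib.Linear.Herm.Big
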