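import Cfsg.Prelude.Def_Classical
import Cfsg.Agent.Lib.Linear.UnitarySimple
import Cfsg.Agent.Lib.Linear.UnitaryCenter
import Cfsg.Agent.Lib.FusionSys.SylowTwoPSU

/-! `PSU_n(q)` is simple for `n ≥ 4`, and transvections of `SU_n(q)` are commutators. -/

set_option autoImplicit false

namespace Cfsg.Lib.Linear.Herm

open Module
open scoped Matrix commutatorElement

variable {F : Type*} [Field F] [Fintype F] {q : ℕ}

theorem bigSpace (hF : Fintype.card F = q ^ 2) {n : ℕ} (hn : 4 ≤ n) : Big.Space (hB hF n) :=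
  ⟨frob_ne_id hF, frob_frob hF, hB_isSymm hF n, hB_nondegenerate hF n, by rw [finrank_fin_fun]; exact hn⟩

/-- `SU_n` as a group of linear equivalences. -/
noncomputable def suToLin (n : ℕ) (F : Type*) [Field F] (q : ℕ) :
    Cfsg.SU n F q →* ((Fin n → F) ≃ₗ[F] (Fin n → F)) :=
  Matrix.SpecialLinearGroup.toLin'.comp (Cfsg.SU n F q).subtype

theorem suToLin_injective (n : ℕ) : Function.Injective (suToLin n F q) := fun A B h =>
  Subtype.ext (Matrix.SpecialLinearGroup.toLin'_injective h)

theorem suToLin_range (hF : Fintype.card F = q ^ 2) {n : ℕ}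
    (hdim : 4 ≤ n ∨ (3 ≤ n ∧ ∃ y z : F, y ≠ 0 ∧ z ≠ 0 ∧ y ≠ z ∧ y + frob hF y = 0 ∧ z + frob hF z = 0)) :
    (suToLin n F q).range = tvGroup (hB hF n) := by
  have hmem := mem_tvGroup_iff (frob_ne_id hF) (frob_frob hF) (hB_isSymm hF n) (hB_nondegenerate hF n)
    (by rw [finrank_fin_fun]; exact hdim)
  set ψ := suToLin n F q
  apply le_antisymm
  · rintro _ ⟨A, rfl⟩
    rw [hmem]
    refine ⟨fun u v => A.2 v u, Units.ext ?_⟩
    rw [LinearEquiv.coe_det, Units.val_one,
      show ((ψ A : (Fin n → F) ≃ₗ[F] (Fin n → F)) : (Fin n → F) →ₗ[F] (Fin n → F)) =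
        Matrix.toLin' ((A : Matrix.SpecialLinearGroup (Fin n) F) : Matrix (Fin n) (Fin n) F) from
        LinearMap.ext fun x => rfl, LinearMap.det_toLin']
    exact (A : Matrix.SpecialLinearGroup (Fin n) F).2
  · intro g hg
    obtain ⟨hiso, hdet⟩ := (hmem _).1 hg
    have hd : (LinearMap.toMatrix' (g : (Fin n → F) →ₗ[F] (Fin n → F))).det = 1 := by
      rw [LinearMap.det_toMatrix', ← LinearEquiv.coe_det, hdet, Units.val_one]
    have hm : ∀ x, LinearMap.toMatrix' (g : (Fin n → F) →ₗ[F] (Fin n → F)) *ᵥ x = g x := fun x => by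
      rw [← Matrix.toLin'_apply, Matrix.toLin'_toMatrix']; rfl
    refine ⟨⟨⟨_, hd⟩, fun u v => ?_⟩, LinearEquiv.ext fun x => hm x⟩
    show Cfsg.hermForm n F q (LinearMap.toMatrix' (g : (Fin n → F) →ₗ[F] (Fin n → F)) *ᵥ u)
      (LinearMap.toMatrix' (g : (Fin n → F) →ₗ[F] (Fin n → F)) *ᵥ v) = _
    rw [hm, hm, ← hB_apply hF, ← hB_apply hF]
    exact hiso v u

theorem psu_simple (hF : Fintype.card F = q ^ 2) {n : ℕ} (hn : 4 ≤ n) : IsSimpleGroup (Cfsg.PSU n F q) := by
  have C := bigSpace hF hn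
  set ψ := suToLin n F q
  have hψi : Function.Injective ψ := suToLin_injective n
  have hran : ψ.range = tvGroup (hB hF n) := suToLin_range hF (Or.inl hn)
  have hperf : commutator (Cfsg.SU n F q) = ⊤ := by
    refine Subgroup.map_injective hψi ?_
    rw [commutator_def, Subgroup.map_commutator, ← MonoidHom.range_eq_map, hran]
    exact le_antisymm (by
      rw [Subgroup.commutator_le]
      exact fun a ha b hb => mul_mem (mul_mem (mul_mem ha hb) (inv_mem ha)) (inv_mem hb))
      (Big.tv_le_commutator C)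

  haveI : Nontrivial (Cfsg.PSU n F q) := by
    rw [QuotientGroup.nontrivial_iff]
    intro htop
    have hbot : commutator (Cfsg.SU n F q) = ⊥ := by
      rw [commutator_def, Subgroup.commutator_eq_bot_iff_le_centralizer]
      intro x _
      rw [Subgroup.mem_centralizer_iff]
      intro y _
      exact Subgroup.mem_center_iff.1 (htop ▸ Subgroup.mem_top x) y
    have hmap : (⊤ : Subgroup (Cfsg.SU n F q)).map ψ = ⊥ := by rw [← hperf, hbot, Subgroup.map_bot]
    rw [← MonoidHom.range_eq_map, hran] at hmap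
    obtain ⟨e, -, he0, he⟩ := exists_iso_ne_zero (frob_ne_id hF) (frob_frob hF) (hB_isSymm hF n) ⊤
      (by rw [finrank_top, finrank_fin_fun]; omega)
    obtain ⟨y, hy0, hy⟩ := exists_trace_zero (frob_ne_id hF) (frob_frob hF)
    obtain ⟨u, v, hu, hv, heu, hev, huv⟩ := Big.exists_frame C he he0
    obtain ⟨g, hg, hgx⟩ := Big.exists_root C he hu heu 1
    rw [hmap, Subgroup.mem_bot] at hg
    have h := hgx v
    rw [hg, huv, hev, mul_zero, zero_smul, mul_one, add_zero, one_smul] at h
    exact he0 (add_eq_left.1 h.symm)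
  refine ⟨fun M hM => ?_⟩
  set N := M.comap (QuotientGroup.mk' (Subgroup.center (Cfsg.SU n F q))) with hN
  have hMN : M = N.map (QuotientGroup.mk' (Subgroup.center (Cfsg.SU n F q))) :=
    (Subgroup.map_comap_eq_self_of_surjective (QuotientGroup.mk'_surjective _) M).symm
  rcases Big.scalars_or_commutator_le C (N := N.map ψ) (hran ▸ Subgroup.map_le_range ψ N) (by
      intro t ht g hg
      rw [← hran] at ht
      obtain ⟨T, rfl⟩ := ht
      obtain ⟨g, hg, rfl⟩ := hg
      exact ⟨T * g * T⁻¹, (inferInstance : N.Normal).conj_mem g hg T, by rw [map_mul, map_mul, map_inv]⟩)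
    with h | h
  · left
    rw [hMN, Subgroup.map_eq_bot_iff, QuotientGroup.ker_mk']
    intro g hg
    obtain ⟨c, hc⟩ := h _ (Subgroup.mem_map_of_mem ψ hg)
    refine Subgroup.mem_center_iff.2 fun k => hψi ?_
    rw [map_mul, map_mul]
    refine LinearEquiv.ext fun x => ?_
    rw [LinearEquiv.mul_apply, LinearEquiv.mul_apply, hc, hc, map_smul]
  · right
    have : N = ⊤ := by
      refine eq_top_iff.2 (hperf ▸ ?_)
      rw [← Subgroup.map_le_map_iff_of_injective hψi, commutator_def, Subgroup.map_commutator,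
        ← MonoidHom.range_eq_map, hran]
      exact h
    rw [hMN, this, Subgroup.map_top_of_surjective _ (QuotientGroup.mk'_surjective _)]


end Cfsg.Lib.Linear.Herm
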