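import Cfsg.Agent.Lib.Linear.OrthSplit

/-!
# `Ω` is perfect and simple modulo its centre (dimension at least seven)
-/

set_option autoImplicit false

namespace Cfsg.Lib.Linear.Orth

open Module
open scoped Matrix commutatorElement

variable {ι : Type} [Fintype ι] [DecidableEq ι] {F : Type*} [Field F]
  {Q : (ι → F) → F} {B : LinearMap.BilinForm F (ι → F)}

theorem sGL_trivial (C : Space Q B) {a : ι → F} :
    sGL Q B 0 a = 1 := gl_ext fun x => by
  rw [sGL_act C C.zero (by simp)]
  simp

theorem root_le_commutator [Finite F] (C : Space Q B) (h7 : 7 ≤ Fintype.card ι) :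
    Root Q B ⊤ ≤ ⁅Root Q B ⊤, Root Q B ⊤⁆ := by
  refine root_le_of_pairs C (by omega) _ fun y v hy hv hyv => ?_
  by_cases hy0 : y = 0
  · rw [hy0, sGL_trivial C]; exact one_mem _
  by_cases hdep : v ∈ Submodule.span F {y}
  · obtain ⟨c, rfl⟩ := Submodule.mem_span_singleton.mp hdep
    have h := sGL_add_self C hy (a := 0) (map_zero _) c
    rw [zero_add] at h
    rw [h]
    have h1 : sGL Q B y (0 : ι → F) = 1 := gl_ext fun x => by
      rw [sGL_act C hy (by simp), C.zero]; simp
    rw [h1]
    exact one_mem _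
  obtain ⟨x, u, hH, hxA, -⟩ := exists_hyp_perpIn C
    (U := ⊤) (W := ⊥) ⟨C.ndeg_top, fun x hx _ => (Submodule.mem_bot F).mp hx,
      fun _ _ w hw => by rw [(Submodule.mem_bot F).mp hw, map_zero], sup_bot_eq ⊤⟩
    (A := Submodule.span F {y, v}) le_top (by
      have := finrank_span_pair_le (F := F) y v
      rw [finrank_top, finrank_fintype_fun_eq_card]
      omega)
  obtain ⟨-, hxp⟩ := mem_perpIn.mp hH.memE
  obtain ⟨-, hup⟩ := mem_perpIn.mp hH.memF
  have hxy : B x y = 0 := by rw [C.symm]; exact hxp y (Submodule.subset_span (by simp))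
  have hxv : B x v = 0 := by rw [C.symm]; exact hxp v (Submodule.subset_span (by simp))
  have hyu : B y u = 0 := hup y (Submodule.subset_span (by simp))
  have huv : B u v = 0 := by rw [C.symm]; exact hup v (Submodule.subset_span (by simp))
  set g := sGL Q B x y with hgdef
  set s := sGL Q B u v with hsdef
  have hg : g ∈ Root Q B ⊤ := sGL_mem_root trivial trivial hH.singE hxy
  have hs : s ∈ Root Q B ⊤ := sGL_mem_root trivial trivial hH.singF huv
  have hQuy : Q (u + y) = 0 := by rw [C.add, hH.singF, hy, C.symm u y, hyu]; simp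
  have hBuy : B (u + y) v = 0 := by rw [map_add, LinearMap.add_apply, huv, hyv, add_zero]
  have hc : g * s * g⁻¹ = sGL Q B (u + y) v := by
    rw [hgdef, hsdef, sGL_conj C hH.singF huv (root_le_iso C _ hg), sGL_act C hH.singE hxy,
      sGL_act C hH.singE hxy, hH.pair, hxv, hy, hyu, hyv]
    simp
  have hvu : B v (-u) = 0 := by rw [map_neg, C.symm, huv, neg_zero]
  have hvy : B v (-y) = 0 := by rw [map_neg, C.symm, hyv, neg_zero]
  have h1 : ⁅g, s⁆ = sGL Q B y v := by
    rw [commutatorElement_def, hc, sGL_swap C hQuy hv hBuy, neg_add, add_comm (-u),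
      ← sGL_mul C hv hvy hvu, ← sGL_swap C hH.singF hv huv, ← hsdef, mul_inv_cancel_right,
      ← sGL_swap C hy hv hyv]
  rw [← h1]
  exact Subgroup.commutator_mem_commutator hg hs

/-- An element fixing every singular line is a scalar. -/
theorem scalar_of_lines [Finite F] (C : Space Q B) (h7 : 7 ≤ Fintype.card ι) {g : GL ι F}
    (h : ∀ e, Q e = 0 → g.val *ᵥ e ∈ Submodule.span F {e}) : ∃ c : F, ∀ x, g.val *ᵥ x = c • x := by
  have hS : Split Q B ⊤ (⊥ : Submodule F (ι → F)) :=
    ⟨C.ndeg_top, fun x hx _ => (Submodule.mem_bot F).mp hx,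
      fun _ _ w hw => by rw [(Submodule.mem_bot F).mp hw, map_zero], sup_bot_eq ⊤⟩
  have hl : ∀ e, Q e = 0 → ∃ c : F, g.val *ᵥ e = c • e := fun e he => by
    obtain ⟨c, hc⟩ := Submodule.mem_span_singleton.mp (h e he)
    exact ⟨c, hc.symm⟩
  have orth : ∀ e f, Q e = 0 → Q f = 0 → B e f = 0 → e ≠ 0 → f ∉ Submodule.span F {e} →
      ∀ c d : F, g.val *ᵥ e = c • e → g.val *ᵥ f = d • f → c = d := by
    intro e f he hf hef he0 hind c d hc hd
    obtain ⟨r, hr⟩ := hl (e + f) (by rw [C.add, he, hf, hef]; simp)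
    rw [Matrix.mulVec_add, hc, hd] at hr
    have h1 : (c - r) • e = (r - d) • f := by
      rw [sub_smul, sub_smul, sub_eq_sub_iff_add_eq_add, hr, smul_add, add_comm]
    by_cases hrd : r - d = 0
    · rw [hrd, zero_smul, smul_eq_zero] at h1
      rw [sub_eq_zero.mp (h1.resolve_right he0), sub_eq_zero.mp hrd]
    · exact absurd ((Submodule.smul_mem_iff _ hrd).mp (h1 ▸ Submodule.smul_mem _ _
        (Submodule.mem_span_singleton_self e))) hind
  obtain ⟨e0, f0, hH⟩ := exists_hyp' C C.ndeg_top (by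
    rw [finrank_top, finrank_fintype_fun_eq_card]; omega)
  have he00 : e0 ≠ 0 := fun h => by
    have := hH.pair; rw [h, map_zero, LinearMap.zero_apply] at this; exact zero_ne_one this
  obtain ⟨c, hc⟩ := hl e0 hH.singE
  refine ⟨c, fun x => ?_⟩
  let K : Submodule F (ι → F) :=
    LinearMap.ker (Matrix.mulVecLin g.val - c • LinearMap.id)
  suffices hK : K = ⊤ by
    have hx : x ∈ K := hK ▸ Submodule.mem_top
    simpa [K, sub_eq_zero] using hx
  refine eq_top_iff.mpr ((hH.span C).trans (Submodule.span_le.mpr ?_))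
  rintro f ⟨-, hf⟩
  show f ∈ K
  obtain ⟨d, hd⟩ := hl f hf
  suffices hcd : f = 0 ∨ c = d by
    rcases hcd with h0 | h0
    · rw [h0]; exact Submodule.zero_mem _
    · simp [K, hd, h0]
  by_cases hf0 : f = 0
  · exact Or.inl hf0
  right
  obtain ⟨w, w2, hW, hwA, -⟩ := exists_hyp_perpIn C hS (A := Submodule.span F {e0, f}) le_top (by
    have := finrank_span_pair_le (F := F) e0 f
    rw [finrank_top, finrank_fintype_fun_eq_card]
    omega)
  obtain ⟨-, hwp⟩ := mem_perpIn.mp hW.memE
  obtain ⟨r, hr⟩ := hl w hW.singE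
  exact (orth e0 w hH.singE hW.singE (hwp e0 (Submodule.subset_span (by simp))) he00
    (fun hm => hwA (Submodule.span_mono (by simp) hm)) c r hc hr).trans
    (orth f w hf hW.singE (hwp f (Submodule.subset_span (by simp))) hf0
      (fun hm => hwA (Submodule.span_mono (by simp) hm)) d r hd hr).symm

/-- `Ω` modulo its centre is simple. -/
theorem pomega_simple [Finite F] (C : Space Q B) (h7 : 7 ≤ Fintype.card ι) :
    IsSimpleGroup (Cfsg.POmega F Q) := by
  have h5 : 5 ≤ Fintype.card ι := by omega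
  let f : ↥(Cfsg.Omega F Q) →* GL ι F :=
    (isometryGroup F Q).subtype.comp (Cfsg.Omega F Q).subtype
  have hf : Function.Injective f := fun a b e => Subtype.ext (Subtype.ext e)
  have hrange : f.range = Root Q B ⊤ := by
    rw [← omegaGL_eq C h5]
    show MonoidHom.range _ = (Cfsg.Omega F Q).map _
    rw [MonoidHom.range_comp, Subgroup.range_subtype]
  have mem : ∀ g ∈ Root Q B ⊤, ∃ x, f x = g := fun g hg => by rw [← hrange] at hg; exact hg
  -- perfect
  have hperf : ⁅(⊤ : Subgroup ↥(Cfsg.Omega F Q)), (⊤ : Subgroup ↥(Cfsg.Omega F Q))⁆ = ⊤ := by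
    refine Subgroup.map_injective hf (le_antisymm (Subgroup.map_mono le_top) ?_)
    rw [Subgroup.map_commutator, ← MonoidHom.range_eq_map, hrange]
    exact root_le_commutator C h7
  have key : ∀ N : Subgroup ↥(Cfsg.Omega F Q), N.Normal →
      N ≤ Subgroup.center _ ∨ N = ⊤ := by
    intro N hN
    by_cases hfix : ∀ n ∈ N, ∀ e, Q e = 0 → (f n).val *ᵥ e ∈ Submodule.span F {e}
    · refine Or.inl fun n hn => Subgroup.mem_center_iff.mpr fun y => hf ?_
      obtain ⟨c, hc⟩ := scalar_of_lines C h7 (hfix n hn)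
      rw [map_mul, map_mul]
      exact gl_ext fun x => by rw [mul_act, mul_act, hc, hc, Matrix.mulVec_smul]
    push Not at hfix
    obtain ⟨n0, hn0, e, he, hne⟩ := hfix
    have he0 : e ≠ 0 := fun h => hne (by rw [h, Matrix.mulVec_zero]; exact Submodule.zero_mem _)
    set W := Submodule.span F {e} with hWdef
    have hW : ∀ w ∈ W, Q w = 0 := fun w hw => by
      obtain ⟨c, rfl⟩ := Submodule.mem_span_singleton.mp hw
      rw [C.smul, he, mul_zero]
    obtain ⟨-, hmax⟩ := singular_max C h7 (W := W) (by simpa [hWdef] using he0) hW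
      (fun M _ _ => by rw [hWdef, finrank_span_singleton he0]; omega)
    set L := Cfsg.Geo.subspaceStabilizer W ⊓ Cfsg.Geo.omegaGL Q with hL
    have hO := omegaGL_eq C h5
    rcases hmax ((N ⊔ L.comap f).map f)
      (fun g hg => by
        obtain ⟨x, rfl⟩ := mem g (hO ▸ hg.2)
        exact ⟨x, Subgroup.mem_sup_right hg, rfl⟩)
      (by rw [hO, ← hrange]; exact Subgroup.map_le_range _ _) with h | h
    · have hm : f n0 ∈ L := h ▸ ⟨n0, Subgroup.mem_sup_left hn0, rfl⟩
      exact absurd (stab_mem hm.1 (Submodule.mem_span_singleton_self e)) hne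
    right
    -- the root group at `e`
    let A : Subgroup (GL ι F) :=
      { carrier := {g | ∃ a, B e a = 0 ∧ g = sGL Q B e a}
        one_mem' := ⟨0, map_zero _, (gl_ext fun x => by
          rw [sGL_act C he (map_zero _), C.zero]; simp).symm⟩
        mul_mem' := by
          rintro _ _ ⟨a, ha, rfl⟩ ⟨b, hb, rfl⟩
          exact ⟨a + b, by rw [map_add, ha, hb, add_zero], sGL_mul C he ha hb⟩
        inv_mem' := by
          rintro _ ⟨a, ha, rfl⟩
          refine ⟨-a, by rw [map_neg, ha, neg_zero], inv_eq_of_mul_eq_one_right ?_⟩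
          rw [sGL_mul C he ha (by rw [map_neg, ha, neg_zero]), add_neg_cancel]
          exact gl_ext fun x => by rw [sGL_act C he (map_zero _), C.zero]; simp }
    have hAR : ∀ g ∈ A, g ∈ Root Q B ⊤ := by
      rintro _ ⟨a, ha, rfl⟩
      exact sGL_mem_root trivial trivial he ha
    have htop : N ⊔ A.comap f = ⊤ := by
      refine Subgroup.map_injective hf (le_antisymm (Subgroup.map_mono le_top) ?_)
      rw [← MonoidHom.range_eq_map, hrange]
      refine (Subgroup.closure_le _).mpr ?_
      rintro _ ⟨v, b, -, -, hv, hvb, rfl⟩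
      by_cases hv0 : v = 0
      · rw [hv0, sGL_trivial C]; exact one_mem _
      obtain ⟨g, hg, hge⟩ := trans_top C h5 he0 hv0 (by rw [he, hv])
      have hgm : g ∈ (N ⊔ L.comap f).map f := by rw [h, hO]; exact hg
      obtain ⟨x, hx, rfl⟩ := hgm
      obtain ⟨n, hn, s, hs, rfl⟩ := Subgroup.mem_sup_of_normal_left.mp hx
      obtain ⟨c, hc⟩ := Submodule.mem_span_singleton.mp
        (stab_mem (show f s ∈ L from hs).1 (Submodule.mem_span_singleton_self e))
      have hnI : f n ∈ isometryGroup F Q := (n : ↥(isometryGroup F Q)).2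
      have hnv : (f n).val *ᵥ (c • e) = v := by rw [hc, ← mul_act, ← map_mul]; exact hge
      set b' := ((f n)⁻¹ : GL ι F).val *ᵥ b with hb'
      have hcb : B (c • e) b' = 0 := by rw [← C.B_act hnI, hnv, hb', act_inv, hvb]
      have hce : Q (c • e) = 0 := by rw [C.smul, he, mul_zero]
      have h1 := sGL_conj C hce hcb hnI
      rw [hnv, hb', act_inv] at h1
      rw [← h1]
      have hmemA : sGL Q B (c • e) b' ∈ A := by
        by_cases hc0 : c = 0
        · rw [hc0, zero_smul, sGL_trivial C]; exact one_mem _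
        have heb : B e b' = 0 := by simpa [hc0] using hcb
        exact ⟨c • b', by rw [map_smul, heb, smul_zero], sGL_smul C he heb c⟩
      obtain ⟨y, hy⟩ := mem _ (hAR _ hmemA)
      rw [← hy, ← map_inv, ← map_mul, ← map_mul]
      exact ⟨_, mul_mem (mul_mem (Subgroup.mem_sup_left hn)
        (Subgroup.mem_sup_right (show f y ∈ A by rw [hy]; exact hmemA)))
        (inv_mem (Subgroup.mem_sup_left hn)), rfl⟩
    refine eq_top_iff.mpr (hperf ▸ Subgroup.commutator_le.mpr fun x _ y _ => ?_)
    haveI := hN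
    obtain ⟨n, hn, a, ha, rfl⟩ := Subgroup.mem_sup_of_normal_left.mp (htop ▸ Subgroup.mem_top x)
    obtain ⟨m, hm, b, hb, rfl⟩ := Subgroup.mem_sup_of_normal_left.mp (htop ▸ Subgroup.mem_top y)
    obtain ⟨a', ha', hfa⟩ := (ha : f a ∈ A)
    obtain ⟨b', hb', hfb⟩ := (hb : f b ∈ A)
    have hab : a * b = b * a := hf (by
      rw [map_mul, map_mul, hfa, hfb, sGL_mul C he ha' hb', sGL_mul C he hb' ha', add_comm])
    rw [← QuotientGroup.eq_one_iff, ← QuotientGroup.mk'_apply, map_commutatorElement,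
      map_mul, map_mul, show QuotientGroup.mk' N n = 1 from (QuotientGroup.eq_one_iff n).mpr hn,
      show QuotientGroup.mk' N m = 1 from (QuotientGroup.eq_one_iff m).mpr hm, one_mul, one_mul,
      commutatorElement_eq_one_iff_mul_comm, ← map_mul, ← map_mul, hab]
  have hZ : Subgroup.center ↥(Cfsg.Omega F Q) ≠ ⊤ := fun hZ => by
    have hbot : (⊤ : Subgroup ↥(Cfsg.Omega F Q)) = ⊥ := by
      rw [← hperf, Subgroup.commutator_eq_bot_iff_le_centralizer]
      intro x _
      rw [Subgroup.mem_centralizer_iff]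
      exact fun y _ => Subgroup.mem_center_iff.mp (hZ ▸ Subgroup.mem_top x) y
    obtain ⟨e, g, hH⟩ := exists_hyp' C C.ndeg_top (by
      rw [finrank_top, finrank_fintype_fun_eq_card]; omega)
    obtain ⟨a, a', hH', haA, -⟩ := exists_hyp_perpIn C
      (U := ⊤) (W := ⊥) ⟨C.ndeg_top, fun x hx _ => (Submodule.mem_bot F).mp hx,
        fun _ _ w hw => by rw [(Submodule.mem_bot F).mp hw, map_zero], sup_bot_eq ⊤⟩
      (A := Submodule.span F {e, g}) le_top (by
        have := finrank_span_pair_le (F := F) e g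
        rw [finrank_top, finrank_fintype_fun_eq_card]
        omega)
    obtain ⟨-, hap⟩ := mem_perpIn.mp hH'.memE
    have hea : B e a = 0 := hap e (Submodule.subset_span (by simp))
    have hga : B g a = 0 := hap g (Submodule.subset_span (by simp))
    obtain ⟨x, hx⟩ := mem _ (sGL_mem_root trivial trivial hH.singE hea)
    have hx1 : x = 1 := (Subgroup.mem_bot.mp (hbot ▸ Subgroup.mem_top x))
    rw [hx1, map_one] at hx
    have h1 := congrArg (fun z : GL ι F => z.val *ᵥ g) hx
    simp only [Units.val_one, Matrix.one_mulVec, sGL_act C hH.singE hea, hH.pair, hH'.singE,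
      C.symm a g, hga] at h1
    simp at h1
    exact haA (by rw [h1]; exact Submodule.zero_mem _)
  haveI : Nontrivial (Cfsg.POmega F Q) := QuotientGroup.nontrivial_iff.mpr hZ
  refine ⟨fun K hK => ?_⟩
  have hcomap := key (K.comap (QuotientGroup.mk' _)) (hK.comap _)
  rcases hcomap with h | h
  · refine Or.inl (eq_bot_iff.mpr fun x hx => ?_)
    obtain ⟨y, rfl⟩ := QuotientGroup.mk'_surjective _ x
    exact Subgroup.mem_bot.mpr ((QuotientGroup.eq_one_iff y).mpr (h hx))
  · refine Or.inr (eq_top_iff.mpr fun x _ => ?_)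
    obtain ⟨y, rfl⟩ := QuotientGroup.mk'_surjective _ x
    exact Subgroup.mem_comap.mp (h ▸ Subgroup.mem_top y)

end Cfsg.Lib.Linear.Orth
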