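import Cfsg.Agent.Lib.Linear.OrthFixPoint

/-!
# Quadratic forms with a given polar form in characteristic two

The forms `Q + B(a, ·)²`, their two types told apart by the number of singular vectors, and the
orbit of a form under the isometries of `B`.
-/

set_option autoImplicit false

namespace Cfsg.Lib.Linear.Orth

open Module
open scoped Matrix

variable {ι : Type} [Fintype ι] [DecidableEq ι] {F : Type*} [Field F] [Fintype F]
  {Q : (ι → F) → F} {B : LinearMap.BilinForm F (ι → F)}

/-- The form `Q + B(a, ·)²`. -/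
def tr (Q : (ι → F) → F) (B : LinearMap.BilinForm F (ι → F)) (a : ι → F) : (ι → F) → F :=
  fun v => Q v + B a v ^ 2

/-- `t` is of the shape `u² + u`. -/
def InJ (t : F) : Prop := ∃ u : F, u ^ 2 + u = t

omit [Fintype F] in
theorem tr_space (C : Space Q B) (h2 : (2 : F) = 0) (a : ι → F) : Space (tr Q B a) B := by
  refine ⟨fun c v => ?_, fun u v => ?_, C.nondeg⟩
  · simp only [tr, C.smul, map_smul, smul_eq_mul]; ring
  · simp only [QuadraticMap.polar, tr, C.add, map_add]
    linear_combination (B a u * B a v) * h2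

omit [Fintype F] in
theorem tr_zero : tr Q B 0 = Q := funext fun v => by simp [tr]

omit [Fintype F] in
theorem tr_tr (h2 : (2 : F) = 0) (a b : ι → F) : tr (tr Q B a) B b = tr Q B (a + b) := funext fun v => by
  simp only [tr, map_add, LinearMap.add_apply]
  linear_combination -(B a v * B b v) * h2

theorem tr_injective (C : Space Q B) (h2 : (2 : F) = 0) {a b : ι → F}
    (h : tr Q B a = tr Q B b) : a = b :=
  sub_eq_zero.mp (C.nondeg' fun u => by
    rw [map_sub, LinearMap.sub_apply, sub_eq_zero]
    exact sq_injective_two h2 (add_left_cancel (congrFun h u)))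

/-- Every form with the same polar form is a translate. -/
theorem exists_tr (C : Space Q B) (h2 : (2 : F) = 0) {Φ : (ι → F) → F} (CΦ : Space Φ B) :
    ∃ a, tr Q B a = Φ := by
  choose s hs using exists_sqrt_two h2
  let φ : (ι → F) →ₗ[F] F :=
    { toFun := fun v => s (Φ v - Q v)
      map_add' := fun u v => sq_injective_two h2 (by
        rw [hs, CΦ.add, C.add]
        linear_combination -(hs (Φ u - Q u)) - hs (Φ v - Q v) -
          (s (Φ u - Q u) * s (Φ v - Q v)) * h2)
      map_smul' := fun c v => sq_injective_two h2 (by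
        rw [hs, RingHom.id_apply, smul_eq_mul, mul_pow, hs, CΦ.smul, C.smul]; ring) }
  have hB : B.Nondegenerate := ⟨fun v hv => C.nondeg' hv,
    fun v hv => C.nondeg' fun u => by rw [C.symm]; exact hv u⟩
  refine ⟨(B.toDual hB).symm φ, funext fun v => ?_⟩
  rw [tr, LinearMap.BilinForm.apply_toDual_symm_apply]
  show Q v + s (Φ v - Q v) ^ 2 = _
  rw [hs]; ring

omit [Fintype F] in
/-- A transvection moving `Q` to a translate. -/
theorem exists_trans' (C : Space Q B) (h2 : (2 : F) = 0) {a : ι → F} (h : InJ (Q a)) :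
    ∃ g : GL ι F, (∀ u v, B (g.val *ᵥ u) (g.val *ᵥ v) = B u v) ∧
      (∀ v, Q (g.val *ᵥ v) = tr Q B a v) ∧
      ∃ c : F, ∀ v, g.val *ᵥ v = v + (B a v * c) • a := by
  obtain ⟨c, hc⟩ : ∃ c : F, c + c ^ 2 * Q a = 1 := by
    obtain ⟨u, hu⟩ := h
    by_cases ha : Q a = 0
    · exact ⟨1, by rw [ha]; ring⟩
    · refine ⟨u * (Q a)⁻¹, ?_⟩
      field_simp
      linear_combination hu
  let M : Matrix ι ι F := 1 + Matrix.vecMulVec (c • a) (cov B a)
  have hM : ∀ v, M *ᵥ v = v + (B a v * c) • a := fun v => by
    funext i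
    simp [M, Matrix.add_mulVec, Matrix.smul_mulVec, Matrix.vecMulVec_mulVec, cov_dot]
    ring
  have haa : B a a = 0 := by rw [C.self, h2, zero_mul]
  have hMM : M * M = 1 := mat_ext fun v => by
    rw [← Matrix.mulVec_mulVec, hM, hM, Matrix.one_mulVec, map_add, map_smul, haa, smul_zero,
      add_zero, add_assoc, ← add_smul, show B a v * c + B a v * c = 0 by
        linear_combination (B a v * c) * h2, zero_smul, add_zero]
  refine ⟨toGL M, fun u v => ?_, fun v => ?_, c, fun v => by rw [toGL_val hMM, hM]⟩
  · rw [toGL_val hMM, hM, hM]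
    simp only [map_add, map_smul, LinearMap.add_apply, LinearMap.smul_apply, smul_eq_mul, haa,
      C.symm u a, mul_zero, add_zero]
    linear_combination (c * B a u * B a v) * h2
  · rw [toGL_val hMM, hM, C.add, C.smul, map_smul, smul_eq_mul, C.symm v a, tr]
    linear_combination (B a v) ^ 2 * hc

omit [Fintype F] in
/-- A transvection moving `Q` to a translate. -/
theorem exists_trans (C : Space Q B) (h2 : (2 : F) = 0) {a : ι → F} (h : InJ (Q a)) :
    ∃ g : GL ι F, (∀ u v, B (g.val *ᵥ u) (g.val *ᵥ v) = B u v) ∧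
      ∀ v, Q (g.val *ᵥ v) = tr Q B a v :=
  let ⟨g, h1, h3, _⟩ := exists_trans' C h2 h
  ⟨g, h1, h3⟩

omit [Fintype F] in
theorem natCard_singular_comp {g : GL ι F} :
    Nat.card {v : ι → F // Q (g.val *ᵥ v) = 0} = Nat.card {v : ι → F // Q v = 0} :=
  Nat.card_congr
    { toFun := fun v => ⟨g.val *ᵥ v.1, v.2⟩
      invFun := fun v => ⟨(g⁻¹ : GL ι F).val *ᵥ v.1, by rw [act_inv]; exact v.2⟩
      left_inv := fun v => Subtype.ext (inv_act g v.1)
      right_inv := fun v => Subtype.ext (act_inv g v.1) }

/-- The values `u² + u`. -/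
def asHom (h2 : (2 : F) = 0) : F →+ F :=
  AddMonoidHom.mk' (fun u => u ^ 2 + u) fun u v => by linear_combination (u * v) * h2

omit [Fintype F] in
theorem mem_range_asHom (h2 : (2 : F) = 0) {t : F} : t ∈ (asHom h2).range ↔ InJ t := Iff.rfl

/-- Half of the field is of the shape `u² + u`. -/
theorem two_card_J (h2 : (2 : F) = 0) :
    2 * Nat.card (asHom h2).range = Nat.card F := by
  have hk : Nat.card (asHom h2).ker = 2 := by
    have : ((asHom h2).ker : Set F) = {0, 1} := by
      ext u
      simp only [SetLike.mem_coe, AddMonoidHom.mem_ker, Set.mem_insert_iff, Set.mem_singleton_iff]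
      show u ^ 2 + u = 0 ↔ _
      constructor
      · intro h
        rcases mul_eq_zero.mp (show u * (u + 1) = 0 by linear_combination h) with h' | h'
        · exact Or.inl h'
        · exact Or.inr (by linear_combination h' - h2)
      · rintro (rfl | rfl)
        · ring
        · linear_combination h2
    rw [← SetLike.coe_sort_coe, this, Nat.card_coe_set_eq, Set.ncard_pair zero_ne_one]
  have := AddSubgroup.card_eq_card_quotient_mul_card_addSubgroup (asHom h2).ker
  rw [hk, Nat.card_congr (QuotientAddGroup.quotientKerEquivRange (asHom h2)).toEquiv] at this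
  omega

/-- The number of singular vectors of the two translates of opposite type. -/
theorem count_flip (C : Space Q B) (h2 : (2 : F) = 0) {k : ℕ} (hι : Fintype.card ι = k + 1)
    {a : ι → F} (ha : ¬ InJ (Q a)) :
    (Nat.card {v : ι → F // Q v = 0} : ℤ) + Nat.card {v : ι → F // tr Q B a v = 0} =
      2 * (Nat.card F : ℤ) ^ k := by
  classical
  have haQ : Q a ≠ 0 := fun h => ha ⟨0, by rw [h]; ring⟩
  have ha0 : a ≠ 0 := fun h => haQ (by rw [h, C.zero])
  obtain ⟨f, hf⟩ := C.exists_pair ha0
  obtain ⟨s, hs⟩ := exists_sqrt_two h2 (Q a)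
  have hs0 : s ≠ 0 := fun h => haQ (by rw [← hs, h]; ring)
  have haa : B a a = 0 := by rw [C.self, h2, zero_mul]
  -- hyperplane
  let H := LinearMap.ker (B a)
  have hH : finrank F H = k := by
    have h1 := LinearMap.finrank_range_add_finrank_ker (B a)
    have h3 : LinearMap.range (B a) = ⊤ := LinearMap.range_eq_top.mpr fun t =>
      ⟨t • f, by rw [map_smul, hf, smul_eq_mul, mul_one]⟩
    rw [h3, finrank_top, finrank_self, finrank_fintype_fun_eq_card, hι] at h1
    show finrank F (LinearMap.ker (B a)) = k
    omega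
  obtain ⟨j, rfl⟩ : ∃ j, k = j + 1 := ⟨k - 1, by
    have : 1 ≤ finrank F H :=
      Submodule.one_le_finrank_iff.mpr fun h => ha0 ((Submodule.mem_bot F).mp (h ▸ (show a ∈ H from haa)))
    omega⟩
  have hcH : Nat.card H = Nat.card F ^ (j + 1) := by
    rw [Module.natCard_eq_pow_finrank (K := F) (V := H), hH]
  -- singular vectors in the hyperplane
  have hS0 : (Nat.card {v : H // Q v.1 = 0} : ℤ) = (Nat.card F : ℤ) ^ j := by
    have hQadd : ∀ (v : H) (c : F), Q (v.1 + c • a) = Q v.1 + c ^ 2 * Q a := fun v c => by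
      rw [C.add, C.smul, map_smul, C.symm v.1 a, LinearMap.mem_ker.mp v.2, smul_zero, add_zero]
    choose rt hrt using exists_sqrt_two h2
    have e : {v : H // Q v.1 = 0} × F ≃ H :=
      { toFun := fun p => ⟨p.1.1.1 + p.2 • a, H.add_mem p.1.1.2 (H.smul_mem _ haa)⟩
        invFun := fun v => (⟨⟨v.1 + (rt (Q v.1) * s⁻¹) • a, H.add_mem v.2 (H.smul_mem _ haa)⟩, by
          show Q (v.1 + _) = 0
          rw [hQadd, mul_pow, hrt, inv_pow, hs, mul_assoc, inv_mul_cancel₀ haQ, mul_one]
          linear_combination Q v.1 * h2⟩, rt (Q v.1) * s⁻¹)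
        left_inv := fun p => by
          obtain ⟨⟨v, hv⟩, c⟩ := p
          have hc : rt (Q (v.1 + c • a)) * s⁻¹ = c := by
            rw [mul_inv_eq_iff_eq_mul₀ hs0]
            refine sq_injective_two h2 ?_
            rw [hrt, hQadd, hv, mul_pow, hs, zero_add]
          refine Prod.ext (Subtype.ext (Subtype.ext ?_)) hc
          show v.1 + c • a + (rt (Q (v.1 + c • a)) * s⁻¹) • a = v.1
          rw [hc, add_assoc, ← add_smul, show c + c = 0 by linear_combination c * h2, zero_smul,
            add_zero]
        right_inv := fun v => Subtype.ext (by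
          show v.1 + (rt (Q v.1) * s⁻¹) • a + (rt (Q v.1) * s⁻¹) • a = v.1
          rw [add_assoc, ← add_smul,
            show ∀ x : F, x + x = 0 from fun x => by linear_combination x * h2, zero_smul,
            add_zero]) }
    have h := Nat.card_congr e
    rw [Nat.card_prod, hcH, pow_succ] at h
    exact_mod_cast Nat.eq_of_mul_eq_mul_right Nat.card_pos h
  -- the levels on the affine hyperplane
  let A := {v : ι → F // B a v = 1}
  have hcA : Nat.card A = Nat.card F ^ (j + 1) := by
    rw [← hcH]
    exact Nat.card_congr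
      { toFun := fun v => ⟨v.1 - f, by
          show B a (v.1 - f) = 0
          rw [map_sub, v.2, hf, sub_self]⟩
        invFun := fun v => ⟨v.1 + f, by rw [map_add, LinearMap.mem_ker.mp v.2, hf, zero_add]⟩
        left_inv := fun v => Subtype.ext (sub_add_cancel _ _)
        right_inv := fun v => Subtype.ext (add_sub_cancel_right _ _) }
  let φ : F → ℕ := fun t => Nat.card {v : A // Q v.1 = t}
  let g : F →+ F := AddMonoidHom.mk' (fun c => c ^ 2 * Q a + c) fun u v => by
    linear_combination (u * v * Q a) * h2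
  have hshift : ∀ t c, φ (t + g c) = φ t := fun t c => by
    have hQ' : ∀ v : A, Q (v.1 + c • a) = Q v.1 + g c := fun v => by
      rw [C.add, C.smul, map_smul, C.symm v.1 a, v.2, smul_eq_mul, mul_one]
      show _ = _ + (c ^ 2 * Q a + c)
      ring
    refine Nat.card_congr
      { toFun := fun v => ⟨⟨v.1.1 + c • a, by
            rw [map_add, map_smul, haa, smul_zero, add_zero, v.1.2]⟩, by
          show Q (v.1.1 + c • a) = t
          rw [hQ', v.2]; linear_combination g c * h2⟩
        invFun := fun v => ⟨⟨v.1.1 + c • a, by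
            rw [map_add, map_smul, haa, smul_zero, add_zero, v.1.2]⟩, by
          show Q (v.1.1 + c • a) = t + g c
          rw [hQ', v.2]⟩
        left_inv := fun v => Subtype.ext (Subtype.ext (by
          show v.1.1 + c • a + c • a = v.1.1
          rw [add_assoc, ← add_smul, show c + c = 0 by linear_combination c * h2, zero_smul,
            add_zero]))
        right_inv := fun v => Subtype.ext (Subtype.ext (by
          show v.1.1 + c • a + c • a = v.1.1
          rw [add_assoc, ← add_smul, show c + c = 0 by linear_combination c * h2, zero_smul,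
            add_zero])) }
  have h1g : (1 : F) ∉ g.range := by
    rintro ⟨c, hc⟩
    have hc' : c ^ 2 * Q a + c = 1 := hc
    exact ha ⟨c * Q a, by linear_combination Q a * hc'⟩
  have hcard : 2 * Nat.card g.range = Nat.card F := by
    have hk : Nat.card g.ker = 2 := by
      have : (g.ker : Set F) = {0, (Q a)⁻¹} := by
        ext u
        simp only [SetLike.mem_coe, AddMonoidHom.mem_ker, Set.mem_insert_iff, Set.mem_singleton_iff]
        show u ^ 2 * Q a + u = 0 ↔ _
        constructor
        · intro h
          rcases mul_eq_zero.mp (show u * (u * Q a + 1) = 0 by linear_combination h) with h' | h'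
          · exact Or.inl h'
          · exact Or.inr (eq_inv_of_mul_eq_one_left (by linear_combination h' - h2))
        · rintro (rfl | rfl)
          · ring
          · field_simp
            linear_combination h2
      rw [← SetLike.coe_sort_coe, this, Nat.card_coe_set_eq,
        Set.ncard_pair (Ne.symm (inv_ne_zero haQ))]
    have := AddSubgroup.card_eq_card_quotient_mul_card_addSubgroup g.ker
    rw [hk, Nat.card_congr (QuotientAddGroup.quotientKerEquivRange g).toEquiv] at this
    omega
  have hidx : g.range.index = 2 := by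
    have h := g.range.card_mul_index
    have hpos : 0 < Nat.card g.range := Nat.card_pos
    refine Nat.eq_of_mul_eq_mul_left hpos ?_
    rw [h, ← hcard, mul_comm]
  have hφ : ∀ t, φ t = if t ∈ g.range then φ 0 else φ 1 := fun t => by
    split_ifs with ht
    · obtain ⟨c, rfl⟩ := ht
      rw [← hshift 0 c, zero_add]
    · obtain ⟨c, hc⟩ := (AddSubgroup.add_mem_iff_of_index_two hidx).mpr (iff_of_false ht h1g)
      rw [← hshift 1 c, hc]
      congr 1
      linear_combination -h2
  have hsum : Nat.card A = ∑ t : F, φ t := by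
    rw [← Nat.card_sigma]
    exact Nat.card_congr (Equiv.sigmaFiberEquiv fun v : A => Q v.1).symm
  have hsplit : (Finset.univ.filter fun t : F => t ∈ g.range).card = Nat.card g.range := by
    rw [← Fintype.card_subtype, ← Nat.card_eq_fintype_card]
  have hsum2 : 2 * (φ 0 + φ 1) * Nat.card g.range = 2 * Nat.card F ^ (j + 1) := by
    rw [← hcA, hsum, Finset.sum_congr rfl fun t _ => hφ t, Finset.sum_ite, Finset.sum_const,
      Finset.sum_const, smul_eq_mul, smul_eq_mul]
    have hc := Finset.card_filter_add_card_filter_not (s := (Finset.univ : Finset F))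
      (fun t : F => t ∈ g.range)
    rw [Finset.card_univ, ← Nat.card_eq_fintype_card (α := F), ← hcard] at hc
    rw [hsplit] at hc ⊢
    rw [show (Finset.univ.filter fun t : F => ¬ t ∈ g.range).card = Nat.card g.range by omega]
    ring
  have hNM : φ 0 + φ 1 = 2 * Nat.card F ^ j :=
    Nat.eq_of_mul_eq_mul_right (Nat.card_pos (α := g.range)) (by
      have h2m : (φ 0 + φ 1) * Nat.card g.range = Nat.card F ^ (j + 1) := by
        have := hsum2; rw [mul_assoc] at this; omega
      rw [h2m, pow_succ, ← hcard]
      ring)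
  -- decomposition of the singular vectors
  have key : ∀ P : (ι → F) → F, (∀ (c : F) v, P (c • v) = c ^ 2 * P v) →
      (Nat.card {v : ι → F // P v = 0} : ℤ) = Nat.card {v : H // P v.1 = 0} +
        Nat.card {v : A // P v.1 = 0} * ((Nat.card F : ℤ) - 1) := by
    intro P hP
    have e : {v : ι → F // P v = 0} ≃ {v : H // P v.1 = 0} ⊕ ({v : A // P v.1 = 0} × Fˣ) :=
      { toFun := fun v => if h : B a v.1 = 0 then .inl ⟨⟨v.1, h⟩, v.2⟩ else
          .inr (⟨⟨(B a v.1)⁻¹ • v.1, by rw [map_smul, smul_eq_mul, inv_mul_cancel₀ h]⟩,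
            by show P _ = 0; rw [hP, v.2, mul_zero]⟩, Units.mk0 _ h)
        invFun := Sum.elim (fun v => ⟨v.1.1, v.2⟩)
          fun p => ⟨(p.2 : F) • p.1.1.1, by rw [hP, p.1.2, mul_zero]⟩
        left_inv := fun v => by
          by_cases h : B a v.1 = 0
          · simp [dif_pos h]
          · simp [dif_neg h, smul_smul, mul_inv_cancel₀ h]
        right_inv := fun x => by
          rcases x with v | ⟨⟨⟨v, hv⟩, hPv⟩, c⟩
          · have h : B a v.1.1 = 0 := v.1.2
            simp [h]
          · have h : B a ((c : F) • v) = (c : F) := by rw [map_smul, hv, smul_eq_mul, mul_one]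
            simp only [Sum.elim_inr]
            refine (dif_neg (fun h' : B a ((c : F) • v) = 0 => c.ne_zero (h.symm.trans h'))).trans ?_
            refine congrArg Sum.inr (Prod.ext (Subtype.ext (Subtype.ext ?_)) (Units.ext h))
            show (B a ((c : F) • v))⁻¹ • ((c : F) • v) = v
            rw [h, smul_smul, inv_mul_cancel₀ c.ne_zero, one_smul] }
    rw [Nat.card_congr e, Nat.card_sum, Nat.card_prod, Nat.card_units]
    push_cast [Nat.cast_sub (Nat.one_le_iff_ne_zero.mpr Nat.card_pos.ne')]
    ring
  rw [key Q C.smul, key _ (tr_space C h2 a).smul]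
  have e1 : Nat.card {v : H // tr Q B a v.1 = 0} = Nat.card {v : H // Q v.1 = 0} :=
    Nat.card_congr (Equiv.subtypeEquivRight fun v => by
      simp [tr, show B a v.1 = 0 from v.2])
  have e2 : Nat.card {v : A // tr Q B a v.1 = 0} = φ 1 :=
    Nat.card_congr (Equiv.subtypeEquivRight fun v => by
      simp only [tr, v.2]
      constructor
      · intro h; linear_combination h - h2
      · intro h; linear_combination h + h2)
  rw [e1, e2, hS0]
  have hNM' : (φ 0 : ℤ) + φ 1 = 2 * (Nat.card F : ℤ) ^ j := by exact_mod_cast hNM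
  show (Nat.card F : ℤ) ^ j + (φ 0 : ℤ) * _ + _ = _
  linear_combination ((Nat.card F : ℤ) - 1) * hNM'

/-- A non-degenerate space is of plus or of minus type. -/
theorem count_cases (C : Space Q B) : ∀ (k : ℕ) (U : Submodule F (ι → F)), NDeg B U →
    finrank F U = 2 * (k + 1) →
    (sgCount Q U = (Nat.card F : ℤ) ^ (2 * k + 1) + (Nat.card F : ℤ) ^ (k + 1) -
        (Nat.card F : ℤ) ^ k ∧
      ∃ A : Submodule F (ι → F), A ≤ U ∧ (∀ v ∈ A, Q v = 0) ∧ finrank F A = k + 1) ∨
    sgCount Q U = (Nat.card F : ℤ) ^ (2 * k + 1) - (Nat.card F : ℤ) ^ (k + 1) +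
        (Nat.card F : ℤ) ^ k := by
  have hq : (2 : ℕ) ≤ Nat.card F := Finite.one_lt_card
  have hperp : ∀ (U : Submodule F (ι → F)) (e f : ι → F), Hyp Q B U e f → ∀ n,
      finrank F U = n + 2 → finrank F (perp2 B U e f) = n := by
    intro U e f H n hn
    have h := card_step C H
    rw [Module.natCard_eq_pow_finrank (K := F) (V := U), hn,
      Module.natCard_eq_pow_finrank (K := F) (V := perp2 B U e f)] at h
    push_cast at h
    rw [← pow_add] at h
    have h' : Nat.card F ^ (n + 2) = Nat.card F ^ (2 + finrank F (perp2 B U e f)) := by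
      exact_mod_cast h
    have := Nat.pow_right_injective hq h'
    omega
  intro k
  induction k with
  | zero =>
    intro U hU hfr
    by_cases hs : ∃ e ∈ U, e ≠ 0 ∧ Q e = 0
    · obtain ⟨e, he, he0, hQe⟩ := hs
      obtain ⟨f, H⟩ := exists_hyp C hU he he0 hQe
      have hW : perp2 B U e f = ⊥ := Submodule.finrank_eq_zero.mp (hperp U e f H 0 hfr)
      have hW1 : sgCount Q (perp2 B U e f) = 1 := by
        rw [sgCount, Nat.cast_eq_one, Nat.card_eq_one_iff_unique, hW]
        exact ⟨⟨fun a b => Subtype.ext (((Submodule.mem_bot F).mp a.2.1).trans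
          ((Submodule.mem_bot F).mp b.2.1).symm)⟩, ⟨⟨0, Submodule.zero_mem _, C.zero⟩⟩⟩
      refine Or.inl ⟨?_, Submodule.span F {e}, (Submodule.span_singleton_le_iff_mem e U).mpr he,
        fun v hv => ?_, finrank_span_singleton he0⟩
      · rw [sgCount_step C H, hW1, hW]
        simp
        ring
      · obtain ⟨c, rfl⟩ := Submodule.mem_span_singleton.mp hv
        rw [C.smul, hQe, mul_zero]
    · push Not at hs
      right
      have : sgCount Q U = 1 := by
        rw [sgCount, Nat.cast_eq_one, Nat.card_eq_one_iff_unique]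
        refine ⟨⟨fun a b => Subtype.ext ?_⟩, ⟨⟨0, U.zero_mem, C.zero⟩⟩⟩
        have h0 : ∀ x : {x : ι → F // x ∈ U ∧ Q x = 0}, x.1 = 0 := fun x => by
          by_contra h
          exact hs x.1 x.2.1 h x.2.2
        rw [h0 a, h0 b]
      rw [this]; ring
  | succ k ih =>
    intro U hU hfr
    obtain ⟨e, f, H⟩ := exists_hyp' C hU (by omega)
    have hW := hperp U e f H (2 * (k + 1)) (by omega)
    have hcW : (Nat.card ↥(perp2 B U e f) : ℤ) = (Nat.card F : ℤ) ^ (2 * (k + 1)) := by
      rw [Module.natCard_eq_pow_finrank (K := F) (V := perp2 B U e f), hW]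
      push_cast; rfl
    rcases ih _ (H.ndeg C hU) hW with ⟨hS, A, hAW, hA, hAd⟩ | hS
    · refine Or.inl ⟨?_, A ⊔ Submodule.span F {e}, sup_le (hAW.trans fun v hv => (mem_perp2.mp hv).1)
        ((Submodule.span_singleton_le_iff_mem e U).mpr H.memE), fun v hv => ?_, ?_⟩
      · rw [sgCount_step C H, hS, hcW]; ring
      · obtain ⟨w, hw, _, hu, rfl⟩ := Submodule.mem_sup.mp hv
        obtain ⟨c, rfl⟩ := Submodule.mem_span_singleton.mp hu
        rw [C.add, hA w hw, C.smul, H.singE, map_smul, C.symm w e, (mem_perp2.mp (hAW hw)).2.1]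
        simp
      · have hne : e ≠ 0 := fun h => by
          have := H.pair; rw [h, map_zero, LinearMap.zero_apply] at this; exact zero_ne_one this
        have hd : Disjoint A (Submodule.span F {e}) := by
          rw [Submodule.disjoint_def]
          intro v hv hve
          obtain ⟨c, rfl⟩ := Submodule.mem_span_singleton.mp hve
          have := (mem_perp2.mp (hAW hv)).2.2
          rw [map_smul, H.pair' C, smul_eq_mul, mul_one] at this
          rw [this, zero_smul]
        have h1 := Submodule.finrank_sup_add_finrank_inf_eq A (Submodule.span F {e})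
        rw [hd.eq_bot, finrank_bot, finrank_span_singleton hne, hAd, add_zero] at h1
        exact h1
    · right
      rw [sgCount_step C H, hS, hcW]; ring

/-- All non-zero levels have the same size. -/
theorem card_level_eq (C : Space Q B) (h2 : (2 : F) = 0) {t : F} (ht : t ≠ 0) :
    Nat.card {v : ι → F // Q v = t} =
      Nat.card {v : ι → F // v ∈ (⊤ : Submodule F (ι → F)) ∧ Q v = 1} := by
  obtain ⟨s, hs⟩ := exists_sqrt_two h2 t
  have hs0 : s ≠ 0 := fun h => ht (by rw [← hs, h]; ring)
  exact Nat.card_congr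
    { toFun := fun v => ⟨s⁻¹ • v.1, trivial, by
        rw [C.smul, v.2, inv_pow, hs, inv_mul_cancel₀ ht]⟩
      invFun := fun v => ⟨s • v.1, by rw [C.smul, v.2.2, mul_one, hs]⟩
      left_inv := fun v => Subtype.ext (by simp [smul_smul, mul_inv_cancel₀ hs0])
      right_inv := fun v => Subtype.ext (by simp [smul_smul, inv_mul_cancel₀ hs0]) }

/-- Twice the number of translates of the type of `Q`. -/
theorem two_card_orbit (C : Space Q B) (h2 : (2 : F) = 0) :
    2 * (Nat.card {a : ι → F // InJ (Q a)} : ℤ) * ((Nat.card F : ℤ) - 1) =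
      2 * ((Nat.card F : ℤ) - 1) * (Nat.card {v : ι → F // Q v = 0} : ℤ) +
        ((Nat.card F : ℤ) - 2) *
          ((Nat.card F : ℤ) ^ Fintype.card ι - (Nat.card {v : ι → F // Q v = 0} : ℤ)) := by
  classical
  set J := Finset.univ.filter fun t : F => InJ t with hJ
  have hmem : ∀ t, t ∈ J ↔ InJ t := fun t => by rw [hJ, Finset.mem_filter]; simp
  have hJc : 2 * (J.card : ℤ) = Nat.card F := by
    rw [← two_card_J (F := F) h2]
    push_cast
    rw [hJ, ← Fintype.card_subtype, ← Nat.card_eq_fintype_card]
    rfl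
  have h0J : (0 : F) ∈ J := (hmem 0).mpr ⟨0, by ring⟩
  have e : {a : ι → F // InJ (Q a)} ≃ Σ t : {t // t ∈ J}, {v : ι → F // Q v = t.1} :=
    { toFun := fun a => ⟨⟨Q a.1, (hmem _).mpr a.2⟩, a.1, rfl⟩
      invFun := fun p => ⟨p.2.1, by rw [p.2.2]; exact (hmem p.1.1).mp p.1.2⟩
      left_inv := fun _ => rfl
      right_inv := fun p => Sigma.subtype_ext (Subtype.ext p.2.2) rfl }
  rw [Nat.card_congr e, Nat.card_sigma, Finset.sum_coe_sort J (fun t => Nat.card {v : ι → F // Q v = t}),
    ← Finset.add_sum_erase J _ h0J,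
    Finset.sum_congr rfl fun t ht => card_level_eq C h2 (Finset.ne_of_mem_erase ht), Finset.sum_const,
    smul_eq_mul, Finset.card_erase_of_mem h0J]
  have hL := card_level C h2 (⊤ : Submodule F (ι → F))
  rw [card_top, sgCount_top] at hL
  push_cast [Nat.cast_sub (Finset.card_pos.mpr ⟨0, h0J⟩)]
  linear_combination (2 * (J.card : ℤ) - 2) * hL +
    ((Nat.card F : ℤ) ^ Fintype.card ι - (Nat.card {v : ι → F // Q v = 0} : ℤ)) * hJc

end Cfsg.Lib.Linear.Orth
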