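import Cfsg.Agent.Lib.Linear.SymplecticDecomp

/-!
# Square-zero self-adjoint maps of symplectic spaces in characteristic two

Such a map `N` is determined up to isometry by its rank and by whether the symmetric form
`(u, v) ↦ B u (N v)` is alternating.
-/

set_option autoImplicit false

namespace Cfsg.Lib.Linear.SympInv

open Module Cfsg.Lib.Linear.Symp

variable {F V : Type*} [Field F] [AddCommGroup V] [Module F V]

/-- `B u (N v)`. -/
def assoc (B : LinearMap.BilinForm F V) (N : End F V) : LinearMap.BilinForm F V := LinearMap.compl₂ B N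

theorem assoc_apply (B : LinearMap.BilinForm F V) (N : End F V) (u v : V) : assoc B N u v = B u (N v) := rfl

variable [FiniteDimensional F V]

/-- An alternating form which is nondegenerate on a subspace forces even dimension. -/
theorem even_finrank (β : LinearMap.BilinForm F V) (k : ℕ) : ∀ W : Submodule F V, finrank F W ≤ k →
    (∀ w ∈ W, β w w = 0) → NondegOn β W → Even (finrank F W) := by
  induction k using Nat.strong_induction_on with
  | _ k ih =>
    intro W hk halt hW
    rcases Nat.eq_zero_or_pos (finrank F W) with h0 | hpos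
    · rw [h0]; exact Even.zero
    obtain ⟨e, he, he0⟩ := Submodule.exists_mem_ne_zero_of_ne_bot
      (fun h : W = ⊥ => by rw [h, finrank_bot] at hpos; omega)
    obtain ⟨f₀, hf₀, hef₀⟩ := hW e he he0
    set f := (β e f₀)⁻¹ • f₀
    have hf : f ∈ W := W.smul_mem _ hf₀
    have hef : β e f = 1 := by simp [f, inv_mul_cancel₀ hef₀]
    have sk : ∀ x ∈ W, ∀ y ∈ W, β x y = -β y x := fun x hx y hy => by
      have := halt _ (W.add_mem hx hy)
      simp only [map_add, LinearMap.add_apply, halt x hx, halt y hy] at this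
      linear_combination this
    let Φ : W →ₗ[F] F × F := ((β.flip e).prod (β.flip f)).comp W.subtype
    have hs : Function.Surjective Φ := by
      rintro ⟨p, q⟩
      refine ⟨⟨(-p) • f + q • e, W.add_mem (W.smul_mem _ hf) (W.smul_mem _ he)⟩, ?_⟩
      simp [Φ, halt e he, halt f hf, hef, sk f hf e he]
    set C := (LinearMap.ker Φ).map W.subtype with hC
    have memC : ∀ x, x ∈ C ↔ x ∈ W ∧ β x e = 0 ∧ β x f = 0 := fun x => by
      constructor
      · rintro ⟨y, hy, rfl⟩
        have hy' : Φ y = 0 := hy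
        simp [Φ, Prod.ext_iff] at hy'
        exact ⟨y.2, hy'⟩
      · rintro ⟨hx, h1, h2⟩
        exact ⟨⟨x, hx⟩, by simp [Φ, Prod.ext_iff, h1, h2], rfl⟩
    have h1 := LinearMap.finrank_range_add_finrank_ker Φ
    rw [LinearMap.range_eq_top.2 hs, finrank_top, Module.finrank_prod, Module.finrank_self] at h1
    have hCd : finrank F C + 2 = finrank F W := by
      rw [hC, Submodule.finrank_map_subtype_eq]; omega
    have := ih (finrank F C) (by omega) C le_rfl (fun w hw => halt w ((memC w).1 hw).1) (fun x hx hx0 => by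
      obtain ⟨hxW, hxe, hxf⟩ := (memC x).1 hx
      obtain ⟨y, hy, hxy⟩ := hW x hxW hx0
      refine ⟨y - β y f • e + β y e • f, (memC _).2 ⟨W.add_mem (W.sub_mem hy (W.smul_mem _ he)) (W.smul_mem _ hf), ?_, ?_⟩,
        by simpa [hxe, hxf] using hxy⟩
      · simp [halt e he, hef, sk f hf e he]
      · simp [halt f hf, hef])
    rw [← hCd]
    exact this.add even_two

variable [CharP F 2]

theorem two_eq : (2 : F) = 0 := CharTwo.two_eq_zero

variable [Finite F]

theorem exists_scale_one {c : F} (hc : c ≠ 0) : ∃ x : F, x * x * c = 1 := by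
  obtain ⟨x, hx⟩ := FiniteField.isSquare_of_char_two (F := F) (ringChar.eq F 2) c⁻¹
  exact ⟨x, by rw [← hx, inv_mul_cancel₀ hc]⟩

/-- A symmetric non-alternating form has an orthonormal family spanning modulo the radical. -/
theorem exists_orthonormal (β : LinearMap.BilinForm F V) (hs : ∀ x y, β x y = β y x) (k : ℕ) :
    ∀ W : Submodule F V, finrank F W ≤ k → (∃ w ∈ W, β w w ≠ 0) →
      ∃ (r : ℕ) (u : Fin r → V), (∀ i, u i ∈ W) ∧ (∀ i j, β (u i) (u j) = if i = j then 1 else 0) ∧
        ∀ w ∈ W, ∀ y ∈ W, β y (w - ∑ i, β (u i) w • u i) = 0 := by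
  induction k using Nat.strong_induction_on with
  | _ k ih =>
    intro W hk hne
    obtain ⟨v₀, hv₀, hv₀'⟩ := hne
    obtain ⟨c, hc⟩ := exists_scale_one hv₀'
    have step : ∀ v ∈ W, β v v = 1 →
        ((∃ w ∈ W ⊓ LinearMap.ker (β v), β w w ≠ 0) ∨
          ∀ x ∈ W ⊓ LinearMap.ker (β v), ∀ y ∈ W ⊓ LinearMap.ker (β v), β x y = 0) →
        ∃ (r : ℕ) (u : Fin r → V), (∀ i, u i ∈ W) ∧ (∀ i j, β (u i) (u j) = if i = j then 1 else 0) ∧
          ∀ w ∈ W, ∀ y ∈ W, β y (w - ∑ i, β (u i) w • u i) = 0 := by
      intro v hv hvv hcase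
      set W' := W ⊓ LinearMap.ker (β v)
      have hproj : ∀ w ∈ W, w - β v w • v ∈ W' := fun w hw =>
        ⟨W.sub_mem hw (W.smul_mem _ hv), by simp [hvv]⟩
      obtain ⟨r, u, hu, huu, hur⟩ : ∃ (r : ℕ) (u : Fin r → V), (∀ i, u i ∈ W') ∧
          (∀ i j, β (u i) (u j) = if i = j then 1 else 0) ∧
          ∀ w ∈ W', ∀ y ∈ W', β y (w - ∑ i, β (u i) w • u i) = 0 := by
        rcases hcase with h | h
        · refine ih (finrank F W') ?_ W' le_rfl h
          have hlt : W' < W := by
            refine lt_of_le_of_ne inf_le_left fun he => ?_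
            have : v ∈ W' := he ▸ hv
            have h0 : β v v = 0 := this.2
            rw [hvv] at h0
            exact one_ne_zero h0
          exact lt_of_lt_of_le (Submodule.finrank_lt_finrank_of_lt hlt) hk
        · exact ⟨0, Fin.elim0, fun i => i.elim0, fun i => i.elim0, fun w hw y hy => by simp [h y hy w hw]⟩
      have hvu : ∀ i, β v (u i) = 0 := fun i => (hu i).2
      refine ⟨r + 1, Fin.cons v u, fun i => Fin.cases hv (fun i => (hu i).1) i, fun i j => ?_, fun w hw y hy => ?_⟩
      · induction i using Fin.cases with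
        | zero =>
          induction j using Fin.cases with
          | zero => simp [hvv]
          | succ j => simp [hvu, (Fin.succ_ne_zero j).symm]
        | succ i =>
          induction j using Fin.cases with
          | zero => simp [hs (u i) v, hvu, Fin.succ_ne_zero i]
          | succ j => simp [huu, Fin.succ_inj]
      · have hui : ∀ i, β (u i) (w - β v w • v) = β (u i) w := fun i => by simp [hs (u i) v, hvu]
        have h1 := hur _ (hproj w hw) _ (hproj y hy)
        simp only [hui] at h1
        rw [Fin.sum_univ_succ]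
        simp only [Fin.cons_zero, Fin.cons_succ]
        rw [← sub_sub]
        rw [LinearMap.map_sub₂, LinearMap.map_smul₂] at h1
        have h2 : β v (w - β v w • v - ∑ i, β (u i) w • u i) = 0 := by simp [hvv, hvu]
        rw [h2, smul_zero, sub_zero] at h1
        exact h1
    set v := c • v₀
    have hv : v ∈ W := W.smul_mem _ hv₀
    have hvv : β v v = 1 := by
      simp only [v, map_smul, LinearMap.smul_apply, smul_eq_mul]
      linear_combination hc
    by_cases hA : ∃ w ∈ W ⊓ LinearMap.ker (β v), β w w ≠ 0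
    · exact step v hv hvv (Or.inl hA)
    by_cases hZ : ∀ x ∈ W ⊓ LinearMap.ker (β v), ∀ y ∈ W ⊓ LinearMap.ker (β v), β x y = 0
    · exact step v hv hvv (Or.inr hZ)
    push Not at hA hZ
    obtain ⟨e, he, f₀, hf₀, hef₀⟩ := hZ
    set f := (β e f₀)⁻¹ • f₀
    have hf : f ∈ W ⊓ LinearMap.ker (β v) := Submodule.smul_mem _ _ hf₀
    have hef : β e f = 1 := by simp [f, inv_mul_cancel₀ hef₀]
    have hve : β v e = 0 := he.2
    have hvf : β v f = 0 := hf.2
    have hee := hA e he
    have hff := hA f hf
    refine step (v + e) (W.add_mem hv he.1) ?_ (Or.inl ⟨v + f, ⟨W.add_mem hv hf.1, ?_⟩, ?_⟩)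
    · simp [hvv, hve, hee, hs e v]
    · show β (v + e) (v + f) = 0
      simp [hvv, hvf, hef, hs e v, hve]
      exact CharTwo.add_self_eq_zero (1 : F)
    · simp [hvv, hvf, hff, hs f v]

variable {B : LinearMap.BilinForm F V}

theorem sym_of_alt (hA : B.IsAlt) (x y : V) : B x y = B y x := by
  rw [← LinearMap.IsAlt.neg hA y x, CharTwo.neg_eq]

/-- The data of a normal pair of families. -/
structure Family (B : LinearMap.BilinForm F V) (N : End F V) {r : ℕ} (G : Matrix (Fin r) (Fin r) F)
    (u : Fin r → V) : Prop where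
  gram : ∀ i j, B (u i) (N (u j)) = G i j
  iso : ∀ i j, B (u i) (u j) = 0

theorem exists_adjust (hA : B.IsAlt) (N : End F V) (hN2 : ∀ x, N (N x) = 0)
    (hadj : ∀ u v, B (N u) v = B u (N v)) {r : ℕ} (G : Matrix (Fin r) (Fin r) F) (hG : G.det ≠ 0) (u : Fin r → V)
    (hu : ∀ i j, B (u i) (N (u j)) = G i j) : ∃ u', Family B N G u' := by
  classical
  have hs := sym_of_alt hA
  let D : Matrix (Fin r) (Fin r) F := Matrix.of fun i j => if i < j then B (u i) (u j) else 0
  let C := D * G⁻¹
  have hCG : C * G = D := Matrix.nonsing_inv_mul_cancel_right G D (isUnit_iff_ne_zero.2 hG)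
  refine ⟨fun i => u i + ∑ k, C i k • N (u k), ⟨fun i j => ?_, fun i j => ?_⟩⟩
  · simp only [map_add, map_sum, map_smul, hN2, smul_zero, Finset.sum_const_zero, add_zero, LinearMap.add_apply,
      LinearMap.sum_apply, LinearMap.smul_apply]
    rw [hu, Finset.sum_eq_zero fun k _ => by rw [hadj, hN2, map_zero, smul_zero], add_zero]
  · simp only [map_add, map_sum, map_smul, LinearMap.add_apply, LinearMap.sum_apply, LinearMap.smul_apply,
      smul_eq_mul]
    have hNN : ∀ k l, B (N (u k)) (N (u l)) = 0 := fun k l => by rw [hadj, hN2, map_zero]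
    simp only [hNN, mul_zero, Finset.sum_const_zero, add_zero]
    have h1 : ∀ a b, ∑ k, C a k * B (N (u k)) (u b) = D a b := fun a b => by
      rw [← hCG, Matrix.mul_apply]
      exact Finset.sum_congr rfl fun k _ => by rw [hadj, hu]
    have h2 : ∀ a b, ∑ k, C b k * B (u a) (N (u k)) = D b a := fun a b => by
      rw [← h1]
      exact Finset.sum_congr rfl fun k _ => by rw [hs (u a)]
    rw [h1, h2]
    rcases lt_trichotomy i j with h | h | h
    · simp [D, h, h.not_gt, CharTwo.add_self_eq_zero]
    · subst h; simp [D, hA.self_eq_zero]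
    · simp [D, h, h.not_gt, hs (u i) (u j), CharTwo.add_self_eq_zero]

/-- The map attached to a family. -/
def emb (N : End F V) {r : ℕ} (u : Fin r → V) : ((Fin r → F) × (Fin r → F)) →ₗ[F] V :=
  (Fintype.linearCombination F u).coprod (Fintype.linearCombination F fun i => N (u i))

theorem emb_apply (N : End F V) {r : ℕ} (u : Fin r → V) (p : (Fin r → F) × (Fin r → F)) :
    emb N u p = ∑ i, p.1 i • u i + ∑ i, p.2 i • N (u i) := by
  simp [emb, Fintype.linearCombination_apply]

theorem Family.emb_pair {N : End F V} (hN2 : ∀ x, N (N x) = 0) (hadj : ∀ u v, B (N u) v = B u (N v)) {r : ℕ}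
    {G : Matrix (Fin r) (Fin r) F} {u : Fin r → V} (h : Family B N G u) (p p' : (Fin r → F) × (Fin r → F)) :
    B (emb N u p) (emb N u p') = ∑ i, ∑ j, p.1 i * p'.2 j * G i j + ∑ i, ∑ j, p.2 i * p'.1 j * G i j := by
  rw [emb_apply, emb_apply]
  have hNN : ∀ k l, B (N (u k)) (N (u l)) = 0 := fun k l => by rw [hadj, hN2, map_zero]
  have hNu : ∀ k l, B (N (u k)) (u l) = G k l := fun k l => by rw [hadj, h.gram]
  simp [h.iso, h.gram, hNN, hNu, Finset.mul_sum, mul_assoc]

theorem Family.injective (hA : B.IsAlt) {N : End F V} (hN2 : ∀ x, N (N x) = 0) (hadj : ∀ u v, B (N u) v = B u (N v))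
    {r : ℕ} {G : Matrix (Fin r) (Fin r) F} (hG : G.det ≠ 0) {u : Fin r → V} (h : Family B N G u) :
    Function.Injective (emb N u) := by
  classical
  rw [← LinearMap.ker_eq_bot, LinearMap.ker_eq_bot']
  intro p hp
  have key : ∀ a : Fin r → F, (∀ j, ∑ i, a i * G i j = 0) → a = 0 := fun a ha => by
    by_contra hne
    exact hG (Matrix.exists_vecMul_eq_zero_iff.1 ⟨a, hne, funext fun j => by
      simp only [Matrix.vecMul, dotProduct, Pi.zero_apply]; exact ha j⟩)
  refine Prod.ext (key _ fun j => ?_) (key _ fun j => ?_)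
  · have h1 := h.emb_pair hN2 hadj p (0, Pi.single j 1)
    rw [hp, map_zero, LinearMap.zero_apply] at h1
    simpa [Pi.single_apply] using h1.symm
  · have h1 := h.emb_pair hN2 hadj p (Pi.single j 1, 0)
    rw [hp, map_zero, LinearMap.zero_apply] at h1
    simpa [Pi.single_apply] using h1.symm

theorem N_emb {N : End F V} (hN2 : ∀ x, N (N x) = 0) {r : ℕ} (u : Fin r → V) (p : (Fin r → F) × (Fin r → F)) :
    N (emb N u p) = emb N u (0, p.1) := by
  simp [emb_apply, hN2]

theorem finrank_family (hA : B.IsAlt) {N : End F V} (hN2 : ∀ x, N (N x) = 0)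
    (hadj : ∀ u v, B (N u) v = B u (N v)) {r : ℕ} {G : Matrix (Fin r) (Fin r) F} (hG : G.det ≠ 0) {u : Fin r → V}
    (h : Family B N G u) : 2 * r ≤ finrank F V := by
  have := LinearMap.finrank_le_finrank_of_injective (h.injective hA hN2 hadj hG)
  rw [Module.finrank_prod, Module.finrank_fin_fun] at this
  omega

/-- Two square-zero maps with equal Gram families are conjugate by an isometry. -/
theorem exists_conj (hB : B.Nondegenerate) (hA : B.IsAlt) (N N' : End F V) (hN2 : ∀ x, N (N x) = 0)
    (hN2' : ∀ x, N' (N' x) = 0) (hadj : ∀ u v, B (N u) v = B u (N v)) (hadj' : ∀ u v, B (N' u) v = B u (N' v))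
    {r : ℕ} (G : Matrix (Fin r) (Fin r) F) (hG : G.det ≠ 0)
    (hr : finrank F (LinearMap.range N) = r) (hr' : finrank F (LinearMap.range N') = r)
    (u u' : Fin r → V) (hu : ∀ i j, B (u i) (N (u j)) = G i j) (hu' : ∀ i j, B (u' i) (N' (u' j)) = G i j) :
    ∃ g ∈ iso B, ∀ x, g (N x) = N' (g x) := by
  classical
  obtain ⟨w, hw⟩ := exists_adjust hA N hN2 hadj G hG u hu
  obtain ⟨w', hw'⟩ := exists_adjust hA N' hN2' hadj' G hG u' hu'
  have hinj := hw.injective hA hN2 hadj hG
  have hinj' := hw'.injective hA hN2' hadj' hG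
  let e := LinearEquiv.ofInjective (emb N w) hinj
  let φ : LinearMap.range (emb N w) →ₗ[F] V := (emb N' w').comp e.symm.toLinearMap
  have hφe : ∀ p, φ (e p) = emb N' w' p := fun p => by simp [φ]
  obtain ⟨g, hgT, hgx⟩ := witt hB hA (LinearMap.range (emb N w)) φ
    (fun x y h => e.symm.injective (hinj' h)) (fun x y => by
      obtain ⟨p, rfl⟩ := e.surjective x
      obtain ⟨p', rfl⟩ := e.surjective y
      rw [hφe, hφe, hw'.emb_pair hN2' hadj']
      exact (hw.emb_pair hN2 hadj p p').symm)
  have hgp : ∀ p, g (emb N w p) = emb N' w' p := fun p => by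
    rw [← hφe]; exact hgx (e p)
  have key : ∀ (M : End F V) (v : Fin r → V), (∀ x, M (M x) = 0) → (∀ a b, B (M a) b = B a (M b)) →
      Family B M G v → finrank F (LinearMap.range M) = r →
      ∀ x, (∀ p, B (emb M v p) x = 0) → M x = 0 := by
    intro M v hM hMa hv hMr x hx
    have hle : LinearMap.range ((emb M v).comp (LinearMap.inr F _ _)) = LinearMap.range M := by
      refine Submodule.eq_of_le_of_finrank_eq ?_ ?_
      · rintro _ ⟨a, rfl⟩
        refine ⟨emb M v (a, 0), ?_⟩
        rw [N_emb hM]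
        rfl
      · rw [LinearMap.finrank_range_of_inj (show Function.Injective ((emb M v).comp (LinearMap.inr F (Fin r → F) (Fin r → F))) from
            fun a b h => LinearMap.inr_injective (hv.injective hA hM hMa hG h)), hMr, Module.finrank_fin_fun]
    obtain ⟨a, ha⟩ : M x ∈ LinearMap.range ((emb M v).comp (LinearMap.inr F _ _)) := hle ▸ LinearMap.mem_range_self M x
    have ha' : M x = emb M v (0, a) := ha.symm
    by_contra hne
    have ha0 : a ≠ 0 := fun h => hne (by rw [ha', h, ← Prod.zero_eq_mk, map_zero])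
    obtain ⟨j, hj⟩ : ∃ j, ∑ i, a i * G i j ≠ 0 := by
      by_contra hc
      push Not at hc
      exact hG (Matrix.exists_vecMul_eq_zero_iff.1 ⟨a, ha0, funext fun j => by
        simp only [Matrix.vecMul, dotProduct, Pi.zero_apply]; exact hc j⟩)
    refine hj ?_
    have h1 := hv.emb_pair hM hMa (0, a) (Pi.single j 1, 0)
    rw [← ha', hMa, N_emb hM, sym_of_alt hA, hx] at h1
    simpa [Pi.single_apply] using h1.symm
  let Φ : V →ₗ[F] ((Fin r → F) × (Fin r → F) →ₗ[F] F) :=
    { toFun := fun x => (B.flip x).comp (emb N w)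
      map_add' := fun x y => LinearMap.ext fun p => by simp
      map_smul' := fun c x => LinearMap.ext fun p => by simp }
  have hg : g ∈ iso B := T_le_iso hA _ hgT
  refine ⟨g, hg, fun x => ?_⟩
  obtain ⟨p, hp⟩ : ∃ p, ∀ p', B (emb N w p') (emb N w p) = B (emb N w p') x := by
    have hΦ : Function.Injective (Φ.comp (emb N w)) := by
      rw [← LinearMap.ker_eq_bot, LinearMap.ker_eq_bot']
      intro p hp
      refine hinj (?_ : emb N w p = emb N w 0)
      rw [map_zero]
      by_contra hne
      have h0 : p ≠ 0 := fun h => hne (by rw [h, map_zero])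
      apply h0
      have h1 : ∀ p', B (emb N w p') (emb N w p) = 0 := fun p' => LinearMap.congr_fun hp p'
      have kk : ∀ a : Fin r → F, (∀ j, ∑ i, a i * G i j = 0) → a = 0 := fun a ha => by
        by_contra hne
        exact hG (Matrix.exists_vecMul_eq_zero_iff.1 ⟨a, hne, funext fun j => by
          simp only [Matrix.vecMul, dotProduct, Pi.zero_apply]; exact ha j⟩)
      refine Prod.ext (kk _ fun j => ?_) (kk _ fun j => ?_)
      · have h2 := hw.emb_pair hN2 hadj p (0, Pi.single j 1)
        rw [sym_of_alt hA, h1] at h2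
        simpa [Pi.single_apply] using h2.symm
      · have h2 := hw.emb_pair hN2 hadj p (Pi.single j 1, 0)
        rw [sym_of_alt hA, h1] at h2
        simpa [Pi.single_apply] using h2.symm
    have hsurj := (LinearMap.injective_iff_surjective_of_finrank_eq_finrank (by
      rw [Module.finrank_linearMap, Module.finrank_self, mul_one])).1 hΦ
    obtain ⟨p, hp⟩ := hsurj (Φ x)
    exact ⟨p, fun p' => LinearMap.congr_fun hp p'⟩
  set y := x - emb N w p
  have hy : ∀ p', B (emb N w p') y = 0 := fun p' => by rw [map_sub, hp, sub_self]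
  have h1 : N y = 0 := key N w hN2 hadj hw hr y hy
  have h2 : N' (g y) = 0 := key N' w' hN2' hadj' hw' hr' _ fun p' => by rw [← hgp]; exact (hg _ _).trans (hy p')
  rw [show x = y + emb N w p from (sub_add_cancel _ _).symm]
  simp only [map_add, h1, h2, map_zero, zero_add, hgp, N_emb hN2, N_emb hN2']

theorem finrank_orthonormal (hB : B.Nondegenerate) {N : End F V} {r : ℕ} (u : Fin r → V)
    (huu : ∀ i j, B (u i) (N (u j)) = if i = j then 1 else 0)
    (hur : ∀ w y, B y (N (w - ∑ i, B (u i) (N w) • u i)) = 0) : finrank F (LinearMap.range N) = r := by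
  classical
  have hli : LinearIndependent F fun i => N (u i) := by
    rw [Fintype.linearIndependent_iff]
    intro c hc i
    have := congrArg (B (u i)) hc
    simpa [huu] using this
  have hspan : LinearMap.range N = Submodule.span F (Set.range fun i => N (u i)) := by
    apply le_antisymm
    · rintro _ ⟨w, rfl⟩
      have h0 := hB.2 _ fun y => hur w y
      rw [map_sub, sub_eq_zero] at h0
      rw [h0, map_sum]
      exact Submodule.sum_mem _ fun i _ => by
        rw [map_smul]; exact Submodule.smul_mem _ _ (Submodule.subset_span ⟨i, rfl⟩)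
    · rw [Submodule.span_le]
      rintro _ ⟨i, rfl⟩
      exact LinearMap.mem_range_self N _
  rw [hspan, finrank_span_eq_card hli, Fintype.card_fin]

/-- A complement of the kernel, with its properties. -/
theorem exists_complement (hB : B.Nondegenerate) (N : End F V) (hadj : ∀ u v, B (N u) v = B u (N v)) :
    ∃ X : Submodule F V, finrank F X = finrank F (LinearMap.range N) ∧ NondegOn (assoc B N) X := by
  obtain ⟨X, hX⟩ := Submodule.exists_isCompl (LinearMap.ker N)
  refine ⟨X, ?_, fun x hx hx0 => ?_⟩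
  · have h1 := Submodule.finrank_add_eq_of_isCompl hX
    have h2 := LinearMap.finrank_range_add_finrank_ker N
    omega
  · have hNx : N x ≠ 0 := fun h => hx0 ((Submodule.disjoint_def.1 hX.disjoint) x h hx)
    obtain ⟨y, hy⟩ : ∃ y, B (N x) y ≠ 0 := by
      by_contra hc
      push Not at hc
      exact hNx (hB.1 _ hc)
    obtain ⟨a, ha, b, hb, rfl⟩ := Submodule.mem_sup.1 (show y ∈ LinearMap.ker N ⊔ X by
      rw [hX.sup_eq_top]; exact Submodule.mem_top)
    refine ⟨b, hb, ?_⟩
    rw [assoc_apply]
    have h0 : N a = 0 := ha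
    rw [hadj, map_add, h0, zero_add] at hy
    exact hy

theorem rank_even (hB : B.Nondegenerate) (N : End F V) (hadj : ∀ u v, B (N u) v = B u (N v))
    (halt : ∀ v, B v (N v) = 0) : Even (finrank F (LinearMap.range N)) := by
  obtain ⟨X, hX, hnd⟩ := exists_complement hB N hadj
  rw [← hX]
  exact even_finrank (assoc B N) _ X le_rfl (fun w _ => halt w) hnd

/-- Square-zero self-adjoint maps of equal rank and type are conjugate. -/
theorem exists_conj_of_type (hB : B.Nondegenerate) (hA : B.IsAlt) (N N' : End F V) (hN2 : ∀ x, N (N x) = 0)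
    (hN2' : ∀ x, N' (N' x) = 0) (hadj : ∀ u v, B (N u) v = B u (N v)) (hadj' : ∀ u v, B (N' u) v = B u (N' v))
    (hr : finrank F (LinearMap.range N) = finrank F (LinearMap.range N'))
    (htype : (∀ v, B v (N v) = 0) ↔ ∀ v, B v (N' v) = 0) : ∃ g ∈ iso B, ∀ x, g (N x) = N' (g x) := by
  classical
  have hs := sym_of_alt hA
  by_cases halt : ∀ v, B v (N v) = 0
  · have halt' := htype.1 halt
    obtain ⟨X, hX, hnd⟩ := exists_complement hB N hadj
    obtain ⟨Y, hY, hnd'⟩ := exists_complement hB N' hadj'
    let P : LinearMap.BilinForm F (V × V) := LinearMap.compl₁₂ (assoc B N) (LinearMap.fst F V V) (LinearMap.fst F V V) +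
      LinearMap.compl₁₂ (assoc B N') (LinearMap.snd F V V) (LinearMap.snd F V V)
    have hP : ∀ x y : V × V, P x y = B x.1 (N y.1) + B x.2 (N' y.2) := fun x y => rfl
    have hPalt : P.IsAlt := fun x => by rw [hP, halt, halt', add_zero]
    let X' := X.map (LinearMap.inl F V V)
    let Y' := Y.map (LinearMap.inr F V V)
    have hX' : NondegOn P X' := by
      rintro _ ⟨x, hx, rfl⟩ hx0
      obtain ⟨y, hy, hxy⟩ := hnd x hx (fun h => hx0 (by rw [h, map_zero]))
      exact ⟨_, ⟨y, hy, rfl⟩, by rw [hP]; simpa [assoc_apply] using hxy⟩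
    have hY' : NondegOn P Y' := by
      rintro _ ⟨x, hx, rfl⟩ hx0
      obtain ⟨y, hy, hxy⟩ := hnd' x hx (fun h => hx0 (by rw [h, map_zero]))
      exact ⟨_, ⟨y, hy, rfl⟩, by rw [hP]; simpa [assoc_apply] using hxy⟩
    have eX := (Submodule.equivMapOfInjective (LinearMap.inl F V V) LinearMap.inl_injective X)
    have eY := (Submodule.equivMapOfInjective (LinearMap.inr F V V) LinearMap.inr_injective Y)
    obtain ⟨φ, hφY, hφ⟩ := exists_isometry_between hPalt (finrank F X') X' Y' le_rfl hX' hY'
      (by rw [← eX.finrank_eq, ← eY.finrank_eq]; omega)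
    let b := Module.finBasisOfFinrankEq F X hX
    have hmem : ∀ i, ((b i : V), (0 : V)) ∈ X' := fun i => ⟨(b i : V), (b i).2, rfl⟩
    let u' : Fin (finrank F (LinearMap.range N)) → V := fun i => (φ ⟨_, hmem i⟩).2
    refine exists_conj hB hA N N' hN2 hN2' hadj hadj' (Matrix.of fun i j => B (b i : V) (N (b j : V))) ?_ rfl hr.symm
      (fun i => (b i : V)) u' (fun i j => rfl) fun i j => ?_
    · intro h0
      obtain ⟨a, ha, ha'⟩ := Matrix.exists_vecMul_eq_zero_iff.2 h0
      set z : X := ∑ i, a i • b i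
      have hz : z ≠ 0 := fun h => ha (funext fun i => Fintype.linearIndependent_iff.1 b.linearIndependent a h i)
      obtain ⟨y, hy, hzy⟩ := hnd _ z.2 fun h => hz (Subtype.ext h)
      apply hzy
      rw [assoc_apply, show y = ((∑ j, b.repr ⟨y, hy⟩ j • b j : X) : V) by rw [b.sum_repr]]
      simp only [z, Submodule.coe_sum, Submodule.coe_smul, map_sum, map_smul, LinearMap.sum_apply, LinearMap.smul_apply]
      refine Finset.sum_eq_zero fun j _ => ?_
      have hj := congrFun ha' j
      simp only [Matrix.vecMul, dotProduct, Matrix.of_apply, Pi.zero_apply] at hj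
      simp only [smul_eq_mul, hj, mul_zero]
    · obtain ⟨y, -, hy⟩ := hφY ⟨_, hmem i⟩
      obtain ⟨y', -, hy'⟩ := hφY ⟨_, hmem j⟩
      have h := hφ ⟨_, hmem i⟩ ⟨_, hmem j⟩
      rw [hP, hP, ← hy, ← hy'] at h
      simp only [LinearMap.inr_apply, map_zero, zero_add, add_zero] at h
      simp only [u', Matrix.of_apply, ← hy, ← hy', LinearMap.inr_apply]
      exact h
  · have halt' : ¬ ∀ v, B v (N' v) = 0 := fun h => halt (htype.2 h)
    have fam : ∀ M : End F V, (∀ a b, B (M a) b = B a (M b)) → (¬ ∀ v, B v (M v) = 0) →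
        ∃ (r : ℕ) (u : Fin r → V), finrank F (LinearMap.range M) = r ∧
          ∀ i j, B (u i) (M (u j)) = (1 : Matrix (Fin r) (Fin r) F) i j := by
      intro M hM hMa
      push Not at hMa
      obtain ⟨v, hv⟩ := hMa
      obtain ⟨r, u, -, huu, hur⟩ := exists_orthonormal (assoc B M)
        (fun x y => by rw [assoc_apply, assoc_apply, ← hM, hs]) _ ⊤ le_rfl ⟨v, Submodule.mem_top, hv⟩
      exact ⟨r, u, finrank_orthonormal hB u huu fun w y => hur w Submodule.mem_top y Submodule.mem_top, fun i j => by
        rw [Matrix.one_apply]; exact huu i j⟩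
    obtain ⟨r, u, hru, hu⟩ := fam N hadj halt
    obtain ⟨r', u', hru', hu'⟩ := fam N' hadj' halt'
    obtain rfl : r = r' := by omega
    exact exists_conj hB hA N N' hN2 hN2' hadj hadj' 1 (by rw [Matrix.det_one]; exact one_ne_zero) hru hru' u u' hu hu'

end Cfsg.Lib.Linear.SympInv
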