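import Cfsg.Agent.Lib.Linear.SympQuadForms
import Cfsg.Agent.Lib.H3.OmegaTwoSplit
import Cfsg.Agent.S2168
import Cfsg.Agent.S5983
import Cfsg.Agent.S2585
import Cfsg.Agent.S2593

/-!
# Classes of involutions of orthogonal groups in characteristic two

The classes of a quadratic form with the standard alternating polar form are read off the classes of
the symplectic group.
-/

set_option autoImplicit false

namespace Cfsg.Lib.Linear.OrthInvol

open Module Cfsg.Lib.Linear.Orth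
open Cfsg.Agent.S2166 (nil nil_apply nil_props isConj_of_type)
open scoped Matrix

/-- An isomorphism preserves the number of classes of involutions. -/
theorem card_congr_classes {G H : Type*} [Group G] [Group H] (e : G ≃* H) :
    Nat.card {C : ConjClasses G // ∃ g : G, ConjClasses.mk g = C ∧ orderOf g = 2} =
      Nat.card {C : ConjClasses H // ∃ g : H, ConjClasses.mk g = C ∧ orderOf g = 2} := by
  refine Nat.card_eq_of_bijective (fun C => ⟨ConjClasses.map e.toMonoidHom C.1, by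
    obtain ⟨g, hg, ho⟩ := C.2
    exact ⟨e g, by rw [← hg]; rfl, (e.orderOf_eq g).trans ho⟩⟩) ⟨?_, ?_⟩
  · intro K1 K2 h
    obtain ⟨_, g, rfl, ho1⟩ := K1
    obtain ⟨_, g', rfl, ho2⟩ := K2
    have h' : IsConj (e g) (e g') := ConjClasses.mk_eq_mk_iff_isConj.1 (congrArg Subtype.val h)
    refine Subtype.ext (ConjClasses.mk_eq_mk_iff_isConj.2 ?_)
    simpa using e.symm.toMonoidHom.map_isConj h'
  · rintro ⟨C, g, rfl, ho⟩
    refine ⟨⟨ConjClasses.mk (e.symm g), e.symm g, rfl, (e.symm.orderOf_eq g).trans ho⟩, Subtype.ext ?_⟩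
    show ConjClasses.mk (e (e.symm g)) = _
    rw [e.apply_symm_apply]

variable {F : Type*} [Field F] [Fintype F] [CharP F 2] {m : ℕ}
  {Q : (Fin m ⊕ Fin m → F) → F} (C : Space Q (Symp.spB m F))

/-- An isometry as a symplectic matrix. -/
noncomputable def toSp : ↥(Cfsg.isometryGroup F Q) →* ↥(Matrix.symplecticGroup (Fin m) F) where
  toFun g := ⟨g.1.val, (Symp.mem_symplecticGroup_iff _).2 (C.B_act g.2)⟩
  map_one' := rfl
  map_mul' _ _ := rfl

/-- The form `v ↦ f(v, gv)` vanishes. -/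
def Alt (g : ↥(Cfsg.isometryGroup F Q)) : Prop :=
  ∀ v, Symp.spB m F v (nil (toSp C g) v) = 0

/-- The rank of `g - 1`. -/
noncomputable def rk (g : ↥(Cfsg.isometryGroup F Q)) : ℕ :=
  finrank F (LinearMap.range (nil (toSp C g)))

omit [Fintype F] [CharP F 2] in
theorem rk_eq (g : ↥(Cfsg.isometryGroup F Q)) :
    rk C g = ((g : GL (Fin m ⊕ Fin m) F).val - 1).rank := rfl

omit [Fintype F] [CharP F 2] in
theorem sq_eq_one {g : ↥(Cfsg.isometryGroup F Q)} (hg : orderOf g = 2) :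
    g * g = 1 := by
  rw [← pow_two, ← hg, pow_orderOf_eq_one]

omit [Fintype F] [CharP F 2] in
theorem toSp_sq {g : ↥(Cfsg.isometryGroup F Q)} (hg : orderOf g = 2) :
    toSp C g * toSp C g = 1 := by
  rw [← map_mul, sq_eq_one hg, map_one]

theorem isConj_iff_invariants {k : ℕ} (hm : m = k + 1) {g g' : ↥(Cfsg.isometryGroup F Q)}
    (hg : orderOf g = 2) (hg' : orderOf g' = 2) :
    IsConj g g' ↔ rk C g = rk C g' ∧ (Alt C g ↔ Alt C g') := by
  constructor
  · intro h
    exact Cfsg.Agent.S2593.invariants ((toSp C).map_isConj h)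
  · rintro ⟨h1, h3⟩
    obtain ⟨c, hc⟩ := isConj_iff.1 (isConj_of_type (toSp_sq C hg) (toSp_sq C hg') h1 h3)
    have hcc : (c : Matrix (Fin m ⊕ Fin m) (Fin m ⊕ Fin m) F) *
        ((c⁻¹ : Matrix.symplecticGroup (Fin m) F) : Matrix (Fin m ⊕ Fin m) (Fin m ⊕ Fin m) F) = 1 := by
      rw [← Submonoid.coe_mul, mul_inv_cancel, Submonoid.coe_one]
    refine (Cfsg.Agent.S2168.isConj_iff C CharTwo.two_eq_zero (k := k) (by simp; omega) g g').2
      ⟨toGL c.1, fun u v => ?_, ?_⟩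
    · show Q (_ *ᵥ u + _ *ᵥ v) - Q (_ *ᵥ u) - Q (_ *ᵥ v) = Q (u + v) - Q u - Q v
      have := (Symp.mem_symplecticGroup_iff c.1).1 c.2 u v
      rw [← C.polar, ← C.polar, QuadraticMap.polar, QuadraticMap.polar] at this
      simpa only [Units.coeHom_apply, toGL_val hcc] using this
    · rw [mul_inv_eq_iff_eq_mul]
      refine Units.ext ?_
      show (toGL c.1).val * _ = _ * (toGL c.1).val
      rw [toGL_val hcc]
      have := congrArg Subtype.val (mul_inv_eq_iff_eq_mul.1 hc)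
      exact this

/-- An involution with `v ↦ f(v, gv)` zero and rank `m` fixes a totally singular half. -/
theorem half_of_excl {g : ↥(Cfsg.isometryGroup F Q)} (hr : rk C g = m) (ha : Alt C g) :
    (∀ v ∈ LinearMap.range (nil (toSp C g)), Q v = 0) ∧
      finrank F (LinearMap.range (nil (toSp C g))) = m := by
  refine ⟨?_, hr⟩
  rintro _ ⟨v, rfl⟩
  have h := ha v
  rw [nil_apply] at h ⊢
  change Symp.spB m F v ((g : GL (Fin m ⊕ Fin m) F).val *ᵥ v - v) = 0 at h
  show Q ((g : GL (Fin m ⊕ Fin m) F).val *ᵥ v - v) = 0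
  have h2 : (2 : F) = 0 := CharTwo.two_eq_zero
  rw [map_sub, C.self, h2, zero_mul, sub_zero] at h
  rw [sub_eq_add_neg, C.add, C.neg, mem_iso.mp g.2, map_neg, C.symm _ v, h]
  linear_combination Q v * h2

/-- Outside the exceptional type an involution fixes a non-singular vector. -/
theorem exists_fixed_of_not_excl {g : ↥(Cfsg.isometryGroup F Q)} (hg : orderOf g = 2)
    (h : ¬ (rk C g = m ∧ Alt C g)) : ∃ v, (g : GL (Fin m ⊕ Fin m) F).val *ᵥ v = v ∧ Q v ≠ 0 := by
  by_contra hno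
  push Not at hno
  have h2 : (2 : F) = 0 := CharTwo.two_eq_zero
  have hgg : (g : GL (Fin m ⊕ Fin m) F) * g = 1 := congrArg Subtype.val (sq_eq_one hg)
  obtain ⟨hA, hrange⟩ := Cfsg.Lib.H3.isHalf_fixSpace C h2 hgg hno
  have hhalf := hA.2
  simp only [Fintype.card_sum, Fintype.card_fin] at hhalf
  refine h ⟨?_, fun v => ?_⟩
  · show finrank F (LinearMap.range (Matrix.toLin' ((g : GL (Fin m ⊕ Fin m) F).val - 1))) = m
    exact (LinearEquiv.ofEq _ _ hrange).finrank_eq.trans (by omega)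
  · have hv : v + (g : GL (Fin m ⊕ Fin m) F).val *ᵥ v ∈ fixSpace (g : GL (Fin m ⊕ Fin m) F) :=
      mem_fixSpace.2 (by rw [Matrix.mulVec_add, ← mul_act, hgg, Units.val_one, Matrix.one_mulVec, add_comm])
    have h6 := hA.1 _ hv
    rw [C.add, mem_iso.mp g.2] at h6
    rw [nil_apply]
    show Symp.spB m F v ((g : GL (Fin m ⊕ Fin m) F).val *ᵥ v - v) = 0
    rw [map_sub, C.self, h2]
    linear_combination h6 - Q v * h2

/-- Every allowed type is realised. -/
theorem exists_rep {k : ℕ} (hm : m = k + 1) (r : ℕ) (hr : r ≤ m) (hr0 : r ≠ 0) (alt : Prop)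
    (hp : alt → Even r)
    (hex : r = m → alt → ∃ A : Submodule F (Fin m ⊕ Fin m → F), (∀ v ∈ A, Q v = 0) ∧ finrank F A = m) :
    ∃ g : ↥(Cfsg.isometryGroup F Q), orderOf g = 2 ∧ rk C g = r ∧ (Alt C g ↔ alt) := by
  obtain ⟨a, ha, har, haa⟩ := Cfsg.Agent.S2593.exists_rep (F := F) r hr hr0 alt hp
  have h2 : (2 : F) = 0 := CharTwo.two_eq_zero
  have hι : Fintype.card (Fin m ⊕ Fin m) = 2 * (k + 1) := by simp; omega
  set B := Symp.spB m F
  have haa1 : a * a = 1 := by rw [← pow_two, ← ha, pow_orderOf_eq_one]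
  have hMM : (a : Matrix (Fin m ⊕ Fin m) (Fin m ⊕ Fin m) F) * a = 1 := by
    rw [← Submonoid.coe_mul, haa1, Submonoid.coe_one]
  set x : GL (Fin m ⊕ Fin m) F := toGL a.1 with hxdef
  have hxv : x.val = a.1 := toGL_val hMM
  have hxB : ∀ u v, B (x.val *ᵥ u) (x.val *ᵥ v) = B u v := fun u v => by
    rw [hxv]; exact (Symp.mem_symplecticGroup_iff _).1 a.2 u v
  have hx2 : x ^ 2 = 1 := Units.ext (by rw [Units.val_pow_eq_pow_val, hxv, sq, hMM, Units.val_one])
  obtain ⟨Q', hQ'p, hQ'x⟩ := Cfsg.Agent.S2585.result a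
  have C' : Space (⇑Q') B := ⟨fun c v => by rw [QuadraticMap.map_smul, smul_eq_mul, sq],
    fun u v => by rw [hQ'p]; exact (Symp.spB_apply m F u v).symm, C.nondeg⟩
  obtain ⟨a0, ha0⟩ := exists_tr C h2 C'
  have hax : ∀ v, tr Q B a0 (x.val *ᵥ v) = tr Q B a0 v := fun v => by
    rw [ha0, hxv]; exact hQ'x v
  obtain ⟨c, hc, hcx⟩ : ∃ c, InJ (Q c) ∧ ∀ v, tr Q B c (x.val *ᵥ v) = tr Q B c v := by
    by_cases hJ : InJ (Q a0)
    · exact ⟨a0, hJ, hax⟩
    by_cases hns : ∃ b, x.val *ᵥ b = b ∧ tr Q B a0 b ≠ 0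
    · obtain ⟨b, hb, hb0⟩ := hns
      obtain ⟨s, hs⟩ := exists_sqrt_two h2 (Q a0 * (tr Q B a0 b)⁻¹)
      have hsb : tr Q B a0 (s • b) = Q a0 := by
        rw [(tr_space C h2 a0).smul, hs, mul_assoc, inv_mul_cancel₀ hb0, mul_one]
      refine ⟨a0 + s • b, (Cfsg.Agent.S5983.inJ_iff_count C h2 hι).mpr ?_, fun v => ?_⟩
      · have h1 := count_flip C h2 (k := 2 * k + 1) (by omega) hJ
        have h3 := count_flip (tr_space C h2 a0) h2 (k := 2 * k + 1) (by omega)
          (hsb.symm ▸ hJ : ¬ InJ (tr Q B a0 (s • b)))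
        rw [tr_tr h2] at h3
        exact_mod_cast (show (Nat.card {v // tr Q B (a0 + s • b) v = 0} : ℤ) =
          Nat.card {v // Q v = 0} by linear_combination h3 - h1)
      · have h1 : B (s • b) (x.val *ᵥ v) = B (s • b) v := by
          conv_lhs => rw [show s • b = x.val *ᵥ (s • b) by rw [Matrix.mulVec_smul, hb]]
          exact hxB _ _
        rw [← tr_tr h2]
        show tr Q B a0 _ + _ = tr Q B a0 v + _
        rw [hax, h1]
    exfalso
    push Not at hns
    have CΦ := tr_space C h2 a0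
    have hfix : ∀ v ∈ fixSpace x, tr Q B a0 v = 0 := fun v hv => hns v (mem_fixSpace.mp hv)
    have hxx : x * x = 1 := by rw [← sq, hx2]
    obtain ⟨hA, hrange⟩ := Cfsg.Lib.H3.isHalf_fixSpace CΦ h2 hxx (fun v hv => hns v hv)
    have hhalf := hA.2
    simp only [Fintype.card_sum, Fintype.card_fin] at hhalf
    have hrm : r = m := by
      have e : finrank F (LinearMap.range (Matrix.toLin' (x.val - 1))) = r := by
        rw [hxv]; exact har
      rw [hrange] at e
      omega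
    have halt : alt := haa.1 fun v => by
      have h6 := hfix _ (mem_fixSpace.2 (show x.val *ᵥ (v + x.val *ᵥ v) = v + x.val *ᵥ v by
        rw [Matrix.mulVec_add, ← mul_act, hxx, Units.val_one, Matrix.one_mulVec, add_comm]))
      rw [CΦ.add, hax] at h6
      rw [nil_apply, ← hxv]
      show B v (x.val *ᵥ v - v) = 0
      rw [map_sub, CΦ.self, h2]
      linear_combination h6 - tr Q B a0 v * h2
    obtain ⟨A, hAts, hAd⟩ := hex hrm halt
    refine hJ ((Cfsg.Agent.S5983.inJ_iff_count C h2 hι).mpr ?_)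
    have e1 := ts_half_count C hAts (k := k) (by omega) hι
    have e2 := ts_half_count CΦ hfix (k := k) (by omega) hι
    exact_mod_cast e2.trans e1.symm
  obtain ⟨g, hgB, hgQ⟩ := exists_trans C h2 hc
  have hiso : g * x * g⁻¹ ∈ Cfsg.isometryGroup F Q := mem_iso.mpr fun v => by
    rw [mul_act, mul_act, hgQ, hcx, ← hgQ, act_inv]
  refine ⟨⟨_, hiso⟩, ?_⟩
  set c' : ↥(Matrix.symplecticGroup (Fin m) F) :=
    ⟨g.val, (Symp.mem_symplecticGroup_iff _).2 hgB⟩
  have hconj : IsConj a (toSp C ⟨_, hiso⟩) := by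
    refine isConj_iff.2 ⟨c', mul_inv_eq_iff_eq_mul.2 (Subtype.ext ?_)⟩
    show g.val * a.1 = (g * x * g⁻¹).val * g.val
    rw [← hxv, ← Units.val_mul, ← Units.val_mul, inv_mul_cancel_right]
  obtain ⟨h1, h3⟩ := Cfsg.Agent.S2593.invariants hconj
  refine ⟨?_, h1.symm.trans har, h3.symm.trans haa⟩
  have hinj : Function.Injective (toSp C) := fun u v h =>
    Subtype.ext (Units.ext (congrArg Subtype.val h))
  rw [← orderOf_injective (toSp C) hinj]
  obtain ⟨d, hd⟩ := isConj_iff.1 hconj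
  rw [← hd, ← MulAut.conj_apply, MulEquiv.orderOf_eq, ha]

/-- Type indices. -/
def kk {m₁ m₂ : ℕ} : Fin m₁ ⊕ Fin m₂ → ℕ := Sum.elim (fun i => i.1 + 1) fun i => 2 * (i.1 + 1)

include C

theorem facts_of_invol {g : ↥(Cfsg.isometryGroup F Q)} (hg : orderOf g = 2) :
    1 ≤ rk C g ∧ rk C g ≤ m ∧ (Alt C g → Even (rk C g)) := by
  have hgg := toSp_sq C hg
  obtain ⟨hN2, hadj⟩ := nil_props (toSp C g) hgg
  refine ⟨Nat.one_le_iff_ne_zero.2 fun h0 => ?_, ?_, fun ha =>
    SympInv.rank_even (Symp.spB_nondegenerate m F) _ hadj ha⟩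
  · have h1 : LinearMap.range (nil (toSp C g)) = ⊥ := Submodule.finrank_eq_zero.1 h0
    have : g = 1 := Subtype.ext (gl_ext fun v => by
      have h3 : nil (toSp C g) v = 0 := (Submodule.mem_bot F).1 (h1 ▸ LinearMap.mem_range_self _ v)
      rw [nil_apply, sub_eq_zero] at h3
      rw [Subgroup.coe_one, Units.val_one, Matrix.one_mulVec]
      exact h3)
    rw [this, orderOf_one] at hg
    omega
  · obtain ⟨-, hsum, hle⟩ := Cfsg.Lib.H3.invol_facts CharTwo.two_eq_zero
      (congrArg Subtype.val (sq_eq_one hg) : (g : GL (Fin m ⊕ Fin m) F) * g = 1)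
    simp only [Fintype.card_sum, Fintype.card_fin] at hsum
    rw [rk_eq]
    omega

theorem pl_of_excl {g : ↥(Cfsg.isometryGroup F Q)} (hr : rk C g = m) (ha : Alt C g) :
    ∃ A : Submodule F (Fin m ⊕ Fin m → F), (∀ v ∈ A, Q v = 0) ∧ finrank F A = m :=
  ⟨_, half_of_excl C hr ha⟩

/-- Classes of involutions of the full isometry group. -/
theorem count_iso {k : ℕ} (hm : m = k + 1) (a : ℕ)
    (hplus : (∃ A : Submodule F (Fin m ⊕ Fin m → F), (∀ v ∈ A, Q v = 0) ∧ finrank F A = m) →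
      a = m / 2)
    (hminus : (¬ ∃ A : Submodule F (Fin m ⊕ Fin m → F), (∀ v ∈ A, Q v = 0) ∧ finrank F A = m) →
      a = (m - 1) / 2) :
    Nat.card {K : ConjClasses ↥(Cfsg.isometryGroup F Q) //
      ∃ g : ↥(Cfsg.isometryGroup F Q), ConjClasses.mk g = K ∧ orderOf g = 2} = m + a := by
  classical
  let alt : Fin m ⊕ Fin a → Prop := fun i => i.isRight = true
  have hcase : a = m / 2 ∨ a = (m - 1) / 2 := by
    by_cases hp : ∃ A : Submodule F (Fin m ⊕ Fin m → F), (∀ v ∈ A, Q v = 0) ∧ finrank F A = m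
    exacts [Or.inl (hplus hp), Or.inr (hminus hp)]
  have hR : ∀ i, ∃ g : ↥(Cfsg.isometryGroup F Q), orderOf g = 2 ∧ rk C g = kk i ∧ (Alt C g ↔ alt i) := by
    rintro (i | i) <;> have := i.2
    · exact exists_rep C hm _ (by simp [kk]) (by simp [kk]) _ (fun h => by simp [alt] at h)
        (fun _ h => by simp [alt] at h)
    · refine exists_rep C hm _ (by simp [kk] <;> omega) (by simp [kk]) _
        (fun _ => ⟨i.1 + 1, by simp [kk, two_mul]⟩) fun h _ => ?_
      by_contra hn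
      simp [kk] at h
      have := hminus hn
      omega
  choose R hR2 hRk hRa using hR
  rw [show m + a = Nat.card (Fin m ⊕ Fin a) by simp]
  refine (Nat.card_eq_of_bijective (fun i => ⟨ConjClasses.mk (R i), R i, rfl, hR2 i⟩) ⟨fun i j h => ?_, ?_⟩).symm
  · obtain ⟨h1, h3⟩ := (isConj_iff_invariants C hm (hR2 i) (hR2 j)).1
      (ConjClasses.mk_eq_mk_iff_isConj.1 (congrArg Subtype.val h))
    rw [hRk, hRk] at h1
    rw [hRa, hRa] at h3
    rcases i with i | i <;> rcases j with j | j <;> simp [kk, alt] at h1 h3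
    · exact congrArg Sum.inl (Fin.ext h1)
    · exact congrArg Sum.inr (Fin.ext h1)
  · rintro ⟨K, g, rfl, hg⟩
    obtain ⟨h1, hle, hev⟩ := facts_of_invol C hg
    by_cases ha : Alt C g
    · obtain ⟨j, hj⟩ := hev ha
      have hja : j - 1 < a := by
        by_cases hex : rk C g = m
        · have := hplus (pl_of_excl C hex ha)
          omega
        · rcases hcase with h | h <;> omega
      refine ⟨Sum.inr ⟨j - 1, hja⟩, Subtype.ext (ConjClasses.mk_eq_mk_iff_isConj.2
        ((isConj_iff_invariants C hm (hR2 _) hg).2 ⟨?_, ?_⟩))⟩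
      · rw [hRk]; simp [kk]; omega
      · rw [hRa]; exact iff_of_true rfl ha
    · refine ⟨Sum.inl ⟨rk C g - 1, by omega⟩, Subtype.ext (ConjClasses.mk_eq_mk_iff_isConj.2
        ((isConj_iff_invariants C hm (hR2 _) hg).2 ⟨?_, ?_⟩))⟩
      · rw [hRk]; simp [kk]; omega
      · rw [hRa]; exact iff_of_false (by simp [alt]) ha

/-- The centraliser of an exceptional involution lies in `Ω`. -/
theorem comm_mem_omega (h : Fintype.card F ≠ 2 ∨ Fintype.card (Fin m ⊕ Fin m) ≠ 4) (hm : 1 ≤ m)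
    {t : ↥(Cfsg.isometryGroup F Q)} (hr : rk C t = m) (ha : Alt C t)
    {g : ↥(Cfsg.isometryGroup F Q)} (hg : g * t * g⁻¹ = t) :
    g ∈ commutator ↥(Cfsg.isometryGroup F Q) := by
  have h2 : (2 : F) = 0 := CharTwo.two_eq_zero
  have hn : 2 ≤ Fintype.card (Fin m ⊕ Fin m) := by simp; omega
  obtain ⟨δ, hδ, hiff⟩ := Cfsg.Lib.H3.omega_char_two C h2 hn h
  set U := LinearMap.range (Matrix.toLin' ((t : GL (Fin m ⊕ Fin m) F).val - 1)) with hU
  have hUr : finrank F U = m := hr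
  have hUh : IsHalf Q U := by
    obtain ⟨h1, -⟩ := half_of_excl C hr ha
    refine ⟨?_, by simp; omega⟩
    intro v hv
    exact h1 v hv
  have key : ∀ g : ↥(Cfsg.isometryGroup F Q),
      (δ g = 1 ∧ finrank F (U ⊓ img (g : GL (Fin m ⊕ Fin m) F) U : Submodule F (Fin m ⊕ Fin m → F)) % 2 = m % 2) ∨
      (δ g = -1 ∧ finrank F (U ⊓ img (g : GL (Fin m ⊕ Fin m) F) U : Submodule F (Fin m ⊕ Fin m → F)) % 2 = (m + 1) % 2) := by
    refine refl_induction C h _ ?_ ?_
    · left
      refine ⟨map_one δ, ?_⟩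
      rw [OneMemClass.coe_one, img_one, inf_idem, hUr]
    · intro v hv g ih
      have hf := parity_flip C hUh (hUh.img g.2) hv
      rw [← img_mul] at hf
      rw [Subgroup.coe_mul, rI_val C hv, map_mul, hδ]
      rcases ih with ⟨hd, hp⟩ | ⟨hd, hp⟩
      · right; rw [hd]; exact ⟨mul_one _, by omega⟩
      · left; rw [hd]; exact ⟨by norm_num, by omega⟩
  rcases key g with ⟨hd, -⟩ | ⟨-, hp⟩
  · exact (hiff g).2 hd
  · rw [Cfsg.Lib.H3.img_range_conj (congrArg Subtype.val hg), inf_idem, hUr] at hp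
    omega

/-- Classes of involutions of `Ω`. -/
theorem count_omega (h : Fintype.card F ≠ 2 ∨ Fintype.card (Fin m ⊕ Fin m) ≠ 4) {k : ℕ}
    (hm : m = k + 1) (a e : ℕ)
    (hplus : (∃ A : Submodule F (Fin m ⊕ Fin m → F), (∀ v ∈ A, Q v = 0) ∧ finrank F A = m) →
      a = m / 2 ∧ e = if Even m then 1 else 0)
    (hminus : (¬ ∃ A : Submodule F (Fin m ⊕ Fin m → F), (∀ v ∈ A, Q v = 0) ∧ finrank F A = m) →
      a = (m - 1) / 2 ∧ e = 0) :
    Nat.card {K : ConjClasses ↥(Cfsg.Omega F Q) //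
      ∃ g : ↥(Cfsg.Omega F Q), ConjClasses.mk g = K ∧ orderOf g = 2} = m / 2 + a + e := by
  classical
  have h2 : (2 : F) = 0 := CharTwo.two_eq_zero
  have hn : 2 ≤ Fintype.card (Fin m ⊕ Fin m) := by simp; omega
  obtain ⟨δ, hδ, hiff⟩ := Cfsg.Lib.H3.omega_char_two C h2 hn h
  have hmemΩ : ∀ g : ↥(Cfsg.isometryGroup F Q), g ∈ Cfsg.Omega F Q ↔ Even (rk C g) := fun g => by
    rw [rk_eq]; exact Cfsg.Lib.H3.mem_omega_iff_even_rank C h2 hn h g
  obtain ⟨v0, hv0⟩ := Cfsg.Lib.H3.exists_nonsing_vec C (by omega)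
  let alt : Fin (m / 2) ⊕ Fin a → Prop := fun i => i.isRight = true
  let r : Fin (m / 2) ⊕ Fin a → ℕ := Sum.elim (fun i => 2 * (i.1 + 1)) fun i => 2 * (i.1 + 1)
  have hR : ∀ i, ∃ g : ↥(Cfsg.Omega F Q), orderOf g = 2 ∧ rk C g.1 = r i ∧ (Alt C g.1 ↔ alt i) := by
    intro i
    obtain ⟨g, hg, hgr, hga⟩ : ∃ g : ↥(Cfsg.isometryGroup F Q),
        orderOf g = 2 ∧ rk C g = r i ∧ (Alt C g ↔ alt i) := by
      rcases i with i | i <;> have := i.2
      · exact exists_rep C hm _ (by simp [r]; omega) (by simp [r]) _ (fun h => by simp [alt] at h)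
          (fun _ h => by simp [alt] at h)
      · have ham : a ≤ m / 2 := by
          by_cases hp : ∃ A : Submodule F (Fin m ⊕ Fin m → F), (∀ v ∈ A, Q v = 0) ∧ finrank F A = m
          · exact (hplus hp).1.le
          · have := (hminus hp).1; omega
        refine exists_rep C hm _ (by simp [r]; omega) (by simp [r]) _
          (fun _ => ⟨i.1 + 1, by simp [r, two_mul]⟩) fun h _ => ?_
        by_contra hn
        simp [r] at h
        have := (hminus hn).1
        omega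
    have hgO : g ∈ Cfsg.Omega F Q := (hmemΩ g).2 (by
      rw [hgr]; rcases i with i | i <;> exact ⟨i.1 + 1, by simp [r, two_mul]⟩)
    exact ⟨⟨g, hgO⟩, by rw [← hg, ← orderOf_injective (Cfsg.Omega F Q).subtype
      (Subgroup.subtype_injective _)]; rfl, hgr, hga⟩
  choose R hR2 hRk hRa using hR
  have hord : ∀ g : ↥(Cfsg.Omega F Q), orderOf g.1 = orderOf g := fun g =>
    orderOf_injective (Cfsg.Omega F Q).subtype (Subgroup.subtype_injective _) g
  -- the extra class
  have hE : ∀ _ : Fin e, ∃ g : ↥(Cfsg.Omega F Q), orderOf g = 2 ∧ rk C g.1 = m ∧ Alt C g.1 ∧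
      ∀ i, ¬ IsConj (R i) g := by
    intro j
    have hpl : ∃ A : Submodule F (Fin m ⊕ Fin m → F), (∀ v ∈ A, Q v = 0) ∧ finrank F A = m := by
      by_contra hp
      have := (hminus hp).2
      have := j.2
      omega
    obtain ⟨ha, he⟩ := hplus hpl
    have hev : Even m := by
      by_contra hodd
      rw [if_neg hodd] at he
      have := j.2
      omega
    obtain ⟨l, hl⟩ := hev
    let i0 : Fin (m / 2) ⊕ Fin a := Sum.inr ⟨l - 1, by omega⟩
    set t := (R i0).1 with ht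
    set s := rI C v0 hv0 * t * (rI C v0 hv0)⁻¹ with hs
    have hconj : IsConj t s := isConj_iff.2 ⟨_, rfl⟩
    have ht2 : orderOf t = 2 := by rw [ht, hord, hR2]
    have hs2 : orderOf s = 2 := by rw [hs, ← MulAut.conj_apply, MulEquiv.orderOf_eq, ht2]
    obtain ⟨e1, e2⟩ := (isConj_iff_invariants C hm ht2 hs2).1 hconj
    have hrm : rk C t = m := by rw [ht, hRk]; simp [r, i0]; omega
    have halt : Alt C t := (hRa i0).2 rfl
    have hsO : s ∈ Cfsg.Omega F Q := (hmemΩ s).2 (by rw [← e1, hrm]; exact ⟨l, hl⟩)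
    refine ⟨⟨s, hsO⟩, by rw [← hord]; exact hs2, e1.symm.trans hrm, e2.1 halt, fun i hi => ?_⟩
    have hi' := (Cfsg.Omega F Q).subtype.map_isConj hi
    obtain ⟨f1, f3⟩ := (isConj_iff_invariants C hm ((hord _).trans (hR2 _)) hs2).1 hi'
    rw [hRk, ← e1, hrm] at f1
    rw [hRa, ← e2] at f3
    have hieq : i = i0 := by
      rcases i with i | i
      · exact absurd (f3.2 halt) (by simp [alt])
      · simp [r] at f1
        exact congrArg Sum.inr (Fin.ext (by simp; omega))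
    subst hieq
    obtain ⟨g, hg⟩ := isConj_iff.1 hi
    have hg' : g.1 * t * g.1⁻¹ = s := congrArg Subtype.val hg
    have hc : ((rI C v0 hv0)⁻¹ * g.1) * t * ((rI C v0 hv0)⁻¹ * g.1)⁻¹ = t := by
      rw [show ((rI C v0 hv0)⁻¹ * g.1) * t * ((rI C v0 hv0)⁻¹ * g.1)⁻¹ =
        (rI C v0 hv0)⁻¹ * (g.1 * t * g.1⁻¹) * rI C v0 hv0 by group, hg', hs]
      group
    have hmem := (hiff _).1 (comm_mem_omega C h (by omega) hrm halt hc)
    rw [map_mul, map_inv, hδ, (hiff _).1 g.2] at hmem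
    exact absurd hmem (by decide)
  choose E hE2 hEr hEa hEn using hE
  rw [show m / 2 + a + e = Nat.card ((Fin (m / 2) ⊕ Fin a) ⊕ Fin e) by simp]
  refine (Nat.card_eq_of_bijective (fun i => Sum.elim
    (fun i => ⟨ConjClasses.mk (R i), R i, rfl, hR2 i⟩) (fun j => ⟨ConjClasses.mk (E j), E j, rfl, hE2 j⟩) i)
    ⟨fun i j hij => ?_, ?_⟩).symm
  · have hij' := congrArg Subtype.val hij
    rcases i with i | i <;> rcases j with j | j <;> simp only [Sum.elim_inl, Sum.elim_inr] at hij'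
    · have hc := (Cfsg.Omega F Q).subtype.map_isConj (ConjClasses.mk_eq_mk_iff_isConj.1 hij')
      obtain ⟨h1, h3⟩ := (isConj_iff_invariants C hm ((hord _).trans (hR2 _)) ((hord _).trans (hR2 _))).1 hc
      rw [hRk, hRk] at h1
      rw [hRa, hRa] at h3
      rcases i with i | i <;> rcases j with j | j <;> simp [r, alt] at h1 h3
      · exact congrArg Sum.inl (congrArg Sum.inl (Fin.ext h1))
      · exact congrArg Sum.inl (congrArg Sum.inr (Fin.ext h1))
    · exact absurd (ConjClasses.mk_eq_mk_iff_isConj.1 hij') (hEn j i)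
    · exact absurd (ConjClasses.mk_eq_mk_iff_isConj.1 hij').symm (hEn i j)
    · have he1 : e ≤ 1 := by
        by_cases hp : ∃ A : Submodule F (Fin m ⊕ Fin m → F), (∀ v ∈ A, Q v = 0) ∧ finrank F A = m
        · rw [(hplus hp).2]; split <;> omega
        · have := (hminus hp).2; omega
      refine congrArg Sum.inr (Fin.ext ?_)
      have := i.2; have := j.2; omega
  · rintro ⟨K, g, rfl, hg⟩
    have hg2 : orderOf g.1 = 2 := by rw [hord, hg]
    obtain ⟨h1, hle, hev⟩ := facts_of_invol C hg2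
    obtain ⟨l, hl⟩ := (hmemΩ g.1).1 g.2
    obtain ⟨i, hri, hai⟩ : ∃ i, rk C g.1 = r i ∧ (Alt C g.1 ↔ alt i) := by
      by_cases ha : Alt C g.1
      · have hla : l - 1 < a := by
          by_cases hex : rk C g.1 = m
          · have := (hplus (pl_of_excl C hex ha)).1
            omega
          · by_cases hp : ∃ A : Submodule F (Fin m ⊕ Fin m → F), (∀ v ∈ A, Q v = 0) ∧ finrank F A = m
            · have := (hplus hp).1; omega
            · have := (hminus hp).1; omega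
        exact ⟨Sum.inr ⟨l - 1, hla⟩, by simp [r]; omega, iff_of_true ha rfl⟩
      · exact ⟨Sum.inl ⟨l - 1, by omega⟩, by simp [r]; omega, iff_of_false ha (by simp [alt])⟩
    have hconjO : IsConj (R i).1 g.1 :=
      (isConj_iff_invariants C hm ((hord _).trans (hR2 _)) hg2).2
        ⟨(hRk i).trans hri.symm, (hRa i).trans hai.symm⟩
    by_cases hex : rk C g.1 = m ∧ Alt C g.1
    · obtain ⟨ha', he⟩ := hplus (pl_of_excl C hex.1 hex.2)
      have hev' : Even m := hex.1 ▸ ⟨l, hl⟩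
      rw [if_pos hev'] at he
      let j0 : Fin e := ⟨0, by omega⟩
      have hO : IsConj (E j0).1 g.1 := (isConj_iff_invariants C hm ((hord _).trans (hE2 _)) hg2).2
        ⟨(hEr j0).trans hex.1.symm, iff_of_true (hEa j0) hex.2⟩
      obtain ⟨x, hx⟩ := isConj_iff.1 hconjO
      obtain ⟨y, hy⟩ := isConj_iff.1 hO
      rcases Int.units_eq_one_or (δ x) with hdx | hdx
      · refine ⟨Sum.inl i, Subtype.ext (ConjClasses.mk_eq_mk_iff_isConj.2 ?_)⟩
        exact isConj_iff.2 ⟨⟨x, (hiff x).2 hdx⟩, Subtype.ext hx⟩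
      rcases Int.units_eq_one_or (δ y) with hdy | hdy
      · refine ⟨Sum.inr j0, Subtype.ext (ConjClasses.mk_eq_mk_iff_isConj.2 ?_)⟩
        exact isConj_iff.2 ⟨⟨y, (hiff y).2 hdy⟩, Subtype.ext hy⟩
      exfalso
      refine hEn j0 i (isConj_iff.2 ⟨⟨y⁻¹ * x, (hiff _).2 (by rw [map_mul, map_inv, hdx, hdy]; decide)⟩,
        Subtype.ext ?_⟩)
      show y⁻¹ * x * (R i).1 * (y⁻¹ * x)⁻¹ = (E j0).1
      rw [show y⁻¹ * x * (R i).1 * (y⁻¹ * x)⁻¹ = y⁻¹ * (x * (R i).1 * x⁻¹) * y by group, hx, ← hy]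
      group
    · obtain ⟨v, hgv, hv⟩ := exists_fixed_of_not_excl C hg2 hex
      obtain ⟨x, hxO, hx⟩ := Cfsg.Lib.H3.exists_omega_conj C h2 hn h hconjO.symm hv hgv
      exact ⟨Sum.inl i, Subtype.ext (ConjClasses.mk_eq_mk_iff_isConj.2
        (isConj_iff.2 ⟨⟨x, hxO⟩, Subtype.ext hx⟩).symm)⟩

end Cfsg.Lib.Linear.OrthInvol
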