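import Cfsg.Agent.Lib.Linear.OrthSpinor

/-!
# Orthogonal sums and their `Ω`
-/

set_option autoImplicit false

namespace Cfsg.Lib.Linear.Orth

open Module
open scoped Matrix commutatorElement

variable {ι κ : Type} [Fintype ι] [DecidableEq ι] [Fintype κ] [DecidableEq κ] {F : Type*} [Field F]

/-- The orthogonal sum of two forms. -/
def sumQ (Q : (ι → F) → F) (R : (κ → F) → F) (v : ι ⊕ κ → F) : F :=
  Q (v ∘ Sum.inl) + R (v ∘ Sum.inr)

/-- Its polar form. -/
def sumB (B : LinearMap.BilinForm F (ι → F)) (D : LinearMap.BilinForm F (κ → F)) :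
    LinearMap.BilinForm F (ι ⊕ κ → F) :=
  LinearMap.mk₂ F (fun u v => B (u ∘ Sum.inl) (v ∘ Sum.inl) + D (u ∘ Sum.inr) (v ∘ Sum.inr))
    (fun a b c => by simp [Pi.add_comp]; ring) (fun c a b => by simp [Pi.smul_comp]; ring)
    (fun a b c => by simp [Pi.add_comp]; ring) (fun c a b => by simp [Pi.smul_comp]; ring)

variable {Q : (ι → F) → F} {R : (κ → F) → F} {B : LinearMap.BilinForm F (ι → F)}
  {D : LinearMap.BilinForm F (κ → F)}

theorem Space.sum (C : Space Q B) (C' : Space R D) : Space (sumQ Q R) (sumB B D) := by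
  refine ⟨fun c v => ?_, fun u v => ?_, fun v hv => ?_⟩
  · simp [sumQ, Pi.smul_comp, C.smul, C'.smul]; ring
  · simp only [sumQ, sumB, QuadraticMap.polar, LinearMap.mk₂_apply, Pi.add_comp, C.add, C'.add]
    ring
  · have h1 : v ∘ Sum.inl = 0 := C.nondeg _ fun u => by
      simpa [sumB] using hv (Sum.elim u 0)
    have h2 : v ∘ Sum.inr = 0 := C'.nondeg _ fun u => by
      simpa [sumB] using hv (Sum.elim 0 u)
    funext i
    rcases i with i | i
    · exact congrFun h1 i
    · exact congrFun h2 i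

/-- Acting on the first summand. -/
def inlGL (κ : Type) [Fintype κ] [DecidableEq κ] : GL ι F →* GL (ι ⊕ κ) F :=
  Units.map
    { toFun := fun M => Matrix.fromBlocks M 0 0 1
      map_one' := Matrix.fromBlocks_one
      map_mul' := fun M N => by simp [Matrix.fromBlocks_multiply] }

/-- Acting on the second summand. -/
def inrGL (ι : Type) [Fintype ι] [DecidableEq ι] : GL κ F →* GL (ι ⊕ κ) F :=
  Units.map
    { toFun := fun M => Matrix.fromBlocks 1 0 0 M
      map_one' := Matrix.fromBlocks_one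
      map_mul' := fun M N => by simp [Matrix.fromBlocks_multiply] }

theorem inlGL_val (g : GL ι F) : (inlGL κ g).val = Matrix.fromBlocks g.val 0 0 1 := rfl

theorem inrGL_val (g : GL κ F) : (inrGL ι g).val = Matrix.fromBlocks 1 0 0 g.val := rfl

theorem inl_comm_inr (g : GL ι F) (h : GL κ F) : inlGL κ g * inrGL ι h = inrGL ι h * inlGL κ g := by
  refine Units.ext ?_
  rw [Units.val_mul, Units.val_mul, inlGL_val, inrGL_val]
  simp [Matrix.fromBlocks_multiply]

theorem inlGL_mem {g : GL ι F} (hg : g ∈ isometryGroup F Q) :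
    inlGL κ g ∈ isometryGroup F (sumQ Q R) := mem_iso.mpr fun v => by
  rw [sumQ, sumQ, inlGL_val, Matrix.fromBlocks_mulVec]
  simp [mem_iso.mp hg]

theorem inrGL_mem {g : GL κ F} (hg : g ∈ isometryGroup F R) :
    inrGL ι g ∈ isometryGroup F (sumQ Q R) := mem_iso.mpr fun v => by
  rw [sumQ, sumQ, inrGL_val, Matrix.fromBlocks_mulVec]
  simp [mem_iso.mp hg]

/-- The isometries of the first summand. -/
def inlI (Q : (ι → F) → F) (R : (κ → F) → F) : ↥(isometryGroup F Q) →* ↥(isometryGroup F (sumQ Q R)) :=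
  ((inlGL κ).comp (isometryGroup F Q).subtype).codRestrict _ fun g => inlGL_mem g.2

/-- The isometries of the second summand. -/
def inrI (Q : (ι → F) → F) (R : (κ → F) → F) : ↥(isometryGroup F R) →* ↥(isometryGroup F (sumQ Q R)) :=
  ((inrGL ι).comp (isometryGroup F R).subtype).codRestrict _ fun g => inrGL_mem g.2

theorem inlI_val (g : ↥(isometryGroup F Q)) :
    ((inlI Q R g : ↥(isometryGroup F (sumQ Q R))) : GL (ι ⊕ κ) F).val =
      Matrix.fromBlocks (g : GL ι F).val 0 0 1 := rfl

theorem inrI_val (g : ↥(isometryGroup F R)) :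
    ((inrI Q R g : ↥(isometryGroup F (sumQ Q R))) : GL (ι ⊕ κ) F).val =
      Matrix.fromBlocks 1 0 0 (g : GL κ F).val := rfl

theorem inlI_inrI (g : ↥(isometryGroup F Q)) (h : ↥(isometryGroup F R)) :
    ((inlI Q R g * inrI Q R h : ↥(isometryGroup F (sumQ Q R))) : GL (ι ⊕ κ) F).val =
      Matrix.fromBlocks (g : GL ι F).val 0 0 (h : GL κ F).val := by
  show (inlGL κ (g : GL ι F) * inrGL ι (h : GL κ F)).val = _
  rw [Units.val_mul, inlGL_val, inrGL_val]
  simp [Matrix.fromBlocks_multiply]

theorem map_mem_commutator {G H : Type*} [Group G] [Group H] (f : G →* H) {x : G}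
    (hx : x ∈ commutator G) : f x ∈ commutator H := by
  have h : (commutator G).map f ≤ commutator H := by
    rw [_root_.commutator_def, Subgroup.map_commutator, _root_.commutator_def]
    exact Subgroup.commutator_mono le_top le_top
  exact h (Subgroup.mem_map_of_mem f hx)

theorem inlI_rI (C : Space Q B) (C' : Space R D) {v : ι → F} (hv : Q v ≠ 0)
    (hv' : sumQ Q R (Sum.elim v 0) ≠ 0) :
    inlI Q R (rI C v hv) = rI (C.sum C') (Sum.elim v 0) hv' := by
  refine Subtype.ext (gl_ext fun x => ?_)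
  show (inlGL κ (rGL Q v)).val *ᵥ x = (rGL (sumQ Q R) (Sum.elim v 0)).val *ᵥ x
  rw [rGL_act (C.sum C') hv', inlGL_val, Matrix.fromBlocks_mulVec, rGL_act C hv]
  funext i
  rcases i with i | i <;> simp [sumQ, sumB, C'.zero]

theorem inrI_rI (C : Space Q B) (C' : Space R D) {v : κ → F} (hv : R v ≠ 0)
    (hv' : sumQ Q R (Sum.elim 0 v) ≠ 0) :
    inrI Q R (rI C' v hv) = rI (C.sum C') (Sum.elim 0 v) hv' := by
  refine Subtype.ext (gl_ext fun x => ?_)
  show (inrGL ι (rGL R v)).val *ᵥ x = (rGL (sumQ Q R) (Sum.elim 0 v)).val *ᵥ x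
  rw [rGL_act (C.sum C') hv', inrGL_val, Matrix.fromBlocks_mulVec, rGL_act C' hv]
  funext i
  rcases i with i | i <;> simp [sumQ, sumB, C.zero]

theorem subsingleton_of_card_zero (hι : Fintype.card ι = 0) (g : ↥(isometryGroup F Q)) : g = 1 := by
  haveI := Fintype.card_eq_zero_iff.mp hι
  exact Subtype.ext (Units.ext (Subsingleton.elim _ _))

theorem one_ne_card_of_two (C : Space Q B) (h2 : (2 : F) = 0) : Fintype.card ι ≠ 1 := fun hι => by
  obtain ⟨a, ha⟩ := Fintype.card_eq_one_iff.mp hι
  have h0 : (Pi.single a 1 : ι → F) = 0 := C.nondeg' fun u => by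
    have hu : u = u a • (Pi.single a 1 : ι → F) := by
      funext i; rw [ha i]; simp
    rw [hu, map_smul, C.self, h2, zero_mul, smul_zero]
  simpa using congrFun h0 a

variable [Fintype F]

theorem spin_inlI (C : Space Q B) (C' : Space R D) (h2 : (2 : F) ≠ 0) (g : ↥(isometryGroup F Q)) :
    detSpin (sumQ Q R) (inlI Q R g) = detSpin Q g := by
  refine refl_induction C (Or.inl (card_ne_two h2))
    (fun g => detSpin (sumQ Q R) (inlI Q R g) = detSpin Q g) (by simp) (fun v hv g ih => ?_) g
  have hv' : sumQ Q R (Sum.elim v 0) ≠ 0 := by simpa [sumQ, C'.zero] using hv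
  rw [map_mul, map_mul, map_mul, ih, inlI_rI C C' hv hv']
  congr 1
  refine Prod.ext ((det_rI (C.sum C') hv').trans (det_rI C hv).symm) ?_
  show spin _ _ = spin _ _
  rw [spin_rI (C.sum C') h2 hv', spin_rI C h2 hv,
    show sumQ Q R (Sum.elim v 0) = Q v by simp [sumQ, C'.zero]]

/-- Membership in `Ω` is seen in the summand. -/
theorem inlI_mem_omega_iff (C : Space Q B) (C' : Space R D)
    (h : Fintype.card F ≠ 2 ∨ (Fintype.card ι ≠ 4 ∧ Fintype.card (ι ⊕ κ) ≠ 4)) (g : ↥(isometryGroup F Q)) :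
    inlI Q R g ∈ Omega F (sumQ Q R) ↔ g ∈ Omega F Q := by
  refine ⟨fun hg => ?_, fun hg => map_mem_commutator _ hg⟩
  rcases Nat.eq_zero_or_pos (Fintype.card ι) with h0 | hpos
  · rw [subsingleton_of_card_zero h0 g]; exact one_mem _
  have hsum : Fintype.card ι ≤ Fintype.card (ι ⊕ κ) := by simp
  by_cases h2 : (2 : F) = 0
  · have hι : 2 ≤ Fintype.card ι := by have := one_ne_card_of_two C h2; omega
    have hsmall : Fintype.card F ≠ 2 ∨ Fintype.card ι ≠ 4 := h.imp_right fun h => h.1
    have hbig : Fintype.card F ≠ 2 ∨ Fintype.card (ι ⊕ κ) ≠ 4 := h.imp_right fun h => h.2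
    obtain ⟨δ, hδ⟩ := exists_dickson C hsmall h2
    obtain ⟨ε, hε⟩ := exists_dickson (C.sum C') hbig h2
    have hcomp : ∀ g, ε (inlI Q R g) = δ g := by
      refine refl_induction C hsmall _ (by simp) fun v hv g ih => ?_
      have hv' : sumQ Q R (Sum.elim v 0) ≠ 0 := by simpa [sumQ, C'.zero] using hv
      rw [map_mul, map_mul, map_mul, ih, inlI_rI C C' hv hv', hδ v hv, hε _ hv']
    have hk : δ g = 1 := by
      rw [← hcomp]
      exact MonoidHom.mem_ker.mp (Abelianization.commutator_subset_ker ε hg)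
    obtain ⟨v0, -, hv0⟩ := exists_nonsing C C.ndeg_top (fun h => by
      have := congrArg (fun U : Submodule F (ι → F) => finrank F U) h
      simp [finrank_fintype_fun_eq_card] at this
      omega)
    have hsurj : Function.Surjective δ := fun x => by
      rcases Int.units_eq_one_or x with rfl | rfl
      exacts [⟨1, map_one δ⟩, ⟨_, hδ v0 hv0⟩]
    have hker : δ.ker.index = 2 := by
      rw [Subgroup.index_ker, MonoidHom.range_eq_top.mpr hsurj, Subgroup.card_top,
        Nat.card_eq_fintype_card]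
      rfl
    have hidx := (omega_two C h2 hι hsmall).1
    have heq : commutator ↥(isometryGroup F Q) = δ.ker := by
      refine Subgroup.eq_of_le_of_card_ge (Abelianization.commutator_subset_ker δ) ?_
      have e1 := (commutator ↥(isometryGroup F Q)).card_mul_index
      have e2 := δ.ker.card_mul_index
      rw [hidx] at e1; rw [hker] at e2
      omega
    show g ∈ commutator _
    rw [heq]; exact hk
  · rcases Nat.eq_or_lt_of_le (Nat.one_le_iff_ne_zero.mpr hpos.ne') with h1 | hι
    · -- one dimension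
      have hsum1 : 1 ≤ Fintype.card (ι ⊕ κ) := hpos.trans_le hsum
      have hdet : Matrix.GeneralLinearGroup.det ((g : GL ι F)) = 1 := by
        have h3 : inlI Q R g ∈ (Matrix.GeneralLinearGroup.det.comp (isometryGroup F (sumQ Q R)).subtype).ker :=
          Abelianization.commutator_subset_ker _ hg
        have h4 := congrArg Prod.fst (spin_inlI C C' h2 g)
        exact h4.symm.trans (MonoidHom.mem_ker.mp h3)
      obtain ⟨a, ha⟩ := Fintype.card_eq_one_iff.mp h1.symm
      have hg1 : g = 1 := by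
        refine Subtype.ext (Units.ext ?_)
        have hd := congrArg Units.val hdet
        rw [Matrix.GeneralLinearGroup.val_det_apply] at hd
        haveI : Subsingleton ι := ⟨fun i j => (ha i).trans (ha j).symm⟩
        rw [Matrix.det_eq_elem_of_subsingleton _ a] at hd
        ext i j
        rw [ha i, ha j]
        simpa using hd
      rw [hg1]; exact one_mem _
    · show g ∈ commutator _
      rw [(omega_odd C h2 hι).1, MonoidHom.mem_ker, ← spin_inlI C C' h2 g]
      exact MonoidHom.mem_ker.mp ((omega_odd (C.sum C') h2 (by omega)).1 ▸ hg)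

/-- Two equal summands. -/
theorem diag_mem_omega (C : Space Q B) (h : Fintype.card F ≠ 2 ∨ Fintype.card ι ≠ 2)
    (g : ↥(isometryGroup F Q)) : inlI Q Q g * inrI Q Q g ∈ Omega F (sumQ Q Q) := by
  rcases Nat.eq_zero_or_pos (Fintype.card ι) with h0 | hpos
  · rw [subsingleton_of_card_zero h0 g]; simp
  have hbig : Fintype.card F ≠ 2 ∨ Fintype.card (ι ⊕ ι) ≠ 4 :=
    h.imp_right fun h => by rw [Fintype.card_sum]; omega
  have hn : 2 ≤ Fintype.card (ι ⊕ ι) := by rw [Fintype.card_sum]; omega
  by_cases h2 : (2 : F) = 0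
  · have hidx := (omega_two (C.sum C) h2 hn hbig).1
    set σg : GL (ι ⊕ ι) F := toGL (Matrix.fromBlocks 0 1 1 0)
    have hσv : σg.val = Matrix.fromBlocks 0 1 1 0 :=
      toGL_val (M' := Matrix.fromBlocks 0 1 1 0) (by simp [Matrix.fromBlocks_multiply])
    have hσ : σg ∈ isometryGroup F (sumQ Q Q) := mem_iso.mpr fun v => by
      rw [hσv, sumQ, sumQ, Matrix.fromBlocks_mulVec]
      simp [add_comm]
    set σ : ↥(isometryGroup F (sumQ Q Q)) := ⟨σg, hσ⟩
    have hswap : ∀ k : ↥(isometryGroup F Q), σ * inlI Q Q k = inrI Q Q k * σ := fun k => by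
      refine Subtype.ext (Units.ext ?_)
      show σg.val * (inlGL ι (k : GL ι F)).val = (inrGL ι (k : GL ι F)).val * σg.val
      rw [hσv, inlGL_val, inrGL_val]
      simp [Matrix.fromBlocks_multiply]
    have hsq : inrI Q Q (g * g) ∈ commutator ↥(isometryGroup F (sumQ Q Q)) := by
      rw [map_mul]; exact Subgroup.mul_self_mem_of_index_two hidx _
    have hcomm : ⁅inlI Q Q g, σ⁆ = inlI Q Q g * inrI Q Q g⁻¹ := by
      rw [commutatorElement_def, mul_assoc (inlI Q Q g), ← map_inv (inlI Q Q) g, hswap g⁻¹]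
      group
    have e : inlI Q Q g * inrI Q Q g = ⁅inlI Q Q g, σ⁆ * inrI Q Q (g * g) := by
      rw [hcomm, mul_assoc, ← map_mul, inv_mul_cancel_left]
    rw [e]
    exact mul_mem (Subgroup.commutator_mem_commutator (Subgroup.mem_top _) (Subgroup.mem_top _)) hsq
  · refine refl_induction C (Or.inl (card_ne_two h2))
      (fun g => inlI Q Q g * inrI Q Q g ∈ Omega F (sumQ Q Q)) (by simp) (fun v hv g ih => ?_) g
    have hc : inlI Q Q g * inrI Q Q (rI C v hv) = inrI Q Q (rI C v hv) * inlI Q Q g :=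
      Subtype.ext (inl_comm_inr _ _)
    rw [map_mul, map_mul, mul_assoc, ← mul_assoc (inlI Q Q g), hc, mul_assoc, ← mul_assoc]
    refine mul_mem ?_ ih
    have hv1 : sumQ Q Q (Sum.elim v 0) ≠ 0 := by simpa [sumQ, C.zero] using hv
    have hv2 : sumQ Q Q (Sum.elim 0 v) ≠ 0 := by simpa [sumQ, C.zero] using hv
    rw [inlI_rI C C hv hv1, inrI_rI C C hv hv2]
    refine rI_mul_mem_comm _ hbig hv1 hv2 ?_
    have he : sumQ Q Q (Sum.elim v 0) = sumQ Q Q (Sum.elim 0 v) := by simp [sumQ, C.zero]
    rw [he, div_self hv2]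
    exact IsSquare.one

end Cfsg.Lib.Linear.Orth
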