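import Cfsg.Agent.Lib.Linear.OrthInvolutionClasses
import Cfsg.Agent.Lib.Linear.OrthFixPoint
import Cfsg.Agent.Lib.Linear.OrthOrderStd
import Cfsg.Agent.Lib.Linear.AutPO.PlusDiag
import Cfsg.Agent.Lib.H3.SylTwoDiag

/-!
# Split and elliptic forms in characteristic two, in symplectic coordinates
-/

set_option autoImplicit false

namespace Cfsg.Lib.Linear.OrthInvol

open Module Cfsg.Lib.Linear.Orth
open scoped Matrix

/-- An isomorphism restricts to the commutator subgroups. -/
theorem nonempty_comm_equiv {G H : Type*} [Group G] [Group H] (e : G ≃* H) :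
    Nonempty (↥(commutator G) ≃* ↥(commutator H)) := by
  have hmap : (commutator G).map e.toMonoidHom = commutator H := by
    rw [_root_.commutator_def, Subgroup.map_commutator, Subgroup.map_top_of_surjective _ e.surjective]
    rfl
  exact ⟨(e.subgroupMap (commutator G)).trans (MulEquiv.subgroupCongr hmap)⟩

variable {F : Type*} [Field F] [Fintype F] [CharP F 2]

theorem plus_space (m : ℕ) : Space (Cfsg.quadFormPlus m F) (Symp.spB m F) := by
  obtain ⟨B, C⟩ := exists_space_plus (F := F) m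
  have hB : B = Symp.spB m F := LinearMap.ext₂ fun u v => by
    rw [← C.polar, Cfsg.Agent.S5983.polar_plus_eq CharTwo.two_eq_zero]
  exact hB ▸ C

omit [Fintype F] in
theorem plus_has_half (m : ℕ) : ∃ A : Submodule F (Fin m ⊕ Fin m → F),
    (∀ v ∈ A, Cfsg.quadFormPlus m F v = 0) ∧ finrank F A = m := by
  obtain ⟨A, hA, hd⟩ := AutPO.plus_half (m := m) (F := F)
  exact ⟨A, hA, by simp at hd; omega⟩

theorem minus_coeff_ne_zero {a b : F}
    (hab : ∀ z₁ z₂ : F, z₁ ^ 2 + a * z₁ * z₂ + b * z₂ ^ 2 = 0 → z₁ = 0 ∧ z₂ = 0) : a ≠ 0 := fun ha => by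
  obtain ⟨r, hr⟩ := FiniteField.isSquare_of_char_two (ringChar.eq F 2) b
  exact one_ne_zero (hab r 1 (by
    rw [ha, hr]; linear_combination (r * r) * (CharTwo.two_eq_zero : (2 : F) = 0))).2

/-- The elliptic form is equivalent to a form with standard alternating polar form and without totally singular
halves. -/
theorem minus_model (k : ℕ) (a b : F)
    (hab : ∀ z₁ z₂ : F, z₁ ^ 2 + a * z₁ * z₂ + b * z₂ ^ 2 = 0 → z₁ = 0 ∧ z₂ = 0) :
    ∃ Q : (Fin (k + 1) ⊕ Fin (k + 1) → F) → F, Space Q (Symp.spB (k + 1) F) ∧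
      Nonempty (↥(Cfsg.isometryGroup F Q) ≃* ↥(Cfsg.isometryGroup F (Cfsg.quadFormMinus k F a b))) ∧
      ¬ ∃ A : Submodule F (Fin (k + 1) ⊕ Fin (k + 1) → F), (∀ v ∈ A, Q v = 0) ∧ finrank F A = k + 1 := by
  classical
  have h2 : (2 : F) = 0 := CharTwo.two_eq_zero
  have ha := minus_coeff_ne_zero hab
  let φ : (Fin (k + 1) ⊕ Fin (k + 1) → F) →ₗ[F] ((Fin k ⊕ Fin k) ⊕ Fin 2 → F) :=
    { toFun := fun u => Sum.elim
        (Sum.elim (fun i => u (.inl i.castSucc)) (fun i => u (.inr i.castSucc)))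
        ![u (.inl (Fin.last k)), a⁻¹ * u (.inr (Fin.last k))]
      map_add' := fun u v => by
        funext j
        rcases j with (j | j) | j
        · simp
        · simp
        · fin_cases j <;> simp [mul_add]
      map_smul' := fun c u => by
        funext j
        rcases j with (j | j) | j
        · simp
        · simp
        · fin_cases j <;> simp [mul_left_comm] }
  let Q : (Fin (k + 1) ⊕ Fin (k + 1) → F) → F := fun u => Cfsg.quadFormMinus k F a b (φ u)
  obtain ⟨B₀, C₀⟩ := exists_space_minus (F := F) k a b hab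
  have hpol : ∀ u v, QuadraticMap.polar Q u v = Symp.spB (k + 1) F u v := fun u v => by
    rw [← Cfsg.Agent.S5983.polar_plus_eq h2]
    simp only [Q, QuadraticMap.polar, map_add]
    simp [Cfsg.quadFormMinus, Cfsg.quadFormPlus, φ, Fin.sum_univ_castSucc, Finset.sum_add_distrib,
      add_mul, mul_add]
    field_simp
    linear_combination (u (.inl (Fin.last k)) * v (.inl (Fin.last k)) * a ^ 2 +
      b * u (.inr (Fin.last k)) * v (.inr (Fin.last k))) * h2
  have C : Space Q (Symp.spB (k + 1) F) := ⟨fun c v => by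
      show Cfsg.quadFormMinus k F a b (φ (c • v)) = _
      rw [map_smul, C₀.smul],
    hpol, (plus_space (F := F) (k + 1)).nondeg⟩
  have hcard : Fintype.card (Fin (k + 1) ⊕ Fin (k + 1)) = Fintype.card ((Fin k ⊕ Fin k) ⊕ Fin 2) := by
    simp; omega
  have hmap : Cfsg.Lib.H3.SylTwo.FormMap Q (Cfsg.quadFormMinus k F a b) := ⟨φ, fun v => rfl⟩
  refine ⟨Q, C, hmap.nonempty_mulEquiv C hcard, ?_⟩
  rintro ⟨A, hA, hd⟩
  obtain ⟨e, he⟩ := hmap.exists_equiv C hcard
  have hc : Nat.card {u // Q u = 0} = Nat.card {x // Cfsg.quadFormMinus k F a b x = 0} :=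
    Nat.card_congr (e.toEquiv.subtypeEquiv fun u => by
      show Q u = 0 ↔ Cfsg.quadFormMinus k F a b (e u) = 0
      rw [he])
  have h1 := ts_half_count C hA hd (by simp; omega)
  obtain ⟨hk, h0, -⟩ := counts_minus k hab
  have hq : (1 : ℤ) < Nat.card F := by exact_mod_cast Finite.one_lt_card
  rw [hc] at h1
  rcases Nat.eq_zero_or_pos k with rfl | hk0
  · rw [h0 rfl] at h1
    simp only [zero_add, pow_one, pow_zero, mul_one] at h1
    omega
  · rw [hk hk0.ne', show 2 + k - 1 = k + 1 by omega] at h1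
    have e1 : 2 * (((Nat.card F : ℤ) ^ k) * ((Nat.card F : ℤ) - 1)) = 0 := by
      rw [pow_succ] at h1
      linear_combination -h1
    rcases mul_eq_zero.1 ((mul_eq_zero.1 e1).resolve_left two_ne_zero) with h | h
    · exact absurd h (pow_ne_zero _ (by omega))
    · omega

end Cfsg.Lib.Linear.OrthInvol
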