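import Cfsg.Agent.Lib.Linear.OrthReflThree
import Cfsg.Agent.Lib.Fischer.Geometric

/-!
# The structure of the group generated by the reflections of one norm over the field with three
elements
-/

set_option autoImplicit false

namespace Cfsg.Lib.Linear.Orth

open Module
open scoped Matrix

variable {ι : Type} [Fintype ι] [DecidableEq ι]
  {Q : (ι → ZMod 3) → ZMod 3} {B : LinearMap.BilinForm (ZMod 3) (ι → ZMod 3)}

/-- A vector orthogonal to `v` which `x` does not annihilate separates the reflections. -/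
theorem rGL_ne_of_witness (C : Space Q B) {v x y : ι → ZMod 3} (hv : Q v ≠ 0) (hx : Q x ≠ 0)
    (hvy : B v y = 0) (hxy : B x y ≠ 0) : rGL Q v ≠ rGL Q x := by
  intro h
  have h1 := rGL_fix C hv hvy
  rw [h, rGL_act C hx, sub_eq_self, smul_eq_zero] at h1
  rcases h1 with h1 | h1
  · exact mul_ne_zero (inv_ne_zero hx) hxy h1
  · exact hx (h1 ▸ C.zero)

/-- The basic facts about the members of the class, as vectors. -/
theorem rGL3_commute_iff (C : Space Q B) {v w : ι → ZMod 3} (hv : Q v ≠ 0) (hvw : Q v = Q w) :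
    (Commute (rGL Q v) (rGL Q w) ↔ B v w = 0 ∨ rGL Q v = rGL Q w) ∧
      (B v w = 0 → rGL Q v ≠ rGL Q w) := by
  have hw : Q w ≠ 0 := hvw ▸ hv
  obtain ⟨hp1, hp2⟩ := rGL3_pair C hv hvw
  refine ⟨⟨fun h => ?_, ?_⟩, fun h0 => rGL_ne_of_witness C hv hw h0 ?_⟩
  · by_cases h0 : B v w = 0
    · exact Or.inl h0
    right
    have h1 := hp2 h0
    rw [h.eq, mul_assoc, rGL_sq C hv, mul_one, mul_assoc, h.eq, ← mul_assoc, rGL_sq C hw,
      one_mul] at h1
    exact h1.symm
  · rintro (h | h)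
    · exact hp1 h
    · exact h ▸ Commute.refl _
  · rw [C.self]
    exact mul_ne_zero zmod3_two_ne_zero hw

/-- Two non-orthogonal vectors of one norm have a pair of orthogonal vectors fixing the first whose
reflections move the second to an orthogonal vector. -/
theorem exists_twist (C : Space Q B) (h5 : 5 ≤ Fintype.card ι) {c : ZMod 3} (hc : c ≠ 0)
    {v x : ι → ZMod 3} (hv : Q v = c) (hx : Q x = c) (h : B v x ≠ 0)
    (hne : rGL Q v ≠ rGL Q x) :
    ∃ y y', Q y = c ∧ Q y' = c ∧ B v y = 0 ∧ B v y' = 0 ∧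
      B x ((rGL Q y').val *ᵥ ((rGL Q y).val *ᵥ x)) = 0 := by
  have hvne : Q v ≠ 0 := hv ▸ hc
  have hBvv : B v v ≠ 0 := by rw [C.self]; exact mul_ne_zero zmod3_two_ne_zero hvne
  obtain ⟨k, hk⟩ : ∃ k, k = B v x / B v v := ⟨_, rfl⟩
  obtain ⟨r, hr⟩ : ∃ r, r = x - k • v := ⟨_, rfl⟩
  have hxe : x = r + k • v := by rw [hr, sub_add_cancel]
  have hvr : B v r = 0 := by
    rw [hr, map_sub, map_smul, smul_eq_mul, hk, div_mul_cancel₀ _ hBvv, sub_self]
  have hk0 : k ≠ 0 := by rw [hk]; exact div_ne_zero h hBvv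
  have hk2 : k ^ 2 = 1 := by
    have key : ∀ a : ZMod 3, a ≠ 0 → a ^ 2 = 1 := by decide
    exact key k hk0
  have hqr : Q r = 0 := by
    have e := congrArg Q hxe
    rw [C.add, C.smul, hv, hx, map_smul, C.symm r v, hvr, smul_zero, add_zero, hk2, one_mul] at e
    linear_combination -e
  have hr0 : r ≠ 0 := fun h0 => hne (by
    rw [hxe, h0, zero_add, rGL_smul C hvne hk0])
  obtain ⟨y0, hy0⟩ := C.exists_pair hr0
  obtain ⟨s0, hs0⟩ : ∃ s0, s0 = y0 - (B v y0 / B v v) • v := ⟨_, rfl⟩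
  have hvs0 : B v s0 = 0 := by
    rw [hs0, map_sub, map_smul, smul_eq_mul, div_mul_cancel₀ _ hBvv, sub_self]
  have hrs0 : B r s0 = 1 := by
    rw [hs0, map_sub, map_smul, smul_eq_mul, C.symm r v, hvr, mul_zero, sub_zero, hy0]
  have hrr : B r r = 0 := C.self_zero hqr
  obtain ⟨s, hs⟩ : ∃ s, s = s0 + (-Q s0) • r := ⟨_, rfl⟩
  have hvs : B v s = 0 := by rw [hs, map_add, map_smul, hvs0, hvr, smul_zero, add_zero]
  have hrs : B r s = 1 := by rw [hs, map_add, map_smul, hrs0, hrr, smul_zero, add_zero]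
  have hqs : Q s = 0 := by
    rw [hs, C.add, C.smul, hqr, map_smul, C.symm s0 r, hrs0, smul_eq_mul]
    ring
  have hqp : Q (r + s) = 1 := by rw [C.add, hqr, hqs, hrs, zero_add, zero_add]
  have hqq : Q (r - s) = -1 := by
    rw [sub_eq_add_neg, C.add, C.neg, map_neg, hqr, hqs, hrs, zero_add, zero_add]
  have horth : ∀ i j : Fin 3, i ≠ j → B (![v, r + s, r - s] i) (![v, r + s, r - s] j) = 0 := by
    intro i j hij
    fin_cases i <;> fin_cases j <;>
      simp [hvr, hvs, hrr, hrs, C.self_zero hqs, C.symm s r, C.symm r v, C.symm s v] at hij ⊢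
  have hns : ∀ i : Fin 3, Q (![v, r + s, r - s] i) ≠ 0 := fun i => by
    fin_cases i <;> simp [hvne, hqp, hqq]
  obtain ⟨e, he, hqe⟩ := exists_norm_perp_family C ![v, r + s, r - s] (by omega) hns horth hc
  obtain ⟨f, hf, hqf⟩ := exists_nonsing_perp_family C zmod3_two_ne_zero
    (Fin.snoc ![v, r + s, r - s] e : Fin 4 → ι → ZMod 3) (by omega)
    (fun i => by
      refine Fin.lastCases ?_ (fun a => ?_) i
      · simpa [hqe] using hc
      · simpa only [Fin.snoc_castSucc] using hns a)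
    (fun i j => by
      refine Fin.lastCases ?_ (fun a => ?_) i <;> refine Fin.lastCases ?_ (fun b => ?_) j <;>
        intro hij
      · exact absurd rfl hij
      · simp only [Fin.snoc_castSucc, Fin.snoc_last]
        rw [C.symm]
        exact he b
      · simp only [Fin.snoc_castSucc, Fin.snoc_last]
        exact he a
      · simp only [Fin.snoc_castSucc]
        exact horth a b fun e' => hij (by rw [e']))
  have split : ∀ z, B (r + s) z = 0 → B (r - s) z = 0 → B r z = 0 ∧ B s z = 0 := by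
    intro z h1 h2
    rw [map_add, LinearMap.add_apply] at h1
    rw [map_sub, LinearMap.sub_apply] at h2
    have key : ∀ a b : ZMod 3, a + b = 0 → a - b = 0 → a = 0 ∧ b = 0 := by decide
    exact key _ _ h1 h2
  have hve : B v e = 0 := by simpa using he 0
  obtain ⟨hre, hse⟩ := split e (by simpa using he 1) (by simpa using he 2)
  have hf' : ∀ i : Fin 3, B (![v, r + s, r - s] i) f = 0 := fun i => by
    simpa only [Fin.snoc_castSucc] using hf i.castSucc
  have hvf : B v f = 0 := by simpa using hf' 0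
  obtain ⟨hrf, hsf⟩ := split f (by simpa using hf' 1) (by simpa using hf' 2)
  have hef : B e f = 0 := by simpa using hf (Fin.last 3)
  have hy : Q (s + e) = c := by rw [C.add, hqs, hqe, hse, zero_add, add_zero]
  have hvy : B v (s + e) = 0 := by rw [map_add, hvs, hve, add_zero]
  have hxy : B x (s + e) = 1 := by
    simp only [hxe, map_add, LinearMap.add_apply, map_smul, LinearMap.smul_apply, hvs, hve, hrs,
      hre, smul_zero, add_zero]
  obtain ⟨y', hy', hvy', hxy', hyy'⟩ : ∃ y', Q y' = c ∧ B v y' = 0 ∧ B x y' = 1 ∧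
      B (s + e) y' = 0 := by
    rcases zmod3_eq_or_neg hqf hc with ht | ht
    · refine ⟨s + f, by rw [C.add, hqs, ht, hsf, zero_add, add_zero],
        by rw [map_add, hvs, hvf, add_zero], ?_, ?_⟩
      · simp only [hxe, map_add, LinearMap.add_apply, map_smul, LinearMap.smul_apply, hvs, hvf, hrs,
          hrf, smul_zero, add_zero]
      · simp only [map_add, LinearMap.add_apply, C.self_zero hqs, hsf, C.symm e s, hse, hef,
          add_zero]
    · refine ⟨c • r + s + e + f, ?_, ?_, ?_, ?_⟩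
      · simp only [C.add, C.smul, map_add, map_smul, LinearMap.add_apply, LinearMap.smul_apply,
          hqr, hqs, hrs, hre, hse, hrf, hsf, hef, hqe, ht, smul_eq_mul]
        ring
      · simp only [map_add, map_smul, hvr, hvs, hve, hvf, smul_zero, add_zero]
      · simp only [hxe, map_add, LinearMap.add_apply, map_smul, LinearMap.smul_apply, hvr, hvs,
          hve, hvf, hrr, hrs, hre, hrf, smul_zero, add_zero, zero_add]
      · simp only [map_add, LinearMap.add_apply, map_smul, smul_eq_mul, C.symm s r, hrs,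
          C.symm e r, hre, C.self_zero hqs, C.symm e s, hse, hsf, hef, C.self e, hqe]
        have key : ∀ a : ZMod 3, a * 1 + 0 + 0 + 0 + (a * 0 + 0 + 2 * a + 0) = 0 := by decide
        linear_combination key c
  refine ⟨s + e, y', hy, hy', hvy, hvy', ?_⟩
  have hyne : Q (s + e) ≠ 0 := by rw [hy]; exact hc
  have hy'ne : Q y' ≠ 0 := by rw [hy']; exact hc
  have e1 : B (s + e) x = 1 := by rw [C.symm]; exact hxy
  have e2 : B y' x = 1 := by rw [C.symm]; exact hxy'
  have e3 : B y' (s + e) = 0 := by rw [C.symm]; exact hyy'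
  have key : ∀ a : ZMod 3, a ≠ 0 → a⁻¹ = a := fun a ha =>
    inv_eq_of_mul_eq_one_right ((by decide : ∀ a : ZMod 3, a ≠ 0 → a * a = 1) a ha)
  rw [rGL_act C hyne x, e1, rGL_act C hy'ne]
  simp only [hy, hy', key c hc, map_sub, map_smul, e2, e3, C.self, hx, hxy, hxy', smul_eq_mul,
    mul_one, mul_zero, sub_zero]
  ring

/-- The class of reflections of one norm has the pattern of a space of reflections. -/
theorem reflections_geometric (C : Space Q B) (h5 : 5 ≤ Fintype.card ι) {c : ZMod 3} (hc : c ≠ 0) :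
    Cfsg.Lib.Fischer.Geometric {g : ↥(Cfsg.reflectionSubgroup Q c) |
      (g : ↥(isometryGroup (ZMod 3) Q)) ∈ Cfsg.reflectionsOfNorm Q c} := by
  have hcls := reflections_class C (by omega) hc
  set D := {g : ↥(Cfsg.reflectionSubgroup Q c) |
      (g : ↥(isometryGroup (ZMod 3) Q)) ∈ Cfsg.reflectionsOfNorm Q c} with hD
  set φ : ↥(Cfsg.reflectionSubgroup Q c) →* GL ι (ZMod 3) :=
    (isometryGroup (ZMod 3) Q).subtype.comp (Cfsg.reflectionSubgroup Q c).subtype with hφdef
  have hφ : Function.Injective φ := fun g h e => Subtype.ext (Subtype.ext e)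
  have hval : ∀ g ∈ D, ∃ v, Q v = c ∧ φ g = rGL Q v :=
    fun g hg => (mem_reflectionsOfNorm_iff C hc).mp hg
  have hget : ∀ v, Q v = c → ∃ g ∈ D, φ g = rGL Q v := fun v hv =>
    ⟨⟨rI C v (hv ▸ hc), rI_mem_reflectionSubgroup C hc hv⟩,
      (mem_reflectionsOfNorm_iff C hc).mpr ⟨v, hv, rI_val C (hv ▸ hc)⟩, rI_val C (hv ▸ hc)⟩
  have hcomm : ∀ {g h}, Commute g h ↔ Commute (φ g) (φ h) := fun {g h} =>
    ⟨fun e => e.map φ, fun e => hφ (by rw [map_mul, map_mul]; exact e)⟩
  have hiff : ∀ {g h : ↥(Cfsg.reflectionSubgroup Q c)} {v w}, Q v = c → Q w = c →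
      φ g = rGL Q v → φ h = rGL Q w → (B v w = 0 ↔ g ≠ h ∧ Commute g h) := by
    intro g h v w hv hw hg hh
    obtain ⟨h1, h2⟩ := rGL3_commute_iff C (v := v) (w := w) (hv ▸ hc) (hv.trans hw.symm)
    refine ⟨fun h0 => ⟨fun e => h2 h0 (hg.symm.trans (e ▸ hh)), ?_⟩, fun ⟨hne, hcm⟩ => ?_⟩
    · rw [hcomm, hg, hh]
      exact h1.2 (Or.inl h0)
    · rw [hcomm, hg, hh] at hcm
      exact (h1.1 hcm).resolve_right fun e => hne (hφ (hg.trans (e.trans hh.symm)))
  have hncomm : ∀ {g h : ↥(Cfsg.reflectionSubgroup Q c)} {v w y}, Q v = c → Q w = c →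
      φ g = rGL Q v → φ h = rGL Q w → B v w ≠ 0 → B v y = 0 → B w y ≠ 0 → ¬ Commute g h := by
    intro g h v w y hv hw hg hh h0 hvy hwy hcm
    refine h0 ((hiff hv hw hg hh).2 ⟨fun e => ?_, hcm⟩)
    exact rGL_ne_of_witness C (hv ▸ hc) (hw ▸ hc) hvy hwy (hg.symm.trans (e ▸ hh))
  have h2c : (2 : ZMod 3) * c ≠ 0 := mul_ne_zero zmod3_two_ne_zero hc
  refine ⟨hcls, ?_, ?_, ?_, ?_, ?_, ?_⟩
  · obtain ⟨v, -, hv⟩ := exists_norm_perp_family C (k := 0) Fin.elim0 (by omega)
      (fun i => i.elim0) (fun i => i.elim0) hc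
    obtain ⟨w, hw0, hw⟩ := exists_norm_perp_family C ![v] (by omega)
      (fun i => by fin_cases i; simpa using (hv ▸ hc : Q v ≠ 0))
      (fun i j hij => absurd (Subsingleton.elim i j) hij) hc
    obtain ⟨a, ha, hav⟩ := hget v hv
    obtain ⟨b, hb, hbw⟩ := hget w hw
    exact ⟨a, ha, b, hb, (hiff hv hw hav hbw).1 (by simpa using hw0 0)⟩
  · intro a ha b hb hne hcm
    obtain ⟨v, hv, hav⟩ := hval a ha
    obtain ⟨w, hw, hbw⟩ := hval b hb
    have hvw := (hiff hv hw hav hbw).2 ⟨hne, hcm⟩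
    obtain ⟨e, he, hqe⟩ := exists_norm_perp_family C ![v, w] (by omega)
      (fun i => by fin_cases i <;> simp [hv, hw, hc])
      (fun i j hij => by
        fin_cases i <;> fin_cases j <;> simp at hij ⊢
        · exact hvw
        · rw [C.symm]; exact hvw) (neg_ne_zero.mpr hc)
    have hve : B v e = 0 := by simpa using he 0
    have hwe : B w e = 0 := by simpa using he 1
    have hwv : B w v = 0 := by rw [C.symm]; exact hvw
    have hee : B e e ≠ 0 := by
      rw [C.self, hqe]; exact mul_ne_zero zmod3_two_ne_zero (neg_ne_zero.mpr hc)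
    obtain ⟨x, hx, hvx, hwx, hxe⟩ : ∃ x, Q x = c ∧ B v x ≠ 0 ∧ B w x = 0 ∧ B x e ≠ 0 := by
      obtain ⟨f, hf, hqf⟩ := exists_norm_perp_family C ![v, w, e] (by omega)
        (fun i => by fin_cases i <;> simp [hv, hw, hc, hqe])
        (fun i j hij => by
          fin_cases i <;> fin_cases j <;> simp at hij ⊢ <;>
            first
              | exact hvw | exact hwv | exact hve | exact hwe
              | (rw [C.symm]; exact hve) | (rw [C.symm]; exact hwe)) hc
      have hvf : B v f = 0 := by simpa using hf 0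
      have hwf : B w f = 0 := by simpa using hf 1
      have hef : B e f = 0 := by simpa using hf 2
      refine ⟨v + e + f, ?_, ?_, ?_, ?_⟩
      · rw [C.add, C.add, hve, hqe, hv, hqf, map_add, LinearMap.add_apply, hvf, hef]
        ring
      · rw [map_add, map_add, C.self, hv, hve, hvf, add_zero, add_zero]; exact h2c
      · rw [map_add, map_add, hwv, hwe, hwf, add_zero, add_zero]
      · rw [map_add, map_add, LinearMap.add_apply, LinearMap.add_apply, hve, C.symm f e, hef,
          zero_add, add_zero]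
        exact hee
    obtain ⟨g, hg, hgx⟩ := hget x hx
    exact ⟨g, hg, hncomm hv hx hav hgx hvx hve hxe,
      ((hiff hw hx hbw hgx).1 hwx).2⟩
  · intro a ha b hb hne hcm
    obtain ⟨v, hv, hav⟩ := hval a ha
    obtain ⟨w, hw, hbw⟩ := hval b hb
    have hvw := (hiff hv hw hav hbw).2 ⟨hne, hcm⟩
    obtain ⟨x, hx, hvx, hwx⟩ := exists_link C (by omega) (hv ▸ hc) (hv.trans hw.symm) hvw
    obtain ⟨g, hg, hgx⟩ := hget x (hx.trans hv)
    exact ⟨g, hg, hncomm hv (hx.trans hv) hav hgx hvx hvw (by rwa [C.symm]),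
      hncomm hw (hx.trans hv) hbw hgx hwx (by rwa [C.symm]) (by rwa [C.symm])⟩
  · intro d hd a ha b hb hda hdb hab h1 h2 h3
    obtain ⟨u, hu, hdu⟩ := hval d hd
    obtain ⟨v, hv, hav⟩ := hval a ha
    obtain ⟨w, hw, hbw⟩ := hval b hb
    have huv := (hiff hu hv hdu hav).2 ⟨hda, h1⟩
    have huw := (hiff hu hw hdu hbw).2 ⟨hdb, h2⟩
    have hvw := (hiff hv hw hav hbw).2 ⟨hab, h3⟩
    obtain ⟨z, hz, hqz⟩ := exists_norm_perp_family C ![u, v, w] (by omega)
      (fun i => by fin_cases i <;> simp [hu, hv, hw, hc])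
      (fun i j hij => by
        fin_cases i <;> fin_cases j <;> simp at hij ⊢ <;>
          first
            | exact huv | exact huw | exact hvw
            | (rw [C.symm]; exact huv) | (rw [C.symm]; exact huw) | (rw [C.symm]; exact hvw))
      (neg_ne_zero.mpr hc)
    have huz : B u z = 0 := by simpa using hz 0
    have hvz : B v z = 0 := by simpa using hz 1
    have hwz : B w z = 0 := by simpa using hz 2
    have hwv : B w v = 0 := by rw [C.symm]; exact hvw
    have hx : Q (v + w + z) = c := by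
      rw [C.add, C.add, hv, hw, hqz, hvw, map_add, LinearMap.add_apply, hvz, hwz]
      ring
    have hux : B u (v + w + z) = 0 := by rw [map_add, map_add, huv, huw, huz, add_zero, add_zero]
    have hvx : B v (v + w + z) ≠ 0 := by
      rw [map_add, map_add, C.self, hv, hvw, hvz, add_zero, add_zero]; exact h2c
    have hwx : B w (v + w + z) ≠ 0 := by
      rw [map_add, map_add, C.self, hw, hwv, hwz, zero_add, add_zero]; exact h2c
    obtain ⟨g, hg, hgx⟩ := hget _ hx
    exact ⟨g, hg, (((hiff hu hx hdu hgx).1 hux).2).symm,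
      hncomm hv hx hav hgx hvx hvw (by rwa [C.symm]),
      hncomm hw hx hbw hgx hwx hwv (by rwa [C.symm])⟩
  · intro a ha b hb hcm
    obtain ⟨v, hv, hav⟩ := hval a ha
    obtain ⟨w, hw, hbw⟩ := hval b hb
    obtain ⟨x, hvx, hwx, hx⟩ := exists_norm_perp_pair C h5 (hv ▸ hc) w hc
    obtain ⟨g, hg, hgx⟩ := hget x hx
    exact ⟨g, hg, ((hiff hv hx hav hgx).1 hvx).2, ((hiff hw hx hbw hgx).1 hwx).2⟩
  · intro a ha b hb hcm
    obtain ⟨v, hv, hav⟩ := hval a ha
    obtain ⟨x, hx, hbx⟩ := hval b hb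
    have hvx : B v x ≠ 0 := fun h0 => hcm ((hiff hv hx hav hbx).1 h0).2
    have hne : rGL Q v ≠ rGL Q x := fun e =>
      hcm ((hφ (hav.trans (e.trans hbx.symm))) ▸ Commute.refl a)
    obtain ⟨y, y', hy, hy', hvy, hvy', horth⟩ := exists_twist C h5 hc hv hx hvx hne
    obtain ⟨g, hg, hgy⟩ := hget y hy
    obtain ⟨g', hg', hgy'⟩ := hget y' hy'
    refine ⟨g, hg, g', hg', ((hiff hv hy hav hgy).1 hvy).2, ((hiff hv hy' hav hgy').1 hvy').2, ?_⟩
    have hy0 : Q y ≠ 0 := hy ▸ hc
    have hy0' : Q y' ≠ 0 := hy' ▸ hc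
    have hz : φ (Cfsg.Lib.Fischer.cj g' (Cfsg.Lib.Fischer.cj g b)) =
        rGL Q ((rGL Q y').val *ᵥ ((rGL Q y).val *ᵥ x)) := by
      have e1 := rGL_conj C (hx ▸ hc : Q x ≠ 0) (rGL_mem C hy0)
      have e2 := rGL_conj C (v := (rGL Q y).val *ᵥ x)
        (by rw [mem_iso.mp (rGL_mem C hy0)]; exact hx ▸ hc) (rGL_mem C hy0')
      rw [rGL_inv C hy0] at e1
      rw [rGL_inv C hy0'] at e2
      simp only [Cfsg.Lib.Fischer.cj_def, map_mul, hgy, hgy', hbx, e1, e2]
    obtain ⟨h1, h2⟩ := (hiff hx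
      (by rw [mem_iso.mp (rGL_mem C hy0'), mem_iso.mp (rGL_mem C hy0)]; exact hx) hbx hz).1 horth
    exact ⟨Ne.symm h1, h2⟩

/-- The structure of the group generated by the reflections of one norm. -/
theorem reflectionSubgroup_structure (C : Space Q B) (h5 : 5 ≤ Fintype.card ι) {c : ZMod 3}
    (hc : c ≠ 0) :
    Cfsg.IsQuasisimple (commutator ↥(Cfsg.reflectionSubgroup Q c)) ∧
      (commutator ↥(Cfsg.reflectionSubgroup Q c)).index ≤ 2 ∧
      Cfsg.generalizedFittingSubgroup ↥(Cfsg.reflectionSubgroup Q c) =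
        Subgroup.center ↥(Cfsg.reflectionSubgroup Q c) ⊔
          commutator ↥(Cfsg.reflectionSubgroup Q c) ∧
      Cfsg.IsPrimitiveUnderConj {g : ↥(Cfsg.reflectionSubgroup Q c) |
        (g : ↥(isometryGroup (ZMod 3) Q)) ∈ Cfsg.reflectionsOfNorm Q c} :=
  (reflections_geometric C h5 hc).structure

end Cfsg.Lib.Linear.Orth
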