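import Mathlib

/-!
# Singular vectors of quadratic forms over finite fields

A subspace of dimension at least three has a non-zero singular vector, and large subspaces are
spanned by their singular vectors (in any characteristic).
-/

set_option autoImplicit false

namespace Cfsg.Lib.Linear.Sing

open Module

variable {F V : Type*} [Field F] [AddCommGroup V] [Module F V] [FiniteDimensional F V]
  {Q : V → F} {B : LinearMap.BilinForm F V}

theorem apply_add (hB : ∀ u v, QuadraticMap.polar Q u v = B u v) (u v : V) :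
    Q (u + v) = Q u + Q v + B u v := by
  rw [← hB, QuadraticMap.polar]; ring

theorem apply_zero (hQ : ∀ (c : F) v, Q (c • v) = c ^ 2 * Q v) : Q 0 = 0 := by
  simpa using hQ 0 0

theorem apply_self (hQ : ∀ (c : F) v, Q (c • v) = c ^ 2 * Q v)
    (hB : ∀ u v, QuadraticMap.polar Q u v = B u v) (v : V) : B v v = 2 * Q v := by
  rw [← hB, QuadraticMap.polar, ← two_smul F v, hQ]; ring

theorem isSymm (hB : ∀ u v, QuadraticMap.polar Q u v = B u v) (u v : V) : B u v = B v u := by
  rw [← hB, ← hB, QuadraticMap.polar_comm]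

theorem apply_smul_add (hQ : ∀ (c : F) v, Q (c • v) = c ^ 2 * Q v)
    (hB : ∀ u v, QuadraticMap.polar Q u v = B u v) (a b : F) (u v : V) :
    Q (a • u + b • v) = a ^ 2 * Q u + b ^ 2 * Q v + a * b * B u v := by
  rw [apply_add hB, hQ, hQ, map_smul, map_smul, LinearMap.smul_apply, smul_eq_mul, smul_eq_mul]
  ring

omit [FiniteDimensional F V] in
theorem exists_inf_ker_notMem [FiniteDimensional F V] (U : Submodule F V) (φ : V →ₗ[F] F)
    (W : Submodule F V) (h : finrank F W + 1 < finrank F U) :
    ∃ w ∈ U, φ w = 0 ∧ w ∉ W := by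
  have hnle : ¬ U ⊓ LinearMap.ker φ ≤ W := fun hle => by
    have h1 := Submodule.finrank_mono hle
    have h3 := Submodule.finrank_sup_add_finrank_inf_eq U (LinearMap.ker φ)
    have h4 := LinearMap.finrank_range_add_finrank_ker φ
    have h5 : finrank F (LinearMap.range φ) ≤ 1 := by
      simpa using Submodule.finrank_le (LinearMap.range φ)
    have h6 := Submodule.finrank_le (U ⊔ LinearMap.ker φ)
    omega
  obtain ⟨w, ⟨hwU, hwφ⟩, hwW⟩ := SetLike.not_le_iff_exists.mp hnle
  exact ⟨w, hwU, hwφ, hwW⟩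

/-- A subspace of dimension at least three has a non-zero singular vector. -/
theorem exists_singular [Finite F] (hQ : ∀ (c : F) v, Q (c • v) = c ^ 2 * Q v)
    (hB : ∀ u v, QuadraticMap.polar Q u v = B u v) (U : Submodule F V) (hU : 3 ≤ finrank F U) :
    ∃ x ∈ U, x ≠ 0 ∧ Q x = 0 := by
  obtain ⟨v, hvU, hv0⟩ := Submodule.exists_mem_ne_zero_of_ne_bot
    (fun h : U = ⊥ => by rw [h, finrank_bot] at hU; omega)
  by_cases hQv : Q v = 0
  · exact ⟨v, hvU, hv0, hQv⟩
  obtain ⟨w, hwU, hvw, hw⟩ := exists_inf_ker_notMem U (B v) (Submodule.span F {v})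
    (by rw [finrank_span_singleton hv0]; omega)
  have hindep : ∀ a b : F, b ≠ 0 → a • v + b • w ≠ 0 := fun a b hb h => hw (by
    refine Submodule.mem_span_singleton.mpr ⟨-(b⁻¹ * a), ?_⟩
    rw [neg_smul, ← smul_smul, eq_neg_of_add_eq_zero_left h, smul_neg, neg_neg, smul_smul,
      inv_mul_cancel₀ hb, one_smul])
  by_cases h2 : (2 : F) = 0
  · haveI : CharP F 2 := CharTwo.of_one_ne_zero_of_two_eq_zero one_ne_zero h2
    obtain ⟨a, ha⟩ := FiniteField.isSquare_of_char_two (ringChar.eq F 2) (-(Q w / Q v))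
    refine ⟨a • v + (1 : F) • w, U.add_mem (U.smul_mem _ hvU) (U.smul_mem _ hwU),
      hindep a 1 one_ne_zero, ?_⟩
    rw [apply_smul_add hQ hB, hvw, pow_two, ← ha]
    field_simp
    ring
  by_cases hQw : Q w = 0
  · exact ⟨w, hwU, fun h => hw (h ▸ Submodule.zero_mem _), hQw⟩
  have hW : finrank F (Submodule.span F ({v, w} : Set V)) ≤ 2 := by
    classical
    have h := finrank_span_finset_le_card (R := F) ({v, w} : Finset V)
    rw [Finset.coe_pair] at h
    exact h.trans (Finset.card_le_two)
  obtain ⟨z, hzU, hvz, hwz, hz⟩ : ∃ z ∈ U, B v z = 0 ∧ B w z = 0 ∧ z ≠ 0 := by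
    obtain ⟨z, hz, hwz, hz0⟩ := exists_inf_ker_notMem (U ⊓ LinearMap.ker (B v)) (B w) ⊥ (by
      have h3 := Submodule.finrank_sup_add_finrank_inf_eq U (LinearMap.ker (B v))
      have h4 := LinearMap.finrank_range_add_finrank_ker (B v)
      have h5 : finrank F (LinearMap.range (B v)) ≤ 1 := by
        simpa using Submodule.finrank_le (LinearMap.range (B v))
      have h6 := Submodule.finrank_le (U ⊔ LinearMap.ker (B v))
      rw [finrank_bot]
      omega)
    obtain ⟨h7, h8⟩ := Submodule.mem_inf.mp hz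
    exact ⟨z, h7, h8, hwz, fun h => hz0 (h ▸ Submodule.zero_mem _)⟩
  by_cases hQz : Q z = 0
  · exact ⟨z, hzU, hz, hQz⟩
  have := Fintype.ofFinite F
  have hodd : Fintype.card F % 2 = 1 := FiniteField.odd_card_of_char_ne_two
    fun h => h2 (by
      haveI := ringChar.charP F
      have := CharP.cast_eq_zero F (ringChar F)
      rw [h] at this
      exact_mod_cast this)
  obtain ⟨a, b, hab⟩ := FiniteField.exists_root_sum_quadratic
    (f := Polynomial.C (Q v) * Polynomial.X ^ 2)
    (g := Polynomial.C (Q w) * Polynomial.X ^ 2 + Polynomial.C (Q z))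
    (Polynomial.degree_C_mul_X_pow 2 hQv)
    (by
      rw [Polynomial.degree_add_eq_left_of_degree_lt] <;> rw [Polynomial.degree_C_mul_X_pow 2 hQw]
      · rfl
      · exact lt_of_le_of_lt Polynomial.degree_C_le (by norm_num))
    hodd
  simp only [Polynomial.eval_mul, Polynomial.eval_C, Polynomial.eval_pow, Polynomial.eval_X,
    Polynomial.eval_add] at hab
  refine ⟨a • v + b • w + z, U.add_mem (U.add_mem (U.smul_mem _ hvU) (U.smul_mem _ hwU)) hzU,
    fun h => ?_, ?_⟩
  · have h1 := congrArg (B z) h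
    simp only [map_add, map_smul, isSymm hB z v, isSymm hB z w, hvz, hwz, smul_zero, zero_add,
      map_zero, apply_self hQ hB] at h1
    exact hQz ((mul_eq_zero.mp h1).resolve_left h2)
  · rw [apply_add hB, apply_smul_add hQ hB, hvw, map_add, LinearMap.add_apply, map_smul,
      LinearMap.smul_apply, map_smul, LinearMap.smul_apply, hvz, hwz]
    simp only [smul_zero, mul_zero, add_zero]
    linear_combination hab

/-- Large subspaces are spanned by their singular vectors. -/
theorem singular_span [Finite F] (hQ : ∀ (c : F) v, Q (c • v) = c ^ 2 * Q v)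
    (hB : ∀ u v, QuadraticMap.polar Q u v = B u v) (hn : ∀ v, (∀ u, B u v = 0) → v = 0)
    (U : Submodule F V) (hU : finrank F V + 3 ≤ 2 * finrank F U) :
    U ≤ Submodule.span F {w | w ∈ U ∧ Q w = 0} := by
  let Ψ : V →ₗ[F] (U →ₗ[F] F) :=
    { toFun := fun v => (B v).comp U.subtype
      map_add' := fun a b => by ext; simp
      map_smul' := fun c a => by ext; simp }
  let R : Submodule F V := LinearMap.ker Ψ
  have hmemR : ∀ {x}, x ∈ R ↔ ∀ u ∈ U, B x u = 0 := fun {x} =>
    ⟨fun h u hu => LinearMap.congr_fun (LinearMap.mem_ker.mp h) ⟨u, hu⟩,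
      fun h => LinearMap.mem_ker.mpr (LinearMap.ext fun u => h u u.2)⟩
  have hR : finrank F R + finrank F U ≤ finrank F V := by
    let Φ : U →ₗ[F] Module.Dual F V := (B.domRestrict U)
    have hinj : Function.Injective Φ := by
      rw [injective_iff_map_eq_zero]
      intro u hu
      refine Subtype.ext (hn u fun x => ?_)
      rw [isSymm hB]
      exact LinearMap.congr_fun hu x
    have hle : LinearMap.range Φ ≤ R.dualAnnihilator := by
      rintro _ ⟨u, rfl⟩
      rw [Submodule.mem_dualAnnihilator]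
      intro x hx
      show B u x = 0
      rw [isSymm hB]
      exact hmemR.mp hx u u.2
    have h1 := Submodule.finrank_mono hle
    rw [LinearMap.finrank_range_of_inj hinj] at h1
    have h2 := Subspace.finrank_add_finrank_dualAnnihilator_eq R
    omega
  obtain ⟨C, hC⟩ := Submodule.exists_isCompl R
  have hUC : 3 ≤ finrank F ↥(U ⊓ C) := by
    have h1 := Submodule.finrank_add_eq_of_isCompl hC
    have h2 := Submodule.finrank_sup_add_finrank_inf_eq U C
    have h3 := Submodule.finrank_le (U ⊔ C)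
    omega
  obtain ⟨x, ⟨hxU, hxC⟩, hx0, hxx⟩ := exists_singular hQ hB (U ⊓ C) hUC
  obtain ⟨y, hyU, hxy⟩ : ∃ y ∈ U, B x y ≠ 0 := by
    by_contra hne
    push Not at hne
    exact hx0 (Submodule.disjoint_def.mp hC.disjoint x (hmemR.mpr hne) hxC)
  set S := Submodule.span F {w | w ∈ U ∧ Q w = 0}
  have hxS : x ∈ S := Submodule.subset_span ⟨hxU, hxx⟩
  have key : ∀ w ∈ U, B x w ≠ 0 → w ∈ S := by
    intro w hw hxw
    have h1 : (1 : F) • w + (-(Q w / B x w)) • x ∈ S := by
      refine Submodule.subset_span ⟨U.add_mem (U.smul_mem _ hw) (U.smul_mem _ hxU), ?_⟩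
      rw [apply_smul_add hQ hB, hxx, isSymm hB w x]
      field_simp
      ring
    have h2 := S.sub_mem h1 (S.smul_mem (-(Q w / B x w)) hxS)
    rwa [add_sub_cancel_right, one_smul] at h2
  intro w hw
  by_cases hxw : B x w = 0
  · have h2 := S.sub_mem (key (w + y) (U.add_mem hw hyU) (by rwa [map_add, hxw, zero_add]))
      (key y hyU hxy)
    rwa [add_sub_cancel_right] at h2
  · exact key w hw hxw

end Cfsg.Lib.Linear.Sing
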