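import Cfsg.Agent.Lib.Linear.OrthBasic
import Cfsg.Agent.Lib.Linear.SingularVectors

/-!
# Transitivity of Siegel elements and the commutator subgroup of the isometry group

`Root Q B U` is generated by the Siegel elements with both vectors in `U`.  It is transitive on
the non-zero vectors of a given norm of a non-degenerate `U` of dimension at least five, and for
`U` the whole space it is `Ω`, in any characteristic.
-/

set_option autoImplicit false

namespace Cfsg.Lib.Linear.Orth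

open Module
open scoped Matrix commutatorElement

variable {ι : Type} [Fintype ι] [DecidableEq ι] {F : Type*} [Field F]
  {Q : (ι → F) → F} {B : LinearMap.BilinForm F (ι → F)}

/-- The polar form is non-degenerate on `U`. -/
def NDeg (B : LinearMap.BilinForm F (ι → F)) (U : Submodule F (ι → F)) : Prop :=
  ∀ x ∈ U, (∀ y ∈ U, B x y = 0) → x = 0

/-- The vectors of `U` perpendicular to `e` and `f`. -/
def perp2 (B : LinearMap.BilinForm F (ι → F)) (U : Submodule F (ι → F)) (e f : ι → F) :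
    Submodule F (ι → F) := U ⊓ (LinearMap.ker (B e) ⊓ LinearMap.ker (B f))

theorem mem_perp2 {U : Submodule F (ι → F)} {e f x : ι → F} :
    x ∈ perp2 B U e f ↔ x ∈ U ∧ B e x = 0 ∧ B f x = 0 := by simp [perp2]

/-- A hyperbolic pair in `U`. -/
structure Hyp (Q : (ι → F) → F) (B : LinearMap.BilinForm F (ι → F))
    (U : Submodule F (ι → F)) (e f : ι → F) : Prop where
  memE : e ∈ U
  memF : f ∈ U
  singE : Q e = 0
  singF : Q f = 0
  pair : B e f = 1

theorem Space.ndeg_top (C : Space Q B) : NDeg B ⊤ := fun _ _ h => C.nondeg' fun u => h u trivial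

theorem exists_hyp (C : Space Q B) {U : Submodule F (ι → F)} (hU : NDeg B U) {e : ι → F}
    (he : e ∈ U) (he0 : e ≠ 0) (hQe : Q e = 0) : ∃ f, Hyp Q B U e f := by
  obtain ⟨y, hy, hey⟩ : ∃ y ∈ U, B e y ≠ 0 := by
    by_contra h
    push Not at h
    exact he0 (hU e he h)
  refine ⟨(B e y)⁻¹ • y - ((B e y)⁻¹ ^ 2 * Q y) • e, he, U.sub_mem (U.smul_mem _ hy)
    (U.smul_mem _ he), hQe, ?_, ?_⟩
  · rw [sub_eq_add_neg, ← neg_smul, C.smul_add, hQe, C.symm y e]
    field_simp
    ring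
  · simp [C.self_zero hQe, hey]

theorem exists_hyp' [Finite F] (C : Space Q B) {U : Submodule F (ι → F)} (hU : NDeg B U)
    (h3 : 3 ≤ finrank F U) : ∃ e f, Hyp Q B U e f := by
  obtain ⟨e, he, he0, hQe⟩ := Sing.exists_singular C.smul C.polar U h3
  exact ⟨e, exists_hyp C hU he he0 hQe⟩

section Hyperbolic

variable (C : Space Q B) {U : Submodule F (ι → F)} {e f : ι → F} (h : Hyp Q B U e f)

include C h

theorem Hyp.pair' : B f e = 1 := by rw [C.symm, h.pair]

theorem Hyp.proj {x : ι → F} (hx : x ∈ U) : x - B f x • e - B e x • f ∈ perp2 B U e f :=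
  mem_perp2.mpr ⟨U.sub_mem (U.sub_mem hx (U.smul_mem _ h.memE)) (U.smul_mem _ h.memF),
    by simp [C.self_zero h.singE, h.pair], by simp [C.self_zero h.singF, h.pair' C]⟩

theorem Hyp.ndeg (hU : NDeg B U) : NDeg B (perp2 B U e f) := by
  intro x hx hxy
  obtain ⟨hxU, hex, hfx⟩ := mem_perp2.mp hx
  refine hU x hxU fun y hy => ?_
  have := hxy _ (h.proj C hy)
  rw [map_sub, map_sub, map_smul, map_smul, C.symm x e, C.symm x f, hex, hfx] at this
  simpa using this

theorem Hyp.le_finrank : finrank F U ≤ finrank F (perp2 B U e f) + 2 := by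
  classical
  have hle : U ≤ perp2 B U e f ⊔ Submodule.span F ({e, f} : Finset (ι → F)) := fun x hx => by
    rw [show x = (x - B f x • e - B e x • f) + (B f x • e + B e x • f) by abel]
    refine Submodule.add_mem_sup (h.proj C hx) (Submodule.add_mem _ ?_ ?_) <;>
      exact Submodule.smul_mem _ _ (Submodule.subset_span (by simp))
  have h1 := Submodule.finrank_mono hle
  have h2 := Submodule.finrank_add_le_finrank_add_finrank (perp2 B U e f)
    (Submodule.span F (↑({e, f} : Finset (ι → F)) : Set (ι → F)))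
  have h3 := finrank_span_finset_le_card (R := F) ({e, f} : Finset (ι → F))
  have h4 := Finset.card_le_two (a := e) (b := f)
  unfold Set.finrank at h3
  omega

end Hyperbolic

/-- A totally singular subspace has at most half the dimension. -/
theorem ts_bound (C : Space Q B) {A : Submodule F (ι → F)} (hA : ∀ x ∈ A, Q x = 0) :
    2 * finrank F A ≤ Fintype.card ι := by
  let Φ : A →ₗ[F] Module.Dual F (ι → F) := B.domRestrict A
  have hinj : Function.Injective Φ := by
    rw [injective_iff_map_eq_zero]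
    intro a ha
    exact Subtype.ext (C.nondeg' fun u => LinearMap.congr_fun ha u)
  have hle : LinearMap.range Φ ≤ A.dualAnnihilator := by
    rintro _ ⟨a, rfl⟩
    rw [Submodule.mem_dualAnnihilator]
    intro x hx
    have := hA _ (A.add_mem a.2 hx)
    rw [C.add, hA _ a.2, hA _ hx] at this
    show B (a : ι → F) x = 0
    simpa using this
  have h1 := Submodule.finrank_mono hle
  rw [LinearMap.finrank_range_of_inj hinj] at h1
  have h2 := Subspace.finrank_add_finrank_dualAnnihilator_eq A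
  rw [finrank_fintype_fun_eq_card] at h2
  omega

theorem exists_nonsing (C : Space Q B) {U : Submodule F (ι → F)} (hU : NDeg B U) (h0 : U ≠ ⊥) :
    ∃ v ∈ U, Q v ≠ 0 := by
  obtain ⟨x, hx, hx0⟩ := Submodule.exists_mem_ne_zero_of_ne_bot h0
  by_contra h
  push Not at h
  refine hx0 (hU x hx fun y hy => ?_)
  have := h _ (U.add_mem hx hy)
  rw [C.add, h x hx, h y hy] at this
  simpa using this

/-- A large subspace has a non-singular vector. -/
theorem exists_nonsing_of_lt (C : Space Q B) {A : Submodule F (ι → F)}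
    (h : Fintype.card ι < 2 * finrank F A) : ∃ v ∈ A, Q v ≠ 0 := by
  by_contra hne
  push Not at hne
  have := ts_bound C hne
  omega

/-- A non-degenerate subspace of dimension at least three is spanned by singular vectors. -/
theorem span_sing [Finite F] (C : Space Q B) {U : Submodule F (ι → F)} (hU : NDeg B U)
    (h3 : 3 ≤ finrank F U) : U ≤ Submodule.span F {w | w ∈ U ∧ Q w = 0} := by
  obtain ⟨e, f, h⟩ := exists_hyp' C hU h3
  intro x hx
  set S := Submodule.span F {w | w ∈ U ∧ Q w = 0}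
  have hsub : ∀ w, w ∈ U → Q w = 0 → w ∈ S := fun w h1 h2 => Submodule.subset_span ⟨h1, h2⟩
  set w := x - B f x • e - B e x • f with hw
  obtain ⟨hwU, hew, hfw⟩ := mem_perp2.mp (h.proj C hx)
  rw [← hw] at hwU hew hfw
  have hsing : Q (w + (f - Q w • e)) = 0 := by
    rw [C.add, map_sub, map_smul, C.symm w f, hfw, C.symm w e, hew, sub_eq_add_neg f, ← neg_smul,
      C.add, C.smul, h.singE, h.singF, map_smul, h.pair' C]
    simp
  rw [show x = (w + (f - Q w • e)) - f + Q w • e + B f x • e + B e x • f by rw [hw]; module]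
  exact S.add_mem (S.add_mem (S.add_mem (S.sub_mem
    (hsub _ (U.add_mem hwU (U.sub_mem h.memF (U.smul_mem _ h.memE))) hsing)
    (hsub _ h.memF h.singF)) (S.smul_mem _ (hsub _ h.memE h.singE)))
    (S.smul_mem _ (hsub _ h.memE h.singE))) (S.smul_mem _ (hsub _ h.memF h.singF))

theorem exists_sing_pair [Finite F] (C : Space Q B) {U : Submodule F (ι → F)} (hU : NDeg B U)
    (h3 : 3 ≤ finrank F U) {x : ι → F} (hx : ∃ z ∈ U, B z x ≠ 0) :
    ∃ w ∈ U, Q w = 0 ∧ B w x = 1 := by
  obtain ⟨z, hz, hzx⟩ := hx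
  obtain ⟨w, hw, hwx⟩ : ∃ w, (w ∈ U ∧ Q w = 0) ∧ B w x ≠ 0 := by
    by_contra hne
    push Not at hne
    exact hzx (((Submodule.span_le (p := LinearMap.ker (B.flip x))).mpr fun w hw =>
      LinearMap.mem_ker.mpr (hne w hw)) (span_sing C hU h3 hz))
  exact ⟨(B w x)⁻¹ • w, U.smul_mem _ hw.1, by rw [C.smul, hw.2, mul_zero],
    by rw [map_smul, LinearMap.smul_apply, smul_eq_mul, inv_mul_cancel₀ hwx]⟩

/-! ## The subgroup generated by Siegel elements -/

/-- The group generated by the Siegel elements inside `U`. -/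
noncomputable def Root (Q : (ι → F) → F) (B : LinearMap.BilinForm F (ι → F))
    (U : Submodule F (ι → F)) : Subgroup (GL ι F) :=
  Subgroup.closure {g | ∃ u a, u ∈ U ∧ a ∈ U ∧ Q u = 0 ∧ B u a = 0 ∧ g = sGL Q B u a}

theorem sGL_mem_root {U : Submodule F (ι → F)} {u a : ι → F} (hu : u ∈ U) (ha : a ∈ U)
    (hQu : Q u = 0) (hua : B u a = 0) : sGL Q B u a ∈ Root Q B U :=
  Subgroup.subset_closure ⟨u, a, hu, ha, hQu, hua, rfl⟩

theorem root_mono {U U' : Submodule F (ι → F)} (h : U ≤ U') : Root Q B U ≤ Root Q B U' :=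
  Subgroup.closure_mono fun _ ⟨u, a, hu, ha, h1, h2, h3⟩ => ⟨u, a, h hu, h ha, h1, h2, h3⟩

theorem root_le_iso (C : Space Q B) (U : Submodule F (ι → F)) :
    Root Q B U ≤ isometryGroup F Q :=
  (Subgroup.closure_le _).mpr fun _ ⟨_, _, _, _, h1, h2, h3⟩ => h3 ▸ sGL_mem C h1 h2

theorem root_act (C : Space Q B) {U : Submodule F (ι → F)} {g : GL ι F} (hg : g ∈ Root Q B U) :
    ∀ x, g.val *ᵥ x - x ∈ U ∧ ((∀ y ∈ U, B y x = 0) → g.val *ᵥ x = x) := by
  refine Subgroup.closure_induction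
    (p := fun g _ => ∀ x, g.val *ᵥ x - x ∈ U ∧ ((∀ y ∈ U, B y x = 0) → g.val *ᵥ x = x))
    ?_ ?_ ?_ ?_ hg
  · rintro _ ⟨u, a, hu, ha, h1, h2, rfl⟩ x
    rw [sGL_act C h1 h2]
    refine ⟨?_, fun h => by simp [h u hu, h a ha]⟩
    rw [show ∀ p q : ι → F, x + p - q - x = p - q from fun p q => by abel]
    exact U.sub_mem (U.smul_mem _ ha) (U.smul_mem _ hu)
  · exact fun x => ⟨by simp, fun _ => by simp⟩
  · intro a b _ _ ha hb x
    refine ⟨?_, fun h => by rw [mul_act, (hb x).2 h, (ha x).2 h]⟩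
    rw [mul_act, show a.val *ᵥ (b.val *ᵥ x) - x
      = (a.val *ᵥ (b.val *ᵥ x) - b.val *ᵥ x) + (b.val *ᵥ x - x) by abel]
    exact U.add_mem (ha _).1 (hb x).1
  · intro a _ ha x
    refine ⟨?_, fun h => ?_⟩
    · have := (ha ((a⁻¹ : GL ι F).val *ᵥ x)).1
      rw [act_inv] at this
      exact (Submodule.neg_mem_iff U).mp (by rwa [neg_sub])
    · conv_lhs => rw [← (ha x).2 h]
      rw [inv_act]

theorem root_mem_U (C : Space Q B) {U : Submodule F (ι → F)} {g : GL ι F} (hg : g ∈ Root Q B U)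
    {x : ι → F} (hx : x ∈ U) : g.val *ᵥ x ∈ U := by
  simpa using U.add_mem (root_act C hg x).1 hx

theorem root_conj (C : Space Q B) {g h : GL ι F} (hg : g ∈ isometryGroup F Q)
    (hh : h ∈ Root Q B ⊤) : g * h * g⁻¹ ∈ Root Q B ⊤ := by
  refine Subgroup.closure_induction (p := fun h _ => g * h * g⁻¹ ∈ Root Q B ⊤) ?_ ?_ ?_ ?_ hh
  · rintro _ ⟨u, a, -, -, h1, h2, rfl⟩
    rw [sGL_conj C h1 h2 hg]
    exact sGL_mem_root trivial trivial (by rw [mem_iso.mp hg, h1]) (by rw [C.B_act hg, h2])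
  · simp
  · intro a b _ _ ha hb
    rw [show g * (a * b) * g⁻¹ = (g * a * g⁻¹) * (g * b * g⁻¹) by group]
    exact mul_mem ha hb
  · intro a _ ha
    rw [show g * a⁻¹ * g⁻¹ = (g * a * g⁻¹)⁻¹ by group]
    exact inv_mem ha

/-- Transitivity on non-zero vectors of a given norm. -/
theorem trans [Finite F] (C : Space Q B) {U : Submodule F (ι → F)} (hU : NDeg B U)
    (h5 : 5 ≤ finrank F U) {x y : ι → F} (hx : x ∈ U) (hy : y ∈ U) (hx0 : x ≠ 0) (hy0 : y ≠ 0)
    (hxy : Q x = Q y) : ∃ h ∈ Root Q B U, h.val *ᵥ x = y := by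
  obtain ⟨e, f, H⟩ := exists_hyp' C hU (by omega)
  suffices key : ∀ x ∈ U, x ≠ 0 → ∃ h ∈ Root Q B U, h.val *ᵥ x = Q x • e + f by
    obtain ⟨g, hg, hgx⟩ := key x hx hx0
    obtain ⟨k, hk, hky⟩ := key y hy hy0
    exact ⟨k⁻¹ * g, mul_mem (inv_mem hk) hg, by rw [mul_act, hgx, hxy, ← hky, inv_act]⟩
  set W := perp2 B U e f with hW
  have hWn : NDeg B W := H.ndeg C hU
  have hW3 : 3 ≤ finrank F W := by have := H.le_finrank C; rw [← hW] at this; omega
  clear hxy hx hy hx0 hy0 x y
  intro x hx hx0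
  obtain ⟨h0, hh0, z, hzW, hzx⟩ : ∃ h0 ∈ Root Q B U, ∃ z ∈ W, B z (h0.val *ᵥ x) ≠ 0 := by
    by_cases hz : ∃ z ∈ W, B z x ≠ 0
    · exact ⟨1, one_mem _, by simpa using hz⟩
    push Not at hz
    obtain ⟨a, ha, ha0⟩ := Submodule.exists_mem_ne_zero_of_ne_bot
      (p := W) (fun h => by rw [h, finrank_bot] at hW3; omega)
    obtain ⟨b, hb, hab⟩ : ∃ b ∈ W, B b a ≠ 0 := by
      by_contra h
      push Not at h
      exact ha0 (hWn a ha fun b hb => by rw [C.symm]; exact h b hb)
    obtain ⟨haU, hea, hfa⟩ := mem_perp2.mp ha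
    obtain ⟨hbU, heb, hfb⟩ := mem_perp2.mp hb
    by_cases hfx : B f x = 0
    · have hex : B e x ≠ 0 := fun hex => by
        have hw : x - B f x • e - B e x • f = 0 := hWn _ (H.proj C hx) fun y hy => by
          obtain ⟨-, hey, hfy⟩ := mem_perp2.mp hy
          rw [C.symm, map_sub, map_sub, map_smul, map_smul, hz y hy, C.symm y e, C.symm y f,
            hey, hfy]
          simp
        exact hx0 (by simpa [hfx, hex] using hw)
      refine ⟨_, sGL_mem_root H.memE haU H.singE hea, b, hb, ?_⟩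
      rw [sGL_act C H.singE hea, map_sub, map_add, map_smul, map_smul, hz b hb, hz a ha,
        C.symm b e, heb]
      simpa using ⟨hex, hab⟩
    · refine ⟨_, sGL_mem_root H.memF haU H.singF hfa, b, hb, ?_⟩
      rw [sGL_act C H.singF hfa, map_sub, map_add, map_smul, map_smul, hz b hb, hz a ha,
        C.symm b f, hfb]
      simpa using ⟨hfx, hab⟩
  set x1 := h0.val *ᵥ x with hx1
  have hx1U : x1 ∈ U := root_mem_U C hh0 hx
  obtain ⟨w, hwW, hQw, hwx⟩ := exists_sing_pair C hWn hW3 ⟨z, hzW, hzx⟩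
  obtain ⟨hwU, hew, hfw⟩ := mem_perp2.mp hwW
  have hfw' : B f ((B e x1 - 1) • w) = 0 := by rw [map_smul, hfw, smul_zero]
  have hh1 := sGL_mem_root H.memF (U.smul_mem (B e x1 - 1) hwU) H.singF hfw'
  set h1 := sGL Q B f ((B e x1 - 1) • w) with hh1def
  set x2 := h1.val *ᵥ x1 with hx2
  have hex2 : B e x2 = 1 := by
    rw [hx2, hh1def, sGL_act C H.singF hfw', C.smul, hQw]
    simp only [map_sub, map_add, map_smul, hew, H.pair, LinearMap.smul_apply, hwx, smul_eq_mul]
    ring
  have hx2U : x2 ∈ U := root_mem_U C hh1 hx1U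
  have haW : -(x2 - B f x2 • e - B e x2 • f) ∈ W := W.neg_mem (H.proj C hx2U)
  obtain ⟨haU, hea, hfa⟩ := mem_perp2.mp haW
  have hh2 := sGL_mem_root H.memE haU H.singE hea
  set a := -(x2 - B f x2 • e - B e x2 • f) with hadef
  refine ⟨sGL Q B e a * h1 * h0, mul_mem (mul_mem hh2 hh1) hh0, ?_⟩
  rw [mul_act, mul_act, ← hx1, ← hx2]
  have h3 : (sGL Q B e a).val *ᵥ x2 = (B f x2 - (B a x2 + Q a)) • e + f := by
    rw [sGL_act C H.singE hea, hex2, mul_one, one_smul]
    have ha' : x2 + a = B f x2 • e + f := by rw [hadef, hex2, one_smul]; abel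
    rw [ha']
    module
  have hQ := mem_iso.mp (sGL_mem C H.singE hea) x2
  rw [h3, C.add, C.smul, H.singE, H.singF, map_smul, LinearMap.smul_apply, H.pair, hx2,
    mem_iso.mp (sGL_mem C H.singF hfw'), hx1, mem_iso.mp (root_le_iso C U hh0)] at hQ
  simp only [mul_zero, zero_add, smul_eq_mul, mul_one] at hQ
  rw [h3]
  simp only [hx2, hx1] at hQ ⊢
  rw [hQ]

/-! ## The commutator subgroup -/

section Omega

variable [Finite F] (C : Space Q B) (h5 : 5 ≤ Fintype.card ι)

include C h5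

theorem trans_top {x y : ι → F} (hx0 : x ≠ 0) (hy0 : y ≠ 0) (hxy : Q x = Q y) :
    ∃ h ∈ Root Q B ⊤, h.val *ᵥ x = y :=
  trans C C.ndeg_top (by rwa [finrank_top, finrank_fintype_fun_eq_card]) trivial trivial hx0 hy0 hxy

theorem rGL_mul_rGL_mem {a b : ι → F} (ha : Q a ≠ 0) (hab : Q a = Q b) :
    rGL Q a * rGL Q b ∈ ⁅isometryGroup F Q, isometryGroup F Q⁆ := by
  have hne : ∀ {v}, Q v ≠ 0 → v ≠ 0 := fun {v} h h0 => h (h0 ▸ C.zero)
  obtain ⟨h, hh, hha⟩ := trans_top C h5 (hne ha) (hne (hab ▸ ha)) hab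
  rw [← hha, ← rGL_conj C ha (root_le_iso C _ hh)]
  have : rGL Q a * (h * rGL Q a * h⁻¹) = ⁅rGL Q a, h⁆ := by
    rw [commutatorElement_def, rGL_inv C ha]; group
  rw [this]
  exact Subgroup.commutator_mem_commutator (rGL_mem C ha) (root_le_iso C _ hh)

theorem sGL_mem_comm {u a : ι → F} (hu : Q u = 0) (hua : B u a = 0) :
    sGL Q B u a ∈ ⁅isometryGroup F Q, isometryGroup F Q⁆ := by
  have key : ∀ a, Q a ≠ 0 → B u a = 0 →
      sGL Q B u a ∈ ⁅isometryGroup F Q, isometryGroup F Q⁆ := fun a ha hua => by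
    obtain ⟨h1, h2⟩ := rGL_mul_rGL C ha hu hua
    rw [← h2]
    exact rGL_mul_rGL_mem C h5 ha h1.symm
  by_cases ha : Q a = 0
  · obtain ⟨z, hz, hQz⟩ : ∃ z ∈ perp2 B ⊤ u a, Q z ≠ 0 := by
      refine exists_nonsing_of_lt C ?_
      have h1 := LinearMap.finrank_range_add_finrank_ker ((B u).prod (B a))
      have h2 := Submodule.finrank_le (LinearMap.range ((B u).prod (B a)))
      have h3 : LinearMap.ker ((B u).prod (B a)) = perp2 B ⊤ u a := by
        rw [LinearMap.ker_prod, perp2, top_inf_eq]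
      rw [h3, finrank_fintype_fun_eq_card] at h1
      rw [Module.finrank_prod, Module.finrank_self] at h2
      omega
    obtain ⟨-, huz, haz⟩ := mem_perp2.mp hz
    have h1 : Q (a + z) ≠ 0 := by rwa [C.add, ha, haz, zero_add, add_zero]
    have h2 : B u (a + z) = 0 := by rw [map_add, hua, huz, add_zero]
    have h3 : B u (-z) = 0 := by rw [map_neg, huz, neg_zero]
    rw [show a = (a + z) + -z by abel, ← sGL_mul C hu h2 h3]
    exact mul_mem (key _ h1 h2) (key _ (by rwa [C.neg]) h3)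
  · exact key a ha hua

/-- The commutator subgroup of the isometry group is generated by the Siegel elements. -/
theorem comm_eq_root :
    ⁅isometryGroup F Q, isometryGroup F Q⁆ = Root Q B ⊤ := by
  refine le_antisymm ?_ ((Subgroup.closure_le _).mpr ?_)
  swap
  · rintro _ ⟨u, a, -, -, h1, h2, rfl⟩
    exact sGL_mem_comm C h5 h1 h2
  have hconj : ∀ {g x}, g ∈ isometryGroup F Q → x ∈ Root Q B ⊤ → g * x * g⁻¹ ∈ Root Q B ⊤ :=
    fun hg hx => root_conj C hg hx
  have hext : ∀ g ∈ isometryGroup F Q, (∀ s ∈ genSet Q B, ⁅s, g⁆ ∈ Root Q B ⊤) →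
      ∀ k ∈ isometryGroup F Q, ⁅k, g⁆ ∈ Root Q B ⊤ := by
    intro g hg hs k hk
    rw [iso_eq_closure C] at hk
    refine Subgroup.closure_induction (p := fun k _ => ⁅k, g⁆ ∈ Root Q B ⊤) hs ?_ ?_ ?_ hk
    · simp
    · intro a b ha _ iha ihb
      rw [show ⁅a * b, g⁆ = a * ⁅b, g⁆ * a⁻¹ * ⁅a, g⁆ by simp only [commutatorElement_def]; group]
      exact mul_mem (hconj ((iso_eq_closure C).symm ▸ ha) ihb) iha
    · intro a ha iha
      rw [show ⁅a⁻¹, g⁆ = a⁻¹ * ⁅a, g⁆⁻¹ * a⁻¹⁻¹ by simp only [commutatorElement_def]; group]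
      exact hconj (inv_mem ((iso_eq_closure C).symm ▸ ha)) (inv_mem iha)
  refine Subgroup.commutator_le.mpr fun k hk g hg => hext g hg (fun s hs => ?_) k hk
  rw [← commutatorElement_inv]
  refine inv_mem (hext s (genSet_subset C hs) (fun t ht => ?_) g hg)
  rcases hs with ⟨b, hb, rfl⟩ | ⟨u, v, hu, -, huv, rfl⟩
  · rcases ht with ⟨a, ha, rfl⟩ | ⟨u, v, hu, -, huv, rfl⟩
    · obtain ⟨h, hh, hhb⟩ := trans_top C h5 (y := (rGL Q a).val *ᵥ b)
        (fun h0 : b = 0 => hb (h0 ▸ C.zero)) (act_ne_zero fun h0 => hb (h0 ▸ C.zero))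
        (mem_iso.mp (rGL_mem C ha) b).symm
      rw [commutatorElement_def, rGL_conj C hb (rGL_mem C ha), ← hhb,
        ← rGL_conj C hb (root_le_iso C _ hh), mul_assoc h, mul_assoc h, mul_assoc (rGL Q b)]
      exact mul_mem hh (by
        simpa [mul_assoc] using hconj (rGL_mem C hb) (inv_mem hh))
    · rw [commutatorElement_def, mul_assoc (sGL Q B u v), mul_assoc (sGL Q B u v)]
      exact mul_mem (sGL_mem_root trivial trivial hu huv)
        (by simpa [mul_assoc] using
          hconj (rGL_mem C hb) (inv_mem (sGL_mem_root trivial trivial hu huv)))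
  · rw [commutatorElement_def]
    exact mul_mem (hconj (genSet_subset C ht) (sGL_mem_root trivial trivial hu huv))
      (inv_mem (sGL_mem_root trivial trivial hu huv))

theorem omegaGL_eq : Cfsg.Geo.omegaGL Q = Root Q B ⊤ := by
  rw [← comm_eq_root C h5, Cfsg.Geo.omegaGL, Subgroup.map_subtype_commutator]

omit h5 in
/-- Root elements of singular orthogonal pairs generate all Siegel elements. -/
theorem root_le_of_pairs (h5 : 5 ≤ Fintype.card ι) (H : Subgroup (GL ι F))
    (hH : ∀ u v, Q u = 0 → Q v = 0 → B u v = 0 → sGL Q B u v ∈ H) : Root Q B ⊤ ≤ H := by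
  refine (Subgroup.closure_le _).mpr ?_
  rintro _ ⟨u, a, -, -, hu, hua, rfl⟩
  by_cases hu0 : u = 0
  · have : sGL Q B u a = 1 := gl_ext fun x => by
      rw [sGL_act C hu hua, hu0, Units.val_one, Matrix.one_mulVec]
      simp
    rw [this]
    exact one_mem H
  obtain ⟨f, hf⟩ := exists_hyp C C.ndeg_top trivial hu0 hu
  let P : Submodule F (ι → F) :=
    { carrier := {a | B u a = 0 ∧ ∀ c : F, sGL Q B u (c • a) ∈ H}
      add_mem' := fun {a b} ha hb => ⟨by rw [map_add, ha.1, hb.1, add_zero], fun c => by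
        rw [smul_add, ← sGL_mul C hu (by rw [map_smul, ha.1, smul_zero])
          (by rw [map_smul, hb.1, smul_zero])]
        exact mul_mem (ha.2 c) (hb.2 c)⟩
      zero_mem' := ⟨map_zero _, fun c => by rw [smul_zero]; exact hH u 0 hu C.zero (map_zero _)⟩
      smul_mem' := fun c a ha => ⟨by rw [map_smul, ha.1, smul_zero], fun d => by
        rw [smul_smul]; exact ha.2 _⟩ }
  have hW3 : 3 ≤ finrank F (perp2 B ⊤ u f) := by
    have := hf.le_finrank C
    rw [finrank_top, finrank_fintype_fun_eq_card] at this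
    omega
  have hWP : perp2 B ⊤ u f ≤ P :=
    (span_sing C (hf.ndeg C C.ndeg_top) hW3).trans (Submodule.span_le.mpr fun w hw =>
      ⟨(mem_perp2.mp hw.1).2.1, fun c => hH u _ hu (by rw [C.smul, hw.2, mul_zero])
        (by rw [map_smul, (mem_perp2.mp hw.1).2.1, smul_zero])⟩)
  have hproj := hWP (hf.proj C (x := a) trivial)
  have := hproj.2 1
  rw [hua, zero_smul, sub_zero, one_smul, sub_eq_add_neg, ← neg_smul, sGL_add_self C hu hua] at this
  exact this

end Omega

end Cfsg.Lib.Linear.Orth
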