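import Cfsg.Prelude.Def_SporadicB
import Cfsg.Agent.Lib.Linear.OrthForms
import Cfsg.Agent.Lib.Linear.OrthTrans

/-!
# Orthogonal transvections over the field with two elements are a class of 3-transpositions
-/

set_option autoImplicit false

namespace Cfsg.Lib.Linear.Orth

open Module
open scoped Matrix

variable {ι : Type} [Fintype ι] [DecidableEq ι]
  {Q : (ι → ZMod 2) → ZMod 2} {B : LinearMap.BilinForm (ZMod 2) (ι → ZMod 2)}

theorem zmod2_cases' : ∀ a : ZMod 2, a = 0 ∨ a = 1 := by decide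

theorem rGL2_act (C : Space Q B) {v : ι → ZMod 2} (hv : Q v ≠ 0) (x : ι → ZMod 2) :
    (rGL Q v).val *ᵥ x = x + B v x • v := by
  rw [rGL_act C hv, (zmod2_cases' (Q v)).resolve_left hv, inv_one, one_mul, sub_eq_add_neg,
    ← neg_smul, CharTwo.neg_eq]

theorem rGL2_pair (C : Space Q B) {v w : ι → ZMod 2} (hv : Q v ≠ 0) (hw : Q w ≠ 0) :
    (rGL Q v * rGL Q w) ^ 2 = 1 ∨ (rGL Q v * rGL Q w) ^ 3 = 1 := by
  have hvw : rGL Q v * rGL Q w * rGL Q v = rGL Q (w + B v w • v) := by
    have := rGL_conj C hw (rGL_mem C hv)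
    rwa [rGL_inv C hv, rGL2_act C hv] at this
  rcases zmod2_cases' (B v w) with h | h
  · left
    rw [h, zero_smul, add_zero] at hvw
    calc (rGL Q v * rGL Q w) ^ 2 = (rGL Q v * rGL Q w * rGL Q v) * rGL Q w := by
          simp only [pow_succ, pow_zero, one_mul, mul_assoc]
      _ = 1 := by rw [hvw, rGL_sq C hw]
  · right
    have hwv : rGL Q w * rGL Q v * rGL Q w = rGL Q (v + B w v • w) := by
      have := rGL_conj C hv (rGL_mem C hw)
      rwa [rGL_inv C hw, rGL2_act C hw] at this
    rw [h, one_smul] at hvw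
    rw [C.symm w v, h, one_smul, add_comm] at hwv
    have hq : Q (w + v) ≠ 0 := by
      rw [C.add, (zmod2_cases' (Q v)).resolve_left hv, (zmod2_cases' (Q w)).resolve_left hw,
        C.symm w v, h]
      decide
    calc (rGL Q v * rGL Q w) ^ 3
        = (rGL Q v * rGL Q w * rGL Q v) * (rGL Q w * rGL Q v * rGL Q w) := by
          simp only [pow_succ, pow_zero, one_mul, mul_assoc]
      _ = 1 := by rw [hvw, hwv, rGL_sq C hq]

theorem rank_one_iff' (C : Space Q B) (g : GL ι (ZMod 2)) (hg : g ∈ isometryGroup (ZMod 2) Q) :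
    ((g : Matrix ι ι (ZMod 2)) - 1).rank = 1 ↔ ∃ v, Q v ≠ 0 ∧ g = rGL Q v := by
  set T : (ι → ZMod 2) →ₗ[ZMod 2] (ι → ZMod 2) :=
    Matrix.mulVecLin ((g : Matrix ι ι (ZMod 2)) - 1) with hT
  have hTx : ∀ x, g.val *ᵥ x = x + T x := by
    intro x
    rw [hT, Matrix.mulVecLin_apply, Matrix.sub_mulVec, Matrix.one_mulVec]
    abel
  show finrank (ZMod 2) (LinearMap.range T) = 1 ↔ _
  constructor
  · intro h
    obtain ⟨⟨a, ha⟩, ha0, hspan⟩ := finrank_eq_one_iff'.mp h
    have ha0' : a ≠ 0 := fun e => ha0 (Subtype.ext e)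
    choose f hf using fun x => hspan ⟨T x, LinearMap.mem_range_self T x⟩
    have hfx : ∀ x, T x = f x • a := fun x => (congrArg Subtype.val (hf x)).symm
    have hiso : ∀ x, f x ^ 2 * Q a + f x * B x a = 0 := by
      intro x
      have h2 := mem_iso.mp hg x
      rw [hTx, hfx, C.add, C.smul, map_smul, smul_eq_mul] at h2
      linear_combination h2
    obtain ⟨x0, hx0⟩ : ∃ x0, f x0 = 1 := by
      obtain ⟨x0, hx0⟩ := ha
      refine ⟨x0, (zmod2_cases' _).resolve_left fun h0 => ha0' ?_⟩
      rw [← hx0, hfx, h0, zero_smul]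
    have hlin : ∀ x y, f (x + y) = f x + f y := by
      intro x y
      have h2 : T (x + y) = (f x + f y) • a := by rw [map_add, hfx, hfx, add_smul]
      rw [hfx] at h2
      exact smul_left_injective (ZMod 2) ha0' h2
    have hQB : ∀ x, f x = 1 → B x a = Q a := fun x hx => by
      have := hiso x
      rw [hx, one_pow, one_mul, one_mul] at this
      exact (CharTwo.add_eq_zero.mp this).symm
    have hBf : ∀ x, B x a = f x * Q a := by
      intro x
      rcases zmod2_cases' (f x) with h0 | h1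
      · have h2 := hQB (x + x0) (by rw [hlin, h0, hx0, zero_add])
        rw [map_add, LinearMap.add_apply, hQB x0 hx0] at h2
        rw [h0, zero_mul]
        simpa using h2
      · rw [h1, one_mul, hQB x h1]
    have hQa : Q a ≠ 0 := fun h0 => ha0' (C.nondeg a fun u => by rw [hBf, h0, mul_zero])
    refine ⟨a, hQa, gl_ext fun x => ?_⟩
    rw [hTx, rGL2_act C hQa, hfx, C.symm a x, hBf, (zmod2_cases' (Q a)).resolve_left hQa, mul_one]
  · rintro ⟨v, hv, rfl⟩
    have hTv : ∀ x, T x = B v x • v := fun x => by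
      have := hTx x
      rw [rGL2_act C hv] at this
      exact (add_left_cancel this).symm
    have hv0 : v ≠ 0 := fun h => hv (h ▸ C.zero)
    obtain ⟨x0, hx0⟩ := C.exists_pair hv0
    have hr : LinearMap.range T = Submodule.span (ZMod 2) {v} := by
      apply le_antisymm
      · rintro _ ⟨x, rfl⟩
        rw [hTv]
        exact Submodule.smul_mem _ _ (Submodule.mem_span_singleton_self v)
      · rw [Submodule.span_singleton_le_iff_mem]
        exact ⟨x0, by rw [hTv, hx0, one_smul]⟩
    rw [hr, finrank_span_singleton hv0]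

/-- The isometry group is generated by transvections. -/
theorem iso_le_closure_rGL (C : Space Q B) (h5 : 5 ≤ Fintype.card ι) :
    isometryGroup (ZMod 2) Q ≤ Subgroup.closure {g | ∃ v, Q v ≠ 0 ∧ g = rGL Q v} := by
  rw [iso_eq_closure C, Subgroup.closure_le]
  rintro g (⟨v, hv, rfl⟩ | ⟨u, v, hu, hv, huv, rfl⟩)
  · exact Subgroup.subset_closure ⟨v, hv, rfl⟩
  · have key : ∀ a, Q a ≠ 0 → B u a = 0 →
        sGL Q B u a ∈ Subgroup.closure {g | ∃ v, Q v ≠ 0 ∧ g = rGL Q v} := fun a ha hua => by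
      obtain ⟨h1, h2⟩ := rGL_mul_rGL C ha hu hua
      rw [← h2]
      exact mul_mem (Subgroup.subset_closure ⟨a, ha, rfl⟩)
        (Subgroup.subset_closure ⟨_, h1.symm ▸ ha, rfl⟩)
    set A : Submodule (ZMod 2) (ι → ZMod 2) := LinearMap.ker (B u) ⊓ LinearMap.ker (B v)
    have hA : Fintype.card ι < 2 * finrank (ZMod 2) A := by
      have hk : ∀ w, Fintype.card ι ≤ finrank (ZMod 2) (LinearMap.ker (B w)) + 1 := fun w => by
        have := LinearMap.finrank_range_add_finrank_ker (B w)
        have h1 : finrank (ZMod 2) (LinearMap.range (B w)) ≤ 1 := by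
          have := Submodule.finrank_le (LinearMap.range (B w))
          rwa [finrank_self] at this
        rw [finrank_fintype_fun_eq_card] at this
        omega
      have h1 := Submodule.finrank_sup_add_finrank_inf_eq (LinearMap.ker (B u)) (LinearMap.ker (B v))
      have h2 := Submodule.finrank_le (LinearMap.ker (B u) ⊔ LinearMap.ker (B v))
      rw [finrank_fintype_fun_eq_card] at h2
      have := hk u
      have := hk v
      change Fintype.card ι < 2 * finrank (ZMod 2) ↥(LinearMap.ker (B u) ⊓ LinearMap.ker (B v))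
      omega
    obtain ⟨a, ha, hQa⟩ := exists_nonsing_of_lt C hA
    obtain ⟨hua, hva⟩ := Submodule.mem_inf.mp ha
    rw [LinearMap.mem_ker] at hua hva
    have hsum : a + (v + a) = v := by
      funext i
      simp only [Pi.add_apply]
      rw [add_comm (v i) (a i), ← add_assoc, CharTwo.add_self_eq_zero, zero_add]
    rw [← hsum, ← sGL_mul C hu hua (show B u (v + a) = 0 by rw [map_add, huv, hua, add_zero])]
    refine mul_mem (key a hQa hua) (key _ ?_ ?_)
    · rw [C.add, hv, hva]; simpa using hQa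
    · rw [map_add, huv, hua, add_zero]

/-- Transvections of the isometry group form a class of 3-transpositions. -/
theorem isThreeTranspositionClass_rank_one (C : Space Q B) (h5 : 5 ≤ Fintype.card ι) :
    Cfsg.IsThreeTranspositionClass {g : ↥(isometryGroup (ZMod 2) Q) |
      (((g : GL ι (ZMod 2)) : Matrix ι ι (ZMod 2)) - 1).rank = 1} := by
  set D := {g : ↥(isometryGroup (ZMod 2) Q) |
      (((g : GL ι (ZMod 2)) : Matrix ι ι (ZMod 2)) - 1).rank = 1} with hD
  have hmem : ∀ g, g ∈ D ↔ ∃ v, Q v ≠ 0 ∧ (g : GL ι (ZMod 2)) = rGL Q v :=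
    fun g => rank_one_iff' C g.1 g.2
  have hne : ∀ {v}, Q v ≠ 0 → v ≠ 0 := fun {v} h h0 => h (h0 ▸ C.zero)
  refine ⟨⟨?_, ?_⟩, ?_, ?_⟩
  · intro d hd
    obtain ⟨v, hv, he⟩ := (hmem d).mp hd
    refine orderOf_eq_prime ?_ ?_
    · apply Subtype.ext
      rw [SubgroupClass.coe_pow, he, sq, rGL_sq C hv]
      rfl
    · intro h
      rw [h, OneMemClass.coe_one] at he
      obtain ⟨x0, hx0⟩ := C.exists_pair (hne hv)
      have := rGL2_act C hv x0
      rw [← he, Units.val_one, Matrix.one_mulVec, hx0, one_smul] at this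
      exact hne hv (add_eq_left.mp this.symm)
  · intro d hd e hde
    obtain ⟨v, hv, hev⟩ := (hmem d).mp hd
    obtain ⟨w, hw, hew⟩ := (hmem e).mp hde
    rcases rGL2_pair C hv hw with h | h
    · left; apply Subtype.ext
      rw [SubgroupClass.coe_pow, Subgroup.coe_mul, hev, hew, h]; rfl
    · right; apply Subtype.ext
      rw [SubgroupClass.coe_pow, Subgroup.coe_mul, hev, hew, h]; rfl
  · obtain ⟨v, -, hv⟩ := exists_nonsing C C.ndeg_top (by
      intro h
      have := congrArg (fun S : Submodule (ZMod 2) (ι → ZMod 2) => finrank (ZMod 2) S) h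
      simp only [finrank_top, finrank_bot, finrank_fintype_fun_eq_card] at this
      omega)
    refine ⟨⟨rGL Q v, rGL_mem C hv⟩, (hmem _).mpr ⟨v, hv, rfl⟩, Set.ext fun g => ?_⟩
    change _ ↔ IsConj _ g
    rw [isConj_iff]
    constructor
    · intro hg
      obtain ⟨w, hw, he⟩ := (hmem g).mp hg
      obtain ⟨h, hh, hhv⟩ := trans_top C h5 (hne hv) (hne hw) (by
        rw [(zmod2_cases' (Q v)).resolve_left hv, (zmod2_cases' (Q w)).resolve_left hw])
      refine ⟨⟨h, root_le_iso C _ hh⟩, Subtype.ext ?_⟩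
      rw [he, ← hhv, ← rGL_conj C hv (root_le_iso C _ hh)]
      rfl
    · rintro ⟨c, hc⟩
      refine (hmem g).mpr ⟨(c : GL ι (ZMod 2)).val *ᵥ v, by rwa [mem_iso.mp c.2], ?_⟩
      rw [← hc, ← rGL_conj C hv c.2]
      rfl
  · rw [eq_top_iff]
    intro g _
    have h1 : Subgroup.closure {g | ∃ v, Q v ≠ 0 ∧ g = rGL Q v} ≤
        (Subgroup.closure D).map (isometryGroup (ZMod 2) Q).subtype := by
      rw [Subgroup.closure_le]
      rintro _ ⟨v, hv, rfl⟩
      exact ⟨⟨rGL Q v, rGL_mem C hv⟩, Subgroup.subset_closure ((hmem _).mpr ⟨v, hv, rfl⟩), rfl⟩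
    obtain ⟨g', hg', he⟩ := h1 (iso_le_closure_rGL C h5 g.2)
    rwa [show g' = g from Subtype.ext he] at hg'

end Cfsg.Lib.Linear.Orth
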