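import Cfsg.Agent.Lib.Linear.Hermitian
import Cfsg.Agent.Lib.Linear.HermStandard

/-!
# Isotropic vectors of non-degenerate Hermitian forms over finite fields

Every coset of a large subspace contains an isotropic vector, and large subspaces are spanned by
their isotropic vectors.
-/

set_option autoImplicit false

namespace Cfsg.Lib.Linear.Herm

open Module

variable {F V : Type*} [Field F] [Finite F] [AddCommGroup V] [Module F V] [FiniteDimensional F V]
  {σ : F →+* F} {B : V →ₛₗ[σ] V →ₗ[F] F}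

omit [Finite F] in
theorem exists_trace_eq (hσ : σ ≠ RingHom.id F) (hσ2 : ∀ a, σ (σ a) = a) {a : F} (ha : σ a = a) :
    ∃ x : F, x + σ x = a := by
  obtain ⟨x₀, hx₀⟩ : ∃ x : F, x + σ x ≠ 0 := by
    by_contra hc
    push Not at hc
    have h2 := hc 1
    rw [map_one] at h2
    refine hσ (RingHom.ext fun x => ?_)
    rw [RingHom.id_apply]
    linear_combination hc x - x * h2
  refine ⟨a / (x₀ + σ x₀) * x₀, ?_⟩
  rw [map_mul, map_div₀, map_add, hσ2, ha, add_comm (σ x₀) x₀, ← mul_add, div_mul_cancel₀ _ hx₀]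

theorem exists_norm_fixed (hσ : σ ≠ RingHom.id F) (hσ2 : ∀ a, σ (σ a) = a) {a : F} (ha0 : a ≠ 0)
    (ha : σ a = a) : ∃ x : F, σ x * x = a := by
  have := Fintype.ofFinite F
  obtain ⟨q, hF, hq⟩ := exists_eq_frob hσ hσ2
  obtain ⟨x, hx⟩ := exists_norm_eq hF ha0 (by rw [← hq, ha])
  exact ⟨x, by rw [hq, ← pow_succ, hx]⟩

omit [Finite F] [FiniteDimensional F V] in
theorem self_fixed (hS : B.IsSymm) (v : V) : σ (B v v) = B v v := hS.eq v v

theorem exists_iso_ne_zero (hσ : σ ≠ RingHom.id F) (hσ2 : ∀ a, σ (σ a) = a) (hS : B.IsSymm)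
    (U : Submodule F V) (hU : 2 ≤ finrank F U) : ∃ x ∈ U, x ≠ 0 ∧ B x x = 0 := by
  have hU0 : U ≠ ⊥ := fun h => by rw [h, finrank_bot] at hU; omega
  obtain ⟨a, haU, ha0⟩ := Submodule.exists_mem_ne_zero_of_ne_bot hU0
  by_cases haa : B a a = 0
  · exact ⟨a, haU, ha0, haa⟩
  obtain ⟨b, hbU, hab, hb⟩ : ∃ b ∈ U, B a b = 0 ∧ b ∉ Submodule.span F {a} := by
    by_contra hne
    push Not at hne
    have hle : U ⊓ LinearMap.ker (B a) ≤ ⊥ := by
      rintro y ⟨hyU, hy⟩
      obtain ⟨c, rfl⟩ := Submodule.mem_span_singleton.mp (hne y hyU hy)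
      have h := LinearMap.mem_ker.mp hy
      rw [map_smul, smul_eq_mul, mul_eq_zero] at h
      rw [h.resolve_right haa, zero_smul]
      exact Submodule.zero_mem _
    have h1 : finrank F ↥(U ⊓ LinearMap.ker (B a)) = 0 := by
      rw [le_bot_iff.mp hle, finrank_bot]
    have h3 := Submodule.finrank_sup_add_finrank_inf_eq U (LinearMap.ker (B a))
    have h4 := LinearMap.finrank_range_add_finrank_ker (B a)
    have h5 : finrank F (LinearMap.range (B a)) ≤ 1 := by
      simpa using Submodule.finrank_le (LinearMap.range (B a))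
    have h6 := Submodule.finrank_le (U ⊔ LinearMap.ker (B a))
    omega
  have hb0 : b ≠ 0 := fun h => hb (h ▸ Submodule.zero_mem _)
  by_cases hbb : B b b = 0
  · exact ⟨b, hbU, hb0, hbb⟩
  obtain ⟨x, hx⟩ := exists_norm_fixed hσ hσ2 (a := -(B a a / B b b))
    (neg_ne_zero.mpr (div_ne_zero haa hbb))
    (by rw [map_neg, map_div₀, self_fixed hS, self_fixed hS])
  refine ⟨a + x • b, U.add_mem haU (U.smul_mem x hbU), fun h => ?_, ?_⟩
  · rcases eq_or_ne x 0 with rfl | hx0
    · exact ha0 (by simpa using h)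
    · refine hb (Submodule.mem_span_singleton.mpr ⟨-x⁻¹, ?_⟩)
      rw [eq_neg_of_add_eq_zero_left h, smul_neg, neg_smul, neg_neg, smul_smul, inv_mul_cancel₀ hx0,
        one_smul]
  · have hba : B b a = 0 := hS.isRefl _ _ hab
    simp only [map_add, LinearMap.add_apply, LinearMap.map_smulₛₗ, LinearMap.smul_apply,
      RingHom.id_apply, smul_eq_mul, hab, hba, mul_zero, add_zero, zero_add]
    rw [← mul_assoc, mul_comm x (σ x), hx, neg_mul, div_mul_cancel₀ _ hbb, add_neg_cancel]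

theorem exists_iso_pairing (hσ : σ ≠ RingHom.id F) (hσ2 : ∀ a, σ (σ a) = a) (hS : B.IsSymm)
    (hB : B.Nondegenerate) (U : Submodule F V) (hU : finrank F V + 2 ≤ 2 * finrank F U) :
    ∃ x ∈ U, B x x = 0 ∧ ∃ y ∈ U, B x y ≠ 0 := by
  let R : Submodule F V :=
    { carrier := {x | ∀ y ∈ U, B y x = 0}
      add_mem' := fun ha hb y hy => by rw [map_add, ha y hy, hb y hy, add_zero]
      zero_mem' := fun y _ => map_zero _
      smul_mem' := fun c x hx y hy => by rw [map_smul, hx y hy, smul_zero] }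
  obtain ⟨C, hC⟩ := Submodule.exists_isCompl R
  have hR : finrank F R + finrank F U ≤ finrank F V := by
    -- `R` and `U` pair to zero
    by_contra hlt
    push Not at hlt
    obtain ⟨C', hC'⟩ := Submodule.exists_isCompl R
    let Ψ : U →ₛₗ[σ] (C' →ₗ[F] F) :=
      { toFun := fun u => (B u).comp C'.subtype
        map_add' := fun u v => by ext x; simp
        map_smul' := fun c u => by ext x; simp }
    have hinj : Function.Injective Ψ := by
      intro u v huv
      apply Subtype.ext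
      rw [← sub_eq_zero]
      refine hB.1 _ fun x => ?_
      obtain ⟨r, hr, c, hc, rfl⟩ := Submodule.mem_sup.mp
        (show x ∈ R ⊔ C' by rw [hC'.sup_eq_top]; exact Submodule.mem_top)
      have h1 : B (u : V) c = B (v : V) c := LinearMap.congr_fun huv ⟨c, hc⟩
      rw [map_sub, LinearMap.sub_apply, map_add, map_add, hr _ u.2, hr _ v.2, zero_add, zero_add,
        h1, sub_self]
    have hC'd := Submodule.finrank_add_eq_of_isCompl hC'
    have hcard : Nat.card U ≤ Nat.card (C' →ₗ[F] F) :=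
      have : Finite (C' →ₗ[F] F) := Module.finite_of_finite F
      Nat.card_le_card_of_injective Ψ hinj
    rw [Module.natCard_eq_pow_finrank (K := F) (V := U),
      Module.natCard_eq_pow_finrank (K := F) (V := C' →ₗ[F] F),
      Module.finrank_linearMap_self] at hcard
    have := (Nat.pow_le_pow_iff_right Finite.one_lt_card).mp hcard
    omega
  have hUC : 2 ≤ finrank F ↥(U ⊓ C) := by
    have h1 := Submodule.finrank_add_eq_of_isCompl hC
    have h2 := Submodule.finrank_sup_add_finrank_inf_eq U C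
    have h3 := Submodule.finrank_le (U ⊔ C)
    omega
  obtain ⟨x, ⟨hxU, hxC⟩, hx0, hxx⟩ := exists_iso_ne_zero hσ hσ2 hS (U ⊓ C) hUC
  refine ⟨x, hxU, hxx, ?_⟩
  by_contra hne
  push Not at hne
  exact hx0 ((Submodule.disjoint_def.mp hC.disjoint) x
    (fun y hy => hS.isRefl _ _ (hne y hy)) hxC)

/-- Every coset of a large subspace contains an isotropic vector. -/
theorem exists_iso_coset (hσ : σ ≠ RingHom.id F) (hσ2 : ∀ a, σ (σ a) = a) (hS : B.IsSymm)
    (hB : B.Nondegenerate) (U : Submodule F V) (hU : finrank F V + 2 ≤ 2 * finrank F U) (w₀ : V) :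
    ∃ w, B w w = 0 ∧ w - w₀ ∈ U := by
  obtain ⟨x, hxU, hxx, y, hyU, hxy⟩ := exists_iso_pairing hσ hσ2 hS hB U hU
  obtain ⟨w₁, hw₁, hxw⟩ : ∃ w₁, w₁ - w₀ ∈ U ∧ B x w₁ ≠ 0 := by
    by_cases h : B x w₀ = 0
    · exact ⟨w₀ + y, by simpa using hyU, by rwa [map_add, h, zero_add]⟩
    · exact ⟨w₀, by simp, h⟩
  obtain ⟨s, hs⟩ := exists_trace_eq hσ hσ2 (a := -(B w₁ w₁)) (by rw [map_neg, self_fixed hS])
  refine ⟨w₁ + σ (s / B x w₁) • x, ?_, ?_⟩
  · have hsw : B w₁ x = σ (B x w₁) := (hS.eq x w₁).symm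
    have hx0 : σ (B x w₁) ≠ 0 := by simpa using hxw
    simp only [map_add, LinearMap.add_apply, LinearMap.map_smulₛₗ, LinearMap.smul_apply,
      RingHom.id_apply, smul_eq_mul, hxx, mul_zero, add_zero, hsw, hσ2]
    rw [map_div₀, div_mul_cancel₀ _ hxw, div_mul_cancel₀ _ hx0]
    linear_combination hs
  · rw [add_sub_right_comm]
    exact U.add_mem hw₁ (U.smul_mem _ hxU)

theorem exists_iso_values (hσ : σ ≠ RingHom.id F) (hσ2 : ∀ a, σ (σ a) = a) (hS : B.IsSymm)
    (hB : B.Nondegenerate) {k : ℕ} (hk : 2 * k + 2 ≤ finrank F V) (s : Fin k → V) (w₀ : V) :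
    ∃ w, B w w = 0 ∧ ∀ i, B (s i) w = B (s i) w₀ := by
  let Φ : V →ₗ[F] (Fin k → F) := LinearMap.pi fun i => B (s i)
  have h4 := LinearMap.finrank_range_add_finrank_ker Φ
  have h5 : finrank F (LinearMap.range Φ) ≤ k := by
    simpa using Submodule.finrank_le (LinearMap.range Φ)
  obtain ⟨w, hw, hwU⟩ := exists_iso_coset hσ hσ2 hS hB (LinearMap.ker Φ) (by omega) w₀
  refine ⟨w, hw, fun i => ?_⟩
  have := congrFun (LinearMap.mem_ker.mp hwU) i
  simpa [Φ, sub_eq_zero] using this

/-- Isotropic vectors span every large subspace. -/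
theorem iso_span (hσ : σ ≠ RingHom.id F) (hσ2 : ∀ a, σ (σ a) = a) (hS : B.IsSymm)
    (hB : B.Nondegenerate) (U : Submodule F V) (hU : finrank F V + 2 ≤ 2 * finrank F U) :
    U ≤ Submodule.span F {w | w ∈ U ∧ B w w = 0} := by
  obtain ⟨x, hxU, hxx, y, hyU, hxy⟩ := exists_iso_pairing hσ hσ2 hS hB U hU
  set S := Submodule.span F {w | w ∈ U ∧ B w w = 0}
  have hxS : x ∈ S := Submodule.subset_span ⟨hxU, hxx⟩
  have key : ∀ w ∈ U, B x w ≠ 0 → w ∈ S := by
    intro w hw hxw
    obtain ⟨s, hs⟩ := exists_trace_eq hσ hσ2 (a := -(B w w)) (by rw [map_neg, self_fixed hS])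
    have h1 : w + σ (s / B x w) • x ∈ S := by
      refine Submodule.subset_span ⟨U.add_mem hw (U.smul_mem _ hxU), ?_⟩
      have hsw : B w x = σ (B x w) := (hS.eq x w).symm
      have hx0 : σ (B x w) ≠ 0 := by simpa using hxw
      simp only [map_add, LinearMap.add_apply, LinearMap.map_smulₛₗ, LinearMap.smul_apply,
        RingHom.id_apply, smul_eq_mul, hxx, mul_zero, add_zero, hsw, hσ2]
      rw [map_div₀, div_mul_cancel₀ _ hxw, div_mul_cancel₀ _ hx0]
      linear_combination hs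
    have h2 := S.sub_mem h1 (S.smul_mem (σ (s / B x w)) hxS)
    rwa [add_sub_cancel_right] at h2
  intro w hw
  by_cases hxw : B x w = 0
  · have h2 := S.sub_mem (key (w + y) (U.add_mem hw hyU) (by rwa [map_add, hxw, zero_add]))
      (key y hyU hxy)
    rwa [add_sub_cancel_right] at h2
  · exact key w hw hxw

end Cfsg.Lib.Linear.Herm
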