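import Mathlib

/-! Orders of stabilisers of a subspace inside a group of linear automorphisms. -/

set_option autoImplicit false

namespace Cfsg.Lib.Linear.StabCard

variable {F V : Type*} [Field F] [AddCommGroup V] [Module F V]

/-- The automorphisms stabilising `W`. -/
def stabW (W : Submodule F V) : Subgroup (V ≃ₗ[F] V) where
  carrier := {g | ∀ v, v ∈ W ↔ g v ∈ W}
  one_mem' := fun _ => Iff.rfl
  mul_mem' := fun {g h} hg hh v => (hh v).trans (hg (h v))
  inv_mem' := fun {g} hg v => by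
    rw [hg (g⁻¹ v), ← LinearEquiv.mul_apply, mul_inv_cancel]; rfl

/-- The action on the subspace. -/
noncomputable def resW (W : Submodule F V) : stabW W →* (W ≃ₗ[F] W) where
  toFun g := (g : V ≃ₗ[F] V).ofSubmodules W W (by
    refine le_antisymm ?_ fun y hy => ⟨(g : V ≃ₗ[F] V).symm y, ?_, (g : V ≃ₗ[F] V).apply_symm_apply y⟩
    · rintro _ ⟨x, hx, rfl⟩; exact (g.2 x).1 hx
    · exact (g.2 _).2 (by rwa [(g : V ≃ₗ[F] V).apply_symm_apply]))
  map_one' := LinearEquiv.ext fun _ => Subtype.ext rfl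
  map_mul' g h := LinearEquiv.ext fun _ => Subtype.ext rfl

theorem resW_apply (W : Submodule F V) (g : stabW W) (x : W) :
    ((resW W g x : W) : V) = (g : V ≃ₗ[F] V) (x : V) := rfl

/-- Stabiliser = pointwise fixer times image. -/
theorem card_stab (G : Subgroup (V ≃ₗ[F] V)) (W : Submodule F V) (Fx : Subgroup (V ≃ₗ[F] V))
    (hFx : ∀ g, g ∈ Fx ↔ g ∈ G ∧ ∀ x ∈ W, g x = x) (S : Subgroup (W ≃ₗ[F] W))
    (H : Subgroup (V ≃ₗ[F] V)) (hH : ∀ g, g ∈ H ↔ g ∈ G ∧ ∃ h : g ∈ stabW W, resW W ⟨g, h⟩ ∈ S)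
    (hsurj : ∀ σ ∈ S, ∃ g ∈ G, ∀ x : W, g (x : V) = σ x) :
    Nat.card H = Nat.card Fx * Nat.card S := by
  have hHW : H ≤ stabW W := fun g hg => ((hH g).1 hg).2.choose
  let ρ : H →* (W ≃ₗ[F] W) := (resW W).comp (Subgroup.inclusion hHW)
  have hrange : ρ.range = S := by
    ext σ
    constructor
    · rintro ⟨g, rfl⟩
      obtain ⟨-, h, hm⟩ := (hH g).1 g.2
      exact hm
    · intro hσ
      obtain ⟨g, hg, hgσ⟩ := hsurj σ hσ
      have hst : g ∈ stabW W := fun v => by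
        refine ⟨fun hv => ?_, fun hv => ?_⟩
        · rw [hgσ ⟨v, hv⟩]; exact (σ _).2
        · have := hgσ (σ.symm ⟨g v, hv⟩)
          rw [σ.apply_symm_apply] at this
          rw [← g.injective this]
          exact (σ.symm _).2
      have hres : resW W ⟨g, hst⟩ = σ := LinearEquiv.ext fun x => Subtype.ext (hgσ x)
      exact ⟨⟨g, (hH g).2 ⟨hg, hst, hres ▸ hσ⟩⟩, hres⟩
  have hker : ρ.ker = Fx.subgroupOf H := by
    ext ⟨g, hg⟩
    rw [MonoidHom.mem_ker, Subgroup.mem_subgroupOf, hFx]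
    refine ⟨fun h => ⟨((hH g).1 hg).1, fun x hx => ?_⟩, fun h => LinearEquiv.ext fun x => Subtype.ext (h.2 x x.2)⟩
    exact congrArg (fun z : W => (z : V)) (LinearEquiv.congr_fun h ⟨x, hx⟩)
  have hle : Fx ≤ H := fun g hg => by
    obtain ⟨h1, h2⟩ := (hFx g).1 hg
    have hst : g ∈ stabW W := fun v => by
      refine ⟨fun hv => by rwa [h2 v hv], fun hv => ?_⟩
      rwa [← g.injective (h2 (g v) hv)]
    refine (hH g).2 ⟨h1, hst, ?_⟩
    rw [show resW W ⟨g, hst⟩ = 1 from LinearEquiv.ext fun x => Subtype.ext (h2 x x.2)]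
    exact one_mem S
  rw [← Subgroup.card_mul_index ρ.ker, Subgroup.index_ker, hrange, hker,
    Nat.card_congr (Subgroup.subgroupOfEquivOfLe hle).toEquiv]

/-- The automorphism group of a finite vector space. -/
theorem card_aut [Fintype F] (k : ℕ) [FiniteDimensional F V] (hk : Module.finrank F V = k) :
    Nat.card (V ≃ₗ[F] V) = ∏ i : Fin k, (Fintype.card F ^ k - Fintype.card F ^ (i : ℕ)) := by
  classical
  let b := Module.finBasisOfFinrankEq F V hk
  have e : (V ≃ₗ[F] V) ≃ GL (Fin k) F :=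
    ((LinearMap.GeneralLinearGroup.generalLinearEquiv F V).symm.trans
      (Units.mapEquiv (LinearMap.toMatrixAlgEquiv b).toMulEquiv)).toEquiv
  rw [Nat.card_congr e, Matrix.card_GL_field]

end Cfsg.Lib.Linear.StabCard
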