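import Cfsg.Agent.S0837
import Cfsg.Agent.Lib.Linear.HermStandard
import Cfsg.Agent.Lib.Linear.StabCard
import Cfsg.Agent.Lib.Linear.Isotropic

/-! Orders of parabolic subgroups of unitary groups. -/

set_option autoImplicit false

namespace Cfsg.Lib.Linear.Herm

open Module
open scoped Matrix

variable {F : Type*} [Field F] [Fintype F] {q : ℕ}

/-- The order of `GU_n(q)`. -/
def guCard (q n : ℕ) : ℕ :=
  q ^ (n * (n - 1) / 2) * ∏ i ∈ Finset.range n, (if Even i then q ^ (i + 1) + 1 else q ^ (i + 1) - 1)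

theorem card_fixed (hF : Fintype.card F = q ^ 2) : Nat.card {a : F // a ^ q = a} = q := by
  classical
  have hq := two_le_q hF
  let u : Option {x : Fˣ // x ^ (q - 1) = 1} ≃ {a : F // a ^ q = a} :=
    { toFun := fun o => o.elim ⟨0, zero_pow (by omega)⟩ fun x => ⟨x.1, by
        rw [← Units.val_pow_eq_pow_val, ← pow_sub_one_mul (by omega : q ≠ 0), x.2, one_mul]⟩
      invFun := fun a => if h : a.1 = 0 then none else some ⟨Units.mk0 a.1 h, Units.ext (by
        apply mul_right_cancel₀ h
        rw [Units.val_pow_eq_pow_val, Units.val_mk0, ← pow_succ, show q - 1 + 1 = q by omega, a.2,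
          Units.val_one, one_mul])⟩
      left_inv := fun o => by
        rcases o with _ | ⟨x, hx⟩
        · simp
        · simp [x.ne_zero]
      right_inv := fun a => by
        by_cases h : a.1 = 0
        · simp [h, Subtype.ext_iff]
        · simp [h] }
  rw [← Nat.card_congr u, Finite.card_option]
  have hker : Nat.card {x : Fˣ // x ^ (q - 1) = 1} = Nat.card (powMonoidHom (q - 1) : Fˣ →* Fˣ).ker := rfl
  rw [hker, IsCyclic.card_powMonoidHom_ker (G := Fˣ), card_units_sq hF, Nat.gcd_mul_left_left]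
  omega

theorem hB_symm_zero (hF : Fintype.card F = q ^ 2) {n : ℕ} {x y : Fin n → F} (h : hB hF n x y = 0) :
    hB hF n y x = 0 := by
  rw [← (hB_isSymm hF n).eq x y, h, map_zero]

/-- The orthogonal of a subspace. -/
noncomputable def perp (hF : Fintype.card F = q ^ 2) {n : ℕ} (X : Submodule F (Fin n → F)) :
    Submodule F (Fin n → F) where
  carrier := {v | ∀ x ∈ X, hB hF n x v = 0}
  zero_mem' := fun x _ => map_zero _
  add_mem' := fun ha hb x hx => by rw [map_add, ha x hx, hb x hx, add_zero]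
  smul_mem' := fun c v hv x hx => by rw [map_smul, hv x hx, smul_zero]

theorem finrank_perp (hF : Fintype.card F = q ^ 2) {n : ℕ} (X : Submodule F (Fin n → F)) :
    finrank F (perp hF X) + finrank F X = n := by
  classical
  let b := Module.finBasis F X
  let P : (Fin n → F) →ₗ[F] (Fin (finrank F X) → F) := LinearMap.pi fun i => hB hF n ((b i : X) : Fin n → F)
  have hs : LinearMap.range P = ⊤ := by
    by_contra h
    obtain ⟨f, hf0, hf⟩ := Submodule.exists_dual_map_eq_bot_of_lt_top (lt_top_iff_ne_top.2 h) inferInstance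
    have hfP : ∀ v, f (P v) = 0 := fun v => by
      have : f (P v) ∈ Submodule.map f (LinearMap.range P) := Submodule.mem_map_of_mem (LinearMap.mem_range_self P v)
      rw [hf] at this
      exact (Submodule.mem_bot F).1 this
    refine hf0 (LinearMap.ext fun c => ?_)
    set z : X := ∑ i, frob hF (f (Pi.single i 1)) • b i with hz
    have hz0 : z = 0 := Subtype.ext ((hB_nondegenerate hF n).1 _ fun v => by
      rw [← hfP v]
      conv_rhs => rw [pi_eq_sum_univ' (P v)]
      simp only [hz, Submodule.coe_sum, Submodule.coe_smul, map_sum, LinearMap.sum_apply,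
        LinearMap.map_smulₛₗ, LinearMap.smul_apply, smul_eq_mul, frob_frob hF]
      refine Finset.sum_congr rfl fun i _ => ?_
      rw [RingHom.id_apply, show P v i = hB hF n ((b i : X) : Fin n → F) v from rfl, mul_comm])
    have hc : ∀ i, f (Pi.single i 1) = 0 := fun i => by
      have := Fintype.linearIndependent_iff.1 b.linearIndependent (fun j => frob hF (f (Pi.single j 1))) hz0 i
      rwa [map_eq_zero] at this
    rw [pi_eq_sum_univ' c, map_sum, LinearMap.zero_apply]
    exact Finset.sum_eq_zero fun i _ => by rw [map_smul, hc i, smul_zero]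
  have hker : LinearMap.ker P = perp hF X := by
    ext v
    refine ⟨fun h x hx => ?_, fun h => funext fun i => h _ (b i).2⟩
    rw [show x = ∑ i, (b.repr ⟨x, hx⟩ i) • ((b i : X) : Fin n → F) by
      have h' := congrArg Subtype.val (b.sum_repr ⟨x, hx⟩)
      rw [Submodule.coe_sum] at h'
      exact h'.symm.trans (Finset.sum_congr rfl fun i _ => Submodule.coe_smul _ _)]
    rw [map_sum, LinearMap.sum_apply]
    refine Finset.sum_eq_zero fun i _ => ?_
    rw [LinearMap.map_smulₛₗ, LinearMap.smul_apply, show hB hF n ((b i : X) : Fin n → F) v = 0 from congrFun h i,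
      smul_zero]
  have h1 := LinearMap.finrank_range_add_finrank_ker P
  rw [hs, finrank_top, finrank_fin_fun, finrank_fin_fun, hker] at h1
  omega

theorem card_fixer_step (hF : Fintype.card F = q ^ 2) {n : ℕ} (X : Submodule F (Fin n → F))
    {a : Fin n → F} (ha : a ∉ X) :
    Nat.card (fixer (hB hF n) X) =
      Nat.card {b : Fin n → F // b ∉ X ∧ (∀ x ∈ X, hB hF n x a = hB hF n x b) ∧ hB hF n a a = hB hF n b b} *
      Nat.card (fixer (hB hF n) (X ⊔ Submodule.span F {a})) := by
  classical
  have horb : MulAction.orbit (fixer (hB hF n) X) a =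
      {b : Fin n → F | b ∉ X ∧ (∀ x ∈ X, hB hF n x a = hB hF n x b) ∧ hB hF n a a = hB hF n b b} := by
    ext b
    constructor
    · rintro ⟨⟨g, hg⟩, rfl⟩
      refine ⟨fun hb => ha ?_, fun x hx => ?_, (hg.1 a a).symm⟩
      · have h2 : g (g a) = g a := hg.2 _ hb
        rw [← g.injective h2]; exact hb
      · show hB hF n x a = hB hF n x (g a)
        conv_rhs => rw [← hg.2 x hx, hg.1]
    · rintro ⟨hb, h, h'⟩
      obtain ⟨t, ht, hta⟩ := exists_map (frob_ne_id hF) (frob_frob hF) (hB_isSymm hF n) (hB_nondegenerate hF n)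
        X ha hb h h'
      exact ⟨⟨t, ht⟩, hta⟩
  have hst : MulAction.stabilizer (fixer (hB hF n) X) a =
      (fixer (hB hF n) (X ⊔ Submodule.span F {a})).subgroupOf (fixer (hB hF n) X) := by
    ext ⟨g, hg⟩
    rw [MulAction.mem_stabilizer_iff, Subgroup.mem_subgroupOf, mem_fixer]
    show g a = a ↔ _
    refine ⟨fun h => ⟨hg.1, fun x hx => ?_⟩,
      fun h => h.2 a (Submodule.mem_sup_right (Submodule.mem_span_singleton_self a))⟩
    obtain ⟨y, hy, z, hz, rfl⟩ := Submodule.mem_sup.1 hx
    obtain ⟨c, rfl⟩ := Submodule.mem_span_singleton.1 hz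
    show g (y + c • a) = y + c • a
    rw [map_add, map_smul, h, hg.2 y hy]
  have hle : fixer (hB hF n) (X ⊔ Submodule.span F {a}) ≤ fixer (hB hF n) X :=
    fun g hg => ⟨hg.1, fun x hx => hg.2 x (Submodule.mem_sup_left hx)⟩
  rw [← Subgroup.card_mul_index (MulAction.stabilizer (fixer (hB hF n) X) a), MulAction.index_stabilizer, horb,
    hst, Nat.card_congr (Subgroup.subgroupOfEquivOfLe hle).toEquiv, mul_comm]
  rfl

theorem card_fixer_nondeg (hF : Fintype.card F = q ^ 2) {n : ℕ} (X : Submodule F (Fin n → F))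
    (hX : X ⊓ perp hF X = ⊥) {j : ℕ} (hj : finrank F X + j = n) :
    Nat.card (fixer (hB hF n) X) = guCard q j := by
  classical
  set d := finrank F X with hd
  have hdn : d ≤ n := by omega
  obtain ⟨L, hL, hLi⟩ := Cfsg.Agent.S0837.exists_orth hF d X hd.symm fun u hu h => by
    have : u ∈ X ⊓ perp hF X := ⟨hu, fun x hx => hB_symm_zero hF (h x hx)⟩
    rwa [hX, Submodule.mem_bot] at this
  have hLinj : Function.Injective L := by
    rw [← LinearMap.ker_eq_bot, LinearMap.ker_eq_bot']
    intro a ha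
    refine (hB_nondegenerate hF d).1 a fun b => ?_
    rw [← hLi, ha, map_zero, LinearMap.zero_apply]
  let P : (Fin n → F) →ₗ[F] (Fin d → F) := LinearMap.funLeft F F (Fin.castLE hdn)
  let φ : headSub F n d →ₗ[F] (Fin n → F) := L ∘ₗ P ∘ₗ (headSub F n d).subtype
  have hP : ∀ x ∈ headSub F n d, ∀ y ∈ headSub F n d, hB hF d (P x) (P y) = hB hF n x y := fun x hx y hy => by
    rw [hB_apply, hB_apply, Cfsg.hermForm, Cfsg.hermForm]
    refine Fintype.sum_of_injective (Fin.castLE hdn) (Fin.castLE_injective hdn) _ _ (fun i hi => ?_) (fun i => rfl)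
    have : d ≤ (i : ℕ) := by
      by_contra h
      exact hi ⟨⟨i, by omega⟩, rfl⟩
    rw [hy i this, zero_mul]
  have hφi : Function.Injective φ := by
    intro x y h
    have h' : P x.1 = P y.1 := hLinj h
    refine Subtype.ext (funext fun i => ?_)
    by_cases hi : (i : ℕ) < d
    · exact congrFun h' ⟨i, hi⟩
    · rw [x.2 i (by omega), y.2 i (by omega)]
  obtain ⟨t, ht, htφ⟩ := witt (frob_ne_id hF) (frob_frob hF) (hB_isSymm hF n) (hB_nondegenerate hF n)
    (headSub F n d) φ hφi fun x y => by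
      show hB hF n (L (P x.1)) (L (P y.1)) = _
      rw [hLi, hP _ x.2 _ y.2]
  have himg : ∀ x, x ∈ X ↔ ∃ y ∈ headSub F n d, t y = x := by
    intro x
    constructor
    · intro hx
      obtain ⟨a, rfl⟩ := hL.symm ▸ hx
      refine ⟨fun i => if h : (i : ℕ) < d then a ⟨i, h⟩ else 0, fun i hi => dif_neg (by omega), ?_⟩
      rw [htφ ⟨_, fun i hi => dif_neg (by omega)⟩]
      show L (P (fun i : Fin n => if h : (i : ℕ) < d then a ⟨i, h⟩ else 0)) = L a
      congr 1
      funext i
      simp [P, LinearMap.funLeft_apply, i.2]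
    · rintro ⟨y, hy, rfl⟩
      rw [htφ ⟨y, hy⟩, ← hL]
      exact LinearMap.mem_range_self L _
  have hconj : Nat.card (fixer (hB hF n) X) = Nat.card (fixer (hB hF n) (headSub F n d)) := by
    refine Nat.card_congr ((MulAut.conj t⁻¹).toEquiv.subtypeEquiv fun g => ?_)
    show g ∈ fixer (hB hF n) X ↔ t⁻¹ * g * t⁻¹⁻¹ ∈ fixer (hB hF n) (headSub F n d)
    rw [inv_inv, mem_fixer, mem_fixer, Subgroup.mul_mem_cancel_right _ ht,
      Subgroup.mul_mem_cancel_left _ (inv_mem ht)]
    refine and_congr_right fun _ => ⟨fun h y hy => ?_, fun h x hx => ?_⟩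
    · rw [LinearEquiv.mul_apply, LinearEquiv.mul_apply, h _ ((himg _).2 ⟨y, hy, rfl⟩)]
      exact t.symm_apply_apply y
    · obtain ⟨y, hy, rfl⟩ := (himg x).1 hx
      have h1 := congrArg t (h y hy)
      rw [LinearEquiv.mul_apply, LinearEquiv.mul_apply] at h1
      exact (t.apply_symm_apply (g (t y))).symm.trans h1
  rw [hconj, card_fixer_head hF n j d hj, prod_N hF]
  rfl

theorem card_fixer_radical (hF : Fintype.card F = q ^ 2) {n : ℕ} :
    ∀ (r : ℕ) (X : Submodule F (Fin n → F)), finrank F ↥(X ⊓ perp hF X) = r →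
      ∀ j, finrank F X + r + j = n →
      Nat.card (fixer (hB hF n) X) =
        q ^ (∑ i ∈ Finset.range r, (2 * (n - (finrank F X + i)) - 1)) * guCard q j := by
  classical
  have hq := two_le_q hF
  intro r
  induction r with
  | zero =>
    intro X hr j hj
    rw [card_fixer_nondeg hF X (Submodule.finrank_eq_zero.1 hr) (j := j) (by omega), Finset.sum_range_zero,
      pow_zero, one_mul]
  | succ r ih =>
    intro X hr j hj
    obtain ⟨e, he, he0⟩ := Submodule.exists_mem_ne_zero_of_ne_bot
      (fun h : X ⊓ perp hF X = ⊥ => by rw [h, finrank_bot] at hr; omega)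
    obtain ⟨f, hef⟩ : ∃ f, hB hF n e f = 1 := by
      obtain ⟨u, hu⟩ : ∃ u, hB hF n e u ≠ 0 := by
        by_contra hc
        push Not at hc
        exact he0 ((hB_nondegenerate hF n).1 e hc)
      exact ⟨(hB hF n e u)⁻¹ • u, by rw [map_smul, smul_eq_mul, inv_mul_cancel₀ hu]⟩
    have heX : ∀ x ∈ X, hB hF n e x = 0 := fun x hx => hB_symm_zero hF (he.2 x hx)
    have hfX : f ∉ X := fun h => one_ne_zero (hef.symm.trans (heX f h))
    have hX1 : finrank F ↥(X ⊔ Submodule.span F {f}) = finrank F ↥X + 1 :=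
      Submodule.finrank_sup_span_singleton hfX
    have hrad : finrank F ↥((X ⊔ Submodule.span F {f}) ⊓ perp hF (X ⊔ Submodule.span F {f})) = r := by
      let P : ↥(X ⊓ perp hF X) →ₗ[F] F := (hB hF n f).comp (X ⊓ perp hF X).subtype
      have heq : (X ⊔ Submodule.span F {f}) ⊓ perp hF (X ⊔ Submodule.span F {f}) =
          (LinearMap.ker P).map (X ⊓ perp hF X).subtype := by
        ext z
        constructor
        · rintro ⟨hz, hzp⟩
          obtain ⟨x, hx, y, hy, rfl⟩ := Submodule.mem_sup.1 hz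
          obtain ⟨c, rfl⟩ := Submodule.mem_span_singleton.1 hy
          have h1 : hB hF n e (x + c • f) = 0 := hzp e (Submodule.mem_sup_left he.1)
          rw [map_add, map_smul, heX x hx, hef, smul_eq_mul, mul_one, zero_add] at h1
          subst h1
          rw [zero_smul, add_zero] at hzp ⊢
          have hx' : x ∈ X ⊓ perp hF X := ⟨hx, fun y hy => hzp y (Submodule.mem_sup_left hy)⟩
          exact ⟨⟨x, hx'⟩, hzp f (Submodule.mem_sup_right (Submodule.mem_span_singleton_self f)), rfl⟩
        · rintro ⟨⟨x, hx⟩, hxk, rfl⟩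
          refine ⟨Submodule.mem_sup_left hx.1, fun y hy => ?_⟩
          obtain ⟨a, ha, b, hb, rfl⟩ := Submodule.mem_sup.1 hy
          obtain ⟨c, rfl⟩ := Submodule.mem_span_singleton.1 hb
          have h1 : hB hF n a x = 0 := hx.2 a ha
          have h2 : hB hF n f x = 0 := hxk
          show hB hF n (a + c • f) x = 0
          rw [map_add, LinearMap.map_smulₛₗ, LinearMap.add_apply, LinearMap.smul_apply, h1, h2, smul_zero,
            add_zero]
      rw [heq, Submodule.finrank_map_subtype_eq]
      have hs : Function.Surjective P := fun a => ⟨a • ⟨e, he⟩, by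
        have : hB hF n f e = 1 := by rw [← (hB_isSymm hF n).eq e f, hef, map_one]
        simp [P, this]⟩
      have h1 := LinearMap.finrank_range_add_finrank_ker P
      rw [LinearMap.range_eq_top.2 hs, finrank_top, finrank_self, hr] at h1
      omega
    have horb : Nat.card {b : Fin n → F // b ∉ X ∧ (∀ x ∈ X, hB hF n x f = hB hF n x b) ∧
        hB hF n f f = hB hF n b b} * q = (q ^ 2) ^ (n - finrank F X) := by
      have hfe : hB hF n f e = 1 := by rw [← (hB_isSymm hF n).eq e f, hef, map_one]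
      have hee : hB hF n e e = 0 := heX e he.1
      have hfix : ∀ v, frob hF (hB hF n v v) = hB hF n v v := fun v => (hB_isSymm hF n).eq v v
      let D : ↥(perp hF X) → {a : F // a ^ q = a} := fun y => ⟨hB hF n (f + y) (f + y) - hB hF n f f, by
        rw [← frob_apply hF, map_sub, hfix, hfix]⟩
      have hsec : ∀ a : {a : F // a ^ q = a}, ∃ t : F, t + frob hF t = a.1 := fun a => by
        obtain ⟨t, ht⟩ := exists_trace_eq (frob_ne_id hF) (frob_frob hF) (a := a.1) (by rw [frob_apply hF]; exact a.2)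
        exact ⟨t, ht⟩
      choose s hs using hsec
      have hshift : ∀ (y : ↥(perp hF X)) (t : F),
          hB hF n (f + ((y : Fin n → F) + t • e)) (f + ((y : Fin n → F) + t • e)) =
            hB hF n (f + y) (f + y) + (t + frob hF t) := fun y t => by
        have h1 : hB hF n e (y : Fin n → F) = 0 := y.2 e he.1
        simp only [map_add, map_smul, LinearMap.map_smulₛₗ, LinearMap.add_apply, LinearMap.smul_apply,
          smul_eq_mul, hef, hfe, hee, h1, hB_symm_zero hF h1, mul_zero, mul_one, add_zero]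
        ring
      have hte : ∀ t : F, t • e ∈ perp hF X := fun t => (perp hF X).smul_mem t he.2
      let eqv : ↥(perp hF X) ≃ {b : Fin n → F // b ∉ X ∧ (∀ x ∈ X, hB hF n x f = hB hF n x b) ∧
          hB hF n f f = hB hF n b b} × {a : F // a ^ q = a} :=
        { toFun := fun y => (⟨f + ((y : Fin n → F) + (-s (D y)) • e), fun hmem => by
              have h1 := heX _ hmem
              have h2 : hB hF n e ((y : Fin n → F) + (-s (D y)) • e) = 0 :=
                ((perp hF X).add_mem y.2 (hte _)) e he.1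
              rw [map_add, h2, hef, add_zero] at h1
              exact one_ne_zero h1,
            fun x hx => by
              have : hB hF n x ((y : Fin n → F) + (-s (D y)) • e) = 0 := ((perp hF X).add_mem y.2 (hte _)) x hx
              rw [map_add, this, add_zero],
            by
              rw [hshift, map_neg, ← neg_add, hs]
              show _ = _ + -(hB hF n (f + y) (f + y) - hB hF n f f)
              ring⟩, D y)
          invFun := fun p => ⟨(p.1.1 - f) + s p.2 • e, (perp hF X).add_mem (fun x hx => by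
            rw [map_sub, p.1.2.2.1 x hx, sub_self]) (hte _)⟩
          left_inv := fun y => Subtype.ext (by
            show (f + ((y : Fin n → F) + (-s (D y)) • e) - f) + s (D y) • e = y
            rw [neg_smul]; abel)
          right_inv := fun p => by
            have hy : (p.1.1 - f) ∈ perp hF X := fun x hx => by rw [map_sub, p.1.2.2.1 x hx, sub_self]
            have hD : D ⟨(p.1.1 - f) + s p.2 • e, (perp hF X).add_mem hy (hte _)⟩ = p.2 := Subtype.ext (by
              show hB hF n _ _ - hB hF n f f = p.2.1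
              rw [hshift ⟨_, hy⟩ (s p.2), hs]
              show hB hF n (f + (p.1.1 - f)) (f + (p.1.1 - f)) + _ - _ = _
              rw [add_sub_cancel, ← p.1.2.2.2]; ring)
            refine Prod.ext (Subtype.ext ?_) hD
            show f + (((p.1.1 - f) + s p.2 • e) + (-s (D _)) • e) = p.1.1
            rw [hD, neg_smul]; abel }
      have h1 := Nat.card_congr eqv
      have h2 : Nat.card ↥(perp hF X) = (q ^ 2) ^ (n - finrank F X) := by
        rw [Module.natCard_eq_pow_finrank (K := F), Nat.card_eq_fintype_card, hF]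
        congr 1
        have := finrank_perp hF X
        omega
      rw [← h2, h1, Nat.card_prod, card_fixed hF]
    have horb' : Nat.card {b : Fin n → F // b ∉ X ∧ (∀ x ∈ X, hB hF n x f = hB hF n x b) ∧
        hB hF n f f = hB hF n b b} = q ^ (2 * (n - finrank F X) - 1) := by
      apply Nat.eq_of_mul_eq_mul_right (show 0 < q by omega)
      rw [horb, ← pow_mul, ← pow_succ]
      congr 1
      omega
    rw [card_fixer_step hF X hfX, horb', ih _ hrad j (by omega), hX1, ← mul_assoc, ← pow_add]
    congr 2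
    rw [Finset.sum_range_succ' (fun i => 2 * (n - (finrank F ↥X + i)) - 1), Nat.add_zero, add_comm]
    congr 1
    exact Finset.sum_congr rfl fun i _ => by rw [Nat.add_assoc, Nat.add_comm 1 i]

/-- The fixer of a totally isotropic subspace. -/
theorem card_fixer_isotropic (hF : Fintype.card F = q ^ 2) {n k : ℕ} (hk : 2 * k ≤ n)
    {W : Submodule F (Fin n → F)} (hW : finrank F W = k) (hWi : ∀ u ∈ W, ∀ v ∈ W, hB hF n u v = 0) :
    Nat.card (fixer (hB hF n) W) = q ^ (k * (2 * n - 3 * k)) * guCard q (n - 2 * k) := by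
  have hrad : W ⊓ perp hF W = W := inf_eq_left.2 fun x hx y hy => hWi y hy x hx
  rw [card_fixer_radical hF k W (by rw [hrad, hW]) (n - 2 * k) (by omega), hW]
  congr 2
  obtain ⟨j, rfl⟩ := Nat.exists_eq_add_of_le hk
  have h : ∀ t, t ≤ k → ∑ i ∈ Finset.range t, (2 * (2 * k + j - (k + i)) - 1) + t * t = t * (2 * k + 2 * j) := by
    intro t
    induction t with
    | zero => simp
    | succ t ih =>
      intro ht
      have := ih (by omega)
      rw [Finset.sum_range_succ]
      obtain ⟨d, hd⟩ := Nat.exists_eq_add_of_le (show t + 1 ≤ k by omega)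
      rw [show 2 * (2 * k + j - (k + t)) - 1 = 2 * j + 2 * d + 1 by omega]
      rw [hd] at this ⊢
      nlinarith
  have h1 := h k le_rfl
  rw [show 2 * (2 * k + j) - 3 * k = k + 2 * j by omega]
  nlinarith

/-- The stabiliser of a totally isotropic subspace in the isometry group. -/
theorem card_stab_isotropic (hF : Fintype.card F = q ^ 2) {n k : ℕ} (hk : 2 * k ≤ n)
    {W : Submodule F (Fin n → F)} (hW : finrank F W = k) (hWi : ∀ u ∈ W, ∀ v ∈ W, hB hF n u v = 0) :
    Nat.card ↥(iso (hB hF n) ⊓ StabCard.stabW W) =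
      q ^ (k * (2 * n - 3 * k)) * guCard q (n - 2 * k) * ∏ i : Fin k, ((q ^ 2) ^ k - (q ^ 2) ^ (i : ℕ)) := by
  rw [StabCard.card_stab (iso (hB hF n)) W (fixer (hB hF n) W) (fun g => mem_fixer) ⊤
    (iso (hB hF n) ⊓ StabCard.stabW W)
    (fun g => ⟨fun h => ⟨h.1, h.2, trivial⟩, fun ⟨h1, h2, _⟩ => ⟨h1, h2⟩⟩)
    (fun σ _ => witt (frob_ne_id hF) (frob_frob hF) (hB_isSymm hF n) (hB_nondegenerate hF n) W
      (W.subtype ∘ₗ (σ : W →ₗ[F] W)) (W.injective_subtype.comp σ.injective) fun x y => by
        show hB hF n ((σ x : W) : Fin n → F) ((σ y : W) : Fin n → F) = _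
        rw [hWi _ (σ x).2 _ (σ y).2, hWi _ x.2 _ y.2]),
    Subgroup.card_top, StabCard.card_aut k hW, hF, card_fixer_isotropic hF hk hW hWi]

/-- The number of totally isotropic subspaces of a given dimension. -/
theorem card_isotropic_mul (hF : Fintype.card F = q ^ 2) {n k : ℕ} (hk : 2 * k ≤ n)
    {W : Submodule F (Fin n → F)} (hW : finrank F W = k) (hWi : ∀ u ∈ W, ∀ v ∈ W, hB hF n u v = 0) :
    Nat.card {U : Submodule F (Fin n → F) // finrank F U = k ∧ ∀ u ∈ U, ∀ v ∈ U, hB hF n u v = 0} *
      (q ^ (k * (2 * n - 3 * k)) * guCard q (n - 2 * k) * ∏ i : Fin k, ((q ^ 2) ^ k - (q ^ 2) ^ (i : ℕ))) =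
      guCard q n := by
  classical
  set G := iso (hB hF n)
  set S := (StabCard.stabW W).subgroupOf G
  have hS : Nat.card S = q ^ (k * (2 * n - 3 * k)) * guCard q (n - 2 * k) *
      ∏ i : Fin k, ((q ^ 2) ^ k - (q ^ 2) ^ (i : ℕ)) := by
    rw [← card_stab_isotropic hF hk hW hWi]
    exact Nat.card_congr
      { toFun := fun g => ⟨g.1.1, g.1.2, g.2⟩
        invFun := fun g => ⟨⟨g.1, g.2.1⟩, g.2.2⟩
        left_inv := fun g => rfl
        right_inv := fun g => rfl }
  let f : G → {U : Submodule F (Fin n → F) // finrank F U = k ∧ ∀ u ∈ U, ∀ v ∈ U, hB hF n u v = 0} :=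
    fun g => ⟨W.map ((g : (Fin n → F) ≃ₗ[F] (Fin n → F)) : (Fin n → F) →ₗ[F] (Fin n → F)),
      (LinearEquiv.finrank_map_eq _ W).trans hW, by
        rintro _ ⟨a, ha, rfl⟩ _ ⟨b, hb, rfl⟩
        exact (g.2 a b).trans (hWi a ha b hb)⟩
  have hf : ∀ g h, f g = f h ↔ g⁻¹ * h ∈ S := fun g h => by
    rw [Subgroup.mem_subgroupOf]
    constructor
    · intro e v
      have e' : W.map ((g : (Fin n → F) ≃ₗ[F] (Fin n → F)) : (Fin n → F) →ₗ[F] (Fin n → F)) =
          W.map ((h : (Fin n → F) ≃ₗ[F] (Fin n → F)) : (Fin n → F) →ₗ[F] (Fin n → F)) := congrArg Subtype.val e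
      refine ⟨fun hv => ?_, fun hv => ?_⟩
      · have hm := Submodule.mem_map_of_mem (f := ((h : (Fin n → F) ≃ₗ[F] (Fin n → F)) : (Fin n → F) →ₗ[F] (Fin n → F))) hv
        rw [← e'] at hm
        obtain ⟨w, hw, hwv⟩ := hm
        show (g : (Fin n → F) ≃ₗ[F] (Fin n → F)).symm ((h : (Fin n → F) ≃ₗ[F] (Fin n → F)) v) ∈ W
        rw [← show (g : (Fin n → F) ≃ₗ[F] (Fin n → F)) w = (h : (Fin n → F) ≃ₗ[F] (Fin n → F)) v from hwv,
          LinearEquiv.symm_apply_apply]
        exact hw
      · have hv' : (g : (Fin n → F) ≃ₗ[F] (Fin n → F)).symm ((h : (Fin n → F) ≃ₗ[F] (Fin n → F)) v) ∈ W := hv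
        have hm := Submodule.mem_map_of_mem (f := ((g : (Fin n → F) ≃ₗ[F] (Fin n → F)) : (Fin n → F) →ₗ[F] (Fin n → F))) hv'
        rw [e'] at hm
        obtain ⟨w, hw, hwv⟩ := hm
        have : (h : (Fin n → F) ≃ₗ[F] (Fin n → F)) w = (h : (Fin n → F) ≃ₗ[F] (Fin n → F)) v := by
          rw [show (h : (Fin n → F) ≃ₗ[F] (Fin n → F)) w = _ from hwv]
          exact LinearEquiv.apply_symm_apply _ _
        rw [← (h : (Fin n → F) ≃ₗ[F] (Fin n → F)).injective this]
        exact hw
    · intro hm
      refine Subtype.ext (le_antisymm ?_ ?_)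
      · rintro _ ⟨w, hw, rfl⟩
        refine ⟨(h : (Fin n → F) ≃ₗ[F] (Fin n → F)).symm ((g : (Fin n → F) ≃ₗ[F] (Fin n → F)) w), ?_, ?_⟩
        · apply (hm _).2
          have h1 := LinearEquiv.apply_symm_apply (h : (Fin n → F) ≃ₗ[F] (Fin n → F)) ((g : (Fin n → F) ≃ₗ[F] (Fin n → F)) w)
          have h2 := LinearEquiv.symm_apply_apply (g : (Fin n → F) ≃ₗ[F] (Fin n → F)) w
          show (g : (Fin n → F) ≃ₗ[F] (Fin n → F)).symm ((h : (Fin n → F) ≃ₗ[F] (Fin n → F)) ((h : (Fin n → F) ≃ₗ[F] (Fin n → F)).symm ((g : (Fin n → F) ≃ₗ[F] (Fin n → F)) w))) ∈ W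
          rw [h1, h2]
          exact hw
        · exact LinearEquiv.apply_symm_apply _ _
      · rintro _ ⟨w, hw, rfl⟩
        exact ⟨_, (hm w).1 hw, LinearEquiv.apply_symm_apply _ _⟩
  have hsurj : Function.Surjective f := fun U => by
    obtain ⟨U, hU, hUi⟩ := U
    obtain ⟨e⟩ := FiniteDimensional.nonempty_linearEquiv_of_finrank_eq (hW.trans hU.symm)
    obtain ⟨t, ht, htx⟩ := witt (frob_ne_id hF) (frob_frob hF) (hB_isSymm hF n) (hB_nondegenerate hF n) W
      (U.subtype ∘ₗ (e : W →ₗ[F] U)) (U.injective_subtype.comp e.injective) fun x y => by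
        show hB hF n ((e x : U) : Fin n → F) ((e y : U) : Fin n → F) = _
        rw [hUi _ (e x).2 _ (e y).2, hWi _ x.2 _ y.2]
    refine ⟨⟨t, ht⟩, Subtype.ext (Submodule.eq_of_le_of_finrank_eq ?_ ?_)⟩
    · rintro _ ⟨w, hw, rfl⟩
      show t w ∈ U
      rw [htx ⟨w, hw⟩]
      exact (e ⟨w, hw⟩).2
    · exact ((LinearEquiv.finrank_map_eq _ W).trans hW).trans hU.symm
  let f' : G ⧸ S → _ := Quotient.lift f fun a b hab =>
    (hf a b).2 (QuotientGroup.leftRel_apply.1 hab)
  have hbij : Function.Bijective f' := by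
    refine ⟨fun a b hab => ?_, fun U => ?_⟩
    · induction a using QuotientGroup.induction_on
      induction b using QuotientGroup.induction_on
      exact QuotientGroup.eq.2 ((hf _ _).1 hab)
    · obtain ⟨g, hg⟩ := hsurj U
      exact ⟨g, hg⟩
  rw [← hS, ← Nat.card_congr (Equiv.ofBijective f' hbij), ← Subgroup.index_eq_card, mul_comm,
    Subgroup.card_mul_index, card_iso_hB hF n]
  rfl

end Cfsg.Lib.Linear.Herm
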