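import Cfsg.Agent.Lib.Linear.TransvectionGL

/-!
# Subgroups of `GL` containing transvections

The set of transvections in a subgroup is closed under conjugation, sums with common centre or
axis, and the commutator rule `(z, a), (w, b) ↦ (z, (a ⬝ᵥ w) • b)` when `b ⬝ᵥ z = 0`.
These are the tools for maximality proofs of subgroups containing transvections.
-/

set_option autoImplicit false

namespace Cfsg.Lib.Linear.TVec

open scoped Matrix

variable {ι : Type} [Fintype ι] [DecidableEq ι] {F : Type*} [Field F] {L : Subgroup (GL ι F)}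

/-- The transvection with centre `z` and axis vector `a` lies in `L`. -/
def InT (L : Subgroup (GL ι F)) (z a : ι → F) : Prop :=
  ∃ h : a ⬝ᵥ z = 0, tv z a h ∈ L

/-- All transvections with centre `z` lie in `L`. -/
def Full (L : Subgroup (GL ι F)) (z : ι → F) : Prop :=
  ∀ a : ι → F, a ⬝ᵥ z = 0 → InT L z a

theorem tvMat_mul_left (z w b : ι → F) (hw : b ⬝ᵥ w = 0) :
    tvMat z b * tvMat w b = tvMat (z + w) b := by
  rw [tvMat, tvMat, tvMat, add_mul, one_mul, mul_add, mul_one, Matrix.vecMulVec_mul_vecMulVec,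
    hw, zero_smul, Matrix.add_vecMulVec]
  simp only [Matrix.vecMulVec_zero, add_zero]
  abel

theorem tvMat_mul_right (z a b : ι → F) (ha : a ⬝ᵥ z = 0) :
    tvMat z a * tvMat z b = tvMat z (a + b) := by
  rw [tvMat, tvMat, tvMat, add_mul, one_mul, mul_add, mul_one, Matrix.vecMulVec_mul_vecMulVec,
    ha, zero_smul, Matrix.vecMulVec_add]
  simp only [Matrix.vecMulVec_zero, add_zero]
  abel

theorem tvMat_zero_left (a : ι → F) : tvMat (0 : ι → F) a = 1 := by
  rw [tvMat, Matrix.zero_vecMulVec, add_zero]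

theorem tvMat_zero_right (z : ι → F) : tvMat z (0 : ι → F) = 1 := by
  rw [tvMat, Matrix.vecMulVec_zero, add_zero]

theorem inT_zero_left (a : ι → F) : InT L 0 a :=
  ⟨dotProduct_zero a, by
    convert L.one_mem
    exact Units.ext (by rw [coe_tv, tvMat_zero_left, Units.val_one])⟩

theorem inT_zero_right (z : ι → F) : InT L z 0 :=
  ⟨zero_dotProduct z, by
    convert L.one_mem
    exact Units.ext (by rw [coe_tv, tvMat_zero_right, Units.val_one])⟩

theorem inT_add_right {z a b : ι → F} (ha : InT L z a) (hb : InT L z b) : InT L z (a + b) := by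
  obtain ⟨ha, ha'⟩ := ha
  obtain ⟨hb, hb'⟩ := hb
  refine ⟨by rw [add_dotProduct, ha, hb, add_zero], ?_⟩
  convert L.mul_mem ha' hb'
  exact Units.ext (by rw [Units.val_mul, coe_tv, coe_tv, coe_tv, tvMat_mul_right _ _ _ ha])

theorem inT_add_left {z w a : ι → F} (hz : InT L z a) (hw : InT L w a) : InT L (z + w) a := by
  obtain ⟨hz, hz'⟩ := hz
  obtain ⟨hw, hw'⟩ := hw
  refine ⟨by rw [dotProduct_add, hz, hw, add_zero], ?_⟩
  convert L.mul_mem hz' hw'
  exact Units.ext (by rw [Units.val_mul, coe_tv, coe_tv, coe_tv, tvMat_mul_left _ _ _ hw])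

theorem inT_smul_left {z a : ι → F} {c : F} (h : InT L z (c • a)) : InT L (c • z) a := by
  obtain ⟨h, h'⟩ := h
  rw [smul_dotProduct, ← dotProduct_smul] at h
  refine ⟨h, ?_⟩
  convert h' using 1
  exact Units.ext (by rw [coe_tv, coe_tv, tvMat_smul])

theorem inT_smul_right {z a : ι → F} {c : F} (h : InT L (c • z) a) : InT L z (c • a) := by
  obtain ⟨h, h'⟩ := h
  rw [dotProduct_smul, ← smul_dotProduct] at h
  refine ⟨h, ?_⟩
  convert h' using 1
  exact Units.ext (by rw [coe_tv, coe_tv, tvMat_smul])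

theorem inT_neg {z a : ι → F} (h : InT L z a) : InT L z (-a) := by
  obtain ⟨h, h'⟩ := h
  refine ⟨by rw [neg_dotProduct, h, neg_zero], ?_⟩
  convert L.inv_mem h'
  refine eq_inv_of_mul_eq_one_left (Units.ext ?_)
  rw [Units.val_mul, coe_tv, coe_tv, tvMat_mul_right _ _ _ (by rw [neg_dotProduct, h, neg_zero]),
    neg_add_cancel, tvMat_zero_right, Units.val_one]

theorem dotProduct_vecMul_inv (g : GL ι F) (a v : ι → F) :
    (a ᵥ* ((g⁻¹ : GL ι F) : Matrix ι ι F)) ⬝ᵥ ((g : Matrix ι ι F) *ᵥ v) = a ⬝ᵥ v := by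
  rw [← Matrix.dotProduct_mulVec, Matrix.mulVec_mulVec, ← Units.val_mul, inv_mul_cancel,
    Units.val_one, Matrix.one_mulVec]

theorem inT_conj {g : GL ι F} (hg : g ∈ L) {z a : ι → F} (h : InT L z a) :
    InT L ((g : Matrix ι ι F) *ᵥ z) (a ᵥ* ((g⁻¹ : GL ι F) : Matrix ι ι F)) := by
  obtain ⟨h, h'⟩ := h
  have h0 : (a ᵥ* ((g⁻¹ : GL ι F) : Matrix ι ι F)) ⬝ᵥ ((g : Matrix ι ι F) *ᵥ z) = 0 := by
    rw [dotProduct_vecMul_inv, h]
  refine ⟨h0, ?_⟩
  rw [tv_conj g z _ h0]
  refine L.mul_mem (L.mul_mem hg ?_) (L.inv_mem hg)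
  convert h' using 1
  refine Units.ext ?_
  rw [coe_tv, coe_tv, Matrix.vecMul_vecMul, ← Units.val_mul, inv_mul_cancel, Units.val_one,
    Matrix.vecMul_one]

/-- The commutator rule. -/
theorem inT_comm {z a w b : ι → F} (ha : InT L z a) (hb : InT L w b) (hbz : b ⬝ᵥ z = 0) :
    InT L z ((a ⬝ᵥ w) • b) := by
  obtain ⟨ha, ha'⟩ := ha
  obtain ⟨hb, hb'⟩ := hb
  set A := tv z a ha
  set B := tv w b hb
  have hbA : b ᵥ* ((A⁻¹ : GL ι F) : Matrix ι ι F) = b := by
    have h1 : b ᵥ* (A : Matrix ι ι F) = b := by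
      rw [coe_tv, tvMat, Matrix.vecMul_add, Matrix.vecMul_one, Matrix.vecMul_vecMulVec, hbz,
        zero_smul, add_zero]
    calc b ᵥ* ((A⁻¹ : GL ι F) : Matrix ι ι F)
        = (b ᵥ* (A : Matrix ι ι F)) ᵥ* ((A⁻¹ : GL ι F) : Matrix ι ι F) := by rw [h1]
      _ = b := by rw [Matrix.vecMul_vecMul, ← Units.val_mul, mul_inv_cancel, Units.val_one,
          Matrix.vecMul_one]
  have h1 := inT_conj ha' (L := L) ⟨hb, hb'⟩
  rw [hbA, coe_tv, tvMat_mulVec] at h1
  have h2 := inT_add_left h1 (inT_smul_left (c := (-1 : F))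
    (by rw [neg_smul, one_smul]; exact inT_neg ⟨hb, hb'⟩) : InT L ((-1 : F) • w) b)
  rw [neg_smul, one_smul, add_neg_cancel_comm] at h2
  exact inT_smul_right h2

theorem full_zero : Full L (0 : ι → F) := fun a _ => inT_zero_left a

theorem full_mulVec {g : GL ι F} (hg : g ∈ L) {z : ι → F} (hz : Full L z) :
    Full L ((g : Matrix ι ι F) *ᵥ z) := by
  intro a ha
  rw [Matrix.dotProduct_mulVec] at ha
  have h := inT_conj hg (hz _ ha)
  rwa [Matrix.vecMul_vecMul, ← Units.val_mul, mul_inv_cancel, Units.val_one,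
    Matrix.vecMul_one] at h

theorem SL_le_of_full (h : ∀ z : ι → F, Full L z) : Cfsg.Geo.specialLinear ι F ≤ L :=
  SL_le_of_tv_mem L fun z a ha => (h z a ha).2

theorem isMaximalIn_of_SL_le {N : Subgroup (GL ι F)} (hlt : N < Cfsg.Geo.specialLinear ι F)
    (h : ∀ L : Subgroup (GL ι F), N ≤ L → L ≤ Cfsg.Geo.specialLinear ι F →
      (∃ g ∈ L, g ∉ N) → ∀ z : ι → F, Full L z) :
    Cfsg.Geo.IsMaximalIn (Cfsg.Geo.specialLinear ι F) N := by
  refine ⟨hlt, fun L hNL hLS => ?_⟩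
  by_cases hLN : L ≤ N
  · exact Or.inl (le_antisymm hLN hNL)
  · exact Or.inr (le_antisymm hLS (SL_le_of_full (h L hNL hLS (SetLike.not_le_iff_exists.mp hLN))))

end Cfsg.Lib.Linear.TVec
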