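import Cfsg.Agent.Lib.Linear.CanonicalForm

/-!
# Determinants of elements centralising a matrix

If `A` has a block `F[X]/(p ^ e)` then every `e`th power of a unit is the determinant of a matrix commuting with `A`.
-/

set_option autoImplicit false

universe u

namespace Cfsg.Lib.Linear.CentralizerDet

open Polynomial Cfsg.Lib

/-- The determinant of `h(M)` in terms of the characteristic polynomial of `M`, over a field where `h` splits. -/
theorem det_aeval_prod {K : Type*} [Field K] {m : Type*} [Fintype m] [DecidableEq m] (M : Matrix m m K)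
    (s : Multiset K) : (aeval M ((s.map fun a => X - C a).prod)).det =
      (s.map fun a => (-1) ^ Fintype.card m * M.charpoly.eval a).prod := by
  induction s using Multiset.induction_on with
  | empty => simp
  | cons a s ih =>
    simp only [Multiset.map_cons, Multiset.prod_cons]
    rw [map_mul, Matrix.det_mul, ih]
    congr 1
    rw [map_sub, aeval_X, aeval_C, Matrix.eval_charpoly, ← Matrix.det_neg, neg_sub]
    rfl

variable {F : Type u} [Field F]

/-- The determinant of multiplication by `h` on `F[X]/(f)`, in an algebraic closure. -/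
noncomputable def res (f h : F[X]) : AlgebraicClosure F :=
  algebraMap F (AlgebraicClosure F) h.leadingCoeff ^ f.natDegree *
    ((h.map (algebraMap F (AlgebraicClosure F))).roots.map fun a =>
      (-1) ^ f.natDegree * (f.map (algebraMap F (AlgebraicClosure F))).eval a).prod

theorem norm_mk {f : F[X]} (hf : f.Monic) (h : F[X]) :
    algebraMap F (AlgebraicClosure F) (Algebra.norm F (AdjoinRoot.mk f h)) = res f h := by
  classical
  let φ := algebraMap F (AlgebraicClosure F)
  let pb := AdjoinRoot.powerBasis' hf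
  let M := Algebra.leftMulMatrix pb.basis (AdjoinRoot.root f)
  have hM : M.charpoly = f := by
    show (Algebra.leftMulMatrix pb.basis pb.gen).charpoly = f
    rw [charpoly_leftMulMatrix]
    show minpoly F (AdjoinRoot.root f) = f
    rw [AdjoinRoot.minpoly_root hf.ne_zero, hf.leadingCoeff, inv_one, map_one, mul_one]
  have hn : Algebra.norm F (AdjoinRoot.mk f h) = (aeval M h).det := by
    rw [Algebra.norm_eq_matrix_det pb.basis, ← AdjoinRoot.aeval_eq, ← Polynomial.aeval_algHom_apply]
  have hcard : Fintype.card (Fin pb.dim) = f.natDegree := by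
    rw [Fintype.card_fin]; exact AdjoinRoot.powerBasis'_dim hf
  have hmap : (aeval M h).map φ = aeval (M.map φ) (h.map φ) := by
    rw [aeval_map_algebraMap]
    exact (Polynomial.aeval_algHom_apply (AlgHom.mapMatrix (Algebra.ofId F (AlgebraicClosure F))) M h).symm
  rw [hn, RingHom.map_det]
  show ((aeval M h).map φ).det = _
  rw [hmap]
  conv_lhs => rw [(IsAlgClosed.splits (h.map φ)).eq_prod_roots]
  rw [map_mul, aeval_C, Matrix.det_mul, det_aeval_prod, Matrix.charpoly_map, hM, hcard]
  rw [Algebra.algebraMap_eq_smul_one, Matrix.det_smul, Matrix.det_one, mul_one, hcard, leadingCoeff_map]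
  rfl

theorem res_pow {p : F[X]} (hp : p.Monic) (h : F[X]) (e : ℕ) : res (p ^ e) h = res p h ^ e := by
  rw [res, res, hp.natDegree_pow, mul_pow, ← pow_mul, mul_comm e, ← Multiset.prod_map_pow]
  congr 2
  refine Multiset.map_congr rfl fun a _ => ?_
  rw [Polynomial.map_pow, eval_pow, mul_pow, ← pow_mul]

theorem exists_det_pow [Fintype F] {n : ℕ} {A : Matrix (Fin n) (Fin n) F} {ι : Type u} [Fintype ι]
    {p : ι → F[X]} {e : ι → ℕ} (hp : ∀ i, (p i).Monic ∧ Irreducible (p i))
    (hA : CanonicalForm.HasForm A fun i => p i ^ e i) (i : ι) (v : Fˣ) :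
    ∃ x : Matrix (Fin n) (Fin n) F, A * x = x * A ∧ x.det = (v : F) ^ e i := by
  classical
  haveI : Fact (Irreducible (p i)) := ⟨(hp i).2⟩
  haveI : Module.Finite F (AdjoinRoot (p i)) := (hp i).1.finite_adjoinRoot
  haveI : Finite (AdjoinRoot (p i)) := Module.finite_of_finite F
  obtain ⟨z, hz⟩ := FiniteField.norm_surjective F (AdjoinRoot (p i)) (v : F)
  obtain ⟨h, rfl⟩ := AdjoinRoot.mk_surjective z
  have hpow : Algebra.norm F (AdjoinRoot.mk (p i ^ e i) h) = (v : F) ^ e i := by
    refine (algebraMap F (AlgebraicClosure F)).injective ?_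
    rw [norm_mk ((hp i).1.pow _), res_pow (hp i).1, ← norm_mk (hp i).1, hz, map_pow]
  obtain ⟨Ψ, hΨ⟩ := hA
  let y : ∀ k, AdjoinRoot (p k ^ e k) := fun k => if k = i then AdjoinRoot.mk _ h else 1
  obtain ⟨L, hL⟩ : ∃ L : (Fin n → F) →ₗ[F] (Fin n → F), ∀ w k, Ψ (L w) k = y k * Ψ w k :=
    ⟨Ψ.symm.toLinearMap ∘ₗ LinearMap.mulLeft F y ∘ₗ Ψ.toLinearMap, fun w k => by simp⟩
  refine ⟨LinearMap.toMatrix' L, ?_, ?_⟩
  · apply Matrix.toLin'.injective
    rw [Matrix.toLin'_mul, Matrix.toLin'_mul, Matrix.toLin'_toMatrix']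
    refine LinearMap.ext fun w => Ψ.injective (funext fun k => ?_)
    rw [LinearMap.comp_apply, LinearMap.comp_apply, Matrix.toLin'_apply, hΨ, hL, hL, Matrix.toLin'_apply, hΨ,
      mul_left_comm]
  · let pb := fun k => AdjoinRoot.powerBasis' ((hp k).1.pow (e k))
    let b := (Pi.basis fun k => (pb k).basis).map Ψ.symm
    have hb : LinearMap.toMatrix b b L = Matrix.blockDiagonal' fun k => Algebra.leftMulMatrix (pb k).basis (y k) := by
      ext ⟨k', a⟩ ⟨k, c⟩
      rw [LinearMap.toMatrix_apply, Module.Basis.map_repr, LinearEquiv.trans_apply, LinearEquiv.symm_symm,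
        Pi.basis_repr, hL, Module.Basis.map_apply, LinearEquiv.apply_symm_apply, Pi.basis_apply]
      by_cases hk : k' = k
      · subst hk
        rw [Pi.single_eq_same, Matrix.blockDiagonal'_apply_eq]
        exact (Algebra.leftMulMatrix_eq_repr_mul (pb k').basis _ a c).symm
      · rw [Pi.single_eq_of_ne hk, mul_zero, map_zero, Finsupp.zero_apply, Matrix.blockDiagonal'_apply_ne _ _ _ hk]
    rw [LinearMap.det_toMatrix', ← LinearMap.det_toMatrix b, hb, CanonicalForm.det_blockDiag,
      Finset.prod_eq_single i]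
    · simp only [y, if_pos]
      rw [← Algebra.norm_eq_matrix_det, hpow]
    · intro k _ hk
      simp [y, hk]
    · exact fun h => absurd (Finset.mem_univ i) h

end Cfsg.Lib.Linear.CentralizerDet
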