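import Cfsg.Agent.Lib.Linear.HermParabolic

/-! Totally isotropic lines of small unitary spaces. -/

set_option autoImplicit false

namespace Cfsg.Lib.Linear.Herm

open Module

variable {F : Type*} [Field F] [Fintype F] {q : ℕ}

theorem exists_neg_one_norm (hF : Fintype.card F = q ^ 2) : ∃ c : F, c ^ q * c = -1 := by
  have h : (-1 : F) ^ q = -1 := by rw [← frob_apply hF, map_neg, map_one]
  obtain ⟨x, hx⟩ := exists_norm_eq hF (neg_ne_zero.2 one_ne_zero) h
  exact ⟨x, by rw [← pow_succ, hx]⟩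

theorem exists_isotropic_two (hF : Fintype.card F = q ^ 2) {n : ℕ} (v w : Fin n → F)
    (hv : hB hF n v v = 0) (hw : hB hF n w w = 0) (hvw : hB hF n v w = 0)
    (hli : ∀ a b : F, a • v + b • w = 0 → a = 0 ∧ b = 0) :
    ∃ W : Submodule F (Fin n → F), finrank F W = 2 ∧ ∀ x ∈ W, ∀ y ∈ W, hB hF n x y = 0 := by
  let L : (Fin 2 → F) →ₗ[F] (Fin n → F) :=
    (LinearMap.proj (0 : Fin 2)).smulRight v + (LinearMap.proj (1 : Fin 2)).smulRight w
  have hinj : Function.Injective L := by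
    rw [← LinearMap.ker_eq_bot, LinearMap.ker_eq_bot']
    intro a ha
    obtain ⟨h0, h1⟩ := hli (a 0) (a 1) ha
    funext i
    fin_cases i <;> assumption
  refine ⟨LinearMap.range L, by rw [LinearMap.finrank_range_of_inj hinj, finrank_fin_fun], ?_⟩
  rintro _ ⟨a, rfl⟩ _ ⟨b, rfl⟩
  have hwv : hB hF n w v = 0 := hB_symm_zero hF hvw
  show hB hF n (a 0 • v + a 1 • w) (b 0 • v + b 1 • w) = 0
  simp only [map_add, map_smul, LinearMap.map_smulₛₗ, LinearMap.add_apply, LinearMap.smul_apply, hv, hw, hvw, hwv,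
    smul_zero, add_zero]

/-- Convert the count to the frozen form. -/
theorem card_lines_eq (hF : Fintype.card F = q ^ 2) (n : ℕ) :
    Nat.card {W : Submodule F (Fin n → F) // finrank F W = 2 ∧ ∀ u ∈ W, ∀ v ∈ W, Cfsg.hermForm n F q u v = 0} =
      Nat.card {W : Submodule F (Fin n → F) // finrank F W = 2 ∧ ∀ u ∈ W, ∀ v ∈ W, hB hF n u v = 0} :=
  Nat.card_congr (Equiv.subtypeEquivRight fun _ =>
    and_congr_right fun _ => ⟨fun h u hu v hv => h v hv u hu, fun h u hu v hv => h v hv u hu⟩)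

end Cfsg.Lib.Linear.Herm
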