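import Cfsg.Prelude.Def_GeometricClasses
import Cfsg.Agent.Lib.Linear.SymplecticGroup

/-! Maximality of the stabilizers of subspaces in symplectic groups. -/

set_option autoImplicit false

namespace Cfsg.Lib.Linear.Symp

open Module

variable {F V : Type*} [Field F] [AddCommGroup V] [Module F V] [FiniteDimensional F V]
  {B : LinearMap.BilinForm F V}

/-- The stabilizer of a subspace in the isometry group. -/
def setStab (B : LinearMap.BilinForm F V) (W : Submodule F V) : Subgroup (V ≃ₗ[F] V) where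
  carrier := {g | g ∈ iso B ∧ ∀ v, v ∈ W ↔ g v ∈ W}
  one_mem' := ⟨one_mem _, fun _ => Iff.rfl⟩
  mul_mem' := fun {g h} hg hh => ⟨mul_mem hg.1 hh.1, fun v => (hh.2 v).trans (hg.2 _)⟩
  inv_mem' := fun {g} hg => ⟨inv_mem hg.1, fun v => by
    have h := hg.2 (g⁻¹ v)
    rw [← LinearEquiv.mul_apply, mul_inv_cancel] at h
    exact h.symm⟩

theorem mem_setStab_of_forall {W : Submodule F V} {g : V ≃ₗ[F] V} (hg : g ∈ iso B) (h : ∀ v ∈ W, g v ∈ W) :
    g ∈ setStab B W := by
  refine ⟨hg, fun v => ⟨h v, fun hv => ?_⟩⟩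
  have he : W.map (g : V →ₗ[F] V) = W :=
    Submodule.eq_of_le_of_finrank_le (Submodule.map_le_iff_le_comap.2 h) (le_of_eq (LinearEquiv.finrank_map_eq g W).symm)
  rw [← he] at hv
  obtain ⟨w, hw, hwv⟩ := hv
  exact g.injective hwv ▸ hw

theorem setStab_ne_iso (hB : B.Nondegenerate) (hA : B.IsAlt) {W : Submodule F V} (h0 : W ≠ ⊥) (h1 : W ≠ ⊤) :
    setStab B W ≠ iso B := by
  intro h
  obtain ⟨w, hw, hw0⟩ := Submodule.exists_mem_ne_zero_of_ne_bot h0
  obtain ⟨z, -, hz⟩ := SetLike.exists_of_lt (lt_top_iff_ne_top.2 h1)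
  obtain ⟨g, hg, hgw⟩ := exists_iso_vec hB hA hw0 (fun e => hz (e ▸ W.zero_mem) : z ≠ 0)
  have hmem : g ∈ setStab B W := h ▸ T_le_iso hA ⊥ hg
  exact hz (hgw ▸ (hmem.2 w).1 hw)

/-- The set of transvection centres of a subgroup. -/
def centres (hA : B.IsAlt) (L : Subgroup (V ≃ₗ[F] V)) : Set V := {v | ∀ c : F, tv hA v c ∈ L}

theorem eq_iso_of_centres (hB : B.Nondegenerate) (hA : B.IsAlt) {L : Subgroup (V ≃ₗ[F] V)} (hL : L ≤ iso B)
    (h : ∀ v, v ∈ centres hA L) : L = iso B := by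
  refine le_antisymm hL ?_
  rw [iso_eq_T hB hA, T, Subgroup.closure_le]
  rintro _ ⟨v, -, c, rfl⟩
  exact h v c

theorem centres_invariant (hA : B.IsAlt) {L : Subgroup (V ≃ₗ[F] V)} (hL : L ≤ iso B) {g : V ≃ₗ[F] V}
    (hg : g ∈ L) {v : V} (hv : v ∈ centres hA L) : g v ∈ centres hA L := fun c => by
  rw [← tv_conj hA (hL hg)]
  exact mul_mem (mul_mem hg (hv c)) (inv_mem hg)

theorem maximal_singular (hB : B.Nondegenerate) (hA : B.IsAlt) {W : Submodule F V}
    (hW : ∀ u ∈ W, ∀ v ∈ W, B u v = 0) {L : Subgroup (V ≃ₗ[F] V)} (hWL : setStab B W ≤ L) (hL : L ≤ iso B) :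
    L = setStab B W ∨ L = iso B := by
  classical
  by_cases hle : L ≤ setStab B W
  · exact Or.inl (le_antisymm hle hWL)
  refine Or.inr (eq_iso_of_centres hB hA hL ?_)
  have hperp : ∀ v ∈ B.orthogonal W, v ∈ centres hA L := fun v hv c => hWL (mem_setStab_of_forall
    (tv_mem_iso hA v c) (fun x hx => by
      have : B x v = 0 := hv x hx
      simpa [this] using hx))
  obtain ⟨g, hgL, hgW⟩ := SetLike.not_le_iff_exists.1 hle
  -- some element of `W⊥` leaves `W⊥`
  obtain ⟨w, hw, hgw⟩ : ∃ w ∈ B.orthogonal W, g w ∉ B.orthogonal W := by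
    by_contra hc
    push_neg at hc
    apply hgW
    have h2 := mem_setStab_of_forall (hL hgL) hc
    refine mem_setStab_of_forall (hL hgL) fun v hv => ?_
    rw [← LinearMap.BilinForm.orthogonal_orthogonal hB hA.isRefl W] at hv ⊢
    intro u hu
    obtain ⟨u', rfl⟩ := g.surjective u
    show B (g u') (g v) = 0
    rw [hL hgL]
    exact hv u' ((h2.2 u').2 hu)
  set z := g w
  have hz : z ∈ centres hA L := centres_invariant hA hL hgL (hperp w hw)
  intro y
  by_cases hy : y ∈ B.orthogonal W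
  · exact hperp y hy
  -- two linear functionals on `W`
  let φy : W →ₗ[F] F := (B.flip y).comp W.subtype
  let φz : W →ₗ[F] F := (B.flip z).comp W.subtype
  have hφy : φy ≠ 0 := fun h => hy fun x hx => LinearMap.congr_fun h ⟨x, hx⟩
  have hφz : φz ≠ 0 := fun h => hgw fun x hx => LinearMap.congr_fun h ⟨x, hx⟩
  -- an automorphism of `W` carrying one functional to the other
  obtain ⟨α, hα⟩ : ∃ α : W ≃ₗ[F] W, φz.comp (α : W →ₗ[F] W) = φy := by
    obtain ⟨a, ha⟩ : ∃ a, φy a ≠ 0 := by by_contra hc; push_neg at hc; exact hφy (LinearMap.ext hc)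
    obtain ⟨b, hb⟩ : ∃ b, φz b ≠ 0 := by by_contra hc; push_neg at hc; exact hφz (LinearMap.ext hc)
    have hker : finrank F (LinearMap.ker φy) = finrank F (LinearMap.ker φz) := by
      have h1 := LinearMap.finrank_range_add_finrank_ker φy
      have h3 := LinearMap.finrank_range_add_finrank_ker φz
      rw [LinearMap.range_eq_top.2 (LinearMap.surjective hφy), finrank_top] at h1
      rw [LinearMap.range_eq_top.2 (LinearMap.surjective hφz), finrank_top] at h3
      omega
    let e : LinearMap.ker φy ≃ₗ[F] LinearMap.ker φz := LinearEquiv.ofFinrankEq _ _ hker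
    let a1 : W := (φy a)⁻¹ • a
    let b1 : W := (φz b)⁻¹ • b
    have ha1 : φy a1 = 1 := by simp [a1, ha]
    have hb1 : φz b1 = 1 := by simp [b1, hb]
    let f : W →ₗ[F] W := φy.smulRight b1 +
      ((LinearMap.ker φz).subtype.comp (e : LinearMap.ker φy →ₗ[F] LinearMap.ker φz)).comp
        ((LinearMap.id - φy.smulRight a1).codRestrict (LinearMap.ker φy) (fun x => by simp [ha1]))
    have hf : ∀ x, φz (f x) = φy x := fun x => by
      have h3 : ∀ k : LinearMap.ker φz, φz (k : W) = 0 := fun k => k.2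
      simp [f, hb1, h3]
    have hinj : Function.Injective f := by
      rw [← LinearMap.ker_eq_bot, Submodule.eq_bot_iff]
      intro x hx
      rw [LinearMap.mem_ker] at hx
      have h4 : φy x = 0 := by rw [← hf, hx, map_zero]
      simp [f, h4] at hx
      have h5 := congrArg Subtype.val hx
      change x - φy x • a1 = 0 at h5
      rwa [h4, zero_smul, sub_zero] at h5
    exact ⟨LinearEquiv.ofInjectiveEndo f hinj, LinearMap.ext hf⟩
  obtain ⟨s, hs, hsW⟩ := witt hB hA W (W.subtype.comp (α : W →ₗ[F] W)) (Subtype.val_injective.comp α.injective)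
    (fun x x' => by rw [hW _ x.2 _ x'.2]; exact hW _ (α x).2 _ (α x').2)
  have hsS : s ∈ setStab B W := mem_setStab_of_forall (T_le_iso hA ⊥ hs) fun v hv => by
    rw [show s v = ((α ⟨v, hv⟩ : W) : V) from hsW ⟨v, hv⟩]
    exact (α ⟨v, hv⟩).2
  have hzy : s⁻¹ z ∈ centres hA L := centres_invariant hA hL (inv_mem (hWL hsS)) hz
  have hsz : ∀ x : W, B (x : V) (s⁻¹ z) = φy x := fun x => by
    have := T_le_iso hA ⊥ hs (x : V) (s⁻¹ z)
    rw [← this, ← LinearEquiv.mul_apply, mul_inv_cancel, hsW, ← hα]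
    rfl
  have hy' : y ∉ W := fun h => hy fun x hx => hW x hx y h
  have hz' : s⁻¹ z ∉ W := fun h => hφy (LinearMap.ext fun x => by
    rw [← hsz]; exact hW _ x.2 _ h)
  obtain ⟨t, ht, hty⟩ := exists_T_map hB hA W hz' hy' (fun x hx => hsz ⟨x, hx⟩)
  rw [← hty]
  refine centres_invariant hA hL (hWL ?_) hzy
  exact mem_setStab_of_forall (T_le_iso hA W ht) fun v hv => by rw [(T_le_fixer hA W ht).2 v hv]; exact hv

theorem maximal_nondegenerate (hB : B.Nondegenerate) (hA : B.IsAlt) {W : Submodule F V}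
    (hW : W ⊓ B.orthogonal W = ⊥) (hdim : 2 * finrank F ↥W < finrank F V)
    {L : Subgroup (V ≃ₗ[F] V)} (hWL : setStab B W ≤ L) (hL : L ≤ iso B) :
    L = setStab B W ∨ L = iso B := by
  classical
  by_cases hle : L ≤ setStab B W
  · exact Or.inl (le_antisymm hle hWL)
  refine Or.inr (eq_iso_of_centres hB hA hL ?_)
  set U := B.orthogonal W with hU
  have hUperp : B.orthogonal U = W := LinearMap.BilinForm.orthogonal_orthogonal hB hA.isRefl W
  have hWc : ∀ v ∈ W, v ∈ centres hA L := fun v hv c => hWL (mem_setStab_of_forall (tv_mem_iso hA v c)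
    (fun x hx => by rw [tv_apply]; exact W.add_mem hx (W.smul_mem _ hv)))
  have hUc : ∀ v ∈ U, v ∈ centres hA L := fun v hv c => hWL (mem_setStab_of_forall (tv_mem_iso hA v c)
    (fun x hx => by
      have : B x v = 0 := hv x hx
      simpa [this] using hx))
  have hsum : W ⊔ U = ⊤ := Submodule.eq_top_of_disjoint _ _
    (by rw [hU, LinearMap.BilinForm.finrank_orthogonal hB]; have := Submodule.finrank_le W; omega)
    (disjoint_iff.2 hW)
  obtain ⟨g, hgL, hgW⟩ := SetLike.not_le_iff_exists.1 hle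
  obtain ⟨z, hz, hzW, hzU⟩ : ∃ z ∈ centres hA L, z ∉ W ∧ z ∉ U := by
    by_contra hc
    push_neg at hc
    have hU2 : ∀ X : Submodule F V, (∀ x ∈ X, x ∈ W ∨ x ∈ U) → (∀ x ∈ X, x ∈ W) ∨ (∀ x ∈ X, x ∈ U) := by
      intro X hX
      by_contra h
      push_neg at h
      obtain ⟨⟨a, ha, haW⟩, b, hb, hbU⟩ := h
      have haU : a ∈ U := (hX a ha).resolve_left haW
      have hbW : b ∈ W := (hX b hb).resolve_right hbU
      rcases hX (a + b) (X.add_mem ha hb) with h | h
      · exact haW ((W.add_mem_iff_left hbW).1 h)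
      · exact hbU ((U.add_mem_iff_right haU).1 h)
    have hgc : ∀ X : Submodule F V, (∀ x ∈ X, x ∈ centres hA L) → ∀ x ∈ X.map (g : V →ₗ[F] V), x ∈ W ∨ x ∈ U := by
      rintro X hX _ ⟨x, hx, rfl⟩
      exact or_iff_not_imp_left.2 (hc _ (centres_invariant hA hL hgL (hX x hx)))
    have hdimU : finrank F ↥U = finrank F V - finrank F ↥W := LinearMap.BilinForm.finrank_orthogonal hB W
    rcases hU2 _ (hgc W hWc) with h | h
    · exact hgW (mem_setStab_of_forall (hL hgL) fun v hv => h _ ⟨v, hv, rfl⟩)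
    · rcases hU2 _ (hgc U hUc) with h' | h'
      · have := Submodule.finrank_mono (R := F) (s := U.map (g : V →ₗ[F] V)) h'
        rw [LinearEquiv.finrank_map_eq] at this
        omega
      · have hle2 : (⊤ : Submodule F V) ≤ U := by
          intro x _
          obtain ⟨y, rfl⟩ := g.surjective x
          obtain ⟨a, ha, b, hb, rfl⟩ := Submodule.mem_sup.1 (show y ∈ W ⊔ U from hsum ▸ Submodule.mem_top)
          rw [map_add]
          exact U.add_mem (h _ ⟨a, ha, rfl⟩) (h' _ ⟨b, hb, rfl⟩)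
        have := Submodule.finrank_mono hle2
        rw [finrank_top, hdimU] at this
        have hW0 : finrank F ↥W ≠ 0 := fun e => hgW (mem_setStab_of_forall (hL hgL) (by
          rw [Submodule.finrank_eq_zero.1 e]
          intro v hv; simp [(Submodule.mem_bot F).1 hv]))
        omega
  obtain ⟨a, ha, b, hb, rfl⟩ := Submodule.mem_sup.1 (show z ∈ W ⊔ U from hsum ▸ Submodule.mem_top)
  have hdisj : ∀ x, x ∈ W → x ∈ U → x = 0 := fun x h1 h2 => by
    have : x ∈ W ⊓ U := ⟨h1, h2⟩
    rwa [hW, Submodule.mem_bot] at this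
  intro y
  obtain ⟨a', ha', b', hb', rfl⟩ := Submodule.mem_sup.1 (show y ∈ W ⊔ U from hsum ▸ Submodule.mem_top)
  by_cases ha0 : a' = 0
  · exact hUc _ (by rw [ha0, zero_add]; exact hb')
  by_cases hb0 : b' = 0
  · exact hWc _ (by rw [hb0, add_zero]; exact ha')
  obtain ⟨s, hs, hsa⟩ := exists_T_map hB hA U (a := a) (b := a')
    (fun h => hzU (U.add_mem h hb)) (fun h => ha0 (hdisj _ ha' h))
    (fun x hx => by rw [hA.isRefl _ _ (hx a ha), hA.isRefl _ _ (hx a' ha')])
  obtain ⟨t, ht, htb⟩ := exists_T_map hB hA W (a := b) (b := b')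
    (fun h => hzW (W.add_mem ha h)) (fun h => hb0 (hdisj _ h hb'))
    (fun x hx => by rw [show B x b = 0 from hb x hx, show B x b' = 0 from hb' x hx])
  have hsS : s ∈ setStab B W := mem_setStab_of_forall (T_le_iso hA U hs) (fun v hv => by
    rw [← hUperp] at hv ⊢
    intro u hu
    show B u (s v) = 0
    rw [← (T_le_fixer hA U hs).2 u hu, T_le_iso hA U hs]
    exact hv u hu)
  have htS : t ∈ setStab B W := mem_setStab_of_forall (T_le_iso hA W ht) fun v hv => by
    rw [(T_le_fixer hA W ht).2 v hv]; exact hv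
  have h1 := centres_invariant hA hL (hWL htS) (centres_invariant hA hL (hWL hsS) hz)
  rw [map_add, map_add, hsa, (T_le_fixer hA U hs).2 b hb, htb, (T_le_fixer hA W ht).2 a' ha'] at h1
  exact h1

/-- Invertible matrices as linear equivalences. -/
noncomputable def glEquiv (ι : Type) [Fintype ι] [DecidableEq ι] (F : Type*) [Field F] :
    GL ι F ≃* ((ι → F) ≃ₗ[F] (ι → F)) :=
  Matrix.GeneralLinearGroup.toLin.trans (LinearMap.GeneralLinearGroup.generalLinearEquiv F _)

theorem glEquiv_apply {ι : Type} [Fintype ι] [DecidableEq ι] {F : Type*} [Field F] (g : GL ι F) (v : ι → F) :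
    glEquiv ι F g v = (g : Matrix ι ι F).mulVec v := rfl

theorem spGL_eq_comap (m : ℕ) (F : Type*) [Field F] :
    Cfsg.spGL m F = (iso (spB m F)).comap (glEquiv (Fin m ⊕ Fin m) F).toMonoidHom := by
  ext g
  refine forall₂_congr fun u v => ?_
  simp only [glEquiv_apply, MulEquiv.coe_toMonoidHom, spB_apply]
  rfl

theorem stab_eq_comap {m : ℕ} {F : Type*} [Field F] (W : Submodule F (Fin m ⊕ Fin m → F)) :
    Cfsg.Geo.subspaceStabilizer W ⊓ Cfsg.spGL m F =
      (setStab (spB m F) W).comap (glEquiv (Fin m ⊕ Fin m) F).toMonoidHom := by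
  ext g
  rw [Subgroup.mem_inf, spGL_eq_comap]
  exact ⟨fun h => ⟨h.2, h.1⟩, fun h => ⟨h.2, h.1⟩⟩

theorem isMaximalIn_spGL {m : ℕ} {F : Type*} [Field F] (W : Submodule F (Fin m ⊕ Fin m → F)) (h0 : W ≠ ⊥)
    (h1 : W ≠ ⊤)
    (h : ∀ L, setStab (spB m F) W ≤ L → L ≤ iso (spB m F) → L = setStab (spB m F) W ∨ L = iso (spB m F)) :
    Cfsg.Geo.IsMaximalIn (Cfsg.spGL m F) (Cfsg.Geo.subspaceStabilizer W ⊓ Cfsg.spGL m F) := by
  rw [stab_eq_comap, spGL_eq_comap]
  set e := (glEquiv (Fin m ⊕ Fin m) F).toMonoidHom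
  have hs : Function.Surjective e := (glEquiv (Fin m ⊕ Fin m) F).surjective
  refine ⟨lt_of_le_of_ne (Subgroup.comap_mono fun g hg => hg.1) fun he =>
    setStab_ne_iso (spB_nondegenerate m F) (spB_isAlt m F) h0 h1 (Subgroup.comap_injective hs he),
    fun M hM1 hM2 => ?_⟩
  have hM : (M.map e).comap e = M :=
    Subgroup.comap_map_eq_self_of_injective (glEquiv (Fin m ⊕ Fin m) F).injective M
  rcases h (M.map e) (by rw [← Subgroup.map_comap_eq_self_of_surjective hs (setStab _ W)]; exact Subgroup.map_mono hM1)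
      (by rw [← Subgroup.map_comap_eq_self_of_surjective hs (iso _)]; exact Subgroup.map_mono hM2) with he | he
  · exact Or.inl (by rw [← hM, he])
  · exact Or.inr (by rw [← hM, he])

end Cfsg.Lib.Linear.Symp
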