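import Cfsg.Agent.Lib.Linear.SymplecticMax

/-!
# Subgroups containing the stabilizer of a nondegenerate orthogonal decomposition

Isometries between nondegenerate subspaces of an alternating space, and the proof that a group
containing block transvections, block swaps and one element moving some block vector out of the
blocks is the whole isometry group.
-/

set_option autoImplicit false

namespace Cfsg.Lib.Linear.Symp

open Module

variable {F V : Type*} [Field F] [AddCommGroup V] [Module F V] [FiniteDimensional F V]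
  {B : LinearMap.BilinForm F V}

/-- The form restricted to `X` is nondegenerate. -/
def NondegOn (B : LinearMap.BilinForm F V) (X : Submodule F V) : Prop :=
  ∀ x ∈ X, x ≠ 0 → ∃ y ∈ X, B x y ≠ 0

theorem exists_isometry_between (hA : B.IsAlt) (k : ℕ) :
    ∀ X Y : Submodule F V, finrank F X ≤ k → NondegOn B X → NondegOn B Y →
      finrank F X ≤ finrank F Y →
      ∃ φ : X →ₗ[F] V, (∀ x, φ x ∈ Y) ∧ ∀ x y : X, B (φ x) (φ y) = B (x : V) (y : V) := by
  induction k with
  | zero =>
    intro X Y hk _ _ _
    refine ⟨0, fun x => Y.zero_mem, fun x y => ?_⟩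
    have hbot : X = ⊥ := Submodule.finrank_eq_zero.1 (by omega)
    have hx : (x : V) = 0 := (Submodule.mem_bot F).1 (hbot ▸ x.2)
    simp [hx]
  | succ k ih =>
    intro X Y hk hX hY hXY
    by_cases h0 : finrank F X ≤ k
    · exact ih X Y h0 hX hY hXY
    have pair : ∀ W : Submodule F V, NondegOn B W → 0 < finrank F W →
        ∃ e ∈ W, ∃ f ∈ W, B e f = 1 := by
      intro W hW hpos
      obtain ⟨e, he, he0⟩ := Submodule.exists_mem_ne_zero_of_ne_bot
        (fun h : W = ⊥ => by rw [h, finrank_bot] at hpos; omega)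
      obtain ⟨f, hf, hef⟩ := hW e he he0
      exact ⟨e, he, (B e f)⁻¹ • f, W.smul_mem _ hf, by simp [inv_mul_cancel₀ hef]⟩
    obtain ⟨e, he, f, hf, hef⟩ := pair X hX (by omega)
    obtain ⟨e', he', f', hf', hef'⟩ := pair Y hY (by omega)
    have sk : ∀ x y, B x y = -B y x := fun x y => (LinearMap.IsAlt.neg hA y x).symm
    have hfe : B f e = -1 := by rw [sk, hef]
    have hfe' : B f' e' = -1 := by rw [sk, hef']
    -- orthogonal complement of the pair inside `W`
    let C : Submodule F V → V → V → Submodule F V := fun W a b =>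
      W ⊓ (LinearMap.ker (B.flip a) ⊓ LinearMap.ker (B.flip b))
    have memC : ∀ {W : Submodule F V} {a b x : V}, x ∈ C W a b ↔ x ∈ W ∧ B x a = 0 ∧ B x b = 0 := by
      intro W a b x
      simp [C]
    have decomp : ∀ {W : Submodule F V} {a b : V}, a ∈ W → b ∈ W → B a b = 1 → ∀ x ∈ W,
        x - B x b • a + B x a • b ∈ C W a b := by
      intro W a b ha hb hab x hx
      refine memC.mpr ⟨W.add_mem (W.sub_mem hx (W.smul_mem _ ha)) (W.smul_mem _ hb), ?_, ?_⟩
      · simp [hA.self_eq_zero, sk b a, hab]
      · simp [hA.self_eq_zero, hab]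
    have hnd : ∀ {W : Submodule F V} {a b : V}, NondegOn B W → a ∈ W → b ∈ W → B a b = 1 →
        NondegOn B (C W a b) := by
      intro W a b hW ha hb hab x hx hx0
      obtain ⟨hxW, hxa, hxb⟩ := memC.mp hx
      obtain ⟨y, hy, hxy⟩ := hW x hxW hx0
      refine ⟨_, decomp ha hb hab y hy, ?_⟩
      simpa [hxa, hxb] using hxy
    have hdim : ∀ {W : Submodule F V} {a b : V}, a ∈ W → b ∈ W → B a b = 1 →
        finrank F (C W a b) + 2 = finrank F W := by
      intro W a b ha hb hab
      let Φ : W →ₗ[F] F × F := ((B.flip a).prod (B.flip b)).comp W.subtype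
      have hs : Function.Surjective Φ := by
        rintro ⟨p, q⟩
        refine ⟨⟨(-p) • b + q • a, W.add_mem (W.smul_mem _ hb) (W.smul_mem _ ha)⟩, ?_⟩
        simp [Φ, hA.self_eq_zero, sk b a, hab]
      have h1 := LinearMap.finrank_range_add_finrank_ker Φ
      rw [LinearMap.range_eq_top.2 hs, finrank_top, Module.finrank_prod, Module.finrank_self] at h1
      have he : LinearMap.ker Φ = (C W a b).comap W.subtype := by
        ext ⟨x, hx⟩
        simp [Φ, memC, hx]
      rw [he, (Submodule.comapSubtypeEquivOfLe (show C W a b ≤ W from inf_le_left)).finrank_eq] at h1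
      omega
    have h1 := hdim he hf hef
    have h2 := hdim he' hf' hef'
    obtain ⟨φ', hφY, hφ⟩ := ih (C X e f) (C Y e' f') (by omega) (hnd hX he hf hef)
      (hnd hY he' hf' hef') (by omega)
    let pr : X →ₗ[F] C X e f :=
      (X.subtype - ((B.flip f).comp X.subtype).smulRight e +
        ((B.flip e).comp X.subtype).smulRight f).codRestrict (C X e f) (fun x => by
          simpa using decomp he hf hef x x.2)
    let φ : X →ₗ[F] V := ((B.flip f).comp X.subtype).smulRight e' -
      ((B.flip e).comp X.subtype).smulRight f' + φ'.comp pr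
    refine ⟨φ, fun x => ?_, fun x y => ?_⟩
    · simp only [φ, LinearMap.add_apply, LinearMap.sub_apply, LinearMap.smulRight_apply,
        LinearMap.comp_apply]
      exact Y.add_mem (Y.sub_mem (Y.smul_mem _ he') (Y.smul_mem _ hf')) (memC.mp (hφY _)).1
    · obtain ⟨-, a1, a2⟩ := memC.mp (hφY (pr x))
      obtain ⟨-, b1, b2⟩ := memC.mp (hφY (pr y))
      obtain ⟨-, c1, c2⟩ := memC.mp (pr x).2
      obtain ⟨-, d1, d2⟩ := memC.mp (pr y).2
      have hxe : (x : V) = B x f • e - B x e • f + (pr x : V) := by simp [pr]
      have hye : (y : V) = B y f • e - B y e • f + (pr y : V) := by simp [pr]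
      conv_rhs => rw [hxe, hye]
      simp only [φ, LinearMap.add_apply, LinearMap.sub_apply, LinearMap.smulRight_apply,
        LinearMap.comp_apply, Submodule.subtype_apply, LinearMap.flip_apply, map_add, map_sub,
        map_smul, LinearMap.smul_apply, smul_eq_mul, hA.self_eq_zero, hef, hfe, hef', hfe', hφ,
        a1, a2, sk e' (φ' (pr y)), sk f' (φ' (pr y)), b1, b2, c1, c2, sk e (pr y : V),
        sk f (pr y : V), d1, d2]
      rfl

/-- An orthogonal decomposition by nondegenerate subspaces, given with its projections. -/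
structure OrthDecomp (B : LinearMap.BilinForm F V) {t : ℕ} (D : Fin t → Submodule F V) where
  pr : Fin t → V →ₗ[F] V
  mem : ∀ i v, pr i v ∈ D i
  self : ∀ i, ∀ v ∈ D i, pr i v = v
  cross : ∀ i j, i ≠ j → ∀ v ∈ D j, pr i v = 0
  sum : ∀ v, ∑ i, pr i v = v
  orth : ∀ i j, i ≠ j → ∀ x ∈ D i, ∀ y ∈ D j, B x y = 0

theorem exists_orthDecomp (hA : B.IsAlt) {t : ℕ} {D : Fin t → Submodule F V}
    (hnd : ∀ i, NondegOn B (D i)) (horth : ∀ i j, i ≠ j → ∀ x ∈ D i, ∀ y ∈ D j, B x y = 0)
    (hsup : iSup D = ⊤) : Nonempty (OrthDecomp B D) := by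
  classical
  have hc : ∀ i, IsCompl (D i) (B.orthogonal (D i)) := by
    intro i
    refine LinearMap.BilinForm.isCompl_orthogonal_of_restrict_nondegenerate hA.isRefl ?_
    constructor
    · intro x hx
      by_contra h
      obtain ⟨y, hy, hxy⟩ := hnd i x x.2 (fun e => h (Subtype.ext e))
      exact hxy (hx ⟨y, hy⟩)
    · intro x hx
      by_contra h
      obtain ⟨y, hy, hxy⟩ := hnd i x x.2 (fun e => h (Subtype.ext e))
      exact hxy (hA.isRefl _ _ (hx ⟨y, hy⟩))
  let pr : Fin t → V →ₗ[F] V := fun i => (D i).projection _ (hc i)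
  have hmem : ∀ i v, pr i v ∈ D i := fun i v => Submodule.projection_apply_mem (hc i) v
  have hself : ∀ i, ∀ v ∈ D i, pr i v = v := fun i v hv => Submodule.projection_apply_of_mem_left (hc i) hv
  have hcross : ∀ i j, i ≠ j → ∀ v ∈ D j, pr i v = 0 := fun i j hij v hv =>
    Submodule.projection_apply_of_mem_right (hc i) fun x hx => horth i j hij x hx v hv
  refine ⟨⟨pr, hmem, hself, hcross, fun v => ?_, horth⟩⟩
  have hv : v ∈ iSup D := hsup ▸ Submodule.mem_top
  induction hv using Submodule.iSup_induction' with
  | mem i x hx => rw [Finset.sum_eq_single i (fun j _ hj => hcross j i hj x hx) (by simp), hself i x hx]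
  | zero => simp
  | add x y _ _ hx hy => simp only [map_add, Finset.sum_add_distrib, hx, hy]

variable {t : ℕ} {D : Fin t → Submodule F V} (O : OrthDecomp B D)

include O in
theorem bilin_pr (v : V) (i : Fin t) {z : V} (hz : z ∈ D i) : B v z = B (O.pr i v) z := by
  conv_lhs => rw [← O.sum v]
  rw [map_sum, LinearMap.sum_apply,
    Finset.sum_eq_single i (fun j _ hj => O.orth j i hj _ (O.mem j v) z hz) (by simp)]

include O in
theorem pr_sum (x : Fin t → V) (hx : ∀ i, x i ∈ D i) (i : Fin t) : O.pr i (∑ j, x j) = x i := by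
  rw [map_sum, Finset.sum_eq_single i (fun j _ hj => O.cross i j hj.symm _ (hx j)) (by simp),
    O.self i _ (hx i)]

include O in
theorem bilin_sum (x y : Fin t → V) (hx : ∀ i, x i ∈ D i) (hy : ∀ i, y i ∈ D i) :
    B (∑ j, x j) (∑ j, y j) = ∑ j, B (x j) (y j) := by
  rw [map_sum]
  refine Finset.sum_congr rfl fun j _ => ?_
  rw [bilin_pr O _ j (hy j), pr_sum O x hx]

/-- All vectors whose support is `S` are transvection centres. -/
def Good (hA : B.IsAlt) (L : Subgroup (V ≃ₗ[F] V)) (S : Finset (Fin t)) : Prop :=
  ∀ v, (∀ i, O.pr i v ≠ 0 ↔ i ∈ S) → v ∈ centres hA L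

include O in
theorem eq_iso_of_decomp (hB : B.Nondegenerate) (hA : B.IsAlt) {k : ℕ}
    (hk : ∀ i, finrank F (D i) = k) (hnd : ∀ i, NondegOn B (D i))
    (hq : 3 ≤ k ∨ ∃ μ : F, μ ≠ 0 ∧ μ ≠ -1) {L : Subgroup (V ≃ₗ[F] V)} (hL : L ≤ iso B)
    (hblock : ∀ i, ∀ v ∈ D i, v ∈ centres hA L)
    (hswap : ∀ a b, a ≠ b → ∃ g ∈ L, (∀ x ∈ D a, g x ∈ D b) ∧
      ∀ i, i ≠ a → i ≠ b → ∀ x ∈ D i, g x = x)
    (hex : ∃ g ∈ L, ∃ l, ∃ z ∈ D l, ∀ i, g z ∉ D i) : L = iso B := by
  classical
  refine eq_iso_of_centres hB hA hL ?_
  have hnz : ∀ i, ∀ x ∈ D i, ∀ y ∈ D i, x ≠ 0 → y ≠ 0 → ∃ z ∈ D i, B x z ≠ 0 ∧ B y z ≠ 0 := by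
    intro i x hx y hy hx0 hy0
    obtain ⟨p, hp, hxp⟩ := hnd i x hx hx0
    obtain ⟨p', hp', hyp⟩ := hnd i y hy hy0
    by_cases h1 : B y p = 0
    · by_cases h2 : B x p' = 0
      · exact ⟨p + p', add_mem hp hp', by simp [h2, hxp], by simp [h1, hyp]⟩
      · exact ⟨p', hp', h2, hyp⟩
    · exact ⟨p, hp, hxp, h1⟩
  have move : ∀ v ∈ centres hA L, ∀ i, ∀ z ∈ D i, ∀ c : F,
      v + (c * B (O.pr i v) z) • z ∈ centres hA L := by
    intro v hv i z hz c
    have h := centres_invariant hA hL (hblock i z hz c) hv
    rwa [tv_apply, bilin_pr O v i hz] at h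
  have change1 : ∀ v ∈ centres hA L, ∀ i, ∀ y ∈ D i, O.pr i v ≠ 0 → y ≠ 0 →
      v - O.pr i v + y ∈ centres hA L := by
    intro v hv i y hy hvi hy0
    have step : ∀ v ∈ centres hA L, ∀ y ∈ D i, B (O.pr i v) y ≠ 0 →
        v - O.pr i v + y ∈ centres hA L := by
      intro v hv y hy hne
      have h := move v hv i (y - O.pr i v) (sub_mem hy (O.mem i v)) (B (O.pr i v) y)⁻¹
      rw [map_sub, hA.self_eq_zero, sub_zero, inv_mul_cancel₀ hne, one_smul] at h
      rwa [sub_add_eq_add_sub, add_sub_assoc]
    obtain ⟨p, hp, h1, h2⟩ := hnz i _ (O.mem i v) y hy hvi hy0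
    have h3 := step v hv p hp h1
    have hpr : O.pr i (v - O.pr i v + p) = p := by
      rw [map_add, map_sub, O.self i _ (O.mem i v), sub_self, zero_add, O.self i p hp]
    have h4 := step _ h3 y hy (by rw [hpr, ← LinearMap.IsAlt.neg hA y p, neg_ne_zero]; exact h2)
    rwa [hpr, add_sub_cancel_right] at h4
  have orbit : ∀ (S : Finset (Fin t)) v, v ∈ centres hA L → (∀ i, O.pr i v ≠ 0 ↔ i ∈ S) →
      Good O hA L S := by
    intro S v hv hS w hw
    suffices H : ∀ T : Finset (Fin t), ∀ u, (∀ i, O.pr i u ≠ 0 ↔ i ∈ S) →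
        (∀ i, i ∉ T → O.pr i u = O.pr i v) → u ∈ centres hA L by
      exact H Finset.univ w hw (fun i hi => absurd (Finset.mem_univ i) hi)
    intro T
    induction T using Finset.induction with
    | empty =>
      intro u _ h
      rw [← O.sum u, Finset.sum_congr rfl (fun i _ => h i (Finset.notMem_empty i)), O.sum v]
      exact hv
    | insert i T hiT ih =>
      intro u hu h
      by_cases hi : O.pr i u = 0
      · refine ih u hu fun j hj => ?_
        rcases eq_or_ne j i with rfl | hji
        · rw [hi]
          by_contra h0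
          exact (hu j).mpr ((hS j).mp (Ne.symm h0)) hi
        · exact h j (by simp [hji, hj])
      let u' := u - O.pr i u + O.pr i v
      have hpr : ∀ j, O.pr j u' = if j = i then O.pr i v else O.pr j u := by
        intro j
        split_ifs with hj
        · subst hj
          simp [u', O.self j _ (O.mem j u), O.self j _ (O.mem j v)]
        · simp [u', O.cross j i hj _ (O.mem i u), O.cross j i hj _ (O.mem i v)]
      have hu' := ih u' (fun j => by
          rw [hpr]
          split_ifs with hj
          · subst hj; exact hS j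
          · exact hu j) (fun j hj => by
          rw [hpr]
          split_ifs with hji
          · rw [hji]
          · exact h j (by simp [hji, hj]))
      have h5 := change1 u' hu' i (O.pr i u) (O.mem i u) (by
        rw [hpr, if_pos rfl]; exact (hS i).mpr ((hu i).mp hi)) hi
      rw [hpr, if_pos rfl] at h5
      simpa [u'] using h5
  have hone : ∀ i, ∃ y ∈ D i, y ≠ 0 := by
    intro i
    refine Submodule.exists_mem_ne_zero_of_ne_bot fun h => ?_
    have := hk i
    rw [h, finrank_bot] at this
    rcases hq with hq | ⟨μ, -, -⟩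
    · omega
    · obtain ⟨g, -, l, z, hz, hgz⟩ := hex
      have hl : D l = ⊥ := Submodule.finrank_eq_zero.1 (by rw [hk l]; omega)
      rw [hl, Submodule.mem_bot] at hz
      exact hgz l (by rw [hz, map_zero]; exact (D l).zero_mem)
  choose y hy hy0 using hone
  have combine : ∀ S T R : Finset (Fin t), ∀ i, i ∈ S → i ∈ T → i ∈ R → R ⊆ S ∪ T →
      (∀ j, ¬ (j ∈ S ∧ j ∈ T) → j ∈ S ∪ T → j ∈ R) → Good O hA L S → Good O hA L T →
      Good O hA L R := by
    intro S T R i hiS hiT hiR hsub hdiff hS hT
    obtain ⟨z, hz, hyz⟩ := hnd i (y i) (hy i) (hy0 i)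
    have hperp : ∀ j, ∃ w ∈ D j, B (y j) w = 0 ∧ w ≠ 0 ∧ y j + w ≠ 0 := by
      intro j
      rcases hq with hq | ⟨μ, hμ, hμ'⟩
      · let K := D j ⊓ LinearMap.ker (B (y j))
        have hK : finrank F (Submodule.span F {y j}) < finrank F K := by
          rw [finrank_span_singleton (hy0 j)]
          have h1 := LinearMap.finrank_range_add_finrank_ker ((B (y j)).comp (D j).subtype)
          have h2 := Submodule.finrank_le (LinearMap.range ((B (y j)).comp (D j).subtype))
          rw [Module.finrank_self] at h2
          have h3 : LinearMap.ker ((B (y j)).comp (D j).subtype) = K.comap (D j).subtype := by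
            ext ⟨x, hx⟩; simp [K, hx]
          rw [h3, (Submodule.comapSubtypeEquivOfLe (show K ≤ D j from inf_le_left)).finrank_eq,
            hk j] at h1
          omega
        obtain ⟨w, hw, hw'⟩ := SetLike.not_le_iff_exists.mp fun h : K ≤ Submodule.span F {y j} =>
          absurd (Submodule.finrank_mono h) (by omega)
        refine ⟨w, hw.1, hw.2, fun h => hw' (h ▸ Submodule.zero_mem _), fun h => hw' ?_⟩
        rw [eq_neg_of_add_eq_zero_right h]
        exact Submodule.neg_mem _ (Submodule.mem_span_singleton_self _)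
      · refine ⟨μ • y j, (D j).smul_mem _ (hy j), by simp [hA.self_eq_zero],
          smul_ne_zero hμ (hy0 j), fun h => ?_⟩
        rw [← one_smul F (y j), smul_smul, mul_one, ← add_smul, smul_eq_zero] at h
        exact h.elim (fun e => hμ' (eq_neg_of_add_eq_zero_right e)) (hy0 j)
    choose w hw hw1 hw2 hw3 using hperp
    let a : Fin t → V := fun j => if j ∈ S then y j else 0
    let b : Fin t → V := fun j => if j ∈ T then
      (if j = i then z else if j ∈ S then (if j ∈ R then w j else -y j) else y j) else 0
    have ha : ∀ j, a j ∈ D j := by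
      intro j; simp only [a]; split_ifs
      · exact hy j
      · exact (D j).zero_mem
    have hb : ∀ j, b j ∈ D j := by
      intro j; simp only [b]; split_ifs with h1 h2
      · exact h2 ▸ hz
      · exact hw j
      · exact neg_mem (hy j)
      · exact hy j
      · exact (D j).zero_mem
    have hz0 : z ≠ 0 := fun h => hyz (by simp [h])
    have hva := hS (∑ j, a j) fun j => by
      rw [pr_sum O a ha]; simp only [a]; split_ifs with h <;> simp [h, hy0 j]
    have hvb := hT (∑ j, b j) fun j => by
      rw [pr_sum O b hb]; simp only [b]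
      split_ifs with h1 h2 h3 h4 <;> simp_all
    have hB' : B (∑ j, a j) (∑ j, b j) = B (y i) z := by
      rw [bilin_sum O a b ha hb, Finset.sum_eq_single i]
      · simp [a, b, hiS, hiT]
      · intro j _ hj
        simp only [a, b]
        split_ifs <;> simp [hA.self_eq_zero, hw1]
      · simp
    have h := centres_invariant hA hL (hvb (B (y i) z)⁻¹) hva
    rw [tv_apply, hB', inv_mul_cancel₀ hyz, one_smul] at h
    refine orbit R _ h fun j => ?_
    rw [map_add, pr_sum O a ha, pr_sum O b hb]
    simp only [a, b]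
    by_cases hji : j = i
    · subst hji
      simp only [hiS, hiT, hiR, if_true, iff_true]
      intro e
      apply hyz
      rw [eq_neg_of_add_eq_zero_right e]
      simp [hA.self_eq_zero]
    by_cases hjS : j ∈ S <;> by_cases hjT : j ∈ T
    · by_cases hjR : j ∈ R <;> simp [hjS, hjT, hjR, hji, hw3]
    · simp [hjS, hjT, hy0 j, hdiff j (fun h => hjT h.2) (by simp [hjS])]
    · simp [hjS, hjT, hji, hy0 j, hdiff j (fun h => hjS h.1) (by simp [hjT])]
    · simp only [hjS, hjT, if_false, add_zero, ne_eq, not_true_eq_false, false_iff]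
      exact fun h => (Finset.mem_union.mp (hsub h)).elim hjS hjT
  have perm : ∀ S a b, a ∈ S → b ∉ S → Good O hA L S → Good O hA L (insert b (S.erase a)) := by
    intro S a b ha hb hS
    have hab : a ≠ b := fun e => hb (e ▸ ha)
    obtain ⟨g, hg, hgab, hgfix⟩ := hswap a b hab
    let v : Fin t → V := fun j => if j ∈ S then y j else 0
    have hv : ∀ j, v j ∈ D j := by
      intro j; simp only [v]; split_ifs
      · exact hy j
      · exact (D j).zero_mem
    have hvc := hS (∑ j, v j) fun j => by
      rw [pr_sum O v hv]; simp only [v]; split_ifs with h <;> simp [h, hy0 j]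
    refine orbit _ _ (centres_invariant hA hL hg hvc) fun j => ?_
    let v' : Fin t → V := fun j => if j = b then g (y a) else if j = a then 0 else v j
    have hv' : ∀ j, v' j ∈ D j := by
      intro j; simp only [v']; split_ifs with h1 h2
      · exact h1 ▸ hgab _ (hy a)
      · exact (D j).zero_mem
      · exact hv j
    have hsum : g (∑ j, v j) = ∑ j, v' j := by
      rw [map_sum, ← Finset.sum_subset (Finset.subset_univ (S : Finset (Fin t)))
        (fun j _ hj => by simp [v, hj]),
        ← Finset.sum_subset (Finset.subset_univ (insert b (S.erase a)))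
        (fun j _ hj => by
          simp only [Finset.mem_insert, Finset.mem_erase, not_or, not_and] at hj
          simp only [v', v]
          split_ifs with h1 h2 h3
          · exact absurd h1 hj.1
          · rfl
          · exact absurd h3 (hj.2 h2)
          · rfl),
        Finset.sum_insert (by simp [hb]), ← Finset.add_sum_erase _ _ ha]
      congr 1
      · simp [v, v', ha]
      · refine Finset.sum_congr rfl fun j hj => ?_
        obtain ⟨hja, hjS⟩ := Finset.mem_erase.mp hj
        have hjb : j ≠ b := fun e => hb (e ▸ hjS)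
        simp [v', v, hjS, hja, hjb, hgfix j hja hjb _ (hy j)]
    rw [hsum, pr_sum O v' hv']
    simp only [v', v]
    split_ifs with h1 h2 h3 <;> simp_all [hy0]
  -- some vector with two components
  obtain ⟨g, hg, l, z, hz, hgz⟩ := hex
  have hu := centres_invariant hA hL hg (hblock l z hz)
  let S₀ : Finset (Fin t) := Finset.univ.filter fun i => O.pr i (g z) ≠ 0
  have hS₀ := orbit S₀ _ hu (by simp [S₀])
  obtain ⟨a, ha, b, hb, hab⟩ : ∃ a ∈ S₀, ∃ b ∈ S₀, a ≠ b := by
    by_contra hne
    push Not at hne
    rcases S₀.eq_empty_or_nonempty with h | ⟨a, ha⟩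
    · refine hgz l ?_
      rw [← O.sum (g z), Finset.sum_eq_zero fun i _ => ?_]
      · exact (D l).zero_mem
      · by_contra h'
        have : i ∈ S₀ := by simp [S₀, h']
        simp [h] at this
    · refine hgz a ?_
      rw [← O.sum (g z), Finset.sum_eq_single a (fun i _ hi => ?_) (by simp)]
      · exact O.mem a _
      · by_contra h'
        exact hi (hne a ha i (by simp [S₀, h'])).symm
  have hpair0 : Good O hA L {a, b} :=
    combine S₀ S₀ {a, b} a ha ha (by simp) (by simp [Finset.insert_subset_iff, ha, hb])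
      (fun j h h' => absurd ⟨(Finset.mem_union.mp h').elim id id, (Finset.mem_union.mp h').elim id id⟩ h)
      hS₀ hS₀
  have one : ∀ a b c, a ≠ b → c ≠ b → Good O hA L {a, b} → Good O hA L {c, b} := by
    intro a b c hab hcb h
    rcases eq_or_ne c a with rfl | hca
    · exact h
    · have h' := perm {a, b} a c (by simp) (by simp [hca, hcb]) h
      have e : insert c (Finset.erase {a, b} a) = ({c, b} : Finset (Fin t)) := by
        rw [Finset.erase_insert (by simp [hab])]
      rwa [e] at h'
  have hpair : ∀ c d, c ≠ d → Good O hA L {c, d} := by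
    intro c d hcd
    rcases eq_or_ne c b with rfl | hcb
    · rw [Finset.pair_comm]
      exact one a c d hab (Ne.symm hcd) hpair0
    · have h1 := one a b c hab hcb hpair0
      rw [Finset.pair_comm] at h1 ⊢
      exact one b c d (Ne.symm hcb) (Ne.symm hcd) h1
  have hall : ∀ S : Finset (Fin t), Good O hA L S := by
    intro S
    induction S using Finset.induction with
    | empty =>
      intro v hv c
      have : v = 0 := by rw [← O.sum v]; exact Finset.sum_eq_zero fun i _ => by simpa using hv i
      rw [this, show tv hA (0 : V) c = 1 from LinearEquiv.ext fun x => by simp]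
      exact one_mem _
    | insert i T hiT ih =>
      rcases T.eq_empty_or_nonempty with rfl | ⟨j, hj⟩
      · intro v hv
        rw [← O.sum v, Finset.sum_eq_single i (fun k _ hk => by
          by_contra h; exact hk (by simpa using (hv k).mp h)) (by simp)]
        exact hblock i _ (O.mem i v)
      · refine combine T {j, i} (insert i T) j hj (by simp) (by simp [hj]) ?_ ?_ ih
          (hpair j i fun e => hiT (e ▸ hj))
        · intro x hx
          simp only [Finset.mem_insert, Finset.mem_union, Finset.mem_singleton] at hx ⊢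
          tauto
        · intro x _ hx
          simp only [Finset.mem_insert, Finset.mem_union, Finset.mem_singleton] at hx ⊢
          rcases hx with h | rfl | h
          · exact Or.inr h
          · exact Or.inr hj
          · exact Or.inl h
  intro v
  exact hall (Finset.univ.filter fun i => O.pr i v ≠ 0) v (by simp)

end Cfsg.Lib.Linear.Symp
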