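import Mathlib

/-!
# The fundamental theorem of projective geometry over a finite field

A map of nonzero vectors which is onto up to scalars, keeps independent pairs independent and sends dependent triples
to dependent triples is, up to scalars, semilinear.
-/

set_option autoImplicit false

namespace Cfsg.Lib.Linear.Collineation

open Matrix Module

variable {ι : Type} [Fintype ι] [DecidableEq ι] {F : Type*} [Field F]

local notation "V" => (ι → F)

/-- **Fundamental theorem of projective geometry.** -/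
theorem exists_semilinear [Finite F] (hcard : 3 ≤ Fintype.card ι) (φ : V → V)
    (hne : ∀ x, x ≠ 0 → φ x ≠ 0)
    (hinj : ∀ x y, x ≠ 0 → y ≠ 0 → (∃ c : F, φ y = c • φ x) → ∃ c : F, y = c • x)
    (hscal : ∀ x (c : F), x ≠ 0 → c ≠ 0 → ∃ d : F, φ (c • x) = d • φ x)
    (hsurj : ∀ w : V, w ≠ 0 → ∃ x, x ≠ 0 ∧ ∃ c : F, φ x = c • w)
    (hline : ∀ x y : V, ∀ r s : F, x ≠ 0 → y ≠ 0 → r • x + s • y ≠ 0 →
      ∃ r' s' : F, φ (r • x + s • y) = r' • φ x + s' • φ y) :
    ∃ (g : GL ι F) (σ : F ≃+* F), ∀ x, x ≠ 0 → ∃ c : F, c ≠ 0 ∧ φ x = c • (g.1 *ᵥ (σ ∘ x)) := by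
  classical
  let e : ι → V := fun i => Pi.single i 1
  have he : ∀ i, e i ≠ 0 := fun i => Pi.single_ne_zero_iff.2 one_ne_zero
  -- images of combinations lie in the span of the images
  have hspan : ∀ (s : Finset ι) (w : ι → V) (c : ι → F), (∀ i ∈ s, w i ≠ 0) → ∑ i ∈ s, c i • w i ≠ 0 →
      φ (∑ i ∈ s, c i • w i) ∈ Submodule.span F ((fun i => φ (w i)) '' s) := by
    intro s
    induction s using Finset.induction_on with
    | empty => intro w c _ h; simp at h
    | insert j s hj ih =>
      intro w c hw h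
      rw [Finset.sum_insert hj] at h ⊢
      have hwj : w j ≠ 0 := hw j (Finset.mem_insert_self j s)
      have hmemj : φ (w j) ∈ Submodule.span F ((fun i => φ (w i)) '' ↑(insert j s)) :=
        Submodule.subset_span ⟨j, Finset.mem_insert_self j s, rfl⟩
      by_cases h0 : ∑ i ∈ s, c i • w i = 0
      · rw [h0, add_zero] at h ⊢
        have hc : c j ≠ 0 := fun hc => h (by rw [hc, zero_smul])
        obtain ⟨d, hd⟩ := hscal (w j) (c j) hwj hc
        rw [hd]
        exact Submodule.smul_mem _ _ hmemj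
      · obtain ⟨r, t, hrt⟩ := hline (w j) (∑ i ∈ s, c i • w i) (c j) 1 hwj h0 (by rwa [one_smul])
        rw [one_smul] at hrt
        rw [hrt]
        refine Submodule.add_mem _ (Submodule.smul_mem _ _ hmemj) (Submodule.smul_mem _ _ ?_)
        refine Submodule.span_mono ?_ (ih w c (fun i hi => hw i (Finset.mem_insert_of_mem hi)) h0)
        exact Set.image_mono (Finset.coe_subset.2 (Finset.subset_insert j s))
  -- the images of the coordinate vectors form a basis
  have htop : Submodule.span F (Set.range fun i => φ (e i)) = ⊤ := by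
    refine eq_top_iff.2 fun w _ => ?_
    rcases eq_or_ne w 0 with rfl | hw
    · exact zero_mem _
    obtain ⟨x, hx, c, hc⟩ := hsurj w hw
    have hc0 : c ≠ 0 := fun h => hne x hx (by rw [hc, h, zero_smul])
    have hsum : x = ∑ i ∈ Finset.univ, x i • e i := pi_eq_sum_univ' x
    have h := hspan Finset.univ e x (fun i _ => he i) (hsum ▸ hx)
    rw [← hsum, hc, Finset.coe_univ, Set.image_univ] at h
    have := Submodule.smul_mem _ c⁻¹ h
    rwa [smul_smul, inv_mul_cancel₀ hc0, one_smul] at this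
  obtain ⟨i₀⟩ : Nonempty ι := Fintype.card_pos_iff.1 (by omega)
  have hli₀ : LinearIndependent F (fun i => φ (e i)) :=
    linearIndependent_of_top_le_span_of_card_eq_finrank htop.ge (Module.finrank_fintype_fun_eq_card F).symm
  -- rescale
  have hscale : ∀ i, i ≠ i₀ → ∃ t : F, t ≠ 0 ∧ ∃ r : F, φ (e i₀ + e i) = r • (φ (e i₀) + t • φ (e i)) := by
    intro i hi
    have hne0 : e i₀ + e i ≠ 0 := fun h => by
      have := congrFun h i₀
      simp [e, hi] at this
    obtain ⟨r, s, h⟩ := hline (e i₀) (e i) 1 1 (he _) (he _) (by simpa using hne0)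
    rw [one_smul, one_smul] at h
    have hr : r ≠ 0 := fun hr => by
      obtain ⟨c, hc⟩ := hinj (e i) (e i₀ + e i) (he _) hne0 ⟨s, by rw [h, hr, zero_smul, zero_add]⟩
      have := congrFun hc i₀
      simp [e, hi] at this
    have hs : s ≠ 0 := fun hs => by
      obtain ⟨c, hc⟩ := hinj (e i₀) (e i₀ + e i) (he _) hne0 ⟨r, by rw [h, hs, zero_smul, add_zero]⟩
      have := congrFun hc i
      simp [e, hi.symm, hi] at this
    exact ⟨r⁻¹ * s, mul_ne_zero (inv_ne_zero hr) hs, r, by
      rw [h, smul_add, smul_smul, ← mul_assoc, mul_inv_cancel₀ hr, one_mul]⟩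
  choose t ht0 r₁ ht using hscale
  let u : ι → Fˣ := fun i => if h : i = i₀ then 1 else Units.mk0 (t i h) (ht0 i h)
  let b : ι → V := fun i => (u i : F) • φ (e i)
  have hli : LinearIndependent F b := hli₀.units_smul u
  have hb₀ : b i₀ = φ (e i₀) := by simp [b, u]
  have hbmem : ∀ i, ∃ c : F, φ (e i) = c • b i := fun i =>
    ⟨((u i)⁻¹ : Fˣ), by simp only [b, smul_smul, Units.inv_mul, one_smul]⟩
  let L : (ι → F) →ₗ[F] V := Fintype.linearCombination F b
  have hL : ∀ x, L x = ∑ i, x i • b i := Fintype.linearCombination_apply F b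
  have hLinj : Function.Injective L := linearIndependent_iff_injective_fintypeLinearCombination.1 hli
  have hLe : ∀ i, L (e i) = b i := fun i => by simp [hL, e, Pi.single_apply, ite_smul]
  -- coordinates on the lines through the first point
  have hf : ∀ i, i ≠ i₀ → ∀ a : F, ∃ c : F, ∃ r : F, φ (e i₀ + a • e i) = r • L (e i₀ + c • e i) := by
    intro i hi a
    have hne0 : e i₀ + a • e i ≠ 0 := fun h => by
      have := congrFun h i₀
      simp [e, hi] at this
    obtain ⟨r, s, h⟩ := hline (e i₀) (e i) 1 a (he _) (he _) (by rwa [one_smul])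
    rw [one_smul] at h
    have hr : r ≠ 0 := fun hr => by
      obtain ⟨c, hc⟩ := hinj (e i) _ (he _) hne0 ⟨s, by rw [h, hr, zero_smul, zero_add]⟩
      have := congrFun hc i₀
      simp [e, hi] at this
    obtain ⟨c, hc⟩ := hbmem i
    refine ⟨r⁻¹ * (s * c), r, ?_⟩
    rw [h, hc, map_add, map_smul, hLe, hLe, hb₀]
    generalize b i = bi
    rw [smul_add, smul_smul, smul_smul, ← mul_assoc r, mul_inv_cancel₀ hr, one_mul]
  choose f r₂ hfr using hf
  -- the image of a vector with first coordinate one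
  have hcoord : ∀ x : V, x i₀ = 1 → ∃ r : F, r ≠ 0 ∧
      φ x = r • L (fun i => if h : i = i₀ then 1 else f i h (x i)) := by
    intro x hx
    have hx0 : x ≠ 0 := fun h => by simp [h] at hx
    obtain ⟨y, hy⟩ : ∃ y, L y = φ x :=
      LinearMap.surjective_of_injective (f := L) hLinj (φ x)
    have key : ∀ i (hi : i ≠ i₀), y i = y i₀ * f i hi (x i) := by
      intro i hi
      let w : ι → V := fun j => if j = i₀ then e i₀ + x i • e i else e j
      let c : ι → F := fun j => if j = i₀ then 1 else x j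
      have hsum : x = ∑ j ∈ Finset.univ.erase i, c j • w j := by
        funext k
        rw [Finset.sum_apply, ← Finset.add_sum_erase _ _ (Finset.mem_erase.2 ⟨hi.symm, Finset.mem_univ i₀⟩),
          Finset.sum_congr rfl (g := fun j => if k = j then x j else 0) (fun j hj => by
            simp only [Finset.mem_erase] at hj
            simp [w, c, e, hj.1, Pi.single_apply])]
        rw [Finset.sum_ite_eq]
        simp only [w, c, e, if_pos, one_smul, Pi.add_apply, Pi.smul_apply, Pi.single_apply, smul_eq_mul]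
        rcases eq_or_ne k i₀ with rfl | hk
        · simp [hx, hi.symm]
        · rcases eq_or_ne k i with rfl | hk'
          · simp [hk]
          · simp [hk, hk']
      have hw : ∀ j ∈ Finset.univ.erase i, w j ≠ 0 := fun j _ => by
        simp only [w]
        split_ifs
        · intro h
          have := congrFun h i₀
          simp [e, hi] at this
        · exact he j
      have h := hspan _ w c hw (hsum ▸ hx0)
      rw [← hsum, ← hy] at h
      let K : Submodule F (ι → F) := LinearMap.ker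
        ((LinearMap.proj i : (ι → F) →ₗ[F] F) - f i hi (x i) • (LinearMap.proj i₀ : (ι → F) →ₗ[F] F))
      have hle : Submodule.span F ((fun j => φ (w j)) '' ↑(Finset.univ.erase i)) ≤ K.map L := by
        rw [Submodule.span_le]
        rintro _ ⟨j, hj, rfl⟩
        simp only [Finset.mem_coe, Finset.mem_erase] at hj
        simp only [w]
        by_cases hj0 : j = i₀
        · rw [if_pos hj0, hfr i hi (x i), ← map_smul]
          refine ⟨_, ?_, rfl⟩
          simp [K, e, hi, hi.symm]
          ring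
        · rw [if_neg hj0]
          obtain ⟨d, hd⟩ := hbmem j
          rw [hd, ← hLe, ← map_smul]
          exact ⟨_, by simp [K, e, Pi.single_apply, Ne.symm hj.1, Ne.symm hj0], rfl⟩
      obtain ⟨z, hz, hzy⟩ := hle h
      obtain rfl := hLinj hzy
      simp only [K, SetLike.mem_coe, LinearMap.mem_ker, LinearMap.sub_apply, LinearMap.smul_apply, LinearMap.proj_apply,
        smul_eq_mul, sub_eq_zero] at hz
      rw [hz, mul_comm]
    have heq : y = y i₀ • fun i => if h : i = i₀ then 1 else f i h (x i) := funext fun i => by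
      by_cases hi : i = i₀
      · subst hi; simp
      · simp [hi, key i hi]
    refine ⟨y i₀, fun h0 => hne x hx0 ?_, by rw [← hy, ← map_smul, ← heq]⟩
    rw [← hy, heq, h0, zero_smul, map_zero]
  -- pick two further indices
  obtain ⟨i₁, hi₁, i₂, hi₂, hi₁₂⟩ : ∃ i₁, i₁ ≠ i₀ ∧ ∃ i₂, i₂ ≠ i₀ ∧ i₁ ≠ i₂ := by
    have : 1 < (Finset.univ.erase i₀).card := by
      rw [Finset.card_erase_of_mem (Finset.mem_univ _), Finset.card_univ]; omega
    obtain ⟨a, ha, b, hb, hab⟩ := Finset.one_lt_card.1 this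
    exact ⟨a, (Finset.mem_erase.1 ha).1, b, (Finset.mem_erase.1 hb).1, hab⟩
  have hfirst : ∀ (i : ι) (hi : i ≠ i₀) (x : V), x i₀ = 1 → ∀ y : ι → F, (∃ r : F, φ x = r • L y) →
      y i = y i₀ * f i hi (x i) := by
    intro i hi x hx y hy
    obtain ⟨r, hr⟩ := hy
    obtain ⟨s, hs, hs'⟩ := hcoord x hx
    rw [hr, ← map_smul, ← map_smul] at hs'
    have h := hLinj hs'
    have h0 := congrFun h i₀
    have h1 := congrFun h i
    simp [hi] at h0 h1
    have hr0 : r ≠ 0 := fun h2 => hs (by rw [← h0, h2, zero_mul])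
    exact mul_left_cancel₀ hr0 (by rw [h1, ← h0]; ring)
  have hf0 : ∀ i (hi : i ≠ i₀), f i hi 0 = 0 := fun i hi => by
    have := hfirst i hi (e i₀) (by simp [e]) (e i₀) ⟨1, by rw [one_smul, hLe, hb₀]⟩
    simpa [e, hi, hi.symm] using this.symm
  have hf1 : ∀ i (hi : i ≠ i₀), f i hi 1 = 1 := fun i hi => by
    have := hfirst i hi (e i₀ + e i) (by simp [e, hi.symm]) (e i₀ + e i) ⟨r₁ i hi, by
      rw [ht i hi, map_add, hLe, hLe, hb₀]
      simp [b, u, hi]⟩
    simpa [e, hi, hi.symm] using this.symm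
  -- a vector with first coordinate zero
  have hzero : ∀ x : V, x ≠ 0 → x i₀ = 0 → ∃ r : F, r ≠ 0 ∧
      φ x = r • L (fun i => if h : i = i₀ then 0 else f i h (x i)) := by
    intro x hx hx0
    have hne1 : e i₀ + x ≠ 0 := fun h => by
      have := congrFun h i₀
      simp [e, hx0] at this
    obtain ⟨r, s, h⟩ := hline (e i₀ + x) (e i₀) 1 (-1) hne1 (he _)
      (by rw [one_smul, neg_smul, one_smul, add_neg_cancel_comm]; exact hx)
    rw [one_smul, neg_smul, one_smul, add_neg_cancel_comm] at h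
    obtain ⟨a, -, ha⟩ := hcoord (e i₀ + x) (by simp [e, hx0])
    have hr : r ≠ 0 := fun hr => by
      obtain ⟨c, hc⟩ := hinj (e i₀) x (he _) hx ⟨s, by rw [h, hr, zero_smul, zero_add]⟩
      have h3 := congrFun hc i₀
      rw [hx0] at h3
      simp [e] at h3
      exact hx (by rw [hc, ← h3, zero_smul])
    rw [ha, ← hb₀, ← hLe, ← map_smul, ← map_smul, ← map_smul, ← map_add] at h
    -- the coefficient of the first point vanishes
    have hmem : φ x ∈ Submodule.span F ((fun i => φ (e i)) '' ↑(Finset.univ.erase i₀)) := by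
      have hsum : x = ∑ i ∈ Finset.univ.erase i₀, x i • e i := by
        rw [Finset.sum_erase]
        · exact pi_eq_sum_univ' x
        · rw [hx0, zero_smul]
      have := hspan (Finset.univ.erase i₀) e x (fun i _ => he i) (hsum ▸ hx)
      rwa [← hsum] at this
    have hle : Submodule.span F ((fun i => φ (e i)) '' ↑(Finset.univ.erase i₀)) ≤
        (LinearMap.ker (LinearMap.proj i₀ : (ι → F) →ₗ[F] F)).map L := by
      rw [Submodule.span_le]
      rintro _ ⟨j, hj, rfl⟩
      simp only [Finset.mem_coe, Finset.mem_erase] at hj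
      obtain ⟨d, hd⟩ := hbmem j
      exact ⟨d • e j, by simp [e, hj.1.symm], by rw [map_smul, hLe]; exact hd.symm⟩
    obtain ⟨y, hy, hyx⟩ := hle hmem
    rw [h] at hyx
    have hy' := hLinj hyx
    simp only [SetLike.mem_coe, LinearMap.mem_ker, LinearMap.proj_apply] at hy
    rw [hy'] at hy
    have ha0 : a ≠ 0 := fun h0 => hne _ hne1 (by rw [ha, h0, zero_smul])
    refine ⟨r * a, mul_ne_zero hr ha0, ?_⟩
    rw [h, ← map_smul]
    congr 1
    funext i
    by_cases hi : i = i₀
    · subst hi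
      simpa using hy
    · simp [e, hi, Ne.symm hi, mul_assoc]
  -- the coordinate functions agree
  have heq : ∀ i (hi : i ≠ i₀) j (hj : j ≠ i₀), i ≠ j → ∀ a, f j hj a = -f j hj (-1) * f i hi a := by
    intro i hi j hj hij a
    obtain ⟨r, s, h⟩ := hline (e i₀ + a • e j) (e i - e j) 1 a
      (fun h => by have := congrFun h i₀; simp [e, hj.symm] at this)
      (fun h => by have := congrFun h i; simp [e, hij] at this)
      (fun h => by have := congrFun h i₀; simp [e, hj.symm, hi.symm] at this)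
    rw [one_smul, show e i₀ + a • e j + a • (e i - e j) = e i₀ + a • e i by rw [smul_sub]; abel] at h
    obtain ⟨z, hz0, hz⟩ := hcoord (e i₀ + a • e i) (by simp [e, hi.symm])
    obtain ⟨z₁, hz₁0, hz₁⟩ := hcoord (e i₀ + a • e j) (by simp [e, hj.symm])
    obtain ⟨z₂, hz₂0, hz₂⟩ := hzero (e i - e j) (fun h => by have := congrFun h i; simp [e, hij] at this)
      (by simp [e, hi.symm, hj.symm])
    rw [hz, hz₁, hz₂, ← map_smul, ← map_smul, ← map_smul, ← map_smul, ← map_smul, ← map_add] at h
    have h' := hLinj h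
    have c0 := congrFun h' i₀
    have c1 := congrFun h' i
    have c2 := congrFun h' j
    simp [e, hi, hj, hij, hij.symm, hf0, hf1] at c0 c1 c2
    have c3 : z * f j hj a = -(z * f i hi a) * f j hj (-1) := by
      linear_combination (f j hj a) * c0 + (f j hj (-1)) * c1 - c2
    exact mul_left_cancel₀ hz0 (by rw [c3]; ring)
  have hneg : ∀ j (hj : j ≠ i₀), f j hj (-1) = -1 := fun j hj => by
    obtain ⟨i, hi, hij⟩ : ∃ i, i ≠ i₀ ∧ i ≠ j := by
      rcases eq_or_ne j i₁ with rfl | h
      · exact ⟨i₂, hi₂, hi₁₂.symm⟩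
      · exact ⟨i₁, hi₁, h.symm⟩
    have := heq i hi j hj hij 1
    rw [hf1, hf1, mul_one] at this
    linear_combination this
  have hall : ∀ i (hi : i ≠ i₀) a, f i hi a = f i₁ hi₁ a := fun i hi a => by
    rcases eq_or_ne i i₁ with rfl | h
    · rfl
    · have := heq i₁ hi₁ i hi h.symm a
      rwa [hneg, neg_neg, one_mul] at this
  set σ₀ := f i₁ hi₁ with hσ₀
  have h00 : σ₀ 0 = 0 := hf0 _ _
  have h01 : σ₀ 1 = 1 := hf1 _ _
  have hmul : ∀ a c, σ₀ (a * c) = σ₀ a * σ₀ c := by
    intro a c
    rcases eq_or_ne a 0 with rfl | ha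
    · rw [zero_mul, h00, zero_mul]
    obtain ⟨z₁, hz₁0, hz₁⟩ := hzero (e i₁ + c • e i₂)
      (fun h => by have := congrFun h i₁; simp [e, hi₁₂] at this) (by simp [e, hi₁.symm, hi₂.symm])
    obtain ⟨z₂, hz₂0, hz₂⟩ := hzero (a • (e i₁ + c • e i₂))
      (fun h => by have := congrFun h i₁; simp [e, hi₁₂, ha] at this) (by simp [e, hi₁.symm, hi₂.symm])
    obtain ⟨d, hd⟩ := hscal (e i₁ + c • e i₂) a
      (fun h => by have := congrFun h i₁; simp [e, hi₁₂] at this) ha
    rw [hz₁, hz₂, ← map_smul, ← map_smul, ← map_smul] at hd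
    have h' := hLinj hd
    have c1 := congrFun h' i₁
    have c2 := congrFun h' i₂
    simp [e, hi₁, hi₂, hi₁₂, hi₁₂.symm, hall, h01] at c1 c2
    exact mul_left_cancel₀ hz₂0 (by linear_combination c2 - σ₀ c * c1)
  have hadd : ∀ a c, σ₀ (a + c) = σ₀ a + σ₀ c := by
    intro a c
    obtain ⟨r, s, h⟩ := hline (e i₀ + a • e i₁ + e i₂) (c • e i₁ - e i₂) 1 1
      (fun h => by have := congrFun h i₀; simp [e, hi₁.symm, hi₂.symm] at this)
      (fun h => by have := congrFun h i₂; simp [e, hi₁₂.symm] at this)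
      (fun h => by have := congrFun h i₀; simp [e, hi₁.symm, hi₂.symm] at this)
    rw [one_smul, one_smul, show e i₀ + a • e i₁ + e i₂ + (c • e i₁ - e i₂) = e i₀ + (a + c) • e i₁ by
      rw [add_smul]; abel] at h
    obtain ⟨z, hz0, hz⟩ := hcoord (e i₀ + (a + c) • e i₁) (by simp [e, hi₁.symm])
    obtain ⟨z₁, -, hz₁⟩ := hcoord (e i₀ + a • e i₁ + e i₂) (by simp [e, hi₁.symm, hi₂.symm])
    obtain ⟨z₂, -, hz₂⟩ := hzero (c • e i₁ - e i₂) (fun h => by have := congrFun h i₂; simp [e, hi₁₂.symm] at this)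
      (by simp [e, hi₁.symm, hi₂.symm])
    rw [hz, hz₁, hz₂, ← map_smul, ← map_smul, ← map_smul, ← map_smul, ← map_smul, ← map_add] at h
    have h' := hLinj h
    have c0 := congrFun h' i₀
    have c1 := congrFun h' i₁
    have c2 := congrFun h' i₂
    simp [e, hi₁, hi₂, hi₁₂, hi₁₂.symm, hall, h00, h01, hall i₂ hi₂, show σ₀ (-1) = -1 from hneg _ _] at c0 c1 c2
    exact mul_left_cancel₀ hz0 (by linear_combination c1 + σ₀ c * c2 - (σ₀ a + σ₀ c) * c0)
  let σ₁ : F →+* F := { toFun := σ₀, map_one' := h01, map_mul' := hmul, map_zero' := h00, map_add' := hadd }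
  let σ : F ≃+* F := RingEquiv.ofBijective σ₁ (Finite.injective_iff_bijective.1 σ₁.injective)
  have hσ : ∀ a, σ a = σ₀ a := fun a => rfl
  have hdet : IsUnit (LinearMap.toMatrix' L).det := by
    rw [LinearMap.det_toMatrix']
    exact LinearEquiv.isUnit_det' (LinearEquiv.ofBijective L
      ⟨hLinj, LinearMap.surjective_of_injective hLinj⟩)
  refine ⟨GeneralLinearGroup.mk'' _ hdet, σ, fun x hx => ?_⟩
  show ∃ c : F, c ≠ 0 ∧ φ x = c • (LinearMap.toMatrix' L *ᵥ (σ ∘ x))
  simp only [← Matrix.toLin'_apply, Matrix.toLin'_toMatrix']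
  by_cases hx0 : x i₀ = 0
  · obtain ⟨r, hr, h⟩ := hzero x hx hx0
    refine ⟨r, hr, h.trans ?_⟩
    congr 2
    funext i
    by_cases hi : i = i₀
    · subst hi; simp [hσ, hx0, h00]
    · simp [hi, hσ, hall i hi]
  · obtain ⟨r, hr, h⟩ := hcoord ((x i₀)⁻¹ • x) (by simp [hx0])
    obtain ⟨d, hd⟩ := hscal _ (x i₀) (smul_ne_zero (inv_ne_zero hx0) hx) hx0
    rw [smul_smul, mul_inv_cancel₀ hx0, one_smul, h, smul_smul] at hd
    have hdr : d * r ≠ 0 := fun h0 => hne x hx (by rw [hd, h0, zero_smul])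
    refine ⟨d * r * σ (x i₀)⁻¹, mul_ne_zero hdr (by simp [hx0]), hd.trans ?_⟩
    rw [← smul_smul (d * r) (σ (x i₀)⁻¹), ← map_smul L (σ (x i₀)⁻¹)]
    congr 2
    funext i
    simp only [Pi.smul_apply, Function.comp_apply, smul_eq_mul, ← map_mul]
    by_cases hi : i = i₀
    · subst hi; simp [hσ, hx0, h01]
    · simp [hi, hσ, hall i hi]

end Cfsg.Lib.Linear.Collineation
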