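import Mathlib
import Cfsg.Agent.Lib.Linear.UnitaryCenter

/-!
# The Sylow 7-normalizer of PSU₄(3)

An element `T` of order 7 of `SU₄(3)` fixes a line `L` and is irreducible on `W = [V, T]`; an
element of prime order `r ∈ {2, 3, 5}` modulo the centre commuting with it is scalar on `W` and on
`L`, hence central. So the centralizer has order 7 and Sylow's theorem gives the normalizer.
-/

set_option autoImplicit false

namespace Cfsg.Lib.Linear.PSUFourSeven

open Module
open scoped Matrix

variable {F : Type*} [Field F] [Fintype F]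

theorem three_eq_zero (hF : Fintype.card F = 9) : (3 : F) = 0 := by
  have h : ((9 : ℕ) : F) = 0 := by rw [← hF]; exact Nat.cast_card_eq_zero F
  have h' : (3 : F) * 3 = 0 := by rw [← h]; norm_num
  exact mul_self_eq_zero.1 h'

theorem seven_eq_one (hF : Fintype.card F = 9) : (7 : F) = 1 := by
  linear_combination (2 : F) * three_eq_zero hF

theorem card_eq_pow (hF : Fintype.card F = 9) (U : Submodule F (Fin 4 → F)) :
    Nat.card U = 9 ^ finrank F U := by
  rw [Module.natCard_eq_pow_finrank (K := F), Nat.card_eq_fintype_card, hF]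

/-- The fixed points of an element of prime order on an invariant subspace, modulo that prime. -/
theorem fixed_modEq (hF : Fintype.card F = 9) {r : ℕ} (hr : r.Prime)
    {h : Module.End F (Fin 4 → F)} (hh : h ^ r = 1) {U : Submodule F (Fin 4 → F)}
    (hU : ∀ x ∈ U, h x ∈ U) :
    9 ^ finrank F U ≡ 9 ^ finrank F ↥(U ⊓ LinearMap.ker (h - 1)) [MOD r] := by
  classical
  have := Fact.mk hr
  let f : Function.End U := fun x => ⟨h x.1, hU x.1 x.2⟩
  have hval : ∀ (n : ℕ) (x : U), ((f ^ n) x).1 = (h ^ n) x.1 := by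
    intro n
    induction n with
    | zero => intro x; rfl
    | succ n ih =>
      intro x
      rw [pow_succ, pow_succ, Module.End.mul_apply]
      exact ih (f x)
  have hf : f ^ r ^ 1 = 1 := by
    funext x
    apply Subtype.ext
    rw [pow_one, hval r x, hh]
    rfl
  have h2 := Equiv.Perm.card_fixedPoints_modEq (p := r) (n := 1) hf
  rw [← card_eq_pow hF, ← card_eq_pow hF, Nat.card_eq_fintype_card, Nat.card_eq_fintype_card]
  refine h2.trans (congrArg (· % r) ?_)
  refine Fintype.card_congr ⟨fun x => ⟨x.1.1, x.1.2, LinearMap.mem_ker.2 ?_⟩,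
    fun y => ⟨⟨y.1, y.2.1⟩, ?_⟩, fun x => rfl, fun y => rfl⟩
  · rw [LinearMap.sub_apply, Module.End.one_apply, sub_eq_zero]
    exact congrArg Subtype.val x.2
  · have := LinearMap.mem_ker.1 y.2.2
    rw [LinearMap.sub_apply, Module.End.one_apply, sub_eq_zero] at this
    exact Subtype.ext this

/-- The projection onto the fixed space of `T`. -/
def proj (T : Module.End F (Fin 4 → F)) : Module.End F (Fin 4 → F) :=
  ∑ i ∈ Finset.range 7, T ^ i

variable {T : Module.End F (Fin 4 → F)}

theorem mul_proj (h7 : T ^ 7 = 1) : T * proj T = proj T := by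
  rw [proj, Finset.mul_sum]
  simp only [← pow_succ']
  have h1 := Finset.sum_range_succ' (fun i => T ^ i) 7
  have h2 := Finset.sum_range_succ (fun i => T ^ i) 7
  rw [h2, h7, pow_zero] at h1
  exact (add_right_cancel h1).symm

theorem proj_apply_fixed (hF : Fintype.card F = 9) {x : Fin 4 → F} (hx : T x = x) :
    proj T x = x := by
  have h : ∀ i, (T ^ i) x = x := by
    intro i
    induction i with
    | zero => rfl
    | succ i ih => rw [pow_succ, Module.End.mul_apply, hx, ih]
  rw [proj, LinearMap.sum_apply, Finset.sum_congr rfl fun i _ => h i, Finset.sum_const,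
    Finset.card_range, ← Nat.cast_smul_eq_nsmul F, Nat.cast_ofNat, seven_eq_one hF, one_smul]

theorem fix_proj (h7 : T ^ 7 = 1) (x : Fin 4 → F) : T (proj T x) = proj T x := by
  rw [← Module.End.mul_apply, mul_proj h7]

theorem fixedSpace_eq (hF : Fintype.card F = 9) (h7 : T ^ 7 = 1) :
    LinearMap.ker (T - 1) = LinearMap.range (proj T) := by
  ext x
  rw [LinearMap.mem_ker, LinearMap.sub_apply, Module.End.one_apply, sub_eq_zero, LinearMap.mem_range]
  exact ⟨fun h => ⟨x, proj_apply_fixed hF h⟩, fun ⟨y, hy⟩ => hy ▸ fix_proj h7 y⟩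

theorem isCompl_ker_range (hF : Fintype.card F = 9) (h7 : T ^ 7 = 1) :
    IsCompl (LinearMap.ker (proj T)) (LinearMap.range (proj T)) := by
  refine ⟨disjoint_iff.2 ((Submodule.eq_bot_iff _).2 ?_), codisjoint_iff.2 (eq_top_iff.2 fun x _ => ?_)⟩
  · rintro x ⟨h1, y, rfl⟩
    rw [SetLike.mem_coe, LinearMap.mem_ker, proj_apply_fixed hF (fix_proj h7 y)] at h1
    exact h1
  · refine Submodule.mem_sup.2 ⟨x - proj T x, ?_, proj T x, ⟨x, rfl⟩, sub_add_cancel _ _⟩
    rw [LinearMap.mem_ker, map_sub, proj_apply_fixed hF (fix_proj h7 x), sub_self]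

theorem mapsTo_ker {k e : Module.End F (Fin 4 → F)} (hc : Commute k e) {x : Fin 4 → F}
    (hx : x ∈ LinearMap.ker e) : k x ∈ LinearMap.ker e := by
  rw [LinearMap.mem_ker] at hx ⊢
  rw [← Module.End.mul_apply, ← hc.eq, Module.End.mul_apply, hx, map_zero]

theorem finrank_fixed (hF : Fintype.card F = 9) (h7 : T ^ 7 = 1) (hT : T ≠ 1) :
    finrank F (LinearMap.range (proj T)) = 1 := by
  have h := fixed_modEq hF (by norm_num : (7 : ℕ).Prime) h7 (U := ⊤) fun _ _ => Submodule.mem_top
  rw [top_inf_eq, fixedSpace_eq hF h7, finrank_top, finrank_fin_fun] at h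
  have hle := (LinearMap.range (proj T)).finrank_le
  rw [finrank_fin_fun] at hle
  have h4 : finrank F (LinearMap.range (proj T)) ≠ 4 := by
    intro h4
    refine hT (LinearMap.ext fun x => ?_)
    have hx : x ∈ LinearMap.range (proj T) := by
      rw [Submodule.eq_top_of_finrank_eq (S := LinearMap.range (proj T))
        (by rw [h4, finrank_fin_fun])]; trivial
    obtain ⟨y, rfl⟩ := hx
    exact fix_proj h7 y
  generalize finrank F (LinearMap.range (proj T)) = e at h hle h4 ⊢
  interval_cases e <;> first | rfl | omega | exact absurd h (by decide)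

theorem finrank_moved (hF : Fintype.card F = 9) (h7 : T ^ 7 = 1) (hT : T ≠ 1) :
    finrank F (LinearMap.ker (proj T)) = 3 := by
  have h := (proj T).finrank_range_add_finrank_ker
  rw [finrank_fixed hF h7 hT, finrank_fin_fun] at h
  omega

/-- `T` is irreducible on the kernel of the projection. -/
theorem irreducible_moved (hF : Fintype.card F = 9) (h7 : T ^ 7 = 1) (hT : T ≠ 1)
    {U : Submodule F (Fin 4 → F)} (hUW : U ≤ LinearMap.ker (proj T)) (hU : ∀ x ∈ U, T x ∈ U) :
    U = ⊥ ∨ U = LinearMap.ker (proj T) := by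
  have h := fixed_modEq hF (by norm_num : (7 : ℕ).Prime) h7 hU
  rw [fixedSpace_eq hF h7, disjoint_iff.1 ((isCompl_ker_range hF h7).disjoint.mono_left hUW),
    finrank_bot] at h
  have hle := Submodule.finrank_mono hUW
  rw [finrank_moved hF h7 hT] at hle
  by_cases h0 : finrank F U = 0
  · exact Or.inl (Submodule.finrank_eq_zero.1 h0)
  refine Or.inr (Submodule.eq_of_le_of_finrank_eq hUW ?_)
  rw [finrank_moved hF h7 hT]
  generalize finrank F U = e at h h0 hle ⊢
  interval_cases e <;> first | rfl | omega | exact absurd h (by decide)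

/-- A commuting endomorphism vanishing somewhere on `W` vanishes on `W`. -/
theorem ker_dichotomy (hF : Fintype.card F = 9) (h7 : T ^ 7 = 1) (hT : T ≠ 1)
    {k : Module.End F (Fin 4 → F)} (hk : Commute k T)
    (hne : LinearMap.ker (proj T) ⊓ LinearMap.ker k ≠ ⊥) :
    LinearMap.ker (proj T) ≤ LinearMap.ker k := by
  have h := irreducible_moved hF h7 hT (U := LinearMap.ker (proj T) ⊓ LinearMap.ker k) inf_le_left
    fun x hx => ⟨mapsTo_ker (Commute.sum_right _ _ _ fun i _ => (Commute.refl T).pow_right i) hx.1,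
      mapsTo_ker hk.symm hx.2⟩
  rcases h with h | h
  · exact absurd h hne
  · exact inf_eq_left.1 h

theorem commute_proj {k : Module.End F (Fin 4 → F)} (hk : Commute k T) : Commute k (proj T) :=
  Commute.sum_right _ _ _ fun i _ => hk.pow_right i

theorem line_dichotomy (hF : Fintype.card F = 9) (h7 : T ^ 7 = 1) (hT : T ≠ 1)
    {k : Module.End F (Fin 4 → F)}
    (hne : LinearMap.range (proj T) ⊓ LinearMap.ker k ≠ ⊥) :
    LinearMap.range (proj T) ≤ LinearMap.ker k := by
  refine inf_eq_left.1 (Submodule.eq_of_le_of_finrank_le inf_le_left ?_)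
  rw [finrank_fixed hF h7 hT]
  exact Nat.one_le_iff_ne_zero.2 fun h => hne (Submodule.finrank_eq_zero.1 h)

/-- Commuting elements of order 3 or 5 are trivial. -/
theorem eq_one_of_pow (hF : Fintype.card F = 9) (h7 : T ^ 7 = 1) (hT : T ≠ 1) {r : ℕ}
    (hr : r = 3 ∨ r = 5) {h : Module.End F (Fin 4 → F)} (hh : h ^ r = 1) (hc : Commute h T) :
    h = 1 := by
  have hp : r.Prime := by rcases hr with rfl | rfl <;> norm_num
  have hc' : Commute (h - 1) T := hc.sub_left (Commute.one_left T)
  have hW : LinearMap.ker (proj T) ≤ LinearMap.ker (h - 1) := by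
    refine ker_dichotomy hF h7 hT hc' fun h0 => ?_
    have hm := fixed_modEq hF hp hh (U := LinearMap.ker (proj T))
      fun x hx => mapsTo_ker (commute_proj hc) hx
    rw [h0, finrank_bot, finrank_moved hF h7 hT] at hm
    rcases hr with rfl | rfl <;> exact absurd hm (by decide)
  have hL : LinearMap.range (proj T) ≤ LinearMap.ker (h - 1) := by
    refine line_dichotomy hF h7 hT fun h0 => ?_
    have hm := fixed_modEq hF hp hh (U := LinearMap.range (proj T)) fun x hx => by
      obtain ⟨y, rfl⟩ := hx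
      exact ⟨h y, by rw [← Module.End.mul_apply, ← (commute_proj hc).eq]; rfl⟩
    rw [h0, finrank_bot, finrank_fixed hF h7 hT] at hm
    rcases hr with rfl | rfl <;> exact absurd hm (by decide)
  have htop := sup_le hW hL
  rw [(isCompl_ker_range hF h7).sup_eq_top] at htop
  refine LinearMap.ext fun x => ?_
  have := LinearMap.mem_ker.1 (htop (Submodule.mem_top (x := x)))
  rwa [LinearMap.sub_apply, sub_eq_zero] at this

/-- An isometry of determinant one with scalar square commuting with `T` is scalar. -/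
theorem scalar_of_sq (hF : Fintype.card F = 9) (h7 : T ^ 7 = 1) (hT : T ≠ 1)
    (hTf : ∀ u v, Cfsg.hermForm 4 F 3 (T u) (T v) = Cfsg.hermForm 4 F 3 u v)
    {h : Module.End F (Fin 4 → F)}
    (hhf : ∀ u v, Cfsg.hermForm 4 F 3 (h u) (h v) = Cfsg.hermForm 4 F 3 u v)
    (hdet : LinearMap.det h = 1) (hc : Commute h T) {c : F} (hh : h * h = c • (1 : Module.End F (Fin 4 → F)))
    (hc4 : c ^ 4 = 1) : ∃ a : F, h = a • (1 : Module.End F (Fin 4 → F)) := by
  obtain ⟨s, hs⟩ : IsSquare c := by
    have hc0 : c ≠ 0 := by rintro rfl; simp at hc4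
    refine (FiniteField.isSquare_iff ?_ hc0).2 (by rw [hF]; exact hc4)
    intro h2
    have h3 := three_eq_zero hF
    have : (1 : F) = 0 := by
      have := @ringChar.charP F _
      rw [h2] at this
      have h2' : (2 : F) = 0 := CharP.cast_eq_zero F 2
      linear_combination h3 - h2'
    exact one_ne_zero this
  have hmul : ∀ x, (h - s • 1) ((h + s • 1) x) = 0 := fun x => by
    have e : h (h x) = (s * s) • x := by
      rw [← hs, ← Module.End.mul_apply, hh]; rfl
    simp only [LinearMap.sub_apply, LinearMap.add_apply, LinearMap.smul_apply,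
      Module.End.one_apply, map_add, map_smul, e, smul_smul, smul_add]
    module
  have hpick : ∀ U : Submodule F (Fin 4 → F), U ≠ ⊥ → (∀ x ∈ U, h x ∈ U) →
      ∃ a : F, (a = s ∨ a = -s) ∧ U ⊓ LinearMap.ker (h - a • 1) ≠ ⊥ := by
    intro U hU hinv
    obtain ⟨x, hx, hx0⟩ := Submodule.exists_mem_ne_zero_of_ne_bot hU
    by_cases hy : (h + s • 1) x = 0
    · refine ⟨-s, Or.inr rfl, (Submodule.ne_bot_iff _).2 ⟨x, ⟨hx, ?_⟩, hx0⟩⟩
      simpa [LinearMap.mem_ker, sub_neg_eq_add] using hy
    · exact ⟨s, Or.inl rfl, (Submodule.ne_bot_iff _).2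
        ⟨_, ⟨U.add_mem (hinv x hx) (U.smul_mem s hx), hmul x⟩, hy⟩⟩
  have hW0 : LinearMap.ker (proj T) ≠ ⊥ := fun h0 => by
    have := finrank_moved hF h7 hT
    rw [h0, finrank_bot] at this
    omega
  have hL0 : LinearMap.range (proj T) ≠ ⊥ := fun h0 => by
    have := finrank_fixed hF h7 hT
    rw [h0, finrank_bot] at this
    omega
  obtain ⟨a, ha, haW⟩ := hpick _ hW0 fun x hx => mapsTo_ker (commute_proj hc) hx
  obtain ⟨b, hb, hbL⟩ := hpick _ hL0 fun x hx => by
    obtain ⟨y, rfl⟩ := hx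
    exact ⟨h y, by rw [← Module.End.mul_apply, ← (commute_proj hc).eq]; rfl⟩
  have haT := ker_dichotomy hF h7 hT (hc.sub_left ((Commute.one_left T).smul_left a)) haW
  have hbT := line_dichotomy hF h7 hT hbL
  have hWv : ∀ x ∈ LinearMap.ker (proj T), h x = a • x := fun x hx => by
    have := LinearMap.mem_ker.1 (haT hx)
    rwa [LinearMap.sub_apply, LinearMap.smul_apply, Module.End.one_apply, sub_eq_zero] at this
  have hLv : ∀ x ∈ LinearMap.range (proj T), h x = b • x := fun x hx => by
    have := LinearMap.mem_ker.1 (hbT hx)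
    rwa [LinearMap.sub_apply, LinearMap.smul_apply, Module.End.one_apply, sub_eq_zero] at this
  set B := Cfsg.Lib.Linear.Herm.hB (show Fintype.card F = 3 ^ 2 from hF) 4 with hB
  have hBv : ∀ u v, B v u = Cfsg.hermForm 4 F 3 u v := fun u v => rfl
  have ha4 : a ^ 4 = 1 := by
    obtain ⟨u, hu, hu0⟩ := Submodule.exists_mem_ne_zero_of_ne_bot hW0
    obtain ⟨v, hv, hv0⟩ : ∃ v ∈ LinearMap.ker (proj T), Cfsg.hermForm 4 F 3 u v ≠ 0 := by
      by_contra hcon
      push_neg at hcon
      refine hu0 (funext fun i => ?_)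
      have hfix : Cfsg.hermForm 4 F 3 u (proj T (Pi.single i 1)) = 0 := by
        set w := proj T (Pi.single i 1)
        have hTi : ∀ j : ℕ, Cfsg.hermForm 4 F 3 ((T ^ j) u) w = Cfsg.hermForm 4 F 3 u w := by
          intro j
          induction j with
          | zero => rfl
          | succ j ih =>
            have hstep := hTf ((T ^ j) u) w
            rw [fix_proj h7] at hstep
            rw [pow_succ', Module.End.mul_apply, hstep, ih]
        have e : B w (proj T u) = (7 : ℕ) • B w u := by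
          rw [proj, LinearMap.sum_apply, map_sum, Finset.sum_congr rfl fun j _ => by
            rw [hBv, hTi j, ← hBv], Finset.sum_const, Finset.card_range]
        rw [LinearMap.mem_ker.1 hu, map_zero, ← Nat.cast_smul_eq_nsmul F, Nat.cast_ofNat,
          seven_eq_one hF, one_smul, hBv] at e
        exact e.symm
      have hrest := hcon (Pi.single i 1 - proj T (Pi.single i 1)) (by
        rw [LinearMap.mem_ker, map_sub, proj_apply_fixed hF (fix_proj h7 _), sub_self])
      rw [← hBv, map_sub, LinearMap.sub_apply, hBv, hBv, hfix, sub_zero] at hrest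
      rw [Pi.zero_apply, ← hrest]
      simp only [Cfsg.hermForm]
      rw [Finset.sum_eq_single i (fun l _ hl => by simp [hl]) (by simp)]
      simp
    have := hhf u v
    rw [hWv u hu, hWv v hv] at this
    have e : Cfsg.hermForm 4 F 3 (a • u) (a • v) = a ^ 4 * Cfsg.hermForm 4 F 3 u v := by
      simp only [Cfsg.hermForm, Finset.mul_sum, Pi.smul_apply, smul_eq_mul]
      exact Finset.sum_congr rfl fun l _ => by ring
    rw [e] at this
    exact mul_right_cancel₀ hv0 (this.trans (one_mul _).symm)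
  set E := Submodule.prodEquivOfIsCompl _ _ (isCompl_ker_range hF h7) with hE
  have hconj : h = E.toLinearMap ∘ₗ
      ((a • LinearMap.id).prodMap (b • LinearMap.id)) ∘ₗ E.symm.toLinearMap := by
    refine LinearMap.ext fun x => ?_
    obtain ⟨⟨y, z⟩, rfl⟩ := E.surjective x
    rw [LinearMap.comp_apply, LinearMap.comp_apply, LinearEquiv.coe_coe, LinearEquiv.coe_coe,
      LinearEquiv.symm_apply_apply]
    simp only [LinearMap.prodMap_apply, LinearMap.smul_apply, LinearMap.id_apply, hE,
      Submodule.coe_prodEquivOfIsCompl', Submodule.coe_smul, map_add, hWv _ y.2, hLv _ z.2]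
  rw [hconj, LinearMap.det_conj, LinearMap.det_prodMap, LinearMap.det_smul, LinearMap.det_smul,
    LinearMap.det_id, LinearMap.det_id, finrank_moved hF h7 hT, finrank_fixed hF h7 hT, mul_one,
    mul_one, pow_one] at hdet
  have hab : b = a := by
    have := congrArg (a * ·) hdet
    simp only [← mul_assoc, ← pow_succ', ha4, one_mul, mul_one] at this
    exact this
  refine ⟨a, LinearMap.ext fun x => ?_⟩
  obtain ⟨⟨y, z⟩, rfl⟩ := E.surjective x
  rw [hE, Submodule.coe_prodEquivOfIsCompl', map_add, hWv _ y.2, hLv _ z.2, hab]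
  simp [smul_add]

/-- Elements of `SU₄` as endomorphisms. -/
noncomputable def toEnd : Cfsg.SU 4 F 3 →* Module.End F (Fin 4 → F) :=
  ((Matrix.toLinAlgEquiv' : Matrix (Fin 4) (Fin 4) F ≃ₐ[F] _).toMonoidHom).comp
    ((Cfsg.slToMat 4 F).comp (Cfsg.SU 4 F 3).subtype)

omit [Fintype F] in
theorem toEnd_apply (A : Cfsg.SU 4 F 3) (x : Fin 4 → F) :
    toEnd A x = ((A : Matrix.SpecialLinearGroup (Fin 4) F) : Matrix (Fin 4) (Fin 4) F) *ᵥ x :=
  Matrix.toLinAlgEquiv'_apply _ _

omit [Fintype F] in
theorem toEnd_injective : Function.Injective (toEnd : Cfsg.SU 4 F 3 →* _) := fun A B h =>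
  Subtype.ext (Subtype.ext ((Matrix.toLinAlgEquiv'
    (R := F) (n := Fin 4)).injective h))

omit [Fintype F] in
theorem det_toEnd (A : Cfsg.SU 4 F 3) : LinearMap.det (toEnd A) = 1 := by
  show LinearMap.det (Matrix.toLin' ((A : Matrix.SpecialLinearGroup (Fin 4) F) : Matrix (Fin 4) (Fin 4) F)) = 1
  rw [LinearMap.det_toLin']
  exact A.1.2

omit [Fintype F] in
theorem form_toEnd (A : Cfsg.SU 4 F 3) (u v : Fin 4 → F) :
    Cfsg.hermForm 4 F 3 (toEnd A u) (toEnd A v) = Cfsg.hermForm 4 F 3 u v := by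
  rw [toEnd_apply, toEnd_apply]; exact A.2 u v

theorem center_scalar (hF : Fintype.card F = 9) {A : Cfsg.SU 4 F 3}
    (hA : A ∈ Subgroup.center (Cfsg.SU 4 F 3)) :
    ∃ c : F, c ^ 4 = 1 ∧ toEnd A = c • (1 : Module.End F (Fin 4 → F)) := by
  obtain ⟨c, hc⟩ := Cfsg.Lib.Linear.Herm.exists_scalar (show Fintype.card F = 3 ^ 2 from hF)
    (by norm_num) ((A : Matrix.SpecialLinearGroup (Fin 4) F) : Matrix (Fin 4) (Fin 4) F) fun B hB => by
      have h := Subgroup.mem_center_iff.1 hA ⟨B, hB⟩
      exact congrArg (fun x : Cfsg.SU 4 F 3 =>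
        ((x.1 : Matrix.SpecialLinearGroup (Fin 4) F) : Matrix (Fin 4) (Fin 4) F)) h
  have e : toEnd A = c • (1 : Module.End F (Fin 4 → F)) := LinearMap.ext fun x => by
    rw [toEnd_apply, hc, Matrix.scalar_apply]
    ext i
    simp [Matrix.mulVec_diagonal]
  refine ⟨c, ?_, e⟩
  have h := det_toEnd A
  rwa [e, LinearMap.det_smul, map_one, mul_one, finrank_fin_fun] at h

theorem mem_center_of_scalar {A : Cfsg.SU 4 F 3} {a : F}
    (hA : toEnd A = a • (1 : Module.End F (Fin 4 → F))) : A ∈ Subgroup.center (Cfsg.SU 4 F 3) := by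
  refine Subgroup.mem_center_iff.2 fun B => toEnd_injective ?_
  rw [map_mul, map_mul, hA, Algebra.mul_smul_comm, Algebra.smul_mul_assoc, mul_one, one_mul]

theorem card_PSU (hF : Fintype.card F = 9) : Nat.card (Cfsg.PSU 4 F 3) = 3265920 := by
  have hF' : Fintype.card F = 3 ^ 2 := hF
  have h1 := Cfsg.Lib.Linear.Herm.card_SU hF' (n := 4) (by norm_num)
  rw [Cfsg.Lib.Linear.Herm.card_GU hF'] at h1
  simp [Finset.prod_range_succ, Nat.even_iff] at h1
  have h2 := Subgroup.card_eq_card_quotient_mul_card_subgroup (Subgroup.center (Cfsg.SU 4 F 3))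
  rw [Cfsg.Lib.Linear.Herm.card_center_SU hF' (n := 4) (by norm_num)] at h2
  norm_num at h2
  change Nat.card (Cfsg.SU 4 F 3 ⧸ Subgroup.center (Cfsg.SU 4 F 3)) = _
  omega

theorem center_pow_four (hF : Fintype.card F = 9) {z : Cfsg.SU 4 F 3}
    (hz : z ∈ Subgroup.center (Cfsg.SU 4 F 3)) : z ^ 4 = 1 := by
  obtain ⟨c, hc, e⟩ := center_scalar hF hz
  exact toEnd_injective (by rw [map_pow, e, smul_pow, hc, one_pow, one_smul, map_one])

theorem centralizer_element (hF : Fintype.card F = 9) {x y : Cfsg.PSU 4 F 3}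
    (hx : orderOf x = 7) (hxy : Commute y x) {r : ℕ} (hr : r = 2 ∨ r = 3 ∨ r = 5)
    (hy : y ^ r = 1) : y = 1 := by
  obtain ⟨g0, rfl⟩ := QuotientGroup.mk_surjective x
  set g := g0 ^ 8 with hg
  have hgx : (g : Cfsg.PSU 4 F 3) = (g0 : Cfsg.PSU 4 F 3) := by
    rw [hg, QuotientGroup.mk_pow, pow_succ, ← hx, pow_orderOf_eq_one, one_mul]
  have hg7 : g ^ 7 = 1 := by
    rw [hg, ← pow_mul, show 8 * 7 = 7 * 4 * 2 by norm_num, pow_mul, pow_mul,
      center_pow_four hF ((QuotientGroup.eq_one_iff _).1 (by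
        rw [QuotientGroup.mk_pow, ← hx, pow_orderOf_eq_one])), one_pow]
  have hT7 : toEnd g ^ 7 = 1 := by rw [← map_pow, hg7, map_one]
  have hT1 : toEnd g ≠ 1 := fun h => by
    have h1 : g = 1 := toEnd_injective (h.trans (map_one _).symm)
    rw [h1, QuotientGroup.mk_one] at hgx
    rw [← hgx, orderOf_one] at hx
    omega
  obtain ⟨h0, rfl⟩ := QuotientGroup.mk_surjective y
  -- commuting in the quotient lifts to commuting, as the orders are coprime
  have hcomm : ∀ h : Cfsg.SU 4 F 3, Commute (h : Cfsg.PSU 4 F 3) (g0 : Cfsg.PSU 4 F 3) →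
      Commute (toEnd h) (toEnd g) := by
    intro h hh
    obtain ⟨z, hz, e⟩ : ∃ z ∈ Subgroup.center (Cfsg.SU 4 F 3), h * g * h⁻¹ = g * z := by
      refine ⟨g⁻¹ * (h * g * h⁻¹), (QuotientGroup.eq_one_iff _).1 ?_, by group⟩
      rw [QuotientGroup.mk_mul, QuotientGroup.mk_inv, QuotientGroup.mk_mul, QuotientGroup.mk_mul,
        QuotientGroup.mk_inv, hgx, hh.eq, mul_inv_cancel_right, inv_mul_cancel]
    have h7z : z ^ 7 = 1 := by
      have h1 : (h * g * h⁻¹) ^ 7 = 1 := by rw [conj_pow, hg7, mul_one, mul_inv_cancel]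
      have hgz : Commute g z := Subgroup.mem_center_iff.1 hz g
      rw [e, hgz.mul_pow, hg7, one_mul] at h1
      exact h1
    have hz1 : z = 1 := by
      have := (pow_gcd_eq_one (a := z)).2 ⟨h7z, center_pow_four hF hz⟩
      simpa using this
    rw [hz1, mul_one] at e
    exact Commute.map (mul_inv_eq_iff_eq_mul.1 e : h * g = g * h) toEnd
  rcases hr with rfl | hr
  · have hz : h0 ^ 2 ∈ Subgroup.center (Cfsg.SU 4 F 3) :=
      (QuotientGroup.eq_one_iff _).1 (by rw [QuotientGroup.mk_pow]; exact hy)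
    obtain ⟨c, hc4, hc⟩ := center_scalar hF hz
    obtain ⟨a, ha⟩ := scalar_of_sq hF hT7 hT1 (form_toEnd g) (form_toEnd h0) (det_toEnd h0)
      (hcomm h0 hxy) (c := c) (by rw [← map_mul, ← pow_two, hc]) hc4
    exact (QuotientGroup.eq_one_iff _).2 (mem_center_of_scalar ha)
  · have hz : h0 ^ r ∈ Subgroup.center (Cfsg.SU 4 F 3) :=
      (QuotientGroup.eq_one_iff _).1 (by rw [QuotientGroup.mk_pow]; exact hy)
    have h4 : (h0 ^ 4) ^ r = 1 := by rw [← pow_mul, mul_comm, pow_mul, center_pow_four hF hz]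
    have h1 : h0 ^ 4 = 1 := toEnd_injective (by
      rw [map_one]
      exact eq_one_of_pow hF hT7 hT1 hr (by rw [← map_pow, h4, map_one])
        (hcomm _ (by rw [QuotientGroup.mk_pow]; exact hxy.pow_left 4)))
    have hy4 : (h0 : Cfsg.PSU 4 F 3) ^ 4 = 1 := by rw [← QuotientGroup.mk_pow, h1, QuotientGroup.mk_one]
    have := (pow_gcd_eq_one (a := (h0 : Cfsg.PSU 4 F 3))).2 ⟨hy, hy4⟩
    rcases hr with rfl | rfl <;> simpa using this

theorem normalizer_seven (hF : Fintype.card F = 9) (X : Subgroup (Cfsg.PSU 4 F 3))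
    (hX : Nat.card X = 7) :
    Nat.card ↥(Subgroup.normalizer (X : Set (Cfsg.PSU 4 F 3))) = 21 ∧
      Subgroup.centralizer (X : Set (Cfsg.PSU 4 F 3)) = X := by
  classical
  have hG := card_PSU hF
  have : Finite (Cfsg.PSU 4 F 3) := Nat.finite_of_card_ne_zero (by rw [hG]; norm_num)
  have : Fact (Nat.Prime 7) := ⟨by norm_num⟩
  have hcyc : IsCyclic X := isCyclic_of_prime_card hX
  obtain ⟨x, hx⟩ := IsCyclic.exists_ofOrder_eq_natCard (α := X)
  rw [hX, ← Subgroup.orderOf_coe] at hx
  set C := Subgroup.centralizer (X : Set (Cfsg.PSU 4 F 3)) with hC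
  have hprimes : ∀ r : ℕ, r.Prime → r ∣ Nat.card C → r = 7 := by
    intro r hr hd
    have := Fact.mk hr
    obtain ⟨y, hy⟩ := exists_prime_orderOf_dvd_card' r hd
    have hrG : r ∣ 3265920 := hG ▸ hd.trans C.card_subgroup_dvd_card
    have hr' : r = 2 ∨ r = 3 ∨ r = 5 ∨ r = 7 := by
      have e : (3265920 : ℕ) = 2 ^ 7 * 3 ^ 6 * 5 * 7 := by norm_num
      rw [e] at hrG
      rcases hr.dvd_mul.1 hrG with h | h
      · rcases hr.dvd_mul.1 h with h | h
        · rcases hr.dvd_mul.1 h with h | h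
          · exact Or.inl ((Nat.prime_dvd_prime_iff_eq hr Nat.prime_two).1 (hr.dvd_of_dvd_pow h))
          · exact Or.inr (Or.inl ((Nat.prime_dvd_prime_iff_eq hr Nat.prime_three).1 (hr.dvd_of_dvd_pow h)))
        · exact Or.inr (Or.inr (Or.inl ((Nat.prime_dvd_prime_iff_eq hr (by norm_num)).1 h)))
      · exact Or.inr (Or.inr (Or.inr ((Nat.prime_dvd_prime_iff_eq hr (by norm_num)).1 h)))
    by_contra hr7
    have h1 : (y : Cfsg.PSU 4 F 3) = 1 := centralizer_element hF hx
      ((Subgroup.mem_centralizer_iff.1 y.2 _ x.2).symm) (r := r)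
      (by rcases hr' with h | h | h | h
          · exact Or.inl h
          · exact Or.inr (Or.inl h)
          · exact Or.inr (Or.inr h)
          · exact absurd h hr7)
      (by rw [← Subgroup.coe_pow, ← hy, pow_orderOf_eq_one]; rfl)
    rw [← Subgroup.orderOf_coe, h1, orderOf_one] at hy
    exact hr.one_lt.ne hy
  have hXC : X ≤ C := by
    have : IsMulCommutative X := inferInstance
    exact Subgroup.le_centralizer X
  have hCc : Nat.card C = 7 := by
    obtain ⟨k, hk⟩ : ∃ k, Nat.card C = 7 ^ k :=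
      ⟨_, Nat.eq_prime_pow_of_unique_prime_dvd Nat.card_pos.ne' fun {d} hd hdd => hprimes d hd hdd⟩
    have hdG : 7 ^ k ∣ 3265920 := hk ▸ hG ▸ C.card_subgroup_dvd_card
    have h7 : 7 ∣ 7 ^ k := hk ▸ hX ▸ Subgroup.card_dvd_of_le hXC
    have hk2 : k < 2 := by
      by_contra hk2
      exact absurd ((pow_dvd_pow 7 (not_lt.1 hk2)).trans hdG) (by decide)
    interval_cases k
    · norm_num at h7
    · rw [hk]; norm_num
  have hCX : C = X := (Subgroup.eq_of_le_of_card_ge hXC (by rw [hCc, hX])).symm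
  refine ⟨?_, hCX⟩
  set N := Subgroup.normalizer (X : Set (Cfsg.PSU 4 F 3)) with hN
  have hk : Nat.card N = 7 * (C.subgroupOf N).index := by
    rw [← (C.subgroupOf N).card_mul_index,
      Nat.card_congr (Subgroup.subgroupOfEquivOfLe (hCX ▸ Subgroup.le_normalizer)).toEquiv, hCc]
  have hk6 : (C.subgroupOf N).index ∣ 6 := by
    rw [← Subgroup.normalizerMonoidHom_ker, Subgroup.index_ker]
    refine (Subgroup.card_subgroup_dvd_card _).trans ?_
    rw [IsCyclic.card_mulAut, hX, Nat.totient_prime (by norm_num)]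
  let P : Sylow 7 (Cfsg.PSU 4 F 3) := Sylow.ofCard X (by
    rw [hX, hG, show (3265920 : ℕ) = 7 * 466560 by norm_num,
      Nat.factorization_mul (by norm_num) (by norm_num), Finsupp.add_apply,
      Nat.Prime.factorization_self (by norm_num),
      Nat.factorization_eq_zero_of_not_dvd (by norm_num), Nat.add_zero, pow_one])
  have hcount := card_sylow_modEq_one 7 (Cfsg.PSU 4 F 3)
  rw [P.card_eq_index_normalizer] at hcount
  have hmi := N.card_mul_index
  rw [hk, hG] at hmi
  have hcount' : N.index ≡ 1 [MOD 7] := hcount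
  rw [hk]
  have hle := Nat.le_of_dvd (by norm_num) hk6
  generalize (C.subgroupOf N).index = k at hmi hk6 hle ⊢
  generalize N.index = i at hmi hcount'
  unfold Nat.ModEq at hcount'
  interval_cases k <;> omega

end Cfsg.Lib.Linear.PSUFourSeven
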