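import Cfsg.Agent.Lib.Linear.OrthSpinor

/-!
# The spinor criterion for membership in `Ω`
-/

set_option autoImplicit false

namespace Cfsg.Lib.Linear.Orth

open Module
open scoped Matrix

variable {ι : Type} [Fintype ι] [DecidableEq ι] {F : Type*} [Field F] [Fintype F]
  {Q : (ι → F) → F} {B : LinearMap.BilinForm F (ι → F)}

open scoped Classical in
/-- The square class sign. -/
noncomputable def sqSign (x : F) : ℤˣ := if IsSquare x then 1 else -1

theorem sqSign_eq_one {x : F} : sqSign x = 1 ↔ IsSquare x := by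
  unfold sqSign; split_ifs with h <;> simp [h]

theorem sqSign_mul {x y : F} (h2 : (2 : F) ≠ 0) (hx : x ≠ 0) (hy : y ≠ 0) :
    sqSign (x * y) = sqSign x * sqSign y := by
  classical
  have hchar : ringChar F ≠ 2 := fun hc => h2 (by
    haveI := ringChar.charP F
    have := CharP.cast_eq_zero F (ringChar F)
    rw [hc] at this
    exact_mod_cast this)
  have key : ∀ {z : F}, z ≠ 0 → (quadraticChar F z = ((sqSign z : ℤˣ) : ℤ)) := fun {z} hz => by
    unfold sqSign
    split_ifs with h
    · simpa using (quadraticChar_one_iff_isSquare hz).mpr h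
    · simpa using quadraticChar_neg_one_iff_not_isSquare.mpr h
  refine Units.ext ?_
  rw [Units.val_mul, ← key hx, ← key hy, ← key (mul_ne_zero hx hy), map_mul]

/-- Products of reflections. -/
theorem exists_refl_prod (C : Space Q B) (h2 : (2 : F) ≠ 0) :
    ∀ (vs : List (ι → F)), (∀ v ∈ vs, Q v ≠ 0) → ∃ g : ↥(isometryGroup F Q),
      (g : GL ι F).val = (vs.map (fun v => Cfsg.reflectionMatrix Q v)).prod ∧
      (detSpin Q g).1 = (-1) ^ vs.length ∧
      spin Q g = (-1) ^ vs.length * sqSign (vs.map fun v => Q v).prod := by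
  intro vs
  induction vs with
  | nil =>
    intro _
    refine ⟨1, by simp, by simp, ?_⟩
    simp only [map_one, List.length_nil, pow_zero, List.map_nil, List.prod_nil, one_mul]
    exact (sqSign_eq_one.mpr IsSquare.one).symm
  | cons v vs ih =>
    intro h
    have hv := h v List.mem_cons_self
    obtain ⟨g, hg, hd, hs⟩ := ih fun w hw => h w (List.mem_cons_of_mem _ hw)
    refine ⟨rI C v hv * g, ?_, ?_, ?_⟩
    · rw [List.map_cons, List.prod_cons, ← hg, ← rGL_val C hv]; rfl
    · rw [map_mul, Prod.fst_mul, hd, List.length_cons, pow_succ']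
      congr 1
      exact det_rI C hv
    · have hp : (vs.map fun v => Q v).prod ≠ 0 := List.prod_ne_zero fun h0 => by
        obtain ⟨w, hw, hw0⟩ := List.mem_map.mp h0
        exact h w (List.mem_cons_of_mem _ hw) hw0
      rw [map_mul, hs, spin_rI C h2 hv, List.map_cons, List.prod_cons, sqSign_mul h2 hv hp,
        List.length_cons, pow_succ']
      unfold sqSign
      split_ifs <;> simp

theorem neg_one_pow_units_eq_one (h2 : (2 : F) ≠ 0) (n : ℕ) : ((-1 : Fˣ) ^ n = 1) ↔ Even n := by
  rcases Nat.even_or_odd n with h | h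
  · simp [h.neg_one_pow, h]
  · have hne : (-1 : Fˣ) ≠ 1 := fun e => h2 (by
      have e' : (-1 : F) = 1 := by simpa using congrArg Units.val e
      linear_combination -e')
    simp [h.neg_one_pow, Nat.not_even_iff_odd.mpr h, hne]

/-- The criterion. -/
theorem refl_prod_mem_omega_iff (C : Space Q B) (h2 : (2 : F) ≠ 0) (hn : 2 ≤ Fintype.card ι)
    (vs : List (ι → F)) (hvs : ∀ v ∈ vs, Q v ≠ 0) (g : ↥(isometryGroup F Q))
    (hg : (g : GL ι F).val = (vs.map (fun v => Cfsg.reflectionMatrix Q v)).prod) :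
    g ∈ Omega F Q ↔ Even vs.length ∧ IsSquare (vs.map fun v => Q v).prod := by
  obtain ⟨g', hg', hd, hs⟩ := exists_refl_prod C h2 vs hvs
  obtain rfl : g = g' := Subtype.ext (Units.ext (hg.trans hg'.symm))
  show g ∈ commutator _ ↔ _
  rw [(omega_odd C h2 hn).1, MonoidHom.mem_ker, Prod.ext_iff, hd]
  show (_ = 1 ∧ spin Q g = 1) ↔ _
  rw [hs, neg_one_pow_units_eq_one h2]
  refine and_congr_right fun he => ?_
  rw [he.neg_one_pow, one_mul, sqSign_eq_one]

/-- Diagonal sign changes in an orthogonal basis. -/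
theorem sign_change_mem_omega_iff (C : Space Q B) (h2 : (2 : F) ≠ 0) (hn : 2 ≤ Fintype.card ι)
    {κ : Type*} [Fintype κ] [DecidableEq κ] (b : κ → ι → F) (hcard : Fintype.card κ = Fintype.card ι)
    (hb : ∀ i, Q (b i) ≠ 0) (horth : ∀ i j, i ≠ j → B (b i) (b j) = 0) (s : Finset κ)
    (M : Matrix ι ι F) (hM : ∀ i, M *ᵥ b i = if i ∈ s then -b i else b i) :
    (∃ g : ↥(isometryGroup F Q), g ∈ Omega F Q ∧ (g : GL ι F).val = M) ↔
      Even s.card ∧ IsSquare (∏ i ∈ s, Q (b i)) := by
  classical
  have hact : ∀ L : List κ, L.Nodup → ∀ i,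
      ((L.map b).map (fun v => Cfsg.reflectionMatrix Q v)).prod *ᵥ b i = if i ∈ L then -b i else b i := by
    intro L
    induction L with
    | nil => intro _ i; simp
    | cons a L ih =>
      intro hnd i
      obtain ⟨ha, hL⟩ := List.nodup_cons.mp hnd
      rw [List.map_cons, List.map_cons, List.prod_cons, ← Matrix.mulVec_mulVec, ih hL i, ← rGL_val C (hb a)]
      by_cases hia : i = a
      · subst hia
        rw [if_neg ha, if_pos List.mem_cons_self, rGL_self C (hb i)]
      · by_cases hi : i ∈ L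
        · rw [if_pos hi, if_pos (List.mem_cons_of_mem _ hi), rGL_fix C (hb a)
            (by rw [map_neg, horth a i (Ne.symm hia), neg_zero])]
        · rw [if_neg hi, if_neg (by simp [hia, hi]), rGL_fix C (hb a) (horth a i (Ne.symm hia))]
  have hli : LinearIndependent F b := by
    rw [Fintype.linearIndependent_iff]
    intro c hc i
    have h1 := congrArg (B (b i)) hc
    rw [map_sum, map_zero, Finset.sum_eq_single i (fun j _ hj => by
      rw [map_smul, horth i j (Ne.symm hj), smul_zero]) (fun h => absurd (Finset.mem_univ i) h),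
      map_smul, C.self, smul_eq_mul] at h1
    exact (mul_eq_zero.mp h1).resolve_right (mul_ne_zero h2 (hb i))
  have htop := hli.span_eq_top_of_card_eq_finrank'
    (by rw [hcard, finrank_fintype_fun_eq_card])
  set vs := s.toList.map b with hvs
  have hne : ∀ v ∈ vs, Q v ≠ 0 := fun v hv => by
    obtain ⟨i, -, rfl⟩ := List.mem_map.mp hv; exact hb i
  have hMeq : M = (vs.map (fun v => Cfsg.reflectionMatrix Q v)).prod := by
    refine mat_ext fun x => ?_
    have hlin : Matrix.mulVecLin M = Matrix.mulVecLin (vs.map (fun v => Cfsg.reflectionMatrix Q v)).prod :=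
      LinearMap.ext_on_range htop fun i => by
        simp only [Matrix.mulVecLin_apply]
        rw [hM i, hact _ s.nodup_toList i]
        simp only [Finset.mem_toList]
    exact LinearMap.congr_fun hlin x
  have hlen : vs.length = s.card := by rw [hvs, List.length_map, Finset.length_toList]
  have hprod : (vs.map fun v => Q v).prod = ∏ i ∈ s, Q (b i) := by
    rw [hvs, List.map_map]; exact Finset.prod_map_toList s _
  rw [← hlen, ← hprod]
  constructor
  · rintro ⟨g, hg, hgM⟩
    exact (refl_prod_mem_omega_iff C h2 hn vs hne g (hgM.trans hMeq)).mp hg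
  · intro h
    obtain ⟨g, hg, -, -⟩ := exists_refl_prod C h2 vs hne
    exact ⟨g, (refl_prod_mem_omega_iff C h2 hn vs hne g hg).mpr h, hg.trans hMeq.symm⟩

theorem two_ne_of_odd (h : Odd (Fintype.card F)) : (2 : F) ≠ 0 := fun h2 => by
  haveI : CharP F 2 := CharTwo.of_one_ne_zero_of_two_eq_zero one_ne_zero h2
  have h1 := FiniteField.even_card_of_char_two (ringChar.eq F 2)
  rw [Nat.odd_iff] at h
  omega

theorem isSquare_neg_one_pow_iff (h : Odd (Fintype.card F)) (i : ℕ) :
    IsSquare ((-1 : F) ^ i) ↔ Fintype.card F ^ i % 4 = 1 := by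
  set q := Fintype.card F with hq
  have hq4 : q % 4 = 1 ∨ q % 4 = 3 := by rw [Nat.odd_iff] at h; omega
  rw [Nat.pow_mod]
  rcases Nat.even_or_odd i with hi | hi
  · rw [hi.neg_one_pow]
    obtain ⟨k, rfl⟩ := hi
    refine iff_of_true IsSquare.one ?_
    rw [← two_mul, pow_mul]
    rcases hq4 with h' | h' <;> rw [h', Nat.pow_mod] <;> simp
  · rw [hi.neg_one_pow, FiniteField.isSquare_neg_one_iff, ← hq]
    obtain ⟨k, rfl⟩ := hi
    rw [pow_succ, pow_mul, Nat.mul_mod, Nat.pow_mod]
    rcases hq4 with h' | h' <;> rw [h'] <;> simp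

end Cfsg.Lib.Linear.Orth
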