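import Cfsg.Agent.Lib.Linear.OrthOrder

/-!
# Standard bases of quadratic spaces over finite fields
-/

set_option autoImplicit false

namespace Cfsg.Lib.Linear.Orth

open Module
open scoped Matrix

section Internal

variable {ι : Type} [Fintype ι] [DecidableEq ι] {F : Type*} [Field F]
  {Q : (ι → F) → F} {B : LinearMap.BilinForm F (ι → F)}

theorem Hyp.finrank_eq (C : Space Q B) {U : Submodule F (ι → F)} {e f : ι → F} (h : Hyp Q B U e f) :
    finrank F (perp2 B U e f) + 2 = finrank F U := by
  refine le_antisymm ?_ (h.le_finrank C)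
  let φ : perp2 B U e f × (F × F) →ₗ[F] U :=
    { toFun := fun x => ⟨x.1.1 + (x.2.1 • e + x.2.2 • f), U.add_mem (mem_perp2.mp x.1.2).1
        (U.add_mem (U.smul_mem _ h.memE) (U.smul_mem _ h.memF))⟩
      map_add' := fun x y => Subtype.ext (by
        simp only [Prod.fst_add, Prod.snd_add, Submodule.coe_add, add_smul]; abel)
      map_smul' := fun c x => Subtype.ext (by
        simp only [Prod.smul_fst, Prod.smul_snd, SetLike.val_smul, smul_add, smul_smul, RingHom.id_apply,
          smul_eq_mul]) }
  have hinj : Function.Injective φ := by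
    rw [injective_iff_map_eq_zero]
    rintro ⟨⟨w, hw⟩, a, b⟩ hx
    have hx' : w + (a • e + b • f) = 0 := congrArg Subtype.val hx
    obtain ⟨-, hwe, hwf⟩ := mem_perp2.mp hw
    have ha := congrArg (B f) hx'
    have hb := congrArg (B e) hx'
    simp [hwe, hwf, C.self_zero h.singE, C.self_zero h.singF, h.pair, h.pair' C] at ha hb
    subst ha hb
    simp at hx'
    simp [hx']
  have := LinearMap.finrank_le_finrank_of_injective hinj
  rw [Module.finrank_prod, Module.finrank_prod, Module.finrank_self] at this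
  exact this

/-- Split off hyperbolic pairs until dimension `r`. -/
theorem exists_pairs [Finite F] (C : Space Q B) {r : ℕ} (hr : 1 ≤ r) :
    ∀ (k : ℕ) (U : Submodule F (ι → F)), NDeg B U → finrank F U = r + 2 * k →
      ∃ (e f : Fin k → ι → F) (W : Submodule F (ι → F)), HypFam Q B e f ∧ (∀ i, e i ∈ U ∧ f i ∈ U) ∧
        NDeg B W ∧ finrank F W = r ∧ W ≤ U ∧ ∀ i, ∀ w ∈ W, B (e i) w = 0 ∧ B (f i) w = 0 := by
  intro k
  induction k with
  | zero =>
    intro U hU hd
    refine ⟨Fin.elim0, Fin.elim0, U, ⟨fun i => i.elim0, fun i => i.elim0, fun i => i.elim0, fun i => i.elim0,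
      fun i => i.elim0, fun i => i.elim0⟩, fun i => i.elim0, hU, by omega, le_rfl, fun i => i.elim0⟩
  | succ k ih =>
    intro U hU hd
    obtain ⟨e₀, f₀, h₀⟩ := exists_hyp' C hU (by omega)
    have hdim := h₀.finrank_eq C
    obtain ⟨e, f, W, hF, hmem, hW, hWd, hWle, hWo⟩ := ih _ (h₀.ndeg C hU) (by omega)
    have hsub : perp2 B U e₀ f₀ ≤ U := fun x hx => (mem_perp2.mp hx).1
    have he0 : ∀ i, B e₀ (e i) = 0 ∧ B f₀ (e i) = 0 ∧ B e₀ (f i) = 0 ∧ B f₀ (f i) = 0 := fun i =>
      ⟨(mem_perp2.mp (hmem i).1).2.1, (mem_perp2.mp (hmem i).1).2.2, (mem_perp2.mp (hmem i).2).2.1,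
        (mem_perp2.mp (hmem i).2).2.2⟩
    refine ⟨Fin.cons e₀ e, Fin.cons f₀ f, W, ⟨fun i => ?_, fun i => ?_, fun i => ?_, fun i j hij => ?_,
      fun i j hij => ?_, fun i j hij => ?_⟩, fun i => ?_, hW, hWd, hWle.trans hsub, fun i w hw => ?_⟩
    · refine Fin.cases ?_ (fun i => ?_) i
      · simpa using h₀.singE
      · simpa using hF.singE i
    · refine Fin.cases ?_ (fun i => ?_) i
      · simpa using h₀.singF
      · simpa using hF.singF i
    · refine Fin.cases ?_ (fun i => ?_) i
      · simpa using h₀.pair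
      · simpa using hF.pair i
    · obtain rfl | ⟨i, rfl⟩ := Fin.eq_zero_or_eq_succ i
      · obtain rfl | ⟨j, rfl⟩ := Fin.eq_zero_or_eq_succ j
        · exact absurd rfl hij
        · simpa using (he0 j).1
      · obtain rfl | ⟨j, rfl⟩ := Fin.eq_zero_or_eq_succ j
        · simpa [C.symm (e i) e₀] using (he0 i).1
        · simpa using hF.ee i j fun h => hij (by rw [h])
    · obtain rfl | ⟨i, rfl⟩ := Fin.eq_zero_or_eq_succ i
      · obtain rfl | ⟨j, rfl⟩ := Fin.eq_zero_or_eq_succ j
        · exact absurd rfl hij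
        · simpa using (he0 j).2.2.2
      · obtain rfl | ⟨j, rfl⟩ := Fin.eq_zero_or_eq_succ j
        · simpa [C.symm (f i) f₀] using (he0 i).2.2.2
        · simpa using hF.ff i j fun h => hij (by rw [h])
    · obtain rfl | ⟨i, rfl⟩ := Fin.eq_zero_or_eq_succ i
      · obtain rfl | ⟨j, rfl⟩ := Fin.eq_zero_or_eq_succ j
        · exact absurd rfl hij
        · simpa using (he0 j).2.2.1
      · obtain rfl | ⟨j, rfl⟩ := Fin.eq_zero_or_eq_succ j
        · simpa [C.symm (e i) f₀] using (he0 i).2.1
        · simpa using hF.ef i j fun h => hij (by rw [h])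
    · refine Fin.cases ?_ (fun i => ?_) i
      · simpa using And.intro h₀.memE h₀.memF
      · simpa using And.intro (hsub (hmem i).1) (hsub (hmem i).2)
    · refine Fin.cases ?_ (fun i => ?_) i
      · simpa using And.intro (mem_perp2.mp (hWle hw)).2.1 (mem_perp2.mp (hWle hw)).2.2
      · simpa using hWo i w hw

/-- An anisotropic plane represents every value. -/
theorem plane_value [Fintype F] (C : Space Q B) {W : Submodule F (ι → F)} (hW : NDeg B W) (hd : finrank F W = 2)
    {d : F} (hd0 : d ≠ 0) (hani : ∀ w ∈ W, Q w = 0 → w = 0) : ∃ v ∈ W, Q v = d := by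
  obtain ⟨u, hu, hQu⟩ := exists_nonsing C hW (fun h => by rw [h, finrank_bot] at hd; omega)
  by_cases h2 : (2 : F) = 0
  · haveI : CharP F 2 := CharTwo.of_one_ne_zero_of_two_eq_zero one_ne_zero h2
    obtain ⟨r, hr⟩ := FiniteField.isSquare_of_char_two (ringChar.eq F 2) (d / Q u)
    exact ⟨r • u, W.smul_mem _ hu, by rw [C.smul, sq, ← hr, div_mul_cancel₀ _ hQu]⟩
  obtain ⟨w, hw, hwu, hw0⟩ : ∃ w ∈ W, B u w = 0 ∧ w ≠ 0 := by
    obtain ⟨w, hw, hwu, hw0⟩ := Sing.exists_inf_ker_notMem W (B u) ⊥ (by rw [finrank_bot]; omega)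
    exact ⟨w, hw, hwu, fun h => hw0 (h ▸ Submodule.zero_mem _)⟩
  have hQw : Q w ≠ 0 := fun h => hw0 (hani w hw h)
  obtain ⟨a, b, hab⟩ := FiniteField.exists_root_sum_quadratic
    (f := Polynomial.C (Q u) * Polynomial.X ^ 2)
    (g := Polynomial.C (Q w) * Polynomial.X ^ 2 - Polynomial.C d)
    (Polynomial.degree_C_mul_X_pow 2 hQu)
    (by
      rw [Polynomial.degree_sub_eq_left_of_degree_lt, Polynomial.degree_C_mul_X_pow 2 hQw]
      · rfl
      · rw [Polynomial.degree_C_mul_X_pow 2 hQw, Polynomial.degree_C hd0]; decide)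
    (FiniteField.odd_card_of_char_ne_two (fun h => h2 (by
      haveI := ringChar.charP F
      have := CharP.cast_eq_zero F (ringChar F)
      rw [h] at this
      exact_mod_cast this)))
  refine ⟨a • u + b • w, W.add_mem (W.smul_mem _ hu) (W.smul_mem _ hw), ?_⟩
  rw [C.smul_add, hwu]
  simp at hab
  linear_combination hab

/-- An elliptic plane. -/
theorem plane_basis [Fintype F] (C : Space Q B) {W : Submodule F (ι → F)} (hW : NDeg B W) (hd : finrank F W = 2)
    (hani : ∀ w ∈ W, Q w = 0 → w = 0) :
    ∃ x ∈ W, ∃ y ∈ W, Q x = 1 ∧ B x y = 1 ∧ ∀ t : F, t ^ 2 + t + Q y ≠ 0 := by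
  obtain ⟨x, hx, hQx⟩ := plane_value C hW hd one_ne_zero hani
  have hx0 : x ≠ 0 := fun h => by rw [h, C.zero] at hQx; exact zero_ne_one hQx
  obtain ⟨y, hy, hxy, hyx⟩ : ∃ y ∈ W, B x y = 1 ∧ ∀ t : F, y ≠ t • x := by
    by_cases h2 : (2 : F) = 0
    · obtain ⟨z, hz, hxz⟩ : ∃ z ∈ W, B x z ≠ 0 := by
        by_contra! h
        exact hx0 (hW x hx h)
      refine ⟨(B x z)⁻¹ • z, W.smul_mem _ hz, by rw [map_smul, smul_eq_mul, inv_mul_cancel₀ hxz], fun t ht => ?_⟩
      have := congrArg (B x) ht
      rw [map_smul, map_smul, C.self, h2, smul_eq_mul, inv_mul_cancel₀ hxz] at this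
      simp at this
    · obtain ⟨z, hz, hzx⟩ : ∃ z ∈ W, z ∉ Submodule.span F {x} := by
        by_contra! h
        have h1 := Submodule.finrank_mono (show W ≤ Submodule.span F {x} from h)
        rw [finrank_span_singleton hx0] at h1
        omega
      refine ⟨z + ((1 - B x z) / 2) • x, W.add_mem hz (W.smul_mem _ hx), ?_, fun t ht => hzx ?_⟩
      · rw [map_add, map_smul, C.self, hQx, smul_eq_mul]; field_simp; ring
      · refine Submodule.mem_span_singleton.mpr ⟨t - (1 - B x z) / 2, ?_⟩
        rw [sub_smul, ← ht, add_sub_cancel_right]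
  refine ⟨x, hx, y, hy, hQx, hxy, fun t ht => ?_⟩
  have h0 := hani (t • x + y) (W.add_mem (W.smul_mem _ hx) hy) (by
    rw [C.add, C.smul, hQx, map_smul, LinearMap.smul_apply, hxy, smul_eq_mul]
    linear_combination ht)
  exact hyx (-t) (by rw [neg_smul]; exact eq_neg_of_add_eq_zero_right h0)

/-- A hyperbolic family is independent. -/
theorem li_aux (C : Space Q B) {k : ℕ} {e f : Fin k → ι → F} (hF : HypFam Q B e f) {κ : Type*} [Fintype κ]
    (x : κ → ι → F) (hx : ∀ i j, B (e i) (x j) = 0 ∧ B (f i) (x j) = 0) (hxi : LinearIndependent F x) :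
    LinearIndependent F (Sum.elim (Sum.elim e f) x) := by
  rw [Fintype.linearIndependent_iff]
  intro c hc
  rw [Fintype.sum_sum_type, Fintype.sum_sum_type] at hc
  simp only [Sum.elim_inl, Sum.elim_inr] at hc
  have hce : ∀ i, c (.inl (.inl i)) = 0 := fun i => by
    have h1 := congrArg (B (f i)) hc
    simp only [map_add, map_sum, map_smul, map_zero] at h1
    rw [Finset.sum_eq_single i (fun j _ hj => by rw [C.symm, hF.ef j i hj, smul_zero]) (by simp),
      Finset.sum_eq_zero (fun j _ => by
        rcases eq_or_ne i j with rfl | hj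
        · rw [C.self_zero (hF.singF i), smul_zero]
        · rw [hF.ff i j hj, smul_zero]),
      Finset.sum_eq_zero (fun j _ => by rw [(hx i j).2, smul_zero])] at h1
    rw [C.symm, hF.pair] at h1
    simpa using h1
  have hcf : ∀ i, c (.inl (.inr i)) = 0 := fun i => by
    have h1 := congrArg (B (e i)) hc
    simp only [map_add, map_sum, map_smul, map_zero] at h1
    rw [Finset.sum_eq_zero (fun j _ => by rw [hce j, zero_smul]),
      Finset.sum_eq_single i (fun j _ hj => by rw [hF.ef i j (Ne.symm hj), smul_zero]) (by simp),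
      Finset.sum_eq_zero (fun j _ => by rw [(hx i j).1, smul_zero]), hF.pair] at h1
    simpa using h1
  simp only [hce, hcf, zero_smul, Finset.sum_const_zero, zero_add] at hc
  have := Fintype.linearIndependent_iff.mp hxi _ hc
  rintro ((i | i) | i)
  exacts [hce i, hcf i, this i]

end Internal

section Standard

variable {F V : Type*} [Field F] [AddCommGroup V] [Module F V] [FiniteDimensional F V]

/-- Transport to coordinates. -/
theorem exists_coord (Q : QuadraticForm F V) (hQ : (QuadraticMap.polarBilin Q).Nondegenerate) :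
    ∃ (e : V ≃ₗ[F] (Fin (finrank F V) → F)) (B : LinearMap.BilinForm F (Fin (finrank F V) → F)),
      Space (fun v => Q (e.symm v)) B ∧ ∀ u v, QuadraticMap.polar ⇑Q u v = B (e u) (e v) := by
  let e := (Module.finBasis F V).equivFun
  let B : LinearMap.BilinForm F (Fin (finrank F V) → F) :=
    LinearMap.mk₂ F (fun u v => QuadraticMap.polar ⇑Q (e.symm u) (e.symm v))
      (fun a b c => by simp only [map_add]; exact QuadraticMap.polar_add_left Q _ _ _)
      (fun r a c => by simp only [map_smul]; exact QuadraticMap.polar_smul_left Q r _ _)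
      (fun a b c => by simp only [map_add]; exact QuadraticMap.polar_add_right Q _ _ _)
      (fun r a c => by simp only [map_smul]; exact QuadraticMap.polar_smul_right Q r _ _)
  refine ⟨e, B, ⟨fun c v => ?_, fun u v => ?_, fun v hv => ?_⟩, fun u v => ?_⟩
  · show Q (e.symm (c • v)) = _
    rw [map_smul, QuadraticMap.map_smul, smul_eq_mul, sq]
  · show _ = QuadraticMap.polar ⇑Q (e.symm u) (e.symm v)
    simp [QuadraticMap.polar, map_add]
  · refine e.symm.injective ?_
    rw [map_zero]
    refine hQ.2 _ fun u => ?_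
    have := hv (e u)
    simpa [B] using this
  · simp [B]

variable [Finite F]

theorem std_basis_odd {m : ℕ} (hV : finrank F V = 2 * m + 1) (Q : QuadraticForm F V)
    (hQ : (QuadraticMap.polarBilin Q).Nondegenerate) :
    ∃ b : Module.Basis (Unit ⊕ (Fin m ⊕ Fin m)) F V, Q (b (Sum.inl ())) ≠ 0 ∧
      (∀ i, QuadraticMap.polar ⇑Q (b (Sum.inl ())) (b (Sum.inr (Sum.inl i))) = 0 ∧
        QuadraticMap.polar ⇑Q (b (Sum.inl ())) (b (Sum.inr (Sum.inr i))) = 0) ∧
      (∀ i, Q (b (Sum.inr (Sum.inl i))) = 0 ∧ Q (b (Sum.inr (Sum.inr i))) = 0) ∧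
      (∀ i j, QuadraticMap.polar ⇑Q (b (Sum.inr (Sum.inl i))) (b (Sum.inr (Sum.inr j))) = if i = j then 1 else 0) ∧
      (∀ i j, QuadraticMap.polar ⇑Q (b (Sum.inr (Sum.inl i))) (b (Sum.inr (Sum.inl j))) = 0 ∧
        QuadraticMap.polar ⇑Q (b (Sum.inr (Sum.inr i))) (b (Sum.inr (Sum.inr j))) = 0) := by
  classical
  obtain ⟨e, B, C, hP⟩ := exists_coord Q hQ
  obtain ⟨a, f, W, hF, -, hW, hWd, -, hWo⟩ := exists_pairs C (le_refl 1) m ⊤ C.ndeg_top (by
    rw [finrank_top, finrank_fintype_fun_eq_card, Fintype.card_fin, hV]; omega)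
  obtain ⟨x, hx, hQx⟩ := exists_nonsing C hW (fun h => by rw [h, finrank_bot] at hWd; omega)
  have hli := li_aux C hF (fun _ : Unit => x) (fun i _ => hWo i x hx)
    ((linearIndependent_unique_iff (v := fun _ : Unit => x)).mpr fun h => hQx (by rw [show x = 0 from h]; exact C.zero))
  let v : Unit ⊕ (Fin m ⊕ Fin m) → V := fun k => e.symm (Sum.elim (Sum.elim a f) (fun _ : Unit => x) (Sum.swap k))
  have hli' : LinearIndependent F v := (hli.comp Sum.swap Sum.swap_leftInverse.injective).map' e.symm.toLinearMap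
    (LinearEquiv.ker _)
  let b := basisOfLinearIndependentOfCardEqFinrank hli' (by simp [hV]; omega)
  have hb : ∀ k, b k = v k := fun k => congrFun (coe_basisOfLinearIndependentOfCardEqFinrank _ _) k
  refine ⟨b, ?_, fun i => ?_, fun i => ?_, fun i j => ?_, fun i j => ?_⟩
  · rw [hb]; simpa [v] using hQx
  · simp only [hP, hb, v, LinearEquiv.apply_symm_apply]
    exact ⟨(C.symm _ _).trans (hWo i x hx).1, (C.symm _ _).trans (hWo i x hx).2⟩
  · simp only [hb, v]; exact ⟨hF.singE i, hF.singF i⟩
  · simp only [hP, hb, v, LinearEquiv.apply_symm_apply]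
    rcases eq_or_ne i j with rfl | h
    · rw [if_pos rfl]; exact hF.pair i
    · rw [if_neg h]; exact hF.ef i j h
  · simp only [hP, hb, v, LinearEquiv.apply_symm_apply]
    rcases eq_or_ne i j with rfl | h
    · exact ⟨C.self_zero (hF.singE i), C.self_zero (hF.singF i)⟩
    · exact ⟨hF.ee i j h, hF.ff i j h⟩

theorem std_basis_even {m : ℕ} (hm : 1 ≤ m) (hV : finrank F V = 2 * m) (Q : QuadraticForm F V)
    (hQ : (QuadraticMap.polarBilin Q).Nondegenerate) :
    (∃ b : Module.Basis (Fin m ⊕ Fin m) F V, (∀ i, Q (b (Sum.inl i)) = 0 ∧ Q (b (Sum.inr i)) = 0) ∧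
      (∀ i j, QuadraticMap.polar ⇑Q (b (Sum.inl i)) (b (Sum.inr j)) = if i = j then 1 else 0) ∧
      (∀ i j, QuadraticMap.polar ⇑Q (b (Sum.inl i)) (b (Sum.inl j)) = 0 ∧
        QuadraticMap.polar ⇑Q (b (Sum.inr i)) (b (Sum.inr j)) = 0)) ∨
    (∃ (b : Module.Basis ((Fin (m - 1) ⊕ Fin (m - 1)) ⊕ Fin 2) F V) (ζ : F), (∀ t : F, t ^ 2 + t + ζ ≠ 0) ∧
      (∀ i, Q (b (Sum.inl (Sum.inl i))) = 0 ∧ Q (b (Sum.inl (Sum.inr i))) = 0) ∧
      (∀ i j, QuadraticMap.polar ⇑Q (b (Sum.inl (Sum.inl i))) (b (Sum.inl (Sum.inr j))) = if i = j then 1 else 0) ∧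
      (∀ i j, QuadraticMap.polar ⇑Q (b (Sum.inl (Sum.inl i))) (b (Sum.inl (Sum.inl j))) = 0 ∧
        QuadraticMap.polar ⇑Q (b (Sum.inl (Sum.inr i))) (b (Sum.inl (Sum.inr j))) = 0) ∧
      (∀ i (k : Fin 2), QuadraticMap.polar ⇑Q (b (Sum.inl (Sum.inl i))) (b (Sum.inr k)) = 0 ∧
        QuadraticMap.polar ⇑Q (b (Sum.inl (Sum.inr i))) (b (Sum.inr k)) = 0) ∧
      Q (b (Sum.inr 0)) = 1 ∧ QuadraticMap.polar ⇑Q (b (Sum.inr 0)) (b (Sum.inr 1)) = 1 ∧ Q (b (Sum.inr 1)) = ζ) := by
  classical
  haveI := Fintype.ofFinite F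
  obtain ⟨k, rfl⟩ : ∃ k, m = k + 1 := ⟨m - 1, by omega⟩
  obtain ⟨e, B, C, hP⟩ := exists_coord Q hQ
  obtain ⟨a, f, W, hF, -, hW, hWd, -, hWo⟩ := exists_pairs C (show 1 ≤ 2 by norm_num) k ⊤ C.ndeg_top (by
    rw [finrank_top, finrank_fintype_fun_eq_card, Fintype.card_fin, hV]; omega)
  by_cases hani : ∀ w ∈ W, Q (e.symm w) = 0 → w = 0
  · right
    obtain ⟨x, hx, y, hy, hQx, hxy, hζ⟩ := plane_basis C hW hWd hani
    have hxy' : LinearIndependent F ![x, y] := by
      refine LinearIndependent.pair_iff.mpr fun s t hst => ?_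
      by_cases ht : t = 0
      · subst ht
        have hx0 : x ≠ 0 := fun h => by
          rw [h] at hQx; exact zero_ne_one (C.zero.symm.trans hQx)
        rw [zero_smul, add_zero, smul_eq_zero] at hst
        exact ⟨hst.resolve_right hx0, rfl⟩
      · exfalso
        have hy' : y = (-(s / t)) • x := by
          have h2 : t • y = -(s • x) := eq_neg_of_add_eq_zero_right hst
          calc y = t⁻¹ • (t • y) := (inv_smul_smul₀ ht y).symm
            _ = _ := by rw [h2, smul_neg, smul_smul, neg_smul, div_eq_inv_mul]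
        refine hζ (s / t) ?_
        show (s / t) ^ 2 + s / t + Q (e.symm y) = 0
        have h3 := hxy
        rw [hy', map_smul, C.self, show Q (e.symm x) = 1 from hQx, smul_eq_mul] at h3
        rw [hy', show Q (e.symm ((-(s / t)) • x)) = (-(s / t)) ^ 2 * Q (e.symm x) from C.smul _ _,
          show Q (e.symm x) = 1 from hQx]
        linear_combination -(s / t) * h3
    have hxy2 : ∀ i (j : Fin 2), B (a i) (![x, y] j) = 0 ∧ B (f i) (![x, y] j) = 0 := fun i j => by
      fin_cases j
      · exact hWo i x hx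
      · exact hWo i y hy
    have hli := (li_aux C hF ![x, y] hxy2 hxy').map' e.symm.toLinearMap (LinearEquiv.ker _)
    show ∃ (b : Module.Basis ((Fin k ⊕ Fin k) ⊕ Fin 2) F V) (ζ : F), _
    let b := basisOfLinearIndependentOfCardEqFinrank hli (by simp [hV]; omega)
    have hb : ∀ l, b l = e.symm (Sum.elim (Sum.elim a f) ![x, y] l) := fun l =>
      congrFun (coe_basisOfLinearIndependentOfCardEqFinrank _ _) l
    refine ⟨b, Q (e.symm y), hζ, fun i => ?_, fun i j => ?_, fun i j => ?_, fun i l => ?_, ?_, ?_, ?_⟩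
    · rw [hb, hb]; exact ⟨hF.singE i, hF.singF i⟩
    · rw [hb, hb, hP]
      simp only [Sum.elim_inl, Sum.elim_inr, LinearEquiv.apply_symm_apply]
      rcases eq_or_ne i j with rfl | h
      · rw [if_pos rfl]; exact hF.pair i
      · rw [if_neg h]; exact hF.ef i j h
    · simp only [hb, hP, Sum.elim_inl, Sum.elim_inr, LinearEquiv.apply_symm_apply]
      rcases eq_or_ne i j with rfl | h
      · exact ⟨C.self_zero (hF.singE i), C.self_zero (hF.singF i)⟩
      · exact ⟨hF.ee i j h, hF.ff i j h⟩
    · simp only [hb, hP, Sum.elim_inl, Sum.elim_inr, LinearEquiv.apply_symm_apply]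
      exact hxy2 i l
    · rw [hb]; exact hQx
    · simp only [hb, hP, LinearEquiv.apply_symm_apply]; exact hxy
    · rw [hb]; rfl
  · left
    push Not at hani
    obtain ⟨w, hw, hQw, hw0⟩ := hani
    obtain ⟨w', h⟩ := exists_hyp C hW hw hw0 hQw
    have hFt : HypFam (fun v => Q (e.symm v)) B (Fin.cons w a) (Fin.cons w' f) := by
      have h1 : ∀ i, B (a i) w = 0 ∧ B (f i) w = 0 := fun i => hWo i w hw
      have h2 : ∀ i, B (a i) w' = 0 ∧ B (f i) w' = 0 := fun i => hWo i w' h.memF
      refine ⟨fun i => ?_, fun i => ?_, fun i => ?_, fun i j hij => ?_, fun i j hij => ?_, fun i j hij => ?_⟩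
      · refine Fin.cases ?_ (fun i => ?_) i
        · simpa using h.singE
        · simpa using hF.singE i
      · refine Fin.cases ?_ (fun i => ?_) i
        · simpa using h.singF
        · simpa using hF.singF i
      · refine Fin.cases ?_ (fun i => ?_) i
        · simpa using h.pair
        · simpa using hF.pair i
      · obtain rfl | ⟨i, rfl⟩ := Fin.eq_zero_or_eq_succ i
        · obtain rfl | ⟨j, rfl⟩ := Fin.eq_zero_or_eq_succ j
          · exact absurd rfl hij
          · simpa [C.symm w] using (h1 j).1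
        · obtain rfl | ⟨j, rfl⟩ := Fin.eq_zero_or_eq_succ j
          · simpa using (h1 i).1
          · simpa using hF.ee i j fun h => hij (by rw [h])
      · obtain rfl | ⟨i, rfl⟩ := Fin.eq_zero_or_eq_succ i
        · obtain rfl | ⟨j, rfl⟩ := Fin.eq_zero_or_eq_succ j
          · exact absurd rfl hij
          · simpa [C.symm w'] using (h2 j).2
        · obtain rfl | ⟨j, rfl⟩ := Fin.eq_zero_or_eq_succ j
          · simpa using (h2 i).2
          · simpa using hF.ff i j fun h => hij (by rw [h])
      · obtain rfl | ⟨i, rfl⟩ := Fin.eq_zero_or_eq_succ i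
        · obtain rfl | ⟨j, rfl⟩ := Fin.eq_zero_or_eq_succ j
          · exact absurd rfl hij
          · simpa [C.symm w] using (h1 j).2
        · obtain rfl | ⟨j, rfl⟩ := Fin.eq_zero_or_eq_succ j
          · simpa using (h2 i).1
          · simpa using hF.ef i j fun h => hij (by rw [h])
    have hli0 := li_aux C hFt (fun i : Empty => i.elim) (fun _ i => i.elim) linearIndependent_empty_type
    have hli := (hli0.comp Sum.inl Sum.inl_injective).map' e.symm.toLinearMap (LinearEquiv.ker _)
    let b := basisOfLinearIndependentOfCardEqFinrank hli (by simp [hV]; omega)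
    have hb : ∀ l, b l = e.symm (Sum.elim (Fin.cons w a) (Fin.cons w' f) l) := fun l =>
      congrFun (coe_basisOfLinearIndependentOfCardEqFinrank _ _) l
    refine ⟨b, fun i => ?_, fun i j => ?_, fun i j => ?_⟩
    · rw [hb, hb]; exact ⟨hFt.singE i, hFt.singF i⟩
    · simp only [hb, hP, Sum.elim_inl, Sum.elim_inr, LinearEquiv.apply_symm_apply]
      rcases eq_or_ne i j with rfl | h
      · rw [if_pos rfl]; exact hFt.pair i
      · rw [if_neg h]; exact hFt.ef i j h
    · simp only [hb, hP, Sum.elim_inl, Sum.elim_inr, LinearEquiv.apply_symm_apply]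
      rcases eq_or_ne i j with rfl | h
      · exact ⟨C.self_zero (hFt.singE i), C.self_zero (hFt.singF i)⟩
      · exact ⟨hFt.ee i j h, hFt.ff i j h⟩

/-- Every non-zero scalar is a multiplier. -/
theorem exists_similarity {m : ℕ} (hm : 1 ≤ m) (hV : finrank F V = 2 * m) (Q : QuadraticForm F V)
    (hQ : (QuadraticMap.polarBilin Q).Nondegenerate) (c : F) (hc : c ≠ 0) :
    ∃ g : V ≃ₗ[F] V, ∀ v, Q (g v) = c * Q v := by
  classical
  haveI := Fintype.ofFinite F
  have build : ∀ {κ : Type} [Fintype κ] (b : Module.Basis κ F V) (img : κ → V),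
      (∀ k, Q (img k) = c * Q (b k)) →
      (∀ k l, QuadraticMap.polar ⇑Q (img k) (img l) = c * QuadraticMap.polar ⇑Q (b k) (b l)) →
      ∃ g : V ≃ₗ[F] V, ∀ v, Q (g v) = c * Q v := by
    intro κ _ b img h1 h2
    set T := b.constr F img with hT
    set P := QuadraticMap.polarBilin Q
    have hB : P.compl₁₂ T T = c • P := by
      refine LinearMap.ext_basis b b fun k l => ?_
      simp only [LinearMap.compl₁₂_apply, LinearMap.smul_apply, hT, Module.Basis.constr_basis, smul_eq_mul]
      exact h2 k l
    have hBp : ∀ u v, QuadraticMap.polar ⇑Q (T u) (T v) = c * QuadraticMap.polar ⇑Q u v := fun u v =>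
      LinearMap.congr_fun (LinearMap.congr_fun hB u) v
    have hall : ∀ v, Q (T v) = c * Q v := fun v => by
      have hv : v ∈ Submodule.span F (Set.range b) := b.span_eq ▸ Submodule.mem_top
      induction hv using Submodule.span_induction with
      | mem v hv => obtain ⟨k, rfl⟩ := hv; rw [hT, Module.Basis.constr_basis]; exact h1 k
      | zero => simp
      | add u w _ _ hu hw =>
        have := hBp u w
        simp only [QuadraticMap.polar, ← map_add] at this
        linear_combination this + hu + hw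
      | smul r u _ hu => rw [map_smul, QuadraticMap.map_smul, QuadraticMap.map_smul, hu, smul_eq_mul, smul_eq_mul]; ring
    have hinj : Function.Injective T := by
      rw [injective_iff_map_eq_zero]
      intro v hv
      refine hQ.2 v fun u => ?_
      have h := hBp u v
      rw [hv, QuadraticMap.polar_zero_right] at h
      exact (mul_eq_zero.mp h.symm).resolve_left hc
    exact ⟨LinearEquiv.ofInjectiveEndo T hinj, hall⟩
  have hp : ∀ u v, QuadraticMap.polar ⇑Q u v = QuadraticMap.polar ⇑Q v u := QuadraticMap.polar_comm _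
  rcases std_basis_even hm hV Q hQ with ⟨b, hq, hef, hee⟩ | ⟨b, ζ, hζ, hq, hef, hee, hpl, hx, hxy, hy⟩
  · refine build b (Sum.elim (fun i => c • b (.inl i)) (fun i => b (.inr i))) ?_ ?_
    · rintro (i | i) <;> simp [QuadraticMap.map_smul, (hq i).1, (hq i).2]
    · rintro (i | i) (j | j)
      · simp [QuadraticMap.polar_smul_left, QuadraticMap.polar_smul_right, (hee i j).1]
      · simp [QuadraticMap.polar_smul_left]
      · simp [QuadraticMap.polar_smul_right]
      · simp [(hee i j).2]
  · obtain ⟨α, β, hαβ⟩ : ∃ α β : F, α ^ 2 + α * β + ζ * β ^ 2 = c := by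
      have hx0 : b (.inr 0) ≠ 0 := b.ne_zero _
      obtain ⟨e, B, C, hP⟩ := exists_coord Q hQ
      set W : Submodule F (Fin (finrank F V) → F) := Submodule.span F {e (b (.inr 0)), e (b (.inr 1))} with hW
      have hmem : ∀ w ∈ W, ∃ s t : F, w = e (s • b (.inr 0) + t • b (.inr 1)) := fun w hw => by
        obtain ⟨s, t, h⟩ := Submodule.mem_span_pair.mp hw
        exact ⟨s, t, by rw [← h, map_add, map_smul, map_smul]⟩
      have hval : ∀ s t : F, Q (s • b (.inr 0) + t • b (.inr 1)) = s ^ 2 + s * t + ζ * t ^ 2 := fun s t => by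
        rw [QuadraticMap.map_add (⇑Q), QuadraticMap.map_smul, QuadraticMap.map_smul, QuadraticMap.polar_smul_left,
          QuadraticMap.polar_smul_right, hx, hy, hxy]
        simp; ring
      have hani : ∀ w ∈ W, Q (e.symm w) = 0 → w = 0 := by
        intro w hw h0
        obtain ⟨s, t, rfl⟩ := hmem w hw
        rw [LinearEquiv.symm_apply_apply, hval] at h0
        by_cases ht : t = 0
        · subst ht
          simp at h0
          simp [h0]
        · exfalso
          refine hζ (s / t) ?_
          field_simp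
          linear_combination h0
      have h2W : finrank F W = 2 := by
        have hli : LinearIndependent F ![e (b (.inr 0)), e (b (.inr 1))] := by
          have h := (b.linearIndependent.comp Sum.inr Sum.inr_injective).map' e.toLinearMap (LinearEquiv.ker _)
          have he : (⇑e.toLinearMap ∘ ⇑b ∘ Sum.inr) = ![e (b (.inr 0)), e (b (.inr 1))] := by
            funext j; fin_cases j <;> rfl
          rw [he] at h
          exact h
        have h := finrank_span_eq_card hli
        rw [Matrix.range_cons, Matrix.range_cons, Matrix.range_empty, Set.union_empty, Fintype.card_fin,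
          Set.singleton_union] at h
        exact h
      have hnd : NDeg B W := by
        intro w hw h0
        refine hani w hw ?_
        by_cases h2 : (2 : F) = 0
        · obtain ⟨s, t, rfl⟩ := hmem w hw
          have e0 := h0 _ (Submodule.subset_span (Set.mem_insert _ _) : e (b (.inr 0)) ∈ W)
          have e1 := h0 _ (Submodule.subset_span (Set.mem_insert_of_mem _ rfl) : e (b (.inr 1)) ∈ W)
          rw [← hP, QuadraticMap.polar_add_left, QuadraticMap.polar_smul_left, QuadraticMap.polar_smul_left,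
            QuadraticMap.polar_self, hp (b (.inr 1)), hxy, hx] at e0
          rw [← hP, QuadraticMap.polar_add_left, QuadraticMap.polar_smul_left, QuadraticMap.polar_smul_left,
            QuadraticMap.polar_self, hxy, hy] at e1
          simp [h2] at e0 e1
          rw [LinearEquiv.symm_apply_apply, e0, e1]; simp
        · have := h0 w hw
          rw [C.self] at this
          exact (mul_eq_zero.mp this).resolve_left h2
      obtain ⟨v, hv, hvc⟩ := plane_value C hnd h2W hc hani
      obtain ⟨s, t, rfl⟩ := hmem v hv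
      simp only [LinearEquiv.symm_apply_apply] at hvc
      exact ⟨s, t, (hval s t).symm.trans hvc⟩
    let X := α • b (.inr 0) + β • b (.inr 1)
    let Y := (-(ζ * β)) • b (.inr 0) + (α + β) • b (.inr 1)
    refine build b (Sum.elim (Sum.elim (fun i => c • b (.inl (.inl i))) (fun i => b (.inl (.inr i)))) ![X, Y]) ?_ ?_
    · rintro ((i | i) | i)
      · simp [QuadraticMap.map_smul, (hq i).1]
      · simp [(hq i).2]
      · fin_cases i
        · simp [X, QuadraticMap.map_add (⇑Q), QuadraticMap.map_smul, QuadraticMap.polar_smul_left,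
            QuadraticMap.polar_smul_right, hx, hy, hxy]
          linear_combination hαβ
        · simp [Y, QuadraticMap.map_add (⇑Q), QuadraticMap.map_smul, QuadraticMap.polar_smul_left,
            QuadraticMap.polar_smul_right, hx, hy, hxy]
          linear_combination ζ * hαβ
    · rintro ((i | i) | i) ((j | j) | j)
      · simp [QuadraticMap.polar_smul_left, QuadraticMap.polar_smul_right, (hee i j).1]
      · simp [QuadraticMap.polar_smul_left]
      · fin_cases j <;> simp [X, Y, QuadraticMap.polar_smul_left, QuadraticMap.polar_smul_right,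
          QuadraticMap.polar_add_right, (hpl i 0).1, (hpl i 1).1]
      · simp [QuadraticMap.polar_smul_right]
      · simp [(hee i j).2]
      · fin_cases j <;> simp [X, Y, QuadraticMap.polar_smul_right, QuadraticMap.polar_add_right, (hpl i 0).2,
          (hpl i 1).2]
      · fin_cases i <;> simp [X, Y, QuadraticMap.polar_smul_left, QuadraticMap.polar_smul_right,
          QuadraticMap.polar_add_left, hp (b (.inr _)) (b (.inl _)), (hpl j 0).1, (hpl j 1).1]
      · fin_cases i <;> simp [X, Y, QuadraticMap.polar_smul_left,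
          QuadraticMap.polar_add_left, hp (b (.inr _)) (b (.inl _)), (hpl j 0).2, (hpl j 1).2]
      · fin_cases i <;> fin_cases j
        · simp [X, QuadraticMap.polar_smul_left, QuadraticMap.polar_smul_right, QuadraticMap.polar_add_left,
            QuadraticMap.polar_add_right, QuadraticMap.polar_self, QuadraticMap.map_add (⇑Q), QuadraticMap.map_smul,
            hp (b (.inr 1)) (b (.inr 0)), hx, hy, hxy]
          linear_combination 2 * hαβ
        · simp [X, Y, QuadraticMap.polar_smul_left, QuadraticMap.polar_smul_right, QuadraticMap.polar_add_left,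
            QuadraticMap.polar_add_right, QuadraticMap.polar_self, hp (b (.inr 1)) (b (.inr 0)), hx, hy, hxy]
          linear_combination hαβ
        · simp [X, Y, QuadraticMap.polar_smul_left, QuadraticMap.polar_smul_right, QuadraticMap.polar_add_left,
            QuadraticMap.polar_add_right, QuadraticMap.polar_self, hp (b (.inr 1)) (b (.inr 0)), hx, hy, hxy]
          linear_combination hαβ
        · simp [Y, QuadraticMap.polar_smul_left, QuadraticMap.polar_smul_right, QuadraticMap.polar_add_left,
            QuadraticMap.polar_add_right, QuadraticMap.polar_self, QuadraticMap.map_add (⇑Q), QuadraticMap.map_smul,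
            hp (b (.inr 1)) (b (.inr 0)), hx, hy, hxy]
          linear_combination 2 * ζ * hαβ

end Standard

end Cfsg.Lib.Linear.Orth
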