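import Cfsg.Prelude.Def_FischerSpaces
import Cfsg.Prelude.Def_SporadicB
import Cfsg.Agent.Lib.Linear.OrthSpinor

/-!
# Reflections of a fixed norm over the field with three elements

The reflections in the vectors of a fixed non-zero norm form a class of 3-transpositions of the
subgroup which they generate.
-/

set_option autoImplicit false

namespace Cfsg.Lib.Linear.Orth

open Module
open scoped Matrix

variable {ι : Type} [Fintype ι] [DecidableEq ι]

section Perp

variable {F : Type*} [Field F] {Q : (ι → F) → F} {B : LinearMap.BilinForm F (ι → F)}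

/-- A family of mutually orthogonal non-singular vectors which is too small to be a basis has a
non-singular vector orthogonal to it. -/
theorem exists_nonsing_perp_family (C : Space Q B) (h2 : (2 : F) ≠ 0) {k : ℕ} (f : Fin k → ι → F)
    (hk : k < Fintype.card ι) (hf : ∀ i, Q (f i) ≠ 0) (horth : ∀ i j, i ≠ j → B (f i) (f j) = 0) :
    ∃ z, (∀ i, B (f i) z = 0) ∧ Q z ≠ 0 := by
  classical
  by_contra hno
  push Not at hno
  have hproj : ∀ (x : ι → F) (j : Fin k),
      B (f j) (x - ∑ i, (B (f i) x / B (f i) (f i)) • f i) = 0 := by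
    intro x j
    rw [map_sub, map_sum, Finset.sum_eq_single j
      (fun i _ hi => by rw [map_smul, horth j i (Ne.symm hi), smul_zero])
      (fun h => absurd (Finset.mem_univ j) h), map_smul, smul_eq_mul,
      div_mul_cancel₀ _ (by rw [C.self]; exact mul_ne_zero h2 (hf j)), sub_self]
  have hzero : ∀ z, (∀ i, B (f i) z = 0) → z = 0 := by
    intro z hz
    refine C.nondeg' fun x => ?_
    obtain ⟨p, hp⟩ : ∃ p, p = x - ∑ i, (B (f i) x / B (f i) (f i)) • f i := ⟨_, rfl⟩
    have hp' : ∀ i, B (f i) p = 0 := fun i => hp ▸ hproj x i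
    have hzp : B z p = 0 := by
      have h := hno (z + p) fun i => by rw [map_add, hz, hp', add_zero]
      rwa [C.add, hno z hz, hno p hp', zero_add, zero_add] at h
    rw [hp, map_sub, map_sum, Finset.sum_eq_zero (fun i _ => by
      rw [map_smul, C.symm z (f i), hz i, smul_zero]), sub_zero] at hzp
    exact hzp
  have htop : Submodule.span F (Set.range f) = ⊤ := by
    refine eq_top_iff.mpr fun x _ => ?_
    rw [← sub_add_cancel x (∑ i, (B (f i) x / B (f i) (f i)) • f i), hzero _ (hproj x), zero_add]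
    exact Submodule.sum_mem _ fun i _ =>
      Submodule.smul_mem _ _ (Submodule.subset_span (Set.mem_range_self i))
  have h := finrank_range_le_card (R := F) f
  rw [Set.finrank, htop, finrank_top, finrank_fintype_fun_eq_card, Fintype.card_fin] at h
  omega

end Perp

section Three

variable {Q : (ι → ZMod 3) → ZMod 3} {B : LinearMap.BilinForm (ZMod 3) (ι → ZMod 3)}

theorem zmod3_two_ne_zero : (2 : ZMod 3) ≠ 0 := by decide

/-- Below a family of codimension at least two every non-zero norm occurs. -/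
theorem exists_norm_perp_family (C : Space Q B) {k : ℕ} (f : Fin k → ι → ZMod 3)
    (hk : k + 2 ≤ Fintype.card ι) (hf : ∀ i, Q (f i) ≠ 0)
    (horth : ∀ i j, i ≠ j → B (f i) (f j) = 0) {t : ZMod 3} (ht : t ≠ 0) :
    ∃ z, (∀ i, B (f i) z = 0) ∧ Q z = t := by
  obtain ⟨z, hz, hqz⟩ := exists_nonsing_perp_family C zmod3_two_ne_zero f (by omega) hf horth
  obtain ⟨z', hz', hqz'⟩ := exists_nonsing_perp_family C zmod3_two_ne_zero
    (Fin.snoc f z : Fin (k + 1) → ι → ZMod 3) (by omega)
    (fun i => by refine Fin.lastCases ?_ ?_ i <;> simp [hqz, hf])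
    (fun i j => by
      refine Fin.lastCases ?_ ?_ i <;> refine Fin.lastCases ?_ ?_ j <;> simp
      · intro a _
        rw [C.symm]
        exact hz a
      · exact fun a => hz a
      · exact fun a b h => horth _ _ h)
  have hzz' : B z z' = 0 := by simpa using hz' (Fin.last k)
  have hfz' : ∀ i, B (f i) z' = 0 := fun i => by simpa using hz' i.castSucc
  have key : ∀ a b t : ZMod 3, a ≠ 0 → b ≠ 0 → t ≠ 0 → a = t ∨ b = t ∨ a + b = t := by decide
  rcases key _ _ _ hqz hqz' ht with h | h | h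
  · exact ⟨z, hz, h⟩
  · exact ⟨z', hfz', h⟩
  · exact ⟨z + z', fun i => by rw [map_add, hz, hfz', add_zero],
      by rw [C.add, hzz', add_zero, h]⟩

/-- Two reflections of the same norm either commute or satisfy the braid relation. -/
theorem rGL3_pair (C : Space Q B) {v w : ι → ZMod 3} (hv : Q v ≠ 0) (hvw : Q v = Q w) :
    (B v w = 0 → rGL Q v * rGL Q w = rGL Q w * rGL Q v) ∧
      (B v w ≠ 0 → rGL Q v * rGL Q w * rGL Q v = rGL Q w * rGL Q v * rGL Q w) := by
  have hw : Q w ≠ 0 := hvw ▸ hv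
  have h1 := rGL_conj C hw (rGL_mem C hv)
  rw [rGL_inv C hv, rGL_act C hv] at h1
  have h2 := rGL_conj C hv (rGL_mem C hw)
  rw [rGL_inv C hw, rGL_act C hw, C.symm w v, ← hvw] at h2
  constructor
  · intro h0
    rw [h0, mul_zero, zero_smul, sub_zero] at h1
    calc rGL Q v * rGL Q w = rGL Q v * rGL Q w * rGL Q v * rGL Q v := by
          rw [mul_assoc _ (rGL Q v) (rGL Q v), rGL_sq C hv, mul_one]
      _ = rGL Q w * rGL Q v := by rw [h1]
  · intro h0
    have key : ∀ a : ZMod 3, a ≠ 0 → a * a = 1 := by decide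
    have hk := key _ (mul_ne_zero (inv_ne_zero hv) h0)
    have hq : Q (v - ((Q v)⁻¹ * B v w) • w) ≠ 0 := by
      have e := mem_iso.mp (rGL_mem C hw) v
      rw [rGL_act C hw, C.symm w v, ← hvw] at e
      rw [e]
      exact hv
    rw [h1, h2]
    generalize (Q v)⁻¹ * B v w = k at hk hq ⊢
    have hk0 : k ≠ 0 := by rintro rfl; simp at hk
    rw [show w - k • v = (-k) • (v - k • w) by match_scalars <;> first | ring1 | linear_combination -hk,
      rGL_smul C hq (neg_ne_zero.mpr hk0)]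

/-- Between two orthogonal vectors of one norm there is a vector of this norm orthogonal to
neither. -/
theorem exists_link (C : Space Q B) (h4 : 4 ≤ Fintype.card ι) {v w : ι → ZMod 3} (hv : Q v ≠ 0)
    (hvw : Q v = Q w) (h : B v w = 0) : ∃ x, Q x = Q v ∧ B v x ≠ 0 ∧ B w x ≠ 0 := by
  have h2 : (2 : ZMod 3) * Q v ≠ 0 := mul_ne_zero zmod3_two_ne_zero hv
  obtain ⟨z, hz, hqz⟩ := exists_norm_perp_family C ![v, w] (by omega)
    (fun i => by fin_cases i <;> simp [hv, ← hvw])
    (fun i j hij => by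
      fin_cases i <;> fin_cases j <;> simp at hij ⊢
      · exact h
      · rw [C.symm]; exact h) (t := -Q v) (neg_ne_zero.mpr hv)
  have hz0 : B v z = 0 := by simpa using hz 0
  have hz1 : B w z = 0 := by simpa using hz 1
  have hwv : B w v = 0 := by rw [C.symm]; exact h
  refine ⟨v + w + z, ?_, ?_, ?_⟩
  · rw [C.add, C.add, hqz, h, map_add, LinearMap.add_apply, hz0, hz1, ← hvw]
    ring
  · rw [map_add, map_add, C.self, h, hz0, add_zero, add_zero]
    exact h2
  · rw [map_add, map_add, C.self, hwv, hz1, zero_add, add_zero, ← hvw]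
    exact h2

/-- A group containing all reflections of one norm permutes them transitively. -/
theorem exists_conj_rGL (C : Space Q B) (h4 : 4 ≤ Fintype.card ι) {c : ZMod 3} (hc : c ≠ 0)
    (S : Subgroup (GL ι (ZMod 3))) (hS : ∀ x, Q x = c → rGL Q x ∈ S) {v w : ι → ZMod 3}
    (hv : Q v = c) (hw : Q w = c) : ∃ g ∈ S, g * rGL Q v * g⁻¹ = rGL Q w := by
  have step : ∀ a b, Q a = c → Q b = c → B a b ≠ 0 →
      ∃ g ∈ S, g * rGL Q a * g⁻¹ = rGL Q b := by
    intro a b ha hb hab
    have ha' : Q a ≠ 0 := ha ▸ hc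
    have hb' : Q b ≠ 0 := hb ▸ hc
    have hbr := (rGL3_pair C ha' (ha.trans hb.symm)).2 hab
    refine ⟨rGL Q a * rGL Q b, mul_mem (hS a ha) (hS b hb), ?_⟩
    rw [_root_.mul_inv_rev, rGL_inv C ha', rGL_inv C hb']
    calc rGL Q a * rGL Q b * rGL Q a * (rGL Q b * rGL Q a)
        = rGL Q b * rGL Q a * rGL Q b * (rGL Q b * rGL Q a) := by rw [hbr]
      _ = rGL Q b * rGL Q a * (rGL Q b * rGL Q b) * rGL Q a := by simp only [mul_assoc]
      _ = rGL Q b := by rw [rGL_sq C hb', mul_one, mul_assoc, rGL_sq C ha', mul_one]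
  by_cases h0 : B v w = 0
  · obtain ⟨x, hx, hvx, hwx⟩ := exists_link C h4 (hv ▸ hc) (hv.trans hw.symm) h0
    obtain ⟨g, hg, h1⟩ := step v x hv (hx.trans hv) hvx
    obtain ⟨g', hg', h2⟩ := step x w (hx.trans hv) hw (by rwa [C.symm])
    refine ⟨g' * g, mul_mem hg' hg, ?_⟩
    rw [← h2, ← h1]
    group
  · exact step v w hv hw h0

/-- The order of the product of two reflections of one norm is at most three. -/
theorem rGL3_pow (C : Space Q B) {v w : ι → ZMod 3} (hv : Q v ≠ 0) (hvw : Q v = Q w) :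
    (rGL Q v * rGL Q w) ^ 2 = 1 ∨ (rGL Q v * rGL Q w) ^ 3 = 1 := by
  have hw : Q w ≠ 0 := hvw ▸ hv
  obtain ⟨hp1, hp2⟩ := rGL3_pair C hv hvw
  by_cases h0 : B v w = 0
  · left
    calc (rGL Q v * rGL Q w) ^ 2 = rGL Q v * rGL Q w * (rGL Q v * rGL Q w) := pow_two _
      _ = rGL Q w * rGL Q v * (rGL Q v * rGL Q w) := by rw [hp1 h0]
      _ = rGL Q w * (rGL Q v * rGL Q v) * rGL Q w := by simp only [mul_assoc]
      _ = 1 := by rw [rGL_sq C hv, mul_one, rGL_sq C hw]
  · right
    calc (rGL Q v * rGL Q w) ^ 3 = (rGL Q v * rGL Q w * rGL Q v) *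
          (rGL Q w * rGL Q v * rGL Q w) := by simp only [pow_succ, pow_zero, one_mul, mul_assoc]
      _ = (rGL Q w * rGL Q v * rGL Q w) * (rGL Q w * rGL Q v * rGL Q w) := by rw [hp2 h0]
      _ = rGL Q w * rGL Q v * (rGL Q w * rGL Q w) * rGL Q v * rGL Q w := by simp only [mul_assoc]
      _ = rGL Q w * (rGL Q v * rGL Q v) * rGL Q w := by rw [rGL_sq C hw, mul_one]; simp only [mul_assoc]
      _ = 1 := by rw [rGL_sq C hv, mul_one, rGL_sq C hw]

/-- A reflection over the field with three elements is not trivial. -/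
theorem rGL3_ne_one (C : Space Q B) {v : ι → ZMod 3} (hv : Q v ≠ 0) : rGL Q v ≠ 1 := by
  intro h
  have h' := rGL_self C hv
  rw [h, Units.val_one, Matrix.one_mulVec] at h'
  refine hv ?_
  have : v = 0 := funext fun i => by
    have key : ∀ a : ZMod 3, a = -a → a = 0 := by decide
    exact key _ (congrFun h' i)
  rw [this, C.zero]

theorem mem_reflectionsOfNorm_iff (C : Space Q B) {c : ZMod 3} (hc : c ≠ 0)
    {g : ↥(isometryGroup (ZMod 3) Q)} :
    g ∈ Cfsg.reflectionsOfNorm Q c ↔ ∃ v, Q v = c ∧ (g : GL ι (ZMod 3)) = rGL Q v := by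
  constructor
  · rintro ⟨v, hv, hg⟩
    exact ⟨v, hv, Units.ext (by rw [hg, rGL_val C (hv ▸ hc)])⟩
  · rintro ⟨v, hv, hg⟩
    exact ⟨v, hv, by rw [hg, rGL_val C (hv ▸ hc)]⟩

theorem rI_mem_reflectionSubgroup (C : Space Q B) {c : ZMod 3} (hc : c ≠ 0) {v : ι → ZMod 3}
    (hv : Q v = c) : rI C v (hv ▸ hc) ∈ Cfsg.reflectionSubgroup Q c :=
  Subgroup.subset_closure ((mem_reflectionsOfNorm_iff C hc).mpr ⟨v, hv, rI_val C (hv ▸ hc)⟩)

/-- The reflections of a fixed norm form a class of 3-transpositions of the subgroup which they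
generate. -/
theorem reflections_class (C : Space Q B) (h4 : 4 ≤ Fintype.card ι) {c : ZMod 3} (hc : c ≠ 0) :
    Cfsg.IsThreeTranspositionClass {g : ↥(Cfsg.reflectionSubgroup Q c) |
      (g : ↥(isometryGroup (ZMod 3) Q)) ∈ Cfsg.reflectionsOfNorm Q c} := by
  set D := {g : ↥(Cfsg.reflectionSubgroup Q c) |
      (g : ↥(isometryGroup (ZMod 3) Q)) ∈ Cfsg.reflectionsOfNorm Q c} with hD
  have hval : ∀ g : ↥(Cfsg.reflectionSubgroup Q c), g ∈ D →
      ∃ v, Q v = c ∧ (((g : ↥(isometryGroup (ZMod 3) Q))) : GL ι (ZMod 3)) = rGL Q v :=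
    fun g hg => (mem_reflectionsOfNorm_iff C hc).mp hg
  have hinj : ∀ g h : ↥(Cfsg.reflectionSubgroup Q c),
      ((g : ↥(isometryGroup (ZMod 3) Q)) : GL ι (ZMod 3)) = (h : ↥(isometryGroup (ZMod 3) Q)) →
      g = h := fun g h e => Subtype.ext (Subtype.ext e)
  refine ⟨⟨?_, ?_⟩, ?_, Subgroup.closure_closure_coe_preimage⟩
  · intro d hd
    obtain ⟨v, hv, hdv⟩ := hval d hd
    refine orderOf_eq_prime (hinj _ _ ?_) fun h => rGL3_ne_one C (hv ▸ hc) ?_
    · push_cast
      rw [pow_two, hdv, rGL_sq C (hv ▸ hc)]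
    · rw [← hdv, h]
      rfl
  · intro d hd e he
    obtain ⟨v, hv, hdv⟩ := hval d hd
    obtain ⟨w, hw, hew⟩ := hval e he
    rcases rGL3_pow C (v := v) (w := w) (hv ▸ hc) (hv.trans hw.symm) with h | h
    · left
      refine hinj _ _ ?_
      push_cast
      rw [hdv, hew, h]
    · right
      refine hinj _ _ ?_
      push_cast
      rw [hdv, hew, h]
  · obtain ⟨v, -, hv⟩ := exists_norm_perp_family C (k := 0) Fin.elim0 (by omega)
      (fun i => i.elim0) (fun i => i.elim0) hc
    have hmem : (⟨rI C v (hv ▸ hc), rI_mem_reflectionSubgroup C hc hv⟩ :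
        ↥(Cfsg.reflectionSubgroup Q c)) ∈ D :=
      (mem_reflectionsOfNorm_iff C hc).mpr ⟨v, hv, rI_val C (hv ▸ hc)⟩
    refine ⟨_, hmem, Set.ext fun x => ⟨fun hx => ?_, fun hx => ?_⟩⟩
    · obtain ⟨w, hw, hxw⟩ := hval x hx
      obtain ⟨g, hg, hgvw⟩ := exists_conj_rGL C h4 hc
        (((Cfsg.reflectionSubgroup Q c)).map (isometryGroup (ZMod 3) Q).subtype)
        (fun y hy => ⟨_, rI_mem_reflectionSubgroup C hc hy, rI_val C (hy ▸ hc)⟩) hv hw
      obtain ⟨g', hg', rfl⟩ := hg
      refine isConj_iff.mpr ⟨⟨g', hg'⟩, hinj _ _ ?_⟩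
      push_cast
      rw [hxw, rI_val]
      exact hgvw
    · obtain ⟨g, rfl⟩ := isConj_iff.mp hx
      refine (mem_reflectionsOfNorm_iff C hc).mpr
        ⟨((g : ↥(isometryGroup (ZMod 3) Q)) : GL ι (ZMod 3)).val *ᵥ v, ?_, ?_⟩
      · rw [mem_iso.mp (g : ↥(isometryGroup (ZMod 3) Q)).2]
        exact hv
      · push_cast
        rw [rI_val C (hv ▸ hc)]
        exact rGL_conj C (hv ▸ hc) (g : ↥(isometryGroup (ZMod 3) Q)).2

/-! ## The index of the group generated by the reflections of one norm -/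

theorem reflectionSubgroup_normal (C : Space Q B) {c : ZMod 3} (hc : c ≠ 0) :
    (Cfsg.reflectionSubgroup Q c).Normal := by
  refine ⟨fun n hn g => ?_⟩
  induction hn using Subgroup.closure_induction with
  | mem x hx =>
    obtain ⟨v, hv, hxv⟩ := (mem_reflectionsOfNorm_iff C hc).mp hx
    refine Subgroup.subset_closure ((mem_reflectionsOfNorm_iff C hc).mpr
      ⟨(g : GL ι (ZMod 3)).val *ᵥ v, by rw [mem_iso.mp g.2, hv], ?_⟩)
    push_cast
    rw [hxv]
    exact rGL_conj C (hv ▸ hc) g.2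
  | one => rw [mul_one, mul_inv_cancel]; exact one_mem _
  | mul x y _ _ hx hy =>
    rw [show g * (x * y) * g⁻¹ = g * x * g⁻¹ * (g * y * g⁻¹) by group]
    exact mul_mem hx hy
  | inv x _ hx =>
    rw [show g * x⁻¹ * g⁻¹ = (g * x * g⁻¹)⁻¹ by group]
    exact inv_mem hx

/-- Orthogonal vectors of the other norm give congruent reflections. -/
theorem rI_mul_mem_of_orth (C : Space Q B) {c : ZMod 3} (hc : c ≠ 0) {w w' : ι → ZMod 3}
    (hw : Q w = -c) (hw' : Q w' = -c) (h : B w w' = 0) :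
    rI C w (by rw [hw]; exact neg_ne_zero.mpr hc) * rI C w' (by rw [hw']; exact neg_ne_zero.mpr hc)
      ∈ Cfsg.reflectionSubgroup Q c := by
  haveI := reflectionSubgroup_normal C hc
  have hwne : Q w ≠ 0 := by rw [hw]; exact neg_ne_zero.mpr hc
  have hw'ne : Q w' ≠ 0 := by rw [hw']; exact neg_ne_zero.mpr hc
  have key : ∀ a : ZMod 3, -a + -a = a ∧ (a ≠ 0 → a⁻¹ * (2 * -a) = 1) := by
    intro a
    refine ⟨?_, fun ha => ?_⟩
    · revert a; decide
    · rw [mul_comm 2, ← mul_assoc, mul_neg, inv_mul_cancel₀ ha]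
      decide
  have hu : Q (w + w') = c := by rw [C.add, h, hw, hw', add_zero, (key c).1]
  have hH := rI_mem_reflectionSubgroup C hc hu
  have hact : (rGL Q (w + w')).val *ᵥ w = -w' := by
    rw [rGL_act C (hu ▸ hc), hu, map_add, LinearMap.add_apply, C.self, C.symm w' w, h, add_zero,
      hw, (key c).2 hc, one_smul, sub_add_cancel_left]
  have hconj : rI C w' hw'ne = rI C (w + w') (hu ▸ hc) * rI C w hwne *
      (rI C (w + w') (hu ▸ hc))⁻¹ := Subtype.ext (by
    push_cast
    rw [rI_val C hw'ne, rI_val C hwne, rI_val C (hu ▸ hc), rGL_conj C hwne (rGL_mem C (hu ▸ hc)),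
      hact, ← neg_one_smul (ZMod 3) w', rGL_smul C hw'ne (by decide)])
  rw [hconj, ← mul_assoc, ← mul_assoc]
  refine mul_mem ?_ (inv_mem hH)
  have hinv : (rI C w hwne)⁻¹ = rI C w hwne := inv_eq_of_mul_eq_one_right (rI_sq C hwne)
  nth_rewrite 2 [← hinv]
  exact Subgroup.Normal.conj_mem inferInstance _ hH _

/-- Below two vectors, one of them non-singular, every non-zero norm occurs. -/
theorem exists_norm_perp_pair (C : Space Q B) (h5 : 5 ≤ Fintype.card ι) {w : ι → ZMod 3}
    (hwne : Q w ≠ 0) (w' : ι → ZMod 3) {t : ZMod 3} (ht : t ≠ 0) :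
    ∃ x, B w x = 0 ∧ B w' x = 0 ∧ Q x = t := by
  have hBww : B w w ≠ 0 := by rw [C.self]; exact mul_ne_zero zmod3_two_ne_zero hwne
  obtain ⟨k, hk⟩ : ∃ k, k = B w w' / B w w := ⟨_, rfl⟩
  obtain ⟨r, hr⟩ : ∃ r, r = w' - k • w := ⟨_, rfl⟩
  have hwr : B w r = 0 := by
    rw [hr, map_sub, map_smul, smul_eq_mul, hk, div_mul_cancel₀ _ hBww, sub_self]
  have hw'e : w' = r + k • w := by rw [hr, sub_add_cancel]
  by_cases hqr : Q r = 0
  · by_cases hr0 : r = 0
    · obtain ⟨x, hx, hqx⟩ := exists_norm_perp_family C ![w] (by omega)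
        (fun i => by fin_cases i; simpa using hwne)
        (fun i j hij => absurd (Subsingleton.elim i j) hij) ht
      have hx0 : B w x = 0 := by simpa using hx 0
      refine ⟨x, hx0, ?_, hqx⟩
      rw [hw'e, hr0, zero_add, map_smul, LinearMap.smul_apply, hx0, smul_zero]
    obtain ⟨y, hy⟩ := C.exists_pair hr0
    obtain ⟨s0, hs0⟩ : ∃ s0, s0 = y - (B w y / B w w) • w := ⟨_, rfl⟩
    have hws0 : B w s0 = 0 := by
      rw [hs0, map_sub, map_smul, smul_eq_mul, div_mul_cancel₀ _ hBww, sub_self]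
    have hrs0 : B r s0 = 1 := by
      rw [hs0, map_sub, map_smul, smul_eq_mul, C.symm r w, hwr, mul_zero, sub_zero, hy]
    have hrr : B r r = 0 := C.self_zero hqr
    obtain ⟨s, hs⟩ : ∃ s, s = s0 + (-Q s0) • r := ⟨_, rfl⟩
    have hws : B w s = 0 := by rw [hs, map_add, map_smul, hws0, hwr, smul_zero, add_zero]
    have hrs : B r s = 1 := by rw [hs, map_add, map_smul, hrs0, hrr, smul_zero, add_zero]
    have hqs : Q s = 0 := by
      rw [hs, C.add, C.smul, hqr, map_smul, C.symm s0 r, hrs0, smul_eq_mul]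
      ring
    have hqp : Q (r + s) = 1 := by rw [C.add, hqr, hqs, hrs, zero_add, zero_add]
    have hqq : Q (r - s) = -1 := by
      rw [sub_eq_add_neg, C.add, C.neg, map_neg, hqr, hqs, hrs, zero_add, zero_add]
    have hpq : B (r + s) (r - s) = 0 := by
      rw [map_sub, map_add, LinearMap.add_apply, LinearMap.add_apply, hrr, C.self_zero hqs,
        C.symm s r, hrs]
      ring
    have hwp : B w (r + s) = 0 := by rw [map_add, hwr, hws, add_zero]
    have hwq : B w (r - s) = 0 := by rw [map_sub, hwr, hws, sub_zero]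
    obtain ⟨x, hx, hqx⟩ := exists_norm_perp_family C ![w, r + s, r - s] (by omega)
      (fun i => by fin_cases i <;> simp [hwne, hqp, hqq])
      (fun i j hij => by
        fin_cases i <;> fin_cases j <;>
          simp [hwr, hws, hrr, hrs, C.self_zero hqs, C.symm s r, C.symm r w, C.symm s w] at hij ⊢)
      ht
    have h0 : B w x = 0 := by simpa using hx 0
    have h1 : B (r + s) x = 0 := by simpa using hx 1
    have h2' : B (r - s) x = 0 := by simpa using hx 2
    have hrx : B r x = 0 := by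
      have h3 : B (r + s) x + B (r - s) x = 0 := by rw [h1, h2', add_zero]
      rw [map_add, map_sub, LinearMap.add_apply, LinearMap.sub_apply] at h3
      have key : ∀ a b : ZMod 3, a + b + (a - b) = 0 → a = 0 := by decide
      exact key _ _ h3
    refine ⟨x, h0, ?_, hqx⟩
    rw [hw'e, map_add, map_smul, LinearMap.add_apply, LinearMap.smul_apply, hrx, h0, smul_zero,
      add_zero]
  · obtain ⟨x, hx, hqx⟩ := exists_norm_perp_family C ![w, r] (by omega)
      (fun i => by fin_cases i <;> simp [hwne, hqr])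
      (fun i j hij => by
        fin_cases i <;> fin_cases j <;> simp at hij ⊢
        · exact hwr
        · rw [C.symm]; exact hwr) ht
    have h0 : B w x = 0 := by simpa using hx 0
    have h1 : B r x = 0 := by simpa using hx 1
    refine ⟨x, h0, ?_, hqx⟩
    rw [hw'e, map_add, map_smul, LinearMap.add_apply, LinearMap.smul_apply, h1, h0, smul_zero,
      add_zero]

/-- All reflections of the other norm are congruent. -/
theorem rI_mul_mem (C : Space Q B) (h5 : 5 ≤ Fintype.card ι) {c : ZMod 3} (hc : c ≠ 0)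
    {w w' : ι → ZMod 3} (hw : Q w = -c) (hw' : Q w' = -c) :
    rI C w (by rw [hw]; exact neg_ne_zero.mpr hc) * rI C w' (by rw [hw']; exact neg_ne_zero.mpr hc)
      ∈ Cfsg.reflectionSubgroup Q c := by
  have hwne : Q w ≠ 0 := by rw [hw]; exact neg_ne_zero.mpr hc
  obtain ⟨x, hxw, hxw', hx⟩ := exists_norm_perp_pair C h5 hwne w' (neg_ne_zero.mpr hc)
  have hxne : Q x ≠ 0 := by rw [hx]; exact neg_ne_zero.mpr hc
  have h1 := rI_mul_mem_of_orth C hc hw hx hxw
  have h2 := rI_mul_mem_of_orth C hc hx hw' (by rw [C.symm]; exact hxw')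
  have h3 := mul_mem h1 h2
  rwa [← mul_assoc, mul_assoc (rI C w _) (rI C x _) (rI C x _), rI_sq C hxne, mul_one] at h3

theorem zmod3_eq_or_neg {a c : ZMod 3} (ha : a ≠ 0) (hc : c ≠ 0) : a = c ∨ a = -c := by
  revert a c; decide

/-- The reflections of one norm generate a subgroup of index two. -/
theorem reflectionSubgroup_index (C : Space Q B) (h5 : 5 ≤ Fintype.card ι) {c : ZMod 3}
    (hc : c ≠ 0) : (Cfsg.reflectionSubgroup Q c).index = 2 := by
  classical
  haveI hN := reflectionSubgroup_normal C hc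
  have hcard : Fintype.card (ZMod 3) ≠ 2 ∨ Fintype.card ι ≠ 4 :=
    Or.inl (by rw [ZMod.card]; norm_num)
  obtain ⟨w, -, hw⟩ := exists_norm_perp_family C (k := 0) Fin.elim0 (by omega)
    (fun i => i.elim0) (fun i => i.elim0) (neg_ne_zero.mpr hc)
  have hwne : Q w ≠ 0 := by rw [hw]; exact neg_ne_zero.mpr hc
  obtain ⟨φ, hφc, hφw⟩ : ∃ φ : ↥(isometryGroup (ZMod 3) Q) →* (ZMod 3)ˣ,
      (∀ v (hv : Q v = c), φ (rI C v (hv ▸ hc)) = 1) ∧ φ (rI C w hwne) ≠ 1 := by
    obtain ⟨ψ, hψ⟩ : ∃ ψ : ↥(isometryGroup (ZMod 3) Q) →* (ZMod 3)ˣ,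
        ∀ v (hv : Q v ≠ 0), ψ (rI C v hv) = if IsSquare (Q v) then -1 else 1 :=
      ⟨(Units.map (Int.castRingHom (ZMod 3)).toMonoidHom).comp (spin Q), fun v hv => by
        rw [MonoidHom.comp_apply, spin_rI C zmod3_two_ne_zero hv]
        split_ifs <;> simp⟩
    have hdet : ∀ v (hv : Q v ≠ 0), (Matrix.GeneralLinearGroup.det.comp
        (isometryGroup (ZMod 3) Q).subtype) (rI C v hv) = -1 := fun v hv => Units.ext (by
      rw [MonoidHom.comp_apply]
      simp only [Matrix.GeneralLinearGroup.val_det_apply, Units.val_neg, Units.val_one]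
      exact rGL_det C hv)
    have hsq : IsSquare (1 : ZMod 3) ∧ ¬ IsSquare (-1 : ZMod 3) :=
      ⟨IsSquare.one, fun ⟨r, hr⟩ => by revert r; decide⟩
    have hne : (-1 : (ZMod 3)ˣ) ≠ 1 := by decide
    rcases zmod3_eq_or_neg hc (one_ne_zero (α := ZMod 3)) with rfl | rfl
    · refine ⟨Matrix.GeneralLinearGroup.det.comp (isometryGroup (ZMod 3) Q).subtype * ψ,
        fun v hv => ?_, ?_⟩
      · rw [MonoidHom.mul_apply, hdet, hψ, hv, if_pos hsq.1, neg_mul_neg, one_mul]
      · rw [MonoidHom.mul_apply, hdet, hψ, hw, if_neg hsq.2, mul_one]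
        exact hne
    · refine ⟨ψ, fun v hv => ?_, ?_⟩
      · rw [hψ, hv, if_neg hsq.2]
      · rw [hψ, hw, neg_neg, if_pos hsq.1]
        exact hne
  have hker : Cfsg.reflectionSubgroup Q c ≤ φ.ker := by
    rw [Cfsg.reflectionSubgroup, Subgroup.closure_le]
    intro g hg
    obtain ⟨v, hv, hgv⟩ := (mem_reflectionsOfNorm_iff C hc).mp hg
    rw [SetLike.mem_coe, MonoidHom.mem_ker,
      show g = rI C v (hv ▸ hc) from Subtype.ext hgv]
    exact hφc v hv
  refine Subgroup.index_eq_two_iff.mpr ⟨rI C w hwne, fun g => ?_⟩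
  have hor : g * rI C w hwne ∈ Cfsg.reflectionSubgroup Q c ∨ g ∈ Cfsg.reflectionSubgroup Q c := by
    refine refl_induction C hcard (fun g => g * rI C w hwne ∈ Cfsg.reflectionSubgroup Q c ∨
      g ∈ Cfsg.reflectionSubgroup Q c) (Or.inr (one_mem _)) (fun v hv g ih => ?_) g
    rcases zmod3_eq_or_neg hv hc with h | h
    · have hm := rI_mem_reflectionSubgroup C hc h
      exact ih.imp (fun h' => by rw [mul_assoc]; exact mul_mem hm h') fun h' => mul_mem hm h'
    · have hvw := rI_mul_mem C h5 hc h hw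
      rcases ih with h' | h'
      · right
        have e : rI C v hv * g = rI C v hv * rI C w hwne * (rI C w hwne * g) := by
          rw [← mul_assoc, mul_assoc (rI C v hv), rI_sq C hwne, mul_one]
        rw [e]
        exact mul_mem hvw (hN.mem_comm h')
      · left
        have e : rI C v hv * g * rI C w hwne = rI C v hv * rI C w hwne *
            ((rI C w hwne)⁻¹ * g * rI C w hwne) := by group
        rw [e]
        refine mul_mem hvw ?_
        simpa using hN.conj_mem g h' (rI C w hwne)⁻¹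
  rcases hor with h | h
  · refine Or.inl ⟨h, fun h' => hφw ?_⟩
    have h1 := hker h
    rwa [MonoidHom.mem_ker, map_mul, MonoidHom.mem_ker.mp (hker h'), one_mul] at h1
  · refine Or.inr ⟨h, fun h' => hφw ?_⟩
    have h1 := hker h'
    rwa [MonoidHom.mem_ker, map_mul, MonoidHom.mem_ker.mp (hker h), one_mul] at h1

end Three

end Cfsg.Lib.Linear.Orth
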