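import Mathlib
import Cfsg.Prelude.Def_GeometricClasses
import Cfsg.Prelude.Def_ClassicalGeometry

/-!
# Orthogonal groups of quadratic forms: reflections and Siegel elements

For a quadratic form `Q` with non-degenerate polar form `B`, in any characteristic: reflections,
Siegel elements, and the generation of the isometry group by reflections together with the root
elements attached to singular orthogonal pairs.
-/

set_option autoImplicit false

namespace Cfsg.Lib.Linear.Orth

open Module
open scoped Matrix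

variable {ι : Type} [Fintype ι] [DecidableEq ι] {F : Type*} [Field F]
  {Q : (ι → F) → F} {B : LinearMap.BilinForm F (ι → F)}

/-- `B` is the non-degenerate polar form of `Q`. -/
structure Space (Q : (ι → F) → F) (B : LinearMap.BilinForm F (ι → F)) : Prop where
  smul : ∀ (c : F) (v : ι → F), Q (c • v) = c ^ 2 * Q v
  polar : ∀ u v, QuadraticMap.polar Q u v = B u v
  nondeg : ∀ v, (∀ u, B u v = 0) → v = 0

theorem exists_space (hQ : Cfsg.Geo.IsNondegenerateQuadraticForm Q) :
    ∃ B : LinearMap.BilinForm F (ι → F), Space Q B := by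
  refine ⟨LinearMap.mk₂ F (QuadraticMap.polar Q) hQ.polar_bilinear.add_left
    hQ.polar_bilinear.smul_left hQ.polar_bilinear.add_right hQ.polar_bilinear.smul_right,
    hQ.smul, fun _ _ => rfl, fun v hv => ?_⟩
  by_contra hne
  obtain ⟨x, hx⟩ := (hQ.nondegenerate v hne).1
  exact hx (hv x)

theorem space_of_quadraticForm (Q : QuadraticForm F (ι → F))
    (hQ : (QuadraticMap.polarBilin Q).Nondegenerate) :
    Space (⇑Q) (QuadraticMap.polarBilin Q) :=
  ⟨fun c v => by rw [QuadraticMap.map_smul, smul_eq_mul, sq], fun _ _ => rfl, hQ.2⟩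

theorem Space.add (C : Space Q B) (u v : ι → F) : Q (u + v) = Q u + Q v + B u v := by
  rw [← C.polar, QuadraticMap.polar]; ring

theorem Space.symm (C : Space Q B) (u v : ι → F) : B u v = B v u := by
  rw [← C.polar, ← C.polar, QuadraticMap.polar_comm]

theorem Space.self (C : Space Q B) (v : ι → F) : B v v = 2 * Q v := by
  rw [← C.polar, QuadraticMap.polar, ← two_smul F v, C.smul]; ring

theorem Space.self_zero (C : Space Q B) {u : ι → F} (hu : Q u = 0) : B u u = 0 := by
  rw [C.self, hu, mul_zero]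

theorem Space.zero (C : Space Q B) : Q 0 = 0 := by simpa using C.smul 0 0

theorem Space.neg (C : Space Q B) (v : ι → F) : Q (-v) = Q v := by
  rw [← neg_one_smul F v, C.smul]; ring

theorem Space.smul_add (C : Space Q B) (a b : F) (u v : ι → F) :
    Q (a • u + b • v) = a ^ 2 * Q u + b ^ 2 * Q v + a * b * B u v := by
  rw [C.add, C.smul, C.smul, map_smul, map_smul, LinearMap.smul_apply, smul_eq_mul, smul_eq_mul]
  ring

theorem Space.nondeg' (C : Space Q B) {v : ι → F} (hv : ∀ u, B v u = 0) : v = 0 :=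
  C.nondeg v fun u => by rw [C.symm]; exact hv u

theorem Space.exists_pair (C : Space Q B) {v : ι → F} (hv : v ≠ 0) : ∃ u, B v u = 1 := by
  obtain ⟨u, hu⟩ : ∃ u, B v u ≠ 0 := by
    by_contra h
    push Not at h
    exact hv (C.nondeg' h)
  exact ⟨(B v u)⁻¹ • u, by rw [map_smul, smul_eq_mul, inv_mul_cancel₀ hu]⟩

/-! ## Elements of `GL` -/

theorem mat_ext {M N : Matrix ι ι F} (H : ∀ x, M *ᵥ x = N *ᵥ x) : M = N :=
  Matrix.ext_of_mulVec_single fun i => H _

theorem gl_ext {g h : GL ι F} (H : ∀ x, g.val *ᵥ x = h.val *ᵥ x) : g = h := by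
  exact Units.ext (mat_ext H)

theorem act_inv (g : GL ι F) (v : ι → F) : g.val *ᵥ ((g⁻¹ : GL ι F).val *ᵥ v) = v := by
  rw [Matrix.mulVec_mulVec, ← Units.val_mul, mul_inv_cancel, Units.val_one, Matrix.one_mulVec]

theorem inv_act (g : GL ι F) (v : ι → F) : (g⁻¹ : GL ι F).val *ᵥ (g.val *ᵥ v) = v := by
  rw [Matrix.mulVec_mulVec, ← Units.val_mul, inv_mul_cancel, Units.val_one, Matrix.one_mulVec]

theorem mul_act (g h : GL ι F) (v : ι → F) : (g * h).val *ᵥ v = g.val *ᵥ (h.val *ᵥ v) := by
  rw [Matrix.mulVec_mulVec, Units.val_mul]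

theorem act_injective (g : GL ι F) : Function.Injective fun v => g.val *ᵥ v :=
  fun a b h => by simpa [inv_act] using congrArg (fun v => (g⁻¹ : GL ι F).val *ᵥ v) h

theorem act_ne_zero {g : GL ι F} {v : ι → F} (hv : v ≠ 0) : g.val *ᵥ v ≠ 0 :=
  fun h => hv (act_injective g (by simpa using h))

theorem mem_iso {g : GL ι F} : g ∈ isometryGroup F Q ↔ ∀ v, Q (g.val *ᵥ v) = Q v :=
  ⟨fun h v => h v v, fun h u _ => h u⟩

theorem Space.B_act (C : Space Q B) {g : GL ι F} (hg : g ∈ isometryGroup F Q) (u v : ι → F) :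
    B (g.val *ᵥ u) (g.val *ᵥ v) = B u v := by
  rw [← C.polar, ← C.polar, QuadraticMap.polar, QuadraticMap.polar, ← Matrix.mulVec_add]
  simp only [mem_iso.mp hg]

theorem Space.B_act_left (C : Space Q B) {g : GL ι F} (hg : g ∈ isometryGroup F Q)
    (u v : ι → F) : B (g.val *ᵥ u) v = B u ((g⁻¹ : GL ι F).val *ᵥ v) := by
  conv_lhs => rw [← act_inv g v]
  exact C.B_act hg _ _

/-- A matrix as an element of `GL`, junk if not invertible. -/
noncomputable def toGL (M : Matrix ι ι F) : GL ι F :=
  letI := Classical.dec (IsUnit M)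
  if h : IsUnit M then h.unit else 1

theorem toGL_val {M M' : Matrix ι ι F} (h : M * M' = 1) : (toGL M).val = M := by
  have h' : IsUnit M := ⟨⟨M, M', h, mul_eq_one_comm.mp h⟩, rfl⟩
  rw [toGL, dif_pos h', IsUnit.unit_spec]

/-- The covector of `u`. -/
def cov (B : LinearMap.BilinForm F (ι → F)) (u : ι → F) : ι → F :=
  fun i => B u (Pi.single i 1)

theorem cov_dot (u x : ι → F) : cov B u ⬝ᵥ x = B u x := by
  conv_rhs => rw [pi_eq_sum_univ' x]
  simp [dotProduct, cov, mul_comm]

theorem Space.polarVec_eq (C : Space Q B) (u : ι → F) : Cfsg.polarVec Q u = cov B u :=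
  funext fun i => C.polar u _

/-! ## Siegel elements -/

/-- The matrix of `x ↦ x + B(u,x) a - (B(a,x) + Q(a) B(u,x)) u`. -/
def sMat (Q : (ι → F) → F) (B : LinearMap.BilinForm F (ι → F)) (u a : ι → F) : Matrix ι ι F :=
  1 + Matrix.vecMulVec a (cov B u) - Matrix.vecMulVec u (cov B a + Q a • cov B u)

/-- The Siegel element of `(u, a)`. -/
noncomputable def sGL (Q : (ι → F) → F) (B : LinearMap.BilinForm F (ι → F)) (u a : ι → F) :
    GL ι F := toGL (sMat Q B u a)

theorem sMat_mulVec (u a x : ι → F) :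
    sMat Q B u a *ᵥ x = x + B u x • a - (B a x + Q a * B u x) • u := by
  funext i
  simp [sMat, Matrix.add_mulVec, Matrix.sub_mulVec, Matrix.vecMulVec_mulVec, add_dotProduct,
    smul_dotProduct, cov_dot, mul_comm]

section Siegel

variable (C : Space Q B) {u : ι → F} (hu : Q u = 0)

include C hu

theorem sMat_mul {a b : ι → F} (hua : B u a = 0) (hub : B u b = 0) :
    sMat Q B u a * sMat Q B u b = sMat Q B u (a + b) := by
  refine mat_ext fun x => ?_
  rw [← Matrix.mulVec_mulVec]
  simp only [sMat_mulVec, map_add, map_sub, map_smul, hub, C.self_zero hu, C.symm a u, hua,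
    C.add, smul_eq_mul, LinearMap.add_apply]
  module

theorem sMat_zero : sMat Q B u 0 = 1 := by
  refine mat_ext fun x => ?_
  simp [sMat_mulVec, C.zero, Matrix.one_mulVec]

variable {a : ι → F} (hua : B u a = 0)

include hua

theorem sGL_val : (sGL Q B u a).val = sMat Q B u a :=
  toGL_val (M' := sMat Q B u (-a)) (by
    rw [sMat_mul C hu hua (by rw [map_neg, hua, neg_zero]), add_neg_cancel, sMat_zero C hu])

theorem sGL_act (x : ι → F) :
    (sGL Q B u a).val *ᵥ x = x + B u x • a - (B a x + Q a * B u x) • u := by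
  rw [sGL_val C hu hua, sMat_mulVec]

theorem sGL_mem : sGL Q B u a ∈ isometryGroup F Q := by
  refine mem_iso.mpr fun x => ?_
  rw [sGL_act C hu hua, sub_eq_add_neg, ← neg_smul, C.add, C.add, C.smul, C.smul, hu]
  simp only [map_add, map_smul, LinearMap.add_apply, LinearMap.smul_apply, smul_eq_mul,
    C.symm x u, C.symm x a, C.symm a u, hua]
  ring

theorem sGL_mul {b : ι → F} (hub : B u b = 0) :
    sGL Q B u a * sGL Q B u b = sGL Q B u (a + b) := by
  refine Units.ext ?_
  rw [Units.val_mul, sGL_val C hu hua, sGL_val C hu hub,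
    sGL_val C hu (by rw [map_add, hua, hub, add_zero]), sMat_mul C hu hua hub]

theorem sGL_add_self (c : F) : sGL Q B u (a + c • u) = sGL Q B u a := by
  have h : B u (a + c • u) = 0 := by rw [map_add, hua, map_smul, C.self_zero hu]; simp
  refine gl_ext fun x => ?_
  rw [sGL_act C hu h, sGL_act C hu hua, C.add, C.smul, hu]
  simp only [map_add, map_smul, LinearMap.add_apply, LinearMap.smul_apply, smul_eq_mul, C.symm a u,
    hua]
  module

theorem sGL_smul (c : F) : sGL Q B (c • u) a = sGL Q B u (c • a) := by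
  have h1 : Q (c • u) = 0 := by rw [C.smul, hu, mul_zero]
  have h2 : B (c • u) a = 0 := by rw [map_smul, LinearMap.smul_apply, hua, smul_zero]
  have h3 : B u (c • a) = 0 := by rw [map_smul, hua, smul_zero]
  refine gl_ext fun x => ?_
  rw [sGL_act C h1 h2, sGL_act C hu h3, C.smul]
  simp only [map_smul, LinearMap.smul_apply, smul_eq_mul]
  module

theorem sGL_conj {g : GL ι F} (hg : g ∈ isometryGroup F Q) :
    g * sGL Q B u a * g⁻¹ = sGL Q B (g.val *ᵥ u) (g.val *ᵥ a) := by
  have h1 : Q (g.val *ᵥ u) = 0 := by rw [mem_iso.mp hg, hu]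
  have h2 : B (g.val *ᵥ u) (g.val *ᵥ a) = 0 := by rw [C.B_act hg, hua]
  refine gl_ext fun x => ?_
  rw [mul_act, mul_act, sGL_act C hu hua, sGL_act C h1 h2, mem_iso.mp hg, C.B_act_left hg,
    C.B_act_left hg]
  simp only [Matrix.mulVec_add, Matrix.mulVec_sub, Matrix.mulVec_smul, act_inv]

theorem sGL_det : (sGL Q B u a).val.det = 1 := by
  have key : sMat Q B u a = (1 + Matrix.vecMulVec a (cov B u)) *
      (1 + Matrix.vecMulVec (-u) (cov B a + Q a • cov B u)) := by
    refine mat_ext fun x => ?_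
    rw [← Matrix.mulVec_mulVec]
    simp only [sMat_mulVec, Matrix.add_mulVec, Matrix.one_mulVec, Matrix.vecMulVec_mulVec,
      op_smul_eq_smul, add_dotProduct, smul_dotProduct, cov_dot, map_add, map_smul, map_neg,
      dotProduct_add, dotProduct_smul, dotProduct_neg, C.self_zero hu, smul_eq_mul]
    module
  rw [sGL_val C hu hua, key, Matrix.det_mul, Matrix.vecMulVec_eq Unit,
    Matrix.det_one_add_replicateCol_mul_replicateRow, Matrix.vecMulVec_eq Unit,
    Matrix.det_one_add_replicateCol_mul_replicateRow, cov_dot, hua, dotProduct_neg, add_dotProduct,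
    smul_dotProduct, cov_dot, cov_dot, C.symm a u, hua, C.self_zero hu]
  simp

omit hua in
theorem sGL_val_siegel {v : ι → F} (hv : Q v = 0) (huv : B u v = 0) (c : F) :
    (sGL Q B u (c • v)).val = Cfsg.siegelMatrix Q u v c := by
  rw [sGL_val C hu (by rw [map_smul, huv, smul_zero])]
  refine mat_ext fun x => ?_
  simp only [sMat_mulVec, Cfsg.siegelMatrix, Matrix.add_mulVec, Matrix.one_mulVec,
    Matrix.smul_mulVec, Matrix.sub_mulVec, Matrix.vecMulVec_mulVec, op_smul_eq_smul,
    C.polarVec_eq, cov_dot, C.smul, hv, map_smul, LinearMap.smul_apply, smul_eq_mul]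
  module

end Siegel

/-! ## Reflections -/

/-- The reflection of `v`. -/
noncomputable def rGL (Q : (ι → F) → F) (v : ι → F) : GL ι F := toGL (Cfsg.reflectionMatrix Q v)

section Reflection

variable (C : Space Q B) {v : ι → F} (hv : Q v ≠ 0)

include C

theorem rMat_mulVec (x : ι → F) :
    Cfsg.reflectionMatrix Q v *ᵥ x = x - ((Q v)⁻¹ * B v x) • v := by
  simp only [Cfsg.reflectionMatrix, Matrix.sub_mulVec, Matrix.one_mulVec, Matrix.smul_mulVec,
    Matrix.vecMulVec_mulVec, op_smul_eq_smul, C.polarVec_eq, cov_dot, smul_smul]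

include hv

theorem rMat_sq : Cfsg.reflectionMatrix Q v * Cfsg.reflectionMatrix Q v = 1 := by
  refine mat_ext fun x => ?_
  rw [← Matrix.mulVec_mulVec]
  simp only [rMat_mulVec C, Matrix.one_mulVec, map_sub, map_smul, C.self, smul_eq_mul]
  match_scalars
  · ring
  · field_simp; ring

theorem rGL_val : (rGL Q v).val = Cfsg.reflectionMatrix Q v := toGL_val (rMat_sq C hv)

theorem rGL_act (x : ι → F) : (rGL Q v).val *ᵥ x = x - ((Q v)⁻¹ * B v x) • v := by
  rw [rGL_val C hv, rMat_mulVec C]

theorem rGL_mem : rGL Q v ∈ isometryGroup F Q := by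
  refine mem_iso.mpr fun x => ?_
  rw [rGL_act C hv, sub_eq_add_neg, ← neg_smul, C.add, C.smul, map_smul, C.symm x v, smul_eq_mul]
  field_simp
  ring

theorem rGL_sq : rGL Q v * rGL Q v = 1 :=
  Units.ext (by rw [Units.val_mul, rGL_val C hv, rMat_sq C hv, Units.val_one])

theorem rGL_inv : (rGL Q v)⁻¹ = rGL Q v := inv_eq_of_mul_eq_one_right (rGL_sq C hv)

theorem rGL_conj {g : GL ι F} (hg : g ∈ isometryGroup F Q) :
    g * rGL Q v * g⁻¹ = rGL Q (g.val *ᵥ v) := by
  have h : Q (g.val *ᵥ v) ≠ 0 := by rwa [mem_iso.mp hg]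
  refine gl_ext fun x => ?_
  rw [mul_act, mul_act, rGL_act C hv, rGL_act C h, mem_iso.mp hg, C.B_act_left hg,
    Matrix.mulVec_sub, Matrix.mulVec_smul, act_inv]

theorem rGL_det : (rGL Q v).val.det = -1 := by
  rw [rGL_val C hv, Cfsg.reflectionMatrix, sub_eq_add_neg, ← Matrix.smul_vecMulVec,
    ← Matrix.neg_vecMulVec, Matrix.vecMulVec_eq Unit,
    Matrix.det_one_add_replicateCol_mul_replicateRow, C.polarVec_eq, dotProduct_neg,
    dotProduct_smul, cov_dot, C.self, smul_eq_mul]
  field_simp
  ring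

theorem rGL_self : (rGL Q v).val *ᵥ v = -v := by
  rw [rGL_act C hv, C.self]
  match_scalars
  field_simp
  ring

theorem rGL_fix {x : ι → F} (hx : B v x = 0) : (rGL Q v).val *ᵥ x = x := by
  rw [rGL_act C hv, hx, mul_zero, zero_smul, sub_zero]

/-- A Siegel element at a non-singular vector is a product of two reflections. -/
theorem rGL_mul_rGL {u : ι → F} (hu : Q u = 0) (huv : B u v = 0) :
    Q (v + Q v • u) = Q v ∧ rGL Q v * rGL Q (v + Q v • u) = sGL Q B u v := by
  have h : Q (v + Q v • u) = Q v := by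
    rw [C.add, C.smul, hu, map_smul, C.symm v u, huv]; simp
  refine ⟨h, gl_ext fun x => ?_⟩
  rw [mul_act, rGL_act C hv, rGL_act C (show Q (v + Q v • u) ≠ 0 by rw [h]; exact hv), sGL_act C hu huv, h]
  simp only [map_sub, map_add, map_smul, LinearMap.add_apply, LinearMap.smul_apply, smul_eq_mul,
    C.self v, C.symm v u, huv]
  match_scalars <;> field_simp <;> ring

end Reflection

/-! ## Generation -/

/-- The reflections and the root elements of singular orthogonal pairs. -/
def genSet (Q : (ι → F) → F) (B : LinearMap.BilinForm F (ι → F)) : Set (GL ι F) :=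
  {g | (∃ v, Q v ≠ 0 ∧ g = rGL Q v) ∨
    ∃ u v, Q u = 0 ∧ Q v = 0 ∧ B u v = 0 ∧ g = sGL Q B u v}

/-- The fixed space. -/
def fixSpace (g : GL ι F) : Submodule F (ι → F) :=
  LinearMap.ker (Matrix.mulVecLin g.val - LinearMap.id)

theorem mem_fixSpace {g : GL ι F} {x : ι → F} : x ∈ fixSpace g ↔ g.val *ᵥ x = x := by
  simp [fixSpace, sub_eq_zero]

theorem genSet_subset (C : Space Q B) : genSet Q B ⊆ isometryGroup F Q := by
  rintro g (⟨v, hv, rfl⟩ | ⟨u, v, hu, -, huv, rfl⟩)
  · exact rGL_mem C hv
  · exact sGL_mem C hu huv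

/-- Reflections and root elements generate the isometry group. -/
theorem iso_eq_closure (C : Space Q B) :
    isometryGroup F Q = Subgroup.closure (genSet Q B) := by
  refine le_antisymm ?_ ((Subgroup.closure_le _).mpr (genSet_subset C))
  suffices h : ∀ (m : ℕ) (g : GL ι F), g ∈ isometryGroup F Q →
      Fintype.card ι - finrank F (fixSpace g) ≤ m → g ∈ Subgroup.closure (genSet Q B) from
    fun g hg => h _ g hg le_rfl
  intro m
  induction m with
  | zero =>
    intro g _ h0
    have htop : fixSpace g = ⊤ := by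
      apply Submodule.eq_top_of_finrank_eq
      have := Submodule.finrank_le (fixSpace g)
      rw [finrank_fintype_fun_eq_card] at this ⊢
      omega
    have : g = 1 := gl_ext fun x => by
      rw [Units.val_one, Matrix.one_mulVec, mem_fixSpace.mp (htop ▸ Submodule.mem_top)]
    exact this ▸ Subgroup.one_mem _
  | succ m ih =>
    intro g hg hm
    have step : ∀ s ∈ genSet Q B, ∀ K : Submodule F (ι → F), fixSpace g < K →
        K ≤ fixSpace (s * g) → g ∈ Subgroup.closure (genSet Q B) := by
      intro s hs K h1 h2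
      have h3 := Submodule.finrank_lt_finrank_of_lt h1
      have h4 := Submodule.finrank_mono h2
      have := ih (s * g) (mul_mem (genSet_subset C hs) hg) (by omega)
      simpa using mul_mem (inv_mem (Subgroup.subset_closure hs)) this
    have hperp : ∀ z ∈ fixSpace g, ∀ x, B (g.val *ᵥ x - x) z = 0 := fun z hz x => by
      rw [map_sub, LinearMap.sub_apply]
      conv_lhs => arg 1; rw [← mem_fixSpace.mp hz, C.B_act hg]
      rw [sub_self]
    by_cases hall : fixSpace g = ⊤
    · exact ih g hg (by rw [hall, finrank_top, finrank_fintype_fun_eq_card]; omega)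
    by_cases hns : ∃ x, Q (g.val *ᵥ x - x) ≠ 0
    · obtain ⟨x, hx⟩ := hns
      have hxnot : x ∉ fixSpace g := fun h => hx (by rw [mem_fixSpace.mp h, sub_self, C.zero])
      refine step _ (Or.inl ⟨_, hx, rfl⟩) (fixSpace g ⊔ Submodule.span F {x}) ?_ ?_
      · exact lt_of_le_of_ne le_sup_left fun h =>
          hxnot (h ▸ Submodule.mem_sup_right (Submodule.mem_span_singleton_self x))
      refine sup_le (fun z hz => mem_fixSpace.mpr ?_) ((Submodule.span_singleton_le_iff_mem x _).mpr
        (mem_fixSpace.mpr ?_))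
      · rw [mul_act, mem_fixSpace.mp hz, rGL_fix C hx (hperp z hz x)]
      · rw [mul_act, rGL_act C hx]
        have h1 : B (g.val *ᵥ x - x) (g.val *ᵥ x) = Q (g.val *ᵥ x - x) := by
          rw [sub_eq_add_neg, C.add, C.neg, map_add, map_neg, LinearMap.add_apply,
            LinearMap.neg_apply, map_neg, C.self, mem_iso.mp hg, C.symm x]
          ring
        rw [h1, inv_mul_cancel₀ hx, one_smul, sub_sub_cancel]
    push Not at hns
    obtain ⟨x, hx⟩ : ∃ x, x ∉ fixSpace g := by
      by_contra h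
      push Not at h
      exact hall (eq_top_iff.mpr fun x _ => h x)
    have hNN : ∀ a b, B (g.val *ᵥ a - a) (g.val *ᵥ b - b) = 0 := fun a b => by
      have h := hns (a + b)
      rw [Matrix.mulVec_add, show g.val *ᵥ a + g.val *ᵥ b - (a + b)
        = (g.val *ᵥ a - a) + (g.val *ᵥ b - b) by abel, C.add, hns, hns] at h
      simpa using h
    have hskew : ∀ a b, B (g.val *ᵥ a - a) b = - B a (g.val *ᵥ b - b) := fun a b => by
      have h := hNN a b
      simp only [map_sub, LinearMap.sub_apply, C.B_act hg] at h ⊢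
      linear_combination -h
    have hdiag : ∀ a, B (g.val *ᵥ a - a) a = 0 := fun a => by
      have h := mem_iso.mp hg a
      conv_lhs at h => rw [← sub_add_cancel (g.val *ᵥ a) a, C.add, hns]
      simpa using h
    have hne : g.val *ᵥ x - x ≠ 0 := fun h => hx (mem_fixSpace.mpr (sub_eq_zero.mp h))
    obtain ⟨y, hy⟩ := C.exists_pair hne
    have hu := hns x
    have hv := hns y
    have huv := hNN x y
    refine step (sGL Q B (g.val *ᵥ x - x) (g.val *ᵥ y - y))⁻¹ ?_
      (fixSpace g ⊔ Submodule.span F {x}) ?_ ?_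
    · refine Or.inr ⟨g.val *ᵥ x - x, -(g.val *ᵥ y - y), hu, by rw [C.neg, hv],
        by rw [map_neg, huv, neg_zero], inv_eq_of_mul_eq_one_right ?_⟩
      rw [sGL_mul C hu huv (by rw [map_neg, huv, neg_zero]), add_neg_cancel]
      refine Units.ext ?_
      rw [sGL_val C hu (map_zero _), sMat_zero C hu, Units.val_one]
    · exact lt_of_le_of_ne le_sup_left fun h =>
        hx (h ▸ Submodule.mem_sup_right (Submodule.mem_span_singleton_self x))
    have key : ∀ z, (sGL Q B (g.val *ᵥ x - x) (g.val *ᵥ y - y)).val *ᵥ z = g.val *ᵥ z →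
        z ∈ fixSpace ((sGL Q B (g.val *ᵥ x - x) (g.val *ᵥ y - y))⁻¹ * g) := fun z hz => by
      rw [mem_fixSpace, mul_act, ← hz, inv_act]
    refine sup_le (fun z hz => key z ?_)
      ((Submodule.span_singleton_le_iff_mem x _).mpr (key x ?_))
    · rw [sGL_act C hu huv, hperp z hz, hperp z hz, mem_fixSpace.mp hz]
      simp
    · have h1 : B (g.val *ᵥ y - y) x = -1 := by rw [hskew, C.symm y, hy]
      rw [sGL_act C hu huv, hdiag, h1, hv]
      simp

theorem det_sq (C : Space Q B) {g : GL ι F} (hg : g ∈ isometryGroup F Q) :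
    g.val.det = 1 ∨ g.val.det = -1 := by
  rw [iso_eq_closure C] at hg
  refine Subgroup.closure_induction (p := fun g _ => g.val.det = 1 ∨ g.val.det = -1)
    ?_ ?_ ?_ ?_ hg
  · rintro x (⟨v, hv, rfl⟩ | ⟨u, v, hu, -, huv, rfl⟩)
    · exact Or.inr (rGL_det C hv)
    · exact Or.inl (sGL_det C hu huv)
  · exact Or.inl (by simp)
  · intro a b _ _ ha hb
    rw [Units.val_mul, Matrix.det_mul]
    rcases ha with ha | ha <;> rcases hb with hb | hb <;> simp [ha, hb]
  · intro a _ ha
    have h : a.val.det * (a⁻¹ : GL ι F).val.det = 1 := by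
      rw [← Matrix.det_mul, ← Units.val_mul, mul_inv_cancel, Units.val_one, Matrix.det_one]
    rcases ha with ha | ha <;> rw [ha] at h
    · exact Or.inl (by simpa using h)
    · exact Or.inr (by linear_combination -h)

end Cfsg.Lib.Linear.Orth
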