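import Cfsg.Agent.Lib.Linear.OrthSplit

/-!
# Stabilisers of non-degenerate subspaces in `Ω` are maximal
-/

set_option autoImplicit false

namespace Cfsg.Lib.Linear.Orth

open Module
open scoped Matrix

variable {ι : Type} [Fintype ι] [DecidableEq ι] {F : Type*} [Field F]
  {Q : (ι → F) → F} {B : LinearMap.BilinForm F (ι → F)}

theorem ndeg_of_geo (C : Space Q B) {W : Submodule F (ι → F)}
    (hW : Cfsg.Geo.IsNondegenerateOn (QuadraticMap.polar Q) W) : NDeg B W := fun x hx h => by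
  by_contra hne
  obtain ⟨y, hy, hxy⟩ := (hW x hx hne).2
  exact hxy (by rw [C.polar]; exact h y hy)

theorem geo_of_ndeg (C : Space Q B) {W : Submodule F (ι → F)} (hW : NDeg B W) :
    Cfsg.Geo.IsNondegenerateOn (QuadraticMap.polar Q) W := fun x hx hne => by
  obtain ⟨y, hy, hxy⟩ : ∃ y ∈ W, B x y ≠ 0 := by
    by_contra h
    push Not at h
    exact hne (hW x hx h)
  exact ⟨⟨y, hy, by rw [C.polar, C.symm]; exact hxy⟩, y, hy, by rw [C.polar]; exact hxy⟩

/-- A non-degenerate subspace and its perpendicular form a decomposition. -/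
theorem split_of_ndeg (C : Space Q B) {W : Submodule F (ι → F)} (hW : NDeg B W) :
    Split Q B (perpIn B ⊤ W) W := by
  let Φ : W →ₗ[F] Module.Dual F W :=
    { toFun := fun w => (B (w : ι → F)).comp W.subtype
      map_add' := fun a b => by ext; simp
      map_smul' := fun c a => by ext; simp }
  have hinj : Function.Injective Φ := by
    rw [injective_iff_map_eq_zero]
    exact fun a ha => Subtype.ext (hW a a.2 fun y hy => LinearMap.congr_fun ha ⟨y, hy⟩)
  have hsurj : Function.Surjective Φ :=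
    (LinearMap.injective_iff_surjective_of_finrank_eq_finrank
      (Subspace.dual_finrank_eq).symm).mp hinj
  have hsup : perpIn B ⊤ W ⊔ W = ⊤ := by
    refine eq_top_iff.mpr fun x _ => ?_
    obtain ⟨w, hw⟩ := hsurj ((B x).comp W.subtype)
    rw [show x = (x - (w : ι → F)) + w by abel]
    refine Submodule.add_mem_sup ⟨trivial, fun z hz => ?_⟩ w.2
    rw [map_sub, C.symm z x, C.symm z w]
    exact sub_eq_zero.mpr (LinearMap.congr_fun hw ⟨z, hz⟩).symm
  refine ⟨fun x hx h => C.nondeg' fun v => ?_, hW, fun u hu w hw => ?_, hsup⟩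
  · obtain ⟨p, hp, q, hq, rfl⟩ :=
      Submodule.mem_sup.mp (show v ∈ perpIn B ⊤ W ⊔ W by rw [hsup]; trivial)
    rw [map_add, h p hp, C.symm x q, hx.2 q hq, add_zero]
  · rw [C.symm]; exact hu.2 w hw

theorem Split.stab_iff (C : Space Q B) {U W : Submodule F (ι → F)} (S : Split Q B U W)
    {g : GL ι F} (hg : g ∈ isometryGroup F Q) (h : g ∈ Cfsg.Geo.subspaceStabilizer W) :
    g ∈ Cfsg.Geo.subspaceStabilizer U :=
  mem_stab_of_mapsTo fun u hu => (S.mem_U_iff C).mpr fun w hw => by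
    rw [C.symm, C.B_act_left hg]
    exact S.orth u hu _ (stab_mem (Subgroup.inv_mem _ h) hw)

theorem Split.stab_eq (C : Space Q B) {U W : Submodule F (ι → F)} (S : Split Q B U W) :
    Cfsg.Geo.subspaceStabilizer W ⊓ Cfsg.Geo.omegaGL Q =
      Cfsg.Geo.subspaceStabilizer U ⊓ Cfsg.Geo.omegaGL Q := by
  have hle : Cfsg.Geo.omegaGL Q ≤ isometryGroup F Q := Subgroup.map_subtype_le _
  ext g
  exact ⟨fun h => ⟨S.stab_iff C (hle h.2) h.1, h.2⟩,
    fun h => ⟨(S.swap C).stab_iff C (hle h.2) h.1, h.2⟩⟩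

section

variable [Finite F] (C : Space Q B) {U W : Submodule F (ι → F)} (S : Split Q B U W)
  (h7 : 7 ≤ finrank F U)

include C S h7

theorem splitCtx_of_stab {H : Subgroup (GL ι F)} (hHI : H ≤ isometryGroup F Q)
    (hLH : Cfsg.Geo.subspaceStabilizer W ⊓ Cfsg.Geo.omegaGL Q ≤ H) : SplitCtx Q B H U W := by
  have h5 : 5 ≤ Fintype.card ι := by have := S.finrank_add C; omega
  have hO := omegaGL_eq C h5
  refine ⟨C, S, h7, hHI, fun g hg => hLH ⟨?_, ?_⟩, fun g hg => hLH ⟨?_, ?_⟩, fun v hv hQv => ?_⟩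
  · refine mem_stab_of_mapsTo fun w hw => ?_
    rw [(root_act C hg w).2 fun z hz => S.orth z hz w hw]
    exact hw
  · exact hO ▸ root_mono le_top hg
  · exact mem_stab_of_mapsTo fun w hw => root_mem_U C hg hw
  · exact hO ▸ root_mono le_top hg
  obtain ⟨x, hx, hx0⟩ := Submodule.exists_mem_ne_zero_of_ne_bot
    (p := U) (fun h => by rw [h, finrank_bot] at h7; omega)
  obtain ⟨u, hu, -, hQu, -⟩ := exists_norm_pair C S h7 hx hx0 (Q v) 0
  have hQu0 : Q u ≠ 0 := by rwa [hQu]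
  have hW : ∀ z ∈ W, (rGL Q v * rGL Q u).val *ᵥ z = (rGL Q v).val *ᵥ z := fun z hz => by
    rw [mul_act, rGL_fix C hQu0 (S.orth u hu z hz)]
  refine ⟨rGL Q v * rGL Q u, hLH ⟨mem_stab_of_mapsTo fun z hz => ?_, ?_⟩, fun z hz => ?_, hW⟩
  · rw [hW z hz, rGL_act C hQv]
    exact W.sub_mem hz (W.smul_mem _ hv)
  · rw [hO, ← comm_eq_root C h5]
    exact rGL_mul_rGL_mem C h5 hQv hQu.symm
  · rw [mul_act, rGL_act C hQu0]
    have h : z - ((Q u)⁻¹ * B u z) • u ∈ U := U.sub_mem hz (U.smul_mem _ hu)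
    rwa [rGL_fix C hQv (by rw [C.symm]; exact S.orth _ h v hv)]

/-- The stabiliser of a non-degenerate subspace is maximal. -/
theorem split_max (hW0 : W ≠ ⊥)
    (hex : (∀ x ∈ W, Q x = 0 → x = 0) ∨ 3 ≤ finrank F W ∨ 4 ≤ Nat.card F)
    (hswap : ¬ ∃ g ∈ isometryGroup F Q, ∀ u ∈ U, g.val *ᵥ u ∈ W) :
    Cfsg.Geo.IsMaximalIn (Cfsg.Geo.omegaGL Q)
      (Cfsg.Geo.subspaceStabilizer W ⊓ Cfsg.Geo.omegaGL Q) := by
  have h5 : 5 ≤ Fintype.card ι := by have := S.finrank_add C; omega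
  have hO := omegaGL_eq C h5
  refine ⟨lt_of_le_of_ne inf_le_right fun heq => ?_, fun H hLH hHΩ => ?_⟩
  · obtain ⟨w, hw, hQw⟩ := exists_nonsing C S.ndW hW0
    obtain ⟨e, f, hH⟩ := exists_hyp' C S.ndU (by omega)
    have hew := S.orth e hH.memE w hw
    have hmem : sGL Q B e w ∈ Cfsg.Geo.subspaceStabilizer U ⊓ Cfsg.Geo.omegaGL Q := by
      rw [← S.stab_eq C, heq, hO]
      exact sGL_mem_root trivial trivial hH.singE hew
    have h1 := stab_mem hmem.1 hH.memF
    rw [sGL_act C hH.singE hew, hH.pair, one_smul, C.symm w f, S.orth f hH.memF w hw] at h1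
    have h2 : w ∈ U := by
      have := U.add_mem (U.sub_mem h1 hH.memF) (U.smul_mem (0 + Q w * 1) hH.memE)
      rwa [show f + w - (0 + Q w * 1) • e - f + (0 + Q w * 1) • e = w by abel] at this
    exact hQw (by rw [S.disj C h2 hw, C.zero])
  have hHI : H ≤ isometryGroup F Q := hHΩ.trans (hO ▸ root_le_iso C _)
  rcases (splitCtx_of_stab C S h7 hHI hLH).stab_or_swap_or_top hex with h | ⟨g, hg, h⟩ | h
  · refine Or.inl (le_antisymm (fun g hg => ?_) hLH)
    rw [S.stab_eq C]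
    exact ⟨mem_stab_of_mapsTo (h g hg), hHΩ hg⟩
  · exact absurd ⟨g, hHI hg, h⟩ hswap
  · exact Or.inr (le_antisymm hHΩ h)

end

/-- No isometry maps a part into a smaller one. -/
theorem no_swap_of_lt {U W : Submodule F (ι → F)} (hlt : finrank F W < finrank F U) :
    ¬ ∃ g ∈ isometryGroup F Q, ∀ u ∈ U, g.val *ᵥ u ∈ W := by
  rintro ⟨g, -, h⟩
  have h1 := Submodule.finrank_mono (show U.map (Matrix.mulVecLin g.val) ≤ W by
    rintro _ ⟨z, hz, rfl⟩; exact h z hz)
  rw [(Submodule.equivMapOfInjective _ (act_injective g) U).finrank_eq.symm] at h1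
  omega

/-- Maximality from either part of a decomposition, whichever is the larger. -/
theorem nondeg_max' [Finite F] (C : Space Q B) {W : Submodule F (ι → F)}
    (hn : 13 ≤ Fintype.card ι ∨ (12 ≤ Fintype.card ι ∧ 2 * finrank F W ≠ Fintype.card ι))
    (hW : NDeg B W) (hW0 : W ≠ ⊥) (hW1 : W ≠ ⊤) (hne : 2 * finrank F W = Fintype.card ι →
      ¬ ∃ g ∈ isometryGroup F Q, ∀ u ∈ perpIn B ⊤ W, g.val *ᵥ u ∈ W)
    (hex : ∀ U : Submodule F (ι → F), Nat.card F ≤ 3 → finrank F U = 2 → NDeg B U →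
      Cfsg.Geo.IsPlusTypeOn Q U →
      ¬ (U = W ∨ ((∀ u ∈ U, ∀ w ∈ W, B u w = 0) ∧
        finrank F U + finrank F W = Fintype.card ι))) :
    Cfsg.Geo.IsMaximalIn (Cfsg.Geo.omegaGL Q)
      (Cfsg.Geo.subspaceStabilizer W ⊓ Cfsg.Geo.omegaGL Q) := by
  have S := split_of_ndeg C hW
  have hadd := S.finrank_add C
  have small : ∀ X : Submodule F (ι → F), NDeg B X →
      (X = W ∨ ((∀ u ∈ X, ∀ w ∈ W, B u w = 0) ∧ finrank F X + finrank F W = Fintype.card ι)) →
      (∀ x ∈ X, Q x = 0 → x = 0) ∨ 3 ≤ finrank F X ∨ 4 ≤ Nat.card F := by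
    intro X hX hXW
    by_contra hcon
    push Not at hcon
    obtain ⟨⟨z, hz, hQz, hz0⟩, h2, h3⟩ := hcon
    have hle : Submodule.span F {z} ≤ X := (Submodule.span_singleton_le_iff_mem z X).mpr hz
    have hlt : Submodule.span F {z} < X := lt_of_le_of_ne hle fun h => hz0 (hX z hz fun y hy => by
      rw [← h] at hy
      obtain ⟨c, rfl⟩ := Submodule.mem_span_singleton.mp hy
      rw [map_smul, C.self_zero hQz, smul_zero])
    have h4 := Submodule.finrank_lt_finrank_of_lt hlt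
    rw [finrank_span_singleton hz0] at h4
    refine hex X (by omega) (by omega) hX
      ⟨Submodule.span F {z}, hle, fun w hw => ?_, ?_⟩ hXW
    · obtain ⟨c, rfl⟩ := Submodule.mem_span_singleton.mp hw
      rw [C.smul, hQz, mul_zero]
    · rw [finrank_span_singleton hz0]; omega
  by_cases hbig : finrank F W ≤ finrank F (perpIn B ⊤ W)
  · refine split_max C S (by omega) hW0 (small W hW (Or.inl rfl)) ?_
    rcases hbig.lt_or_eq with h | h
    · exact no_swap_of_lt h
    · exact hne (by omega)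
  · rw [S.stab_eq C]
    refine split_max C (S.swap C) (by omega) (fun h => ?_)
      (small _ S.ndU (Or.inr ⟨S.orth, hadd⟩)) (no_swap_of_lt (by omega))
    refine hW1 (eq_top_iff.mpr ?_)
    rw [← S.sup, h, bot_sup_eq]

/-- The same in dimension at least thirteen. -/
theorem nondeg_max [Finite F] (C : Space Q B) {W : Submodule F (ι → F)} (hn : 13 ≤ Fintype.card ι)
    (hW : NDeg B W) (hW0 : W ≠ ⊥) (hW1 : W ≠ ⊤) (hne : 2 * finrank F W = Fintype.card ι →
      ¬ ∃ g ∈ isometryGroup F Q, ∀ u ∈ perpIn B ⊤ W, g.val *ᵥ u ∈ W)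
    (hex : ∀ U : Submodule F (ι → F), Nat.card F ≤ 3 → finrank F U = 2 → NDeg B U →
      Cfsg.Geo.IsPlusTypeOn Q U →
      ¬ (U = W ∨ ((∀ u ∈ U, ∀ w ∈ W, B u w = 0) ∧
        finrank F U + finrank F W = Fintype.card ι))) :
    Cfsg.Geo.IsMaximalIn (Cfsg.Geo.omegaGL Q)
      (Cfsg.Geo.subspaceStabilizer W ⊓ Cfsg.Geo.omegaGL Q) :=
  nondeg_max' C (Or.inl hn) hW hW0 hW1 hne hex

end Cfsg.Lib.Linear.Orth
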