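import Mathlib

/-!
# Absorbing an elementary abelian factor into the spectrum of a power of a group

If every element of `L` either has order dividing the order of an element of order divisible by `r`,
or has order dividing a fixed number `N`, and a tuple of elements realises a multiple of `lcm N r`,
then adjoining a direct factor of exponent `r` adds no element orders.
-/

set_option autoImplicit false

namespace Cfsg.Lib.Linear.Absorb

/-- The order of an element of a product with a group of exponent `r`. -/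
theorem orderOf_dvd_prime {r m : ℕ} (z : Multiplicative (Fin m → ZMod r)) : orderOf z ∣ r := by
  refine orderOf_dvd_of_pow_eq_one ?_
  apply Multiplicative.toAdd.injective
  funext i
  simp

/-- Extending the order of an element by a commuting element. -/
theorem exists_dvd_of_commute {L : Type*} [Group L] {r : ℕ} (hr : r.Prime) {x h : L}
    (hc : Commute x h) (ho : orderOf h = r) : ∃ y : L, orderOf x ∣ orderOf y ∧ r ∣ orderOf y := by
  by_cases hrx : r ∣ orderOf x
  · exact ⟨x, dvd_rfl, hrx⟩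
  · refine ⟨x * h, ?_⟩
    have hco : (orderOf x).Coprime (orderOf h) := by
      rw [ho]; exact (hr.coprime_iff_not_dvd.2 hrx).symm
    rw [hc.orderOf_mul_eq_mul_orderOf_of_coprime hco, ho]
    exact ⟨dvd_mul_right _ _, dvd_mul_left _ _⟩

theorem range_eq_of_dvd {X Y : Type*} [Group X] [Group Y] (f : X →* Y) (hf : Function.Injective f)
    (h : ∀ y : Y, ∃ x : X, orderOf y ∣ orderOf x) (hX : ∀ x : X, 0 < orderOf x) :
    Set.range (orderOf : Y → ℕ) = Set.range (orderOf : X → ℕ) := by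
  refine Set.Subset.antisymm ?_ ?_
  · rintro _ ⟨y, rfl⟩
    obtain ⟨x, hx⟩ := h y
    exact ⟨x ^ (orderOf x / orderOf y), orderOf_pow_orderOf_div (hX x).ne' hx⟩
  · rintro _ ⟨x, rfl⟩
    exact ⟨f x, orderOf_injective f hf x⟩

theorem absorb_cube {L : Type*} [Group L] [Finite L] {r N m : ℕ}
    (hdich : ∀ x : L, (∃ y : L, orderOf x ∣ orderOf y ∧ r ∣ orderOf y) ∨ orderOf x ∣ N)
    (hreal : ∃ a b c : L, N.lcm r ∣ (orderOf a).lcm ((orderOf b).lcm (orderOf c))) :
    Set.range (orderOf : L × L × L × Multiplicative (Fin m → ZMod r) → ℕ) =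
      Set.range (orderOf : L × L × L → ℕ) := by
  refine range_eq_of_dvd ((MonoidHom.id L).prodMap ((MonoidHom.id L).prodMap (MonoidHom.inl L _)))
    (fun x y h => by
      simp only [MonoidHom.prodMap, MonoidHom.prod_apply, MonoidHom.coe_comp, Function.comp_apply, MonoidHom.coe_fst,
        MonoidHom.coe_snd, MonoidHom.id_apply, MonoidHom.inl_apply, Prod.mk.injEq] at h
      exact Prod.ext h.1 (Prod.ext h.2.1 h.2.2.1)) ?_ fun x => orderOf_pos x
  rintro ⟨a, b, c, z⟩
  simp only [Prod.orderOf_mk, Prod.exists]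
  have hz := orderOf_dvd_prime z
  by_cases ha : ∃ y : L, orderOf a ∣ orderOf y ∧ r ∣ orderOf y
  · obtain ⟨y, hy, hy'⟩ := ha
    exact ⟨y, b, c, Nat.lcm_dvd (hy.trans (Nat.dvd_lcm_left _ _))
      (Nat.lcm_dvd ((Nat.dvd_lcm_left _ _).trans (Nat.dvd_lcm_right _ _))
        (Nat.lcm_dvd ((Nat.dvd_lcm_right _ _).trans (Nat.dvd_lcm_right _ _))
          ((hz.trans hy').trans (Nat.dvd_lcm_left _ _))))⟩
  by_cases hb : ∃ y : L, orderOf b ∣ orderOf y ∧ r ∣ orderOf y
  · obtain ⟨y, hy, hy'⟩ := hb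
    exact ⟨a, y, c, Nat.lcm_dvd (Nat.dvd_lcm_left _ _)
      (Nat.lcm_dvd (hy.trans ((Nat.dvd_lcm_left _ _).trans (Nat.dvd_lcm_right _ _)))
        (Nat.lcm_dvd ((Nat.dvd_lcm_right _ _).trans (Nat.dvd_lcm_right _ _))
          ((hz.trans hy').trans ((Nat.dvd_lcm_left _ _).trans (Nat.dvd_lcm_right _ _)))))⟩
  by_cases hc : ∃ y : L, orderOf c ∣ orderOf y ∧ r ∣ orderOf y
  · obtain ⟨y, hy, hy'⟩ := hc
    exact ⟨a, b, y, Nat.lcm_dvd (Nat.dvd_lcm_left _ _)
      (Nat.lcm_dvd ((Nat.dvd_lcm_left _ _).trans (Nat.dvd_lcm_right _ _))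
        (Nat.lcm_dvd (hy.trans ((Nat.dvd_lcm_right _ _).trans (Nat.dvd_lcm_right _ _)))
          ((hz.trans hy').trans ((Nat.dvd_lcm_right _ _).trans (Nat.dvd_lcm_right _ _)))))⟩
  obtain ⟨a', b', c', h⟩ := hreal
  have hN := (Nat.dvd_lcm_left N r).trans h
  exact ⟨a', b', c', Nat.lcm_dvd (((hdich a).resolve_left ha).trans hN)
    (Nat.lcm_dvd (((hdich b).resolve_left hb).trans hN)
      (Nat.lcm_dvd (((hdich c).resolve_left hc).trans hN) ((hz.trans (Nat.dvd_lcm_right N r)).trans h)))⟩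

theorem absorb_square {L : Type*} [Group L] [Finite L] {r N m : ℕ}
    (hdich : ∀ x : L, (∃ y : L, orderOf x ∣ orderOf y ∧ r ∣ orderOf y) ∨ orderOf x ∣ N)
    (hreal : ∃ a b : L, N.lcm r ∣ (orderOf a).lcm (orderOf b)) :
    Set.range (orderOf : L × L × Multiplicative (Fin m → ZMod r) → ℕ) =
      Set.range (orderOf : L × L → ℕ) := by
  refine range_eq_of_dvd ((MonoidHom.id L).prodMap (MonoidHom.inl L _))
    (fun x y h => by
      simp only [MonoidHom.prodMap, MonoidHom.prod_apply, MonoidHom.coe_comp, Function.comp_apply, MonoidHom.coe_fst,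
        MonoidHom.coe_snd, MonoidHom.id_apply, MonoidHom.inl_apply, Prod.mk.injEq] at h
      exact Prod.ext h.1 h.2.1) ?_ fun x => orderOf_pos x
  rintro ⟨a, b, z⟩
  simp only [Prod.orderOf_mk, Prod.exists]
  have hz := orderOf_dvd_prime z
  by_cases ha : ∃ y : L, orderOf a ∣ orderOf y ∧ r ∣ orderOf y
  · obtain ⟨y, hy, hy'⟩ := ha
    exact ⟨y, b, Nat.lcm_dvd (hy.trans (Nat.dvd_lcm_left _ _))
      (Nat.lcm_dvd (Nat.dvd_lcm_right _ _) ((hz.trans hy').trans (Nat.dvd_lcm_left _ _)))⟩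
  by_cases hb : ∃ y : L, orderOf b ∣ orderOf y ∧ r ∣ orderOf y
  · obtain ⟨y, hy, hy'⟩ := hb
    exact ⟨a, y, Nat.lcm_dvd (Nat.dvd_lcm_left _ _)
      (Nat.lcm_dvd (hy.trans (Nat.dvd_lcm_right _ _)) ((hz.trans hy').trans (Nat.dvd_lcm_right _ _)))⟩
  obtain ⟨a', b', h⟩ := hreal
  have hN := (Nat.dvd_lcm_left N r).trans h
  exact ⟨a', b', Nat.lcm_dvd (((hdich a).resolve_left ha).trans hN)
    (Nat.lcm_dvd (((hdich b).resolve_left hb).trans hN) ((hz.trans (Nat.dvd_lcm_right N r)).trans h))⟩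

end Cfsg.Lib.Linear.Absorb
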