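import Cfsg.Agent.Lib.Linear.Absorb
import Cfsg.Agent.Lib.Linear.AbsorbPSL
import Cfsg.Agent.Lib.Spec.UnitaryThreeUpper

/-!
# Element orders of `PSU_n(q)` and a prime divisor of `q + 1` not dividing `n`

Every element either commutes with a non-central element of order `r`, or its order divides the product
of the exponent of a Sylow `p`-subgroup and the projective order of a maximal cyclic torus of type
`((-q) ^ n - 1) / (-q - 1)`.
-/

set_option autoImplicit false

namespace Cfsg.Lib.Linear.AbsorbPSU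

open Matrix Polynomial
open Cfsg.Lib.Linear.Herm (frob frob_apply frob_frob)
open Cfsg.Lib.Linear.AbsorbPSL (irreducible_minpoly det_idempotent_comb)
open scoped MatrixGroups

section Sums

/-- The alternating sum of the powers of `q`. -/
def tau (q n : ℕ) : ℤ := ∑ i ∈ Finset.range n, (-(q : ℤ)) ^ i

theorem tau_mul (q n : ℕ) : tau q n * (-(q : ℤ) - 1) = (-(q : ℤ)) ^ n - 1 := geom_sum_mul _ _

/-- The projective order of a cyclic torus. -/
def singerU (n q : ℕ) : ℕ := (tau q n).natAbs / n.gcd (q + 1)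

theorem gcd_dvd_tau (n q : ℕ) : n.gcd (q + 1) ∣ (tau q n).natAbs := by
  rw [← Int.natCast_dvd]
  have hd : ((n.gcd (q + 1) : ℕ) : ℤ) ∣ (q : ℤ) + 1 := by exact_mod_cast Nat.gcd_dvd_right n (q + 1)
  have h1 : ∀ i, ((n.gcd (q + 1) : ℕ) : ℤ) ∣ (-(q : ℤ)) ^ i - 1 := fun i =>
    (dvd_trans (by rw [show -(q : ℤ) - 1 = -((q : ℤ) + 1) by ring]; exact (dvd_neg (α := ℤ)).2 hd)
      (sub_one_dvd_pow_sub_one (-(q : ℤ)) i))
  have h2 := Finset.dvd_sum (s := Finset.range n) fun i _ => h1 i
  rw [Finset.sum_sub_distrib, Finset.sum_const, Finset.card_range, nsmul_one] at h2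
  have h3 : ((n.gcd (q + 1) : ℕ) : ℤ) ∣ (n : ℤ) := by exact_mod_cast Nat.gcd_dvd_left n (q + 1)
  simpa [tau] using dvd_add h2 h3

variable {G : Type*} [CommGroup G] {q : ℕ}

theorem zpow_neg_q_pow {y : G} (hy : y ^ (q + 1) = 1) (j : ℕ) : y ^ ((-(q : ℤ)) ^ j) = y := by
  induction j with
  | zero => simp
  | succ j ih =>
    rw [pow_succ, _root_.zpow_mul, ih]
    calc y ^ (-(q : ℤ)) = y ^ (-(q : ℤ)) * y ^ ((q + 1 : ℕ) : ℤ) := by rw [zpow_natCast, hy, mul_one]
      _ = y := by rw [← _root_.zpow_add]; push_cast; simp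

theorem tau_mul_eq (hq : 1 ≤ q) (d k : ℕ) :
    tau q (d * k) = tau q d * ∑ i ∈ Finset.range k, ((-(q : ℤ)) ^ d) ^ i := by
  refine mul_right_cancel₀ (show (-(q : ℤ) - 1) ≠ 0 by omega) ?_
  rw [tau_mul, mul_right_comm, tau_mul, mul_geom_sum, pow_mul]

theorem pow_tau_mul {u : G} (hq : 1 ≤ q) {d : ℕ} (hy : (u ^ tau q d) ^ (q + 1) = 1) (k : ℕ) :
    u ^ tau q (d * k) = (u ^ tau q d) ^ k := by
  rw [tau_mul_eq hq, _root_.zpow_mul]
  induction k with
  | zero => simp
  | succ k ih => rw [Finset.sum_range_succ, _root_.zpow_add, ih, ← pow_mul, zpow_neg_q_pow hy, pow_succ]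

theorem norm_exponent_odd (hq : 2 ≤ q) {d : ℕ} (hd : Odd d) :
    ((∑ i ∈ Finset.range d, (q ^ 2) ^ i : ℕ) : ℤ) = tau q d * ∑ i ∈ Finset.range d, (q : ℤ) ^ i := by
  push_cast
  refine mul_right_cancel₀ (show ((q : ℤ) ^ 2 - 1) ≠ 0 by
    have : (4 : ℤ) ≤ (q : ℤ) ^ 2 := by norm_cast; nlinarith
    omega) ?_
  have h1 := tau_mul q d
  have h2 := geom_sum_mul ((q : ℤ)) d
  rw [geom_sum_mul]
  rw [hd.neg_pow] at h1
  calc ((q : ℤ) ^ 2) ^ d - 1 = -((-(q : ℤ) ^ d - 1) * ((q : ℤ) ^ d - 1)) := by ring
    _ = -((tau q d * (-(q : ℤ) - 1)) * ((∑ i ∈ Finset.range d, (q : ℤ) ^ i) * ((q : ℤ) - 1))) := by rw [h1, h2]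
    _ = _ := by ring

theorem norm_exponent_two (hq : 2 ≤ q) (d : ℕ) :
    tau q (2 * d) = -(((q - 1) * ∑ i ∈ Finset.range d, (q ^ 2) ^ i : ℕ) : ℤ) := by
  refine mul_right_cancel₀ (show (-(q : ℤ) - 1) ≠ 0 by omega) ?_
  push_cast [Nat.cast_sub (show 1 ≤ q by omega)]
  rw [tau_mul, pow_mul, show (-(q : ℤ)) ^ 2 = (q : ℤ) ^ 2 by ring]
  calc ((q : ℤ) ^ 2) ^ d - 1 = (∑ i ∈ Finset.range d, ((q : ℤ) ^ 2) ^ i) * ((q : ℤ) ^ 2 - 1) :=
        (geom_sum_mul _ _).symm
    _ = _ := by ring

theorem pow_norm_odd {u : G} (hq : 2 ≤ q) {d : ℕ} (hd : Odd d) (hy : (u ^ tau q d) ^ (q + 1) = 1) :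
    u ^ (∑ i ∈ Finset.range d, (q ^ 2) ^ i) = u ^ tau q d := by
  rw [← zpow_natCast, norm_exponent_odd hq hd, _root_.zpow_mul]
  set y := u ^ tau q d
  have hy' : y ^ ((q : ℤ) + 1) = 1 := by rw [← Nat.cast_one, ← Nat.cast_add, zpow_natCast, hy]
  obtain ⟨c, hc⟩ : ((q : ℤ) + 1) ∣ (∑ i ∈ Finset.range d, (q : ℤ) ^ i) - 1 := by
    have h := Finset.dvd_sum (s := Finset.range d) fun i _ =>
      (show ((q : ℤ) + 1) ∣ (q : ℤ) ^ i - (-1) ^ i by
        simpa using sub_dvd_pow_sub_pow (q : ℤ) (-1) i)
    rwa [Finset.sum_sub_distrib, neg_one_geom_sum, if_neg (Nat.not_even_iff_odd.2 hd)] at h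
  rw [show (∑ i ∈ Finset.range d, (q : ℤ) ^ i) = ((q : ℤ) + 1) * c + 1 by omega, _root_.zpow_add, _root_.zpow_mul, hy', _root_.one_zpow,
    one_mul, zpow_one]

end Sums

section Adjoint

variable {ι : Type*} [Fintype ι] [DecidableEq ι] {F : Type*} [Field F] (σ : F →+* F)

/-- The adjoint with respect to the standard hermitian form. -/
def ad (A : Matrix ι ι F) : Matrix ι ι F := (A.map σ)ᵀ

theorem ad_mul (A B : Matrix ι ι F) : ad σ (A * B) = ad σ B * ad σ A := by
  simp [ad, Matrix.map_mul, Matrix.transpose_mul]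

omit [Fintype ι] [DecidableEq ι] in
theorem ad_add (A B : Matrix ι ι F) : ad σ (A + B) = ad σ A + ad σ B := by ext; simp [ad]

omit [Fintype ι] [DecidableEq ι] in
theorem ad_sub (A B : Matrix ι ι F) : ad σ (A - B) = ad σ A - ad σ B := by ext; simp [ad]

omit [Fintype ι] [DecidableEq ι] in
theorem ad_smul (c : F) (A : Matrix ι ι F) : ad σ (c • A) = σ c • ad σ A := by ext; simp [ad]

omit [Fintype ι] in
theorem ad_one : ad σ (1 : Matrix ι ι F) = 1 := by simp [ad, Matrix.map_one]

omit [Fintype ι] [DecidableEq ι] in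
theorem ad_zero : ad σ (0 : Matrix ι ι F) = 0 := by ext; simp [ad]

omit [Fintype ι] [DecidableEq ι] in
theorem ad_ad (h : ∀ x, σ (σ x) = x) (A : Matrix ι ι F) : ad σ (ad σ A) = A := by ext; simp [ad, h]

theorem ad_pow (A : Matrix ι ι F) (k : ℕ) : ad σ (A ^ k) = ad σ A ^ k := by
  induction k with
  | zero => simp [ad_one]
  | succ k ih => rw [pow_succ, ad_mul, ih, pow_succ']

theorem ad_aeval (w : Matrix ι ι F) (f : F[X]) : ad σ (aeval w f) = aeval (ad σ w) (f.map σ) := by
  induction f using Polynomial.induction_on' with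
  | add f g hf hg => rw [map_add, Polynomial.map_add, map_add, ad_add, hf, hg]
  | monomial k c =>
    rw [Polynomial.map_monomial, aeval_monomial, aeval_monomial, ← Algebra.smul_def, ← Algebra.smul_def,
      ad_smul, ad_pow]

theorem det_ad (A : Matrix ι ι F) : (ad σ A).det = σ A.det := by
  rw [ad, Matrix.det_transpose, RingHom.map_det]
  rfl

omit [DecidableEq ι] in
theorem rank_map_le [Finite F] (A : Matrix ι ι F) : A.rank ≤ (A.map σ).rank := by
  let f : LinearMap.range A.mulVecLin → LinearMap.range (A.map σ).mulVecLin := fun v => ⟨σ ∘ v.1, by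
    obtain ⟨x, hx⟩ := v.2
    refine ⟨σ ∘ x, ?_⟩
    rw [← hx]
    exact funext fun i => (RingHom.map_mulVec σ A x i).symm⟩
  have hf : Function.Injective f := fun v w h => Subtype.ext (funext fun i =>
    σ.injective (congrFun (congrArg Subtype.val h) i))
  have h := Nat.card_le_card_of_injective f hf
  rw [Module.natCard_eq_pow_finrank (K := F) (V := LinearMap.range A.mulVecLin),
    Module.natCard_eq_pow_finrank (K := F) (V := LinearMap.range (A.map σ).mulVecLin)] at h
  exact (Nat.pow_le_pow_iff_right Finite.one_lt_card).1 h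

theorem rank_ad [Finite F] (h : ∀ x, σ (σ x) = x) (A : Matrix ι ι F) : (ad σ A).rank = A.rank := by
  rw [ad, Matrix.rank_transpose]
  refine le_antisymm ((rank_map_le σ (A.map σ)).trans (le_of_eq ?_)) (rank_map_le σ A)
  congr 1
  ext i j
  simp [h]

end Adjoint

section Centre

variable {n : ℕ} {F : Type*} [Field F] [Fintype F] {q : ℕ} (hF : Fintype.card F = q ^ 2)

local notation "Mat" => Matrix (Fin n) (Fin n) F

/-- The underlying matrix. -/
abbrev mat (g : Cfsg.SU n F q) : Matrix (Fin n) (Fin n) F :=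
  ((g : Matrix.SpecialLinearGroup (Fin n) F) : Matrix (Fin n) (Fin n) F)

/-- The class in `PSU`. -/
abbrev cls (g : Cfsg.SU n F q) : Cfsg.PSU n F q := QuotientGroup.mk g

include hF in
theorem mem_SU_iff_ad (A : Matrix.SpecialLinearGroup (Fin n) F) :
    A ∈ Cfsg.SU n F q ↔ ad (frob hF) (A : Mat) * (A : Mat) = 1 := by
  rw [Herm.mem_SU]
  set M : Mat := (A : Mat)
  have h : ∀ u v, Cfsg.hermForm n F q (M *ᵥ u) (M *ᵥ v) = u ⬝ᵥ ((Mᵀ * M.map (frob hF)) *ᵥ (frob hF ∘ v)) := by
    intro u v
    have e : (fun i => (M *ᵥ v) i ^ q) = M.map (frob hF) *ᵥ (frob hF ∘ v) := funext fun i => by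
      rw [← frob_apply hF, RingHom.map_mulVec]
    show (M *ᵥ u) ⬝ᵥ (fun i => (M *ᵥ v) i ^ q) = _
    rw [e, ← Matrix.mulVec_mulVec, Matrix.dotProduct_mulVec u, Matrix.vecMul_transpose]
  have h0 : ∀ u v, Cfsg.hermForm n F q u v = u ⬝ᵥ (frob hF ∘ v) := fun u v => by
    simp [Cfsg.hermForm, dotProduct, frob_apply]
  have e2 : ad (frob hF) M * M = (Mᵀ * M.map (frob hF))ᵀ := by
    rw [Matrix.transpose_mul, Matrix.transpose_transpose, ad]
  rw [e2, Matrix.transpose_eq_one]
  constructor
  · intro hh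
    ext i j
    have := hh (Pi.single i 1) (Pi.single j 1)
    rw [h, h0, show frob hF ∘ Pi.single j (1 : F) = Pi.single j 1 by
      funext k; rcases eq_or_ne k j with rfl | hk <;> simp [*]] at this
    simpa [Matrix.one_apply, Pi.single_apply, eq_comm] using this
  · intro hh u v
    rw [h, h0, hh, Matrix.one_mulVec]

include hF in
theorem ad_mul_self (g : Cfsg.SU n F q) : ad (frob hF) (mat g) * mat g = 1 := (mem_SU_iff_ad hF _).1 g.2

include hF in
theorem mul_ad_self (g : Cfsg.SU n F q) : mat g * ad (frob hF) (mat g) = 1 :=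
  mul_eq_one_comm.1 (ad_mul_self hF g)

include hF in
theorem cls_pow_eq_one_iff (hn : 2 ≤ n) (g : Cfsg.SU n F q) (N : ℕ) :
    cls g ^ N = 1 ↔ ∃ c : F, mat g ^ N = Matrix.scalar (Fin n) c := by
  rw [cls, ← QuotientGroup.mk_pow, QuotientGroup.eq_one_iff, Subgroup.mem_center_iff]
  have e : mat (g ^ N) = mat g ^ N := by simp [mat]
  constructor
  · intro h
    obtain ⟨c, hc⟩ := Herm.exists_scalar hF hn (mat (g ^ N)) fun A hA => by
      have := congrArg mat (h ⟨A, hA⟩)
      simpa [mat] using this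
    exact ⟨c, e ▸ hc⟩
  · rintro ⟨c, hc⟩ k
    refine Subtype.ext (Subtype.ext ?_)
    show mat k * mat (g ^ N) = mat (g ^ N) * mat k
    rw [e, hc]
    exact ((Matrix.scalar_commute c (Commute.all c) (mat k)).eq).symm

include hF in
/-- A non-central element of order `r` built from a self-adjoint idempotent. -/
theorem exists_orderOf_eq {r : ℕ} (hn : 2 ≤ n) (hr : r.Prime) {ζ : F} (hζ : IsPrimitiveRoot ζ r)
    (hrq : r ∣ q + 1) (hrn : ¬ r ∣ n) {E : Mat} (hE : IsIdempotentElem E) (had : ad (frob hF) E = E)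
    (hE0 : E ≠ 0) (hE1 : E ≠ 1) :
    ∃ h : Cfsg.SU n F q, orderOf (cls h) = r ∧
      ∀ x : Cfsg.SU n F q, Commute (mat x) E → Commute (cls x) (cls h) := by
  obtain ⟨m, hm, hdet⟩ := det_idempotent_comb hE
  set a := ζ ^ (n - m) with ha
  set b := ζ ^ ((r - 1) * m) with hb
  have hζr : ζ ^ r = 1 := hζ.pow_eq_one
  have hnorm : ∀ j, frob hF (ζ ^ j) * ζ ^ j = 1 := fun j => by
    obtain ⟨t, ht⟩ := hrq
    rw [frob_apply, ← pow_succ, ← pow_mul, mul_comm, pow_mul, ht, pow_mul ζ r, hζr, one_pow, one_pow]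
  have hd : (a • E + b • (1 - E)).det = 1 := by
    rw [hdet, ha, hb, ← pow_mul, ← pow_mul, ← pow_add]
    have : (n - m) * m + (r - 1) * m * (n - m) = r * (m * (n - m)) := by
      obtain ⟨r, rfl⟩ : ∃ s, r = s + 1 := ⟨r - 1, by have := hr.two_le; omega⟩
      simp only [Nat.add_sub_cancel]; ring
    rw [this, pow_mul, hζr, one_pow]
  have hne : a ≠ b := by
    intro hab
    have h1 : ζ ^ n = 1 := by
      have := congrArg (fun t => t * ζ ^ m) hab
      simp only [ha, hb, ← pow_add] at this
      rw [Nat.sub_add_cancel hm] at this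
      rw [this, show (r - 1) * m + m = r * m by
        obtain ⟨r, rfl⟩ : ∃ s, r = s + 1 := ⟨r - 1, by have := hr.two_le; omega⟩
        simp only [Nat.add_sub_cancel]; ring, pow_mul, hζr, one_pow]
    exact hrn ((hζ.pow_eq_one_iff_dvd n).1 h1)
  have hEc : E * (1 - E) = 0 := by rw [mul_sub, mul_one, hE.eq, sub_self]
  have hcE : (1 - E) * E = 0 := by rw [sub_mul, one_mul, hE.eq, sub_self]
  have hmul : ∀ s t s' t' : F, (s • E + t • (1 - E)) * (s' • E + t' • (1 - E)) = (s * s') • E + (t * t') • (1 - E) := by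
    intro s t s' t'
    simp only [add_mul, mul_add, smul_mul_smul, hE.eq, hE.one_sub.eq, hEc, hcE, smul_zero, add_zero, zero_add]
  have hpow : ∀ N, 1 ≤ N → (a • E + b • (1 - E)) ^ N = a ^ N • E + b ^ N • (1 - E) := by
    intro N hN
    induction N, hN using Nat.le_induction with
    | base => simp
    | succ N _ ih => rw [pow_succ, ih, hmul, pow_succ, pow_succ]
  let H : Matrix.SpecialLinearGroup (Fin n) F := ⟨a • E + b • (1 - E), hd⟩
  have hmem : H ∈ Cfsg.SU n F q := by
    rw [mem_SU_iff_ad hF]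
    show ad (frob hF) (a • E + b • (1 - E)) * (a • E + b • (1 - E)) = 1
    rw [ad_add, ad_smul, ad_smul, ad_sub, ad_one, had, hmul, ha, hb, hnorm, hnorm, one_smul, one_smul,
      add_sub_cancel]
  refine ⟨⟨H, hmem⟩, ?_, fun x hx => ?_⟩
  · have : Fact r.Prime := ⟨hr⟩
    refine orderOf_eq_prime ?_ ?_
    · rw [cls_pow_eq_one_iff hF hn]
      refine ⟨1, ?_⟩
      rw [map_one]
      show (a • E + b • (1 - E)) ^ r = 1
      rw [hpow r hr.one_le, ha, hb, ← pow_mul, ← pow_mul, mul_comm (n - m), mul_comm ((r - 1) * m), pow_mul,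
        pow_mul, hζr, one_pow, one_pow, one_smul, one_smul, add_sub_cancel]
    · intro h1
      obtain ⟨c, hc⟩ := (cls_pow_eq_one_iff hF hn _ 1).1 (by rw [pow_one]; exact h1)
      rw [pow_one] at hc
      change a • E + b • (1 - E) = Matrix.scalar (Fin n) c at hc
      have e : (a - b) • E = (c - b) • (1 : Mat) := by
        rw [sub_smul, sub_smul, Matrix.smul_one_eq_diagonal c, ← Matrix.scalar_apply, ← hc, smul_sub]
        abel
      have hEs : E = ((a - b)⁻¹ * (c - b)) • (1 : Mat) := by
        rw [← smul_smul, ← e, smul_smul, inv_mul_cancel₀ (sub_ne_zero.2 hne), one_smul]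
      set t := (a - b)⁻¹ * (c - b)
      let i₀ : Fin n := ⟨0, by omega⟩
      have ht : t * t = t := by
        have h2 := congrArg (fun M : Mat => M i₀ i₀) hE.eq
        rw [hEs] at h2
        simpa using h2
      rcases mul_eq_zero.1 (show t * (t - 1) = 0 by rw [mul_sub, mul_one, ht, sub_self]) with ht0 | ht1
      · exact hE0 (by rw [hEs, ht0, zero_smul])
      · exact hE1 (by rw [hEs, sub_eq_zero.1 ht1, one_smul])
  · refine (Commute.map (?_ : Commute x _) (QuotientGroup.mk' (Subgroup.center (Cfsg.SU n F q))))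
    exact Subtype.ext (Subtype.ext ((hx.smul_right a).add_right (((Commute.one_right _).sub_right hx).smul_right b)))

end Centre

section Dichotomy

variable {n : ℕ} {F : Type*} [Field F] [Fintype F] {q : ℕ}

local notation "Mat" => Matrix (Fin n) (Fin n) F

/-- For an endomorphism generating a field: a power of it is in the polynomial algebra injectively, and
the determinant is a power of the norm. -/
theorem field_data {V : Type*} [AddCommGroup V] [Module F V] [Module.Finite F V] [Nontrivial V]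
    (w : Module.End F V) [Fact (Irreducible (minpoly F w))] :
    ∃ φ : AdjoinRoot (minpoly F w) →ₐ[F] Module.End F V, φ (AdjoinRoot.root (minpoly F w)) = w ∧
      Function.Injective φ ∧ ∃ k : ℕ, Module.finrank F (AdjoinRoot (minpoly F w)) * k = Module.finrank F V ∧
        LinearMap.det w = Algebra.norm F (AdjoinRoot.root (minpoly F w)) ^ k := by
  let K := AdjoinRoot (minpoly F w)
  have : Module.Finite F K :=
    (AdjoinRoot.powerBasis (Fact.out : Irreducible (minpoly F w)).ne_zero).finite
  let φ : K →ₐ[F] Module.End F V :=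
    Ideal.Quotient.liftₐ (Ideal.span {minpoly F w}) (aeval w) fun f hf => by
      obtain ⟨t, rfl⟩ := Ideal.mem_span_singleton'.1 hf
      rw [map_mul, minpoly.aeval, mul_zero]
  let : Module K V := Module.compHom _ φ.toRingHom
  have : IsScalarTower F K V := ⟨fun c a v => by
    show φ (c • a) v = c • φ a v
    rw [map_smul]; rfl⟩
  have : Module.Finite K V := Module.Finite.of_restrictScalars_finite F K _
  have hρ : φ (AdjoinRoot.root (minpoly F w)) = w := by
    show aeval w (X : F[X]) = w
    exact aeval_X w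
  refine ⟨φ, hρ, φ.toRingHom.injective, Module.finrank K V, Module.finrank_mul_finrank F K V, ?_⟩
  have e1 : w = ((AdjoinRoot.root (minpoly F w)) • (LinearMap.id : V →ₗ[K] V)).restrictScalars F :=
    LinearMap.ext fun v => by
      show w v = φ (AdjoinRoot.root (minpoly F w)) v
      rw [hρ]
  conv_lhs => rw [e1]
  rw [LinearMap.det_restrictScalars, LinearMap.det_smul, LinearMap.det_id, mul_one, map_pow]

theorem natAbs_pow_eq_one {G : Type*} [Group G] {u : G} {t : ℤ} (h : u ^ t = 1) : u ^ t.natAbs = 1 := by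
  rcases Int.natAbs_eq t with e | e
  · rwa [e, zpow_natCast] at h
  · rwa [e, _root_.zpow_neg, inv_eq_one, zpow_natCast] at h

set_option maxHeartbeats 1600000 in
/-- The dichotomy for elements of `PSU_n(q)`. -/
theorem dichotomy (p : ℕ) [Fact p.Prime] [CharP F p] (hF : Fintype.card F = q ^ 2) (hn : 2 ≤ n) {r : ℕ}
    (hr : r.Prime) {ζ : F} (hζ : IsPrimitiveRoot ζ r) (hrq : r ∣ q + 1) (hrn : ¬ r ∣ n) {e : ℕ}
    (he : n ≤ p ^ e) (x : Cfsg.PSU n F q) :
    (∃ y : Cfsg.PSU n F q, orderOf x ∣ orderOf y ∧ r ∣ orderOf y) ∨ orderOf x ∣ p ^ e * singerU n q := by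
  classical
  obtain ⟨g, rfl⟩ := QuotientGroup.mk_surjective x
  obtain ⟨⟨a, -, hqa⟩, hq2⟩ := Spec.UThree.char_facts p hF
  have : NeZero n := ⟨by omega⟩
  set σ := frob hF
  have hσσ : ∀ x, σ (σ x) = x := frob_frob hF
  set M : Mat := mat g
  set w := M ^ (p ^ e) with hw
  by_cases hE : ∀ f : F[X], IsIdempotentElem (aeval w f) → ad σ (aeval w f) = aeval w f →
      aeval w f = 0 ∨ aeval w f = 1
  swap
  · left
    push Not at hE
    obtain ⟨f, hf, had, hf0, hf1⟩ := hE
    obtain ⟨h, ho, hc⟩ := exists_orderOf_eq hF hn hr hζ hrq hrn hf had hf0 hf1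
    refine Absorb.exists_dvd_of_commute hr (hc g ?_) ho
    show Commute M (aeval w f)
    rw [show w = aeval M ((X : F[X]) ^ (p ^ e)) by simp [hw], ← aeval_comp]
    have hh := (Commute.all (X : F[X]) (f.comp (X ^ (p ^ e)))).map (aeval M)
    rwa [aeval_X] at hh
  right
  obtain ⟨T, hT, hwT⟩ := AbsorbPSL.exists_pow_card_fix p he (g : Matrix.SpecialLinearGroup (Fin n) F)
  change w ^ (Fintype.card F ^ T) = w at hwT
  have hcommM : Commute M (ad σ M) := (mul_ad_self hF g).trans (ad_mul_self hF g).symm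
  have hww : w * ad σ w = 1 ∧ ad σ w * w = 1 := by
    rw [hw, ad_pow, ← hcommM.mul_pow, ← hcommM.symm.mul_pow, mul_ad_self hF g, ad_mul_self hF g, one_pow]
    exact ⟨rfl, rfl⟩
  have hdetw : w.det = 1 := by rw [hw, Matrix.det_pow, (g : Matrix.SpecialLinearGroup (Fin n) F).2, one_pow]
  -- reduce to a scalar power of the semisimple part
  suffices h : ∃ c : F, w ^ singerU n q = Matrix.scalar (Fin n) c by
    obtain ⟨c, hc⟩ := h
    exact orderOf_dvd_of_pow_eq_one ((cls_pow_eq_one_iff hF hn g _).2 ⟨c, by rw [pow_mul]; exact hc⟩)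
  obtain ⟨g₀, hg₀⟩ : ∃ g₀ : F[X], aeval w g₀ = ad σ w := by
    have h1 : 1 < Fintype.card F ^ T := Nat.one_lt_pow (by omega) Fintype.one_lt_card
    refine ⟨X ^ (Fintype.card F ^ T - 2), ?_⟩
    rw [map_pow, aeval_X]
    calc w ^ (Fintype.card F ^ T - 2) = w ^ (Fintype.card F ^ T - 2) * (w * w) * (ad σ w * ad σ w) := by
          rw [mul_assoc, mul_assoc, ← mul_assoc w (ad σ w), hww.1, one_mul, hww.1, mul_one]
      _ = ad σ w := by
          rw [← sq w, ← pow_add, Nat.sub_add_cancel h1, hwT, ← mul_assoc, hww.1, one_mul]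
  have hadf : ∀ f : F[X], ad σ (aeval w f) = aeval w ((f.map σ).comp g₀) := fun f => by
    rw [ad_aeval, aeval_comp, hg₀]
  have hgcd : (tau q n).natAbs = singerU n q * n.gcd (q + 1) := (Nat.div_mul_cancel (gcd_dvd_tau n q)).symm
  by_cases hfld : ∀ f : F[X], IsIdempotentElem (aeval w f) → aeval w f = 0 ∨ aeval w f = 1
  · -- the algebra generated by `w` is a field
    have hirr : Irreducible (minpoly F w) := irreducible_minpoly w hT hwT hfld
    set T' : Mat ≃ₐ[F] Module.End F (Fin n → F) := Matrix.toLinAlgEquiv'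
    have hminp : minpoly F (T' w) = minpoly F w := minpoly.algEquiv_eq T' w
    have : Fact (Irreducible (minpoly F (T' w))) := ⟨hminp ▸ hirr⟩
    obtain ⟨φ', hφ'ρ, hφ'inj, k, hdk, hdet⟩ := field_data (T' w)
    let K := AdjoinRoot (minpoly F (T' w))
    let φ : K →ₐ[F] Mat := T'.symm.toAlgHom.comp φ'
    have hφinj : Function.Injective φ := T'.symm.injective.comp hφ'inj
    set ρ : K := AdjoinRoot.root (minpoly F (T' w))
    have hφρ : φ ρ = w := by show T'.symm (φ' ρ) = w; rw [hφ'ρ, AlgEquiv.symm_apply_apply]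
    have : Module.Finite F K := (AdjoinRoot.powerBasis (Fact.out : Irreducible _).ne_zero).finite
    have : Finite K := Module.finite_of_finite F
    let : Fintype K := Fintype.ofFinite K
    have : CharP K p := charP_of_injective_algebraMap (algebraMap F K).injective p
    rw [Module.finrank_pi, Fintype.card_fin] at hdk
    set d := Module.finrank F K with hd
    have hd0 : 0 < d := Module.finrank_pos
    have hρ0 : ρ ≠ 0 := fun h => by
      have h' := hww.1
      rw [← hφρ, h, map_zero, zero_mul] at h'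
      exact zero_ne_one h'
    have hφinv : φ ρ⁻¹ = ad σ w := by
      calc φ ρ⁻¹ = φ ρ⁻¹ * φ ρ * ad σ w := by rw [hφρ, mul_assoc, hww.1, mul_one]
        _ = ad σ w := by rw [← map_mul, inv_mul_cancel₀ hρ0, map_one, one_mul]
    have hroot : ((minpoly F (T' w)).map σ).eval₂ (algebraMap F K) ρ⁻¹ = 0 := by
      refine hφinj ?_
      rw [← aeval_def, ← aeval_algHom_apply, hφinv, ← ad_aeval, map_zero]
      rw [show aeval w (minpoly F (T' w)) = 0 by rw [hminp]; exact minpoly.aeval F w, ad_zero]
    let τ : K →+* K := AdjoinRoot.lift ((algebraMap F K).comp σ) ρ⁻¹ (by rwa [← Polynomial.eval₂_map])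
    have hτρ : τ ρ = ρ⁻¹ := AdjoinRoot.lift_root _
    let φq : K →+* K := iterateFrobenius K p a
    have hφq : ∀ x, φq x = x ^ q := fun x => by
      show iterateFrobenius K p a x = _
      rw [iterateFrobenius_def, hqa]
    let ψ : K →ₐ[F] K :=
      { τ.comp φq with
        commutes' := fun c => by
          show τ (φq (algebraMap F K c)) = algebraMap F K c
          rw [hφq, ← map_pow, show τ (algebraMap F K (c ^ q)) = ((algebraMap F K).comp σ) (c ^ q) from
            AdjoinRoot.lift_of _, RingHom.comp_apply, ← frob_apply hF, hσσ] }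
    obtain ⟨⟨i, hi⟩, hfrob⟩ := (FiniteField.bijective_frobeniusAlgHom_pow F K).2 ψ
    simp only at hfrob
    have hiρ : ρ ^ ((q ^ 2) ^ i) = (ρ⁻¹) ^ q := by
      have h : ψ ρ = ρ ^ ((q ^ 2) ^ i) := by
        rw [← hfrob, AlgHom.coe_pow, FiniteField.coe_frobeniusAlgHom, pow_iterate, hF]
      rw [← h]
      show τ (φq ρ) = _
      rw [hφq, map_pow, hτρ]
    obtain ⟨j, hjodd, hj⟩ : ∃ j, Odd j ∧ ρ ^ (q ^ j) = ρ⁻¹ := by
      rcases i with _ | i
      · rw [pow_zero, pow_one, inv_pow] at hiρ
        refine ⟨1, odd_one, ?_⟩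
        rw [pow_one]
        exact inv_eq_iff_eq_inv.1 hiρ.symm
      · refine ⟨2 * i + 1, odd_two_mul_add_one i, φq.injective ?_⟩
        rw [hφq, hφq, ← pow_mul, ← pow_succ, ← hiρ, ← pow_mul, show 2 * i + 1 + 1 = 2 * (i + 1) by ring]
    have hQd : ∀ t, ρ ^ ((q ^ 2) ^ (d * t)) = ρ := fun t => by
      induction t with
      | zero => simp
      | succ t ih =>
        have hcard : Fintype.card K = (q ^ 2) ^ d := by rw [Module.card_eq_pow_finrank (K := F), hF]
        rw [Nat.mul_succ, pow_add, pow_mul, ih, ← hcard, FiniteField.pow_card]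
    have hdj : d ∣ j := by
      rw [hd, ← FiniteField.orderOf_frobeniusAlgHom F K]
      refine orderOf_dvd_of_pow_eq_one (AdjoinRoot.algHom_ext ?_)
      rw [AlgHom.coe_pow, FiniteField.coe_frobeniusAlgHom, pow_iterate, hF, AlgHom.one_apply]
      show ρ ^ ((q ^ 2) ^ j) = ρ
      rw [← pow_mul q, two_mul, pow_add, pow_mul, hj, inv_pow, hj, inv_inv]
    obtain ⟨s, rfl⟩ := hdj
    have hdodd : Odd d := (Nat.odd_mul.1 hjodd).1
    have hρd : ρ ^ (q ^ d + 1) = 1 := by
      obtain ⟨t, rfl⟩ : ∃ t, s = 2 * t + 1 := (Nat.odd_mul.1 hjodd).2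
      rw [show d * (2 * t + 1) = 2 * (d * t) + d by ring, pow_add, pow_mul q 2, pow_mul, hQd] at hj
      rw [pow_succ, hj, inv_mul_cancel₀ hρ0]
    set u : Kˣ := Units.mk0 ρ hρ0 with hu
    have hy : (u ^ tau q d) ^ (q + 1) = 1 := by
      have h1 : u ^ (q ^ d + 1) = 1 := Units.ext (by rw [Units.val_pow_eq_pow_val]; exact hρd)
      rw [← zpow_natCast, ← _root_.zpow_mul]
      have h2 : tau q d * ((q + 1 : ℕ) : ℤ) = ((q ^ d + 1 : ℕ) : ℤ) := by
        have h := tau_mul q d
        rw [hdodd.neg_pow] at h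
        push_cast
        linear_combination -h
      rw [h2, zpow_natCast, h1]
    have hyk : u ^ tau q n = 1 := by
      have hh := pow_tau_mul (by omega) hy k
      rw [hdk] at hh
      rw [hh, ← pow_norm_odd hq2 hdodd hy]
      refine Units.ext ?_
      rw [Units.val_pow_eq_pow_val, Units.val_pow_eq_pow_val, Units.val_one, hu, Units.val_mk0]
      have hN : algebraMap F K (Algebra.norm F ρ) = ρ ^ ∑ i ∈ Finset.range d, (q ^ 2) ^ i := by
        rw [FiniteField.algebraMap_norm_eq_pow, Module.natCard_eq_pow_finrank (K := F), Nat.card_eq_fintype_card,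
          hF, Nat.geomSum_eq (by nlinarith : 2 ≤ q ^ 2)]
      rw [← hN, ← map_pow, ← hdet, show LinearMap.det (T' w) = w.det from LinearMap.det_toLin' w, hdetw, map_one]
    have hzg : (ρ ^ singerU n q) ^ n.gcd (q + 1) = 1 := by
      rw [← pow_mul, ← hgcd]
      simpa [hu] using congrArg Units.val (natAbs_pow_eq_one hyk)
    obtain ⟨c, hc⟩ : ∃ c : F, algebraMap F K c = ρ ^ singerU n q := by
      refine Spec.UThree.mem_range_algebraMap ?_
      obtain ⟨t, ht⟩ := Nat.gcd_dvd_right n (q + 1)
      obtain ⟨q', hq'⟩ : ∃ q', q = q' + 1 := ⟨q - 1, by omega⟩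
      rw [hF, show q ^ 2 = (q + 1) * q' + 1 by rw [hq']; ring, pow_succ, pow_mul]
      rw [ht, pow_mul, hzg, one_pow, one_pow, one_mul]
    refine ⟨c, ?_⟩
    rw [← hφρ, ← map_pow, ← hc, AlgHom.commutes]
    rfl
  · -- two idempotents exchanged by the adjoint
    push Not at hfld
    obtain ⟨f₀, hid, hne0, hne1⟩ := hfld
    set E := aeval w f₀ with hEdef
    have hcommE : ∀ f : F[X], Commute (aeval w f) E := fun f => (Commute.all f f₀).map (aeval w)
    have hidst : ∀ {A : Mat}, IsIdempotentElem A → IsIdempotentElem (ad σ A) := fun {A} hA => by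
      rw [IsIdempotentElem, ← ad_mul, hA.eq]
    have hcompl : ∀ f : F[X], IsIdempotentElem (aeval w f) → aeval w f ≠ 0 → aeval w f ≠ 1 →
        ad σ (aeval w f) = 1 - aeval w f := by
      intro f hi h0 h1
      have hc : Commute (aeval w f) (ad σ (aeval w f)) := by rw [hadf]; exact (Commute.all f _).map (aeval w)
      have hP : IsIdempotentElem (aeval w (f * (f.map σ).comp g₀)) := by
        rw [map_mul, ← hadf]; exact hi.mul_of_commute hc (hidst hi)
      have hPs : ad σ (aeval w (f * (f.map σ).comp g₀)) = aeval w (f * (f.map σ).comp g₀) := by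
        rw [map_mul, ← hadf, ad_mul, ad_ad σ hσσ]
      have hmul : aeval w f * ad σ (aeval w f) = 0 := by
        rcases hE _ hP hPs with h | h <;> rw [map_mul, ← hadf] at h
        · exact h
        · refine absurd ?_ h1
          calc aeval w f = aeval w f * (aeval w f * ad σ (aeval w f)) := by rw [h, mul_one]
            _ = 1 := by rw [← mul_assoc, hi.eq, h]
      have hmul' : ad σ (aeval w f) * aeval w f = 0 := hc.eq ▸ hmul
      have hS : IsIdempotentElem (aeval w (f + (f.map σ).comp g₀)) := by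
        rw [map_add, ← hadf, IsIdempotentElem, mul_add, add_mul, add_mul, hi.eq, (hidst hi).eq, hmul, hmul',
          add_zero, zero_add]
      rcases hE _ hS (by rw [map_add, ← hadf, ad_add, ad_ad σ hσσ, add_comm]) with h | h <;>
        rw [map_add, ← hadf] at h
      · refine absurd ?_ h0
        calc aeval w f = aeval w f * (aeval w f + ad σ (aeval w f)) := by rw [mul_add, hi.eq, hmul, add_zero]
          _ = 0 := by rw [h, mul_zero]
      · exact eq_sub_of_add_eq' h
    have hsE := hcompl f₀ hid hne0 hne1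
    have hmin : ∀ f : F[X], IsIdempotentElem (aeval w f * E) → aeval w f * E = 0 ∨ aeval w f * E = E := by
      intro f hf
      by_contra hne
      push Not at hne
      have hE' : aeval w (f * f₀) = aeval w f * E := by rw [map_mul]
      have hsub : aeval w f * E * E = aeval w f * E := by rw [mul_assoc, hid.eq]
      have h1 : aeval w f * E ≠ 1 := fun h => hne1 (by rw [h, one_mul] at hsub; exact hsub)
      have hs := hcompl (f * f₀) (hE' ▸ hf) (hE' ▸ hne.1) (hE' ▸ h1)
      rw [hE'] at hs
      have h2 := congrArg (ad σ) hsub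
      have h3 : E * (aeval w f * E) = aeval w f * E := by
        rw [← mul_assoc, ← (hcommE f).eq, mul_assoc, hid.eq]
      rw [ad_mul, hs, hsE, sub_mul, one_mul, mul_sub, mul_one, h3, sub_sub_sub_cancel_right] at h2
      exact hne.2 (sub_right_inj.1 h2).symm
    set T' : Mat ≃ₐ[F] Module.End F (Fin n → F) := Matrix.toLinAlgEquiv'
    set P : Submodule F (Fin n → F) := LinearMap.range (T' E)
    have hmemP : ∀ v ∈ P, T' E v = v := by
      rintro _ ⟨v, rfl⟩
      rw [← Module.End.mul_apply, ← map_mul, hid.eq]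
    have hinv : ∀ A : Mat, Commute A E → ∀ v ∈ P, T' A v ∈ P := by
      intro A hA v hv
      refine ⟨T' A v, ?_⟩
      rw [← Module.End.mul_apply, ← map_mul, ← hA.eq, map_mul, Module.End.mul_apply, hmemP v hv]
    let S := Subalgebra.centralizer F ({E} : Set Mat)
    have hS : ∀ {A : Mat}, A ∈ S ↔ Commute A E := fun {A} => by
      simp only [S, Subalgebra.mem_centralizer_iff, Set.mem_singleton_iff, forall_eq]
      exact ⟨fun h => h.symm, fun h => h.symm⟩
    let res : S →ₐ[F] Module.End F P :=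
      { toFun := fun A => (T' A.1).restrict (hinv A.1 (hS.1 A.2))
        map_one' := LinearMap.ext fun v => Subtype.ext (by simp)
        map_mul' := fun A B => LinearMap.ext fun v => Subtype.ext (by
          simp only [Subalgebra.coe_mul, map_mul]; rfl)
        map_zero' := LinearMap.ext fun v => Subtype.ext (by simp)
        map_add' := fun A B => LinearMap.ext fun v => Subtype.ext (by
          simp only [Subalgebra.coe_add, map_add]; rfl)
        commutes' := fun c => LinearMap.ext fun v => Subtype.ext (by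
          simp only [Subalgebra.coe_algebraMap, AlgEquiv.commutes]; rfl) }
    have hres : ∀ A B : S, res A = res B → A.1 * E = B.1 * E := by
      intro A B h
      refine T'.injective (LinearMap.ext fun v => ?_)
      rw [map_mul, map_mul, Module.End.mul_apply, Module.End.mul_apply]
      exact congrArg Subtype.val (LinearMap.congr_fun h ⟨T' E v, v, rfl⟩)
    have hres' : ∀ A B : S, A.1 * E = B.1 * E → res A = res B := by
      intro A B h
      refine LinearMap.ext fun v => Subtype.ext ?_
      show T' A.1 v = T' B.1 v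
      rw [← hmemP v v.2, ← Module.End.mul_apply, ← Module.End.mul_apply, ← map_mul, ← map_mul, h]
    have hwE : Commute w E := by simpa using hcommE X
    let wS : S := ⟨w, hS.2 hwE⟩
    have haev : ∀ f : F[X], aeval (res wS) f = res ⟨aeval w f, hS.2 (hcommE f)⟩ := fun f => by
      rw [aeval_algHom_apply]
      exact congrArg res (Subtype.ext (aeval_algHom_apply S.val wS f).symm)
    have hsum : E.rank + (1 - E).rank = n := by
      have hk : LinearMap.range (T' (1 - E)) = LinearMap.ker (T' E) := by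
        ext v
        constructor
        · rintro ⟨y, rfl⟩
          rw [LinearMap.mem_ker, ← Module.End.mul_apply, ← map_mul, mul_sub, mul_one, hid.eq, sub_self, map_zero]
          rfl
        · intro hv
          refine ⟨v, ?_⟩
          rw [map_sub, map_one, LinearMap.sub_apply, LinearMap.mem_ker.1 hv, sub_zero]
          rfl
      show Module.finrank F (LinearMap.range (T' E)) + Module.finrank F (LinearMap.range (T' (1 - E))) = _
      rw [hk, LinearMap.finrank_range_add_finrank_ker, Module.finrank_pi, Fintype.card_fin]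
    have hfinP : 2 * Module.finrank F P = n := by
      have e1 : Module.finrank F P = E.rank := rfl
      have hrk : (1 - E).rank = E.rank := by rw [← hsE, rank_ad σ hσσ]
      rw [e1]
      omega
    have : Nontrivial P := Module.nontrivial_of_finrank_pos (R := F) (by omega)
    have hirr : Irreducible (minpoly F (res wS)) := by
      refine irreducible_minpoly (res wS) hT ?_ fun f hf => ?_
      · rw [← map_pow]
        exact congrArg res (Subtype.ext hwT)
      · rw [haev] at hf ⊢
        have hid' : IsIdempotentElem (aeval w f * E) := by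
          have h := hres _ _ ((map_mul res _ _).trans hf)
          simp only [Subalgebra.coe_mul] at h
          rw [IsIdempotentElem, mul_assoc, ← mul_assoc E, ← (hcommE f).eq, mul_assoc, hid.eq, ← mul_assoc, h]
        rcases hmin f hid' with h | h
        · left
          rw [← map_zero res]
          exact hres' _ _ (by simpa using h)
        · right
          rw [← map_one res]
          exact hres' _ _ (by simpa using h)
    have : Fact (Irreducible (minpoly F (res wS))) := ⟨hirr⟩
    obtain ⟨φ, hφρ, hφinj, k, hdk, hdet⟩ := field_data (res wS)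
    let K := AdjoinRoot (minpoly F (res wS))
    set ρ : K := AdjoinRoot.root (minpoly F (res wS))
    have : Module.Finite F K := (AdjoinRoot.powerBasis hirr.ne_zero).finite
    have : Finite K := Module.finite_of_finite F
    let : Fintype K := Fintype.ofFinite K
    set d := Module.finrank F K
    -- the determinant of `w` on the range
    set D := LinearMap.det (res wS)
    have hD : (w * E + (1 - E)).det = D := by
      rw [← LinearMap.det_toLin']
      have hf : IsIdempotentElem (T' E) := hid.map T'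
      have hp := LinearMap.IsIdempotentElem.isProj_range _ hf
      let χ := P.prodEquivOfIsCompl (LinearMap.ker (T' E)) hp.isCompl
      have hconj : T' (w * E + (1 - E)) = χ.conj ((res wS).prodMap LinearMap.id) := by
        refine LinearMap.ext fun v => ?_
        obtain ⟨⟨y, z⟩, rfl⟩ := χ.surjective v
        rw [LinearEquiv.conj_apply_apply, LinearEquiv.symm_apply_apply]
        have hz : T' E (z : Fin n → F) = 0 := LinearMap.mem_ker.1 z.2
        have hy : T' E (y : Fin n → F) = y := hmemP _ y.2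
        simp only [χ, Submodule.coe_prodEquivOfIsCompl', LinearMap.prodMap_apply, LinearMap.id_apply, map_add,
          map_sub, map_one, map_mul, LinearMap.add_apply, Module.End.mul_apply, LinearMap.sub_apply,
          Module.End.one_apply, hy, hz, map_zero, sub_zero, sub_self, add_zero, zero_add]
        rfl
      show LinearMap.det (T' (w * E + (1 - E))) = D
      rw [hconj, LinearEquiv.conj_apply, LinearMap.comp_assoc, LinearMap.det_conj, LinearMap.det_prodMap,
        LinearMap.det_id, mul_one]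
    have hadcomp : ad σ (1 - E) = E := by rw [ad_sub, ad_one, hsE, sub_sub_cancel]
    have hwEcomm : Commute w (1 - E) := (Commute.one_right w).sub_right hwE
    have hDD : σ D = D := by
      have h1 : (w * E + (1 - E)) * (E + w * (1 - E)) = w := by
        rw [add_mul, mul_add, mul_add, mul_assoc w E E, hid.eq, sub_mul, one_mul, hid.eq, sub_self,
          mul_assoc w E, ← mul_assoc E w, ← hwE.eq, mul_assoc w E, mul_sub, mul_one, hid.eq, sub_self,
          mul_zero, mul_zero, ← mul_assoc, ← hwEcomm.eq, mul_assoc, hid.one_sub.eq]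
        rw [add_zero, zero_add, mul_sub, mul_one, add_sub_cancel]
      have h2 : ad σ (w * E + (1 - E)) * (E + w * (1 - E)) = 1 := by
        have hcw : ad σ w * E = E * ad σ w := by rw [← hg₀]; exact (hcommE g₀).eq
        have z1 : (1 - E) * ad σ w * E = 0 := by
          rw [mul_assoc, hcw, ← mul_assoc, sub_mul, one_mul, hid.eq, sub_self, zero_mul]
        have z2 : E * (w * (1 - E)) = 0 := by
          rw [← mul_assoc, ← hwE.eq, mul_assoc, mul_sub, mul_one, hid.eq, sub_self, mul_zero]
        have z3 : (1 - E) * ad σ w * (w * (1 - E)) = 1 - E := by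
          rw [mul_assoc, ← mul_assoc (ad σ w), hww.2, one_mul, hid.one_sub.eq]
        have hA : ad σ (w * E + (1 - E)) = (1 - E) * ad σ w + E := by rw [ad_add, ad_mul, hadcomp, hsE]
        rw [hA, add_mul, mul_add, mul_add, z1, z2, z3, hid.eq, zero_add, add_zero, sub_add_cancel]
      have e1 := congrArg Matrix.det h1
      rw [Matrix.det_mul, hD, hdetw] at e1
      have e2 := congrArg Matrix.det h2
      rw [Matrix.det_mul, det_ad, hD, Matrix.det_one] at e2
      exact mul_right_cancel₀ (right_ne_zero_of_mul_eq_one e1) (e2.trans e1.symm)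
    have hρ0 : ρ ≠ 0 := fun h => by
      have h1 : res wS = 0 := by rw [← hφρ, ← map_zero φ]; exact congrArg φ h
      have h2 := hres wS 0 (h1.trans (map_zero res).symm)
      simp only [wS, ZeroMemClass.coe_zero, zero_mul] at h2
      refine hne0 ?_
      calc E = ad σ w * (w * E) := by rw [← mul_assoc, hww.2, one_mul]
        _ = 0 := by rw [h2, mul_zero]
    have hN : algebraMap F K (Algebra.norm F ρ) = ρ ^ ∑ i ∈ Finset.range d, (q ^ 2) ^ i := by
      rw [FiniteField.algebraMap_norm_eq_pow, Module.natCard_eq_pow_finrank (K := F), Nat.card_eq_fintype_card,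
        hF, Nat.geomSum_eq (by nlinarith : 2 ≤ q ^ 2)]
    set N := Algebra.norm F ρ
    have hN0 : N ≠ 0 := fun h => hρ0 (Algebra.norm_eq_zero_iff.1 h)
    have hNk : N ^ ((q - 1) * k) = 1 := by
      have h1 : (N ^ k) ^ q = N ^ k := by rw [← hdet, ← frob_apply hF]; exact hDD
      rw [mul_comm, pow_mul]
      refine mul_right_cancel₀ (pow_ne_zero k hN0) ?_
      rw [← pow_succ, Nat.sub_add_cancel (by omega), h1, one_mul]
    set u : Kˣ := Units.mk0 ρ hρ0 with hu
    have hy : (u ^ tau q (2 * d)) ^ (q + 1) = 1 := by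
      rw [norm_exponent_two hq2, _root_.zpow_neg, zpow_natCast, inv_pow, inv_eq_one, ← pow_mul]
      refine Units.ext ?_
      rw [Units.val_pow_eq_pow_val, hu, Units.val_mk0, Units.val_one, mul_comm (q - 1), mul_assoc, pow_mul, ← hN,
        ← map_pow]
      have : (q - 1) * (q + 1) = Fintype.card F - 1 := by
        rw [hF, mul_comm, show q ^ 2 - 1 = q ^ 2 - 1 ^ 2 by simp, Nat.sq_sub_sq]
      rw [this, FiniteField.pow_card_sub_one_eq_one N hN0, map_one]
    have hyk : u ^ tau q n = 1 := by
      have hn2 : n = 2 * d * k := by rw [mul_assoc, hdk, hfinP]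
      have hh := pow_tau_mul (by omega) hy k
      rw [← hn2] at hh
      rw [hh, norm_exponent_two hq2, _root_.zpow_neg, zpow_natCast, inv_pow, inv_eq_one,
        ← pow_mul]
      refine Units.ext ?_
      rw [Units.val_pow_eq_pow_val, hu, Units.val_mk0, Units.val_one, mul_comm (q - 1), mul_assoc, pow_mul, ← hN,
        ← map_pow, hNk, map_one]
    have hzg : (ρ ^ singerU n q) ^ n.gcd (q + 1) = 1 := by
      rw [← pow_mul, ← hgcd]
      simpa [hu] using congrArg Units.val (natAbs_pow_eq_one hyk)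
    obtain ⟨t, ht⟩ := Nat.gcd_dvd_right n (q + 1)
    obtain ⟨c, hc⟩ : ∃ c : F, algebraMap F K c = ρ ^ singerU n q := by
      refine Spec.UThree.mem_range_algebraMap ?_
      obtain ⟨q', hq'⟩ : ∃ q', q = q' + 1 := ⟨q - 1, by omega⟩
      rw [hF, show q ^ 2 = (q + 1) * q' + 1 by rw [hq']; ring, pow_succ, pow_mul]
      rw [ht, pow_mul, hzg, one_pow, one_pow, one_mul]
    have hcq : c ^ (q + 1) = 1 := by
      refine (algebraMap F K).injective ?_
      rw [map_pow, hc, map_one, ht, pow_mul, hzg, one_pow]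
    have hzE : w ^ singerU n q * E = c • E := by
      have h : res (wS ^ singerU n q) = res (algebraMap F S c) := by
        rw [map_pow, ← hφρ, ← map_pow, ← hc, AlgHom.commutes, AlgHom.commutes]
      have h' := hres _ _ h
      simp only [SubmonoidClass.coe_pow, Subalgebra.coe_algebraMap, ← Algebra.smul_def] at h'
      exact h'
    refine ⟨c, ?_⟩
    set z := w ^ singerU n q with hz
    have hzc : Commute z (1 - E) := hwEcomm.pow_left _
    have h1 := congrArg (ad σ) hzE
    rw [ad_mul, ad_smul, hsE] at h1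
    have hzz : ad σ z * z = 1 := by
      rw [hz, ad_pow, ← (show Commute (ad σ w) w from hww.2.trans hww.1.symm).mul_pow, hww.2, one_pow]
    have h2 : z * (1 - E) = c • (1 - E) := by
      have h3 : (1 - E) = σ c • (z * (1 - E)) := by
        calc (1 - E) = (1 - E) * ad σ z * z := by rw [mul_assoc, hzz, mul_one]
          _ = σ c • (z * (1 - E)) := by rw [h1, smul_mul_assoc, hzc.eq]
      conv_rhs => rw [h3, smul_smul, frob_apply, ← pow_succ', hcq, one_smul]
    calc z = z * E + z * (1 - E) := by rw [← mul_add, add_sub_cancel, mul_one]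
      _ = c • E + c • (1 - E) := by rw [hzE, h2]
      _ = Matrix.scalar (Fin n) c := by
        rw [← smul_add, add_sub_cancel, Matrix.smul_one_eq_diagonal, Matrix.scalar_apply]

end Dichotomy

end Cfsg.Lib.Linear.AbsorbPSU
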