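import Cfsg.Agent.Lib.Linear.Absorb
import Cfsg.Agent.Lib.Linear.AbsorbPSL
import Cfsg.Agent.Lib.Linear.SymplecticGroup

/-!
# Element orders of `PSp_2n(q)`, `q` odd

Every element either commutes with a non-central involution, or is unipotent up to sign, or its
semisimple part lies in a torus of order `q ^ i ± 1` with `i * k = n` and its unipotent part has
exponent the least power of `p` at least `k`.
-/

set_option autoImplicit false
set_option linter.unusedSectionVars false

namespace Cfsg.Lib.Linear.AbsorbPSp

open Matrix Polynomial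
open Cfsg.Lib.Linear.AbsorbPSL (irreducible_minpoly)

variable {n : ℕ} {F : Type*} [Field F]

local notation "ι" => (Fin n ⊕ Fin n)
local notation "Mat" => Matrix (Fin n ⊕ Fin n) (Fin n ⊕ Fin n) F

section Adjoint

/-- The adjoint with respect to the standard alternating form. -/
def st (A : Mat) : Mat := -J (Fin n) F * Aᵀ * J (Fin n) F

theorem neg_J_mul_J : -J (Fin n) F * J (Fin n) F = 1 := by
  rw [Matrix.neg_mul, J_squared, neg_neg]

theorem J_mul_neg_J : J (Fin n) F * -J (Fin n) F = 1 := by
  rw [Matrix.mul_neg, J_squared, neg_neg]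

theorem st_mul (A B : Mat) : st (A * B) = st B * st A := by
  simp only [st, transpose_mul, Matrix.mul_assoc]
  rw [← Matrix.mul_assoc (J (Fin n) F) (-J (Fin n) F), J_mul_neg_J, Matrix.one_mul]

theorem st_add (A B : Mat) : st (A + B) = st A + st B := by
  simp only [st, transpose_add, Matrix.mul_add, Matrix.add_mul]

theorem st_smul (c : F) (A : Mat) : st (c • A) = c • st A := by
  simp [st]

theorem st_one : st (1 : Mat) = 1 := by
  simp [st, J_squared]

theorem st_sub (A B : Mat) : st (A - B) = st A - st B := by
  simp only [st, transpose_sub, Matrix.mul_sub, Matrix.sub_mul]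

theorem st_zero : st (0 : Mat) = 0 := by simp [st]

theorem st_st (A : Mat) : st (st A) = A := by
  simp only [st, transpose_mul, transpose_neg, J_transpose, transpose_transpose, neg_neg, Matrix.neg_mul,
    Matrix.mul_neg]
  simp only [← Matrix.mul_assoc, J_squared, Matrix.neg_mul, Matrix.one_mul]
  rw [Matrix.mul_assoc, J_squared]
  simp

theorem st_pow (A : Mat) (k : ℕ) : st (A ^ k) = st A ^ k := by
  induction k with
  | zero => simp [st_one]
  | succ k ih => rw [pow_succ, st_mul, ih, pow_succ']

theorem st_aeval (w : Mat) (f : F[X]) : st (aeval w f) = aeval (st w) f := by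
  induction f using Polynomial.induction_on' with
  | add f g hf hg => rw [map_add, map_add, st_add, hf, hg]
  | monomial k c =>
    rw [aeval_monomial, aeval_monomial, ← Algebra.smul_def, ← Algebra.smul_def, st_smul, st_pow]

theorem mem_iff_st {A : Mat} : A ∈ symplecticGroup (Fin n) F ↔ st A * A = 1 := by
  rw [SymplecticGroup.mem_iff', st]
  constructor
  · intro h
    rw [Matrix.mul_assoc, Matrix.mul_assoc, ← Matrix.mul_assoc Aᵀ, h, neg_J_mul_J]
  · intro h
    have := congrArg (fun M => J (Fin n) F * M) h
    simp only [Matrix.mul_one] at this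
    simpa [← Matrix.mul_assoc, J_squared] using this

theorem st_mul_self (g : symplecticGroup (Fin n) F) : st (g : Mat) * (g : Mat) = 1 := mem_iff_st.1 g.2

theorem self_mul_st (g : symplecticGroup (Fin n) F) : (g : Mat) * st (g : Mat) = 1 :=
  mul_eq_one_comm.1 (st_mul_self g)

theorem rank_st (A : Mat) : (st A).rank = A.rank := by
  rw [st, rank_mul_eq_left_of_isUnit_det _ _ (isUnit_det_J _ _),
    rank_mul_eq_right_of_isUnit_det _ _ (by rw [det_neg]; exact (isUnit_one.neg.pow _).mul (isUnit_det_J _ _)),
    rank_transpose]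

end Adjoint

section Centre

/-- The class in `PSp`. -/
abbrev cls (g : symplecticGroup (Fin n) F) : Cfsg.PSp n F := QuotientGroup.mk g

theorem mem_center_iff (g : symplecticGroup (Fin n) F) :
    g ∈ Subgroup.center (symplecticGroup (Fin n) F) ↔ (g : Mat) = 1 ∨ (g : Mat) = -1 := by
  have h : g ∈ Subgroup.center (symplecticGroup (Fin n) F) ↔
      Symp.spEquiv g ∈ Subgroup.center (Symp.iso (Symp.spB n F)) :=
    by
      simp only [Subgroup.mem_center_iff]
      refine ⟨fun h k => ?_, fun h k => Symp.spEquiv.injective ?_⟩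
      · rw [← Symp.spEquiv.apply_symm_apply k, ← map_mul, h, map_mul]
      · rw [map_mul, map_mul, h]
  rw [h, Symp.mem_center_iff_smul (Symp.spB_nondegenerate n F) (Symp.spB_isAlt n F)]
  simp only [Symp.spEquiv_apply]
  constructor
  · rintro ⟨a, ha, hg⟩
    have e : (g : Mat) = a • 1 := Matrix.ext_of_mulVec_single fun i => by rw [hg, Matrix.smul_mulVec, Matrix.one_mulVec]
    rcases mul_self_eq_one_iff.1 ha with rfl | rfl
    · exact Or.inl (by rw [e, one_smul])
    · exact Or.inr (by rw [e, neg_smul, one_smul])
  · rintro (e | e)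
    · exact ⟨1, one_mul 1, fun v => by rw [e, Matrix.one_mulVec, one_smul]⟩
    · exact ⟨-1, by ring, fun v => by rw [e, Matrix.neg_mulVec, Matrix.one_mulVec, neg_smul, one_smul]⟩

theorem cls_pow_eq_one_iff (g : symplecticGroup (Fin n) F) (N : ℕ) :
    cls g ^ N = 1 ↔ (g : Mat) ^ N = 1 ∨ (g : Mat) ^ N = -1 := by
  rw [cls, ← QuotientGroup.mk_pow, QuotientGroup.eq_one_iff, mem_center_iff, SubmonoidClass.coe_pow]

/-- The involution attached to a self-adjoint idempotent. -/
theorem exists_involution (h2 : (2 : F) ≠ 0) {E : Mat} (hE : IsIdempotentElem E) (hst : st E = E)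
    (hE0 : E ≠ 0) (hE1 : E ≠ 1) :
    ∃ h : symplecticGroup (Fin n) F, orderOf (cls h) = 2 ∧
      ∀ x : symplecticGroup (Fin n) F, Commute (x : Mat) E → Commute (cls x) (cls h) := by
  set H : Mat := (2 : F) • E - 1 with hH
  have hHH : H * H = 1 := by
    rw [hH, sub_mul, mul_sub, smul_mul_smul, hE.eq, mul_one, one_mul]
    module
  have hmem : H ∈ symplecticGroup (Fin n) F := by
    rw [mem_iff_st, hH, st_sub, st_smul, hst, st_one]
    exact hHH
  refine ⟨⟨H, hmem⟩, ?_, fun x hx => ?_⟩
  · refine orderOf_eq_prime ?_ ?_
    · rw [cls_pow_eq_one_iff]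
      exact Or.inl (by rw [pow_two]; exact hHH)
    · intro h1
      rcases (cls_pow_eq_one_iff _ 1).1 (by rw [pow_one]; exact h1) with h | h <;> rw [pow_one] at h <;>
        change (2 : F) • E - 1 = _ at h
      · refine hE1 (smul_right_injective Mat h2 ?_)
        show (2 : F) • E = (2 : F) • 1
        rw [eq_add_of_sub_eq h, two_smul]
      · refine hE0 (smul_right_injective Mat h2 ?_)
        show (2 : F) • E = (2 : F) • 0
        rw [eq_add_of_sub_eq h, smul_zero, neg_add_cancel]
  · refine (Commute.map (?_ : Commute x _) (QuotientGroup.mk' (Subgroup.center (symplecticGroup (Fin n) F))))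
    exact Subtype.ext ((hx.smul_right _).sub_right (Commute.one_right _))

end Centre

section Dichotomy

variable [Fintype F] (p : ℕ) [Fact p.Prime] [CharP F p]

omit [Fintype F] in
theorem two_ne (hp : p ≠ 2) : (2 : F) ≠ 0 := by
  intro h
  have h' : ((2 : ℕ) : F) = 0 := by exact_mod_cast h
  exact hp ((Nat.prime_dvd_prime_iff_eq Fact.out Nat.prime_two).1 ((CharP.cast_eq_zero_iff F p 2).1 h'))

omit [Fintype F] in
theorem eq_one_or_neg_one (hp : p ≠ 2) {w z : Mat} {f : F[X]} (hzf : z = aeval w f)
    (hE : ∀ f : F[X], IsIdempotentElem (aeval w f) → st (aeval w f) = aeval w f → aeval w f = 0 ∨ aeval w f = 1)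
    (hz : z * z = 1) (hst : st z = z) : z = 1 ∨ z = -1 := by
  have h2 := two_ne (F := F) p hp
  set t : F := (2 : F)⁻¹
  have he : aeval w (C t * (1 + f)) = t • (1 + z) := by
    rw [map_mul, map_add, map_one, aeval_C, ← Algebra.smul_def, hzf]
  have hi : IsIdempotentElem (t • (1 + z)) := by
    rw [IsIdempotentElem, smul_mul_smul, mul_add, add_mul, add_mul, hz, one_mul, one_mul, mul_one]
    have : t * t * 2 = t := by rw [mul_assoc, inv_mul_cancel₀ h2, mul_one]
    nth_rewrite 3 [← this]
    module
  have h1 : z = (2 : F) • (t • (1 + z)) - 1 := by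
    rw [smul_smul, mul_inv_cancel₀ h2, one_smul, add_sub_cancel_left]
  rcases hE _ (by rw [he]; exact hi) (by rw [he, st_smul, st_add, st_one, hst]) with h | h <;> rw [he] at h
  · exact Or.inr (by rw [h1, h, smul_zero, zero_sub])
  · exact Or.inl (by rw [h1, h, two_smul, add_sub_cancel_right])

/-- An element semisimple with irreducible minimal polynomial acting on a space: the degree divides
the dimension, the element has order dividing `q ^ d - 1`, and a commuting element of `p`-power
order is killed by the least power of `p` at least the dimension over the field. -/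
theorem field_action {V : Type*} [AddCommGroup V] [Module F V] [Module.Finite F V] [Nontrivial V]
    (w : Module.End F V) (hirr : Irreducible (minpoly F w)) :
    ∃ d k : ℕ, 1 ≤ d ∧ d = (minpoly F w).natDegree ∧ d * k = Module.finrank F V ∧
      w ^ (Fintype.card F ^ d) = w ∧
      ∀ u : Module.End F V, Commute u w → ∀ a, u ^ (p ^ a) = 1 → u ^ (p ^ Nat.clog p k) = 1 := by
  have : Fact (Irreducible (minpoly F w)) := ⟨hirr⟩
  let K := AdjoinRoot (minpoly F w)
  have hP : minpoly F w ≠ 0 := hirr.ne_zero
  have : Module.Finite F K := (AdjoinRoot.powerBasis hP).finite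
  have : Finite K := Module.finite_of_finite F
  let : Fintype K := Fintype.ofFinite K
  let φ : K →ₐ[F] Module.End F V :=
    Ideal.Quotient.liftₐ (Ideal.span {minpoly F w}) (aeval w) fun f hf => by
      obtain ⟨t, rfl⟩ := Ideal.mem_span_singleton'.1 hf
      rw [map_mul, minpoly.aeval, mul_zero]
  let : Module K V := Module.compHom _ φ.toRingHom
  have : IsScalarTower F K V := ⟨fun c a v => by
    show φ (c • a) v = c • φ a v
    rw [map_smul]; rfl⟩
  have : Module.Finite K V := Module.Finite.of_restrictScalars_finite F K _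
  have hd : Module.finrank F K = (minpoly F w).natDegree :=
    (AdjoinRoot.powerBasis hP).finrank.trans (AdjoinRoot.powerBasis_dim hP)
  refine ⟨Module.finrank F K, Module.finrank K V, Module.finrank_pos, hd,
    Module.finrank_mul_finrank F K V, ?_, fun u hu a hua => ?_⟩
  · have hw : φ (AdjoinRoot.root (minpoly F w)) = w := by
      show aeval w (X : F[X]) = w
      exact aeval_X w
    have h := congrArg φ (FiniteField.pow_card (AdjoinRoot.root (minpoly F w)))
    rw [map_pow, hw, Module.card_eq_pow_finrank (K := F)] at h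
    exact h
  · have hlin : ∀ (c : K) (v : V), u (c • v) = c • u v := by
      intro c v
      obtain ⟨f, rfl⟩ := AdjoinRoot.mk_surjective c
      show (u * aeval w f) v = (aeval w f * u) v
      refine congrArg (fun T : Module.End F V => T v) ?_
      induction f using Polynomial.induction_on' with
      | add f g hf hg => rw [map_add, mul_add, add_mul, hf, hg]
      | monomial k c =>
        rw [aeval_monomial, ← Algebra.smul_def, mul_smul_comm, smul_mul_assoc, (hu.pow_right k).eq]
    let U : Module.End K V := { toFun := u, map_add' := map_add u, map_smul' := hlin }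
    have hUpow : ∀ j, ∀ v, (U ^ j) v = (u ^ j) v := fun j => by
      induction j with
      | zero => intro v; rfl
      | succ j ih => intro v; rw [pow_succ, pow_succ, Module.End.mul_apply, Module.End.mul_apply, ih]; rfl
    have : CharP K p := charP_of_injective_algebraMap (algebraMap F K).injective p
    have : CharP (Module.End K V) p := charP_of_injective_algebraMap
      (FaithfulSMul.algebraMap_injective K (Module.End K V)) p
    have hU : U ^ (p ^ a) = 1 := LinearMap.ext fun v => by rw [hUpow, hua]; rfl
    have hnil : IsNilpotent (U - 1) := ⟨p ^ a, by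
      rw [sub_pow_char_pow_of_commute (p := p) (n := a) (h := Commute.one_right U), hU, one_pow, sub_self]⟩
    have h0 : (U - 1) ^ Module.finrank K V = 0 := by
      have h := LinearMap.aeval_self_charpoly (U - 1)
      rwa [hnil.charpoly_eq_X_pow_finrank, map_pow, aeval_X] at h
    have h1 := sub_pow_char_pow_of_commute (p := p) (n := Nat.clog p (Module.finrank K V)) (h := Commute.one_right U)
    rw [pow_eq_zero_of_le (Nat.le_pow_clog (Fact.out : p.Prime).one_lt _) h0, one_pow, eq_comm, sub_eq_zero] at h1
    exact LinearMap.ext fun v => by rw [← hUpow, h1]; rfl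

/-- The three cases. -/
theorem dichotomy (hp : p ≠ 2) (hn : 1 ≤ n) {e : ℕ} (he : 2 * n ≤ p ^ e) (x : Cfsg.PSp n F) :
    (∃ y : Cfsg.PSp n F, orderOf x ∣ orderOf y ∧ 2 ∣ orderOf y) ∨ orderOf x ∣ p ^ e ∨
      ∃ i k : ℕ, i * k = n ∧ (orderOf x ∣ (Fintype.card F ^ i + 1) / 2 * p ^ Nat.clog p k ∨
        orderOf x ∣ (Fintype.card F ^ i - 1) / 2 * p ^ Nat.clog p k) := by
  obtain ⟨g, rfl⟩ := QuotientGroup.mk_surjective x
  have hpp : p.Prime := Fact.out
  set q := Fintype.card F
  have hqodd : Odd q := by
    obtain ⟨k, hk⟩ := FiniteField.card F p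
    show Odd (Fintype.card F)
    rw [hk.2]
    exact (hpp.odd_of_ne_two hp).pow
  have : NeZero n := ⟨by omega⟩
  have hcard : Fintype.card ι = 2 * n := by simp [two_mul]
  obtain ⟨a, b, hb, hab⟩ := Nat.exists_eq_pow_mul_and_not_dvd (orderOf_pos g).ne' p hpp.ne_one
  have hgo : (g : Mat) ^ (p ^ a * b) = 1 := by
    rw [← hab, ← SubmonoidClass.coe_pow, pow_orderOf_eq_one]; rfl
  set M : Mat := (g : Mat)
  set w := M ^ (p ^ e) with hw
  set u := M ^ b with hu
  have hua : u ^ (p ^ a) = 1 := by rw [hu, ← pow_mul, mul_comm, hgo]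
  have hue : u ^ (p ^ e) = 1 := by
    have hnil : IsNilpotent (u - 1) :=
      ⟨p ^ a, by rw [sub_pow_char_pow_of_commute (p := p) (n := a) (h := Commute.one_right u), hua, one_pow, sub_self]⟩
    have h0 : (u - 1) ^ (2 * n) = 0 := by
      have := Matrix.aeval_self_charpoly (u - 1)
      rwa [Matrix.isNilpotent_charpoly_sub_pow_of_isNilpotent hnil |> fun h =>
        (isNilpotent_iff_eq_zero.1 h |> sub_eq_zero.1), map_pow, aeval_X, hcard] at this
    have h1 := sub_pow_char_pow_of_commute (p := p) (n := e) (h := Commute.one_right u)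
    rw [pow_eq_zero_of_le he h0, one_pow, eq_comm, sub_eq_zero] at h1
    exact h1
  have hwb : w ^ b = 1 := by rw [hw, ← pow_mul, mul_comm, pow_mul, ← hu, hue]
  have hco : q.Coprime b := by
    obtain ⟨k, hk⟩ := FiniteField.card F p
    show (Fintype.card F).Coprime b
    rw [hk.2]; exact Nat.Coprime.pow_left _ (hpp.coprime_iff_not_dvd.2 hb)
  have hb0 : 0 < b := Nat.pos_of_ne_zero fun h => hb (h ▸ dvd_zero p)
  have hwT : w ^ (q ^ b.totient) = w := by
    have h2 : q ^ b.totient ≡ 1 [MOD b] := Nat.ModEq.pow_totient hco
    obtain ⟨t, ht⟩ := (Nat.modEq_iff_dvd' (Nat.one_le_pow _ _ Fintype.card_pos)).1 h2.symm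
    rw [show q ^ b.totient = b * t + 1 by
      have : 1 ≤ q ^ b.totient := Nat.one_le_pow _ _ Fintype.card_pos
      change q ^ b.totient - 1 = b * t at ht
      omega, pow_succ, pow_mul, hwb, one_pow, one_mul]
  have hstw : w * st w = 1 ∧ st w * w = 1 := by
    constructor
    · rw [hw, st_pow, ← (show Commute M (st M) from (self_mul_st g).trans (st_mul_self g).symm).mul_pow,
        self_mul_st g, one_pow]
    · rw [hw, st_pow, ← (show Commute (st M) M from (st_mul_self g).trans (self_mul_st g).symm).mul_pow,
        st_mul_self g, one_pow]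
  by_cases hE : ∀ f : F[X], IsIdempotentElem (aeval w f) → st (aeval w f) = aeval w f → aeval w f = 0 ∨ aeval w f = 1
  swap
  · left
    push Not at hE
    obtain ⟨f, hf, hst, hf0, hf1⟩ := hE
    obtain ⟨h, ho, hc⟩ := exists_involution (two_ne p hp) hf hst hf0 hf1
    refine Absorb.exists_dvd_of_commute Nat.prime_two (hc g ?_) ho
    show Commute M (aeval w f)
    rw [show w = aeval M ((X : F[X]) ^ (p ^ e)) by simp [hw], ← aeval_comp]
    have hh := (Commute.all (X : F[X]) (f.comp (X ^ (p ^ e)))).map (aeval M)
    rwa [aeval_X] at hh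
  right
  -- conclusion from a torus bound and a bound on the unipotent part
  have final : ∀ L s : ℕ, w ^ (2 * L) = 1 → u ^ (p ^ s) = 1 → orderOf (cls g) ∣ L * p ^ s := by
    intro L s hwL hus
    have hz : w ^ L * w ^ L = 1 := by rw [← pow_add, ← two_mul, hwL]
    have hzst : st (w ^ L) = w ^ L := by
      rw [st_pow]
      calc st w ^ L = st w ^ L * (w ^ L * w ^ L) := by rw [hz, mul_one]
        _ = w ^ L := by rw [← mul_assoc, ← (show Commute (st w) w from hstw.2.trans hstw.1.symm).mul_pow, hstw.2,
          one_pow, one_mul]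
    have hpm := eq_one_or_neg_one p hp (f := X ^ L) (by rw [map_pow, aeval_X]) hE hz hzst
    have hgL : cls g ^ (p ^ e * L) = 1 := by
      rw [cls_pow_eq_one_iff, pow_mul, ← hw]; exact hpm
    have hgs : cls g ^ (b * p ^ s) = 1 := by
      rw [cls_pow_eq_one_iff, pow_mul, ← hu]; exact Or.inl hus
    have hdvd := Nat.dvd_gcd (orderOf_dvd_of_pow_eq_one hgL) (orderOf_dvd_of_pow_eq_one hgs)
    refine hdvd.trans ?_
    have hbpe : b.Coprime (p ^ e) := Nat.Coprime.pow_right _ (hpp.coprime_iff_not_dvd.2 hb).symm
    have h1 : (p ^ e * L).gcd (b * p ^ s) ∣ (p ^ e * L).gcd b * (p ^ e * L).gcd (p ^ s) :=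
      Nat.gcd_mul_right_dvd_mul_gcd _ _ _
    refine h1.trans (mul_dvd_mul ?_ (Nat.gcd_dvd_right _ _))
    rw [Nat.Coprime.gcd_mul_left_cancel L hbpe.symm]
    exact Nat.gcd_dvd_left _ _
  have hle : 2 ∣ q ^ 1 - 1 := by rw [pow_one]; exact (Nat.Odd.sub_odd hqodd odd_one).two_dvd
  have hev : ∀ i, 2 * ((q ^ i + 1) / 2) = q ^ i + 1 ∧ 2 * ((q ^ i - 1) / 2) = q ^ i - 1 := fun i => by
    have := Nat.odd_iff.1 (hqodd.pow (n := i))
    omega
  have hcomm : Commute u w := (Commute.refl M).pow_pow b (p ^ e)
  by_cases hfld : ∀ f : F[X], IsIdempotentElem (aeval w f) → aeval w f = 0 ∨ aeval w f = 1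
  · -- the algebra generated by `w` is a field
    have hirr : Irreducible (minpoly F w) := irreducible_minpoly w (Nat.totient_pos.2 hb0) hwT hfld
    set L : Module.End F (ι → F) := Matrix.toLinAlgEquiv' w
    have hminp : minpoly F L = minpoly F w :=
      minpoly.algEquiv_eq (Matrix.toLinAlgEquiv' : Mat ≃ₐ[F] _) w
    obtain ⟨D, k, hD1, hD, hDk, -, hunip⟩ := field_action p L (hminp ▸ hirr)
    rw [hminp] at hD
    rw [Module.finrank_pi, hcard] at hDk
    have : Fact (Irreducible (minpoly F w)) := ⟨hirr⟩
    let K := AdjoinRoot (minpoly F w)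
    have : Module.Finite F K := (AdjoinRoot.powerBasis hirr.ne_zero).finite
    have : Finite K := Module.finite_of_finite F
    let : Fintype K := Fintype.ofFinite K
    have hKD : Module.finrank F K = D := by
      rw [hD]; exact (AdjoinRoot.powerBasis hirr.ne_zero).finrank.trans (AdjoinRoot.powerBasis_dim hirr.ne_zero)
    let φ : K →ₐ[F] Mat := Ideal.Quotient.liftₐ (Ideal.span {minpoly F w}) (aeval w) fun f hf => by
      obtain ⟨t, rfl⟩ := Ideal.mem_span_singleton'.1 hf
      rw [map_mul, minpoly.aeval, mul_zero]
    set ρ : K := AdjoinRoot.root (minpoly F w)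
    have hφρ : φ ρ = w := by show aeval w (X : F[X]) = w; exact aeval_X w
    have hρ0 : ρ ≠ 0 := fun h => by
      have h' := hstw.1
      rw [← hφρ, h, map_zero, zero_mul] at h'
      exact zero_ne_one h'
    have hφinv : φ ρ⁻¹ = st w := by
      calc φ ρ⁻¹ = φ ρ⁻¹ * φ ρ * st w := by rw [hφρ, mul_assoc, hstw.1, mul_one]
        _ = st w := by rw [← map_mul, inv_mul_cancel₀ hρ0, map_one, one_mul]
    have hroot : aeval ρ⁻¹ (minpoly F w) = 0 := by
      refine φ.toRingHom.injective ?_
      show φ (aeval ρ⁻¹ (minpoly F w)) = φ 0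
      rw [← aeval_algHom_apply, hφinv, ← st_aeval, minpoly.aeval, st_zero, map_zero]
    let τ : K →ₐ[F] K := AdjoinRoot.liftAlgHom _ (Algebra.ofId F K) ρ⁻¹ hroot
    have hτ : τ ρ = ρ⁻¹ := AdjoinRoot.liftAlgHom_root ..
    obtain ⟨⟨i, hi⟩, hfrob⟩ := (FiniteField.bijective_frobeniusAlgHom_pow F K).2 τ
    simp only at hfrob
    have hiρ : ρ ^ (q ^ i) = ρ⁻¹ := by
      rw [← hτ, ← hfrob, AlgHom.coe_pow, FiniteField.coe_frobeniusAlgHom, pow_iterate]
    by_cases hi0 : i = 0
    · left
      rw [hi0, pow_zero, pow_one] at hiρ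
      have hw2 : w ^ (2 * 1) = 1 := by
        rw [mul_one, pow_two, ← hφρ, ← map_mul]
        nth_rewrite 2 [hiρ]
        rw [mul_inv_cancel₀ hρ0, map_one]
      simpa using final 1 e hw2 hue
    right
    have hDi : D ∣ i + i := by
      rw [← hKD, ← FiniteField.orderOf_frobeniusAlgHom F K]
      refine orderOf_dvd_of_pow_eq_one (AdjoinRoot.algHom_ext ?_)
      rw [pow_add, hfrob, AlgHom.mul_apply, hτ, map_inv₀, hτ, inv_inv]
      rfl
    have h2i : D = 2 * i := by
      rw [hKD] at hi
      obtain ⟨c, hc⟩ := hDi
      rcases c with _ | _ | c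
      · omega
      · omega
      · nlinarith
    have hik : i * k = n := by rw [h2i, mul_assoc] at hDk; omega
    have hwi : w ^ (q ^ i + 1) = 1 := by
      rw [← hφρ, ← map_pow, pow_succ, hiρ, inv_mul_cancel₀ hρ0, map_one]
    have huk : u ^ (p ^ Nat.clog p k) = 1 := by
      refine (Matrix.toLinAlgEquiv' : Mat ≃ₐ[F] _).injective ?_
      rw [map_pow, map_one]
      exact hunip _ (hcomm.map (Matrix.toLinAlgEquiv' : Mat ≃ₐ[F] _)) a (by rw [← map_pow, hua, map_one])
    exact ⟨i, k, hik, Or.inl (final _ _ (by rw [(hev i).1]; exact hwi) huk)⟩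
  · -- two idempotents exchanged by the adjoint
    push Not at hfld
    obtain ⟨f₀, hid, hne0, hne1⟩ := hfld
    set E := aeval w f₀ with hEdef
    have hstpoly : st w ∈ Algebra.adjoin F {w} := by
      have hb1 : st w = w ^ (b - 1) := by
        calc st w = st w * w ^ b := by rw [hwb, mul_one]
          _ = w ^ (b - 1) := by
            rw [← Nat.sub_add_cancel hb0, pow_succ', ← mul_assoc, hstw.2, one_mul, Nat.add_sub_cancel]
      rw [hb1]
      exact pow_mem (Algebra.self_mem_adjoin_singleton F w) _
    rw [Algebra.adjoin_singleton_eq_range_aeval] at hstpoly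
    obtain ⟨g₀, hg₀⟩ := hstpoly
    change aeval w g₀ = st w at hg₀
    have hstf : ∀ f : F[X], st (aeval w f) = aeval w (f.comp g₀) := fun f => by rw [st_aeval, aeval_comp, hg₀]
    have hcommE : ∀ f : F[X], Commute (aeval w f) E := fun f => (Commute.all f f₀).map (aeval w)
    have hidst : ∀ {A : Mat}, IsIdempotentElem A → IsIdempotentElem (st A) := fun {A} hA => by
      rw [IsIdempotentElem, ← st_mul, hA.eq]
    -- a nonzero idempotent other than one is sent to its complement
    have hcompl : ∀ f : F[X], IsIdempotentElem (aeval w f) → aeval w f ≠ 0 → aeval w f ≠ 1 →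
        st (aeval w f) = 1 - aeval w f := by
      intro f hi h0 h1
      have hc : Commute (aeval w f) (st (aeval w f)) := by rw [hstf]; exact (Commute.all f _).map (aeval w)
      have hP : IsIdempotentElem (aeval w (f * f.comp g₀)) := by
        rw [map_mul, ← hstf]; exact hi.mul_of_commute hc (hidst hi)
      have hPs : st (aeval w (f * f.comp g₀)) = aeval w (f * f.comp g₀) := by
        rw [map_mul, ← hstf, st_mul, st_st]
      have hmul : aeval w f * st (aeval w f) = 0 := by
        rcases hE _ hP hPs with h | h <;> rw [map_mul, ← hstf] at h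
        · exact h
        · refine absurd ?_ h1
          calc aeval w f = aeval w f * (aeval w f * st (aeval w f)) := by rw [h, mul_one]
            _ = 1 := by rw [← mul_assoc, hi.eq, h]
      have hmul' : st (aeval w f) * aeval w f = 0 := hc.eq ▸ hmul
      have hS : IsIdempotentElem (aeval w (f + f.comp g₀)) := by
        rw [map_add, ← hstf, IsIdempotentElem, mul_add, add_mul, add_mul, hi.eq, (hidst hi).eq, hmul, hmul',
          add_zero, zero_add]
      rcases hE _ hS (by rw [map_add, ← hstf, st_add, st_st, add_comm]) with h | h <;> rw [map_add, ← hstf] at h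
      · refine absurd ?_ h0
        calc aeval w f = aeval w f * (aeval w f + st (aeval w f)) := by rw [mul_add, hi.eq, hmul, add_zero]
          _ = 0 := by rw [h, mul_zero]
      · exact eq_sub_of_add_eq' h
    have hsE := hcompl f₀ hid hne0 hne1
    have hmin : ∀ f : F[X], IsIdempotentElem (aeval w f * E) → aeval w f * E = 0 ∨ aeval w f * E = E := by
      intro f hf
      by_contra hne
      push Not at hne
      have hE' : aeval w (f * f₀) = aeval w f * E := by rw [map_mul]
      have hsub : aeval w f * E * E = aeval w f * E := by rw [mul_assoc, hid.eq]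
      have h1 : aeval w f * E ≠ 1 := fun h => hne1 (by rw [h, one_mul] at hsub; exact hsub)
      have hs := hcompl (f * f₀) (hE' ▸ hf) (hE' ▸ hne.1) (hE' ▸ h1)
      rw [hE'] at hs
      have h2 := congrArg st hsub
      have h3 : E * (aeval w f * E) = aeval w f * E := by
        rw [← mul_assoc, ← (hcommE f).eq, mul_assoc, hid.eq]
      rw [st_mul, hs, hsE, sub_mul, one_mul, mul_sub, mul_one, h3, sub_sub_sub_cancel_right] at h2
      exact hne.2 (sub_right_inj.1 h2).symm
    -- restrict to the range of the idempotent
    set T : Mat ≃ₐ[F] Module.End F (ι → F) := Matrix.toLinAlgEquiv'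
    set P : Submodule F (ι → F) := LinearMap.range (T E)
    have hmemP : ∀ v ∈ P, T E v = v := by
      rintro _ ⟨v, rfl⟩
      rw [← Module.End.mul_apply, ← map_mul, hid.eq]
    have hinv : ∀ A : Mat, Commute A E → ∀ v ∈ P, T A v ∈ P := by
      intro A hA v hv
      refine ⟨T A v, ?_⟩
      rw [← Module.End.mul_apply, ← map_mul, ← hA.eq, map_mul, Module.End.mul_apply, hmemP v hv]
    let S := Subalgebra.centralizer F ({E} : Set Mat)
    have hS : ∀ {A : Mat}, A ∈ S ↔ Commute A E := fun {A} => by
      simp only [S, Subalgebra.mem_centralizer_iff, Set.mem_singleton_iff, forall_eq]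
      exact ⟨fun h => h.symm, fun h => h.symm⟩
    let res : S →ₐ[F] Module.End F P :=
      { toFun := fun A => (T A.1).restrict (hinv A.1 (hS.1 A.2))
        map_one' := LinearMap.ext fun v => Subtype.ext (by simp)
        map_mul' := fun A B => LinearMap.ext fun v => Subtype.ext (by
          simp only [Subalgebra.coe_mul, map_mul]; rfl)
        map_zero' := LinearMap.ext fun v => Subtype.ext (by simp)
        map_add' := fun A B => LinearMap.ext fun v => Subtype.ext (by
          simp only [Subalgebra.coe_add, map_add]; rfl)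
        commutes' := fun c => LinearMap.ext fun v => Subtype.ext (by
          simp only [Subalgebra.coe_algebraMap, AlgEquiv.commutes]; rfl) }
    have hres : ∀ A B : S, res A = res B → A.1 * E = B.1 * E := by
      intro A B h
      refine T.injective (LinearMap.ext fun v => ?_)
      rw [map_mul, map_mul, Module.End.mul_apply, Module.End.mul_apply]
      exact congrArg Subtype.val (LinearMap.congr_fun h ⟨T E v, v, rfl⟩)
    have hres' : ∀ A B : S, A.1 * E = B.1 * E → res A = res B := by
      intro A B h
      refine LinearMap.ext fun v => Subtype.ext ?_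
      show T A.1 v = T B.1 v
      rw [← hmemP v v.2, ← Module.End.mul_apply, ← Module.End.mul_apply, ← map_mul, ← map_mul, h]
    have hwE : Commute w E := by simpa using hcommE X
    let wS : S := ⟨w, hS.2 hwE⟩
    have haev : ∀ f : F[X], aeval (res wS) f = res ⟨aeval w f, hS.2 (hcommE f)⟩ := fun f => by
      rw [aeval_algHom_apply]
      exact congrArg res (Subtype.ext (aeval_algHom_apply S.val wS f).symm)
    have hfinP : Module.finrank F P = n := by
      have e1 : Module.finrank F P = E.rank := rfl
      have hsum : E.rank + (1 - E).rank = 2 * n := by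
        have hk : LinearMap.range (T (1 - E)) = LinearMap.ker (T E) := by
          ext v
          constructor
          · rintro ⟨y, rfl⟩
            rw [LinearMap.mem_ker, ← Module.End.mul_apply, ← map_mul, mul_sub, mul_one, hid.eq, sub_self, map_zero]
            rfl
          · intro hv
            refine ⟨v, ?_⟩
            rw [map_sub, map_one, LinearMap.sub_apply, LinearMap.mem_ker.1 hv, sub_zero]
            rfl
        show Module.finrank F (LinearMap.range (T E)) + Module.finrank F (LinearMap.range (T (1 - E))) = _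
        rw [hk, LinearMap.finrank_range_add_finrank_ker, Module.finrank_pi, hcard]
      have hr : (1 - E).rank = E.rank := by rw [← hsE, rank_st]
      rw [e1]
      omega
    have : Nontrivial P := Module.nontrivial_of_finrank_pos (R := F) (by omega)
    have hirr : Irreducible (minpoly F (res wS)) := by
      refine irreducible_minpoly (res wS) (Nat.totient_pos.2 hb0) ?_ fun f hf => ?_
      · rw [← map_pow]
        exact congrArg res (Subtype.ext hwT)
      · rw [haev] at hf ⊢
        have hid' : IsIdempotentElem (aeval w f * E) := by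
          have h := hres _ _ ((map_mul res _ _).trans hf)
          simp only [Subalgebra.coe_mul] at h
          rw [IsIdempotentElem, mul_assoc, ← mul_assoc E, ← (hcommE f).eq, mul_assoc, hid.eq, ← mul_assoc, h]
        rcases hmin f hid' with h | h
        · left
          rw [← map_zero res]
          exact hres' _ _ (by simpa using h)
        · right
          rw [← map_one res]
          exact hres' _ _ (by simpa using h)
    obtain ⟨d, k, hd1, -, hdk, hwd, hunip⟩ := field_action p (res wS) hirr
    rw [hfinP] at hdk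
    -- transfer an identity on the range to the whole space
    have hlift : ∀ A : Mat, Commute A w → A * E = E → A * st A = 1 → A = 1 := by
      intro A hAw hAE hA
      have h := congrArg st hAE
      rw [st_mul, hsE] at h
      have hAE' : Commute A E := by
        have hall : ∀ f : F[X], Commute A (aeval w f) := fun f => by
          induction f using Polynomial.induction_on' with
          | add f g hf hg => rw [map_add]; exact hf.add_right hg
          | monomial k c => rw [aeval_monomial, ← Algebra.smul_def]; exact (hAw.pow_right k).smul_right c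
        exact hall f₀
      have h2 : A * (1 - E) = 1 - E :=
        calc A * (1 - E) = (1 - E) * A := ((Commute.one_right A).sub_right hAE').eq
          _ = (1 - E) * st A * A := by rw [h]
          _ = 1 - E := by rw [mul_assoc, mul_eq_one_comm.1 hA, mul_one]
      calc A = A * E + A * (1 - E) := by rw [← mul_add, add_sub_cancel, mul_one]
        _ = 1 := by rw [hAE, h2, add_sub_cancel]
    right
    refine ⟨d, k, hdk, Or.inr (final _ _ ?_ ?_)⟩
    · rw [(hev d).2]
      refine hlift _ ((Commute.refl w).pow_left _) ?_ ?_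
      · have h := hres (wS ^ (q ^ d)) wS (by rw [map_pow]; exact hwd)
        simp only [SubmonoidClass.coe_pow] at h
        calc w ^ (q ^ d - 1) * E = w ^ (q ^ d - 1) * (w * st w) * E := by rw [hstw.1, mul_one]
          _ = st w * (w ^ (q ^ d) * E) := by
            have hc : Commute (w ^ (q ^ d)) (st w) := (show Commute w (st w) from hstw.1.trans hstw.2.symm).pow_left _
            rw [← mul_assoc, ← pow_succ, Nat.sub_add_cancel (Nat.one_le_pow _ _ Fintype.card_pos), hc.eq, mul_assoc]
          _ = E := by rw [h, ← mul_assoc, hstw.2, one_mul]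
      · rw [st_pow, ← (show Commute w (st w) from hstw.1.trans hstw.2.symm).mul_pow, hstw.1, one_pow]
    · refine hlift _ (hcomm.pow_left _) ?_ ?_
      · have huE : Commute u E := by
          show Commute u (aeval w f₀)
          rw [hu, show w = aeval M ((X : F[X]) ^ (p ^ e)) by simp [hw], ← aeval_comp]
          have hh := (Commute.all ((X : F[X]) ^ b) (f₀.comp (X ^ (p ^ e)))).map (aeval M)
          rwa [map_pow, aeval_X] at hh
        have h := hunip (res ⟨u, hS.2 huE⟩) ((Commute.map (show Commute (⟨u, hS.2 huE⟩ : S) wS from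
          Subtype.ext hcomm.eq) res)) a (by rw [← map_pow, ← map_one res]; exact congrArg res (Subtype.ext hua))
        rw [← map_pow, ← map_one res] at h
        simpa using hres _ _ h
      · rw [st_pow, hu, st_pow, ← pow_mul, ← pow_mul,
          ← (show Commute M (st M) from (self_mul_st g).trans (st_mul_self g).symm).mul_pow, self_mul_st g, one_pow]

end Dichotomy

end Cfsg.Lib.Linear.AbsorbPSp
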