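import Cfsg.Agent.Lib.Linear.AbsorbPSp

/-!
# Elements of symplectic groups of prescribed orders

Tori of order `q ^ d ± 1` through `SL_2(q ^ d)`, regular unipotent elements, and orthogonal sums.
-/

set_option autoImplicit false

namespace Cfsg.Lib.Linear.AbsorbPSp

open Matrix Polynomial
open scoped MatrixGroups

variable {F : Type*} [Field F]

section FieldEmbedding

variable {K : Type*} [Field K] [Algebra F K] {d : ℕ} (β : Module.Basis (Fin d) F K)

theorem traceMatrix_mul_leftMul (e : K) :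
    Algebra.traceMatrix F β * Algebra.leftMulMatrix β e =
      (Algebra.leftMulMatrix β e)ᵀ * Algebra.traceMatrix F β := by
  have h : ∀ i j, (Algebra.traceMatrix F β * Algebra.leftMulMatrix β e) i j = Algebra.trace F K (β i * (e * β j)) := by
    intro i j
    simp only [Matrix.mul_apply, Algebra.traceMatrix_apply, Algebra.traceForm_apply,
      Algebra.leftMulMatrix_eq_repr_mul]
    conv_rhs => rw [← β.sum_repr (e * β j), Finset.mul_sum, map_sum]
    exact Finset.sum_congr rfl fun k _ => by rw [mul_smul_comm, map_smul, smul_eq_mul, mul_comm]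
  ext i j
  rw [h]
  have h' := h j i
  rw [Matrix.mul_apply] at h'
  rw [Matrix.mul_apply, show β i * (e * β j) = β j * (e * β i) by ring, ← h']
  exact Finset.sum_congr rfl fun k _ => by
    rw [Matrix.transpose_apply, Algebra.traceMatrix_apply, Algebra.traceMatrix_apply, Algebra.traceForm_apply,
      Algebra.traceForm_apply, mul_comm (β j), mul_comm]

/-- Restriction of scalars of a two by two matrix, without the change of basis. -/
noncomputable def blocks (A : Matrix (Fin 2) (Fin 2) K) : Matrix (Fin d ⊕ Fin d) (Fin d ⊕ Fin d) F :=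
  fromBlocks (Algebra.leftMulMatrix β (A 0 0)) (Algebra.leftMulMatrix β (A 0 1))
    (Algebra.leftMulMatrix β (A 1 0)) (Algebra.leftMulMatrix β (A 1 1))

theorem blocks_one : blocks β 1 = 1 := by simp [blocks, fromBlocks_one]

theorem blocks_mul (A B : Matrix (Fin 2) (Fin 2) K) : blocks β (A * B) = blocks β A * blocks β B := by
  simp [blocks, fromBlocks_multiply, Matrix.mul_apply, Fin.sum_univ_two]

theorem blocks_neg (A : Matrix (Fin 2) (Fin 2) K) : blocks β (-A) = -blocks β A := by
  simp [blocks, fromBlocks_neg]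

theorem blocks_pow (A : Matrix (Fin 2) (Fin 2) K) (N : ℕ) : blocks β (A ^ N) = blocks β A ^ N := by
  induction N with
  | zero => simp [blocks_one]
  | succ N ih => rw [pow_succ, pow_succ, blocks_mul, ih]

theorem blocks_injective : Function.Injective (blocks β) := by
  intro A B h
  obtain ⟨h1, h2, h3, h4⟩ := fromBlocks_inj.1 h
  have := Algebra.leftMulMatrix_injective β
  ext i j
  fin_cases i <;> fin_cases j
  exacts [this h1, this h2, this h3, this h4]

include β in
theorem exists_symplectic [Finite K] [Module.Finite F K] (A : SL(2, K)) :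
    ∃ g : symplecticGroup (Fin d) F, ∀ N : ℕ,
      ((g : Matrix (Fin d ⊕ Fin d) (Fin d ⊕ Fin d) F) ^ N = 1 → (A : Matrix (Fin 2) (Fin 2) K) ^ N = 1) ∧
      ((g : Matrix (Fin d ⊕ Fin d) (Fin d ⊕ Fin d) F) ^ N = -1 → (A : Matrix (Fin 2) (Fin 2) K) ^ N = -1) := by
  have : Finite F := Finite.of_injective _ (algebraMap F K).injective
  set G := Algebra.traceMatrix F β with hG
  have hGu : IsUnit G.det := (det_traceForm_ne_zero β).isUnit |> fun h => by
    rwa [hG, Algebra.traceMatrix_of_basis]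
  have hGt : Gᵀ = G := by
    ext i j
    simp [hG, Algebra.traceMatrix_apply, mul_comm]
  let D : (Matrix (Fin d ⊕ Fin d) (Fin d ⊕ Fin d) F)ˣ :=
    ⟨fromBlocks 1 0 0 G, fromBlocks 1 0 0 G⁻¹,
      by simp [fromBlocks_multiply, Matrix.mul_nonsing_inv _ hGu, fromBlocks_one],
      by simp [fromBlocks_multiply, Matrix.nonsing_inv_mul _ hGu, fromBlocks_one]⟩
  set R := blocks β (A : Matrix (Fin 2) (Fin 2) K) with hR
  set S := (D : Matrix _ _ F)ᵀ * J (Fin d) F * (D : Matrix _ _ F) with hS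
  have hS' : S = fromBlocks 0 (-G) G 0 := by
    simp [hS, D, J, fromBlocks_transpose, fromBlocks_multiply, hGt]
  have hdet : (A : Matrix (Fin 2) (Fin 2) K) 0 0 * (A : Matrix (Fin 2) (Fin 2) K) 1 1 -
      (A : Matrix (Fin 2) (Fin 2) K) 0 1 * (A : Matrix (Fin 2) (Fin 2) K) 1 0 = 1 := by
    rw [← Matrix.det_fin_two, A.2]
  have hGL : ∀ x y : K, (Algebra.leftMulMatrix β x)ᵀ * (G * Algebra.leftMulMatrix β y) =
      G * Algebra.leftMulMatrix β (x * y) := fun x y => by
    rw [← Matrix.mul_assoc, ← traceMatrix_mul_leftMul, Matrix.mul_assoc, map_mul]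
  have hRS : Rᵀ * S * R = S := by
    rw [hS', hR, blocks, fromBlocks_transpose, fromBlocks_multiply, fromBlocks_multiply]
    simp only [Matrix.mul_zero, Matrix.zero_mul, zero_add, add_zero, Matrix.mul_neg, Matrix.neg_mul,
      Matrix.mul_assoc, hGL]
    congr 1
    · rw [mul_comm]; abel
    · rw [← Matrix.mul_neg, ← Matrix.mul_add, ← map_neg, ← map_add]
      conv_rhs => rw [← Matrix.mul_one G, ← Matrix.mul_neg, ← map_one (Algebra.leftMulMatrix β), ← map_neg]
      congr 2
      linear_combination -hdet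
    · rw [← Matrix.mul_neg, ← Matrix.mul_add, ← map_neg, ← map_add]
      conv_rhs => rw [← Matrix.mul_one G, ← map_one (Algebra.leftMulMatrix β)]
      congr 2
      linear_combination hdet
    · rw [mul_comm]; abel
  set g := (D : Matrix _ _ F) * R * (↑D⁻¹ : Matrix _ _ F) with hg
  have hmem : g ∈ symplecticGroup (Fin d) F := by
    rw [SymplecticGroup.mem_iff']
    calc gᵀ * J (Fin d) F * g = (↑D⁻¹ : Matrix _ _ F)ᵀ * (Rᵀ * S * R) * ↑D⁻¹ := by
          simp only [hg, hS, transpose_mul, Matrix.mul_assoc]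
      _ = _ := by
          rw [hRS, hS]
          simp only [← Matrix.mul_assoc, ← transpose_mul]
          rw [Units.mul_inv, transpose_one, Matrix.one_mul, Matrix.mul_assoc, Units.mul_inv, Matrix.mul_one]
  refine ⟨⟨g, hmem⟩, fun N => ?_⟩
  have hpow : g ^ N = (D : Matrix _ _ F) * R ^ N * (↑D⁻¹ : Matrix _ _ F) := Units.conj_pow D R N
  have hcancel : ∀ X : Matrix (Fin d ⊕ Fin d) (Fin d ⊕ Fin d) F,
      (↑D⁻¹ : Matrix _ _ F) * ((D : Matrix _ _ F) * X * (↑D⁻¹ : Matrix _ _ F)) * (D : Matrix _ _ F) = X := fun X => by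
    simp only [← Matrix.mul_assoc, Units.inv_mul, Matrix.one_mul]
    rw [Matrix.mul_assoc, Units.inv_mul, Matrix.mul_one]
  constructor <;> intro h <;> change g ^ N = _ at h <;> rw [hpow] at h <;> refine blocks_injective β ?_
  · rw [blocks_pow, ← hR, ← hcancel (R ^ N), h, blocks_one, Matrix.mul_one, Units.inv_mul]
  · rw [blocks_pow, ← hR, ← hcancel (R ^ N), h, blocks_neg, blocks_one, Matrix.mul_neg, Matrix.mul_one,
      Matrix.neg_mul, Units.inv_mul]

end FieldEmbedding

section Tori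

variable [Fintype F] (p : ℕ) [Fact p.Prime] [CharP F p]

include p in
/-- Elements of `Sp_2d(q)` powers of which are scalar only if the exponent is a multiple of half of
`q ^ d + 1`, respectively `q ^ d - 1`. -/
theorem exists_tori (hp : p ≠ 2) (d : ℕ) [NeZero d] :
    (∃ g : symplecticGroup (Fin d) F, ∀ N : ℕ,
      ((g : Matrix (Fin d ⊕ Fin d) (Fin d ⊕ Fin d) F) ^ N = 1 → Fintype.card F ^ d + 1 ∣ N) ∧
      ((g : Matrix (Fin d ⊕ Fin d) (Fin d ⊕ Fin d) F) ^ N = -1 → Fintype.card F ^ d + 1 ∣ 2 * N)) ∧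
    (∃ g : symplecticGroup (Fin d) F, ∀ N : ℕ,
      ((g : Matrix (Fin d ⊕ Fin d) (Fin d ⊕ Fin d) F) ^ N = 1 → Fintype.card F ^ d - 1 ∣ N) ∧
      ((g : Matrix (Fin d ⊕ Fin d) (Fin d ⊕ Fin d) F) ^ N = -1 → Fintype.card F ^ d - 1 ∣ 2 * N)) := by
  let K := FiniteField.Extension F p d
  let β : Module.Basis (Fin d) F K := (Module.finBasis F K).reindex (finCongr (FiniteField.finrank_extension F p d))
  let : Fintype K := Fintype.ofFinite K
  have : CharP K p := charP_of_injective_algebraMap (algebraMap F K).injective p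
  have hQ : Fintype.card K = Fintype.card F ^ d := by
    rw [← Nat.card_eq_fintype_card, FiniteField.natCard_extension, Nat.card_eq_fintype_card]
  rw [← hQ]
  set Q := Fintype.card K
  have hQ1 : 1 < Q := Fintype.one_lt_card
  constructor
  · let L := FiniteField.Extension K p 2
    let γ : Module.Basis (Fin 2) K L := (Module.finBasis K L).reindex (finCongr (FiniteField.finrank_extension K p 2))
    obtain ⟨ω, hω⟩ := IsCyclic.exists_ofOrder_eq_natCard (α := Lˣ)
    rw [Nat.card_units, FiniteField.natCard_extension, Nat.card_eq_fintype_card] at hω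
    change orderOf ω = Q ^ 2 - 1 at hω
    have hS : Q ^ 2 - 1 = (Q - 1) * (Q + 1) := by
      rw [show Q ^ 2 - 1 = Q ^ 2 - 1 ^ 2 by simp, Nat.sq_sub_sq, mul_comm]
    set v : Lˣ := ω ^ (Q - 1)
    have hvo : orderOf v = Q + 1 := by
      rw [orderOf_pow' _ (by omega), hω, hS, Nat.gcd_eq_right (dvd_mul_right _ _), Nat.mul_div_cancel_left _ (by omega)]
    have hnv : Algebra.norm K (v : L) = 1 := by
      rw [Units.val_pow_eq_pow_val, map_pow]
      exact FiniteField.pow_card_sub_one_eq_one _ (fun h => ω.ne_zero (Algebra.norm_eq_zero_iff.1 h))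
    have hdet : (Algebra.leftMulMatrix γ (v : L)).det = 1 := by rw [← Algebra.norm_eq_matrix_det γ, hnv]
    obtain ⟨g, hg⟩ := exists_symplectic β (⟨_, hdet⟩ : SL(2, K))
    have key : ∀ N, ∀ c : L, (c = 1 ∨ c = -1) → Algebra.leftMulMatrix γ (v : L) ^ N = Algebra.leftMulMatrix γ c →
        (v : L) ^ N = c := fun N c _ h => Algebra.leftMulMatrix_injective γ (by rw [map_pow, h])
    refine ⟨g, fun N => ⟨fun h => ?_, fun h => ?_⟩⟩
    · have h1 := key N 1 (Or.inl rfl) (((hg N).1 h).trans (map_one _).symm)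
      rw [← hvo]
      exact orderOf_dvd_of_pow_eq_one (Units.ext (by rw [Units.val_pow_eq_pow_val, h1, Units.val_one]))
    · have h1 := key N (-1) (Or.inr rfl) (((hg N).2 h).trans (by rw [map_neg, map_one]))
      rw [← hvo]
      exact orderOf_dvd_of_pow_eq_one
        (Units.ext (by rw [Units.val_pow_eq_pow_val, mul_comm, pow_mul, h1, neg_one_sq, Units.val_one]))
  · obtain ⟨ω, hω⟩ := IsCyclic.exists_ofOrder_eq_natCard (α := Kˣ)
    rw [Nat.card_units, Nat.card_eq_fintype_card] at hω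
    have hdet : (Matrix.diagonal ![(ω : K), ((ω⁻¹ : Kˣ) : K)]).det = 1 := by simp [Matrix.det_diagonal]
    obtain ⟨g, hg⟩ := exists_symplectic β (⟨_, hdet⟩ : SL(2, K))
    have key : ∀ N, ∀ c : K, (Matrix.diagonal ![(ω : K), ((ω⁻¹ : Kˣ) : K)]) ^ N = Matrix.diagonal (fun _ => c) →
        (ω : K) ^ N = c := fun N c h => by
      rw [Matrix.diagonal_pow] at h
      simpa using congrFun (Matrix.diagonal_injective h) 0
    refine ⟨g, fun N => ⟨fun h => ?_, fun h => ?_⟩⟩
    · have h1 := key N 1 (((hg N).1 h).trans Matrix.diagonal_one.symm)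
      rw [← hω]
      exact orderOf_dvd_of_pow_eq_one (Units.ext (by rw [Units.val_pow_eq_pow_val, h1, Units.val_one]))
    · have h1 := key N (-1) (((hg N).2 h).trans (by rw [← Matrix.diagonal_one, Matrix.diagonal_neg]))
      rw [← hω]
      exact orderOf_dvd_of_pow_eq_one
        (Units.ext (by rw [Units.val_pow_eq_pow_val, mul_comm, pow_mul, h1, neg_one_sq, Units.val_one]))

end Tori

section Unipotent

variable (p : ℕ) [Fact p.Prime] [CharP F p]

open AbsorbPSL (shift shift_pow_apply)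

/-- A regular unipotent element of `Sp_2m`. -/
theorem exists_unipotent (hp : p ≠ 2) (m : ℕ) (hm : 1 ≤ m) :
    ∃ u : symplecticGroup (Fin m) F, ∀ N : ℕ,
      ((u : Matrix (Fin m ⊕ Fin m) (Fin m ⊕ Fin m) F) ^ N ≠ -1) ∧
      ((u : Matrix (Fin m ⊕ Fin m) (Fin m ⊕ Fin m) F) ^ N = 1 → p ^ Nat.clog p (2 * m) ∣ N) := by
  have hpp : p.Prime := Fact.out
  have : NeZero m := ⟨by omega⟩
  set X : Matrix (Fin m) (Fin m) F := shift m m F with hX
  set A : Matrix (Fin m) (Fin m) F := 1 + X with hA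
  let last : Fin m := ⟨m - 1, by omega⟩
  set S : Matrix (Fin m) (Fin m) F := Matrix.single last last 1 with hS
  have hXm : X ^ m = 0 := by
    ext i j
    rw [hX, shift_pow_apply m m hm, if_neg (by omega)]
    rfl
  have hAu : IsUnit A.det := (Matrix.isUnit_iff_isUnit_det A).1 ((show IsNilpotent X from ⟨m, hXm⟩).isUnit_one_add)
  set Ai := A⁻¹ with hAi
  have hAiA : Ai * A = 1 := Matrix.nonsing_inv_mul _ hAu
  set U : Matrix (Fin m ⊕ Fin m) (Fin m ⊕ Fin m) F := fromBlocks A (A * S) 0 Aiᵀ with hU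
  have hmem : U ∈ symplecticGroup (Fin m) F := by
    rw [SymplecticGroup.mem_iff', hU, J, fromBlocks_transpose, fromBlocks_multiply, fromBlocks_multiply]
    have h1 : Ai * (A * S) = S := by rw [← Matrix.mul_assoc, hAiA, Matrix.one_mul]
    have h2 : Aᵀ * Aiᵀ = 1 := by rw [← transpose_mul, hAiA, transpose_one]
    have h3 : Sᵀ * Aᵀ * Aiᵀ = S := by
      rw [Matrix.mul_assoc, h2, Matrix.mul_one, hS, Matrix.transpose_single]
    simp [h1, h2, h3, hAiA]
  set B := A * S
  set Y := Aiᵀ - 1 with hY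
  have hsub : U - 1 = fromBlocks X B 0 Y := by
    rw [hU, ← fromBlocks_one, sub_eq_add_neg, fromBlocks_neg, fromBlocks_add]
    simp [hA, hY, sub_eq_add_neg, B]
  have hY' : Ai - 1 = -X * Ai := by
    have : (-X * Ai) = (1 - A) * Ai := by rw [hA, sub_add_cancel_left]
    rw [this, Matrix.sub_mul, Matrix.one_mul, hAi, Matrix.mul_nonsing_inv _ hAu]
  have hblk : ∀ k, 1 ≤ k → ∃ P, (U - 1) ^ k = fromBlocks (X ^ k) P 0 (Y ^ k) ∧
      X ^ (m - 1) * P = X ^ (m - 1) * B * Y ^ (k - 1) := by
    intro k hk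
    induction k, hk using Nat.le_induction with
    | base => exact ⟨B, by rw [pow_one, hsub, pow_one, pow_one], by simp⟩
    | succ k hk ih =>
      obtain ⟨P, hP, hP'⟩ := ih
      refine ⟨X * P + B * Y ^ k, ?_, ?_⟩
      · rw [pow_succ', hP, hsub, fromBlocks_multiply]
        simp [pow_succ']
      · rw [Matrix.mul_add, ← Matrix.mul_assoc, ← pow_succ, Nat.sub_add_cancel hm, hXm, Matrix.zero_mul, zero_add,
          Nat.add_sub_cancel]
        simp only [B, Matrix.mul_assoc]
  have hnil : (U - 1) ^ (2 * m) = 0 := by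
    obtain ⟨P, hP, -⟩ := hblk m hm
    have hYm : Y ^ m = 0 := by
      have hc : Commute (-X) Ai := by
        refine (Commute.neg_left ?_)
        have hXA : Commute X A := (Commute.one_right X).add_right (Commute.refl X)
        calc X * Ai = Ai * A * X * Ai := by rw [hAiA, Matrix.one_mul]
          _ = Ai * (A * X) * Ai := by rw [Matrix.mul_assoc Ai]
          _ = Ai * X := by rw [← hXA.eq, Matrix.mul_assoc, Matrix.mul_assoc, hAi, Matrix.mul_nonsing_inv _ hAu, Matrix.mul_one]
      rw [hY, ← transpose_one, ← transpose_sub, ← transpose_pow, hY', hc.mul_pow, neg_pow, hXm, Matrix.mul_zero,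
        Matrix.zero_mul, transpose_zero]
    rw [two_mul, pow_add, hP, hXm, hYm, fromBlocks_multiply]
    simp
  have hne : (U - 1) ^ (2 * m - 1) ≠ 0 := by
    have hXt : ∀ i j, (X ^ (m - 1)) i j = if i.val = 0 ∧ j.val = m - 1 then 1 else 0 := by
      intro i j
      rcases Nat.eq_zero_or_pos (m - 1) with h | h
      · rw [h, pow_zero, Matrix.one_apply]
        have : i.val = 0 ∧ j.val = 0 := by omega
        rw [if_pos (Fin.ext (this.1.trans this.2.symm)), if_pos this]
      · rw [hX, shift_pow_apply m _ h]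
        congr 1
        exact propext ⟨fun h => ⟨by omega, by omega⟩, fun h => ⟨by omega, by omega⟩⟩
    have hXY : X ^ (m - 1) * Ai = X ^ (m - 1) := by
      have h : X ^ (m - 1) * A = X ^ (m - 1) := by
        rw [hA, Matrix.mul_add, Matrix.mul_one, ← pow_succ, Nat.sub_add_cancel hm, hXm, add_zero]
      nth_rewrite 1 [← h]
      rw [Matrix.mul_assoc, hAi, Matrix.mul_nonsing_inv _ hAu, Matrix.mul_one]
    have hYt : Y ^ (m - 1) = (-1 : F) ^ (m - 1) • (X ^ (m - 1))ᵀ := by
      have hc : Commute (-X) Ai := by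
        refine (Commute.neg_left ?_)
        have hXA : Commute X A := (Commute.one_right X).add_right (Commute.refl X)
        calc X * Ai = Ai * A * X * Ai := by rw [hAiA, Matrix.one_mul]
          _ = Ai * (A * X) * Ai := by rw [Matrix.mul_assoc Ai]
          _ = Ai * X := by rw [← hXA.eq, Matrix.mul_assoc, Matrix.mul_assoc, hAi, Matrix.mul_nonsing_inv _ hAu, Matrix.mul_one]
      have hAik : ∀ k, X ^ (m - 1) * Ai ^ k = X ^ (m - 1) := fun k => by
        induction k with
        | zero => simp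
        | succ k ih => rw [pow_succ, ← Matrix.mul_assoc, ih, hXY]
      rw [hY, ← transpose_one, ← transpose_sub, ← transpose_pow, hY', hc.mul_pow, ← neg_one_smul F X, _root_.smul_pow,
        smul_mul_assoc, hAik, transpose_smul]
    intro h0
    rcases Nat.eq_zero_or_pos (m - 1) with h | h
    · have h1 : 2 * m - 1 = 1 := by omega
      rw [h1, pow_one, hsub, ← fromBlocks_zero, fromBlocks_inj] at h0
      have hX0 : X = 0 := by
        have : m = 1 := by omega
        subst this
        simpa using hXm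
      have := congrFun (congrFun h0.2.1 last) last
      simp [B, hA, hX0, hS] at this
    obtain ⟨Q, hQ, -⟩ := hblk (m - 1) h
    obtain ⟨P, hP, hP'⟩ := hblk m hm
    rw [show 2 * m - 1 = m - 1 + m by omega, pow_add, hQ, hP, fromBlocks_multiply, ← fromBlocks_zero,
      fromBlocks_inj] at h0
    have hYm : Y ^ m = 0 := by
      rw [show Y ^ m = Y ^ (m - 1) * Y by rw [← pow_succ, Nat.sub_add_cancel hm], hYt, smul_mul_assoc, hY, ← transpose_one, ← transpose_sub,
        ← transpose_mul, hY']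
      have : -X * Ai * X ^ (m - 1) = 0 := by
        have hXA : Commute X A := (Commute.one_right X).add_right (Commute.refl X)
        have hXAi : X * Ai = Ai * X := by
          calc X * Ai = Ai * A * X * Ai := by rw [hAiA, Matrix.one_mul]
            _ = Ai * (A * X) * Ai := by rw [Matrix.mul_assoc Ai]
            _ = Ai * X := by rw [← hXA.eq, Matrix.mul_assoc, Matrix.mul_assoc, hAi, Matrix.mul_nonsing_inv _ hAu, Matrix.mul_one]
        rw [Matrix.neg_mul, hXAi, Matrix.neg_mul, Matrix.mul_assoc, ← pow_succ', Nat.sub_add_cancel hm, hXm,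
          Matrix.mul_zero, neg_zero]
      rw [this, transpose_zero, smul_zero]
    have h1 := h0.2.1
    rw [hYm, Matrix.mul_zero, add_zero, hP', hYt] at h1
    have h2 := congrFun (congrFun h1 ⟨0, by omega⟩) ⟨0, by omega⟩
    simp only [Matrix.mul_smul, Matrix.smul_apply, Matrix.mul_apply, Matrix.transpose_apply, hXt, Matrix.zero_apply,
      true_and, smul_eq_mul] at h2
    rw [Finset.sum_eq_single last (fun x _ hx => by
        simp [show x.val ≠ m - 1 from fun hh => hx (Fin.ext hh)]) (by simp), if_pos rfl, mul_one,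
      Finset.sum_eq_single last (fun x _ hx => by
        simp [show x.val ≠ m - 1 from fun hh => hx (Fin.ext hh)]) (by simp), if_pos rfl, one_mul] at h2
    have hB : B last last = 1 := by
      simp [B, hS, hA, hX, shift, Matrix.one_apply]
    rw [hB, one_mul] at h2
    exact absurd h2 (pow_ne_zero _ (by simp))
  refine ⟨⟨U, hmem⟩, fun N => ⟨fun h => ?_, fun h => ?_⟩⟩
  · -- a unipotent element has no power equal to minus one
    change U ^ N = -1 at h
    have hbig : U ^ (p ^ (2 * m)) = 1 := by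
      have h1 := sub_pow_char_pow_of_commute (p := p) (n := 2 * m) (h := Commute.one_right U)
      rw [pow_eq_zero_of_le (Nat.lt_pow_self hpp.one_lt).le hnil, one_pow, eq_comm, sub_eq_zero] at h1
      exact h1
    have h2 : (-1 : Matrix (Fin m ⊕ Fin m) (Fin m ⊕ Fin m) F) = 1 := by
      rw [← (hpp.odd_of_ne_two hp).pow.neg_one_pow (α := Matrix (Fin m ⊕ Fin m) (Fin m ⊕ Fin m) F) (n := p ^ (2 * m)),
        ← h, ← pow_mul, mul_comm, pow_mul, hbig, one_pow]
    have h3 := congrFun (congrFun h2 (Sum.inl ⟨0, by omega⟩)) (Sum.inl ⟨0, by omega⟩)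
    rw [Matrix.neg_apply, Matrix.one_apply_eq] at h3
    refine two_ne (F := F) p hp ?_
    linear_combination -h3
  · change U ^ N = 1 at h
    set s := Nat.clog p (2 * m)
    obtain ⟨t, ht, hNt⟩ := (Nat.dvd_prime_pow hpp).1 (Nat.gcd_dvd_right N (p ^ s))
    by_cases hts : t = s
    · rw [← hts, ← hNt]; exact Nat.gcd_dvd_left _ _
    exfalso
    have hUt : U ^ (p ^ t) = 1 := by
      rw [← hNt]
      refine pow_gcd_eq_one.2 ⟨h, ?_⟩
      have h1 := sub_pow_char_pow_of_commute (p := p) (n := s) (h := Commute.one_right U)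
      rw [pow_eq_zero_of_le (Nat.le_pow_clog hpp.one_lt _) hnil, one_pow, eq_comm, sub_eq_zero] at h1
      exact h1
    have hlt : p ^ t < 2 * m := (Nat.lt_clog_iff_pow_lt hpp.one_lt).1 (show t < s by omega)
    refine hne (pow_eq_zero_of_le (show p ^ t ≤ 2 * m - 1 by omega) ?_)
    rw [sub_pow_char_pow_of_commute (p := p) (n := t) (h := Commute.one_right U), hUt, one_pow, sub_self]

end Unipotent

section Sums

variable {a b n : ℕ} (e : Fin a ⊕ Fin b ≃ Fin n)

/-- The orthogonal sum of two matrices. -/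
def bsum (X : Matrix (Fin a ⊕ Fin a) (Fin a ⊕ Fin a) F) (Y : Matrix (Fin b ⊕ Fin b) (Fin b ⊕ Fin b) F) :
    Matrix (Fin n ⊕ Fin n) (Fin n ⊕ Fin n) F :=
  Matrix.reindex ((Equiv.sumSumSumComm _ _ _ _).trans (Equiv.sumCongr e e))
    ((Equiv.sumSumSumComm _ _ _ _).trans (Equiv.sumCongr e e)) (fromBlocks X 0 0 Y)

theorem bsum_mul (X X' : Matrix (Fin a ⊕ Fin a) (Fin a ⊕ Fin a) F) (Y Y' : Matrix (Fin b ⊕ Fin b) (Fin b ⊕ Fin b) F) :
    bsum e X Y * bsum e X' Y' = bsum e (X * X') (Y * Y') := by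
  simp only [bsum, Matrix.reindex_apply, Matrix.submatrix_mul_equiv, fromBlocks_multiply]
  simp

theorem bsum_one : bsum e (1 : Matrix _ _ F) 1 = 1 := by
  rw [bsum, fromBlocks_one, Matrix.reindex_apply, Matrix.submatrix_one_equiv]

theorem bsum_neg (X : Matrix (Fin a ⊕ Fin a) (Fin a ⊕ Fin a) F) (Y : Matrix (Fin b ⊕ Fin b) (Fin b ⊕ Fin b) F) :
    bsum e (-X) (-Y) = -bsum e X Y := by
  rw [bsum, bsum, show fromBlocks (-X) 0 0 (-Y) = -fromBlocks X 0 0 Y by rw [fromBlocks_neg, neg_zero, neg_zero]]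
  rfl

theorem bsum_pow (X : Matrix (Fin a ⊕ Fin a) (Fin a ⊕ Fin a) F) (Y : Matrix (Fin b ⊕ Fin b) (Fin b ⊕ Fin b) F) (N : ℕ) :
    bsum e X Y ^ N = bsum e (X ^ N) (Y ^ N) := by
  induction N with
  | zero => simp [bsum_one]
  | succ N ih => rw [pow_succ, ih, bsum_mul, pow_succ, pow_succ]

theorem bsum_inj {X X' : Matrix (Fin a ⊕ Fin a) (Fin a ⊕ Fin a) F} {Y Y' : Matrix (Fin b ⊕ Fin b) (Fin b ⊕ Fin b) F}
    (h : bsum e X Y = bsum e X' Y') : X = X' ∧ Y = Y' := by
  simp only [bsum, EmbeddingLike.apply_eq_iff_eq, fromBlocks_inj, true_and] at h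
  exact h

theorem bsum_J : bsum e (J (Fin a) F) (J (Fin b) F) = J (Fin n) F := by
  ext i j
  obtain ⟨x, rfl⟩ := ((Equiv.sumSumSumComm _ _ _ _).trans (Equiv.sumCongr e e)).surjective i
  obtain ⟨y, rfl⟩ := ((Equiv.sumSumSumComm _ _ _ _).trans (Equiv.sumCongr e e)).surjective j
  rw [bsum, Matrix.reindex_apply, Matrix.submatrix_apply, Equiv.symm_apply_apply, Equiv.symm_apply_apply]
  rcases x with (x | x) | (x | x) <;> rcases y with (y | y) | (y | y) <;>
    simp [J, Matrix.one_apply, e.injective.eq_iff]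

theorem bsum_st (X : Matrix (Fin a ⊕ Fin a) (Fin a ⊕ Fin a) F) (Y : Matrix (Fin b ⊕ Fin b) (Fin b ⊕ Fin b) F) :
    st (bsum e X Y) = bsum e (st X) (st Y) := by
  rw [st, st, st, ← bsum_J e, ← bsum_neg,
    show (bsum e X Y)ᵀ = bsum e Xᵀ Yᵀ by simp [bsum, fromBlocks_transpose, Matrix.transpose_submatrix],
    bsum_mul, bsum_mul]

/-- The orthogonal sum commutes with an involution. -/
theorem exists_sum (h2 : (2 : F) ≠ 0) (ha : 1 ≤ a) (hb : 1 ≤ b) (g : symplecticGroup (Fin a) F)
    (u : symplecticGroup (Fin b) F) :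
    ∃ h : symplecticGroup (Fin n) F, (h : Matrix (Fin n ⊕ Fin n) (Fin n ⊕ Fin n) F) =
        bsum e (g : Matrix (Fin a ⊕ Fin a) (Fin a ⊕ Fin a) F) (u : Matrix (Fin b ⊕ Fin b) (Fin b ⊕ Fin b) F) ∧
      ∃ y : Cfsg.PSp n F, orderOf (cls h) ∣ orderOf y ∧ 2 ∣ orderOf y := by
  have hmem : bsum e (g : Matrix (Fin a ⊕ Fin a) (Fin a ⊕ Fin a) F) (u : Matrix (Fin b ⊕ Fin b) (Fin b ⊕ Fin b) F) ∈
      symplecticGroup (Fin n) F := by
    rw [mem_iff_st, bsum_st, bsum_mul, st_mul_self, st_mul_self, bsum_one]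
  refine ⟨⟨_, hmem⟩, rfl, ?_⟩
  obtain ⟨t, ht, hc⟩ := exists_involution h2
    (E := bsum e (1 : Matrix (Fin a ⊕ Fin a) (Fin a ⊕ Fin a) F) 0)
    (by rw [IsIdempotentElem, bsum_mul, one_mul, zero_mul]) (by rw [bsum_st, st_one, st_zero])
    (fun h => by
      have h1 := (bsum_inj e (h.trans (show (0 : Matrix _ _ F) = bsum e 0 0 by simp [bsum, fromBlocks_zero]))).1
      have := congrFun (congrFun h1 (Sum.inl ⟨0, by omega⟩)) (Sum.inl ⟨0, by omega⟩)
      simp at this)
    (fun h => by
      have h1 := (bsum_inj e (h.trans (bsum_one e).symm)).2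
      have := congrFun (congrFun h1 (Sum.inl ⟨0, by omega⟩)) (Sum.inl ⟨0, by omega⟩)
      simp at this)
  exact Absorb.exists_dvd_of_commute Nat.prime_two (hc ⟨_, hmem⟩ (by
    rw [Commute, SemiconjBy, bsum_mul, bsum_mul, one_mul, zero_mul, mul_one, mul_zero])) ht

end Sums

end Cfsg.Lib.Linear.AbsorbPSp
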