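import Mathlib
import Cfsg.Prelude.Def_GeometricClasses

/-!
# Subgroups preserving a function: overgroups of decomposition stabilisers over tiny fields

For blocks with at most four elements, or one-dimensional blocks over the field of three elements,
the map adding to four coordinates their sum preserves the number of non-zero coordinates modulo
the characteristic.
-/

set_option autoImplicit false

namespace Cfsg.Lib.Linear.Weight

open Module
open scoped Matrix

variable {ι : Type} [Fintype ι] [DecidableEq ι] {F : Type*} [Field F]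

/-- The invertible matrices preserving a function. -/
def preserving {α : Type*} (N : (ι → F) → α) : Subgroup (GL ι F) where
  carrier := {g | ∀ x, N (g.val *ᵥ x) = N x}
  mul_mem' {a b} ha hb x := by rw [Units.val_mul, ← Matrix.mulVec_mulVec, ha, hb]
  one_mem' x := by rw [Units.val_one, Matrix.one_mulVec]
  inv_mem' {a} ha x := by
    rw [← ha ((a⁻¹ : GL ι F).val *ᵥ x), Matrix.mulVec_mulVec, ← Units.val_mul, mul_inv_cancel,
      Units.val_one, Matrix.one_mulVec]

theorem mem_preserving {α : Type*} {N : (ι → F) → α} {g : GL ι F} :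
    g ∈ preserving N ↔ ∀ x, N (g.val *ᵥ x) = N x := Iff.rfl

/-- A linear automorphism as a matrix. -/
noncomputable def glOf (T : (ι → F) ≃ₗ[F] (ι → F)) : GL ι F :=
  ⟨LinearMap.toMatrix' T.toLinearMap, LinearMap.toMatrix' T.symm.toLinearMap,
    by rw [← LinearMap.toMatrix'_comp]; simp, by rw [← LinearMap.toMatrix'_comp]; simp⟩

theorem glOf_act (T : (ι → F) ≃ₗ[F] (ι → F)) (x : ι → F) : (glOf T).val *ᵥ x = T x :=
  LinearMap.toMatrix'_mulVec _ _

theorem glOf_mul (T S : (ι → F) ≃ₗ[F] (ι → F)) : glOf (S.trans T) = glOf T * glOf S :=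
  Units.ext (LinearMap.toMatrix'_comp _ _)

theorem glOf_refl : glOf (LinearEquiv.refl F (ι → F)) = 1 :=
  Units.ext (by simp [glOf])

/-- The square of an involution has determinant one. -/
theorem det_sq_of_invol (T : (ι → F) ≃ₗ[F] (ι → F)) (h : T.trans T = LinearEquiv.refl F _) :
    (glOf T).val.det * (glOf T).val.det = 1 := by
  rw [← Matrix.det_mul, ← Units.val_mul, ← glOf_mul, h, glOf_refl, Units.val_one, Matrix.det_one]

section Coords

variable {t m : ℕ} {D : Fin t → Submodule F (ι → F)}

/-- Coordinates adapted to a decomposition. -/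
theorem exists_coords (hD : Cfsg.Geo.IsMDecomposition m D) :
    ∃ φ : (Fin t → Fin m → F) ≃ₗ[F] (ι → F),
      ∀ x i, x ∈ D i ↔ ∀ l, l ≠ i → φ.symm x l = 0 := by
  classical
  let e : ∀ i, (Fin m → F) ≃ₗ[F] D i := fun i =>
    LinearEquiv.ofFinrankEq _ _ (by rw [finrank_fintype_fun_eq_card, Fintype.card_fin, hD.finrank_eq])
  let Φ : (Fin t → Fin m → F) →ₗ[F] (ι → F) :=
    ∑ i, (D i).subtype ∘ₗ (e i).toLinearMap ∘ₗ LinearMap.proj i
  have hΦ : ∀ y, Φ y = ∑ i, ((e i (y i) : D i) : ι → F) := fun y => by simp [Φ]
  have hsingle : ∀ i a, Φ (Pi.single i a) = ((e i a : D i) : ι → F) := fun i a => by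
    rw [hΦ, Finset.sum_eq_single i (fun l _ hl => by rw [Pi.single_eq_of_ne hl, map_zero]; rfl)
      (fun h => absurd (Finset.mem_univ i) h), Pi.single_eq_same]
  have hsurj : Function.Surjective Φ := by
    rw [← LinearMap.range_eq_top, eq_top_iff, ← hD.iSup_eq_top]
    exact iSup_le fun i x hx => ⟨Pi.single i ((e i).symm ⟨x, hx⟩), by simp [hsingle]⟩
  have hint := DirectSum.isInternal_submodule_of_iSupIndep_of_iSup_eq_top hD.indep hD.iSup_eq_top
  have hdim := (LinearEquiv.ofBijective (DirectSum.coeLinearMap D) hint).finrank_eq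
  rw [Module.finrank_directSum] at hdim
  simp only [hD.finrank_eq] at hdim
  have hinj : Function.Injective Φ := (LinearMap.injective_iff_surjective_of_finrank_eq_finrank
    (by rw [Module.finrank_pi_fintype, ← hdim]; simp [finrank_fintype_fun_eq_card])).mpr hsurj
  have hbij : Function.Bijective Φ := ⟨hinj, hsurj⟩
  set ψ := LinearEquiv.ofBijective Φ hbij
  have hψ : ∀ y, ψ y = Φ y := fun y => rfl
  refine ⟨ψ, fun x i => ⟨fun hx l hl => ?_, fun h => ?_⟩⟩
  · have hs : ψ.symm x = Pi.single i ((e i).symm ⟨x, hx⟩) := by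
      rw [LinearEquiv.symm_apply_eq, hψ, hsingle, LinearEquiv.apply_symm_apply]
    rw [hs, Pi.single_eq_of_ne hl]
  · rw [← ψ.apply_symm_apply x, hψ, hΦ]
    refine Submodule.sum_mem _ fun l _ => ?_
    by_cases hl : l = i
    · subst hl; exact (e l _).2
    · rw [h l hl, map_zero]
      exact (D i).zero_mem

variable (φ : (Fin t → Fin m → F) ≃ₗ[F] (ι → F))
  (hφ : ∀ x i, x ∈ D i ↔ ∀ l, l ≠ i → φ.symm x l = 0)

include hφ

theorem single_mem (i : Fin t) (a : Fin m → F) : φ (Pi.single i a) ∈ D i :=
  (hφ _ _).mpr fun l hl => by rw [φ.symm_apply_apply, Pi.single_eq_of_ne hl]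

/-- An element permuting the blocks sends coordinates to coordinates. -/
theorem stab_coords {g : GL ι F} (hg : g ∈ Cfsg.Geo.decompositionStabilizer D) :
    ∃ σ : Equiv.Perm (Fin t), ∀ y i, φ.symm (g.val *ᵥ φ y) (σ i) =
        φ.symm (g.val *ᵥ φ (Pi.single i (y i))) (σ i) ∧
      (φ.symm (g.val *ᵥ φ y) (σ i) = 0 ↔ y i = 0) := by
  obtain ⟨σ, hσ⟩ := hg
  refine ⟨σ, fun y i => ?_⟩
  have hmem : ∀ l a, g.val *ᵥ φ (Pi.single l a) ∈ D (σ l) := fun l a => by
    rw [← hσ l]
    exact ⟨_, single_mem φ hφ l a, by rw [Matrix.toLin'_apply]⟩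
  have h1 : φ.symm (g.val *ᵥ φ y) (σ i) = φ.symm (g.val *ᵥ φ (Pi.single i (y i))) (σ i) := by
    conv_lhs => rw [← Finset.univ_sum_single y, map_sum, Matrix.mulVec_sum, map_sum,
      Finset.sum_apply]
    exact Finset.sum_eq_single i
      (fun l _ hl => (hφ _ _).mp (hmem l (y l)) (σ i) (fun h => hl (σ.injective h).symm))
      (fun h => absurd (Finset.mem_univ i) h)
  refine ⟨h1, ?_⟩
  rw [h1]
  constructor
  · intro h
    have h2 : φ.symm (g.val *ᵥ φ (Pi.single i (y i))) = 0 := funext fun l => by
      by_cases hl : l = σ i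
      · rw [hl, h]; rfl
      · exact (hφ _ _).mp (hmem i (y i)) l hl
    rw [LinearEquiv.map_eq_zero_iff] at h2
    have h3 := congrArg (fun v => (g⁻¹ : GL ι F).val *ᵥ v) h2
    simp only [Matrix.mulVec_mulVec, ← Units.val_mul, inv_mul_cancel, Units.val_one,
      Matrix.one_mulVec, Matrix.mulVec_zero, LinearEquiv.map_eq_zero_iff, Pi.single_eq_zero_iff]
      at h3
    exact h3
  · intro h
    rw [h, Pi.single_zero, map_zero, Matrix.mulVec_zero, map_zero]
    rfl

end Coords

section Spread

variable {t : ℕ} {U : Type*} [AddCommGroup U] [Module F U]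

/-- Add to the coordinates in `S` their sum. -/
def spread (S : Finset (Fin t)) : (Fin t → U) →ₗ[F] (Fin t → U) where
  toFun y i := if i ∈ S then y i + ∑ l ∈ S, y l else y i
  map_add' y z := funext fun i => by
    by_cases h : i ∈ S
    · simp [h, Finset.sum_add_distrib]; abel
    · simp [h]
  map_smul' c y := funext fun i => by
    by_cases h : i ∈ S <;> simp [h, Finset.smul_sum, smul_add]

theorem spread_invol (S : Finset (Fin t)) (h : ((S.card + 2 : ℕ) : F) = 0) (y : Fin t → U) :
    spread (F := F) S (spread (F := F) S y) = y := by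
  funext i
  by_cases hi : i ∈ S
  swap
  · simp [spread, hi]
  have hsum : ∑ l ∈ S, spread (F := F) S y l = ((S.card : F) + 1) • ∑ l ∈ S, y l := by
    rw [Finset.sum_congr rfl (g := fun l => y l + ∑ j ∈ S, y j) fun l hl => by simp [spread, hl],
      Finset.sum_add_distrib, Finset.sum_const, ← Nat.cast_smul_eq_nsmul F, add_smul, one_smul,
      add_comm]
  show (if i ∈ S then _ else _) = _
  rw [if_pos hi, hsum, show spread (F := F) S y i = y i + ∑ l ∈ S, y l by simp [spread, hi]]
  have h2 : (1 : F) + ((S.card : F) + 1) = 0 := by push_cast at h; linear_combination h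
  rw [add_assoc, show (∑ l ∈ S, y l) + ((S.card : F) + 1) • ∑ l ∈ S, y l
    = ((1 : F) + ((S.card : F) + 1)) • ∑ l ∈ S, y l by rw [add_smul (1 : F), one_smul],
    h2, zero_smul, add_zero]

open Classical in
/-- The indicator of the non-zero elements. -/
noncomputable def ind (F : Type*) [Field F] {U : Type*} [Zero U] (a : U) : F :=
  if a = 0 then 0 else 1

theorem ind_zero : ind F (0 : U) = 0 := by simp [ind]

theorem ind_ne {a : U} (h : a ≠ 0) : ind F a = 1 := by simp [ind, h]

/-- The indicator is quadratic on groups of order at most four and exponent two. -/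
theorem ind_cubic [Finite U] (h2 : (2 : F) = 0) (hU : Nat.card U ≤ 4) (a b c : U) :
    ind F (a + b + c) =
      ind F (a + b) + ind F (a + c) + ind F (b + c) + ind F a + ind F b + ind F c := by
  have hd : ∀ x : U, x + x = 0 := fun x => by rw [← two_smul F x, h2, zero_smul]
  by_cases ha : a = 0
  · subst ha
    simp only [zero_add, ind_zero]
    linear_combination (-(ind F b) - ind F c) * h2
  by_cases hb : b = 0
  · subst hb
    simp only [zero_add, add_zero, ind_zero]
    linear_combination (-(ind F a) - ind F c) * h2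
  by_cases hc : c = 0
  · subst hc
    simp only [add_zero, ind_zero]
    linear_combination (-(ind F a) - ind F b) * h2
  by_cases hab : a = b
  · subst hab
    rw [hd, zero_add, ind_zero]
    linear_combination (-(ind F (a + c)) - ind F a) * h2
  by_cases hac : a = c
  · subst hac
    rw [show a + b + a = b + (a + a) by abel, hd, add_zero, ind_zero, add_comm b a]
    linear_combination (-(ind F (a + b)) - ind F a) * h2
  by_cases hbc : b = c
  · subst hbc
    rw [add_assoc, hd, add_zero, ind_zero]
    linear_combination (-(ind F (a + b)) - ind F b) * h2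
  have key : a + b = c := by
    classical
    have := Fintype.ofFinite U
    by_contra hne
    have h5 : ({0, a, b, c, a + b} : Finset U).card = 5 := by
      have e1 : a + b ≠ 0 := fun h => hab (by rw [← add_zero a, ← hd b, ← add_assoc, h, zero_add])
      have e2 : a + b ≠ a := fun h => hb (add_eq_left.mp h)
      have e3 : a + b ≠ b := fun h => ha (add_eq_right.mp h)
      simp [Ne.symm ha, Ne.symm hb, Ne.symm hc, Ne.symm e1, hab, hac, hbc, Ne.symm e2, Ne.symm e3,
        Ne.symm hne]
    have := Finset.card_le_univ ({0, a, b, c, a + b} : Finset U)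
    rw [h5, ← Nat.card_eq_fintype_card] at this
    omega
  have k2 : a + c = b := by rw [← key, ← add_assoc, hd, zero_add]
  have k3 : b + c = a := by rw [← key, add_left_comm, hd, add_zero]
  rw [key, k2, k3, show c + c = 0 from hd c, ind_zero]
  linear_combination (-(ind F a) - ind F b - ind F c) * h2

theorem ind_four_two [Finite U] (h2 : (2 : F) = 0) (hU : Nat.card U ≤ 4) (a b c d : U) :
    ind F (a + (a + b + c + d)) + ind F (b + (a + b + c + d)) + ind F (c + (a + b + c + d)) +
        ind F (d + (a + b + c + d)) = ind F a + ind F b + ind F c + ind F d := by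
  have hd : ∀ x : U, x + x = 0 := fun x => by rw [← two_smul F x, h2, zero_smul]
  rw [show a + (a + b + c + d) = (a + a) + (b + c + d) by abel,
    show b + (a + b + c + d) = (b + b) + (a + c + d) by abel,
    show c + (a + b + c + d) = (c + c) + (a + b + d) by abel,
    show d + (a + b + c + d) = (d + d) + (a + b + c) by abel]
  simp only [hd, zero_add]
  rw [ind_cubic h2 hU b c d, ind_cubic h2 hU a c d, ind_cubic h2 hU a b d, ind_cubic h2 hU a b c]
  linear_combination (ind F (a + b) + ind F (a + c) + ind F (a + d) + ind F (b + c) + ind F (b + d) +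
    ind F (c + d) + ind F a + ind F b + ind F c + ind F d) * h2

theorem ind_four_three [Fintype F] (hF : Fintype.card F = 3) (a b c d : Fin 1 → F) :
    ind F (a + (a + b + c + d)) + ind F (b + (a + b + c + d)) + ind F (c + (a + b + c + d)) +
        ind F (d + (a + b + c + d)) = ind F a + ind F b + ind F c + ind F d := by
  have hind : ∀ x : Fin 1 → F, ind F x = x 0 ^ 2 := fun x => by
    by_cases hx : x = 0
    · simp [hx, ind_zero]
    · have h0 : x 0 ≠ 0 := fun h => hx (funext fun i => by rw [Subsingleton.elim i 0, h]; rfl)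
      rw [ind_ne hx]
      have := FiniteField.pow_card_sub_one_eq_one (x 0) h0
      rw [hF] at this
      exact this.symm
  have h3 : (3 : F) = 0 := by
    have := Nat.cast_card_eq_zero F
    rw [hF] at this
    exact_mod_cast this
  simp only [hind, Pi.add_apply]
  linear_combination (2 * (a 0 + b 0 + c 0 + d 0) ^ 2) * h3

end Spread

end Cfsg.Lib.Linear.Weight
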