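import Cfsg.Agent.Lib.Linear.OrthSplitMax
import Cfsg.Agent.Lib.Linear.WeightStab

/-!
# Decompositions whose blocks carry a canonical orthogonal frame

When every isometry between blocks is monomial in given orthogonal bases, the stabiliser of the
decomposition lies properly inside the stabiliser of the frame.
-/

set_option autoImplicit false

namespace Cfsg.Lib.Linear.Orth

open Module
open scoped Matrix

variable {ι : Type} [Fintype ι] [DecidableEq ι] {F : Type*} [Field F]
  {Q : (ι → F) → F} {B : LinearMap.BilinForm F (ι → F)} {t k : ℕ}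
  {D : Fin t → Submodule F (ι → F)}

/-- The number of frame vectors not perpendicular to `x`. -/
noncomputable def frameWt (B : LinearMap.BilinForm F (ι → F)) {κ : Type} [Fintype κ]
    (b : κ → ι → F) (x : ι → F) : ℕ := Nat.card {p : κ // B x (b p) ≠ 0}

theorem frameWt_act (C : Space Q B) {κ : Type} [Fintype κ] {b : κ → ι → F}
    (hne : ∀ p, Q (b p) ≠ 0) (h2 : (2 : F) ≠ 0) (ho : ∀ p r, p ≠ r → B (b p) (b r) = 0)
    {g : GL ι F} (hg : g ∈ isometryGroup F Q)
    (h : ∀ p, ∃ r, g.val *ᵥ b p ∈ Submodule.span F {b r}) :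
    g ∈ Weight.preserving (frameWt B b) := by
  classical
  choose π hπ using h
  have hμ : ∀ p, ∃ μ : F, μ ≠ 0 ∧ g.val *ᵥ b p = μ • b (π p) := fun p => by
    obtain ⟨μ, hμ⟩ := Submodule.mem_span_singleton.mp (hπ p)
    refine ⟨μ, fun h => act_ne_zero (fun h0 => hne p (by rw [h0, C.zero])) (by
      rw [← hμ, h, zero_smul] : g.val *ᵥ b p = 0), hμ.symm⟩
  have hinj : Function.Injective π := fun p r e => by
    by_contra hpr
    obtain ⟨μ, hμ0, hp⟩ := hμ p
    obtain ⟨ν, hν0, hr⟩ := hμ r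
    have h1 := C.B_act hg (b p) (b r)
    rw [ho p r hpr, hp, hr, e, map_smul, map_smul, LinearMap.smul_apply, C.self] at h1
    simp [hμ0, hν0, h2, hne] at h1
  intro x
  refine (Nat.card_congr ((Equiv.ofBijective π (Finite.injective_iff_bijective.mp hinj)).subtypeEquiv
    fun p => ?_)).symm
  obtain ⟨μ, hμ0, hp⟩ := hμ p
  rw [Equiv.ofBijective_apply, ← C.B_act hg x (b p), hp, map_smul, smul_eq_mul, mul_ne_zero_iff]
  exact ⟨fun h => h.2, fun h => ⟨hμ0, h⟩⟩

/-- The stabiliser of a decomposition with frames lies strictly below a proper subgroup of `Ω`. -/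
theorem frame_not_max [Finite F] (C : Space Q B) (h2 : (2 : F) ≠ 0) (ht : 5 ≤ t)
    (h5 : 5 ≤ Fintype.card ι) (hk : 2 ≤ k)
    (horth : ∀ i l, i ≠ l → ∀ u ∈ D i, ∀ w ∈ D l, B u w = 0)
    (b : Fin t → Fin k → ι → F) (hb : ∀ i j, b i j ∈ D i)
    (hbo : ∀ i j l, j ≠ l → B (b i j) (b i l) = 0) (c : Fin k → F) (hc : ∀ j, c j ≠ 0)
    (hQ : ∀ i j, Q (b i j) = c j)
    (hmono : ∀ i, ∀ v ∈ D i, ∀ j, Q v = c j → ∃ l, v ∈ Submodule.span F {b i l}) :
    ∃ K : Subgroup (GL ι F), Cfsg.Geo.decompositionStabilizer D ⊓ Cfsg.Geo.omegaGL Q < K ∧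
      K < Cfsg.Geo.omegaGL Q := by
  classical
  have hO := omegaGL_eq C h5
  set bb : Fin t × Fin k → ι → F := fun p => b p.1 p.2 with hbb
  have hne : ∀ p, Q (bb p) ≠ 0 := fun p => by
    show Q (b p.1 p.2) ≠ 0
    rw [hQ]
    exact hc _
  have ho : ∀ p r, p ≠ r → B (bb p) (bb r) = 0 := fun p r hpr => by
    by_cases h : p.1 = r.1
    · show B (b p.1 p.2) (b r.1 r.2) = 0
      rw [h]
      exact hbo _ _ _ fun h' => hpr (Prod.ext h h')
    · exact horth _ _ h _ (hb _ _) _ (hb _ _)
  have hno : ∀ i l, i ≠ l → ∀ j, b i j ∉ D l := fun i l h j hm => by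
    have := horth i l h _ (hb i j) _ hm
    rw [C.self, hQ] at this
    exact mul_ne_zero h2 (hc j) this
  let j0 : Fin k := ⟨0, by omega⟩
  let j1 : Fin k := ⟨1, by omega⟩
  let i0 : Fin t := ⟨0, by omega⟩
  let i1 : Fin t := ⟨1, by omega⟩
  let i2 : Fin t := ⟨2, by omega⟩
  let i3 : Fin t := ⟨3, by omega⟩
  let i4 : Fin t := ⟨4, by omega⟩
  have hcc : (4 : F) * c j0 ≠ 0 := by
    rw [show (4 : F) = 2 * 2 by ring]
    exact mul_ne_zero (mul_ne_zero h2 h2) (hc _)
  have hbb' : ∀ i l, i ≠ l → B (b i j0) (b l j0) = 0 := fun i l h => horth i l h _ (hb _ _) _ (hb _ _)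
  have hself : ∀ i, B (b i j0) (b i j0) = 2 * c j0 := fun i => by rw [C.self, hQ]
  refine ⟨Weight.preserving (frameWt B bb) ⊓ Cfsg.Geo.omegaGL Q, ?_, ?_⟩
  · refine lt_of_le_not_ge (fun g hg => ⟨?_, hg.2⟩) fun hle => ?_
    · have hgI : g ∈ isometryGroup F Q := root_le_iso C _ (hO ▸ hg.2)
      obtain ⟨σ, hσ⟩ := hg.1
      refine frameWt_act C hne h2 ho hgI fun p => ?_
      have hm : g.val *ᵥ bb p ∈ D (σ p.1) := by
        rw [← hσ]
        exact ⟨_, hb _ _, by rw [Matrix.toLin'_apply]⟩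
      obtain ⟨l, hl⟩ := hmono _ _ hm p.2 (by rw [mem_iso.mp hgI]; exact hQ _ _)
      exact ⟨(σ p.1, l), hl⟩
    -- exchange two pairs of frame vectors
    set p := b i0 j0 - b i1 j0 with hp
    set p' := b i2 j0 - b i3 j0 with hp'
    have hQd : ∀ i l, i ≠ l → Q (b i j0 - b l j0) = 2 * c j0 := fun i l h => by
      rw [sub_eq_add_neg, C.add, C.neg, hQ, hQ, map_neg, hbb' i l h]; ring
    have h01 : i0 ≠ i1 := by simp [i0, i1, Fin.ext_iff]
    have h23 : i2 ≠ i3 := by simp [i2, i3, Fin.ext_iff]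
    have hQp : Q p ≠ 0 := by rw [hp, hQd _ _ h01]; exact mul_ne_zero h2 (hc _)
    have hQp' : Q p' ≠ 0 := by rw [hp', hQd _ _ h23]; exact mul_ne_zero h2 (hc _)
    have hgΩ : rGL Q p * rGL Q p' ∈ Cfsg.Geo.omegaGL Q := by
      rw [hO, ← comm_eq_root C h5]
      exact rGL_mul_rGL_mem C h5 hQp (by rw [hp, hp', hQd _ _ h01, hQd _ _ h23])
    -- the action of a swap
    have hsw : ∀ i l, i ≠ l → ∀ q : Fin t × Fin k,
        (rGL Q (b i j0 - b l j0)).val *ᵥ bb q ∈ Submodule.span F
          {bb (if q = (i, j0) then (l, j0) else if q = (l, j0) then (i, j0) else q)} := by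
      intro i l h q
      have hQ0 : Q (b i j0 - b l j0) ≠ 0 := by rw [hQd i l h]; exact mul_ne_zero h2 (hc _)
      by_cases h1 : q = (i, j0)
      · rw [if_pos h1, h1, rGL_act C hQ0, hQd i l h]
        have : B (b i j0 - b l j0) (bb (i, j0)) = 2 * c j0 := by
          rw [map_sub, LinearMap.sub_apply]
          show B (b i j0) (b i j0) - B (b l j0) (b i j0) = _
          rw [hself, hbb' l i (Ne.symm h), sub_zero]
        rw [this, inv_mul_cancel₀ (mul_ne_zero h2 (hc _)), one_smul]
        show b i j0 - (b i j0 - b l j0) ∈ _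
        rw [sub_sub_cancel]
        exact Submodule.mem_span_singleton_self _
      by_cases h2' : q = (l, j0)
      · rw [if_neg h1, if_pos h2', h2', rGL_act C hQ0, hQd i l h]
        have : B (b i j0 - b l j0) (bb (l, j0)) = -(2 * c j0) := by
          rw [map_sub, LinearMap.sub_apply]
          show B (b i j0) (b l j0) - B (b l j0) (b l j0) = _
          rw [hself, hbb' i l h, zero_sub]
        rw [this, mul_neg, inv_mul_cancel₀ (mul_ne_zero h2 (hc _)), neg_one_smul, sub_neg_eq_add]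
        show b l j0 + (b i j0 - b l j0) ∈ _
        rw [add_sub_cancel]
        exact Submodule.mem_span_singleton_self _
      · rw [if_neg h1, if_neg h2', rGL_fix C hQ0]
        · exact Submodule.mem_span_singleton_self _
        · rw [map_sub, LinearMap.sub_apply]
          show B (bb (i, j0)) (bb q) - B (bb (l, j0)) (bb q) = 0
          rw [ho _ _ (Ne.symm h1), ho _ _ (Ne.symm h2'), sub_zero]
    have hgK : rGL Q p * rGL Q p' ∈ Weight.preserving (frameWt B bb) :=
      mul_mem (frameWt_act C hne h2 ho (rGL_mem C hQp) fun q => ⟨_, hsw _ _ h01 q⟩)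
        (frameWt_act C hne h2 ho (rGL_mem C hQp') fun q => ⟨_, hsw _ _ h23 q⟩)
    obtain ⟨σ, hσ⟩ := (hle ⟨hgK, hgΩ⟩).1
    have hfix : ∀ v, B p v = 0 → B p' v = 0 → (rGL Q p * rGL Q p').val *ᵥ v = v := fun v h h' => by
      rw [mul_act, rGL_fix C hQp' h', rGL_fix C hQp h]
    have hj : j0 ≠ j1 := by simp [j0, j1, Fin.ext_iff]
    have e1 : b i1 j0 ∈ D (σ i0) := by
      rw [← hσ]
      refine ⟨b i0 j0, hb _ _, ?_⟩
      rw [Matrix.toLin'_apply, mul_act, rGL_fix C hQp', rGL_act C hQp]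
      · rw [hp, hQd _ _ h01, map_sub, LinearMap.sub_apply, hself, hbb' _ _ (Ne.symm h01), sub_zero,
          inv_mul_cancel₀ (mul_ne_zero h2 (hc _)), one_smul, sub_sub_cancel]
      · rw [hp', map_sub, LinearMap.sub_apply, hbb' _ _ (by simp [i2, i0, Fin.ext_iff]),
          hbb' _ _ (by simp [i3, i0, Fin.ext_iff]), sub_zero]
    have e2 : b i0 j1 ∈ D (σ i0) := by
      rw [← hσ]
      refine ⟨b i0 j1, hb _ _, ?_⟩
      rw [Matrix.toLin'_apply, hfix]
      · rw [hp, map_sub, LinearMap.sub_apply, hbo _ _ _ hj,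
          horth _ _ (Ne.symm h01) _ (hb _ _) _ (hb _ _), sub_zero]
      · rw [hp', map_sub, LinearMap.sub_apply, horth _ _ (by simp [i2, i0, Fin.ext_iff]) _ (hb _ _) _ (hb _ _),
          horth _ _ (by simp [i3, i0, Fin.ext_iff]) _ (hb _ _) _ (hb _ _), sub_zero]
    by_cases h : σ i0 = i1
    · exact hno i0 i1 h01 j1 (h ▸ e2)
    · exact hno i1 (σ i0) (Ne.symm h) j0 e1
  · refine lt_of_le_not_ge inf_le_right fun hle => ?_
    set p := b i0 j0 + b i1 j0 + b i2 j0 + b i3 j0 with hp
    have o : ∀ {i l : Fin t}, (i : ℕ) ≠ l → B (b i j0) (b l j0) = 0 := fun h =>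
      hbb' _ _ fun e => h (by rw [e])
    have hQp : Q p = 4 * c j0 := by
      rw [hp, C.add, C.add, C.add, hQ, hQ, hQ, hQ]
      simp only [map_add, LinearMap.add_apply]
      rw [o (by simp [i0, i1]), o (by simp [i0, i2]), o (by simp [i1, i2]), o (by simp [i0, i3]),
        o (by simp [i1, i3]), o (by simp [i2, i3])]
      ring
    have hQq : Q ((2 : F) • b i4 j0) = 4 * c j0 := by rw [C.smul, hQ]; ring
    have hgΩ : rGL Q p * rGL Q ((2 : F) • b i4 j0) ∈ Cfsg.Geo.omegaGL Q := by
      rw [hO, ← comm_eq_root C h5]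
      exact rGL_mul_rGL_mem C h5 (by rwa [hQp]) (by rw [hQp, hQq])
    have hB : ∀ i : Fin t, (i : ℕ) < 4 → B p (b i j0) = 2 * c j0 := by
      intro i hi
      have hi' : i = i0 ∨ i = i1 ∨ i = i2 ∨ i = i3 := by
        simp only [i0, i1, i2, i3, Fin.ext_iff]; omega
      rw [hp]
      simp only [map_add, LinearMap.add_apply]
      rcases hi' with rfl | rfl | rfl | rfl
      · rw [hself, o (by simp [i0, i1]), o (by simp [i0, i2]), o (by simp [i0, i3])]; ring
      · rw [hself, o (by simp [i0, i1]), o (by simp [i1, i2]), o (by simp [i1, i3])]; ring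
      · rw [hself, o (by simp [i0, i2]), o (by simp [i1, i2]), o (by simp [i2, i3])]; ring
      · rw [hself, o (by simp [i0, i3]), o (by simp [i1, i3]), o (by simp [i2, i3])]; ring
    have hx : (rGL Q p * rGL Q ((2 : F) • b i4 j0)).val *ᵥ b i0 j0 = b i0 j0 - (2 : F)⁻¹ • p := by
      have hq0 : Q ((2 : F) • b i4 j0) ≠ 0 := by rwa [hQq]
      have hp0 : Q p ≠ 0 := by rwa [hQp]
      rw [mul_act, rGL_fix C hq0, rGL_act C hp0, hB i0 (by simp [i0]), hQp]
      · congr 2
        have h4 : (4 : F) ≠ 0 := left_ne_zero_of_mul hcc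
        have := hc j0
        rw [inv_mul_eq_iff_eq_mul₀ hcc]
        field_simp
        ring
      · rw [map_smul, LinearMap.smul_apply, o (by simp [i4, i0]), smul_zero]
    have hg := (hle hgΩ).1 (b i0 j0)
    rw [hx] at hg
    have h1 : frameWt B bb (b i0 j0) = 1 := by
      refine Nat.card_eq_one_iff_unique.mpr ⟨⟨fun u v => Subtype.ext ?_⟩, ⟨(i0, j0), ?_⟩⟩
      · have key : ∀ r, B (b i0 j0) (bb r) ≠ 0 → r = (i0, j0) := fun r hr => by
          by_contra hne'
          exact hr (ho (i0, j0) r (Ne.symm hne'))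
        rw [key _ u.2, key _ v.2]
      · show B (b i0 j0) (b i0 j0) ≠ 0
        rw [hself]; exact mul_ne_zero h2 (hc _)
    have hval : ∀ i : Fin t, (i : ℕ) < 4 → B (b i0 j0 - (2 : F)⁻¹ • p) (bb (i, j0)) ≠ 0 := by
      intro i hi
      show B (b i0 j0 - (2 : F)⁻¹ • p) (b i j0) ≠ 0
      rw [map_sub, LinearMap.sub_apply, map_smul, LinearMap.smul_apply, hB i hi, smul_eq_mul,
        inv_mul_cancel_left₀ h2]
      by_cases h : i = i0
      · rw [h, hself]
        intro h'
        exact hc j0 (by linear_combination h')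
      · rw [hbb' _ _ (Ne.symm h), zero_sub, neg_ne_zero]
        exact hc _
    rw [h1, frameWt, Nat.card_eq_one_iff_unique] at hg
    have := congrArg Subtype.val (@Subsingleton.elim _ hg.1
      (⟨(i0, j0), hval i0 (by simp [i0])⟩ : {r // B (b i0 j0 - (2 : F)⁻¹ • p) (bb r) ≠ 0})
      ⟨(i1, j0), hval i1 (by simp [i1])⟩)
    simp [i0, i1, Fin.ext_iff] at this

/-- An orthogonal basis of a non-degenerate subspace. -/
theorem exists_orth_basis (C : Space Q B) (h2 : (2 : F) ≠ 0) : ∀ (k : ℕ) (U : Submodule F (ι → F)),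
    NDeg B U → finrank F U = k → ∃ b : Fin k → ι → F, (∀ j, b j ∈ U) ∧ (∀ j, Q (b j) ≠ 0) ∧
      ∀ j l, j ≠ l → B (b j) (b l) = 0
  | 0, _, _, _ => ⟨Fin.elim0, fun j => j.elim0, fun j => j.elim0, fun j => j.elim0⟩
  | k + 1, U, hU, hk => by
    obtain ⟨n, hn, hQn⟩ := exists_nonsing C hU (fun h => by rw [h, finrank_bot] at hk; omega)
    set P := perpIn B U (Submodule.span F {n})
    have hnP : ∀ {v}, v ∈ P → B n v = 0 := fun hv => hv.2 n (Submodule.mem_span_singleton_self n)
    have h2n : (2 : F) * Q n ≠ 0 := mul_ne_zero h2 hQn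
    have hproj : ∀ y ∈ U, y - (B n y / (2 * Q n)) • n ∈ P := fun y hy =>
      ⟨U.sub_mem hy (U.smul_mem _ hn), fun a ha => by
        obtain ⟨r, rfl⟩ := Submodule.mem_span_singleton.mp ha
        have h0 : B n (y - (B n y / (2 * Q n)) • n) = 0 := by
          rw [map_sub, map_smul, C.self, smul_eq_mul, div_mul_cancel₀ _ h2n, sub_self]
        rw [map_smul, LinearMap.smul_apply, h0, smul_zero]⟩
    have hPnd : NDeg B P := fun v hv h => hU v hv.1 fun y hy => by
      have h1 := h _ (hproj y hy)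
      rw [map_sub, map_smul, C.symm v n, hnP hv, smul_zero, sub_zero] at h1
      exact h1
    have hn0 : n ≠ 0 := fun h => hQn (by rw [h, C.zero])
    have hsup : P ⊔ Submodule.span F {n} = U := by
      refine le_antisymm (sup_le (fun v hv => hv.1)
        ((Submodule.span_singleton_le_iff_mem _ _).mpr hn)) fun y hy => ?_
      rw [show y = (y - (B n y / (2 * Q n)) • n) + (B n y / (2 * Q n)) • n by abel]
      exact Submodule.add_mem_sup (hproj y hy)
        (Submodule.smul_mem _ _ (Submodule.mem_span_singleton_self n))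
    have hinf : P ⊓ Submodule.span F {n} = ⊥ := eq_bot_iff.mpr fun v hv => by
      obtain ⟨r, rfl⟩ := Submodule.mem_span_singleton.mp hv.2
      have h1 := hnP hv.1
      rw [map_smul, C.self, smul_eq_mul] at h1
      rw [(mul_eq_zero.mp h1).resolve_right h2n, zero_smul]
      exact Submodule.zero_mem _
    have hdim := Submodule.finrank_sup_add_finrank_inf_eq P (Submodule.span F {n})
    rw [hsup, hinf, finrank_bot, finrank_span_singleton hn0, hk] at hdim
    obtain ⟨b, hbP, hbQ, hbo⟩ := exists_orth_basis C h2 k P hPnd (by omega)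
    refine ⟨Fin.cons n b, fun j => ?_, fun j => ?_, fun j l h => ?_⟩
    · refine Fin.cases ?_ (fun j => ?_) j
      · exact hn
      · exact (hbP j).1
    · refine Fin.cases ?_ (fun j => ?_) j
      · exact hQn
      · exact hbQ j
    · obtain rfl | ⟨j, rfl⟩ := Fin.eq_zero_or_eq_succ j
      · obtain rfl | ⟨l, rfl⟩ := Fin.eq_zero_or_eq_succ l
        · exact absurd rfl h
        · exact hnP (hbP l)
      · obtain rfl | ⟨l, rfl⟩ := Fin.eq_zero_or_eq_succ l
        · show B (b j) n = 0
          rw [C.symm]; exact hnP (hbP j)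
        · exact hbo j l fun e => h (by rw [e])

/-- Coordinates in an orthogonal basis of a block. -/
theorem orth_coords (C : Space Q B) (h2 : (2 : F) ≠ 0) {U : Submodule F (ι → F)} {k : ℕ}
    (hk : finrank F U = k) {b : Fin k → ι → F} (hb : ∀ j, b j ∈ U) (hQ : ∀ j, Q (b j) ≠ 0)
    (ho : ∀ j l, j ≠ l → B (b j) (b l) = 0) {v : ι → F} (hv : v ∈ U) :
    ∃ a : Fin k → F, v = ∑ j, a j • b j ∧ Q v = ∑ j, a j ^ 2 * Q (b j) := by
  classical
  have hli : LinearIndependent F b := Fintype.linearIndependent_iff.mpr fun g hg j => by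
    have h1 := congrArg (fun z => B z (b j)) hg
    simp only [map_sum, map_smul, LinearMap.sum_apply, LinearMap.smul_apply, map_zero,
      LinearMap.zero_apply] at h1
    rw [Finset.sum_eq_single j (fun l _ hl => by rw [ho l j hl, smul_zero])
      (fun h => absurd (Finset.mem_univ j) h), C.self, smul_eq_mul] at h1
    exact (mul_eq_zero.mp h1).resolve_right (mul_ne_zero h2 (hQ j))
  have hspan : Submodule.span F (Set.range b) = U :=
    Submodule.eq_of_le_of_finrank_eq (Submodule.span_le.mpr (by rintro _ ⟨j, rfl⟩; exact hb j))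
      (by rw [finrank_span_eq_card hli, Fintype.card_fin, hk])
  obtain ⟨a, rfl⟩ := (Submodule.mem_span_range_iff_exists_fun F).mp (hspan ▸ hv)
  refine ⟨a, rfl, mul_left_cancel₀ h2 ?_⟩
  rw [← C.self, map_sum, Finset.mul_sum]
  refine Finset.sum_congr rfl fun j _ => ?_
  rw [map_sum, LinearMap.sum_apply,
    Finset.sum_eq_single j (fun l _ hl => by simp [ho l j hl])
      (fun h => absurd (Finset.mem_univ j) h),
    map_smul, map_smul, LinearMap.smul_apply, C.self]
  simp only [smul_eq_mul]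
  ring

/-- Blocks of dimension two or three over the field with three elements. -/
theorem frame_not_max_three [Fintype F] (hq : Fintype.card F = 3) (C : Space Q B)
    (hn : 13 ≤ Fintype.card ι) (hk : k = 2 ∨ k = 3)
    (hD : Cfsg.Geo.IsOrthogonalMDecomposition Q k D) :
    ∃ K : Subgroup (GL ι F), Cfsg.Geo.decompositionStabilizer D ⊓ Cfsg.Geo.omegaGL Q < K ∧
      K < Cfsg.Geo.omegaGL Q := by
  classical
  have h3 : (3 : F) = 0 := by
    have := Nat.cast_card_eq_zero F
    rw [hq] at this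
    exact_mod_cast this
  have h2 : (2 : F) ≠ 0 := fun h => one_ne_zero (α := F) (by linear_combination h3 - h)
  have hsq : ∀ a : F, a ≠ 0 → a ^ 2 = 1 := fun a ha => by
    have := FiniteField.pow_card_sub_one_eq_one a ha
    rwa [hq] at this
  have hint := DirectSum.isInternal_submodule_of_iSupIndep_of_iSup_eq_top hD.decomp.decomp.indep
    hD.decomp.decomp.iSup_eq_top
  have hdim := (LinearEquiv.ofBijective (DirectSum.coeLinearMap D) hint).finrank_eq
  rw [Module.finrank_directSum] at hdim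
  simp only [hD.decomp.decomp.finrank_eq, Finset.sum_const, Finset.card_univ, Fintype.card_fin,
    smul_eq_mul, Module.finrank_fintype_fun_eq_card] at hdim
  have ht : 5 ≤ t := by rcases hk with rfl | rfl <;> omega
  let i0 : Fin t := ⟨0, by omega⟩
  have hnd : NDeg B (D i0) := ndeg_of_geo C (hD.decomp.nondegenerate i0)
  -- a basis of the first block
  obtain ⟨b0, hb0, hQ0, ho0, hcase⟩ : ∃ b0 : Fin k → ι → F, (∀ j, b0 j ∈ D i0) ∧
      (∀ j, Q (b0 j) ≠ 0) ∧ (∀ j l, j ≠ l → B (b0 j) (b0 l) = 0) ∧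
      (k = 2 ∨ ∀ j l, Q (b0 j) = Q (b0 l)) := by
    obtain ⟨b, hb, hQ, ho⟩ := exists_orth_basis C h2 k (D i0) hnd (hD.decomp.decomp.finrank_eq i0)
    rcases hk with rfl | rfl
    · exact ⟨b, hb, hQ, ho, Or.inl rfl⟩
    have pm : ∀ x y : F, x ≠ 0 → y ≠ 0 → x ≠ y → x = -y := fun x y hx hy hxy => by
      rcases sq_eq_sq_iff_eq_or_eq_neg.mp ((hsq x hx).trans (hsq y hy).symm) with h | h
      · exact absurd h hxy
      · exact h
    have make : ∀ x y z : Fin 3, x ≠ y → x ≠ z → y ≠ z → Q (b x) = Q (b y) → Q (b z) ≠ Q (b x) →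
        ∃ b0 : Fin 3 → ι → F, (∀ j, b0 j ∈ D i0) ∧ (∀ j, Q (b0 j) ≠ 0) ∧
          (∀ j l, j ≠ l → B (b0 j) (b0 l) = 0) ∧ ((3 : ℕ) = 2 ∨ ∀ j l, Q (b0 j) = Q (b0 l)) := by
      intro x y z hxy hxz hyz he hne
      have hz : Q (b z) = -Q (b x) := pm _ _ (hQ z) (hQ x) hne
      have hp : Q (b x + b y) = Q (b z) := by
        rw [C.add, ho x y hxy, ← he, hz]
        linear_combination Q (b x) * h3
      have hm : Q (b x - b y) = Q (b z) := by
        rw [sub_eq_add_neg, C.add, C.neg, map_neg, ho x y hxy, ← he, hz]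
        linear_combination Q (b x) * h3
      have hall : ∀ j : Fin 3, Q ((![b x + b y, b x - b y, b z] : Fin 3 → ι → F) j) = Q (b z) := by
        intro j; fin_cases j
        exacts [hp, hm, rfl]
      have o12 : B (b x + b y) (b x - b y) = 0 := by
        simp only [map_add, map_sub, LinearMap.add_apply, C.self, ho x y hxy, ho y x (Ne.symm hxy),
          he]
        ring
      have o1z : B (b x + b y) (b z) = 0 := by
        rw [map_add, LinearMap.add_apply, ho x z hxz, ho y z hyz, add_zero]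
      have o2z : B (b x - b y) (b z) = 0 := by
        rw [map_sub, LinearMap.sub_apply, ho x z hxz, ho y z hyz, sub_zero]
      refine ⟨![b x + b y, b x - b y, b z], fun j => ?_, fun j => by rw [hall]; exact hQ z,
        fun j l h => ?_, Or.inr fun j l => by rw [hall, hall]⟩
      · fin_cases j
        exacts [(D i0).add_mem (hb x) (hb y), (D i0).sub_mem (hb x) (hb y), hb z]
      · fin_cases j <;> fin_cases l
        exacts [absurd rfl h, o12, o1z, (C.symm _ _).trans o12, absurd rfl h, o2z,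
          (C.symm _ _).trans o1z, (C.symm _ _).trans o2z, absurd rfl h]
    by_cases h01 : Q (b 0) = Q (b 1)
    · by_cases h02 : Q (b 2) = Q (b 0)
      · refine ⟨b, hb, hQ, ho, Or.inr fun j l => ?_⟩
        have : ∀ j, Q (b j) = Q (b 0) := fun j => by fin_cases j; exacts [rfl, h01.symm, h02]
        rw [this j, this l]
      · exact make 0 1 2 (by decide) (by decide) (by decide) h01 h02
    · by_cases h02 : Q (b 0) = Q (b 2)
      · exact make 0 2 1 (by decide) (by decide) (by decide) h02 (Ne.symm h01)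
      · refine make 1 2 0 (by decide) (by decide) (by decide) ?_ h01
        rw [pm _ _ (hQ 1) (hQ 0) (Ne.symm h01), pm _ _ (hQ 2) (hQ 0) (Ne.symm h02)]
  choose e he using fun i => hD.isometric i0 i
  let b : Fin t → Fin k → ι → F := fun i j => ((e i ⟨b0 j, hb0 j⟩ : D i) : ι → F)
  have hQb : ∀ i j, Q (b i j) = Q (b0 j) := fun i j => he i ⟨b0 j, hb0 j⟩
  have hob : ∀ i j l, j ≠ l → B (b i j) (b i l) = 0 := fun i j l h => by
    have h1 := he i (⟨b0 j, hb0 j⟩ + ⟨b0 l, hb0 l⟩)
    rw [map_add, Submodule.coe_add, Submodule.coe_add, C.add, C.add] at h1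
    have h2' := hQb i j
    have h3' := hQb i l
    simp only [b] at h1 h2' h3' ⊢
    rw [h2', h3', ho0 j l h] at h1
    simpa using h1
  refine frame_not_max C h2 ht (by omega) (by omega)
    (fun i l h u hu w hw => by rw [← C.polar]; exact hD.decomp.orthogonal i l h u hu w hw)
    b (fun i j => (e i ⟨b0 j, hb0 j⟩).2) hob (fun j => Q (b0 j)) hQ0 hQb fun i v hv j hQv => ?_
  obtain ⟨a, rfl, hQa⟩ := orth_coords C h2 (hD.decomp.decomp.finrank_eq i)
    (fun l => (e i ⟨b0 l, hb0 l⟩).2) (fun l => by rw [hQb]; exact hQ0 l) (hob i) hv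
  rw [hQa] at hQv
  simp only [he] at hQv
  suffices h : ∃ l, ∀ r, r ≠ l → a r = 0 by
    obtain ⟨l, hl⟩ := h
    refine ⟨l, ?_⟩
    rw [Finset.sum_eq_single l (fun r _ hr => by rw [hl r hr, zero_smul])
      (fun h => absurd (Finset.mem_univ l) h)]
    exact Submodule.smul_mem _ _ (Submodule.mem_span_singleton_self _)
  by_contra hcon
  push Not at hcon
  obtain ⟨r1, -, ha1⟩ := hcon j
  obtain ⟨r2, hr2, ha2⟩ := hcon r1
  have hsum : ∀ r, a r ^ 2 * Q (b0 r) = if a r = 0 then 0 else Q (b0 r) := fun r => by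
    by_cases h : a r = 0
    · simp [h]
    · simp [h, hsq _ h]
  simp only [hsum] at hQv
  rcases hk with rfl | rfl
  · have : ∀ r, a r ≠ 0 := fun r => by
      fin_cases r <;> fin_cases r1 <;> fin_cases r2 <;>
        first | exact ha1 | exact ha2 | exact absurd rfl hr2
    rw [Fin.sum_univ_two, if_neg (this 0), if_neg (this 1)] at hQv
    fin_cases j
    · exact hQ0 1 (add_eq_left.mp hQv)
    · exact hQ0 0 (add_eq_right.mp hQv)
  · have hc := hcase.resolve_left (by decide)
    simp only [hc _ j] at hQv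
    rw [Fin.sum_univ_three] at hQv
    have hj := hQ0 j
    by_cases g0 : a 0 = 0 <;> by_cases g1 : a 1 = 0 <;> by_cases g2 : a 2 = 0 <;>
      simp only [g0, g1, g2, if_true, if_false, zero_add, add_zero] at hQv
    all_goals first
      | exact hj hQv.symm
      | exact hj (by linear_combination hQv)
      | exact hj (by linear_combination Q (b0 j) * h3 - hQv)
      | exact hj (by linear_combination -hQv)
      | (fin_cases r1 <;> fin_cases r2 <;>
          first | exact ha1 g0 | exact ha1 g1 | exact ha1 g2 | exact ha2 g0 | exact ha2 g1 |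
            exact ha2 g2 | exact hr2 rfl)

end Cfsg.Lib.Linear.Orth
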