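import Mathlib

/-!
# Orthogonal bases of symmetric forms over finite fields of odd characteristic
-/

set_option autoImplicit false

namespace Cfsg.Lib.Linear.Forms

open Module

variable {F V : Type*} [Field F] [Finite F] [AddCommGroup V] [Module F V] [FiniteDimensional F V]

/-- A non-degenerate subspace has an orthogonal basis with all values but the last equal to one. -/
theorem exists_normal_family (h2 : (2 : F) ≠ 0) (B : LinearMap.BilinForm F V)
    (hS : ∀ x y, B x y = B y x) (α : F) (hα : ¬ IsSquare α) : ∀ (n : ℕ) (U : Submodule F V),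
    (∀ x ∈ U, (∀ y ∈ U, B x y = 0) → x = 0) → finrank F U = n + 1 →
      ∃ b : Fin (n + 1) → V, (∀ i, b i ∈ U) ∧ (∀ i j, i ≠ j → B (b i) (b j) = 0) ∧
        (∀ i, i ≠ Fin.last n → B (b i) (b i) = 1) ∧
        (B (b (Fin.last n)) (b (Fin.last n)) = 1 ∨ B (b (Fin.last n)) (b (Fin.last n)) = α) := by
  classical
  have := Fintype.ofFinite F
  have hchar : ringChar F ≠ 2 := fun h => h2 (by
    haveI := ringChar.charP F
    have := CharP.cast_eq_zero F (ringChar F)
    rw [h] at this
    exact_mod_cast this)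
  have hα0 : α ≠ 0 := fun h => hα (h ▸ ⟨0, (mul_zero 0).symm⟩)
  have aniso : ∀ U : Submodule F V, (∀ x ∈ U, (∀ y ∈ U, B x y = 0) → x = 0) → U ≠ ⊥ →
      ∃ v ∈ U, B v v ≠ 0 := by
    intro U hU hne
    by_contra h
    push Not at h
    obtain ⟨x, hx, hx0⟩ := Submodule.exists_mem_ne_zero_of_ne_bot hne
    refine hx0 (hU x hx fun y hy => ?_)
    have h1 := h _ (U.add_mem hx hy)
    rw [map_add, map_add, LinearMap.add_apply, LinearMap.add_apply, h x hx, h y hy, hS y x,
      zero_add, add_zero, ← two_mul] at h1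
    exact (mul_eq_zero.mp h1).resolve_left h2
  -- the part perpendicular to an anisotropic vector
  have cut : ∀ (U : Submodule F V) (v : V), (∀ x ∈ U, (∀ y ∈ U, B x y = 0) → x = 0) → v ∈ U →
      B v v ≠ 0 → (∀ x ∈ U ⊓ LinearMap.ker (B v), (∀ y ∈ U ⊓ LinearMap.ker (B v), B x y = 0) →
        x = 0) ∧ finrank F U = finrank F ↥(U ⊓ LinearMap.ker (B v)) + 1 := by
    intro U v hU hv hvv
    have proj : ∀ y ∈ U, y - (B v y / B v v) • v ∈ U ⊓ LinearMap.ker (B v) := fun y hy =>
      Submodule.mem_inf.mpr ⟨U.sub_mem hy (U.smul_mem _ hv), LinearMap.mem_ker.mpr (by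
        rw [map_sub, map_smul, smul_eq_mul, div_mul_cancel₀ _ hvv, sub_self])⟩
    refine ⟨fun x hx h => hU x hx.1 fun y hy => ?_, ?_⟩
    · have h1 := h _ (proj y hy)
      rw [map_sub, map_smul, hS x v, LinearMap.mem_ker.mp hx.2, smul_zero, sub_zero] at h1
      exact h1
    · have hsup : (U ⊓ LinearMap.ker (B v)) ⊔ Submodule.span F {v} = U := by
        refine le_antisymm (sup_le inf_le_left ((Submodule.span_singleton_le_iff_mem _ _).mpr hv))
          fun y hy => ?_
        rw [show y = (y - (B v y / B v v) • v) + (B v y / B v v) • v by abel]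
        exact Submodule.add_mem_sup (proj y hy)
          (Submodule.smul_mem _ _ (Submodule.mem_span_singleton_self v))
      have hinf : (U ⊓ LinearMap.ker (B v)) ⊓ Submodule.span F {v} = ⊥ :=
        eq_bot_iff.mpr fun y hy => by
          obtain ⟨c, rfl⟩ := Submodule.mem_span_singleton.mp hy.2
          have h1 := LinearMap.mem_ker.mp hy.1.2
          rw [map_smul, smul_eq_mul] at h1
          rw [(mul_eq_zero.mp h1).resolve_right hvv, zero_smul]
          exact Submodule.zero_mem _
      have h1 := Submodule.finrank_sup_add_finrank_inf_eq (U ⊓ LinearMap.ker (B v))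
        (Submodule.span F {v})
      rw [hsup, hinf, finrank_bot, finrank_span_singleton (fun h => hvv (by simp [h]))] at h1
      omega
  intro n
  induction n with
  | zero =>
    intro U hU hn
    obtain ⟨v, hv, hvv⟩ := aniso U hU (fun h => by rw [h, finrank_bot] at hn; omega)
    obtain ⟨c, hc, hval⟩ : ∃ c : F, c ≠ 0 ∧ (c * c * B v v = 1 ∨ c * c * B v v = α) := by
      by_cases hs : IsSquare (B v v)
      · obtain ⟨r, hr⟩ := hs
        have hr0 : r ≠ 0 := fun h => hvv (by rw [hr, h, mul_zero])
        exact ⟨r⁻¹, inv_ne_zero hr0, Or.inl (by rw [hr]; field_simp)⟩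
      · have hsq : IsSquare (α / B v v) := by
          rw [← quadraticChar_one_iff_isSquare (div_ne_zero hα0 hvv), div_eq_mul_inv, map_mul,
            quadraticChar_neg_one_iff_not_isSquare.mpr hα,
            quadraticChar_neg_one_iff_not_isSquare.mpr (by rwa [isSquare_inv])]
          norm_num
        obtain ⟨r, hr⟩ := hsq
        refine ⟨r, fun h => div_ne_zero hα0 hvv (by rw [hr, h, mul_zero]), Or.inr ?_⟩
        rw [← hr, div_mul_cancel₀ _ hvv]
    refine ⟨fun _ => c • v, fun _ => U.smul_mem _ hv, fun i j h => absurd (Fin.ext (by omega)) h,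
      fun i h => absurd (Fin.ext (by simp only [Fin.val_last]; omega)) h, ?_⟩
    simp only [map_smul, LinearMap.smul_apply, smul_eq_mul, ← mul_assoc]
    exact hval
  | succ n ih =>
    intro U hU hn
    obtain ⟨v, hv, hvv⟩ := aniso U hU (fun h => by rw [h, finrank_bot] at hn; omega)
    obtain ⟨hU1, hd1⟩ := cut U v hU hv hvv
    obtain ⟨w, hw, hww⟩ := aniso _ hU1 (fun h => by rw [h, finrank_bot] at hd1; omega)
    obtain ⟨a, c, hac⟩ := FiniteField.exists_root_sum_quadratic
      (f := Polynomial.C (B v v) * Polynomial.X ^ 2)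
      (g := Polynomial.C (B w w) * Polynomial.X ^ 2 + Polynomial.C (-1))
      (Polynomial.degree_C_mul_X_pow 2 hvv)
      (by
        rw [Polynomial.degree_add_eq_left_of_degree_lt] <;> rw [Polynomial.degree_C_mul_X_pow 2 hww]
        · rfl
        · exact lt_of_le_of_lt Polynomial.degree_C_le (by norm_num))
      (FiniteField.odd_card_of_char_ne_two hchar)
    simp only [Polynomial.eval_mul, Polynomial.eval_C, Polynomial.eval_pow, Polynomial.eval_X,
      Polynomial.eval_add] at hac
    set e := a • v + c • w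
    have he : e ∈ U := U.add_mem (U.smul_mem _ hv) (U.smul_mem _ hw.1)
    have hee : B e e = 1 := by
      have hvw : B v w = 0 := LinearMap.mem_ker.mp hw.2
      simp only [e, map_add, map_smul, LinearMap.add_apply, LinearMap.smul_apply, smul_eq_mul,
        hS w v, hvw]
      linear_combination hac
    obtain ⟨hU2, hd2⟩ := cut U e hU he (by rw [hee]; exact one_ne_zero)
    obtain ⟨b, hb, hbo, hb1, hblast⟩ := ih _ hU2 (by omega)
    have heb : ∀ i, B e (b i) = 0 := fun i => LinearMap.mem_ker.mp (hb i).2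
    refine ⟨Fin.cons e b, fun i => ?_, fun i j h => ?_, fun i h => ?_, ?_⟩
    · refine Fin.cases ?_ (fun i => ?_) i
      · exact he
      · exact (hb i).1
    · obtain rfl | ⟨i, rfl⟩ := Fin.eq_zero_or_eq_succ i
      · obtain rfl | ⟨j, rfl⟩ := Fin.eq_zero_or_eq_succ j
        · exact absurd rfl h
        · simpa using heb j
      · obtain rfl | ⟨j, rfl⟩ := Fin.eq_zero_or_eq_succ j
        · simpa [hS] using heb i
        · simpa using hbo i j fun e' => h (by rw [e'])
    · obtain rfl | ⟨i, rfl⟩ := Fin.eq_zero_or_eq_succ i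
      · simpa using hee
      · simpa using hb1 i fun e' => h (by rw [e', Fin.succ_last])
    · simpa [← Fin.succ_last] using hblast

/-- An orthogonal basis with all values but the last equal to one. -/
theorem exists_normal_basis (h2 : (2 : F) ≠ 0) (B : LinearMap.BilinForm F V)
    (hS : ∀ x y, B x y = B y x) (hB : ∀ x, (∀ y, B x y = 0) → x = 0) {n : ℕ}
    (hn : finrank F V = n + 1) (α : F) (hα : ¬ IsSquare α) :
    ∃ b : Module.Basis (Fin (n + 1)) F V, (∀ i j, i ≠ j → B (b i) (b j) = 0) ∧
      (∀ i, i ≠ Fin.last n → B (b i) (b i) = 1) ∧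
      (B (b (Fin.last n)) (b (Fin.last n)) = 1 ∨ B (b (Fin.last n)) (b (Fin.last n)) = α) := by
  obtain ⟨b, -, ho, h1, hl⟩ := exists_normal_family h2 B hS α hα n ⊤
    (fun x _ h => hB x fun y => h y trivial) (by rw [finrank_top, hn])
  have hα0 : α ≠ 0 := fun h => hα (h ▸ ⟨0, (mul_zero 0).symm⟩)
  have hne : ∀ i, B (b i) (b i) ≠ 0 := fun i => by
    by_cases hi : i = Fin.last n
    · subst hi
      rcases hl with h | h <;> rw [h]
      exacts [one_ne_zero, hα0]
    · rw [h1 i hi]; exact one_ne_zero
  have hli : LinearIndependent F b := Fintype.linearIndependent_iff.mpr fun g hg i => by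
    have h := congrArg (fun z => B z (b i)) hg
    simp only [map_sum, map_smul, LinearMap.sum_apply, LinearMap.smul_apply, map_zero,
      LinearMap.zero_apply] at h
    rw [Finset.sum_eq_single i (fun j _ hj => by rw [ho j i hj, smul_zero])
      (fun h' => absurd (Finset.mem_univ i) h'), smul_eq_mul] at h
    exact (mul_eq_zero.mp h).resolve_right (hne i)
  refine ⟨basisOfLinearIndependentOfCardEqFinrank hli (by rw [Fintype.card_fin, hn]), ?_, ?_, ?_⟩ <;>
    simp only [coe_basisOfLinearIndependentOfCardEqFinrank]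
  exacts [ho, h1, hl]

end Cfsg.Lib.Linear.Forms
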