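import Cfsg.Agent.Lib.Linear.FormsNormal
import Cfsg.Agent.S0759

/-!
# Half-dimensional totally isotropic subspaces and the discriminant

In odd characteristic a symmetric form of dimension `2N` has a totally isotropic subspace of
dimension `N` exactly when `(-1)^N` times its discriminant is a square.
-/

set_option autoImplicit false

namespace Cfsg.Lib.Linear.Forms

open Module
open scoped Matrix

variable {F V : Type*} [Field F] [AddCommGroup V] [Module F V] [FiniteDimensional F V]

/-- A half-dimensional totally isotropic subspace makes the signed discriminant a square. -/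
theorem half_disc (B : LinearMap.BilinForm F V) (hS : ∀ x y, B x y = B y x) {N : ℕ}
    (hV : finrank F V = 2 * N) (W : Submodule F V) (hWd : finrank F W = N)
    (hW : ∀ x ∈ W, ∀ y ∈ W, B x y = 0) {ι : Type*} [Fintype ι] [DecidableEq ι]
    (b : Basis ι F V) : IsSquare ((-1) ^ N * (LinearMap.BilinForm.toMatrix b B).det) := by
  classical
  obtain ⟨W', hW'⟩ := Submodule.exists_isCompl W
  have hd' : finrank F W' = N := by
    have := Submodule.finrank_add_eq_of_isCompl hW'
    omega
  let c : Basis (Fin N ⊕ Fin N) F V :=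
    ((finBasisOfFinrankEq F W hWd).prod (finBasisOfFinrankEq F W' hd')).map
      (Submodule.prodEquivOfIsCompl W W' hW')
  obtain ⟨b', hb'det⟩ : ∃ b' : Basis (Fin N ⊕ Fin N) F V,
      (LinearMap.BilinForm.toMatrix b' B).det = (LinearMap.BilinForm.toMatrix b B).det := by
    have e : ι ≃ Fin N ⊕ Fin N := Fintype.equivOfCardEq (by
      rw [← Module.finrank_eq_card_basis b, hV]; simp [two_mul])
    refine ⟨b.reindex e, ?_⟩
    have : LinearMap.BilinForm.toMatrix (b.reindex e) B =
        (LinearMap.BilinForm.toMatrix b B).submatrix e.symm e.symm := by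
      ext i j; simp
    rw [this, Matrix.det_submatrix_equiv_self]
  obtain ⟨G, hG⟩ : ∃ G, G = LinearMap.BilinForm.toMatrix c B := ⟨_, rfl⟩
  have hcW : ∀ i, c (Sum.inl i) ∈ W := fun i => by simp [c]
  obtain ⟨J, hJ⟩ : ∃ J : Matrix (Fin N ⊕ Fin N) (Fin N ⊕ Fin N) F,
      J = Matrix.fromBlocks 0 1 1 0 := ⟨_, rfl⟩
  have hJdet : J.det = (-1) ^ N := by
    have h1 : J * Matrix.fromBlocks 1 0 1 1 = Matrix.fromBlocks 1 1 1 0 := by
      rw [hJ, Matrix.fromBlocks_multiply]; simp
    have h2 := congrArg Matrix.det h1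
    rw [Matrix.det_mul, Matrix.det_fromBlocks_one₁₁, Matrix.det_fromBlocks_one₁₁] at h2
    simpa [Matrix.det_neg] using h2
  have hblock : G * J = Matrix.fromBlocks G.toBlocks₁₂ 0 G.toBlocks₂₂ G.toBlocks₁₂ᵀ := by
    have h11 : G.toBlocks₁₁ = 0 := by
      ext i j
      show G (Sum.inl i) (Sum.inl j) = 0
      rw [hG, LinearMap.BilinForm.toMatrix_apply]
      exact hW _ (hcW i) _ (hcW j)
    have h21 : G.toBlocks₂₁ = G.toBlocks₁₂ᵀ := by
      ext i j
      show G (Sum.inr i) (Sum.inl j) = G (Sum.inl j) (Sum.inr i)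
      rw [hG, LinearMap.BilinForm.toMatrix_apply, LinearMap.BilinForm.toMatrix_apply, hS]
    conv_lhs => rw [← Matrix.fromBlocks_toBlocks G, h11, h21]
    rw [hJ, Matrix.fromBlocks_multiply]
    simp
  have h := congrArg Matrix.det hblock
  rw [Matrix.det_fromBlocks_zero₁₂, Matrix.det_transpose, Matrix.det_mul, hJdet, hG,
    ← LinearMap.BilinForm.toMatrix_mul_basis_toMatrix (b := b') c B, Matrix.det_mul,
    Matrix.det_mul, Matrix.det_transpose, hb'det] at h
  have hP : (b'.toMatrix c).det ≠ 0 := fun h0 => by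
    have := congrArg Matrix.det (b'.toMatrix_mul_toMatrix_flip c)
    rw [Matrix.det_mul, h0, Matrix.det_one, zero_mul] at this
    exact zero_ne_one this
  refine ⟨(LinearMap.BilinForm.toMatrix c B).toBlocks₁₂.det / (b'.toMatrix c).det, ?_⟩
  rw [div_mul_div_comm, eq_div_iff (mul_ne_zero hP hP)]
  rw [← LinearMap.BilinForm.toMatrix_mul_basis_toMatrix (b := b') c B]
  linear_combination h

variable [Finite F]

omit [FiniteDimensional F V] [Finite F] in
/-- Orthogonal vectors with non-zero values are independent. -/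
theorem orth_li (B : LinearMap.BilinForm F V) {κ : Type*} [Fintype κ] (v : κ → V)
    (ho : ∀ i j, i ≠ j → B (v i) (v j) = 0) (hne : ∀ i, B (v i) (v i) ≠ 0) :
    LinearIndependent F v := by
  classical
  refine Fintype.linearIndependent_iff.mpr fun g hg i => ?_
  have h := congrArg (fun z => B z (v i)) hg
  simp only [map_sum, map_smul, LinearMap.sum_apply, LinearMap.smul_apply, map_zero,
    LinearMap.zero_apply] at h
  rw [Finset.sum_eq_single i (fun j _ hj => by rw [ho j i hj, smul_zero])
    (fun h' => absurd (Finset.mem_univ i) h'), smul_eq_mul] at h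
  exact (mul_eq_zero.mp h).resolve_right (hne i)

/-- An orthonormal family of suitable size carries a half-dimensional isotropic subspace. -/
theorem half_of_orthonormal (h2 : (2 : F) ≠ 0) (B : LinearMap.BilinForm F V)
    (hS : ∀ x y, B x y = B y x) {K : ℕ} (hK : IsSquare ((-1 : F) ^ K)) (v : Fin (2 * K) → V)
    (ho : ∀ i j, i ≠ j → B (v i) (v j) = 0) (h1 : ∀ i, B (v i) (v i) = 1) :
    ∃ X : Submodule F V, finrank F X = K ∧ X ≤ Submodule.span F (Set.range v) ∧
      ∀ x ∈ X, ∀ y ∈ X, B x y = 0 := by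
  classical
  rcases Nat.eq_zero_or_pos K with rfl | hpos
  · exact ⟨⊥, by simp, bot_le, fun x hx y _ => by rw [(Submodule.mem_bot F).mp hx]; simp⟩
  have := Fintype.ofFinite F
  obtain ⟨W, hWd, hW⟩ := (Cfsg.Agent.S0759.result h2 K hpos).mpr fun ⟨hq, ho'⟩ => by
    rw [ho'.neg_one_pow] at hK
    exact FiniteField.isSquare_neg_one_iff.mp hK hq
  have hli := orth_li B v ho fun i => by rw [h1]; exact one_ne_zero
  let Φ := Fintype.linearCombination F v
  refine ⟨W.map Φ, ?_, ?_, ?_⟩
  · exact (Submodule.equivMapOfInjective _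
      (LinearMap.ker_eq_bot.mp (by
        rw [LinearMap.ker_eq_bot']
        intro g hg
        exact funext (Fintype.linearIndependent_iff.mp hli g hg))) W).finrank_eq.symm.trans hWd
  · rintro _ ⟨w, -, rfl⟩
    show ∑ i, w i • v i ∈ _
    exact Submodule.sum_mem _ fun i _ => Submodule.smul_mem _ _ (Submodule.subset_span ⟨i, rfl⟩)
  · rintro _ ⟨x, hx, rfl⟩ _ ⟨y, hy, rfl⟩
    show B (∑ i, x i • v i) (∑ i, y i • v i) = 0
    simp only [map_sum, map_smul, LinearMap.sum_apply, LinearMap.smul_apply, smul_eq_mul]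
    have hd : ∀ i, ∑ j, y i * (x j * B (v j) (v i)) = x i * y i := fun i => by
      rw [Finset.sum_eq_single i (fun j _ hj => by rw [ho j i hj, mul_zero, mul_zero])
        (fun h' => absurd (Finset.mem_univ i) h'), h1]
      ring
    simp only [Finset.mul_sum, hd]
    have h := hW _ (W.add_mem hx hy)
    simp only [Pi.add_apply, add_sq, Finset.sum_add_distrib, hW x hx, hW y hy, mul_assoc,
      ← Finset.mul_sum, zero_add, add_zero, mul_eq_zero] at h
    exact h.resolve_left h2

/-- A square signed discriminant gives a half-dimensional totally isotropic subspace. -/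
theorem half_exists (h2 : (2 : F) ≠ 0) (B : LinearMap.BilinForm F V)
    (hS : ∀ x y, B x y = B y x) {N : ℕ} (hN : 1 ≤ N) (hV : finrank F V = 2 * N)
    {ι : Type*} [Fintype ι] [DecidableEq ι] (b : Basis ι F V)
    (hne0 : (LinearMap.BilinForm.toMatrix b B).det ≠ 0)
    (hsq : IsSquare ((-1) ^ N * (LinearMap.BilinForm.toMatrix b B).det)) :
    ∃ X : Submodule F V, finrank F X = N ∧ ∀ x ∈ X, ∀ y ∈ X, B x y = 0 := by
  classical
  have := Fintype.ofFinite F
  have hchar : ringChar F ≠ 2 := fun h => h2 (by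
    haveI := ringChar.charP F
    have := CharP.cast_eq_zero F (ringChar F)
    rw [h] at this
    exact_mod_cast this)
  obtain ⟨α, hα⟩ := FiniteField.exists_nonsquare hchar
  have hα0 : α ≠ 0 := fun h => hα (h ▸ ⟨0, (mul_zero 0).symm⟩)
  obtain ⟨M, rfl⟩ : ∃ M, N = M + 1 := ⟨N - 1, by omega⟩
  have hnd : ∀ x, (∀ y, B x y = 0) → x = 0 :=
    ((LinearMap.BilinForm.nondegenerate_iff_det_ne_zero b).mpr hne0).1
  obtain ⟨c, ho, h1, hl⟩ := exists_normal_basis h2 B hS hnd (n := 2 * M + 1) (by omega) α hα
  obtain ⟨δ, hδ⟩ : ∃ δ, δ = B (c (Fin.last _)) (c (Fin.last _)) := ⟨_, rfl⟩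
  have hdetc : (LinearMap.BilinForm.toMatrix c B).det = δ := by
    have : LinearMap.BilinForm.toMatrix c B = Matrix.diagonal fun i => B (c i) (c i) := by
      ext i j
      rw [LinearMap.BilinForm.toMatrix_apply]
      rcases eq_or_ne i j with rfl | hij
      · rw [Matrix.diagonal_apply_eq]
      · rw [Matrix.diagonal_apply_ne _ hij, ho i j hij]
    rw [this, Matrix.det_diagonal, Finset.prod_eq_single (Fin.last _)
      (fun i _ hi => h1 i hi) (fun h => absurd (Finset.mem_univ _) h), hδ]
  have hδsq : IsSquare ((-1) ^ (M + 1) * δ) := by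
    have e : ι ≃ Fin (2 * M + 1 + 1) := Fintype.equivOfCardEq (by
      rw [← Module.finrank_eq_card_basis b, hV, Fintype.card_fin]; omega)
    have hre : LinearMap.BilinForm.toMatrix (b.reindex e) B =
        (LinearMap.BilinForm.toMatrix b B).submatrix e.symm e.symm := by
      ext i j; simp
    have h := congrArg Matrix.det (LinearMap.BilinForm.toMatrix_mul_basis_toMatrix (b := b.reindex e) c B)
    rw [Matrix.det_mul, Matrix.det_mul, Matrix.det_transpose, hre, Matrix.det_submatrix_equiv_self,
      hdetc] at h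
    obtain ⟨s, hs⟩ := hsq
    exact ⟨((b.reindex e).toMatrix c).det * s, by
      linear_combination (((b.reindex e).toMatrix c).det ^ 2) * hs - (-1) ^ (M + 1) * h⟩
  rcases hl with hl | hl
  · rw [← hδ] at hl
    rw [hl, mul_one] at hδsq
    have h1' : ∀ i, B (c i) (c i) = 1 := fun i => by
      by_cases hi : i = Fin.last _
      · rw [hi, ← hδ, hl]
      · exact h1 i hi
    obtain ⟨X, hX, -, hXi⟩ := half_of_orthonormal h2 B hS hδsq
      (fun i : Fin (2 * (M + 1)) => c (Fin.cast (by omega) i))
      (fun i j hij => ho _ _ fun h => hij (Fin.cast_injective _ h)) (fun i => h1' _)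
    exact ⟨X, hX, hXi⟩
  rw [← hδ] at hl
  rw [hl] at hδsq
  have hnsq : ¬ IsSquare ((-1 : F) ^ (M + 1)) := fun h => hα (by
    have h' := hδsq.div h
    rwa [mul_div_cancel_left₀ _ (pow_ne_zero _ (neg_ne_zero.mpr one_ne_zero))] at h')
  have hodd : Odd (M + 1) := by
    by_contra he
    rw [(Nat.not_odd_iff_even.mp he).neg_one_pow] at hnsq
    exact hnsq IsSquare.one
  obtain ⟨s, hs⟩ : IsSquare (-α) := by
    rwa [hodd.neg_one_pow, neg_one_mul] at hδsq
  have hMev : Even M := by
    rcases Nat.even_or_odd M with h | h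
    · exact h
    · exact absurd (Nat.even_add_one.mpr (Nat.not_even_iff_odd.mpr h))
        (Nat.not_even_iff_odd.mpr hodd)
  obtain ⟨X, hX, hXle, hXi⟩ := half_of_orthonormal h2 B hS
    (K := M) (by rw [hMev.neg_one_pow]; exact IsSquare.one)
    (fun i : Fin (2 * M) => c (Fin.castLE (by omega) i))
    (fun i j hij => ho _ _ fun h => hij (Fin.castLE_injective _ h))
    (fun i => h1 _ fun h => by have := congrArg Fin.val h; simp at this; omega)
  obtain ⟨a, ha⟩ : ∃ a : Fin (2 * M + 1 + 1), a.val = 2 * M := ⟨⟨2 * M, by omega⟩, rfl⟩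
  have haL : a ≠ Fin.last _ := fun h => by rw [h] at ha; simp at ha
  obtain ⟨w, hw⟩ : ∃ w, w = s • c a + c (Fin.last _) := ⟨_, rfl⟩
  have hBw : B w w = 0 := by
    rw [hw]
    simp only [map_add, map_smul, LinearMap.add_apply, LinearMap.smul_apply, smul_eq_mul,
      ho a _ haL, ho _ a haL.symm, h1 a haL, ← hδ, hl]
    linear_combination -hs
  have hxw : ∀ x ∈ X, B x w = 0 := fun x hx => by
    have : X ≤ LinearMap.ker (B.flip w) := hXle.trans (Submodule.span_le.mpr (by
      rintro _ ⟨i, rfl⟩
      show B (c (Fin.castLE _ i)) w = 0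
      have hia : Fin.castLE (by omega : 2 * M ≤ 2 * M + 1 + 1) i ≠ a := fun h => by
        have := congrArg Fin.val h; simp [ha] at this; omega
      have hil : Fin.castLE (by omega : 2 * M ≤ 2 * M + 1 + 1) i ≠ Fin.last _ := fun h => by
        have := congrArg Fin.val h; simp at this; omega
      rw [hw, map_add, map_smul, ho _ _ hia, ho _ _ hil]
      simp))
    exact this hx
  have hwX : w ∉ X := fun h => by
    have h' := congrArg (fun z => B (c (Fin.last _)) z) hw
    simp only [map_add, map_smul, smul_eq_mul, ho _ a haL.symm, ← hδ, hl] at h'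
    have hker : X ≤ LinearMap.ker (B (c (Fin.last _))) := hXle.trans (Submodule.span_le.mpr (by
      rintro _ ⟨i, rfl⟩
      exact ho _ _ fun h => by have := congrArg Fin.val h; simp at this; omega))
    rw [LinearMap.mem_ker.mp (hker h)] at h'
    exact hα0 (by linear_combination -h')
  refine ⟨X ⊔ Submodule.span F {w}, ?_, ?_⟩
  · have hdis : X ⊓ Submodule.span F {w} = ⊥ := by
      rw [Submodule.eq_bot_iff]
      rintro y ⟨hy, hy'⟩
      obtain ⟨t, rfl⟩ := Submodule.mem_span_singleton.mp hy'
      by_contra hne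
      have ht : t ≠ 0 := fun h => hne (by rw [h, zero_smul])
      exact hwX (by simpa [ht] using X.smul_mem t⁻¹ hy)
    have h := Submodule.finrank_sup_add_finrank_inf_eq X (Submodule.span F {w})
    rw [hdis, finrank_bot, hX, finrank_span_singleton (fun h : w = 0 => hwX (by rw [h]; exact X.zero_mem))] at h
    omega
  · intro x hx y hy
    obtain ⟨x', hx', t, ht, rfl⟩ := Submodule.mem_sup.mp hx
    obtain ⟨y', hy', r, hr, rfl⟩ := Submodule.mem_sup.mp hy
    obtain ⟨t, rfl⟩ := Submodule.mem_span_singleton.mp ht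
    obtain ⟨r, rfl⟩ := Submodule.mem_span_singleton.mp hr
    simp only [map_add, map_smul, LinearMap.add_apply, LinearMap.smul_apply, smul_eq_mul,
      hXi x' hx' y' hy', hxw x' hx', hS w y', hxw y' hy', hBw]
    ring

omit [Finite F] in
/-- The Gram matrix of a tensor product. -/
theorem toMatrix_tmul {U W : Type*} [AddCommGroup U] [Module F U] [AddCommGroup W] [Module F W]
    {κ μ : Type*} [Fintype κ] [DecidableEq κ] [Fintype μ] [DecidableEq μ]
    (B₁ : LinearMap.BilinForm F U) (B₂ : LinearMap.BilinForm F W) (c : Basis κ F U)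
    (d : Basis μ F W) :
    LinearMap.BilinForm.toMatrix (c.tensorProduct d) (B₁.tmul B₂) =
      Matrix.kroneckerMap (· * ·) (LinearMap.BilinForm.toMatrix c B₁)
        (LinearMap.BilinForm.toMatrix d B₂) := by
  ext ⟨i, j⟩ ⟨i', j'⟩
  simp [mul_comm]

end Cfsg.Lib.Linear.Forms
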