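import Cfsg.Agent.Lib.Linear.OrthMax

/-!
# Root groups inside a subgroup: the commutator rule

`RPair Q B H x y` says that the root group of the totally singular pair `(x, y)` lies in `H`.
-/

set_option autoImplicit false

namespace Cfsg.Lib.Linear.Orth

open Module
open scoped Matrix

variable {ι : Type} [Fintype ι] [DecidableEq ι] {F : Type*} [Field F]
  {Q : (ι → F) → F} {B : LinearMap.BilinForm F (ι → F)} {H : Subgroup (GL ι F)}

/-- The root group of `(x, y)` lies in `H`. -/
def RPair (Q : (ι → F) → F) (B : LinearMap.BilinForm F (ι → F)) (H : Subgroup (GL ι F))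
    (x y : ι → F) : Prop :=
  Q x = 0 ∧ Q y = 0 ∧ B x y = 0 ∧ ∀ c : F, sGL Q B x (c • y) ∈ H

section

variable (C : Space Q B)

include C

theorem sGL_swap {u v : ι → F} (hu : Q u = 0) (hv : Q v = 0) (huv : B u v = 0) :
    sGL Q B u v = sGL Q B v (-u) := by
  refine gl_ext fun z => ?_
  rw [sGL_act C hu huv, sGL_act C hv (by rw [map_neg, C.symm, huv, neg_zero]), C.neg, hu, hv]
  simp only [map_neg, LinearMap.neg_apply]
  module

theorem sGL_plane {x y : ι → F} (hx : Q x = 0) (hy : Q y = 0) (hxy : B x y = 0) (a b c d : F) :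
    sGL Q B (a • x + b • y) (c • x + d • y) = sGL Q B x ((a * d - b * c) • y) := by
  have hyx : B y x = 0 := by rw [C.symm, hxy]
  have h1 : Q (a • x + b • y) = 0 := by rw [C.smul_add, hx, hy, hxy]; ring
  have h2 : Q (c • x + d • y) = 0 := by rw [C.smul_add, hx, hy, hxy]; ring
  have h3 : B (a • x + b • y) (c • x + d • y) = 0 := by
    simp [C.self_zero hx, C.self_zero hy, hxy, hyx]
  refine gl_ext fun z => ?_
  rw [sGL_act C h1 h3, h2, sGL_act C hx (by rw [map_smul, hxy, smul_zero]), C.smul, hy]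
  simp only [map_add, map_smul, LinearMap.add_apply, LinearMap.smul_apply, smul_eq_mul]
  module

theorem RPair.symm {x y : ι → F} (h : RPair Q B H x y) : RPair Q B H y x := by
  obtain ⟨hx, hy, hxy, hc⟩ := h
  refine ⟨hy, hx, by rw [C.symm, hxy], fun c => ?_⟩
  have := hc (-c)
  rw [← sGL_smul C hx hxy, sGL_swap C (by rw [C.smul, hx, mul_zero]) hy (by
    rw [map_smul, LinearMap.smul_apply, hxy, smul_zero])] at this
  simpa [neg_smul] using this

theorem RPair.plane {x y : ι → F} (h : RPair Q B H x y) (a b c d : F) :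
    RPair Q B H (a • x + b • y) (c • x + d • y) := by
  obtain ⟨hx, hy, hxy, hc⟩ := h
  refine ⟨by rw [C.smul_add, hx, hy, hxy]; ring, by rw [C.smul_add, hx, hy, hxy]; ring,
    by simp [C.self_zero hx, C.self_zero hy, hxy, C.symm y x], fun t => ?_⟩
  rw [smul_add, smul_smul, smul_smul, sGL_plane C hx hy hxy]
  exact hc _

theorem RPair.conj (hH : H ≤ isometryGroup F Q) {g : GL ι F} (hg : g ∈ H) {x y : ι → F}
    (h : RPair Q B H x y) : RPair Q B H (g.val *ᵥ x) (g.val *ᵥ y) := by
  obtain ⟨hx, hy, hxy, hc⟩ := h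
  refine ⟨by rw [mem_iso.mp (hH hg), hx], by rw [mem_iso.mp (hH hg), hy],
    by rw [C.B_act (hH hg), hxy], fun c => ?_⟩
  rw [← Matrix.mulVec_smul, ← sGL_conj C hx (by rw [map_smul, hxy, smul_zero]) (hH hg)]
  exact mul_mem (mul_mem hg (hc c)) (inv_mem hg)

/-- The commutator rule. -/
theorem RPair.rule (hH : H ≤ isometryGroup F Q) {x y u v : ι → F} (h1 : RPair Q B H x y)
    (h2 : RPair Q B H u v) (hyu : B y u = 0) (hyv : B y v = 0) (hxv : B x v = 0)
    (hxu : B x u = 1) : RPair Q B H y v := by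
  obtain ⟨hx, hy, hxy, hc⟩ := h1
  obtain ⟨hu, hv, huv, hd⟩ := h2
  have hg : sGL Q B x y ∈ H := by simpa using hc 1
  have hvy : B v y = 0 := by rw [C.symm, hyv]
  have hvu : B v u = 0 := by rw [C.symm, huv]
  refine RPair.symm C ⟨hv, hy, hvy, fun d => ?_⟩
  have h := mul_mem (mul_mem hg (hd (-d))) (inv_mem hg)
  rw [sGL_conj C hu (by rw [map_smul, huv, smul_zero]) (hH hg), sGL_act C hx hxy,
    sGL_act C hx hxy, map_smul, map_smul, hxu, hxv, hy, hyu, hyv] at h
  simp only [zero_mul, zero_smul, smul_zero, add_zero, sub_zero, one_smul] at h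
  have hQuy : Q (u + y) = 0 := by rw [C.add, hu, hy, C.symm u y, hyu]; simp
  have hBuy : B (u + y) (-d • v) = 0 := by simp [huv, hyv]
  rw [sGL_swap C hQuy (by rw [C.smul, hv, mul_zero]) hBuy, neg_add,
    ← sGL_mul C (by rw [C.smul, hv, mul_zero]) (by simp [hvu]) (by simp [hvy])] at h
  have h' : sGL Q B (-d • v) (-u) ∈ H := by
    rw [← sGL_swap C hu (by rw [C.smul, hv, mul_zero]) (by simp [huv])]
    exact hd _
  have h'' := (H.mul_mem_cancel_left h').mp h
  rw [sGL_smul C hv (by simp [hvy])] at h''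
  simpa using h''

end

end Cfsg.Lib.Linear.Orth
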