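import Cfsg.Agent.Lib.Linear.HermitianNorm

/-!
# Hermitian matrices over finite fields are norms inside their own algebra
-/

set_option autoImplicit false

namespace Cfsg.Lib.Linear.HermitianFactor

open scoped Matrix

/-- The field involution `x ↦ x^q`. -/
theorem exists_involution {K : Type*} [Field K] [Fintype K] {q : ℕ} (hK : Fintype.card K = q ^ 2) :
    ∃ σ : K →+* K, (∀ x, σ x = x ^ q) ∧ (∀ x, σ (σ x) = x) ∧ ∃ w : K, σ w ≠ w := by
  classical
  obtain ⟨p, hpK⟩ := CharP.exists K
  obtain ⟨N, hp, hN⟩ := FiniteField.card K p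
  haveI := Fact.mk hp
  obtain ⟨k, -, hk⟩ := (Nat.dvd_prime_pow hp).mp (show q ∣ p ^ (N : ℕ) from hN ▸ hK ▸ dvd_pow_self q two_ne_zero)
  let σ : K →+* K := iterateFrobenius K p k
  have hσ : ∀ x, σ x = x ^ q := fun x => by rw [iterateFrobenius_def, hk]
  have hσσ : ∀ x, σ (σ x) = x := fun x => by
    rw [hσ, hσ, ← pow_mul, ← pow_two, ← hK, FiniteField.pow_card]
  refine ⟨σ, hσ, hσσ, ?_⟩
  by_contra hall
  push Not at hall
  have h1 : 1 < q := by
    have h2 := Fintype.one_lt_card (α := K)
    rw [hK] at h2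
    by_contra hcon
    rcases Nat.le_one_iff_eq_zero_or_eq_one.mp (not_lt.mp hcon) with e | e <;> rw [e] at h2 <;> simp at h2
  have hle := Polynomial.card_le_degree_of_subset_roots (p := (Polynomial.X ^ q - Polynomial.X : Polynomial K))
    (Z := Finset.univ) (fun x _ => (Polynomial.mem_roots (FiniteField.X_pow_card_sub_X_ne_zero K h1)).mpr (by
      simp [← hσ, hall]))
  rw [Finset.card_univ, hK, FiniteField.X_pow_card_sub_X_natDegree_eq K h1, pow_two] at hle
  nlinarith

variable {K : Type*} [Field K] {n : ℕ}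

/-- The conjugate transpose. -/
def dagger (σ : K →+* K) (M : Matrix (Fin n) (Fin n) K) : Matrix (Fin n) (Fin n) K := (M.map σ)ᵀ

theorem dagger_mul (σ : K →+* K) (M M' : Matrix (Fin n) (Fin n) K) :
    dagger σ (M * M') = dagger σ M' * dagger σ M := by
  simp only [dagger, Matrix.map_mul, Matrix.transpose_mul]

theorem dagger_add (σ : K →+* K) (M M' : Matrix (Fin n) (Fin n) K) :
    dagger σ (M + M') = dagger σ M + dagger σ M' := by
  simp only [dagger, Matrix.map_add σ (map_add σ), Matrix.transpose_add]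

theorem dagger_dagger {σ : K →+* K} (hσσ : ∀ x, σ (σ x) = x) (M : Matrix (Fin n) (Fin n) K) :
    dagger σ (dagger σ M) = M := by
  ext i j; simp [dagger, hσσ]

theorem dagger_one (σ : K →+* K) : dagger σ (1 : Matrix (Fin n) (Fin n) K) = 1 := by
  simp [dagger]

theorem dagger_smul (σ : K →+* K) (c : K) (M : Matrix (Fin n) (Fin n) K) :
    dagger σ (c • M) = σ c • dagger σ M := by
  ext i j; simp [dagger]

/-- An invertible Hermitian matrix is `S† S` with `S` in the algebra it generates. -/
theorem exists_factor [Fintype K] {σ : K →+* K} (hσσ : ∀ x, σ (σ x) = x) {w : K} (hw : σ w ≠ w)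
    {H : Matrix (Fin n) (Fin n) K} (hHd : dagger σ H = H) (hHM : IsUnit H) :
    ∃ S : Matrix (Fin n) (Fin n) K, IsUnit S ∧ dagger σ S * S = H ∧ ∀ a, Commute a H → Commute a S := by
  classical
  let dag : Matrix (Fin n) (Fin n) K → Matrix (Fin n) (Fin n) K := dagger σ
  have dmul : ∀ M M', dag (M * M') = dag M' * dag M := dagger_mul σ
  have dadd : ∀ M M', dag (M + M') = dag M + dag M' := dagger_add σ
  have done_ : dag 1 = 1 := dagger_one σ
  have dsmul : ∀ (c : K) M, dag (c • M) = σ c • dag M := dagger_smul σ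
  let R : Subalgebra K (Matrix (Fin n) (Fin n) K) := Algebra.adjoin K {H}
  letI : CommRing R := { (inferInstance : Ring R) with
    mul_comm := fun x y => Subtype.ext (Algebra.commute_of_mem_adjoin_singleton_of_commute y.2
      (Algebra.commute_of_mem_adjoin_singleton_of_commute x.2 (Commute.refl H)).symm).eq }
  let R₀ : Subring R :=
    { carrier := {r | dag (r : Matrix (Fin n) (Fin n) K) = r}
      mul_mem' := fun {x y} hx hy => by
        show dag ((x : Matrix (Fin n) (Fin n) K) * y) = x * y
        rw [dmul, hx, hy]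
        exact congrArg Subtype.val (mul_comm y x)
      one_mem' := done_
      add_mem' := fun {x y} hx hy => by
        show dag ((x : Matrix (Fin n) (Fin n) K) + y) = x + y
        rw [dadd, hx, hy]
      zero_mem' := by show dag 0 = 0; simp [dag, dagger]
      neg_mem' := fun {x} hx => by
        show dag (-(x : Matrix (Fin n) (Fin n) K)) = -(x : Matrix (Fin n) (Fin n) K)
        have h := dadd (x : Matrix (Fin n) (Fin n) K) (-(x : Matrix (Fin n) (Fin n) K))
        rw [add_neg_cancel, hx, show dag 0 = 0 by simp [dag, dagger]] at h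
        exact (neg_eq_of_add_eq_zero_right h.symm).symm }
  have scal : ∀ c : K, σ c = c → algebraMap K R c ∈ R₀ := fun c hc => by
    show dag (algebraMap K (Matrix (Fin n) (Fin n) K) c) = algebraMap K (Matrix (Fin n) (Fin n) K) c
    rw [Algebra.algebraMap_eq_smul_one, dsmul, hc, done_]
  have hts : σ (w + σ w) = w + σ w := by rw [map_add, hσσ, add_comm]
  have hns : σ (w * σ w) = w * σ w := by rw [map_mul, hσσ, mul_comm]
  let ι : {c : K // σ c = c} → R₀ := fun c => ⟨algebraMap K R c.1, scal c.1 c.2⟩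
  have hunit : ∀ c : {c : K // σ c = c}, c.1 ≠ 0 → IsUnit (ι c) := by
    intro c hc
    refine IsUnit.of_mul_eq_one (ι ⟨c.1⁻¹, by rw [map_inv₀, c.2]⟩) (Subtype.ext ?_)
    show algebraMap K R c.1 * algebraMap K R c.1⁻¹ = 1
    rw [← map_mul, mul_inv_cancel₀ hc, map_one]
  have hHu : IsUnit (⟨⟨H, Algebra.self_mem_adjoin_singleton K H⟩, hHd⟩ : R₀) := by
    refine IsUnit.isUnit_iff_mulLeft_bijective.mpr (Finite.injective_iff_bijective.mp fun x y hxy => ?_)
    have h := congrArg (fun r : R₀ => ((r : R) : Matrix (Fin n) (Fin n) K)) hxy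
    exact Subtype.ext (Subtype.ext (hHM.mul_left_cancel h))
  obtain ⟨x, y, hxy⟩ := Lib.Linear.HermitianNorm.exists_repr (ι ⟨_, hts⟩) (ι ⟨_, hns⟩) (by
      have e : ι ⟨_, hts⟩ ^ 2 - 4 * ι ⟨_, hns⟩ = ι ⟨(w - σ w) ^ 2, by
          rw [map_pow, map_sub, hσσ]; ring⟩ := by
        refine Subtype.ext ?_
        show algebraMap K R (w + σ w) ^ 2 - 4 * algebraMap K R (w * σ w) = algebraMap K R ((w - σ w) ^ 2)
        simp only [map_pow, map_sub, map_add, map_mul]
        ring
      rw [e]
      exact hunit _ (pow_ne_zero 2 (sub_ne_zero.mpr (Ne.symm hw))))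
    (by
      rcases eq_or_ne (2 : K) 0 with h | h
      · right
        refine Subtype.ext ?_
        show (2 : R) = 0
        rw [← map_ofNat (algebraMap K R) 2, h, map_zero]
      · left
        have e : (2 : R₀) = ι ⟨2, map_ofNat σ 2⟩ := by
          refine Subtype.ext ?_
          show (2 : R) = algebraMap K R 2
          rw [map_ofNat]
        rw [e]
        exact hunit _ h) hHu
  set X : Matrix (Fin n) (Fin n) K := ((x : R) : Matrix (Fin n) (Fin n) K) with hX
  set Y : Matrix (Fin n) (Fin n) K := ((y : R) : Matrix (Fin n) (Fin n) K) with hY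
  have hXY : X * Y = Y * X := congrArg Subtype.val (mul_comm (x : R) (y : R))
  have hval : X ^ 2 + (w + σ w) • (X * Y) + (w * σ w) • Y ^ 2 = H := by
    have h := congrArg (fun r : R₀ => ((r : R) : Matrix (Fin n) (Fin n) K)) hxy
    simp only [Algebra.smul_def, map_add, map_mul]
    simpa [ι, hX, hY, mul_assoc] using h
  set S : Matrix (Fin n) (Fin n) K := X + w • Y with hS
  have hSS : dag S * S = H := by
    rw [← hval, hS, dadd, dsmul, show dag X = X from x.2, show dag Y = Y from y.2, add_mul, mul_add, mul_add,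
      smul_mul_assoc, mul_smul_comm, smul_mul_assoc, mul_smul_comm, smul_smul, ← hXY, add_smul, pow_two, pow_two,
      mul_comm (σ w) w]
    abel
  have hSu : IsUnit S := by
    obtain ⟨Hi, hHi⟩ := hHM.exists_left_inv
    exact IsUnit.of_mul_eq_one_right (Hi * dag S) (by rw [mul_assoc, hSS, hHi])
  refine ⟨S, hSu, hSS, fun a ha => ?_⟩
  have hc : ∀ r : R, Commute a (r : Matrix (Fin n) (Fin n) K) := fun r =>
    Algebra.commute_of_mem_adjoin_singleton_of_commute r.2 ha
  exact (hc x).add_right ((hc y).smul_right w)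

end Cfsg.Lib.Linear.HermitianFactor
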