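import Cfsg.Agent.Lib.Linear.TransvectionMax

/-!
# Rational vectors and the subfield group

Vectors and matrices with entries in a subfield `F₀` up to a scalar, the subfield group as a
predicate, and finite-field facts about the relative Frobenius.
-/

set_option autoImplicit false

namespace Cfsg.Lib.Linear.Rat0

open scoped Matrix

variable {ι : Type} [Fintype ι] [DecidableEq ι] {F : Type*} [Field F] (F₀ : Subfield F)

/-- A vector over `F₀` seen over `F`. -/
def rv (x : ι → F₀) : ι → F := fun i => (x i : F)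

/-- A scalar multiple of the matrix has entries in `F₀`. -/
def RatG (g : GL ι F) : Prop :=
  ∃ c : F, c ≠ 0 ∧ ∀ i j, c * (g : Matrix ι ι F) i j ∈ F₀

theorem rv_dot (x y : ι → F₀) : rv F₀ x ⬝ᵥ rv F₀ y = ((x ⬝ᵥ y : F₀) : F) :=
  (RingHom.map_dotProduct F₀.subtype x y).symm

theorem rv_add (x y : ι → F₀) : rv F₀ (x + y) = rv F₀ x + rv F₀ y := rfl

theorem rv_smul (a : F₀) (x : ι → F₀) : rv F₀ (a • x) = (a : F) • rv F₀ x := rfl

theorem rv_injective : Function.Injective (rv F₀ : (ι → F₀) → ι → F) :=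
  fun _ _ h => funext fun i => Subtype.ext (congrFun h i)

theorem rv_ne_zero {x : ι → F₀} (h : x ≠ 0) : rv F₀ x ≠ 0 :=
  fun h' => h (rv_injective F₀ (h'.trans (funext fun _ => rfl)))

theorem rv_single (i : ι) : rv F₀ (Pi.single i (1 : F₀)) = Pi.single i 1 := by
  funext j
  rcases eq_or_ne j i with rfl | h <;> simp [rv, *]

/-- Functions on the rows of a rational-up-to-scalar group. -/
theorem mem_subfieldSubgroup_one (g : GL ι F) :
    g ∈ Cfsg.Geo.subfieldSubgroup F₀ (1 : GL ι F) ↔ RatG F₀ g := by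
  have hid : ∀ S : Subgroup (GL ι F), S.map (MulAut.conj (1 : GL ι F)).toMonoidHom = S := by
    intro S; ext x; simp
  have hn : (Cfsg.Geo.scalars ι F).Normal := by
    refine ⟨fun n hn k => ?_⟩
    obtain ⟨c, hc⟩ := (Cfsg.Geo.mem_scalars_iff n).mp hn
    refine (Cfsg.Geo.mem_scalars_iff _).mpr ⟨c, ?_⟩
    rw [Units.val_mul, Units.val_mul, hc, Matrix.mul_smul, Matrix.mul_one, Matrix.smul_mul,
      ← Units.val_mul, mul_inv_cancel, Units.val_one]
  rw [Cfsg.Geo.subfieldSubgroup, hid, Subgroup.mem_sup_of_normal_right]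
  constructor
  · rintro ⟨_, ⟨M, rfl⟩, s, hs, rfl⟩
    obtain ⟨c, hc⟩ := (Cfsg.Geo.mem_scalars_iff s).mp hs
    refine ⟨(c⁻¹ : Fˣ), Units.ne_zero _, fun i j => ?_⟩
    rw [Units.val_mul, hc, Matrix.mul_smul, Matrix.mul_one, Matrix.smul_apply, smul_eq_mul,
      ← mul_assoc, Units.inv_mul, one_mul]
    exact ((M : Matrix ι ι F₀) i j).2
  · rintro ⟨c, hc, h⟩
    set A : Matrix ι ι F₀ := Matrix.of fun i j => ⟨_, h i j⟩
    have hA : A.map F₀.subtype = c • (g : Matrix ι ι F) := rfl
    have hdet : A.det ≠ 0 := by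
      intro h0
      have h1 := congrArg F₀.subtype h0
      rw [RingHom.map_det, map_zero] at h1
      change (A.map F₀.subtype).det = 0 at h1
      rw [hA, Matrix.det_smul, mul_eq_zero] at h1
      exact h1.elim (pow_ne_zero _ hc) (Matrix.GeneralLinearGroup.det_ne_zero g)
    refine ⟨_, ⟨Matrix.GeneralLinearGroup.mkOfDetNeZero A hdet, rfl⟩,
      Units.map (Matrix.scalar ι : F →+* Matrix ι ι F).toMonoidHom (Units.mk0 c hc)⁻¹,
      ⟨_, rfl⟩, Units.ext ?_⟩
    rw [Units.val_mul]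
    show A.map F₀.subtype * Matrix.scalar ι ((Units.mk0 c hc)⁻¹ : Fˣ).val = _
    rw [hA, Matrix.scalar_apply, ← Matrix.smul_one_eq_diagonal, Matrix.mul_smul, Matrix.mul_one,
      smul_smul, Units.val_inv_eq_inv_val, Units.val_mk0, inv_mul_cancel₀ hc, one_smul]

theorem exists_dot_pair {K : Type*} [Field K] {x y : ι → K} (hxy : ∀ c : K, y ≠ c • x) :
    ∃ w : ι → K, x ⬝ᵥ w = 0 ∧ y ⬝ᵥ w = 1 := by
  by_cases hne : ∀ w : ι → K, x ⬝ᵥ w = 0 → y ⬝ᵥ w = 0
  · exfalso
    by_cases hx : x = 0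
    · refine hxy 0 ?_
      rw [zero_smul]
      funext i
      have h := hne (Pi.single i 1) (by rw [hx, zero_dotProduct])
      simpa using h
    obtain ⟨i, hi⟩ := Function.ne_iff.mp hx
    refine hxy (y i / x i) (funext fun j => ?_)
    have h := hne (Pi.single j 1 - (x j / x i) • Pi.single i 1) (by
      rw [dotProduct_sub, dotProduct_smul, dotProduct_single, dotProduct_single, mul_one, mul_one,
        smul_eq_mul, div_mul_cancel₀ _ hi, sub_self])
    rw [dotProduct_sub, dotProduct_smul, dotProduct_single, dotProduct_single, mul_one, mul_one,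
      smul_eq_mul, sub_eq_zero] at h
    rw [h, Pi.smul_apply, smul_eq_mul]
    ring
  · push Not at hne
    obtain ⟨w, hw, hw'⟩ := hne
    exact ⟨(y ⬝ᵥ w)⁻¹ • w, by rw [dotProduct_smul, hw, smul_zero],
      by rw [dotProduct_smul, smul_eq_mul, inv_mul_cancel₀ hw']⟩

/-- In dimension at least three there is a non-zero vector perpendicular to two given ones. -/
theorem exists_perp_pair {K : Type*} [Field K] (hn : 3 ≤ Fintype.card ι) (x y : ι → K) :
    ∃ w : ι → K, w ≠ 0 ∧ x ⬝ᵥ w = 0 ∧ y ⬝ᵥ w = 0 := by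
  let Φ : (ι → K) →ₗ[K] (Fin 2 → K) :=
    Matrix.mulVecLin (Matrix.of ![x, y])
  have h4 := LinearMap.finrank_range_add_finrank_ker Φ
  have h5 : Module.finrank K (LinearMap.range Φ) ≤ 2 := by
    simpa using Submodule.finrank_le (LinearMap.range Φ)
  rw [Module.finrank_fintype_fun_eq_card] at h4
  have hne : LinearMap.ker Φ ≠ ⊥ := fun h => by rw [h, finrank_bot] at h4; omega
  obtain ⟨w, hw, hw0⟩ := Submodule.exists_mem_ne_zero_of_ne_bot hne
  exact ⟨w, hw0, congrFun (LinearMap.mem_ker.mp hw) 0, congrFun (LinearMap.mem_ker.mp hw) 1⟩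

/-- A vector perpendicular to `z` outside a given line. -/
theorem exists_perp_notMem {K : Type*} [Field K] (hn : 3 ≤ Fintype.card ι) (z ψ : ι → K) :
    ∃ φ : ι → K, φ ⬝ᵥ z = 0 ∧ φ ≠ 0 ∧ ∀ c : K, φ ≠ c • ψ := by
  by_cases hψ : ψ = 0
  · obtain ⟨φ, hφ, h1, -⟩ := exists_perp_pair hn z z
    exact ⟨φ, by rw [dotProduct_comm]; exact h1, hφ, fun c h => hφ (by rw [h, hψ, smul_zero])⟩
  obtain ⟨i, hi⟩ := Function.ne_iff.mp hψ
  obtain ⟨φ, hφ, h1, h2⟩ := exists_perp_pair hn z (Pi.single i 1)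
  refine ⟨φ, by rw [dotProduct_comm]; exact h1, hφ, fun c h => ?_⟩
  rw [single_dotProduct, one_mul, h, Pi.smul_apply, smul_eq_mul, mul_eq_zero] at h2
  exact hφ (by rw [h, h2.resolve_right hi, zero_smul])

/-- A functional vanishing on the rational zeros of a rational one is a multiple of it. -/
theorem exists_smul_of_perp {a : ι → F} {ψ : ι → F₀} (hψ : ψ ≠ 0)
    (h : ∀ w : ι → F₀, ψ ⬝ᵥ w = 0 → a ⬝ᵥ rv F₀ w = 0) : ∃ c : F, a = c • rv F₀ ψ := by
  obtain ⟨k, hk⟩ := Function.ne_iff.mp hψ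
  refine ⟨a k / ψ k, funext fun l => ?_⟩
  have h1 := h (Pi.single l 1 - (ψ l / ψ k) • Pi.single k 1) (by
    rw [dotProduct_sub, dotProduct_smul, dotProduct_single, dotProduct_single, mul_one,
      mul_one, smul_eq_mul, div_mul_cancel₀ _ hk, sub_self])
  have e : rv F₀ (Pi.single l (1 : F₀) - (ψ l / ψ k) • Pi.single k 1) =
      Pi.single l 1 - ((ψ l : F) / ψ k) • Pi.single k 1 := by
    funext m
    simp [rv, Pi.single_apply, apply_ite Subtype.val]
  rw [e, dotProduct_sub, dotProduct_smul, dotProduct_single, dotProduct_single, mul_one,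
    mul_one, smul_eq_mul, sub_eq_zero] at h1
  rw [h1, Pi.smul_apply, smul_eq_mul]
  simp only [rv]
  ring

/-- A vector perpendicular to three given ones, outside the span of two given ones. -/
theorem exists_perp3 {K : Type*} [Field K] (hn : 6 ≤ Fintype.card ι) (a b c y y' : ι → K) :
    ∃ z : ι → K, a ⬝ᵥ z = 0 ∧ b ⬝ᵥ z = 0 ∧ c ⬝ᵥ z = 0 ∧ ∀ s t : K, z ≠ s • y + t • y' := by
  let Φ : (ι → K) →ₗ[K] (Fin 3 → K) := Matrix.mulVecLin (Matrix.of ![a, b, c])
  have h1 := LinearMap.finrank_range_add_finrank_ker Φ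
  have h2 : Module.finrank K (LinearMap.range Φ) ≤ 3 := by
    simpa using Submodule.finrank_le (LinearMap.range Φ)
  rw [Module.finrank_fintype_fun_eq_card] at h1
  let Ψ : (Fin 2 → K) →ₗ[K] (ι → K) := Matrix.mulVecLin (Matrix.of ![y, y']).transpose
  have h3 := LinearMap.finrank_range_le Ψ
  rw [Module.finrank_fin_fun] at h3
  have hnle : ¬ LinearMap.ker Φ ≤ LinearMap.range Ψ := fun hle => by
    have := Submodule.finrank_mono hle
    omega
  obtain ⟨z, hz, hz'⟩ := SetLike.not_le_iff_exists.mp hnle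
  have hz0 := LinearMap.mem_ker.mp hz
  refine ⟨z, congrFun hz0 0, congrFun hz0 1, congrFun hz0 2, fun s t e => hz' ⟨![s, t], ?_⟩⟩
  rw [e]
  funext i
  simp [Ψ, Matrix.mulVec, dotProduct, Fin.sum_univ_two, mul_comm]

/-- A functional with prescribed values on an independent triple. -/
theorem exists_dot3 {K : Type*} [Field K] {x y w : ι → K}
    (h : ∀ s t : K, x ≠ s • y + t • w) :
    ∃ p : ι → K, x ⬝ᵥ p = 1 ∧ y ⬝ᵥ p = 0 ∧ w ⬝ᵥ p = 0 := by
  obtain ⟨p₁, hy1, hx1⟩ := exists_dot_pair (x := y) (y := x) fun t e =>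
    h t 0 (by rw [zero_smul, add_zero]; exact e)
  by_cases hw : w ⬝ᵥ p₁ = 0
  · exact ⟨p₁, hx1, hy1, hw⟩
  obtain ⟨c, hc⟩ : ∃ c, c * (w ⬝ᵥ p₁) = 1 := ⟨_, inv_mul_cancel₀ hw⟩
  obtain ⟨q, hyq, hxq⟩ := exists_dot_pair (x := y) (y := x - c • w) fun t e =>
    h t c (by rw [← e, sub_add_cancel])
  rw [sub_dotProduct, smul_dotProduct, smul_eq_mul] at hxq
  refine ⟨q - ((w ⬝ᵥ q) * c) • p₁, ?_, ?_, ?_⟩ <;>
    rw [dotProduct_sub, dotProduct_smul, smul_eq_mul]
  · rw [hx1, mul_one]
    linear_combination hxq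
  · rw [hy1, hyq, mul_zero, sub_zero]
  · linear_combination -(w ⬝ᵥ q) * hc

/-- The elementary transvections generate the special linear group. -/
theorem SL_le_of_elem {L : Subgroup (GL ι F)}
    (h : ∀ i j : ι, i ≠ j → ∀ c : F, TVec.InT L (Pi.single i 1) (c • Pi.single j 1)) :
    Cfsg.Geo.specialLinear ι F ≤ L := by
  rw [Cfsg.Geo.specialLinear, ← range_toGL, MonoidHom.range_eq_map, ← closure_transvection_eq_top,
    MonoidHom.map_closure, Subgroup.closure_le]
  rintro _ ⟨_, ⟨i, j, hij, c, rfl⟩, rfl⟩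
  obtain ⟨h0, hm⟩ := h i j hij c
  suffices he : Matrix.SpecialLinearGroup.toGL (Matrix.SpecialLinearGroup.transvection hij c) =
      tv (Pi.single i 1) (c • Pi.single j 1) h0 by rw [he]; exact hm
  apply Units.ext
  rw [coe_tv, tvMat]
  show Matrix.transvection i j c = _
  rw [Matrix.transvection]
  congr 1
  ext x y
  simp [Matrix.vecMulVec_apply, Matrix.single_apply, Pi.single_apply, eq_comm]
  split_ifs <;> simp_all

section Frobenius

variable [Finite F]

/-- The relative Frobenius of a finite field over a subfield. -/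
noncomputable def frobRel : F →+* F :=
  letI := Fintype.ofFinite F₀
  (FiniteField.frobeniusAlgHom F₀ F).toRingHom

theorem frobRel_mem (x : F₀) : frobRel F₀ (x : F) = x := by
  letI := Fintype.ofFinite F₀
  exact (FiniteField.frobeniusAlgHom F₀ F).commutes x

theorem mem_of_frobRel_eq {x : F} (h : frobRel F₀ x = x) : x ∈ F₀ := by
  classical
  letI := Fintype.ofFinite F₀
  have hpow : x ^ Fintype.card F₀ = x := h
  let P : Polynomial F := Polynomial.X ^ Fintype.card F₀ - Polynomial.X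
  have hq : 1 < Fintype.card F₀ := Fintype.one_lt_card
  have hdeg : P.natDegree = Fintype.card F₀ := FiniteField.X_pow_card_sub_X_natDegree_eq F hq
  have hP : P ≠ 0 := FiniteField.X_pow_card_sub_X_ne_zero F hq
  by_contra hx
  let S : Finset F := insert x ((Finset.univ : Finset F₀).image (fun y : F₀ => (y : F)))
  have hS : S.card ≤ P.natDegree := by
    refine le_trans (Finset.card_le_card fun y hy => ?_)
      ((Multiset.toFinset_card_le _).trans (Polynomial.card_roots' P))
    rw [Multiset.mem_toFinset, Polynomial.mem_roots hP]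
    rcases Finset.mem_insert.mp hy with rfl | hy'
    · simp [P, hpow]
    · obtain ⟨z, -, rfl⟩ := Finset.mem_image.mp hy'
      have := congrArg (fun y : F₀ => (y : F)) (FiniteField.pow_card z)
      simp only [SubmonoidClass.coe_pow] at this
      simp [P, this]
  rw [hdeg, Finset.card_insert_of_notMem (fun hy => ?_),
    Finset.card_image_of_injective _ Subtype.val_injective, Finset.card_univ] at hS
  · omega
  · obtain ⟨z, -, hz⟩ := Finset.mem_image.mp hy
    exact hx (hz ▸ z.2)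

/-- A scalar with square in `F₀` and a large eigenspace of a rational matrix lies in `F₀`. -/
theorem scalar_mem {n d : ℕ} (A : Matrix (Fin n) (Fin n) F₀) {μ : F} (hμ : μ * μ ∈ F₀)
    (K : Submodule F (Fin n → F)) (hd : d ≤ Module.finrank F K) (hn : n < 2 * d)
    (hK : ∀ v ∈ K, A.map F₀.subtype *ᵥ v = μ • v) : μ ∈ F₀ := by
  rcases mul_self_eq_mul_self_iff.mp
    (show frobRel F₀ μ * frobRel F₀ μ = μ * μ by
      rw [← map_mul]; exact frobRel_mem F₀ ⟨_, hμ⟩) with h | h
  · exact mem_of_frobRel_eq F₀ h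
  by_contra hμ'
  have hne : μ ≠ -μ := fun e => hμ' (mem_of_frobRel_eq F₀ (h.trans e.symm))
  let f : (Fin n → F) → (Fin n → F) := fun v i => frobRel F₀ (v i)
  let K₁ : Submodule F (Fin n → F) := LinearMap.ker (Matrix.toLin' (A.map F₀.subtype) - μ • 1)
  let K₂ : Submodule F (Fin n → F) := LinearMap.ker (Matrix.toLin' (A.map F₀.subtype) - (-μ) • 1)
  have hmem : ∀ (c : F) v, v ∈ LinearMap.ker (Matrix.toLin' (A.map F₀.subtype) - c • 1) ↔
      A.map F₀.subtype *ᵥ v = c • v := by
    intro c v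
    simp [sub_eq_zero, Matrix.toLin'_apply]
  have hf : ∀ v ∈ K₁, f v ∈ K₂ := by
    intro v hv
    rw [hmem] at hv ⊢
    funext i
    have h2 := congrArg (frobRel F₀) (congrFun hv i)
    rw [Pi.smul_apply, smul_eq_mul, map_mul, h, Matrix.mulVec, dotProduct, map_sum] at h2
    rw [Pi.smul_apply, smul_eq_mul, ← h2, Matrix.mulVec, dotProduct]
    refine Finset.sum_congr rfl fun j _ => ?_
    rw [map_mul, Matrix.map_apply, Subfield.coe_subtype, frobRel_mem]
  have hcard : Nat.card K₁ ≤ Nat.card K₂ := by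
    refine Nat.card_le_card_of_injective (fun v => (⟨f v.1, hf v.1 v.2⟩ : K₂)) fun v w e => ?_
    exact Subtype.ext (funext fun i =>
      (frobRel F₀).injective (congrFun (congrArg Subtype.val e) i))
  rw [Module.natCard_eq_pow_finrank (K := F) (V := K₁),
    Module.natCard_eq_pow_finrank (K := F) (V := K₂)] at hcard
  have h12 := (Nat.pow_le_pow_iff_right Finite.one_lt_card).mp hcard
  have hdis : K₁ ⊓ K₂ = ⊥ := by
    rw [eq_bot_iff]
    rintro v ⟨hv1, hv2⟩
    have h1 := ((hmem _ v).mp hv1).symm.trans ((hmem _ v).mp hv2)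
    rw [← sub_eq_zero, ← sub_smul, smul_eq_zero, sub_eq_zero] at h1
    exact (Submodule.mem_bot F).mpr (h1.resolve_left hne)
  have h3 := Submodule.finrank_sup_add_finrank_inf_eq K₁ K₂
  rw [hdis, finrank_bot] at h3
  have h4 := Submodule.finrank_le (K₁ ⊔ K₂)
  have h5 : Module.finrank F K ≤ Module.finrank F K₁ :=
    Submodule.finrank_mono fun v hv => (hmem μ v).mpr (hK v hv)
  rw [Module.finrank_fin_fun] at h4
  omega

end Frobenius

end Cfsg.Lib.Linear.Rat0
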