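import Cfsg.Prelude.Def_GeometricClasses
import Cfsg.Prelude.Def_LieClassical
import Cfsg.Agent.Lib.Linear.HermParabolic
import Cfsg.Agent.Lib.Linear.UnitarySimple

/-! Maximality of the stabilisers of subspaces in special unitary groups. -/

set_option autoImplicit false

namespace Cfsg.Lib.Linear.Herm.UMax

open Module
open scoped Matrix
open Cfsg.Lib.Linear

variable {F : Type*} [Field F] [Fintype F] {q : ℕ}

/-- The stabiliser of a subspace in the special unitary group. -/
noncomputable def sStab (hF : Fintype.card F = q ^ 2) {n : ℕ} (W : Submodule F (Fin n → F)) :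
    Subgroup ((Fin n → F) ≃ₗ[F] (Fin n → F)) :=
  tvGroup (hB hF n) ⊓ StabCard.stabW W

theorem mem_stabW_of {n : ℕ} {W : Submodule F (Fin n → F)} {g : (Fin n → F) ≃ₗ[F] (Fin n → F)}
    (h : ∀ v ∈ W, g v ∈ W) : g ∈ StabCard.stabW W := by
  refine fun v => ⟨h v, fun hv => ?_⟩
  have he : W.map (g : (Fin n → F) →ₗ[F] (Fin n → F)) = W :=
    Submodule.eq_of_le_of_finrank_le (Submodule.map_le_iff_le_comap.2 h) (le_of_eq (LinearEquiv.finrank_map_eq g W).symm)
  rw [← he] at hv
  obtain ⟨w, hw, hwv⟩ := hv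
  exact g.injective hwv ▸ hw

/-- The vectors all whose transvections lie in a subgroup. -/
def Centre (hF : Fintype.card F = q ^ 2) {n : ℕ} (L : Subgroup ((Fin n → F) ≃ₗ[F] (Fin n → F)))
    (v : Fin n → F) : Prop :=
  ∀ (l : F) (h : l + frob hF l + frob hF l * l * hB hF n v v = 0), qrefl v l h ∈ L

variable (hF : Fintype.card F = q ^ 2) {n : ℕ} {L : Subgroup ((Fin n → F) ≃ₗ[F] (Fin n → F))}

theorem centre_smul {v : Fin n → F} (hv : hB hF n v v = 0) (h : Centre hF L v) (c : F) :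
    Centre hF L (c • v) := by
  intro l hl
  have hl0 : l + frob hF l = 0 := by
    simpa [map_smul, LinearMap.map_smulₛₗ, hv] using hl
  have hl' : l * (c * frob hF c) + frob hF (l * (c * frob hF c)) +
      frob hF (l * (c * frob hF c)) * (l * (c * frob hF c)) * hB hF n v v = 0 := by
    simp only [map_mul, frob_frob hF, hv]
    linear_combination (c * frob hF c) * hl0
  have e : qrefl (c • v) l hl = qrefl v (l * (c * frob hF c)) hl' := LinearEquiv.ext fun x => by
    simp only [qrefl_apply, LinearMap.map_smulₛₗ, LinearMap.smul_apply, smul_eq_mul, smul_smul]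
    congr 2
    ring
  rw [e]
  exact h _ hl'

theorem centre_map (hL : L ≤ iso (hB hF n)) {g : (Fin n → F) ≃ₗ[F] (Fin n → F)} (hg : g ∈ L) {v : Fin n → F}
    (h : Centre hF L v) : Centre hF L (g v) := by
  intro l hl
  have hl' : l + frob hF l + frob hF l * l * hB hF n v v = 0 := by rwa [hL hg v v] at hl
  rw [← qrefl_conj (hL hg) v l hl']
  exact mul_mem (mul_mem hg (h l hl')) (inv_mem hg)

theorem eq_top_of_centres (hL : L ≤ tvGroup (hB hF n)) (h : ∀ v, hB hF n v v = 0 → Centre hF L v) :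
    L = tvGroup (hB hF n) := by
  refine le_antisymm hL ?_
  rw [tvGroup, Subgroup.closure_le]
  rintro _ ⟨w, l, hl, hw, rfl⟩
  exact h w hw l hl

theorem centre_perp {W : Submodule F (Fin n → F)} (hWL : sStab hF W ≤ L) {v : Fin n → F} (hv : hB hF n v v = 0)
    (hvW : v ∈ perp hF W) : Centre hF L v := fun l h => hWL
  ⟨Subgroup.subset_closure ⟨v, l, h, hv, rfl⟩, mem_stabW_of fun x hx => by
    rw [qrefl_apply, hB_symm_zero hF (hvW x hx), mul_zero, zero_smul, add_zero]
    exact hx⟩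

theorem centre_mem {W : Submodule F (Fin n → F)} (hWL : sStab hF W ≤ L) {v : Fin n → F} (hv : hB hF n v v = 0)
    (hvW : v ∈ W) : Centre hF L v := fun l h => hWL
  ⟨Subgroup.subset_closure ⟨v, l, h, hv, rfl⟩, mem_stabW_of fun x hx => by
    rw [qrefl_apply]
    exact W.add_mem hx (W.smul_mem _ hvW)⟩

theorem perp_perp (X : Submodule F (Fin n → F)) : perp hF (perp hF X) = X := by
  refine (Submodule.eq_of_le_of_finrank_eq (S₁ := X) (S₂ := perp hF (perp hF X)) (fun x hx y hy => hB_symm_zero hF (hy x hx)) ?_).symm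
  have h1 := finrank_perp hF X
  have h2 := finrank_perp hF (perp hF X)
  omega

theorem stab_perp {X : Submodule F (Fin n → F)} {g : (Fin n → F) ≃ₗ[F] (Fin n → F)} (hg : g ∈ iso (hB hF n))
    (hgX : g ∈ StabCard.stabW X) : g ∈ StabCard.stabW (perp hF X) := by
  refine mem_stabW_of fun v hv x hx => ?_
  have hx' : g.symm x ∈ X := (hgX _).2 (by rwa [LinearEquiv.apply_symm_apply])
  rw [← g.apply_symm_apply x, hg]
  exact hv _ hx'

/-- Isotropic vectors paired with a given isotropic vector span, together with it. -/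
theorem le_span_iso {U : Submodule F (Fin n → F)} {u y : Fin n → F} (hu : u ∈ U) (huu : hB hF n u u = 0)
    (hy : y ∈ U) (huy : hB hF n u y ≠ 0) :
    U ≤ Submodule.span F ({u} ∪ {w | w ∈ U ∧ hB hF n w w = 0 ∧ hB hF n u w ≠ 0}) := by
  set S := Submodule.span F ({u} ∪ {w | w ∈ U ∧ hB hF n w w = 0 ∧ hB hF n u w ≠ 0})
  have huS : u ∈ S := Submodule.subset_span (Or.inl rfl)
  have key : ∀ w ∈ U, hB hF n u w ≠ 0 → w ∈ S := by
    intro w hw huw
    have hsym := (hB_isSymm hF n).eq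
    obtain ⟨s, hs⟩ := exists_trace_eq (frob_ne_id hF) (frob_frob hF) (a := -(hB hF n w w)) (by rw [map_neg, hsym])
    set m := frob hF (s / hB hF n u w) with hm
    have h1 : w + m • u ∈ S := by
      refine Submodule.subset_span (Or.inr ⟨U.add_mem hw (U.smul_mem _ hu), ?_, ?_⟩)
      · have hsw : hB hF n w u = frob hF (hB hF n u w) := (hsym u w).symm
        have hx0 : frob hF (hB hF n u w) ≠ 0 := by simpa using huw
        simp only [map_add, LinearMap.add_apply, LinearMap.map_smulₛₗ, LinearMap.smul_apply,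
          smul_eq_mul, huu, mul_zero, add_zero, hsw, frob_frob hF, hm, map_smul]
        rw [map_div₀, div_mul_cancel₀ _ huw, div_mul_cancel₀ _ hx0]
        linear_combination hs
      · rw [map_add, map_smul, huu, smul_zero, add_zero]; exact huw
    have h2 := S.sub_mem h1 (S.smul_mem m huS)
    rwa [add_sub_cancel_right] at h2
  intro w hw
  by_cases huw : hB hF n u w = 0
  · have h2 := S.sub_mem (key (w + y) (U.add_mem hw hy) (by rwa [map_add, huw, zero_add])) (key y hy huy)
    rwa [add_sub_cancel_right] at h2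
  · exact key w hw huw

theorem maximal_singular (C : Big.Space (hB hF n)) {W : Submodule F (Fin n → F)}
    (hW : ∀ u ∈ W, ∀ v ∈ W, hB hF n u v = 0) (hWL : sStab hF W ≤ L) (hL : L ≤ tvGroup (hB hF n)) :
    L = sStab hF W ∨ L = tvGroup (hB hF n) := by
  classical
  by_cases hle : L ≤ sStab hF W
  · exact Or.inl (le_antisymm hle hWL)
  refine Or.inr (eq_top_of_centres hF hL ?_)
  have hLi : L ≤ iso (hB hF n) := hL.trans (tvGroup_le_iso C.symm)
  have hWp : W ≤ perp hF W := fun x hx y hy => hW y hy x hx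
  obtain ⟨g, hgL, hgW⟩ := SetLike.not_le_iff_exists.1 hle
  -- some isotropic vector of `W⊥` leaves `W⊥`
  obtain ⟨w, hw, hww, hgw⟩ : ∃ w ∈ perp hF W, hB hF n w w = 0 ∧ g w ∉ perp hF W := by
    by_contra hc
    push Not at hc
    apply hgW
    refine ⟨hL hgL, ?_⟩
    by_cases hu : ∃ u ∈ perp hF W, hB hF n u u = 0 ∧ u ∉ W
    · obtain ⟨u, hu, huu, huW⟩ := hu
      obtain ⟨y, hy, huy⟩ : ∃ y ∈ perp hF W, hB hF n u y ≠ 0 := by
        by_contra hne
        push Not at hne
        exact huW (perp_perp hF W ▸ (fun x hx => hB_symm_zero hF (hne x hx) : u ∈ perp hF (perp hF W)))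
      have hspan := le_span_iso hF hu huu hy huy
      have hp : g ∈ StabCard.stabW (perp hF W) := mem_stabW_of fun v hv => by
        have : Submodule.span F ({u} ∪ {w | w ∈ perp hF W ∧ hB hF n w w = 0 ∧ hB hF n u w ≠ 0}) ≤
            (perp hF W).comap (g : (Fin n → F) →ₗ[F] (Fin n → F)) := by
          rw [Submodule.span_le]
          rintro x (rfl | ⟨hx, hxx, -⟩)
          · exact hc x hu huu
          · exact hc x hx hxx
        exact this (hspan hv)
      have := stab_perp hF (hLi hgL) hp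
      rwa [perp_perp] at this
    · push Not at hu
      exact mem_stabW_of fun v hv => hu _ (hc v (hWp hv) (hW v hv v hv))
        (by rw [hLi hgL]; exact hW v hv v hv)
  set z := g w with hzdef
  have hz : Centre hF L z := centre_map hF hLi hgL (centre_perp hF hWL hww hw)
  have hzz : hB hF n z z = 0 := by rw [hzdef, hLi hgL, hww]
  intro y hyy
  by_cases hy : y ∈ perp hF W
  · exact centre_perp hF hWL hyy hy
  -- two linear functionals on `W`
  let φy : W →ₗ[F] F := (hB hF n y).comp W.subtype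
  let φz : W →ₗ[F] F := (hB hF n z).comp W.subtype
  have hφy : φy ≠ 0 := fun h => hy fun x hx => hB_symm_zero hF (LinearMap.congr_fun h ⟨x, hx⟩)
  have hφz : φz ≠ 0 := fun h => hgw fun x hx => hB_symm_zero hF (LinearMap.congr_fun h ⟨x, hx⟩)
  obtain ⟨α, hα⟩ : ∃ α : W ≃ₗ[F] W, φz.comp (α : W →ₗ[F] W) = φy := by
    obtain ⟨a, ha⟩ : ∃ a, φy a ≠ 0 := by by_contra hc; push Not at hc; exact hφy (LinearMap.ext hc)
    obtain ⟨b, hb⟩ : ∃ b, φz b ≠ 0 := by by_contra hc; push Not at hc; exact hφz (LinearMap.ext hc)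
    obtain ⟨x, hxy, hxz⟩ : ∃ x, φy x ≠ 0 ∧ φz x ≠ 0 := by
      by_cases h1 : φz a = 0
      · by_cases h2 : φy b = 0
        · exact ⟨a + b, by rw [map_add, h2, add_zero]; exact ha, by rw [map_add, h1, zero_add]; exact hb⟩
        · exact ⟨b, h2, hb⟩
      · exact ⟨a, ha, h1⟩
    obtain ⟨b1, hb1, hb1'⟩ : ∃ b1 : W, φz b1 = 1 ∧ φy b1 ≠ 0 :=
      ⟨(φz x)⁻¹ • x, by simp [hxz], by simp [hxz, hxy]⟩
    let f : W →ₗ[F] W := LinearMap.id + (φy - φz).smulRight b1
    have hf : ∀ v, φz (f v) = φy v := fun v => by simp [f, hb1]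
    have hfv : ∀ v, f v = v + (φy v - φz v) • b1 := fun v => rfl
    have hinj : Function.Injective f := by
      intro v v' h
      have h1 : φy v = φy v' := by rw [← hf v, h, hf v']
      rw [hfv, hfv, h1] at h
      have h2 := congrArg φy h
      rw [map_add, map_add, map_smul, map_smul, h1, add_right_inj, smul_eq_mul, smul_eq_mul] at h2
      rw [sub_right_inj.1 (mul_right_cancel₀ hb1' h2)] at h
      exact add_right_cancel h
    exact ⟨LinearEquiv.ofInjectiveEndo f hinj, LinearMap.ext hf⟩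
  obtain ⟨s, hs, hsW⟩ := witt C.ne_id C.invol C.symm C.ndeg W (W.subtype.comp (α : W →ₗ[F] W))
    (Subtype.val_injective.comp α.injective)
    (fun x x' => by rw [hW _ x.2 _ x'.2]; exact hW _ (α x).2 _ (α x').2)
  have hsS : s ∈ StabCard.stabW W := mem_stabW_of fun v hv => by
    rw [show s v = ((α ⟨v, hv⟩ : W) : Fin n → F) from hsW ⟨v, hv⟩]
    exact (α ⟨v, hv⟩).2
  have hsyW : ∀ x ∈ W, hB hF n x (s y) = hB hF n x z := fun x hx => by
    obtain ⟨v, rfl⟩ : ∃ v : W, s (v : Fin n → F) = x := by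
      refine ⟨⟨s.symm x, (hsS _).2 (by rwa [LinearEquiv.apply_symm_apply])⟩, s.apply_symm_apply x⟩
    have h1 : hB hF n z (s (v : Fin n → F)) = hB hF n y (v : Fin n → F) := by
      rw [hsW]; exact LinearMap.congr_fun hα v
    rw [hs, ← C.symm.eq z (s (v : Fin n → F)), h1, C.symm.eq]
  have hzW : z ∉ W := fun h => hgw (hWp h)
  have hsyW' : s y ∉ W := fun h => hy (hWp ((hsS y).2 h))
  obtain ⟨t, ht, hty⟩ := exists_map C.ne_id C.invol C.symm C.ndeg W hsyW' hzW hsyW (by rw [hs, hyy, hzz])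
  -- correct the determinant
  obtain ⟨e, he, hze⟩ : ∃ e ∈ W, hB hF n e z = 1 := by
    obtain ⟨b, hb⟩ : ∃ b : W, hB hF n (b : Fin n → F) z ≠ 0 := by
      by_contra hc
      push Not at hc
      exact hgw fun x hx => hc ⟨x, hx⟩
    refine ⟨frob hF (hB hF n (b : Fin n → F) z)⁻¹ • (b : Fin n → F), W.smul_mem _ b.2, ?_⟩
    rw [LinearMap.map_smulₛₗ, LinearMap.smul_apply, frob_frob hF, smul_eq_mul, inv_mul_cancel₀ hb]
  have hr : t * s ∈ iso (hB hF n) := mul_mem ht.1 hs
  obtain ⟨D, hD, hdet, ⟨a, -, hDe⟩, ⟨μ, hμ, hDz⟩, hfix⟩ :=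
    Big.exists_det_fix C (hW e he e he) hzz hze (Big.det_norm C (inv_mem hr))
  have hDW : D ∈ StabCard.stabW W := mem_stabW_of fun x hx => by
    have h1 : D (x - hB hF n z x • e) = x - hB hF n z x • e := hfix _
      (by rw [map_sub, map_smul, hW e he x hx, hW e he e he, smul_zero, sub_zero])
      (by rw [map_sub, map_smul, Big.swap_one C hze, smul_eq_mul, mul_one, sub_self])
    have h2 : D x = x - hB hF n z x • e + hB hF n z x • (a • e) := by
      rw [← hDe, ← map_smul]
      conv_rhs => rw [← h1, ← map_add, sub_add_cancel]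
    rw [h2]
    exact W.add_mem (W.sub_mem hx (W.smul_mem _ he)) (W.smul_mem _ (W.smul_mem _ he))
  have hrW : t * s ∈ StabCard.stabW W :=
    mul_mem (mem_stabW_of fun v hv => by rw [ht.2 v hv]; exact hv) hsS
  have hDr : D * (t * s) ∈ L := hWL ⟨(Big.mem_tv C).2 ⟨mul_mem hD hr, by
    have : LinearEquiv.det D = LinearEquiv.det (t * s)⁻¹ := Units.ext hdet
    rw [map_mul, this, ← map_mul, inv_mul_cancel, map_one]⟩, mul_mem hDW hrW⟩
  have hry : (D * (t * s)) y = μ • z := by
    rw [LinearEquiv.mul_apply, LinearEquiv.mul_apply, hty, hDz]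
  have h := centre_map hF hLi (inv_mem hDr) (centre_smul hF hzz hz μ)
  rwa [← hry, ← LinearEquiv.mul_apply, inv_mul_cancel] at h

/-- A hyperbolic pair in `U` orthogonal to a given vector of `U`. -/
theorem exists_pair_perp (C : Big.Space (hB hF n)) {W : Submodule F (Fin n → F)}
    (hW : W ⊓ perp hF W = ⊥) {b : Fin n → F} (hb : b ∈ perp hF W) (hb0 : b ≠ 0)
    (hk : finrank F W + 4 ≤ n ∨ (finrank F W + 3 ≤ n ∧ hB hF n b b ≠ 0)) :
    ∃ u ∈ perp hF W, ∃ v ∈ perp hF W, hB hF n u u = 0 ∧ hB hF n v v = 0 ∧ hB hF n u v = 1 ∧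
      hB hF n b u = 0 ∧ hB hF n b v = 0 := by
  set U := perp hF W with hUdef
  have hdisj : ∀ x, x ∈ U → (∀ y ∈ U, hB hF n x y = 0) → x = 0 := fun x hx h => by
    have : x ∈ W ⊓ U := ⟨perp_perp hF W ▸ fun y hy => hB_symm_zero hF (h y hy), hx⟩
    rwa [hW, Submodule.mem_bot] at this
  obtain ⟨y0, hy0, hby0⟩ : ∃ y ∈ U, hB hF n b y ≠ 0 := by
    by_contra hne
    push Not at hne
    exact hb0 (hdisj b hb hne)
  obtain ⟨u₁, hu₁⟩ : ∃ u, hB hF n u b ≠ 0 := ⟨y0, fun h => hby0 (hB_symm_zero hF h)⟩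
  obtain ⟨u, huU, hub', hu0, huu, hu1'⟩ : ∃ u ∈ U, hB hF n b u = 0 ∧ u ≠ 0 ∧ hB hF n u u = 0 ∧
      ∀ m : F, u ≠ m • b := by
   rcases hk with hk | ⟨hk, hbb⟩
   swap
   · have hdim : 2 ≤ finrank F ↥(U ⊓ LinearMap.ker (hB hF n b)) := by
      have h4 := LinearMap.finrank_range_add_finrank_ker (hB hF n b)
      have h5 := Submodule.finrank_le (LinearMap.range (hB hF n b))
      rw [finrank_fin_fun] at h4
      rw [Module.finrank_self] at h5
      have h6 := Submodule.finrank_sup_add_finrank_inf_eq U (LinearMap.ker (hB hF n b))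
      have h7 := Submodule.finrank_le (U ⊔ LinearMap.ker (hB hF n b))
      have h8 := finrank_perp hF W
      rw [← hUdef] at h8
      rw [finrank_fin_fun] at h7
      omega
     obtain ⟨u, hu, hu0, huu⟩ := exists_iso_ne_zero C.ne_id C.invol C.symm _ hdim
     refine ⟨u, hu.1, hu.2, hu0, huu, fun m h => ?_⟩
     have h2 : hB hF n b u = 0 := hu.2
     rw [h, map_smul, smul_eq_mul, mul_eq_zero, or_iff_left hbb] at h2
     exact hu0 (by rw [h, h2, zero_smul])
   have hdim : 2 ≤ finrank F ↥(U ⊓ (LinearMap.ker (hB hF n b) ⊓ LinearMap.ker (hB hF n u₁))) := by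
    have h4 := LinearMap.finrank_range_add_finrank_ker ((hB hF n b).prod (hB hF n u₁))
    have h5 := Submodule.finrank_le (LinearMap.range ((hB hF n b).prod (hB hF n u₁)))
    rw [LinearMap.ker_prod, finrank_fin_fun] at h4
    rw [Module.finrank_prod, Module.finrank_self] at h5
    have h6 := Submodule.finrank_sup_add_finrank_inf_eq U (LinearMap.ker (hB hF n b) ⊓ LinearMap.ker (hB hF n u₁))
    have h7 := Submodule.finrank_le (U ⊔ (LinearMap.ker (hB hF n b) ⊓ LinearMap.ker (hB hF n u₁)))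
    have h8 := finrank_perp hF W
    rw [← hUdef] at h8
    rw [finrank_fin_fun] at h7
    omega
   obtain ⟨u, hu, hu0, huu⟩ := exists_iso_ne_zero C.ne_id C.invol C.symm _ hdim
   refine ⟨u, hu.1, hu.2.1, hu0, huu, fun m h => ?_⟩
   have h2 : hB hF n u₁ u = 0 := hu.2.2
   rw [h, map_smul, smul_eq_mul, mul_eq_zero, or_iff_left hu₁] at h2
   exact hu0 (by rw [h, h2, zero_smul])
  obtain ⟨y, hy, hby, huy⟩ : ∃ y ∈ U, hB hF n b y = 0 ∧ hB hF n u y ≠ 0 := by
    by_contra hne
    push Not at hne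
    set lam := hB hF n u y0 / hB hF n b y0 with hlam
    have : u - frob hF lam • b = 0 := hdisj _ (U.sub_mem huU (U.smul_mem _ hb)) fun x hx => by
      rw [map_sub, LinearMap.sub_apply, LinearMap.map_smulₛₗ, LinearMap.smul_apply, frob_frob hF, smul_eq_mul]
      set m := hB hF n b x / hB hF n b y0 with hm
      have h1 := hne (x - m • y0) (U.sub_mem hx (U.smul_mem _ hy0))
        (by rw [map_sub, map_smul, smul_eq_mul, hm, div_mul_cancel₀ _ hby0, sub_self])
      rw [map_sub, map_smul, smul_eq_mul, sub_eq_zero] at h1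
      rw [h1, hlam, hm]
      field_simp
      ring
    rw [sub_eq_zero] at this
    exact hu1' _ this
  have h1 : hB hF n u ((hB hF n u y)⁻¹ • y) = 1 := by rw [map_smul, smul_eq_mul, inv_mul_cancel₀ huy]
  obtain ⟨t, ht⟩ := Big.adjust C huu h1
  refine ⟨u, huU, _, U.add_mem (U.smul_mem _ hy) (U.smul_mem t huU), huu, ht, ?_, hub', ?_⟩
  · rw [map_add, h1, map_smul, huu, smul_zero, add_zero]
  · rw [map_add, map_smul, map_smul, hby, hub', smul_zero, smul_zero, add_zero]

/-- A vector of `U` of prescribed norm and pairing with `b`. -/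
theorem exists_vec (C : Big.Space (hB hF n)) {W : Submodule F (Fin n → F)}
    (hW : W ⊓ perp hF W = ⊥) (hk : finrank F W + 4 ≤ n) {b : Fin n → F} (hb : b ∈ perp hF W) (hb0 : b ≠ 0)
    (β μ : F) (hμ : frob hF μ = μ) :
    ∃ v ∈ perp hF W, hB hF n b v = β ∧ hB hF n v v = μ ∧ v ≠ 0 ∧ v + b ≠ 0 := by
  obtain ⟨u, hu, v, hv, huu, hvv, huv, hbu, hbv⟩ := exists_pair_perp hF C hW hb hb0 (Or.inl hk)
  obtain ⟨y0, hy0, hby0⟩ : ∃ y ∈ perp hF W, hB hF n b y ≠ 0 := by
    by_contra hne
    push Not at hne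
    have : b ∈ W ⊓ perp hF W := ⟨perp_perp hF W ▸ fun y hy => hB_symm_zero hF (hne y hy), hb⟩
    rw [hW, Submodule.mem_bot] at this
    exact hb0 this
  set y := (β / hB hF n b y0) • y0 with hy
  set y1 := y - hB hF n v y • u - hB hF n u y • v with hy1
  have hy1U : y1 ∈ perp hF W :=
    sub_mem (sub_mem (Submodule.smul_mem _ _ hy0) (Submodule.smul_mem _ _ hu)) (Submodule.smul_mem _ _ hv)
  have hvu := Big.swap_one C huv
  have huy1 : hB hF n u y1 = 0 := by simp [hy1, huu, huv]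
  have hvy1 : hB hF n v y1 = 0 := by simp [hy1, hvv, hvu]
  have hby1 : hB hF n b y1 = β := by
    simp [hy1, hbu, hbv, hy, div_mul_cancel₀ _ hby0]
  obtain ⟨t, ht⟩ := exists_trace_eq C.ne_id C.invol (a := μ - hB hF n y1 y1)
    (by rw [map_sub, hμ, (hB_isSymm hF n).eq])
  refine ⟨y1 + (v + t • u), add_mem hy1U (add_mem hv (Submodule.smul_mem _ _ hu)), ?_, ?_, ?_, ?_⟩
  · rw [map_add, map_add, map_smul, hby1, hbu, hbv, smul_zero, add_zero, add_zero]
  · simp only [map_add, map_smul, LinearMap.map_smulₛₗ, LinearMap.add_apply, LinearMap.smul_apply, smul_eq_mul,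
      huu, hvv, huv, hvu, huy1, hvy1, hB_symm_zero hF huy1, hB_symm_zero hF hvy1]
    linear_combination ht
  · intro h
    have := congrArg (hB hF n u) h
    simp [huu, huv, huy1] at this
  · intro h
    have := congrArg (hB hF n u) h
    simp [huu, huv, huy1, hB_symm_zero hF hbu] at this

/-- Centres are transported between mixed vectors of the same type. -/
theorem centre_mixed (C : Big.Space (hB hF n)) {W : Submodule F (Fin n → F)}
    (hW : W ⊓ perp hF W = ⊥)
    (hk : finrank F W + 4 ≤ n ∨ (finrank F W + 3 ≤ n ∧ ∀ x ∈ W, x ≠ 0 → hB hF n x x ≠ 0))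
    (hWL : sStab hF W ≤ L) (hLi : L ≤ iso (hB hF n))
    {a b a' b' : Fin n → F} (ha : a ∈ W) (ha0 : a ≠ 0) (hb : b ∈ perp hF W) (hb0 : b ≠ 0)
    (ha' : a' ∈ W) (ha'0 : a' ≠ 0) (hb' : b' ∈ perp hF W) (hb'0 : b' ≠ 0)
    (hn : hB hF n a a + hB hF n b b = 0) (hn' : hB hF n a' a' + hB hF n b' b' = 0)
    (htype : hB hF n a a = 0 ↔ hB hF n a' a' = 0) (hc : Centre hF L (a + b)) :
    Centre hF L (a' + b') := by
  have hsym := (hB_isSymm hF n).eq
  obtain ⟨c, hc0, hc'⟩ : ∃ c : F, c ≠ 0 ∧ frob hF c * c * hB hF n a' a' = hB hF n a a := by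
    by_cases h : hB hF n a a = 0
    · exact ⟨1, one_ne_zero, by rw [h, htype.1 h, mul_zero]⟩
    · obtain ⟨c, hc⟩ := exists_norm_fixed C.ne_id C.invol (a := hB hF n a a / hB hF n a' a')
        (div_ne_zero h (mt htype.2 h)) (by rw [map_div₀, hsym, hsym])
      exact ⟨c, fun h0 => div_ne_zero h (mt htype.2 h) (by rw [← hc, h0, mul_zero]),
        by rw [hc, div_mul_cancel₀ _ (mt htype.2 h)]⟩
  have hdisj : ∀ x, x ∈ W → x ∈ perp hF W → x = 0 := fun x h1 h2 => by
    have : x ∈ W ⊓ perp hF W := ⟨h1, h2⟩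
    rwa [hW, Submodule.mem_bot] at this
  have hna : hB hF n a a = hB hF n (c • a') (c • a') := by
    simp only [map_smul, LinearMap.map_smulₛₗ, LinearMap.smul_apply, smul_eq_mul]
    rw [← hc', mul_assoc, mul_left_comm]
  have hnb : hB hF n b b = hB hF n (c • b') (c • b') := by
    simp only [map_smul, LinearMap.map_smulₛₗ, LinearMap.smul_apply, smul_eq_mul]
    linear_combination hn - (frob hF c * c) * hn' + hc'
  obtain ⟨s, hs, hsa⟩ := exists_map C.ne_id C.invol C.symm C.ndeg (perp hF W) (a := a) (b := c • a')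
    (fun h => ha0 (hdisj _ ha h)) (fun h => smul_ne_zero hc0 ha'0 (hdisj _ (W.smul_mem _ ha') h))
    (fun x hx => by rw [hB_symm_zero hF (hx a ha), hB_symm_zero hF (hx _ (W.smul_mem _ ha'))]) hna
  obtain ⟨t, ht, htb⟩ := exists_map C.ne_id C.invol C.symm C.ndeg W (a := b) (b := c • b')
    (fun h => hb0 (hdisj _ h hb)) (fun h => smul_ne_zero hc0 hb'0 (hdisj _ h (Submodule.smul_mem _ _ hb')))
    (fun x hx => by rw [show hB hF n x b = 0 from hb x hx,
      show hB hF n x (c • b') = 0 from (Submodule.smul_mem _ c hb' : c • b' ∈ perp hF W) x hx]) hnb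
  have hsW : s ∈ StabCard.stabW W := by
    have h := stab_perp hF hs.1 (mem_stabW_of fun v hv => by rw [hs.2 v hv]; exact hv : s ∈ StabCard.stabW (perp hF W))
    rwa [perp_perp] at h
  have hr : t * s ∈ iso (hB hF n) := mul_mem ht.1 hs.1
  obtain ⟨u, hu, v, hv, huu, hvv, huv, hbu, hbv⟩ :=
    exists_pair_perp hF C hW (Submodule.smul_mem _ c hb') (smul_ne_zero hc0 hb'0)
    (hk.imp id fun h => ⟨h.1, fun e => h.2 a' ha' ha'0 (by
      simp only [map_smul, LinearMap.map_smulₛₗ, LinearMap.smul_apply, smul_eq_mul, mul_eq_zero,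
        hc0, map_eq_zero, false_or] at e
      rw [e, add_zero] at hn'
      exact hn')⟩)
  obtain ⟨D, hD, hdet, -, -, hfix⟩ := Big.exists_det_fix C huu hvv huv (Big.det_norm C (inv_mem hr))
  have hDW : ∀ x ∈ W, D x = x := fun x hx => hfix x (hB_symm_zero hF (hu x hx)) (hB_symm_zero hF (hv x hx))
  have hg : D * (t * s) ∈ L := hWL ⟨(Big.mem_tv C).2 ⟨mul_mem hD hr, by
    have : LinearEquiv.det D = LinearEquiv.det (t * s)⁻¹ := Units.ext hdet
    rw [map_mul, this, ← map_mul, inv_mul_cancel, map_one]⟩,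
    mul_mem (mem_stabW_of fun x hx => by rw [hDW x hx]; exact hx)
      (mul_mem (mem_stabW_of fun x hx => by rw [ht.2 x hx]; exact hx) hsW)⟩
  have hab : hB hF n (a + b) (a + b) = 0 := by
    simp only [map_add, LinearMap.add_apply, show hB hF n a b = 0 from hb a ha, hB_symm_zero hF (hb a ha)]
    linear_combination hn
  have hgab : (D * (t * s)) (a + b) = c • (a' + b') := by
    rw [LinearEquiv.mul_apply, LinearEquiv.mul_apply, map_add, hsa, hs.2 b hb, map_add, htb,
      ht.2 _ (W.smul_mem _ ha'), map_add, hDW _ (W.smul_mem _ ha'),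
      hfix _ (hB_symm_zero hF hbu) (hB_symm_zero hF hbv), smul_add]
  have h := centre_map hF hLi hg hc
  rw [hgab] at h
  have hab' : hB hF n (c • (a' + b')) (c • (a' + b')) = 0 := by rw [← hgab, hLi hg, hab]
  have h' := centre_smul hF hab' h c⁻¹
  rwa [smul_smul, inv_mul_cancel₀ hc0, one_smul] at h'

theorem maximal_nondegenerate (C : Big.Space (hB hF n)) {W : Submodule F (Fin n → F)}
    (hW : W ⊓ perp hF W = ⊥) (hdim : 2 * finrank F W < n) (hk : finrank F W + 4 ≤ n)
    (hWL : sStab hF W ≤ L) (hL : L ≤ tvGroup (hB hF n)) :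
    L = sStab hF W ∨ L = tvGroup (hB hF n) := by
  classical
  by_cases hle : L ≤ sStab hF W
  · exact Or.inl (le_antisymm hle hWL)
  refine Or.inr (eq_top_of_centres hF hL ?_)
  have hLi : L ≤ iso (hB hF n) := hL.trans (tvGroup_le_iso C.symm)
  have hsym := (hB_isSymm hF n).eq
  set U := perp hF W with hUdef
  have hUdim := finrank_perp hF W
  rw [← hUdef] at hUdim
  have hdisj : ∀ x, x ∈ W → x ∈ U → x = 0 := fun x h1 h2 => by
    have : x ∈ W ⊓ U := ⟨h1, h2⟩
    rwa [hW, Submodule.mem_bot] at this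
  have hsum : W ⊔ U = ⊤ := Submodule.eq_top_of_disjoint _ _
    (by rw [finrank_fin_fun]; omega) (disjoint_iff.2 hW)
  obtain ⟨g, hgL, hgW⟩ := SetLike.not_le_iff_exists.1 hle
  have hgi := hLi hgL
  obtain ⟨z, hz, hzz, hzW, hzU⟩ : ∃ z, Centre hF L z ∧ hB hF n z z = 0 ∧ z ∉ W ∧ z ∉ U := by
    by_contra hne
    push Not at hne
    have hc : ∀ x ∈ U, hB hF n x x = 0 → g x ∉ W → g x ∈ U := fun x hx hxx =>
      hne _ (centre_map hF hLi hgL (centre_perp hF hWL hxx hx)) (by rw [hgi, hxx])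
    obtain ⟨b0, hb0U, hb00⟩ := Submodule.exists_mem_ne_zero_of_ne_bot
      (show U ≠ ⊥ from fun h => by rw [h, finrank_bot] at hUdim; omega)
    obtain ⟨u0, hu0, v0, hv0, huu0, hvv0, huv0, -, -⟩ := exists_pair_perp hF C hW hb0U hb00 (Or.inl hk)
    by_cases hex : ∃ u ∈ U, hB hF n u u = 0 ∧ u ≠ 0 ∧ g u ∈ W
    · obtain ⟨u, hu, huu, hu00, hguW⟩ := hex
      obtain ⟨y, hy, huy⟩ : ∃ y ∈ U, hB hF n u y ≠ 0 := by
        by_contra h
        push Not at h
        exact hu00 (hdisj u (perp_perp hF W ▸ fun x hx => hB_symm_zero hF (h x hx)) hu)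
      have hspan := le_span_iso hF hu huu hy huy
      have hUW : U.map (g : (Fin n → F) →ₗ[F] (Fin n → F)) ≤ W := by
        rw [Submodule.map_le_iff_le_comap]
        refine hspan.trans (Submodule.span_le.2 ?_)
        rintro x (rfl | ⟨hx, hxx, hux⟩)
        · exact hguW
        · show g x ∈ W
          by_contra hxW
          have h1 : hB hF n (g u) (g x) = 0 := (hc x hx hxx hxW) _ hguW
          rw [hgi] at h1
          exact hux h1
      have h1 := Submodule.finrank_mono hUW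
      rw [LinearEquiv.finrank_map_eq] at h1
      omega
    · push Not at hex
      have hgu : ∀ x ∈ U, hB hF n x x = 0 → g x ∈ U := fun x hx hxx => by
        by_cases hx0 : x = 0
        · rw [hx0, map_zero]; exact U.zero_mem
        · exact hc x hx hxx (hex x hx hxx hx0)
      have hp : g ∈ StabCard.stabW U := mem_stabW_of fun x hx => by
        have : Submodule.span F ({u0} ∪ {w | w ∈ U ∧ hB hF n w w = 0 ∧ hB hF n u0 w ≠ 0}) ≤
            U.comap (g : (Fin n → F) →ₗ[F] (Fin n → F)) := by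
          rw [Submodule.span_le]
          rintro w (rfl | ⟨hw, hww, -⟩)
          · exact hgu w hu0 huu0
          · exact hgu w hw hww
        exact this (le_span_iso hF hu0 huu0 hv0 (by rw [huv0]; exact one_ne_zero) hx)
      have h := stab_perp hF hgi hp
      rw [hUdef, perp_perp] at h
      exact hgW ⟨hL hgL, h⟩
  obtain ⟨a, ha, b, hb, rfl⟩ := Submodule.mem_sup.1 (show z ∈ W ⊔ U from hsum ▸ Submodule.mem_top)
  have ha0 : a ≠ 0 := fun h => hzU (by rw [h, zero_add]; exact hb)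
  have hb0 : b ≠ 0 := fun h => hzW (by rw [h, add_zero]; exact ha)
  have hnorm : ∀ {a b : Fin n → F}, a ∈ W → b ∈ U → hB hF n (a + b) (a + b) = hB hF n a a + hB hF n b b := by
    intro a b ha hb
    simp only [map_add, LinearMap.add_apply, show hB hF n a b = 0 from hb a ha, hB_symm_zero hF (hb a ha)]
    ring
  have hcross : ∀ {a b a' b' : Fin n → F}, a ∈ W → b ∈ U → a' ∈ W → b' ∈ U →
      hB hF n (a + b) (a' + b') = hB hF n a a' + hB hF n b b' := by
    intro a b a' b' ha hb ha' hb'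
    simp only [map_add, LinearMap.add_apply, show hB hF n a b' = 0 from hb' a ha,
      hB_symm_zero hF (hb a' ha')]
    ring
  have hn : hB hF n a a + hB hF n b b = 0 := (hnorm ha hb).symm.trans hzz
  -- the image of a centre under the transvections of another one
  have hstep : ∀ a2 ∈ W, ∀ b2 ∈ U, a2 ≠ 0 → b2 ≠ 0 → hB hF n a2 a2 + hB hF n b2 b2 = 0 →
      (hB hF n a a = 0 ↔ hB hF n a2 a2 = 0) → ∀ l : F, l + frob hF l = 0 →
      Centre hF L ((a2 + (l * (hB hF n a a2 + hB hF n b b2)) • a) + (b2 + (l * (hB hF n a a2 + hB hF n b b2)) • b)) := by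
    intro a2 ha2 b2 hb2 ha20 hb20 hn2 ht2 l hl
    have h2 := centre_mixed hF C hW (Or.inl hk) hWL hLi ha ha0 hb hb0 ha2 ha20 hb2 hb20 hn hn2 ht2 hz
    have hh : l + frob hF l + frob hF l * l * hB hF n (a + b) (a + b) = 0 := by rw [hzz, mul_zero, add_zero, hl]
    have h3 := centre_map hF hLi (hz l hh) h2
    rw [qrefl_apply, hcross ha hb ha2 hb2, smul_add] at h3
    rwa [show a2 + b2 + ((l * (hB hF n a a2 + hB hF n b b2)) • a + (l * (hB hF n a a2 + hB hF n b b2)) • b) =
      (a2 + (l * (hB hF n a a2 + hB hF n b b2)) • a) + (b2 + (l * (hB hF n a a2 + hB hF n b b2)) • b) by abel] at h3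
  obtain ⟨l, hl0, hl⟩ := exists_trace_zero C.ne_id C.invol
  intro y hyy
  obtain ⟨a', ha', b', hb', rfl⟩ := Submodule.mem_sup.1 (show y ∈ W ⊔ U from hsum ▸ Submodule.mem_top)
  by_cases ha'0 : a' = 0
  · rw [ha'0, zero_add] at hyy ⊢
    exact centre_perp hF hWL hyy hb'
  by_cases hb'0 : b' = 0
  · rw [hb'0, add_zero] at hyy ⊢
    exact centre_mem hF hWL hyy ha'
  have hn' : hB hF n a' a' + hB hF n b' b' = 0 := (hnorm ha' hb').symm.trans hyy
  by_cases htype : hB hF n a a = 0 ↔ hB hF n a' a' = 0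
  · exact centre_mixed hF C hW (Or.inl hk) hWL hLi ha ha0 hb hb0 ha' ha'0 hb' hb'0 hn hn' htype hz
  -- a centre of the other type
  suffices h : ∃ a3 ∈ W, ∃ b3 ∈ U, a3 ≠ 0 ∧ b3 ≠ 0 ∧ hB hF n a3 a3 + hB hF n b3 b3 = 0 ∧
      (hB hF n a3 a3 = 0 ↔ hB hF n a' a' = 0) ∧ Centre hF L (a3 + b3) by
    obtain ⟨a3, ha3, b3, hb3, ha30, hb30, hn3, ht3, hc3⟩ := h
    exact centre_mixed hF C hW (Or.inl hk) hWL hLi ha3 ha30 hb3 hb30 ha' ha'0 hb' hb'0 hn3 hn' ht3 hc3
  by_cases haa : hB hF n a a = 0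
  · -- from isotropic to anisotropic type
    have ha'a : hB hF n a' a' ≠ 0 := fun h => htype (iff_of_true haa h)
    obtain ⟨x, hx, hax⟩ : ∃ x ∈ W, hB hF n a x ≠ 0 := by
      by_contra h
      push Not at h
      exact ha0 (hdisj a ha fun x hx => hB_symm_zero hF (h x hx))
    have h1 : hB hF n a ((hB hF n a x)⁻¹ • x) = 1 := by rw [map_smul, smul_eq_mul, inv_mul_cancel₀ hax]
    obtain ⟨t, ht⟩ := Big.adjust C haa h1
    set a2 := (hB hF n a x)⁻¹ • x + t • a with ha2def
    have ha2 : a2 ∈ W := W.add_mem (W.smul_mem _ hx) (W.smul_mem _ ha)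
    have haa2 : hB hF n a a2 = 1 := by rw [ha2def, map_add, h1, map_smul, haa, smul_zero, add_zero]
    have ha20 : a2 ≠ 0 := fun h => by rw [h, map_zero] at haa2; exact zero_ne_one haa2
    obtain ⟨β, hβ⟩ : ∃ β : F, frob hF β ≠ β := by
      by_contra h
      push Not at h
      exact C.ne_id (RingHom.ext h)
    obtain ⟨b2, hb2, hbb2, hb22, hb20, -⟩ := exists_vec hF C hW hk hb hb0 β 0 (map_zero _)
    have hc3 := hstep a2 ha2 b2 hb2 ha20 hb20 (by rw [ht, hb22, add_zero]) (iff_of_true haa ht) l hl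
    rw [haa2, hbb2] at hc3
    set m := l * (1 + β) with hm
    have hnon : hB hF n (a2 + m • a) (a2 + m • a) ≠ 0 := by
      simp only [map_add, map_smul, LinearMap.map_smulₛₗ, LinearMap.add_apply, LinearMap.smul_apply, smul_eq_mul,
        ht, haa, haa2, Big.swap_one C haa2]
      rw [hm, map_mul, eq_neg_of_add_eq_zero_right hl, map_add, map_one]
      intro h
      have h0 : l * (β - frob hF β) = 0 := by linear_combination h
      exact (mul_ne_zero hl0 (sub_ne_zero.2 (Ne.symm hβ))) h0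
    have hc3n : hB hF n (a2 + m • a) (a2 + m • a) + hB hF n (b2 + m • b) (b2 + m • b) = 0 := by
      have hbb : hB hF n b b = 0 := by rwa [haa, zero_add] at hn
      simp only [map_add, map_smul, LinearMap.map_smulₛₗ, LinearMap.add_apply, LinearMap.smul_apply, smul_eq_mul,
        ht, haa, haa2, Big.swap_one C haa2, hb22, hbb, hbb2, ← hsym b b2]
      rw [hm, map_mul, eq_neg_of_add_eq_zero_right hl, map_add, map_one]
      ring
    refine ⟨a2 + m • a, W.add_mem ha2 (W.smul_mem _ ha), b2 + m • b, U.add_mem hb2 (U.smul_mem _ hb),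
      fun h => hnon (by simp [h]), fun h => hnon ?_, hc3n, iff_of_false hnon ha'a, hc3⟩
    simpa [h] using hc3n
  · -- from anisotropic to isotropic type
    have ha'a : hB hF n a' a' = 0 := by
      by_contra h
      exact htype (iff_of_false haa h)
    obtain ⟨i, hi, hi0, hii, hia⟩ : ∃ i ∈ W, i ≠ 0 ∧ hB hF n i i = 0 ∧
        hB hF n a i + frob hF (hB hF n a i) = 0 := by
      by_cases h : hB hF n a a' = 0
      · exact ⟨a', ha', ha'0, ha'a, by rw [h, map_zero, add_zero]⟩
      · refine ⟨(l / hB hF n a a') • a', W.smul_mem _ ha', smul_ne_zero (div_ne_zero hl0 h) ha'0,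
          by simp [map_smul, LinearMap.map_smulₛₗ, ha'a], ?_⟩
        rw [map_smul, smul_eq_mul, div_mul_cancel₀ _ h, hl]
    set a2 := i - a with ha2def
    have ha2n : hB hF n a2 a2 = hB hF n a a := by
      simp only [ha2def, map_sub, LinearMap.sub_apply, hii, ← hsym a i]
      linear_combination -hia
    have ha2 : a2 ∈ W := W.sub_mem hi ha
    have ha20 : a2 ≠ 0 := fun h => haa (by rw [← ha2n, h]; simp)
    obtain ⟨b2, hb2, hbb2, hb22, hb20, hb2b⟩ := exists_vec hF C hW hk hb hb0 (l⁻¹ - hB hF n a a2)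
      (hB hF n b b) (hsym b b)
    have hc3 := hstep a2 ha2 b2 hb2 ha20 hb20 (by rw [ha2n, hb22, hn]) (by rw [ha2n]) l hl
    rw [hbb2, add_sub_cancel, mul_inv_cancel₀ hl0, one_smul, one_smul, ha2def, sub_add_cancel] at hc3
    refine ⟨i, hi, b2 + b, U.add_mem hb2 hb, hi0, hb2b, ?_, iff_of_true hii ha'a, hc3⟩
    have hbs := hsym b b2
    rw [hbb2, map_sub, map_inv₀, eq_neg_of_add_eq_zero_right hl] at hbs
    simp only [map_add, LinearMap.add_apply, hii, hb22, hbb2, ← hbs]
    simp only [ha2def, map_sub, hsym, inv_neg]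
    have hia' : hB hF n i a = frob hF (hB hF n a i) := (hsym a i).symm
    rw [hia']
    linear_combination 2 * hn - hia

end Cfsg.Lib.Linear.Herm.UMax

namespace Cfsg.Lib.Linear.Herm.UMax

open Module
open scoped Matrix
open Cfsg.Lib.Linear

variable {F : Type*} [Field F] [Fintype F] {q : ℕ} (hF : Fintype.card F = q ^ 2) {n : ℕ}

/-- A vector paired non-trivially with an element of `W` but outside `W` gives a transvection moving `W`. -/
theorem sStab_ne_of {W : Submodule F (Fin n → F)} {w v : Fin n → F} (hw : w ∈ W) (hv : hB hF n v v = 0)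
    (hvW : v ∉ W) (hvw : hB hF n v w ≠ 0) : sStab hF W ≠ tvGroup (hB hF n) := by
  intro he
  obtain ⟨l, hl0, hl⟩ := exists_trace_zero (frob_ne_id hF) (frob_frob hF)
  have h : l + frob hF l + frob hF l * l * hB hF n v v = 0 := by rw [hv, mul_zero, add_zero, hl]
  have hmem : qrefl v l h ∈ sStab hF W := he ▸ Subgroup.subset_closure ⟨v, l, h, hv, rfl⟩
  have h1 := W.sub_mem ((hmem.2 w).1 hw) hw
  rw [qrefl_apply, add_sub_cancel_left] at h1
  exact hvW ((Submodule.smul_mem_iff W (mul_ne_zero hl0 hvw)).1 h1)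

/-- Invertible matrices as linear equivalences. -/
noncomputable def glEquiv (n : ℕ) (F : Type*) [Field F] :
    GL (Fin n) F ≃* ((Fin n → F) ≃ₗ[F] (Fin n → F)) :=
  Matrix.GeneralLinearGroup.toLin.trans (LinearMap.GeneralLinearGroup.generalLinearEquiv F _)

theorem isMaximalIn_su (C : Big.Space (hB hF n)) (W : Submodule F (Fin n → F))
    (hne : sStab hF W ≠ tvGroup (hB hF n))
    (h : ∀ L, sStab hF W ≤ L → L ≤ tvGroup (hB hF n) → L = sStab hF W ∨ L = tvGroup (hB hF n)) :
    Cfsg.Geo.IsMaximalIn (Cfsg.GU n F q ⊓ Cfsg.Geo.specialLinear (Fin n) F)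
      (Cfsg.Geo.subspaceStabilizer W ⊓ (Cfsg.GU n F q ⊓ Cfsg.Geo.specialLinear (Fin n) F)) := by
  set e := (glEquiv n F).toMonoidHom with he
  have hdet : ∀ g : GL (Fin n) F, LinearEquiv.det (e g) = Matrix.GeneralLinearGroup.det g := fun g => by
    refine Units.ext ?_
    rw [LinearEquiv.coe_det]
    exact LinearMap.det_toLin' _
  have hS : Cfsg.GU n F q ⊓ Cfsg.Geo.specialLinear (Fin n) F = (tvGroup (hB hF n)).comap e := by
    ext g
    rw [Subgroup.mem_comap, Big.mem_tv C, hdet, Subgroup.mem_inf]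
    exact and_congr ⟨fun hg u v => hg v u, fun hg u v => hg v u⟩ MonoidHom.mem_ker
  have hT : Cfsg.Geo.subspaceStabilizer W ⊓ (Cfsg.GU n F q ⊓ Cfsg.Geo.specialLinear (Fin n) F) =
      (sStab hF W).comap e := by
    rw [hS]
    ext g
    exact ⟨fun h => ⟨h.2, h.1⟩, fun h => ⟨h.2, h.1⟩⟩
  rw [hT, hS]
  have hs : Function.Surjective e := (glEquiv n F).surjective
  refine ⟨lt_of_le_of_ne (Subgroup.comap_mono fun g hg => hg.1) fun hc =>
    hne (Subgroup.comap_injective hs hc), fun M hM1 hM2 => ?_⟩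
  have hM : (M.map e).comap e = M := Subgroup.comap_map_eq_self_of_injective (glEquiv n F).injective M
  rcases h (M.map e) (by rw [← Subgroup.map_comap_eq_self_of_surjective hs (sStab hF W)]; exact Subgroup.map_mono hM1)
      (by rw [← Subgroup.map_comap_eq_self_of_surjective hs (tvGroup (hB hF n))]; exact Subgroup.map_mono hM2) with hc | hc
  · exact Or.inl (by rw [← hM, hc])
  · exact Or.inr (by rw [← hM, hc])

end Cfsg.Lib.Linear.Herm.UMax
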