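import Cfsg.Agent.Lib.Linear.OrthOrder
import Cfsg.Agent.Lib.Linear.OrthSimple

/-!
# Elements centralising two root groups, and the class of a long root element
-/

set_option autoImplicit false

namespace Cfsg.Lib.Linear.Orth

open Module
open scoped Matrix

variable {ι : Type} [Fintype ι] [DecidableEq ι] {F : Type*} [Field F] [Finite F]
  {Q : (ι → F) → F} {B : LinearMap.BilinForm F (ι → F)}

omit [Finite F] in
theorem root_eq_mod (C : Space Q B) {e f x y : ι → F} (he : Q e = 0) (hef : B e f = 1)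
    (hx : B e x = 0) (hy : B e y = 0) (h : sGL Q B e x = sGL Q B e y) :
    ∃ s : F, x = y + s • e := by
  have h1 := congrArg (fun g : GL ι F => g.val *ᵥ f) h
  simp only [sGL_act C he hx, sGL_act C he hy, hef, one_smul, mul_one] at h1
  exact ⟨(B x f + Q x) - (B y f + Q y), by linear_combination (norm := module) h1⟩

omit [Finite F] in
theorem root_commute_conj (C : Space Q B) {g : GL ι F} (hg : g ∈ isometryGroup F Q) {e a : ι → F}
    (he : Q e = 0) (ha : B e a = 0) (hc : Commute g (sGL Q B e a)) :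
    sGL Q B (g.val *ᵥ e) (g.val *ᵥ a) = sGL Q B e a := by
  rw [← sGL_conj C he ha hg, hc.eq, mul_inv_cancel_right]

/-- An element commuting with the root groups at `e` fixes the line of `e`. -/
theorem line_of_commute (C : Space Q B) (h5 : 5 ≤ Fintype.card ι) {g : GL ι F}
    (hg : g ∈ isometryGroup F Q) {e : ι → F} (he : Q e = 0) (he0 : e ≠ 0)
    (hc : ∀ a, B e a = 0 → Commute g (sGL Q B e a)) :
    g.val *ᵥ e ∈ Submodule.span F {e} := by
  by_contra hne
  set e' := g.val *ᵥ e with he'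
  have hQe' : Q e' = 0 := by rw [he', mem_iso.mp hg, he]
  have key : ∀ a, B e a = 0 → ∀ x, B e' x = 0 →
      (sGL Q B e a).val *ᵥ x = x - (B (g.val *ᵥ a) x) • e' := by
    intro a ha x hx
    rw [← root_commute_conj C hg he ha (hc a ha), ← he',
      sGL_act C hQe' (by rw [he', C.B_act hg, ha]), hx]
    simp
  obtain ⟨x, hx, hex⟩ : ∃ x, B e' x = 0 ∧ B e x = 1 := by
    have he'0 : e' ≠ 0 := act_ne_zero he0
    obtain ⟨u, hu⟩ := C.exists_pair he'0
    by_contra hno
    push Not at hno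
    have hall : ∀ x, B e' x = 0 → B e x = 0 := fun x hx => by
      by_contra hne'
      exact hno ((B e x)⁻¹ • x) (by rw [map_smul, hx, smul_zero])
        (by rw [map_smul, smul_eq_mul, inv_mul_cancel₀ hne'])
    refine hne (Submodule.mem_span_singleton.mpr ?_)
    have heq : e = B e u • e' := by
      have h0 : e - B e u • e' = 0 := C.nondeg' fun v => by
        have h3 := hall (v - B e' v • u)
          (by rw [map_sub, map_smul, hu, smul_eq_mul, mul_one, sub_self])
        rw [map_sub, map_smul, smul_eq_mul, sub_eq_zero] at h3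
        rw [map_sub, map_smul, LinearMap.sub_apply, LinearMap.smul_apply, h3, smul_eq_mul]
        ring
      exact sub_eq_zero.mp h0
    have hc : B e u ≠ 0 := fun h => he0 (by rw [heq, h, zero_smul])
    exact ⟨(B e u)⁻¹, by rw [inv_smul_eq_iff₀ hc]; exact heq⟩
  have hspan : LinearMap.ker (B e) ≤ Submodule.span F {e, e'} := fun a ha => by
    have ha' := LinearMap.mem_ker.mp ha
    have h := key a ha' x hx
    rw [sGL_act C he ha', hex, one_smul, mul_one] at h
    have : a = (B a x + Q a) • e - (B (g.val *ᵥ a) x) • e' := by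
      linear_combination (norm := module) h
    exact Submodule.mem_span_pair.mpr ⟨B a x + Q a, -B (g.val *ᵥ a) x,
      by rw [neg_smul, ← sub_eq_add_neg]; exact this.symm⟩
  have h1 := LinearMap.finrank_range_add_finrank_ker (B e)
  have h3 := Submodule.finrank_le (LinearMap.range (B e))
  have h4 := Submodule.finrank_mono hspan
  have hp : finrank F (Submodule.span F {e, e'}) ≤ 2 := by
    classical
    have h := finrank_span_finset_le_card (R := F) ({e, e'} : Finset (ι → F))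
    rw [Finset.coe_pair] at h
    exact h.trans Finset.card_le_two
  rw [finrank_fintype_fun_eq_card] at h1
  rw [Module.finrank_self] at h3
  omega

/-- An element of odd prime order `p` commuting with two consecutive root groups is a root element
of the singular line. -/
theorem eq_root_of_commute (C : Space Q B) (h7 : 7 ≤ Fintype.card ι) {p : ℕ} (hp : Odd p)
    (h2 : (2 : F) ≠ 0) {g : GL ι F} (hg : g ∈ isometryGroup F Q) (hgp : g ^ p = 1)
    {e1 f1 e2 f2 : ι → F} (H1 : Hyp Q B ⊤ e1 f1) (H2 : Hyp Q B (perp2 B ⊤ e1 f1) e2 f2)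
    (c1 : ∀ a, B e1 a = 0 → Commute g (sGL Q B e1 a))
    (c2 : ∀ b, B e1 b = 0 → B e2 b = 0 → Commute g (sGL Q B e2 b)) :
    ∃ c : F, g = sGL Q B e1 (c • e2) := by
  have he0 : e1 ≠ 0 := fun h => by
    have := H1.pair; rw [h, map_zero, LinearMap.zero_apply] at this; exact zero_ne_one this
  obtain ⟨c, hc⟩ := Submodule.mem_span_singleton.mp
    (line_of_commute C (by omega) hg H1.singE he0 c1)
  have hpow : ∀ k : ℕ, (g ^ k).val *ᵥ e1 = c ^ k • e1 := fun k => by
    induction k with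
    | zero => simp
    | succ k ih => rw [pow_succ', mul_act, ih, Matrix.mulVec_smul, ← hc, smul_smul, pow_succ]
  have hcp : c ^ p = 1 := by
    have h := hpow p
    rw [hgp, Units.val_one, Matrix.one_mulVec] at h
    exact (smul_left_injective F he0 (show (1 : F) • e1 = c ^ p • e1 by rw [one_smul]; exact h)).symm
  have hc0 : c ≠ 0 := fun h => by
    rw [h, zero_pow hp.pos.ne'] at hcp; exact zero_ne_one hcp
  set W1 := perp2 B ⊤ e1 f1 with hW1
  obtain ⟨-, h1e2, h1f2⟩ := mem_perp2.mp H2.memE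
  obtain ⟨-, h2e2, h2f2⟩ := mem_perp2.mp H2.memF
  have hga : ∀ a, B e1 a = 0 → ∃ s : F, g.val *ᵥ a = c⁻¹ • a + s • e1 := fun a ha => by
    have h := root_commute_conj C hg H1.singE ha (c1 a ha)
    rw [← hc, sGL_smul C H1.singE (by
      rw [← inv_smul_smul₀ hc0 e1, hc, map_smul, LinearMap.smul_apply, C.B_act hg, ha, smul_zero])]
      at h
    obtain ⟨s, hs⟩ := root_eq_mod C H1.singE H1.pair
      (show B e1 (c • g.val *ᵥ a) = 0 by
        rw [map_smul, ← inv_smul_smul₀ hc0 e1, hc, map_smul, LinearMap.smul_apply, C.B_act hg, ha,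
          smul_zero, smul_zero]) ha h
    refine ⟨c⁻¹ * s, ?_⟩
    rw [← inv_smul_smul₀ hc0 (g.val *ᵥ a), hs, smul_add, smul_smul]
  have hc1 : c = 1 := by
    obtain ⟨x, hx, hQx⟩ := exists_nonsing C (H1.ndeg C C.ndeg_top) (fun h => by
      have := H2.memE
      rw [hW1, h, Submodule.mem_bot] at this
      have h3 := H2.pair
      rw [this, map_zero, LinearMap.zero_apply] at h3
      exact zero_ne_one h3)
    obtain ⟨-, hex, hfx⟩ := mem_perp2.mp hx
    obtain ⟨s, hs⟩ := hga x hex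
    have h := mem_iso.mp hg x
    rw [hs, C.smul_add, H1.singE, C.symm x e1, hex] at h
    have h3 : c⁻¹ * c⁻¹ = 1 := mul_right_cancel₀ hQx (by linear_combination h)
    rcases mul_self_eq_one_iff.mp h3 with h4 | h4
    · simpa using h4
    · have h5 : c = -1 := by rw [← inv_inv c, h4, inv_neg, inv_one]
      rw [h5, hp.neg_one_pow] at hcp
      exact absurd (by linear_combination -hcp) h2
  subst hc1
  rw [one_smul] at hc
  -- `g` agrees with a root element at `e1`
  obtain ⟨-, hef, hff⟩ := mem_perp2.mp (H1.proj C (Submodule.mem_top (x := g.val *ᵥ f1)))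
  set w := g.val *ᵥ f1 - B f1 (g.val *ᵥ f1) • e1 - B e1 (g.val *ᵥ f1) • f1 with hw
  have hBgf : B e1 (g.val *ᵥ f1) = 1 := by
    nth_rewrite 1 [hc]; rw [C.B_act hg, H1.pair]
  have hwW : w ∈ W1 := H1.proj C Submodule.mem_top
  have hgf : g.val *ᵥ f1 = f1 + w - Q w • e1 := by
    have h := Q_hyp C H1 hwW (B f1 (g.val *ᵥ f1)) (B e1 (g.val *ᵥ f1))
    rw [hw, show g.val *ᵥ f1 - B f1 (g.val *ᵥ f1) • e1 - B e1 (g.val *ᵥ f1) • f1 +
      B f1 (g.val *ᵥ f1) • e1 + B e1 (g.val *ᵥ f1) • f1 = g.val *ᵥ f1 by abel, ← hw,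
      mem_iso.mp hg, H1.singF, hBgf, mul_one] at h
    rw [show Q w = -B f1 (g.val *ᵥ f1) by linear_combination -h, hw, hBgf]
    module
  have hgW : ∀ a ∈ W1, g.val *ᵥ a = a - B w a • e1 := fun a ha => by
    obtain ⟨-, hea, hfa⟩ := mem_perp2.mp ha
    obtain ⟨s, hs⟩ := hga a hea
    rw [inv_one, one_smul] at hs
    have h := C.B_act hg f1 a
    rw [hgf, hs, hfa] at h
    simp [hea, hfa, C.symm w e1, hef, C.symm f1 e1, H1.pair, C.self_zero H1.singE] at h
    rw [hs, sub_eq_add_neg, ← neg_smul, show s = -B w a by linear_combination h]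
  -- the second root group makes `w` a multiple of `e2`
  have key : ∀ b ∈ perp2 B W1 e2 f2, B w b - B w e2 * Q b = 0 := fun b hb => by
    obtain ⟨hbW, h2b, hf2b⟩ := mem_perp2.mp hb
    obtain ⟨-, h1b, hf1b⟩ := mem_perp2.mp hbW
    have h := root_commute_conj C hg H2.singE h2b (c2 b h1b h2b)
    rw [hgW e2 H2.memE, hgW b hbW] at h
    have h' := congrArg (fun t : GL ι F => B f1 (t.val *ᵥ f2)) h
    have hu : Q (e2 - B w e2 • e1) = 0 := by
      rw [← hgW e2 H2.memE, mem_iso.mp hg, H2.singE]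
    have hub : B (e2 - B w e2 • e1) (b - B w b • e1) = 0 := by
      rw [← hgW e2 H2.memE, ← hgW b hbW, C.B_act hg, h2b]
    simp only [sGL_act C hu hub, sGL_act C H2.singE h2b] at h'
    have hQb : Q (b - B w b • e1) = Q b := by rw [← hgW b hbW, mem_iso.mp hg]
    rw [hQb] at h'
    simp [H2.pair, h2e2, h2f2, h1e2, h1f2, h1b, hf1b, H1.pair' C, C.symm b f2, hf2b] at h'
    linear_combination -h'
  have hzero : B w e2 = 0 ∧ ∀ b ∈ perp2 B W1 e2 f2, B w b = 0 := by
    have hlin : ∀ b ∈ perp2 B W1 e2 f2, B w b = 0 := fun b hb => by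
      have h4 := key b hb
      have h5 := key (-b) (Submodule.neg_mem _ hb)
      rw [C.neg, map_neg] at h5
      have : (2 : F) * B w b = 0 := by linear_combination h4 - h5
      exact (mul_eq_zero.mp this).resolve_left h2
    refine ⟨?_, hlin⟩
    obtain ⟨b, hb, hQb⟩ := exists_nonsing C (H2.ndeg C (H1.ndeg C C.ndeg_top)) (fun h => by
      have h3 := H2.le_finrank C
      have h4 := H1.le_finrank C
      rw [h, finrank_bot] at h3
      rw [finrank_top, finrank_fintype_fun_eq_card, ← hW1] at h4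
      omega)
    have h4 := key b hb
    rw [hlin b hb, zero_sub, neg_eq_zero] at h4
    exact (mul_eq_zero.mp h4).resolve_right hQb
  have hwe : w = B f2 w • e2 := by
    have hmem : w - B f2 w • e2 - B e2 w • f2 ∈ perp2 B W1 e2 f2 := H2.proj C hwW
    have h0 : w - B f2 w • e2 - B e2 w • f2 = 0 :=
      H2.ndeg C (H1.ndeg C C.ndeg_top) _ hmem fun b hb => by
        obtain ⟨-, h2b, hf2b⟩ := mem_perp2.mp hb
        simp [hzero.2 b hb, h2b, hf2b]
    rw [C.symm e2 w, hzero.1, zero_smul, sub_zero, sub_eq_zero] at h0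
    exact h0
  refine ⟨B f2 w, ?_⟩
  rw [← hwe]
  refine gl_ext fun x => ?_
  obtain ⟨hxW, -, -⟩ : _ ∧ True ∧ True := ⟨H1.proj C (Submodule.mem_top (x := x)), trivial, trivial⟩
  rw [sGL_act C H1.singE hef]
  conv_lhs => rw [show x = (x - B f1 x • e1 - B e1 x • f1) + B f1 x • e1 + B e1 x • f1 by abel]
  rw [Matrix.mulVec_add, Matrix.mulVec_add, Matrix.mulVec_smul, Matrix.mulVec_smul, hgW _ hxW,
    ← hc, hgf]
  simp only [map_sub, map_smul, smul_eq_mul, C.symm w e1, hef, C.symm w f1, hff, mul_zero, sub_zero]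
  module

/-! ## The class of a long root element -/

/-- Pairs spanning totally singular lines are conjugate under `Ω`. -/
theorem line_trans (C : Space Q B) (h7 : 7 ≤ Fintype.card ι) {e w e' w' : ι → F}
    (he0 : e ≠ 0) (he : Q e = 0) (hw : Q w = 0) (hew : B e w = 0) (hind : w ∉ Submodule.span F {e})
    (he'0 : e' ≠ 0) (he' : Q e' = 0) (hw' : Q w' = 0) (hew' : B e' w' = 0)
    (hind' : w' ∉ Submodule.span F {e'}) :
    ∃ g ∈ Root Q B ⊤, g * sGL Q B e w * g⁻¹ = sGL Q B e' w' := by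
  obtain ⟨g, hg, hge⟩ := trans_top C (by omega) he0 he'0 (he.trans he'.symm)
  have hgI := root_le_iso C _ hg
  obtain ⟨f, H⟩ := exists_hyp C C.ndeg_top (U := ⊤) trivial he'0 he'
  have hW5 : 5 ≤ finrank F ↥(perp2 B ⊤ e' f) := by
    have := H.le_finrank C; rw [finrank_top, finrank_fintype_fun_eq_card] at this; omega
  have hproj : ∀ u, B e' u = 0 → Q u = 0 → u ∉ Submodule.span F {e'} →
      u - B f u • e' ∈ perp2 B ⊤ e' f ∧ u - B f u • e' ≠ 0 ∧ Q (u - B f u • e') = 0 := by
    intro u hu hQu hns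
    refine ⟨mem_perp2.mpr ⟨trivial, by simp [hu, C.self_zero he'], by simp [H.pair' C]⟩,
      fun h0 => hns (Submodule.mem_span_singleton.mpr ⟨B f u, (sub_eq_zero.mp h0).symm⟩), ?_⟩
    rw [sub_eq_add_neg, ← neg_smul, C.add, C.smul, hQu, he', map_smul, C.symm u e', hu]; simp
  set w1 := g.val *ᵥ w with hw1
  have hew1 : B e' w1 = 0 := by rw [hw1, ← hge, C.B_act hgI, hew]
  have hind1 : w1 ∉ Submodule.span F {e'} := fun h => by
    obtain ⟨s, hs⟩ := Submodule.mem_span_singleton.mp h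
    refine hind (Submodule.mem_span_singleton.mpr ⟨s, ?_⟩)
    apply act_injective g
    show g.val *ᵥ (s • e) = g.val *ᵥ w
    rw [Matrix.mulVec_smul, hge, hs]
  obtain ⟨a1, a2, a3⟩ := hproj w1 hew1 (by rw [hw1, mem_iso.mp hgI, hw]) hind1
  obtain ⟨b1, b2, b3⟩ := hproj w' hew' hw' hind'
  obtain ⟨h, hh, hhw⟩ := trans C (H.ndeg C C.ndeg_top) hW5 a1 b1 a2 b2 (a3.trans b3.symm)
  have hhe : h.val *ᵥ e' = e' := (root_act C hh e').2 fun y hy => by
    rw [C.symm]; exact (mem_perp2.mp hy).2.1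
  have hhI := root_le_iso C _ hh
  refine ⟨h * g, mul_mem (root_mono le_top hh) hg, ?_⟩
  rw [show h * g * sGL Q B e w * (h * g)⁻¹ = h * (g * sGL Q B e w * g⁻¹) * h⁻¹ by group,
    sGL_conj C he hew hgI, hge, ← hw1]
  rw [show sGL Q B e' w1 = sGL Q B e' (w1 - B f w1 • e') by
      rw [← sGL_add_self C he' (mem_perp2.mp a1).2.1 (B f w1), sub_add_cancel],
    sGL_conj C he' (mem_perp2.mp a1).2.1 hhI, hhe, hhw,
    ← sGL_add_self C he' (mem_perp2.mp b1).2.1 (B f w'), sub_add_cancel]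

/-- The two vectors of a root element lie in a plane determined by it. -/
theorem line_recover (C : Space Q B) {e w e' w' : ι → F} (he0 : e ≠ 0) (he : Q e = 0)
    (hw : Q w = 0) (hew : B e w = 0) (hind : w ∉ Submodule.span F {e}) (he' : Q e' = 0)
    (hew' : B e' w' = 0) (h : sGL Q B e w = sGL Q B e' w') :
    e ∈ Submodule.span F {e', w'} ∧ w ∈ Submodule.span F {e', w'} := by
  obtain ⟨f, H⟩ := exists_hyp C C.ndeg_top (U := ⊤) trivial he0 he
  set w0 := w - B f w • e with hw0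
  have hw0m : w0 ∈ perp2 B ⊤ e f :=
    mem_perp2.mpr ⟨trivial, by simp [hw0, hew, C.self_zero he], by simp [hw0, H.pair' C]⟩
  have hw00 : w0 ≠ 0 := fun h0 =>
    hind (Submodule.mem_span_singleton.mpr ⟨B f w, (sub_eq_zero.mp h0).symm⟩)
  obtain ⟨y, hy⟩ := exists_hyp C (H.ndeg C C.ndeg_top) hw0m hw00 (by
    rw [hw0, sub_eq_add_neg, ← neg_smul, C.add, C.smul, hw, he, map_smul, C.symm w e, hew]; simp)
  obtain ⟨-, hey, hfy⟩ := mem_perp2.mp hy.memF
  have hwy : B w y = 1 := by
    have := hy.pair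
    rw [hw0, map_sub, map_smul, LinearMap.sub_apply, LinearMap.smul_apply, hey, smul_zero,
      sub_zero] at this
    exact this
  have hmem : ∀ x, (sGL Q B e' w').val *ᵥ x - x ∈ Submodule.span F {e', w'} := fun x => by
    rw [sGL_act C he' hew']
    refine Submodule.mem_span_pair.mpr ⟨-(B w' x + Q w' * B e' x), B e' x, ?_⟩
    module
  constructor
  · have h1 := hmem y
    rw [← h, sGL_act C he hew, hey, hw, hwy] at h1
    simpa using h1
  · have h1 := hmem (f - B w f • y)
    rw [← h, sGL_act C he hew, map_sub, map_sub, map_smul, map_smul, hey, H.pair, hw, hwy] at h1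
    simpa using h1

open scoped Classical in
/-- A lower bound for a set of elements containing every long root element. -/
theorem root_class_bound (C : Space Q B) (X : Set (GL ι F))
    (hX : ∀ e w, e ≠ 0 → Q e = 0 → Q w = 0 → B e w = 0 → w ∉ Submodule.span F {e} →
      sGL Q B e w ∈ X) (n2 : ℤ)
    (hn : ∀ e f, Hyp Q B ⊤ e f → sgCount Q (perp2 B ⊤ e f) = n2) :
    (sgCount Q (⊤ : Submodule F (ι → F)) - 1) * (n2 - 1) ≤
      (Nat.card F : ℤ) ^ 4 * Nat.card X := by
  have := Fintype.ofFinite F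
  let S := {p : (ι → F) × (ι → F) // p.1 ≠ 0 ∧ Q p.1 = 0 ∧ Q p.2 = 0 ∧ B p.1 p.2 = 0 ∧
    p.2 ∉ Submodule.span F {p.1}}
  let φ : S → X := fun p => ⟨_, hX p.1.1 p.1.2 p.2.1 p.2.2.1 p.2.2.2.1 p.2.2.2.2.1 p.2.2.2.2.2⟩
  have hup : Nat.card S ≤ Nat.card F ^ 4 * Nat.card X := by
    rw [Nat.card_eq_fintype_card, Nat.card_eq_fintype_card, Nat.card_eq_fintype_card,
      ← Finset.card_univ (α := S), ← Finset.card_univ (α := X)]
    refine Finset.card_le_mul_card_image_of_maps_to (f := φ) (fun a _ => Finset.mem_univ _) _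
      fun x _ => ?_
    rcases Finset.eq_empty_or_nonempty (Finset.univ.filter fun a => φ a = x) with h | ⟨a, ha⟩
    · rw [h]; simp
    set P := Submodule.span F {a.1.1, a.1.2}
    have hmemP : ∀ b ∈ Finset.univ.filter (fun a => φ a = x), b.1.1 ∈ P ∧ b.1.2 ∈ P := by
      intro b hb
      exact line_recover C b.2.1 b.2.2.1 b.2.2.2.1 b.2.2.2.2.1 b.2.2.2.2.2 a.2.2.1 a.2.2.2.2.1
        (congrArg Subtype.val ((Finset.mem_filter.mp hb).2.trans (Finset.mem_filter.mp ha).2.symm))
    have hP : (Finset.univ.filter fun v : ι → F => v ∈ P).card ≤ Fintype.card F ^ 2 := by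
      have hsub : (Finset.univ.filter fun v : ι → F => v ∈ P) ⊆
          Finset.univ.image fun c : F × F => c.1 • a.1.1 + c.2 • a.1.2 := by
        intro v hv
        obtain ⟨s, t, hst⟩ := Submodule.mem_span_pair.mp (Finset.mem_filter.mp hv).2
        exact Finset.mem_image.mpr ⟨(s, t), Finset.mem_univ _, hst⟩
      refine (Finset.card_le_card hsub).trans (Finset.card_image_le.trans ?_)
      rw [Finset.card_univ, Fintype.card_prod, sq]
    refine (Finset.card_le_card_of_injOn (fun b => b.1)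
      (t := (Finset.univ.filter fun v : ι → F => v ∈ P) ×ˢ
        (Finset.univ.filter fun v : ι → F => v ∈ P))
      (fun b hb => Finset.mem_coe.mpr (Finset.mem_product.mpr
        ⟨Finset.mem_filter.mpr ⟨Finset.mem_univ _, (hmemP b (Finset.mem_coe.mp hb)).1⟩,
          Finset.mem_filter.mpr ⟨Finset.mem_univ _, (hmemP b (Finset.mem_coe.mp hb)).2⟩⟩))
      (fun _ _ _ _ h => Subtype.ext h)).trans ?_
    rw [Finset.card_product]
    calc _ ≤ Fintype.card F ^ 2 * Fintype.card F ^ 2 := Nat.mul_le_mul hP hP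
      _ = _ := by ring
  let E := {e : ι → F // e ≠ 0 ∧ Q e = 0}
  have hlow : (sgCount Q (⊤ : Submodule F (ι → F)) - 1) * (n2 - 1) ≤ (Nat.card S : ℤ) := by
    have hE : (Nat.card E : ℤ) = sgCount Q (⊤ : Submodule F (ι → F)) - 1 := by
      rw [sgCount, Nat.card_eq_fintype_card, Nat.card_eq_fintype_card, Fintype.card_subtype,
        Fintype.card_subtype,
        show (Finset.univ.filter fun x : ι → F => x ≠ 0 ∧ Q x = 0) =
          (Finset.univ.filter fun x : ι → F => x ∈ (⊤ : Submodule F (ι → F)) ∧ Q x = 0).erase 0 by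
            ext x; simp,
        Finset.cast_card_erase_of_mem (by simp [C.zero])]
    have hfib : ∀ e : E, n2 - 1 ≤
        (Nat.card {w : ι → F // Q w = 0 ∧ B e.1 w = 0 ∧ w ∉ Submodule.span F {e.1}} : ℤ) := by
      rintro ⟨e, he0, he⟩
      obtain ⟨f, H⟩ := exists_hyp C C.ndeg_top (U := ⊤) trivial he0 he
      rw [← hn e f H, sgCount, Nat.card_eq_fintype_card, Nat.card_eq_fintype_card,
        Fintype.card_subtype, Fintype.card_subtype]
      have h0 : (0 : ι → F) ∈ Finset.univ.filter fun x => x ∈ perp2 B ⊤ e f ∧ Q x = 0 := by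
        simp [C.zero, Submodule.zero_mem]
      rw [← Finset.cast_card_erase_of_mem h0, Nat.cast_le]
      refine Finset.card_le_card fun x hx => ?_
      simp only [Finset.mem_erase, Finset.mem_filter, Finset.mem_univ, true_and] at hx ⊢
      obtain ⟨hx0, hxW, hQx⟩ := hx
      obtain ⟨-, hex, hfx⟩ := mem_perp2.mp hxW
      refine ⟨hQx, hex, fun hmem => hx0 ?_⟩
      obtain ⟨s, rfl⟩ := Submodule.mem_span_singleton.mp hmem
      rw [map_smul, H.pair' C, smul_eq_mul, mul_one] at hfx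
      rw [hfx, zero_smul]
    have e1 : S ≃ Σ e : E, {w : ι → F // Q w = 0 ∧ B e.1 w = 0 ∧ w ∉ Submodule.span F {e.1}} :=
      { toFun := fun p => ⟨⟨p.1.1, p.2.1, p.2.2.1⟩,
          ⟨p.1.2, p.2.2.2.1, p.2.2.2.2.1, p.2.2.2.2.2⟩⟩
        invFun := fun p => ⟨(p.1.1, p.2.1), p.1.2.1, p.1.2.2, p.2.2.1, p.2.2.2.1, p.2.2.2.2⟩
        left_inv := fun _ => rfl
        right_inv := fun _ => rfl }
    rw [Nat.card_congr e1, Nat.card_sigma, Nat.cast_sum, ← hE]
    refine le_trans ?_ (Finset.sum_le_sum fun e _ => hfib e)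
    rw [Finset.sum_const, Finset.card_univ, ← Nat.card_eq_fintype_card, nsmul_eq_mul]
  exact hlow.trans (by exact_mod_cast hup)

/-- The root groups at `e1` and at `e2` generate a `p`-group, `p` the characteristic. -/
theorem exists_two_root_group (C : Space Q B) {p : ℕ} [hp : Fact p.Prime] [CharP F p]
    {e1 f1 e2 f2 : ι → F} (H1 : Hyp Q B ⊤ e1 f1) (H2 : Hyp Q B (perp2 B ⊤ e1 f1) e2 f2) :
    ∃ U : Subgroup (GL ι F), U ≤ Root Q B ⊤ ∧ IsPGroup p U ∧
      (∀ a, B e1 a = 0 → sGL Q B e1 a ∈ U) ∧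
      ∀ b, B e1 b = 0 → B e2 b = 0 → sGL Q B e2 b ∈ U := by
  have he1 := H1.singE
  have he2 := H2.singE
  obtain ⟨-, h12, hf12⟩ := mem_perp2.mp H2.memE
  have hzero : ∀ {e : ι → F}, Q e = 0 → sGL Q B e 0 = 1 := fun he =>
    gl_ext fun x => by rw [sGL_act C he (map_zero _), C.zero]; simp
  let A : (e : ι → F) → Q e = 0 → Submodule F (ι → F) → Subgroup (GL ι F) := fun e he P =>
    { carrier := {g | ∃ a, a ∈ P ∧ B e a = 0 ∧ g = sGL Q B e a}
      one_mem' := ⟨0, P.zero_mem, map_zero _, (hzero he).symm⟩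
      mul_mem' := by
        rintro _ _ ⟨a, ha, ha', rfl⟩ ⟨b, hb, hb', rfl⟩
        exact ⟨a + b, P.add_mem ha hb, by rw [map_add, ha', hb', add_zero], sGL_mul C he ha' hb'⟩
      inv_mem' := by
        rintro _ ⟨a, ha, ha', rfl⟩
        refine ⟨-a, P.neg_mem ha, by rw [map_neg, ha', neg_zero], inv_eq_of_mul_eq_one_right ?_⟩
        rw [sGL_mul C he ha' (by rw [map_neg, ha', neg_zero]), add_neg_cancel, hzero he] }
  have hAp : ∀ (e : ι → F) (he : Q e = 0) (P : Submodule F (ι → F)), IsPGroup p (A e he P) := by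
    rintro e he P ⟨_, a, ha, ha', rfl⟩
    refine ⟨1, Subtype.ext ?_⟩
    rw [pow_one, SubmonoidClass.coe_pow, Subgroup.coe_one]
    have hk : ∀ k : ℕ, sGL Q B e a ^ k = sGL Q B e ((k : F) • a) := fun k => by
      induction k with
      | zero => rw [pow_zero, Nat.cast_zero, zero_smul, hzero he]
      | succ k ih =>
        rw [pow_succ, ih, sGL_mul C he (by rw [map_smul, ha', smul_zero]) ha', Nat.cast_succ,
          add_smul, one_smul]
    rw [hk, CharP.cast_eq_zero F p, zero_smul, hzero he]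
  refine ⟨A e2 he2 (LinearMap.ker (B e1)) ⊔ A e1 he1 ⊤, sup_le ?_ ?_, ?_,
    fun a ha => Subgroup.mem_sup_right ⟨a, trivial, ha, rfl⟩,
    fun b h1 h2 => Subgroup.mem_sup_left ⟨b, LinearMap.mem_ker.mpr h1, h2, rfl⟩⟩
  · rintro _ ⟨a, -, ha, rfl⟩; exact sGL_mem_root trivial trivial he2 ha
  · rintro _ ⟨a, -, ha, rfl⟩; exact sGL_mem_root trivial trivial he1 ha
  refine IsPGroup.to_sup_of_normal_right' (hAp e2 he2 _) (hAp e1 he1 _) ?_
  have hsub : ∀ g ∈ A e2 he2 (LinearMap.ker (B e1)), ∀ x ∈ A e1 he1 ⊤,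
      g * x * g⁻¹ ∈ A e1 he1 ⊤ := by
    rintro _ ⟨b, hb, h2b, rfl⟩ _ ⟨a, -, ha, rfl⟩
    have hI := sGL_mem C he2 h2b
    have hfix : (sGL Q B e2 b).val *ᵥ e1 = e1 := by
      rw [sGL_act C he2 h2b, C.symm e2 e1, h12, C.symm b e1, LinearMap.mem_ker.mp hb]; simp
    refine ⟨_, trivial, ?_, by rw [sGL_conj C he1 ha hI, hfix]⟩
    nth_rewrite 1 [← hfix]
    rw [C.B_act hI, ha]
  intro g hg
  rw [Subgroup.mem_normalizer_iff]
  intro x
  refine ⟨hsub g hg x, fun hx => ?_⟩
  have h := hsub g⁻¹ (inv_mem hg) _ hx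
  rwa [show g⁻¹ * (g * x * g⁻¹) * g⁻¹⁻¹ = x by group] at h

end Cfsg.Lib.Linear.Orth
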