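import Cfsg.Agent.Lib.Linear.AutPSL.FieldCentralizer
import Cfsg.Agent.Lib.Linear.AutPSL.Main

/-!
# Element orders in the automorphism group of `PSL_d(q)`

An automorphism `innd g * fld σ` has `r`-th power (`r` the order of `σ`) induced by a matrix whose minimal polynomial
has coefficients in the fixed field. With a graph automorphism the square is induced by a matrix similar to its
twisted inverse; such a matrix generates modulo scalars at most half of the units of its algebra.
-/

set_option autoImplicit false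

namespace Cfsg.Lib.Linear.AutPSLOrder

open Matrix Polynomial Cfsg.Lib.Linear.AutPSL
open scoped MatrixGroups

variable {d : ℕ} {F : Type*} [Field F]

section Counting

variable [Fintype F] {k : Type*} [Field k] [Fintype k] [Algebra k F]

omit [Fintype F] in
/-- Non-zero values of polynomials at `M`. -/
theorem card_le_adjoin {β : Type*} [Finite β] {M : Matrix (Fin d) (Fin d) F} {μ : k[X]} (hμ : μ.Monic)
    (h0 : aeval M μ = 0) {D : ℕ} (hD : μ.natDegree ≤ D) (f : β → Matrix (Fin d) (Fin d) F)
    (hf : Function.Injective f) (hne : ∀ b, f b ≠ 0) (hP : ∀ b, ∃ P : k[X], aeval M P = f b) :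
    Nat.card β ≤ Fintype.card k ^ D - 1 := by
  classical
  have hred : ∀ b, ∃ P : Polynomial.degreeLT k D, aeval M (P : k[X]) = f b := by
    intro b
    obtain ⟨P, hP⟩ := hP b
    refine ⟨⟨P %ₘ μ, ?_⟩, ?_⟩
    · rw [mem_degreeLT]
      refine lt_of_lt_of_le (degree_modByMonic_lt P hμ) ?_
      rw [degree_eq_natDegree hμ.ne_zero]
      exact_mod_cast hD
    · rw [← hP, Polynomial.aeval_modByMonic_eq_self_of_root h0]
  choose P hP' using hred
  let : Fintype (Polynomial.degreeLT k D) := Fintype.ofEquiv _ (Polynomial.degreeLTEquiv k D).toEquiv.symm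
  let g : β → {p : Polynomial.degreeLT k D // p ≠ 0} := fun b => ⟨P b, fun h => hne b (by
    rw [← hP' b, h]; simp)⟩
  have hg : Function.Injective g := fun a b h => hf (by
    rw [← hP' a, ← hP' b, show P a = P b from congrArg Subtype.val h])
  refine (Nat.card_le_card_of_injective g hg).trans (le_of_eq ?_)
  rw [Nat.card_eq_fintype_card, Fintype.card_subtype_compl, Fintype.card_subtype_eq,
    Fintype.card_congr (Polynomial.degreeLTEquiv k D).toEquiv, Fintype.card_fun, Fintype.card_fin]

theorem scalar_smul (c : F) (A : Matrix (Fin d) (Fin d) F) : Matrix.scalar (Fin d) c * A = c • A := by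
  rw [Matrix.scalar_apply, ← Matrix.smul_one_eq_diagonal, smul_mul_assoc, one_mul]

omit [Fintype F] in
/-- The scalar multiples of the powers of a matrix of projective order `N` are distinct. -/
theorem smul_pow_injective (hd : 2 ≤ d) (h : GL (Fin d) F) (x y : F) (hx : x ≠ 0) (hy : y ≠ 0) (i j : ℕ)
    (hi : i < orderOf (innd h : MulAut (ProjectiveSpecialLinearGroup (Fin d) F)))
    (hj : j < orderOf (innd h : MulAut (ProjectiveSpecialLinearGroup (Fin d) F)))
    (he : x • (h : Matrix (Fin d) (Fin d) F) ^ i = y • (h : Matrix (Fin d) (Fin d) F) ^ j) : i = j ∧ x = y := by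
  have : Nontrivial (Fin d) := Fin.nontrivial_iff_two_le.2 hd
  wlog hle : j ≤ i generalizing x y i j
  · obtain ⟨h1, h2⟩ := this y x hy hx j i hj hi he.symm (le_of_not_ge hle)
    exact ⟨h1.symm, h2.symm⟩
  obtain ⟨t, rfl⟩ : ∃ t, i = t + j := ⟨i - j, (Nat.sub_add_cancel hle).symm⟩
  have hu : IsUnit ((h : Matrix (Fin d) (Fin d) F) ^ j) := h.isUnit.pow j
  have h2 : x • (h : Matrix (Fin d) (Fin d) F) ^ t = y • 1 :=
    hu.mul_right_cancel (by rw [smul_mul_assoc, ← pow_add, he, smul_mul_assoc, one_mul])
  have h3 : (innd h : MulAut (ProjectiveSpecialLinearGroup (Fin d) F)) ^ t = 1 := by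
    rw [← map_pow]
    refine innd_scalar ⟨y / x, ?_⟩
    rw [Units.val_pow_eq_pow_val, Matrix.scalar_apply, ← Matrix.smul_one_eq_diagonal, div_eq_inv_mul, ← smul_smul,
      ← h2, smul_smul, inv_mul_cancel₀ hx, one_smul]
  have ht : t = 0 := by
    by_contra ht
    have := Nat.le_of_dvd (Nat.pos_of_ne_zero ht) (orderOf_dvd_of_pow_eq_one h3)
    omega
  subst ht
  rw [pow_zero] at h2
  have h4 := congrFun (congrFun h2 ⟨0, by omega⟩) ⟨0, by omega⟩
  simp at h4
  exact ⟨zero_add j, h4⟩

omit [Fintype F] in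
/-- The projective order of a matrix annihilated by a polynomial over a subfield. -/
theorem scalar_period_bound (hd : 2 ≤ d) (h : GL (Fin d) F) {μ : k[X]} (hμ : μ.Monic)
    (h0 : aeval (h : Matrix (Fin d) (Fin d) F) μ = 0) {D : ℕ} (hD : μ.natDegree ≤ D) :
    (Fintype.card k - 1) * orderOf (innd h : MulAut (ProjectiveSpecialLinearGroup (Fin d) F)) ≤
      Fintype.card k ^ D - 1 := by
  classical
  set N := orderOf (innd h : MulAut (ProjectiveSpecialLinearGroup (Fin d) F))
  have hc : ∀ c : kˣ, algebraMap k F c ≠ 0 := fun c => (_root_.map_ne_zero _).2 c.ne_zero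
  have := card_le_adjoin hμ h0 hD
    (fun x : kˣ × Fin N => algebraMap k F x.1 • (h : Matrix (Fin d) (Fin d) F) ^ (x.2 : ℕ))
    (fun x y he => by
      obtain ⟨h1, h2⟩ := smul_pow_injective hd h _ _ (hc x.1) (hc y.1) _ _ x.2.isLt y.2.isLt he
      exact Prod.ext (Units.ext ((algebraMap k F).injective h2)) (Fin.ext h1))
    (fun x h1 => by
      rw [smul_eq_zero] at h1
      have : Nonempty (Fin d) := ⟨⟨0, by omega⟩⟩
      have h2 := (h ^ (x.2 : ℕ)).ne_zero
      rw [Units.val_pow_eq_pow_val] at h2
      exact h2 (h1.resolve_left (hc x.1)))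
    (fun x => ⟨C (x.1 : k) * X ^ (x.2 : ℕ), by
      rw [map_mul, aeval_C, map_pow, aeval_X, ← Algebra.smul_def, algebraMap_smul]⟩)
  rwa [Nat.card_prod, Nat.card_units, Nat.card_eq_fintype_card, Nat.card_eq_fintype_card (α := Fin N),
    Fintype.card_fin] at this

end Counting

section Field

variable [Fintype F]

omit [Fintype F] in
theorem minpoly_natDegree_le (M : Matrix (Fin d) (Fin d) F) : (minpoly F M).natDegree ≤ d :=
  (natDegree_le_of_dvd (Matrix.minpoly_dvd_charpoly M) M.charpoly_monic.ne_zero).trans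
    (by rw [Matrix.charpoly_natDegree_eq_dim, Fintype.card_fin])

omit [Fintype F] in
theorem pow_eq (g : GL (Fin d) F) (σ : F ≃+* F) : ∀ k : ℕ, ∃ N : GL (Fin d) F,
    (innd g * fld σ : MulAut (ProjectiveSpecialLinearGroup (Fin d) F)) ^ k = innd N * fld (σ ^ k) ∧
      g * GeneralLinearGroup.map σ.toRingHom N = N * GeneralLinearGroup.map (σ ^ k).toRingHom g := by
  intro k
  induction k with
  | zero => exact ⟨1, by simp, by simp; exact Units.ext (Matrix.ext fun i j => rfl)⟩
  | succ k ih =>
    obtain ⟨N, h1, h2⟩ := ih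
    refine ⟨g * GeneralLinearGroup.map σ.toRingHom N, ?_, ?_⟩
    · rw [pow_succ', h1, map_mul, pow_succ' σ, map_mul, mul_assoc (innd g), ← mul_assoc (fld σ), fld_mul_innd]
      simp only [mul_assoc]
    · conv_lhs => rw [h2, map_mul, ← mul_assoc]
      refine congrArg _ (Units.ext (Matrix.ext fun i j => ?_))
      show σ ((σ ^ k) (g.val i j)) = (σ ^ (k + 1)) (g.val i j)
      rw [pow_succ']; rfl

/-- The matrix inducing the power of an element with field part of order `r` generates a small group. -/
theorem field_bound (hd : 2 ≤ d) (g : GL (Fin d) F) (σ : F ≃+* F) :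
    ∃ M : ℕ, orderOf (innd g * fld σ : MulAut (ProjectiveSpecialLinearGroup (Fin d) F)) ≤ orderOf σ * M ∧
      (Nat.card (fixedF σ) - 1) * M ≤ Nat.card (fixedF σ) ^ d - 1 := by
  classical
  haveI : Finite (RingAut F) := Finite.of_injective (fun τ : RingAut F => (τ : F → F)) DFunLike.coe_injective
  obtain ⟨N, h1, h2⟩ := pow_eq g σ (orderOf σ)
  rw [pow_orderOf_eq_one, map_one, mul_one] at h1
  have h3 : g * GeneralLinearGroup.map σ.toRingHom N * g⁻¹ = N := by
    rw [h2, pow_orderOf_eq_one, show GeneralLinearGroup.map (1 : F ≃+* F).toRingHom g = g from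
      Units.ext (Matrix.ext fun i j => rfl), mul_inv_cancel_right]
  refine ⟨orderOf (innd N : MulAut (ProjectiveSpecialLinearGroup (Fin d) F)), ?_, ?_⟩
  · refine Nat.le_of_dvd (Nat.mul_pos (orderOf_pos σ) (orderOf_pos_iff.2 ?_)) ?_
    · haveI : Finite (MulAut (ProjectiveSpecialLinearGroup (Fin d) F)) :=
        Finite.of_injective (fun e : MulAut _ => (e : _ → _)) DFunLike.coe_injective
      exact isOfFinOrder_of_finite _
    · apply orderOf_dvd_of_pow_eq_one
      rw [pow_mul, h1, pow_orderOf_eq_one]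
  -- the minimal polynomial lies over the fixed field
  set μ := minpoly F (N : Matrix (Fin d) (Fin d) F) with hμ
  have hmon : μ.Monic := minpoly.monic (Matrix.isIntegral _)
  let S := σ.toRingHom.mapMatrix (m := Fin d)
  have hfix : μ.map σ.toRingHom = μ := by
    have hS : S (N : Matrix (Fin d) (Fin d) F) = (g⁻¹).val * N.val * g.val := by
      have h4 : GeneralLinearGroup.map σ.toRingHom N = g⁻¹ * N * g := by
        conv_rhs => rw [← h3]
        simp [mul_assoc]
      exact congrArg Units.val h4
    have h5 : aeval (S N.val) (μ.map σ.toRingHom) = S (aeval N.val μ) := by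
      rw [aeval_def, aeval_def, eval₂_map, hom_eval₂]
      congr 1
      ext c i j
      simp [S, Matrix.algebraMap_eq_diagonal, Matrix.diagonal_apply, apply_ite σ]
    rw [minpoly.aeval, map_zero, hS] at h5
    have hconj : ∀ p : F[X], aeval ((g⁻¹).val * N.val * g.val) p = (g⁻¹).val * aeval N.val p * g.val := by
      intro p
      induction p using Polynomial.induction_on' with
      | add p q hp hq => rw [map_add, map_add, hp, hq, Matrix.mul_add, Matrix.add_mul]
      | monomial i c =>
        rw [aeval_monomial, aeval_monomial, Units.conj_pow' g N.val i, ← mul_assoc, Algebra.commutes c, mul_assoc,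
          mul_assoc, mul_assoc, mul_assoc]
        congr 1
        rw [← mul_assoc, ← mul_assoc (algebraMap F _ c), Algebra.commutes c]
    rw [hconj, Units.mul_left_eq_zero, Units.mul_right_eq_zero] at h5
    exact (Polynomial.eq_of_monic_of_dvd_of_natDegree_le hmon (hmon.map _) (minpoly.dvd F _ h5)
      (le_of_eq (Polynomial.natDegree_map _)))
  have hlift : μ ∈ Polynomial.lifts (algebraMap (fixedF σ) F) := by
    rw [Polynomial.lifts_iff_coeff_lifts]
    intro i
    have := congrArg (fun p => p.coeff i) hfix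
    simp only [coeff_map] at this
    exact ⟨⟨μ.coeff i, this⟩, rfl⟩
  obtain ⟨μ₀, hμ₀, hdeg, hmon₀⟩ := Polynomial.lifts_and_natDegree_eq_and_monic hlift hmon
  have h0 : aeval (N : Matrix (Fin d) (Fin d) F) μ₀ = 0 := by
    rw [← Polynomial.aeval_map_algebraMap F, hμ₀, minpoly.aeval]
  let : Fintype (fixedF σ) := Fintype.ofFinite _
  rw [Nat.card_eq_fintype_card]
  exact scalar_period_bound hd N hmon₀ h0 (hdeg ▸ minpoly_natDegree_le _)

end Field

section Twisted

variable [Fintype F]

omit [Fintype F] in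
theorem not_isUnit_of_eval (h : Matrix (Fin d) (Fin d) F) {P : F[X]} {a : F}
    (ha : (minpoly F h).IsRoot a) (hP : P.IsRoot a) : ¬ IsUnit (aeval h P) := by
  intro hu
  obtain ⟨P', rfl⟩ := Polynomial.dvd_iff_isRoot.2 hP
  obtain ⟨μ', hμ'⟩ := Polynomial.dvd_iff_isRoot.2 ha
  have h0 : aeval h ((X - C a) * P') * aeval h μ' = 0 := by
    rw [← map_mul, mul_right_comm, ← hμ', map_mul, minpoly.aeval, zero_mul]
  have h1 := (IsUnit.mul_right_eq_zero hu).1 h0
  have hμne : minpoly F h ≠ 0 := minpoly.ne_zero (Matrix.isIntegral h)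
  have hμ'0 : μ' ≠ 0 := fun h2 => hμne (by rw [hμ', h2, mul_zero])
  have h2 := natDegree_le_of_dvd (minpoly.dvd F h h1) hμ'0
  rw [hμ', natDegree_mul (X_sub_C_ne_zero a) hμ'0, natDegree_X_sub_C] at h2
  omega

theorem two_pow_lt {x m : ℕ} (hx : x = m) (hm : 2 ≤ m) : 2 * x ^ m < (x + 1) ^ m := by
  have key : ∀ k : ℕ, x ^ k * x + k * x ^ k ≤ (x + 1) ^ k * x := by
    intro k
    induction k with
    | zero => simp
    | succ k ih =>
      rw [pow_succ, pow_succ]
      generalize x ^ k = A at ih ⊢
      generalize (x + 1) ^ k = B at ih ⊢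
      calc A * x * x + (k + 1) * (A * x) ≤ A * x * x + (k + 1) * (A * x) + k * A := Nat.le_add_right _ _
        _ = (A * x + k * A) * (x + 1) := by ring
        _ ≤ B * x * (x + 1) := Nat.mul_le_mul_right _ ih
        _ = B * (x + 1) * x := by ring
  obtain ⟨j, rfl⟩ : ∃ j, m = j + 1 := ⟨m - 1, by omega⟩
  have hpos : 0 < j * x ^ j := Nat.mul_pos (by omega) (pow_pos (by omega) j)
  refine Nat.lt_of_mul_lt_mul_right (a := x) ?_
  rw [pow_succ, pow_succ]
  subst hx
  calc 2 * ((j + 1) ^ j * (j + 1)) * (j + 1)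
      < 2 * ((j + 1) ^ j * (j + 1)) * (j + 1) + j * (j + 1) ^ j := Nat.lt_add_of_pos_right hpos
    _ = ((j + 1) ^ j * (j + 1) + j * (j + 1) ^ j) * (j + 1 + 1) := by ring
    _ ≤ (j + 1 + 1) ^ j * (j + 1) * (j + 1 + 1) := Nat.mul_le_mul_right _ (key j)
    _ = (j + 1 + 1) ^ j * (j + 1 + 1) * (j + 1) := by ring

omit [Fintype F] in
theorem exists_smul_pow_of_card [Finite F] {h : GL (Fin d) F} (a : F) (j : ℕ) :
    ∃ t : ℕ, a • ((h⁻¹ : GL (Fin d) F) : Matrix (Fin d) (Fin d) F) ^ j = a • (h : Matrix (Fin d) (Fin d) F) ^ t := by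
  obtain ⟨t, ht⟩ : ∃ t : ℕ, h ^ t = (h⁻¹) ^ j := by
    have h1 : (h⁻¹) ^ j ∈ Submonoid.powers h := mem_powers_iff_mem_zpowers.2 ⟨-(j : ℤ), by simp⟩
    exact h1
  exact ⟨t, by rw [← Units.val_pow_eq_pow_val, ← Units.val_pow_eq_pow_val, ht]⟩

/-- A matrix similar to its twisted inverse transpose generates at most half of the units of its algebra. -/
theorem twisted_bound (hd : 3 ≤ d) (hex : ¬ (d = 3 ∧ Fintype.card F = 2)) (g h : GL (Fin d) F) (σ : F ≃+* F)
    (hrel : g * GeneralLinearGroup.map σ.toRingHom (dual h) * g⁻¹ = h) :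
    2 * ((Fintype.card F - 1) * orderOf (innd h : MulAut (ProjectiveSpecialLinearGroup (Fin d) F))) ≤
      Fintype.card F ^ d - 1 := by
  classical
  set q := Fintype.card F with hq
  have hq2 : 2 ≤ q := Fintype.one_lt_card
  set μ := minpoly F (h : Matrix (Fin d) (Fin d) F) with hμ
  have hmon : μ.Monic := minpoly.monic (Matrix.isIntegral _)
  have h0 : aeval (h : Matrix (Fin d) (Fin d) F) μ = 0 := minpoly.aeval _ _
  set N := orderOf (innd h : MulAut (ProjectiveSpecialLinearGroup (Fin d) F)) with hN
  set D := μ.natDegree with hD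
  rcases Nat.lt_or_ge D d with hlt | hge
  · have h1 := scalar_period_bound (k := F) (by omega) h hmon h0 (le_refl D)
    refine le_trans (Nat.mul_le_mul_left 2 h1) ?_
    have h2 : 2 * q ^ D ≤ q ^ d := calc
      2 * q ^ D ≤ q * q ^ D := Nat.mul_le_mul_right _ hq2
      _ = q ^ (D + 1) := (pow_succ' q D).symm
      _ ≤ q ^ d := Nat.pow_le_pow_right (by omega) hlt
    simp only [q] at *
    omega
  let H : Matrix (Fin d) (Fin d) F := h.val
  let f : Fˣ × Fin N → Matrix (Fin d) (Fin d) F := fun x => (x.1 : F) • H ^ (x.2 : ℕ)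
  have hf : Function.Injective f := fun x y he => by
    obtain ⟨h1, h2⟩ := smul_pow_injective (by omega) h _ _ x.1.ne_zero y.1.ne_zero _ _ x.2.isLt y.2.isLt he
    exact Prod.ext (Units.ext h2) (Fin.ext h1)
  have hfu : ∀ x, IsUnit (f x) := fun x => by
    show IsUnit ((x.1 : F) • H ^ (x.2 : ℕ))
    rw [← scalar_smul]
    exact (x.1.isUnit.map (Matrix.scalar (Fin d))).mul (h.isUnit.pow _)
  by_cases hc : ∃ c : F, c ≠ 0 ∧ IsUnit (c • 1 + H)
  · obtain ⟨c, hc0, hcu⟩ := hc
    set x : Matrix (Fin d) (Fin d) F := c • 1 + H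
    -- the unit `x` is not a scalar multiple of a power
    have hxT : ∀ (a : F) (k : ℕ), x ≠ a • H ^ k := by
      intro a k hxk
      let Θ : Matrix (Fin d) (Fin d) F → Matrix (Fin d) (Fin d) F := fun y => g.val * (y.map σ)ᵀ * (g⁻¹).val
      have hΘH : Θ H = (h⁻¹).val := by
        have h1 : g * (GeneralLinearGroup.map σ.toRingHom (dual h))⁻¹ * g⁻¹ = h⁻¹ := by
          conv_rhs => rw [← hrel]
          simp [mul_assoc]
        rw [← map_inv] at h1
        rw [← congrArg Units.val h1]
        show g.val * (H.map σ)ᵀ * (g⁻¹).val = g.val * (Hᵀ.map σ) * (g⁻¹).val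
        rw [Matrix.transpose_map]
      have hΘadd : ∀ y z, Θ (y + z) = Θ y + Θ z := fun y z => by
        simp only [Θ, Matrix.map_add σ (map_add σ), Matrix.transpose_add, Matrix.mul_add, Matrix.add_mul]
      have hΘsmul : ∀ (b : F) y, Θ (b • y) = σ b • Θ y := fun b y => by
        simp only [Θ, Matrix.map_smul' σ b _ (map_mul σ), Matrix.transpose_smul, Matrix.mul_smul, Matrix.smul_mul]
      have hΘone : Θ 1 = 1 := by
        simp only [Θ, Matrix.map_one σ (map_zero σ) (map_one σ), Matrix.transpose_one, Matrix.mul_one, Units.mul_inv]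
      have hΘpow : ∀ j : ℕ, Θ (H ^ j) = (h⁻¹).val ^ j := by
        intro j
        induction j with
        | zero => rw [pow_zero, pow_zero, hΘone]
        | succ j ih =>
          rw [pow_succ', pow_succ, ← ih, ← hΘH]
          simp only [Θ, Matrix.map_mul, Matrix.transpose_mul]
          rw [mul_assoc g.val _ (g⁻¹).val, mul_assoc g.val, mul_assoc g.val, mul_assoc g.val]
          congr 1
          simp only [mul_assoc, Units.inv_mul_cancel_left]
      have h2 : Θ x = σ a • (h⁻¹).val ^ k := by rw [hxk, hΘsmul, hΘpow]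
      rw [show x = c • 1 + H from rfl, hΘadd, hΘsmul, hΘone, hΘH] at h2
      set I := (h⁻¹).val
      have hHI : H * I = 1 := h.mul_inv
      have hcom : Commute H I := show H * I = I * H from hHI.trans h.inv_mul.symm
      have h3 : x * (σ c • 1 + I) = (a * σ a) • 1 := by
        rw [h2, hxk, smul_mul_smul_comm, ← hcom.mul_pow, hHI, one_pow]
      set P : F[X] := C (σ c) * X ^ 2 + C (c * σ c + 1 - a * σ a) * X + C c with hP
      have h4 : aeval H P = 0 := by
        have h5 : (x * (σ c • 1 + I) - (a * σ a) • 1) * H = 0 := by rw [h3, sub_self, zero_mul]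
        rw [← h5]
        simp only [hP, x, map_add, map_mul, aeval_C, map_pow, aeval_X, Algebra.algebraMap_eq_smul_one, add_mul,
          mul_add, sub_mul, smul_mul_assoc, mul_smul_comm, one_mul, mul_one, smul_smul, hHI, sq,
          mul_assoc, show I * H = 1 from h.inv_mul, smul_add, sub_smul, add_smul, one_smul]
        module
      have hP0 : P ≠ 0 := fun h5 => hc0 (by
        have := congrArg (fun p : F[X] => p.coeff 0) h5
        simpa [hP] using this)
      have h6 := natDegree_le_of_dvd (minpoly.dvd F H h4) hP0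
      have h7 : P.natDegree ≤ 2 := by
        simp only [hP]
        compute_degree
      rw [show (minpoly F H).natDegree = D from rfl] at h6
      omega
    let f2 : (Fˣ × Fin N) × Bool → Matrix (Fin d) (Fin d) F := fun y => if y.2 then x * f y.1 else f y.1
    have hne : ∀ u v : Fˣ × Fin N, x * f u ≠ f v := by
      intro u v he
      obtain ⟨t, ht⟩ := exists_smul_pow_of_card (h := h) (1 : F) (u.2 : ℕ)
      rw [one_smul, one_smul] at ht
      refine hxT ((v.1 : F) / u.1) ((v.2 : ℕ) + t) ?_
      have h8 : H ^ (u.2 : ℕ) * H ^ t = 1 := by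
        rw [← ht, ← Units.val_pow_eq_pow_val, ← Units.val_pow_eq_pow_val, ← Units.val_mul, inv_pow, mul_inv_cancel,
          Units.val_one]
      have h9 := congrArg (fun y => ((u.1 : F))⁻¹ • (y * H ^ t)) he
      simp only [f, mul_smul_comm, smul_mul_assoc, smul_smul, mul_assoc x, h8, mul_one, ← pow_add,
        inv_mul_cancel₀ u.1.ne_zero, one_smul] at h9
      rw [h9, div_eq_inv_mul]
    have hf2 : Function.Injective f2 := by
      rintro ⟨u, _ | _⟩ ⟨v, _ | _⟩ he <;> simp only [f2, if_true, Bool.false_eq_true, if_false] at he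
      · rw [hf he]
      · exact absurd he.symm (hne v u)
      · exact absurd he (hne u v)
      · rw [hf (hcu.mul_left_cancel he)]
    have h1 := card_le_adjoin hmon h0 (minpoly_natDegree_le _) f2 hf2
      (fun y => by
        simp only [f2]
        have : Nonempty (Fin d) := ⟨⟨0, by omega⟩⟩
        split
        · exact (hcu.mul (hfu _)).ne_zero
        · exact (hfu _).ne_zero)
      (fun y => by
        by_cases hy : y.2
        · exact ⟨(C c + X) * (C (y.1.1 : F) * X ^ (y.1.2 : ℕ)), by
            simp [f2, f, hy, x, H, Algebra.smul_def]⟩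
        · exact ⟨C (y.1.1 : F) * X ^ (y.1.2 : ℕ), by simp [f2, f, hy, H, Algebra.smul_def]⟩)
    rw [Nat.card_prod, Nat.card_prod, Nat.card_units, Nat.card_eq_fintype_card, Nat.card_eq_fintype_card (α := Bool),
      Nat.card_eq_fintype_card (α := Fin N), Fintype.card_fin, Fintype.card_bool] at h1
    rw [mul_comm 2]
    exact h1
  -- every non-zero scalar is an eigenvalue
  push Not at hc
  have hroot : ∀ a : F, a ≠ 0 → μ.IsRoot a := by
    intro a ha
    by_contra hno
    refine hc (-a) (neg_ne_zero.2 ha) ?_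
    have hcop : IsCoprime μ (X - C a) :=
      ((irreducible_X_sub_C a).coprime_iff_not_dvd.2 fun hd => hno (dvd_iff_isRoot.1 hd)).symm
    obtain ⟨u, v, huv⟩ := hcop
    have h1 := congrArg (aeval H) huv
    rw [map_add, map_mul, map_mul, map_one, show aeval H μ = 0 from h0, mul_zero, zero_add,
      show aeval H (X - C a) = -a • 1 + H by
        rw [map_sub, aeval_X, aeval_C, Algebra.algebraMap_eq_smul_one, neg_smul, sub_eq_neg_add]] at h1
    exact IsUnit.of_mul_eq_one_right _ h1
  let ev : Polynomial.degreeLT F d →ₗ[F] (Fˣ → F) :=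
    (LinearMap.pi fun a : Fˣ => Polynomial.leval (a : F)).comp (Submodule.subtype _)
  have hroots : Fintype.card Fˣ ≤ d := by
    have h1 : (Finset.univ.image fun a : Fˣ => (a : F)) ⊆ μ.roots.toFinset := by
      intro a ha
      obtain ⟨a, -, rfl⟩ := Finset.mem_image.1 ha
      rw [Multiset.mem_toFinset, mem_roots hmon.ne_zero]
      exact hroot _ a.ne_zero
    have h2 := (Finset.card_le_card h1).trans
      ((Multiset.toFinset_card_le _).trans (card_roots' μ))
    rw [Finset.card_image_of_injective _ Units.val_injective, Finset.card_univ] at h2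
    exact h2.trans (minpoly_natDegree_le _)
  have hsurj : Function.Surjective ev := by
    intro r
    have hinj : Set.InjOn (fun a : Fˣ => (a : F)) (Finset.univ : Finset Fˣ) := Units.val_injective.injOn
    refine ⟨⟨Lagrange.interpolate Finset.univ (fun a : Fˣ => (a : F)) r, ?_⟩, ?_⟩
    · rw [mem_degreeLT]
      refine lt_of_lt_of_le (Lagrange.degree_interpolate_lt _ hinj) ?_
      rw [Finset.card_univ]
      exact_mod_cast hroots
    · funext a
      exact Lagrange.eval_interpolate_at_node _ hinj (Finset.mem_univ a)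
  let : Fintype (Polynomial.degreeLT F d) := Fintype.ofEquiv _ (Polynomial.degreeLTEquiv F d).toEquiv.symm
  have hred : ∀ y : Fˣ × Fin N, ∃ P : Polynomial.degreeLT F d, aeval H (P : F[X]) = f y ∧ ∀ a, ev P a ≠ 0 := by
    intro y
    refine ⟨⟨(C (y.1 : F) * X ^ (y.2 : ℕ)) %ₘ μ, ?_⟩, ?_, fun a ha => ?_⟩
    · rw [mem_degreeLT]
      refine lt_of_lt_of_le (degree_modByMonic_lt _ hmon) ?_
      rw [degree_eq_natDegree hmon.ne_zero]
      exact_mod_cast minpoly_natDegree_le _
    · rw [aeval_modByMonic_eq_self_of_root h0]; simp [f, H, Algebra.smul_def]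
    · refine not_isUnit_of_eval H (hroot _ a.ne_zero) (P := (C (y.1 : F) * X ^ (y.2 : ℕ)) %ₘ μ) ha ?_
      rw [aeval_modByMonic_eq_self_of_root h0]
      simpa [f, H, Algebra.smul_def] using hfu y
  choose P hP hPa using hred
  have hPinj : Function.Injective P := fun u v h => hf (by rw [← hP u, ← hP v, h])
  obtain ⟨s, hs⟩ := ev.exists_rightInverse_of_surjective (LinearMap.range_eq_top.2 hsurj)
  have hsev : ∀ r, ev (s r) = r := fun r => LinearMap.congr_fun hs r
  let J : Fˣ × Fin N → (Fˣ → Fˣ) × LinearMap.ker ev := fun y =>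
    (fun a => Units.mk0 _ (hPa y a), ⟨P y - s (ev (P y)), by rw [LinearMap.mem_ker, map_sub, hsev, sub_self]⟩)
  have hJ : Function.Injective J := fun u v huv => by
    apply hPinj
    have e1 : ev (P u) = ev (P v) := funext fun a => congrArg Units.val (congrFun (congrArg Prod.fst huv) a)
    have e2 : P u - s (ev (P u)) = P v - s (ev (P v)) := congrArg Subtype.val (congrArg Prod.snd huv)
    rw [e1] at e2
    exact sub_left_injective e2
  set K := Nat.card (LinearMap.ker ev)
  have hK : K * q ^ (q - 1) = q ^ d := by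
    have h1 := ev.finrank_range_add_finrank_ker
    rw [LinearMap.range_eq_top.2 hsurj, finrank_top, Module.finrank_fintype_fun_eq_card, Fintype.card_units,
      (Polynomial.degreeLTEquiv F d).finrank_eq, Module.finrank_fintype_fun_eq_card, Fintype.card_fin] at h1
    simp only [K]
    rw [Module.natCard_eq_pow_finrank (K := F), Nat.card_eq_fintype_card, ← hq, ← pow_add, add_comm, h1]
  have hcardJ := Nat.card_le_card_of_injective J hJ
  rw [Nat.card_prod, Nat.card_prod, Nat.card_fun, Nat.card_units, Nat.card_eq_fintype_card,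
    Nat.card_eq_fintype_card (α := Fin N), Fintype.card_fin, ← hq] at hcardJ
  have hK0 : 0 < K := Nat.card_pos
  rcases Nat.lt_or_ge q 3 with hq3 | hq3
  · -- the field with two elements
    have hqe : q = 2 := by omega
    rw [hqe] at hK hcardJ ⊢
    simp only [show (2 : ℕ) - 1 = 1 from rfl, one_mul, pow_one, one_pow] at hK hcardJ ⊢
    rcases lt_or_eq_of_le hcardJ with hlt | heq
    · omega
    exfalso
    -- every polynomial not vanishing at `1` gives a unit
    have hone : ∀ a : Fˣ, a = 1 := by
      have : Fintype.card Fˣ = 1 := by rw [Fintype.card_units, ← hq, hqe]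
      obtain ⟨u, hu⟩ := Fintype.card_eq_one_iff.1 this
      exact fun a => (hu a).trans (hu 1).symm
    have hJsurj : Function.Surjective J :=
      (hJ.bijective_of_nat_card_le (by
        rw [Nat.card_prod, Nat.card_prod, Nat.card_fun, Nat.card_units, Nat.card_eq_fintype_card,
          Nat.card_eq_fintype_card (α := Fin N), Fintype.card_fin, ← hq, hqe]
        simp only [show (2 : ℕ) - 1 = 1 from rfl, one_mul, pow_one, one_pow]
        exact heq.ge)).2
    have hunit : ∀ Q : Polynomial.degreeLT F d, ev Q 1 ≠ 0 → IsUnit (aeval H (Q : F[X])) := by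
      intro Q hQ
      obtain ⟨y, hy⟩ := hJsurj (fun _ => 1, ⟨Q - s (ev Q), by rw [LinearMap.mem_ker, map_sub, hsev, sub_self]⟩)
      have e1 : ev (P y) = ev Q := funext fun a =>
        congrArg Units.val ((hone (Units.mk0 _ (hPa y a))).trans
          (hone (Units.mk0 (ev Q a) (by rw [hone a]; exact hQ))).symm)
      have e2 : P y - s (ev (P y)) = Q - s (ev Q) := congrArg Subtype.val (congrArg Prod.snd hy)
      rw [e1] at e2
      rw [← sub_left_injective e2, hP]
      exact hfu y
    obtain ⟨R, hR, hR1⟩ := μ.exists_eq_pow_rootMultiplicity_mul_and_not_dvd hmon.ne_zero 1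
    have hmul : 0 < μ.rootMultiplicity 1 := (rootMultiplicity_pos hmon.ne_zero).2 (hroot 1 one_ne_zero)
    set e := μ.rootMultiplicity 1
    have hR0 : R ≠ 0 := fun h1 => hmon.ne_zero (by rw [hR, h1, mul_zero])
    have hdegμ : μ.natDegree = e + R.natDegree := by
      conv_lhs => rw [hR]
      rw [natDegree_mul (pow_ne_zero _ (X_sub_C_ne_zero _)) hR0, natDegree_pow, natDegree_X_sub_C, mul_one]
    have hRdeg : R.natDegree = 0 := by
      by_contra hne
      have hRmem : R ∈ Polynomial.degreeLT F d := by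
        rw [mem_degreeLT, degree_eq_natDegree hR0]
        have := minpoly_natDegree_le H
        rw [show (minpoly F H).natDegree = μ.natDegree from rfl, hdegμ] at this
        exact_mod_cast (show R.natDegree < d by omega)
      have hu := hunit ⟨R, hRmem⟩ (fun h1 => hR1 (dvd_iff_isRoot.2 (by simpa [ev] using h1)))
      have h2 : aeval H ((X - C (1 : F)) ^ e) * aeval H R = 0 := by rw [← map_mul, ← hR]; exact h0
      have h3 := natDegree_le_of_dvd (minpoly.dvd F H ((IsUnit.mul_left_eq_zero hu).1 h2))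
        (pow_ne_zero e (X_sub_C_ne_zero (1 : F)))
      rw [show (minpoly F H).natDegree = μ.natDegree from rfl, hdegμ, natDegree_pow, natDegree_X_sub_C] at h3
      omega
    have hRC : R = C 1 := by
      rw [eq_C_of_natDegree_eq_zero hRdeg]
      have h1 := hmon
      rw [hR, Monic, leadingCoeff_mul, leadingCoeff_pow, leadingCoeff_X_sub_C, one_pow, one_mul, leadingCoeff, hRdeg] at h1
      rw [h1]
    have hnil : (H - 1) ^ e = 0 := by
      have h1 : aeval H μ = 0 := h0
      rw [hR, hRC, map_one, mul_one, map_pow, map_sub, aeval_X, map_one] at h1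
      exact h1
    have : CharP F 2 := by
      have h1 : ((2 : ℕ) : F) = 0 := by rw [← hqe, hq, FiniteField.cast_card_eq_zero]
      obtain ⟨p, hc⟩ := CharP.exists F
      have hp := (Nat.prime_dvd_prime_iff_eq (CharP.char_is_prime F p) Nat.prime_two).1 ((CharP.cast_eq_zero_iff F p 2).1 h1)
      exact hp ▸ hc
    have : Nonempty (Fin d) := ⟨⟨0, by omega⟩⟩
    set t := Nat.clog 2 d
    have h2 : H ^ 2 ^ t = 1 := by
      have h3 : (H - 1) ^ 2 ^ t = 0 := pow_eq_zero_of_le
        ((show e ≤ d by have := minpoly_natDegree_le H; rw [show (minpoly F H).natDegree = μ.natDegree from rfl, hdegμ] at this; omega).trans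
          (Nat.le_pow_clog one_lt_two d)) hnil
      have : Fact (Nat.Prime 2) := ⟨Nat.prime_two⟩
      rwa [sub_pow_char_pow_of_commute (p := 2) (h := Commute.one_right H), one_pow, sub_eq_zero] at h3
    have h4 : N ≤ 2 ^ t := Nat.le_of_dvd (pow_pos two_pos _) (orderOf_dvd_of_pow_eq_one (by
      rw [← map_pow]
      refine innd_scalar ⟨1, ?_⟩
      rw [map_one, Units.val_pow_eq_pow_val]
      exact h2.symm))
    have h5 : t ≤ d - 2 := Nat.clog_le_of_le_pow (by
      have key : ∀ k, k + 4 ≤ 2 ^ (k + 2) := by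
        intro k
        induction k with
        | zero => norm_num
        | succ k ih => rw [show k + 1 + 2 = (k + 2) + 1 from rfl, pow_succ]; omega
      have hd4 : 4 ≤ d := by
        by_contra hd4
        exact hex ⟨by omega, hqe⟩
      obtain ⟨k, rfl⟩ : ∃ k, d = k + 4 := ⟨d - 4, by omega⟩
      exact key k)
    have h6 : 2 * 2 ^ (d - 2) < K * 2 := by
      rw [← pow_succ', hK]
      exact Nat.pow_lt_pow_right one_lt_two (by omega)
    have h7 : 2 ^ t ≤ 2 ^ (d - 2) := Nat.pow_le_pow_right two_pos h5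
    omega
  · have hab := two_pow_lt (x := q - 1) (m := q - 1) rfl (by omega)
    rw [show q - 1 + 1 = q by omega] at hab
    have h1 : 2 * ((q - 1) ^ (q - 1) * K) + K ≤ q ^ d := by
      rw [← hK]
      calc 2 * ((q - 1) ^ (q - 1) * K) + K = (2 * (q - 1) ^ (q - 1) + 1) * K := by ring
        _ ≤ q ^ (q - 1) * K := Nat.mul_le_mul_right _ hab
        _ = K * q ^ (q - 1) := by ring
    simp only [q, K] at *
    omega

end Twisted

end Cfsg.Lib.Linear.AutPSLOrder
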