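import Mathlib
import Cfsg.Prelude.Def_ClassicalGeometry

/-! Stabilisers of a nondegenerate subspace in the isometry group of a form. -/

set_option autoImplicit false

namespace Cfsg.Lib.Linear.Block

open scoped Matrix

variable {F : Type*} [Field F] {V V₁ V₂ : Type*} [AddCommGroup V] [Module F V]
  [AddCommGroup V₁] [Module F V₁] [AddCommGroup V₂] [Module F V₂]

/-- The linear automorphisms preserving a function of two vectors. -/
def Iso (β : V → V → F) : Subgroup (V ≃ₗ[F] V) where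
  carrier := {g | ∀ u v, β (g u) (g v) = β u v}
  one_mem' := fun _ _ => rfl
  mul_mem' := fun {g h} hg hh u v => (hg _ _).trans (hh u v)
  inv_mem' := fun {g} hg u v => by
    have := hg (g⁻¹ u) (g⁻¹ v)
    rw [← LinearEquiv.mul_apply, ← LinearEquiv.mul_apply, mul_inv_cancel] at this
    exact this.symm

variable {β : V → V → F} {β₁ : V₁ → V₁ → F} {β₂ : V₂ → V₂ → F}

/-- A pair of isometries of the blocks gives an isometry of the whole space. -/
noncomputable def blockHom (e : (V₁ × V₂) ≃ₗ[F] V)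
    (hsum : ∀ p r, β (e p) (e r) = β₁ p.1 r.1 + β₂ p.2 r.2) :
    Iso β₁ × Iso β₂ →* Iso β where
  toFun gh := ⟨e.symm ≪≫ₗ ((gh.1 : V₁ ≃ₗ[F] V₁).prodCongr (gh.2 : V₂ ≃ₗ[F] V₂)) ≪≫ₗ e, fun u v => by
    obtain ⟨p, rfl⟩ := e.surjective u
    obtain ⟨r, rfl⟩ := e.surjective v
    simp only [LinearEquiv.trans_apply, LinearEquiv.symm_apply_apply, LinearEquiv.prodCongr_apply,
      hsum]
    rw [gh.1.2, gh.2.2]⟩
  map_one' := Subtype.ext (LinearEquiv.ext fun v => by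
    obtain ⟨p, rfl⟩ := e.surjective v; simp)
  map_mul' g h := Subtype.ext (LinearEquiv.ext fun v => by
    obtain ⟨p, rfl⟩ := e.surjective v; simp [LinearEquiv.mul_apply])

theorem blockHom_apply (e : (V₁ × V₂) ≃ₗ[F] V)
    (hsum : ∀ p r, β (e p) (e r) = β₁ p.1 r.1 + β₂ p.2 r.2) (gh : Iso β₁ × Iso β₂) (p : V₁ × V₂) :
    (blockHom e hsum gh : V ≃ₗ[F] V) (e p) =
      e ((gh.1 : V₁ ≃ₗ[F] V₁) p.1, (gh.2 : V₂ ≃ₗ[F] V₂) p.2) := by
  simp [blockHom]

/-- The stabiliser of a block is the product of the isometry groups of the blocks. -/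
theorem stab_equiv {ι : Type} [Fintype ι] [DecidableEq ι] {H : Type*} [Group H]
    {β : (ι → F) → (ι → F) → F} (e : (V₁ × V₂) ≃ₗ[F] (ι → F))
    (hsum : ∀ p r, β (e p) (e r) = β₁ p.1 r.1 + β₂ p.2 r.2)
    (h₁0 : ∀ a, β₁ a 0 = 0) (h₂0 : ∀ b, β₂ 0 b = 0)
    (hnd : ∀ c, (∀ a, β₁ a c = 0) → c = 0)
    (W : Submodule F (ι → F)) (hW : ∀ p, e p ∈ W ↔ p.2 = 0)
    (toMat : H →* Matrix ι ι F) (ψ : H ≃* Iso β)
    (hψ : ∀ h v, (ψ h : (ι → F) ≃ₗ[F] (ι → F)) v = toMat h *ᵥ v) :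
    Nonempty (↥(Cfsg.stabilizing toMat (W : Set (ι → F))) ≃* Iso β₁ × Iso β₂) := by
  set f := (ψ.symm : Iso β →* H).comp (blockHom e hsum) with hf
  have hinj : Function.Injective f := by
    refine ψ.symm.injective.comp fun g h hgh => ?_
    have key : ∀ p : V₁ × V₂, ((g.1 : V₁ ≃ₗ[F] V₁) p.1, (g.2 : V₂ ≃ₗ[F] V₂) p.2) =
        ((h.1 : V₁ ≃ₗ[F] V₁) p.1, (h.2 : V₂ ≃ₗ[F] V₂) p.2) := fun p => e.injective (by
      rw [← blockHom_apply e hsum g p, ← blockHom_apply e hsum h p, hgh])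
    exact Prod.ext (Subtype.ext (LinearEquiv.ext fun a => congrArg Prod.fst (key (a, 0))))
      (Subtype.ext (LinearEquiv.ext fun b => congrArg Prod.snd (key (0, b))))
  refine ⟨((MonoidHom.ofInjective hinj).trans (MulEquiv.subgroupCongr ?_)).symm⟩
  ext h
  constructor
  · rintro ⟨gh, rfl⟩ v
    obtain ⟨p, rfl⟩ := e.surjective v
    rw [← hψ, hf]
    simp only [MonoidHom.comp_apply, MonoidHom.coe_coe, MulEquiv.apply_symm_apply]
    rw [SetLike.mem_coe, SetLike.mem_coe, blockHom_apply, hW, hW]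
    simp
  · intro hh
    set g : (ι → F) ≃ₗ[F] (ι → F) := (ψ h : (ι → F) ≃ₗ[F] (ι → F)) with hg
    have hgW : ∀ v, v ∈ W ↔ g v ∈ W := fun v => by rw [hg, hψ]; exact hh v
    have hgi : ∀ v, v ∈ W ↔ g.symm v ∈ W := fun v => by rw [hgW (g.symm v), g.apply_symm_apply]
    have key : ∀ T : (ι → F) ≃ₗ[F] (ι → F), (∀ u v, β (T u) (T v) = β u v) →
        (∀ v, v ∈ W ↔ T v ∈ W) → ∀ p : V₁ × V₂,
          e.symm (T (e p)) = ((e.symm (T (e (p.1, 0)))).1, (e.symm (T (e (0, p.2)))).2) := by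
      intro T hT hTW p
      have h1 : (e.symm (T (e (p.1, 0)))).2 = 0 := by
        rw [← hW, e.apply_symm_apply, ← hTW, hW]
      have h2 : (e.symm (T (e (0, p.2)))).1 = 0 := by
        refine hnd _ fun a => ?_
        obtain ⟨w, hw⟩ := T.surjective (e (a, 0))
        obtain ⟨⟨a', b'⟩, rfl⟩ := e.surjective w
        have hb : b' = 0 := by
          have := (hTW (e (a', b'))).2 (hw ▸ (hW _).2 rfl)
          exact (hW _).1 this
        subst hb
        have h3 : β (e (a, 0)) (T (e (0, p.2))) = 0 := by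
          rw [← hw, hT, hsum, h₁0, h₂0, add_zero]
        rw [← e.apply_symm_apply (T (e (0, p.2))), hsum, h₂0, add_zero] at h3
        exact h3
      conv_lhs => rw [show p = (p.1, 0) + (0, p.2) by simp, map_add, map_add, map_add]
      exact Prod.ext (by simp [h2]) (by simp [h1])
    have hTg : ∀ u v, β (g u) (g v) = β u v := (ψ h).2
    have hTi : ∀ u v, β (g.symm u) (g.symm v) = β u v := fun u v => by
      rw [← hTg, g.apply_symm_apply, g.apply_symm_apply]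
    have kg := key g hTg hgW
    have ki := key g.symm hTi hgi
    let A (T : (ι → F) ≃ₗ[F] (ι → F)) : V₁ →ₗ[F] V₁ :=
      (LinearMap.fst F V₁ V₂) ∘ₗ (e.symm : (ι → F) →ₗ[F] V₁ × V₂) ∘ₗ (T : (ι → F) →ₗ[F] (ι → F)) ∘ₗ
        (e : V₁ × V₂ →ₗ[F] (ι → F)) ∘ₗ LinearMap.inl F V₁ V₂
    let B (T : (ι → F) ≃ₗ[F] (ι → F)) : V₂ →ₗ[F] V₂ :=
      (LinearMap.snd F V₁ V₂) ∘ₗ (e.symm : (ι → F) →ₗ[F] V₁ × V₂) ∘ₗ (T : (ι → F) →ₗ[F] (ι → F)) ∘ₗ
        (e : V₁ × V₂ →ₗ[F] (ι → F)) ∘ₗ LinearMap.inr F V₁ V₂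
    have kg' : ∀ p : V₁ × V₂, g (e p) = e (A g p.1, B g p.2) := fun p => by
      rw [← e.apply_symm_apply (g (e p)), kg p]; rfl
    have ki' : ∀ p : V₁ × V₂, g.symm (e p) = e (A g.symm p.1, B g.symm p.2) := fun p => by
      rw [← e.apply_symm_apply (g.symm (e p)), ki p]; rfl
    have inv1 : ∀ p : V₁ × V₂, (A g (A g.symm p.1), B g (B g.symm p.2)) = p := fun p =>
      e.injective (by rw [← kg' (A g.symm p.1, B g.symm p.2), ← ki', g.apply_symm_apply])
    have inv2 : ∀ p : V₁ × V₂, (A g.symm (A g p.1), B g.symm (B g p.2)) = p := fun p =>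
      e.injective (by rw [← ki' (A g p.1, B g p.2), ← kg', g.symm_apply_apply])
    let g₁ : V₁ ≃ₗ[F] V₁ := LinearEquiv.ofLinearMap (A g) (A g.symm)
      (LinearMap.ext fun a => congrArg Prod.fst (inv1 (a, 0)))
      (LinearMap.ext fun a => congrArg Prod.fst (inv2 (a, 0)))
    let g₂ : V₂ ≃ₗ[F] V₂ := LinearEquiv.ofLinearMap (B g) (B g.symm)
      (LinearMap.ext fun b => congrArg Prod.snd (inv1 (0, b)))
      (LinearMap.ext fun b => congrArg Prod.snd (inv2 (0, b)))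
    have hg₁ : g₁ ∈ Iso β₁ := fun a a' => by
      have := hTg (e (a, 0)) (e (a', 0))
      rw [kg', kg', hsum, hsum, map_zero, h₂0, add_zero, add_zero] at this
      exact this
    have hg₂ : g₂ ∈ Iso β₂ := fun b b' => by
      have := hTg (e (0, b)) (e (0, b'))
      rw [kg', kg', hsum, hsum, map_zero, h₁0, zero_add, zero_add] at this
      exact this
    refine ⟨(⟨g₁, hg₁⟩, ⟨g₂, hg₂⟩), ψ.injective (Subtype.ext (LinearEquiv.ext fun v => ?_))⟩
    obtain ⟨p, rfl⟩ := e.surjective v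
    rw [hf]
    simp only [MonoidHom.comp_apply, MonoidHom.coe_coe, MulEquiv.apply_symm_apply]
    rw [blockHom_apply]
    exact (kg' p).symm

/-- The orthogonal complement of an embedded nondegenerate block. -/
theorem complement [FiniteDimensional F V] [FiniteDimensional F V₁] (L : V₁ →ₗ[F] V) (Φ : V →ₗ[F] V₁)
    (hΦL : ∀ a, Φ (L a) = a) (hker : ∀ v, Φ v = 0 ↔ ∀ a, β (L a) v = 0)
    (hrefl : ∀ u v, β u v = 0 → β v u = 0)
    (hadd : ∀ u v w, β u (v + w) = β u v + β u w)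
    (hnd : ∀ v, (∀ u, β u v = 0) → v = 0) :
    Module.finrank F (LinearMap.ker Φ) + Module.finrank F V₁ = Module.finrank F V ∧
      (∀ a, ∀ x ∈ LinearMap.ker Φ, β (L a) x = 0 ∧ β x (L a) = 0) ∧
      ∀ x ∈ LinearMap.ker Φ, (∀ y ∈ LinearMap.ker Φ, β x y = 0) → x = 0 := by
  have hs : Function.Surjective Φ := fun a => ⟨L a, hΦL a⟩
  have h1 := LinearMap.finrank_range_add_finrank_ker Φ
  rw [LinearMap.range_eq_top.2 hs, finrank_top] at h1
  have horth : ∀ a, ∀ x ∈ LinearMap.ker Φ, β (L a) x = 0 ∧ β x (L a) = 0 := fun a x hx =>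
    ⟨(hker x).1 hx a, hrefl _ _ ((hker x).1 hx a)⟩
  refine ⟨by omega, horth, fun x hx h => hnd x fun u => hrefl _ _ ?_⟩
  have hu : u - L (Φ u) ∈ LinearMap.ker Φ := by simp [hΦL]
  calc β x u = β x (L (Φ u) + (u - L (Φ u))) := by rw [add_sub_cancel]
    _ = 0 := by rw [hadd, (horth _ x hx).2, h _ hu, add_zero]

/-- Assembling two orthogonal embedded blocks. -/
theorem exists_assemble [FiniteDimensional F V] [FiniteDimensional F V₁] [FiniteDimensional F V₂]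
    (L₁ : V₁ →ₗ[F] V) (Φ : V →ₗ[F] V₁) (L₂ : V₂ →ₗ[F] V)
    (hΦL : ∀ a, Φ (L₁ a) = a) (hL₂ : ∀ b, Φ (L₂ b) = 0) (hinj : Function.Injective L₂)
    (hdim : Module.finrank F V₁ + Module.finrank F V₂ = Module.finrank F V)
    (hi₁ : ∀ a a', β (L₁ a) (L₁ a') = β₁ a a') (hi₂ : ∀ b b', β (L₂ b) (L₂ b') = β₂ b b')
    (h12 : ∀ a b, β (L₁ a) (L₂ b) = 0 ∧ β (L₂ b) (L₁ a) = 0)
    (haddl : ∀ u v w, β (u + v) w = β u w + β v w)
    (haddr : ∀ u v w, β u (v + w) = β u v + β u w) :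
    ∃ e : (V₁ × V₂) ≃ₗ[F] V, (∀ p r, β (e p) (e r) = β₁ p.1 r.1 + β₂ p.2 r.2) ∧
      ∀ p, e p ∈ LinearMap.range L₁ ↔ p.2 = 0 := by
  set T := L₁.coprod L₂ with hT
  have hTi : Function.Injective T := by
    rw [← LinearMap.ker_eq_bot, LinearMap.ker_eq_bot']
    intro p hp
    have h1 : Φ (T p) = p.1 := by simp [hT, hΦL, hL₂]
    rw [hp, map_zero] at h1
    have h2 : L₂ p.2 = 0 := by
      simp only [hT, LinearMap.coprod_apply, ← h1, map_zero, zero_add] at hp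
      exact hp
    exact Prod.ext h1.symm (hinj (h2.trans (map_zero L₂).symm))
  let e : (V₁ × V₂) ≃ₗ[F] V := LinearEquiv.ofBijective T
    ⟨hTi, (LinearMap.injective_iff_surjective_of_finrank_eq_finrank
      (by rw [Module.finrank_prod, hdim])).1 hTi⟩
  refine ⟨e, fun p r => ?_, fun p => ⟨?_, fun h => ⟨p.1, ?_⟩⟩⟩
  · show β (T p) (T r) = _
    simp only [hT, LinearMap.coprod_apply]
    rw [haddl, haddr, haddr, hi₁, hi₂, (h12 _ _).1, (h12 _ _).2, add_zero, zero_add]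
  · rintro ⟨a, ha⟩
    have hpa : (a, (0 : V₂)) = p := hTi (by
      show T (a, 0) = T p
      rw [hT, LinearMap.coprod_apply, map_zero, add_zero, ha]; rfl)
    exact (congrArg Prod.snd hpa).symm
  · show L₁ p.1 = T p
    simp [hT, h]

end Cfsg.Lib.Linear.Block
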