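import Mathlib

/-!
# Primary canonical forms of matrices over a field

A matrix has the form `f : ι → F[X]` when the space is, as a module over `F[X]`, the product of the
quotients by the `f i`.
-/

set_option autoImplicit false

universe u

namespace Cfsg.Lib.CanonicalForm

open Polynomial Module
open scoped DirectSum

variable {F : Type u} [Field F] {n : ℕ}

/-- `A` acts as multiplication by the root on a product of the algebras `F[X]/(f i)` -/
def HasForm (A : Matrix (Fin n) (Fin n) F) {ι : Type u} (f : ι → F[X]) : Prop :=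
  ∃ Ψ : (Fin n → F) ≃ₗ[F] (∀ i, AdjoinRoot (f i)),
    ∀ v i, Ψ (A.mulVec v) i = AdjoinRoot.root (f i) * Ψ v i

theorem exists_form (A : Matrix (Fin n) (Fin n) F) :
    ∃ (ι : Type u) (_ : Fintype ι) (p : ι → F[X]) (e : ι → ℕ),
      (∀ i, (p i).Monic) ∧ (∀ i, Irreducible (p i)) ∧ (∀ i, 1 ≤ e i) ∧
      HasForm A (fun i => p i ^ e i) := by
  classical
  let a : Module.End F (Fin n → F) := Matrix.toLin' A
  obtain ⟨ι, hfι, p, hp, e, ⟨φ⟩⟩ := Module.equiv_directSum_of_isTorsion (R := F[X])
    (M := Module.AEval F (Fin n → F) a) (Module.AEval.isTorsion_of_finiteDimensional F (Fin n → F) a)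
  let q : ι → F[X] := fun i => p i * C (p i).leadingCoeff⁻¹
  have hqm : ∀ i, (q i).Monic := fun i => monic_mul_leadingCoeff_inv (hp i).ne_zero
  have hqu : ∀ i, Associated (p i) (q i) := fun i =>
    (associated_mul_unit_right (p i) _ (isUnit_C.mpr (isUnit_iff_ne_zero.mpr
      (inv_ne_zero (leadingCoeff_ne_zero.mpr (hp i).ne_zero)))))
  have hqi : ∀ i, Irreducible (q i) := fun i => (hqu i).irreducible (hp i)
  have hspan : ∀ i, Submodule.span F[X] ({p i ^ e i} : Set F[X]) = Submodule.span F[X] {q i ^ e i} :=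
    fun i => Ideal.span_singleton_eq_span_singleton.mpr ((hqu i).pow_pow (n := e i))
  let ε : ∀ i, (F[X] ⧸ Submodule.span F[X] ({p i ^ e i} : Set F[X])) ≃+ AdjoinRoot (q i ^ e i) := fun i =>
    { toFun := fun z => (Submodule.quotEquivOfEq _ _ (hspan i) z : F[X] ⧸ Submodule.span F[X] {q i ^ e i})
      invFun := fun z => (Submodule.quotEquivOfEq _ _ (hspan i)).symm (z : F[X] ⧸ Submodule.span F[X] {q i ^ e i})
      left_inv := fun z => (Submodule.quotEquivOfEq _ _ (hspan i)).symm_apply_apply z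
      right_inv := fun z => (Submodule.quotEquivOfEq _ _ (hspan i)).apply_symm_apply z
      map_add' := fun y z => map_add (Submodule.quotEquivOfEq _ _ (hspan i)) y z }
  have hε : ∀ i (g : F[X]) z, ε i (g • z) = AdjoinRoot.mk _ g * ε i z := by
    intro i g z
    induction' z using Submodule.Quotient.induction_on with y
    show _ = AdjoinRoot.mk _ g * AdjoinRoot.mk _ y
    rw [← map_mul]
    rfl
  let V' := Fin n → F
  let of' := Module.AEval.of F (Fin n → F) a
  let T : {i // e i ≠ 0} → Type u := fun i => AdjoinRoot (q i.1 ^ e i.1)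
  let ψ : (Fin n → F) →ₗ[F] ∀ i : {i // e i ≠ 0}, AdjoinRoot (q i.1 ^ e i.1) :=
    { toFun := fun v i => ε i.1 (φ (of' v) i.1)
      map_add' := fun v w => funext fun i => by
        simp only [map_add, DirectSum.add_apply, Pi.add_apply]
      map_smul' := fun c v => funext fun i => by
        simp only [RingHom.id_apply, Pi.smul_apply]
        rw [map_smul, ← Module.AEval.C_smul (a := a), map_smul, DirectSum.smul_apply, hε, Algebra.smul_def,
          AdjoinRoot.algebraMap_eq, AdjoinRoot.mk_C] }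
  have hbij : Function.Bijective ψ := by
    constructor
    · refine (injective_iff_map_eq_zero _).mpr fun v hv => ?_
      have h0 : φ (of' v) = 0 := by
        refine DFunLike.ext _ _ fun i => ?_
        by_cases hi : e i = 0
        · induction' (φ (of' v)) i using Submodule.Quotient.induction_on with g
          exact (Submodule.Quotient.mk_eq_zero _).mpr
            (Submodule.mem_span_singleton.mpr ⟨g, by rw [hi, pow_zero, smul_eq_mul, mul_one]⟩)
        · exact (ε i).injective ((congrFun hv ⟨i, hi⟩).trans (map_zero (ε i)).symm)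
      simpa [of'] using h0
    · intro w
      let x : ∀ i, F[X] ⧸ Submodule.span F[X] ({p i ^ e i} : Set F[X]) :=
        fun i => if h : e i ≠ 0 then (ε i).symm (w ⟨i, h⟩) else 0
      refine ⟨of'.symm (φ.symm ((DirectSum.linearEquivFunOnFintype F[X] ι _).symm x)), funext fun i => ?_⟩
      show ε i.1 (φ (of' (of'.symm (φ.symm ((DirectSum.linearEquivFunOnFintype F[X] ι _).symm x)))) i.1) = w i
      rw [LinearEquiv.apply_symm_apply, LinearEquiv.apply_symm_apply]
      have hx : ((DirectSum.linearEquivFunOnFintype F[X] ι _).symm x) i.1 = x i.1 :=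
        congrFun ((DirectSum.linearEquivFunOnFintype F[X] ι _).apply_symm_apply x) i.1
      rw [hx]
      simp [x, i.2]
  refine ⟨{i // e i ≠ 0}, inferInstance, fun i => q i.1, fun i => e i.1, fun i => hqm _, fun i => hqi _,
    fun i => Nat.one_le_iff_ne_zero.mpr i.2, LinearEquiv.ofBijective ψ hbij, fun v i => ?_⟩
  show ε i.1 (φ (of' (A.mulVec v)) i.1) = AdjoinRoot.root _ * ε i.1 (φ (of' v) i.1)
  have hX : of' (A.mulVec v) = (X : F[X]) • of' v := by
    rw [Module.AEval.X_smul_of]; rfl
  rw [hX, map_smul, DirectSum.smul_apply, hε, AdjoinRoot.mk_X]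

theorem HasForm.aeval {A : Matrix (Fin n) (Fin n) F} {ι : Type u} {f : ι → F[X]}
    {Ψ : (Fin n → F) ≃ₗ[F] (∀ i, AdjoinRoot (f i))}
    (hΨ : ∀ v i, Ψ (A.mulVec v) i = AdjoinRoot.root (f i) * Ψ v i) (g : F[X]) (v : Fin n → F) (i : ι) :
    Ψ ((Polynomial.aeval A g).mulVec v) i = AdjoinRoot.mk (f i) g * Ψ v i := by
  induction g using Polynomial.induction_on generalizing v with
  | C c =>
    rw [aeval_C, Algebra.algebraMap_eq_smul_one, Matrix.smul_mulVec, Matrix.one_mulVec, map_smul,
      Pi.smul_apply, Algebra.smul_def, AdjoinRoot.algebraMap_eq, AdjoinRoot.mk_C]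
  | add g h hg hh => rw [map_add, Matrix.add_mulVec, map_add, Pi.add_apply, hg, hh, map_add, add_mul]
  | monomial k c hk =>
    rw [pow_succ, ← mul_assoc, map_mul, aeval_X, ← Matrix.mulVec_mulVec, hk, hΨ]
    simp only [map_mul, AdjoinRoot.mk_X, mul_assoc]

theorem HasForm.aeval_eq_zero_iff {A : Matrix (Fin n) (Fin n) F} {ι : Type u} {f : ι → F[X]}
    (h : HasForm A f) (g : F[X]) : Polynomial.aeval A g = 0 ↔ ∀ i, f i ∣ g := by
  classical
  obtain ⟨Ψ, hΨ⟩ := h
  constructor
  · intro hg i
    rw [← AdjoinRoot.mk_eq_zero]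
    have h1 := HasForm.aeval hΨ g (Ψ.symm 1) i
    rw [hg, Matrix.zero_mulVec, map_zero, LinearEquiv.apply_symm_apply, Pi.one_apply, mul_one] at h1
    exact h1.symm
  · intro hg
    apply Matrix.toLin'.injective
    refine LinearMap.ext fun v => Ψ.injective (funext fun i => ?_)
    rw [Matrix.toLin'_apply, HasForm.aeval hΨ, AdjoinRoot.mk_eq_zero.mpr (hg i), zero_mul, map_zero,
      LinearMap.zero_apply, map_zero, Pi.zero_apply]

theorem HasForm.sum_natDegree {A : Matrix (Fin n) (Fin n) F} {ι : Type u} [Fintype ι] {f : ι → F[X]}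
    (h : HasForm A f) (hf : ∀ i, (f i).Monic) : ∑ i, (f i).natDegree = n := by
  obtain ⟨Ψ, -⟩ := h
  haveI : ∀ i, Module.Finite F (AdjoinRoot (f i)) := fun i => (hf i).finite_adjoinRoot
  have e := Ψ.finrank_eq
  rw [Module.finrank_fin_fun, Module.finrank_pi_fintype] at e
  rw [e]
  refine Finset.sum_congr rfl fun i _ => ?_
  rw [(AdjoinRoot.powerBasis' (hf i)).finrank]
  rfl

theorem exists_matrix {ι : Type u} [Fintype ι] (f : ι → F[X]) (hf : ∀ i, (f i).Monic)
    (hn : ∑ i, (f i).natDegree = n) : ∃ A : Matrix (Fin n) (Fin n) F, HasForm A f := by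
  classical
  haveI : ∀ i, Module.Finite F (AdjoinRoot (f i)) := fun i => (hf i).finite_adjoinRoot
  have hr : Module.finrank F (Fin n → F) = Module.finrank F (∀ i, AdjoinRoot (f i)) := by
    rw [Module.finrank_fin_fun, Module.finrank_pi_fintype, ← hn]
    refine Finset.sum_congr rfl fun i _ => ?_
    rw [(AdjoinRoot.powerBasis' (hf i)).finrank]
    rfl
  let Ψ := LinearEquiv.ofFinrankEq (Fin n → F) (∀ i, AdjoinRoot (f i)) hr
  let r : (∀ i, AdjoinRoot (f i)) →ₗ[F] (∀ i, AdjoinRoot (f i)) :=
    LinearMap.mulLeft F (fun i => AdjoinRoot.root (f i))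
  refine ⟨LinearMap.toMatrix' (Ψ.symm.toLinearMap ∘ₗ r ∘ₗ Ψ.toLinearMap), Ψ, fun v i => ?_⟩
  rw [← Matrix.toLin'_apply, Matrix.toLin'_toMatrix']
  simp [r]

theorem HasForm.comp_equiv {A : Matrix (Fin n) (Fin n) F} {ι κ : Type u} {f : ι → F[X]}
    (h : HasForm A f) (σ : κ ≃ ι) : HasForm A (f ∘ σ) := by
  obtain ⟨Ψ, hΨ⟩ := h
  exact ⟨Ψ.trans (LinearEquiv.piCongrLeft F (fun i => AdjoinRoot (f i)) σ).symm, fun v i => hΨ v (σ i)⟩

theorem isConj_of_hasForm {A B : Matrix (Fin n) (Fin n) F} {ι : Type u} {f : ι → F[X]}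
    (hA : HasForm A f) (hB : HasForm B f) : IsConj A B := by
  classical
  obtain ⟨ΨA, hΨA⟩ := hA
  obtain ⟨ΨB, hΨB⟩ := hB
  let θ := ΨA.trans ΨB.symm
  let P := LinearMap.toMatrix' θ.toLinearMap
  let P' := LinearMap.toMatrix' θ.symm.toLinearMap
  have h1 : P * P' = 1 := by
    rw [← LinearMap.toMatrix'_comp, ← LinearMap.toMatrix'_id]
    congr 1
    exact LinearMap.ext fun v => θ.apply_symm_apply v
  refine ⟨⟨P, P', h1, mul_eq_one_comm.mp h1⟩, ?_⟩
  show P * A = B * P
  apply Matrix.toLin'.injective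
  rw [Matrix.toLin'_mul, Matrix.toLin'_mul, Matrix.toLin'_toMatrix']
  refine LinearMap.ext fun v => ΨB.injective (funext fun i => ?_)
  simp only [LinearMap.comp_apply, Matrix.toLin'_apply, θ, LinearEquiv.coe_coe, LinearEquiv.trans_apply,
    LinearEquiv.apply_symm_apply, hΨA, hΨB]

theorem exists_equiv_of_map_eq {α ι κ : Type*} [Fintype ι] [Fintype κ] (f : ι → α) (g : κ → α)
    (h : (Finset.univ : Finset ι).val.map f = (Finset.univ : Finset κ).val.map g) :
    ∃ σ : κ ≃ ι, g = f ∘ σ := by
  classical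
  have hc : ∀ a, Fintype.card {j // g j = a} = Fintype.card {i // f i = a} := by
    intro a
    have h1 := congrArg (Multiset.count a) h
    rw [Multiset.count_map, Multiset.count_map] at h1
    rw [Fintype.card_subtype, Fintype.card_subtype, Finset.card_def, Finset.card_def, Finset.filter_val,
      Finset.filter_val]
    rw [Multiset.filter_congr (fun x _ => eq_comm (a := f x) (b := a)),
      Multiset.filter_congr (fun x _ => eq_comm (a := g x) (b := a))]
    exact h1.symm
  let σ : κ ≃ ι := Equiv.ofFiberEquiv (f := g) (g := f) fun a => Fintype.equivOfCardEq (hc a)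
  exact ⟨σ, funext fun j => (Equiv.ofFiberEquiv_map _ j).symm⟩

theorem isConj_of_map_eq {A B : Matrix (Fin n) (Fin n) F} {ι κ : Type u} [Fintype ι] [Fintype κ]
    {f : ι → F[X]} {g : κ → F[X]} (hA : HasForm A f) (hB : HasForm B g)
    (h : (Finset.univ : Finset ι).val.map f = (Finset.univ : Finset κ).val.map g) : IsConj A B := by
  obtain ⟨σ, rfl⟩ := exists_equiv_of_map_eq f g h
  exact isConj_of_hasForm (hA.comp_equiv σ) hB

theorem det_blockDiag {R : Type*} [CommRing R] {ι : Type*} [Fintype ι] [DecidableEq ι] {m : ι → Type*}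
    [∀ i, Fintype (m i)] [∀ i, DecidableEq (m i)] (M : ∀ i, Matrix (m i) (m i) R) :
    (Matrix.blockDiagonal' M).det = ∏ i, (M i).det := by
  letI : LinearOrder ι := LinearOrder.lift' (Fintype.equivFin ι) (Fintype.equivFin ι).injective
  rw [Matrix.BlockTriangular.det_fintype (Matrix.blockTriangular_blockDiagonal' M)]
  refine Finset.prod_congr rfl fun k _ => ?_
  have e : (Matrix.blockDiagonal' M).toSquareBlock Sigma.fst k =
      (M k).submatrix (Equiv.sigmaSubtype k) (Equiv.sigmaSubtype k) := by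
    ext ⟨⟨a, x⟩, ha⟩ ⟨⟨b, y⟩, hb⟩
    simp only at ha hb
    subst ha
    subst hb
    exact Matrix.blockDiagonal'_apply_eq M _ x y
  rw [e]
  convert Matrix.det_submatrix_equiv_self (Equiv.sigmaSubtype k) (M k)

theorem HasForm.charpoly {A : Matrix (Fin n) (Fin n) F} {ι : Type u} [Fintype ι] {f : ι → F[X]}
    (h : HasForm A f) (hf : ∀ i, (f i).Monic) : A.charpoly = ∏ i, f i := by
  classical
  obtain ⟨Ψ, hΨ⟩ := h
  let pb := fun i => AdjoinRoot.powerBasis' (hf i)
  let b := (Pi.basis fun i => (pb i).basis).map Ψ.symm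
  let M := fun i => Algebra.leftMulMatrix (pb i).basis (AdjoinRoot.root (f i))
  have hb : LinearMap.toMatrix b b (Matrix.toLin' A) = Matrix.blockDiagonal' M := by
    ext ⟨k', x⟩ ⟨k, y⟩
    rw [LinearMap.toMatrix_apply, Module.Basis.map_repr, LinearEquiv.trans_apply, LinearEquiv.symm_symm,
      Pi.basis_repr, Matrix.toLin'_apply, hΨ, Module.Basis.map_apply, LinearEquiv.apply_symm_apply,
      Pi.basis_apply]
    by_cases hk : k' = k
    · subst hk
      rw [Pi.single_eq_same, Matrix.blockDiagonal'_apply_eq]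
      exact (Algebra.leftMulMatrix_eq_repr_mul (pb k').basis (AdjoinRoot.root (f k')) x y).symm
    · rw [Pi.single_eq_of_ne hk, mul_zero, map_zero, Finsupp.zero_apply, Matrix.blockDiagonal'_apply_ne _ _ _ hk]
  have e1 : (LinearMap.toMatrix b b (Matrix.toLin' A)).charpoly = A.charpoly := by
    rw [LinearMap.charpoly_toMatrix, ← LinearMap.charpoly_toMatrix (Matrix.toLin' A) (Pi.basisFun F (Fin n)),
      LinearMap.toMatrix_eq_toMatrix', LinearMap.toMatrix'_toLin']
  rw [← e1, hb, Matrix.charpoly]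
  have e2 : Matrix.charmatrix (Matrix.blockDiagonal' M) = Matrix.blockDiagonal' fun i => Matrix.charmatrix (M i) := by
    ext ⟨k', x⟩ ⟨k, y⟩
    by_cases hk : k' = k
    · subst hk
      rw [Matrix.blockDiagonal'_apply_eq]
      by_cases hxy : x = y
      · subst hxy
        rw [Matrix.charmatrix_apply_eq, Matrix.charmatrix_apply_eq, Matrix.blockDiagonal'_apply_eq]
      · rw [Matrix.charmatrix_apply_ne _ _ _ (by simp [hxy]), Matrix.charmatrix_apply_ne _ _ _ hxy,
          Matrix.blockDiagonal'_apply_eq]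
    · rw [Matrix.blockDiagonal'_apply_ne _ _ _ hk, Matrix.charmatrix_apply_ne _ _ _ (by simp [hk]),
        Matrix.blockDiagonal'_apply_ne _ _ _ hk, map_zero, neg_zero]
  rw [e2, det_blockDiag]
  refine Finset.prod_congr rfl fun i _ => ?_
  show (Algebra.leftMulMatrix (pb i).basis (pb i).gen).charpoly = f i
  rw [charpoly_leftMulMatrix]
  show minpoly F (AdjoinRoot.root (f i)) = f i
  rw [AdjoinRoot.minpoly_root (hf i).ne_zero, (hf i).leadingCoeff, inv_one, map_one, mul_one]

/-! ### forms all of whose factors are irreducible -/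

theorem map_eq_normalizedFactors [DecidableEq F] {A : Matrix (Fin n) (Fin n) F} {ι : Type u} [Fintype ι] {f : ι → F[X]}
    (h : HasForm A f) (hm : ∀ i, (f i).Monic) (hi : ∀ i, Irreducible (f i)) :
    (Finset.univ : Finset ι).val.map f = UniqueFactorizationMonoid.normalizedFactors A.charpoly := by
  rw [h.charpoly hm]
  show _ = UniqueFactorizationMonoid.normalizedFactors ((Finset.univ : Finset ι).val.map f).prod
  rw [UniqueFactorizationMonoid.normalizedFactors_prod_eq _ (fun x hx => by
    obtain ⟨i, -, rfl⟩ := Multiset.mem_map.mp hx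
    exact hi i), Multiset.map_map]
  exact Multiset.map_congr rfl fun i _ => ((hm i).normalize_eq_self).symm

theorem exists_form_of_pow_eq_one (A : Matrix (Fin n) (Fin n) F) (m : ℕ) (hm : (m : F) ≠ 0) (hA : A ^ m = 1) :
    ∃ (ι : Type u) (_ : Fintype ι) (f : ι → F[X]), (∀ i, (f i).Monic) ∧ (∀ i, Irreducible (f i)) ∧ HasForm A f := by
  obtain ⟨ι, hι, p, e, hp, hi, he, h⟩ := exists_form A
  have hd := (h.aeval_eq_zero_iff (X ^ m - 1)).mp (by simp [hA])
  have hsq : Squarefree (X ^ m - 1 : F[X]) := (X_pow_sub_one_separable_iff.mpr hm).squarefree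
  have he1 : ∀ i, e i = 1 := by
    intro i
    by_contra hne
    have h2 : 2 ≤ e i := by have := he i; omega
    exact (hi i).not_isUnit ((hsq.squarefree_of_dvd (hd i)) (p i) ((pow_two (p i)) ▸ pow_dvd_pow _ h2))
  have hfun : (fun i => p i ^ e i) = p := funext fun i => by rw [he1 i, pow_one]
  exact ⟨ι, hι, p, hp, hi, hfun ▸ h⟩

theorem isConj_of_charpoly_eq {A B : Matrix (Fin n) (Fin n) F} (k l : ℕ) (hk : (k : F) ≠ 0) (hl : (l : F) ≠ 0)
    (hA : A ^ k = 1) (hB : B ^ l = 1) (h : A.charpoly = B.charpoly) : IsConj A B := by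
  classical
  obtain ⟨ι, hι, f, hf1, hf2, hf⟩ := exists_form_of_pow_eq_one A k hk hA
  obtain ⟨κ, hκ, g, hg1, hg2, hg⟩ := exists_form_of_pow_eq_one B l hl hB
  exact isConj_of_map_eq hf hg
    (by rw [map_eq_normalizedFactors hf hf1 hf2, map_eq_normalizedFactors hg hg1 hg2, h])

theorem exists_semisimple [Fintype F] (p : ℕ) [Fact p.Prime] [CharP F p] (g : F[X]) (hg : g.Monic)
    (hn : g.natDegree = n) (h0 : g.coeff 0 ≠ 0) :
    ∃ A : Matrix (Fin n) (Fin n) F, A.charpoly = g ∧ ∃ m : ℕ, m.Coprime p ∧ A ^ m = 1 := by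
  classical
  set s := UniqueFactorizationMonoid.normalizedFactors g with hs
  let f : ULift.{u} (Fin s.toList.length) → F[X] := fun i => s.toList.get i.down
  have hmem : ∀ i, f i ∈ s := fun i => Multiset.mem_toList.mp (List.get_mem _ _)
  have hi : ∀ i, Irreducible (f i) := fun i =>
    UniqueFactorizationMonoid.irreducible_of_normalized_factor _ (hmem i)
  have hm : ∀ i, (f i).Monic := fun i => by
    have h1 := UniqueFactorizationMonoid.normalize_normalized_factor _ (hmem i)
    rw [← h1]
    exact Polynomial.monic_normalize (hi i).ne_zero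
  have hmap : (Finset.univ : Finset (ULift.{u} (Fin s.toList.length))).val.map f = s := by
    rw [← Finset.map_univ_equiv (Equiv.ulift.{u}.symm : Fin s.toList.length ≃ ULift.{u} (Fin s.toList.length)),
      Finset.map_val, Multiset.map_map]
    show (Finset.univ : Finset (Fin s.toList.length)).val.map s.toList.get = s
    rw [Fin.univ_val_map, List.ofFn_get, Multiset.coe_toList]
  have hprod : ∏ i, f i = g := by
    show ((Finset.univ : Finset (ULift.{u} (Fin s.toList.length))).val.map f).prod = g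
    rw [hmap]
    have := UniqueFactorizationMonoid.prod_normalizedFactors hg.ne_zero
    have h' := (Polynomial.eq_of_monic_of_associated
      (monic_multiset_prod_of_monic s id fun x hx => by
        show x.Monic
        rw [← UniqueFactorizationMonoid.normalize_normalized_factor (a := g) x hx]
        exact Polynomial.monic_normalize (UniqueFactorizationMonoid.irreducible_of_normalized_factor (a := g) x hx).ne_zero) hg (by simpa [hs] using this))
    rwa [Multiset.map_id] at h'
  have hdeg : ∑ i, (f i).natDegree = n := by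
    rw [← natDegree_prod_of_monic _ _ (fun i _ => hm i), hprod, hn]
  obtain ⟨A, hA⟩ := exists_matrix f hm hdeg
  refine ⟨A, (hA.charpoly hm).trans hprod, ∏ i, (Fintype.card F ^ (f i).natDegree - 1), ?_, ?_⟩
  · refine Nat.Coprime.prod_left fun i _ => ?_
    have hq : p ∣ Fintype.card F ^ (f i).natDegree := by
      obtain ⟨k, -, hk⟩ := FiniteField.card F p
      rw [hk, ← pow_mul]
      exact dvd_pow_self _ (mul_ne_zero k.pos.ne' (Irreducible.natDegree_pos (hi i)).ne')
    have h1 : 1 ≤ Fintype.card F ^ (f i).natDegree := Nat.one_le_pow _ _ Fintype.card_pos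
    refine ((Nat.Prime.coprime_iff_not_dvd (Fact.out : p.Prime)).mpr fun hd => ?_).symm
    have := Nat.dvd_sub hq hd
    rw [show Fintype.card F ^ (f i).natDegree - (Fintype.card F ^ (f i).natDegree - 1) = 1 by omega] at this
    exact (Fact.out : p.Prime).not_dvd_one this
  · set m := ∏ i, (Fintype.card F ^ (f i).natDegree - 1)
    have hz : Polynomial.aeval A (X ^ m - 1 : F[X]) = 0 := by
      rw [hA.aeval_eq_zero_iff]
      intro i
      haveI : Fact (Irreducible (f i)) := ⟨hi i⟩
      haveI : Module.Finite F (AdjoinRoot (f i)) := (hm i).finite_adjoinRoot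
      haveI : Finite (AdjoinRoot (f i)) := Module.finite_of_finite F
      haveI := Fintype.ofFinite (AdjoinRoot (f i))
      have hr : AdjoinRoot.root (f i) ≠ 0 := by
        intro hr
        rw [← AdjoinRoot.mk_X, AdjoinRoot.mk_eq_zero] at hr
        have hX : g.coeff 0 = 0 := by
          have hfg : f i ∣ g := hprod ▸ Finset.dvd_prod_of_mem f (Finset.mem_univ i)
          have : X ∣ g := ((hi i).associated_of_dvd irreducible_X hr).symm.dvd.trans hfg
          exact X_dvd_iff.mp this
        exact h0 hX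
      have hc : Fintype.card (AdjoinRoot (f i)) = Fintype.card F ^ (f i).natDegree := by
        rw [Module.card_eq_pow_finrank (K := F), (AdjoinRoot.powerBasis' (hm i)).finrank]
        rfl
      have h1 : AdjoinRoot.root (f i) ^ m = 1 := by
        obtain ⟨c, hc'⟩ := Finset.dvd_prod_of_mem (fun j => Fintype.card F ^ (f j).natDegree - 1) (Finset.mem_univ i)
        show AdjoinRoot.root (f i) ^ (∏ j, (Fintype.card F ^ (f j).natDegree - 1)) = 1
        rw [hc', ← hc, pow_mul, FiniteField.pow_card_sub_one_eq_one _ hr, one_pow]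
      rw [← AdjoinRoot.mk_eq_zero, map_sub, map_pow, map_one, AdjoinRoot.mk_X, h1, sub_self]
    simpa [sub_eq_zero] using hz

/-! ### unipotent forms -/

variable [Fintype F]

theorem finrank_range_mulLeft (Y : F[X]) (hY : Y.Monic) (hY1 : Y.natDegree = 1) (e k : ℕ) :
    Module.finrank F (LinearMap.range (LinearMap.mulLeft F (AdjoinRoot.mk (Y ^ e) (Y ^ k)))) = e - k := by
  haveI : Module.Finite F (AdjoinRoot (Y ^ e)) := (hY.pow e).finite_adjoinRoot
  rcases Nat.lt_or_ge e k with hk | hk
  · have h0 : AdjoinRoot.mk (Y ^ e) (Y ^ k) = 0 := AdjoinRoot.mk_eq_zero.mpr (pow_dvd_pow _ hk.le)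
    rw [h0, LinearMap.mulLeft_zero_eq_zero, LinearMap.range_zero, finrank_bot]
    omega
  · let π := (AdjoinRoot.algHomOfDvd (R := F) (Y ^ e) (Y ^ k) (pow_dvd_pow _ hk)).toLinearMap
    have hπ : ∀ g, π (AdjoinRoot.mk (Y ^ e) g) = AdjoinRoot.mk (Y ^ k) g := by
      intro g
      show AdjoinRoot.algHomOfDvd (R := F) (Y ^ e) (Y ^ k) (pow_dvd_pow _ hk) (AdjoinRoot.mk (Y ^ e) g) = _
      rw [← AdjoinRoot.aeval_eq, ← AdjoinRoot.aeval_eq, ← Polynomial.aeval_algHom_apply]
      simp
    have hker : LinearMap.ker π = LinearMap.range (LinearMap.mulLeft F (AdjoinRoot.mk (Y ^ e) (Y ^ k))) := by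
      ext z
      obtain ⟨g, rfl⟩ := AdjoinRoot.mk_surjective z
      rw [LinearMap.mem_ker, hπ, AdjoinRoot.mk_eq_zero, LinearMap.mem_range]
      constructor
      · rintro ⟨c, rfl⟩
        exact ⟨AdjoinRoot.mk _ c, (map_mul _ _ _).symm⟩
      · rintro ⟨w, hw⟩
        obtain ⟨c, rfl⟩ := AdjoinRoot.mk_surjective w
        rw [LinearMap.mulLeft_apply, ← map_mul, AdjoinRoot.mk_eq_mk] at hw
        obtain ⟨d, hd⟩ := hw
        refine ⟨c - Y ^ (e - k) * d, ?_⟩
        have he : Y ^ e = Y ^ k * Y ^ (e - k) := by rw [← pow_add, Nat.add_sub_cancel' hk]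
        rw [he] at hd
        linear_combination -hd
    have hsurj : LinearMap.range π = ⊤ := LinearMap.range_eq_top.mpr fun z => by
      obtain ⟨g, rfl⟩ := AdjoinRoot.mk_surjective z
      exact ⟨AdjoinRoot.mk _ g, hπ g⟩
    have h := LinearMap.finrank_range_add_finrank_ker π
    rw [hsurj, finrank_top, hker, (AdjoinRoot.powerBasis' (hY.pow k)).finrank,
      (AdjoinRoot.powerBasis' (hY.pow e)).finrank] at h
    simp only [AdjoinRoot.powerBasis'_dim, hY.natDegree_pow, hY1, mul_one] at h
    omega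

theorem HasForm.card_range {A : Matrix (Fin n) (Fin n) F} {ι : Type u} [Fintype ι] {Y : F[X]} (hY : Y.Monic)
    (hY1 : Y.natDegree = 1) {e : ι → ℕ} (h : HasForm A fun i => Y ^ e i) (k : ℕ) :
    Nat.card (Set.range ((Polynomial.aeval A (Y ^ k)).mulVec)) = Fintype.card F ^ (∑ i, (e i - k)) := by
  classical
  obtain ⟨Ψ, hΨ⟩ := h
  haveI : ∀ i, Module.Finite F (AdjoinRoot (Y ^ e i)) := fun i => (hY.pow _).finite_adjoinRoot
  haveI : ∀ i, Finite (AdjoinRoot (Y ^ e i)) := fun i => Module.finite_of_finite F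
  let μ := fun i => LinearMap.mulLeft F (AdjoinRoot.mk (Y ^ e i) (Y ^ k))
  have hr : ∀ w, w ∈ Set.range ((Polynomial.aeval A (Y ^ k)).mulVec) ↔ ∀ i, Ψ w i ∈ LinearMap.range (μ i) := by
    intro w
    constructor
    · rintro ⟨v, rfl⟩ i
      exact ⟨Ψ v i, (HasForm.aeval hΨ (Y ^ k) v i).symm⟩
    · intro hw
      choose z hz using hw
      refine ⟨Ψ.symm z, Ψ.injective (funext fun i => ?_)⟩
      rw [HasForm.aeval hΨ, LinearEquiv.apply_symm_apply]
      exact hz i
  let eq : Set.range ((Polynomial.aeval A (Y ^ k)).mulVec) ≃ ∀ i, LinearMap.range (μ i) :=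
    { toFun := fun w i => ⟨Ψ w.1 i, (hr w.1).mp w.2 i⟩
      invFun := fun z => ⟨Ψ.symm fun i => (z i).1, (hr _).mpr fun i => by
        rw [LinearEquiv.apply_symm_apply]; exact (z i).2⟩
      left_inv := fun w => Subtype.ext (Ψ.symm_apply_apply w.1)
      right_inv := fun z => funext fun i => Subtype.ext (congrFun (Ψ.apply_symm_apply _) i) }
  rw [Nat.card_congr eq, Nat.card_pi, ← Finset.prod_pow_eq_pow_sum]
  refine Finset.prod_congr rfl fun i _ => ?_
  rw [Module.natCard_eq_pow_finrank (K := F), finrank_range_mulLeft Y hY hY1, Nat.card_eq_fintype_card]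

theorem count_eq_sub {ι : Type*} [Fintype ι] (e : ι → ℕ) (k : ℕ) :
    (∑ i, (e i - k)) = (∑ i, (e i - (k + 1))) + (Finset.univ.filter fun i => k < e i).card := by
  rw [Finset.card_filter, ← Finset.sum_add_distrib]
  exact Finset.sum_congr rfl fun i _ => by split_ifs <;> omega

theorem map_eq_of_hasForm {A : Matrix (Fin n) (Fin n) F} {ι κ : Type u} [Fintype ι] [Fintype κ] {Y : F[X]}
    (hY : Y.Monic) (hY1 : Y.natDegree = 1) {e : ι → ℕ} {d : κ → ℕ} (he : ∀ i, 1 ≤ e i) (hd : ∀ i, 1 ≤ d i)
    (h : HasForm A fun i => Y ^ e i) (h' : HasForm A fun i => Y ^ d i) :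
    (Finset.univ : Finset ι).val.map e = (Finset.univ : Finset κ).val.map d := by
  classical
  have hS : ∀ k, (∑ i, (e i - k)) = ∑ i, (d i - k) := fun k =>
    Nat.pow_right_injective Fintype.one_lt_card ((h.card_range hY hY1 k).symm.trans (h'.card_range hY hY1 k))
  have hgt : ∀ k, (Finset.univ.filter fun i => k < e i).card = (Finset.univ.filter fun i => k < d i).card := by
    intro k
    have h1 := count_eq_sub e k
    have h2 := count_eq_sub d k
    have h3 := hS k
    have h4 := hS (k + 1)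
    omega
  refine Multiset.ext.mpr fun a => ?_
  rw [Multiset.count_map, Multiset.count_map]
  rcases a with _ | a
  · rw [Multiset.filter_eq_nil.mpr (fun i _ hi => by have := he i; omega),
      Multiset.filter_eq_nil.mpr (fun i _ hi => by have := hd i; omega)]
    rfl
  · have split : ∀ {τ : Type u} [Fintype τ] (g : τ → ℕ), (Finset.univ.filter fun i => a < g i).card =
        ((Finset.univ : Finset τ).val.filter fun i => a + 1 = g i).card +
          (Finset.univ.filter fun i => a + 1 < g i).card := by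
      intro τ _ g
      rw [← Finset.filter_val, ← Finset.card_def, Finset.card_filter, Finset.card_filter, Finset.card_filter,
        ← Finset.sum_add_distrib]
      exact Finset.sum_congr rfl fun i _ => by split_ifs <;> omega
    have h1 := hgt a
    have h2 := hgt (a + 1)
    have h3 := split e
    have h4 := split d
    omega

theorem exists_unipotent_form {A : Matrix (Fin n) (Fin n) F} {Y : F[X]} (hY : Y.Monic) (hY1 : Y.natDegree = 1)
    (N : ℕ) (hA : Polynomial.aeval A (Y ^ N) = 0) :
    ∃ (ι : Type u) (_ : Fintype ι) (e : ι → ℕ), (∀ i, 1 ≤ e i) ∧ (∀ i, e i ≤ N) ∧ ∑ i, e i = n ∧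
      HasForm A fun i => Y ^ e i := by
  obtain ⟨ι, hι, q, e, hq, hi, he, h⟩ := exists_form A
  have hd := (h.aeval_eq_zero_iff (Y ^ N)).mp hA
  have hYi : Irreducible Y := Polynomial.irreducible_of_degree_eq_one
    (by rw [Polynomial.degree_eq_natDegree hY.ne_zero, hY1]; rfl)
  have hqY : ∀ i, q i = Y := by
    intro i
    have h1 : q i ∣ Y ^ N := (dvd_pow_self (q i) (by have := he i; omega)).trans (hd i)
    exact Polynomial.eq_of_monic_of_associated (hq i) hY ((hi i).associated_of_dvd hYi ((hi i).prime.dvd_of_dvd_pow h1))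
  have hfun : (fun i => q i ^ e i) = fun i => Y ^ e i := funext fun i => by rw [hqY i]
  rw [hfun] at h
  refine ⟨ι, hι, e, he, fun i => ?_, ?_, h⟩
  · have h1 := hd i
    rw [hqY i] at h1
    exact (pow_dvd_pow_iff hY.ne_zero hYi.not_isUnit).mp h1
  · have h1 := h.sum_natDegree fun i => hY.pow _
    simpa [hY.natDegree_pow, hY1] using h1

end Cfsg.Lib.CanonicalForm
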