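import Mathlib

/-!
# The characters occurring in a representation of a finite abelian group

Over a field in which the order of the group is invertible and enough characters exist, the characters
occurring are at most as many as the degree, and the set is stable under intertwined automorphisms.
-/

set_option autoImplicit false

namespace Cfsg.Lib.Linear.CharSupport

open Matrix

variable {V : Type*} [AddCommGroup V] [Fintype V] {K : Type*} [Field K] {d : ℕ}

/-- The projection on the eigenspace of a character, up to a scalar. -/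
def proj (χ : V → V → K) (R : V → Matrix (Fin d) (Fin d) K) (w : V) : Matrix (Fin d) (Fin d) K :=
  ∑ a, χ w (-a) • R a

variable {χ : V → V → K} {R : V → Matrix (Fin d) (Fin d) K}

theorem mul_proj (hχ : ∀ w a b, χ w (a + b) = χ w a * χ w b) (hχ0 : ∀ w, χ w 0 = 1)
    (hR : ∀ a b, R (a + b) = R a * R b) (b w : V) : R b * proj χ R w = χ w b • proj χ R w := by
  simp only [proj, Finset.mul_sum, Matrix.mul_smul, ← hR, Finset.smul_sum, smul_smul]
  refine Fintype.sum_equiv (Equiv.addLeft b) _ _ fun a => ?_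
  rw [Equiv.coe_addLeft, neg_add, hχ, ← mul_assoc, ← hχ, add_neg_cancel, hχ0, one_mul]

theorem sum_proj (hχ0 : ∀ w, χ w 0 = 1) (hsymm : ∀ w a, χ w a = χ a w)
    (horth : ∀ w, w ≠ 0 → ∑ a, χ w a = 0) (hR0 : R 0 = 1) :
    ∑ w, proj χ R w = (Fintype.card V : K) • 1 := by
  simp only [proj]
  rw [Finset.sum_comm, Finset.sum_eq_single (0 : V)]
  · simp only [neg_zero, hχ0, hR0, one_smul, Finset.sum_const, Finset.card_univ, Nat.cast_smul_eq_nsmul]
  · intro a _ ha
    rw [← Finset.sum_smul, show ∑ w, χ w (-a) = ∑ w, χ (-a) w from Finset.sum_congr rfl fun w _ => hsymm w _,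
      horth (-a) (neg_ne_zero.2 ha), zero_smul]
  · simp

/-- A non-trivial representation involves a non-trivial character. -/
theorem exists_proj_ne (hχ : ∀ w a b, χ w (a + b) = χ w a * χ w b) (hχ0 : ∀ w, χ w 0 = 1)
    (hsymm : ∀ w a, χ w a = χ a w) (horth : ∀ w, w ≠ 0 → ∑ a, χ w a = 0)
    (hR : ∀ a b, R (a + b) = R a * R b) (hR0 : R 0 = 1) (hcard : (Fintype.card V : K) ≠ 0)
    {b : V} (hb : R b ≠ 1) : ∃ w, w ≠ 0 ∧ proj χ R w ≠ 0 := by
  by_contra hno
  push Not at hno
  have h1 : ∑ w, proj χ R w = proj χ R 0 := Fintype.sum_eq_single 0 fun w hw => hno w hw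
  have h2 := mul_proj hχ hχ0 hR b 0
  rw [← h1, sum_proj hχ0 hsymm horth hR0, show χ 0 b = 1 by rw [hsymm, hχ0], one_smul, Matrix.mul_smul,
    Matrix.mul_one] at h2
  exact hb (smul_right_injective _ hcard h2)

/-- At most `d` characters occur. -/
theorem card_le (hχ : ∀ w a b, χ w (a + b) = χ w a * χ w b) (hχ0 : ∀ w, χ w 0 = 1)
    (hsymm : ∀ w a, χ w a = χ a w) (horth : ∀ w, w ≠ 0 → ∑ a, χ w a = 0)
    (hR : ∀ a b, R (a + b) = R a * R b) (hcard : (Fintype.card V : K) ≠ 0)
    (S : Finset V) (hS : ∀ w ∈ S, proj χ R w ≠ 0) : S.card ≤ d := by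
  classical
  have hvec : ∀ w : ↥S, ∃ x, proj χ R w.1 *ᵥ x ≠ 0 := fun w => by
    by_contra hno
    push Not at hno
    exact hS w.1 w.2 (ext_of_mulVec_single fun i => by rw [hno, zero_mulVec])
  choose x hx using hvec
  have hdiff : ∀ w u : V, w ≠ u → ∑ a, χ u (-a) * χ w a = 0 := fun w u hne => by
    rw [← horth (w - u) (sub_ne_zero.2 hne)]
    refine Finset.sum_congr rfl fun a _ => ?_
    rw [hsymm u, hsymm w, hsymm (w - u), sub_eq_add_neg, hχ, mul_comm, hsymm a (-u)]
    congr 1
    -- both sides are the inverse of the same value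
    have e1 : χ (-a) u * χ a u = 1 := by
      rw [hsymm (-a), hsymm a, ← hχ, neg_add_cancel, hχ0]
    have e2 : χ (-u) a * χ u a = 1 := by
      rw [hsymm (-u), hsymm u, ← hχ, neg_add_cancel, hχ0]
    rw [hsymm a u] at e1
    exact mul_right_cancel₀ (right_ne_zero_of_mul_eq_one e1) (e1.trans e2.symm)
  have hind : LinearIndependent K fun w : ↥S => proj χ R w.1 *ᵥ x w := by
    rw [Fintype.linearIndependent_iff]
    intro c hc u
    have hEE : ∀ w, proj χ R u.1 * proj χ R w =
        if w = u.1 then (Fintype.card V : K) • proj χ R w else 0 := by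
      intro w
      have h9 : proj χ R u.1 * proj χ R w = (∑ a, χ u.1 (-a) * χ w a) • proj χ R w := by
        show (∑ a, χ u.1 (-a) • R a) * proj χ R w = _
        rw [Finset.sum_mul, Finset.sum_smul]
        exact Finset.sum_congr rfl fun a _ => by rw [Matrix.smul_mul, mul_proj hχ hχ0 hR, smul_smul]
      rw [h9]
      split_ifs with hw
      · subst hw
        rw [Finset.sum_congr rfl fun a _ => (hχ u.1 (-a) a).symm]
        simp [hχ0]
      · rw [hdiff w u.1 hw, zero_smul]
    have h10 := congrArg (fun y => proj χ R u.1 *ᵥ y) hc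
    simp only [mulVec_sum, mulVec_smul, mulVec_mulVec, mulVec_zero, hEE] at h10
    rw [Finset.sum_eq_single u (fun w _ hw => by
      rw [if_neg (fun h => hw (Subtype.ext h)), zero_mulVec, smul_zero]) (by simp), if_pos rfl, smul_mulVec,
      smul_smul, smul_eq_zero, mul_eq_zero] at h10
    exact (h10.resolve_right (hx u)).resolve_right hcard
  have := hind.fintype_card_le_finrank
  rwa [Module.finrank_fintype_fun_eq_card, Fintype.card_fin, Fintype.card_coe] at this

/-- Intertwined automorphisms move the characters that occur. -/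
theorem proj_transfer (act : V ≃ V) (hneg : ∀ a, act (-a) = -act a) (P P' : Matrix (Fin d) (Fin d) K)
    (hP : P' * P = 1) (hR : ∀ a, R (act a) = P * R a * P') {w w' : V}
    (hw : ∀ a, χ w a = χ w' (act a)) (hne : proj χ R w ≠ 0) : proj χ R w' ≠ 0 := by
  have e : P * proj χ R w * P' = proj χ R w' := by
    simp only [proj, Finset.mul_sum, Finset.sum_mul, Matrix.mul_smul, Matrix.smul_mul]
    refine Fintype.sum_equiv act _ _ fun a => ?_
    rw [hR, hw, hneg]
  intro h0
  refine hne ?_
  have hP' : P * P' = 1 := mul_eq_one_comm.mp hP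
  calc proj χ R w = P' * (P * proj χ R w * P') * P := by
        rw [← mul_assoc, ← mul_assoc, hP, one_mul, mul_assoc, hP, mul_one]
    _ = 0 := by rw [e, h0, mul_zero, zero_mul]

end Cfsg.Lib.Linear.CharSupport
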