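import Mathlib

/-! Unitriangular matrices with respect to a rank function. -/

set_option autoImplicit false

namespace Cfsg.Lib.Linear.UTri

open scoped commutatorElement

variable {ι : Type*} [Fintype ι] [DecidableEq ι] {R : Type*} [CommRing R] (b : ι → ℕ)

/-- Matrices raising the rank by at least `k`. -/
def Raise (k : ℕ) (M : Matrix ι ι R) : Prop := ∀ i j, M i j ≠ 0 → b j + k ≤ b i

theorem raise_one : Raise b 0 (1 : Matrix ι ι R) := fun i j h => by
  by_cases hij : i = j
  · simp [hij]
  · exact absurd (Matrix.one_apply_ne hij) h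

theorem raise_zero (k : ℕ) : Raise b k (0 : Matrix ι ι R) := fun i j h => absurd rfl h

theorem Raise.mul {k l : ℕ} {A B : Matrix ι ι R} (hA : Raise b k A) (hB : Raise b l B) : Raise b (k + l) (A * B) := by
  intro i j h
  rw [Matrix.mul_apply] at h
  obtain ⟨m, -, hm⟩ := Finset.exists_ne_zero_of_sum_ne_zero h
  have := hA i m (left_ne_zero_of_mul hm)
  have := hB m j (right_ne_zero_of_mul hm)
  omega

theorem Raise.add {k : ℕ} {A B : Matrix ι ι R} (hA : Raise b k A) (hB : Raise b k B) : Raise b k (A + B) := by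
  intro i j h
  by_cases ha : A i j = 0
  · exact hB i j fun hb => h (by simp [ha, hb])
  · exact hA i j ha

theorem Raise.neg {k : ℕ} {A : Matrix ι ι R} (hA : Raise b k A) : Raise b k (-A) :=
  fun i j h => hA i j (by simpa using h)

theorem Raise.mono {k l : ℕ} {A : Matrix ι ι R} (hA : Raise b k A) (hl : l ≤ k) : Raise b l A :=
  fun i j h => by have := hA i j h; omega

theorem Raise.pow {A : Matrix ι ι R} (hA : Raise b 1 A) (m : ℕ) : Raise b m (A ^ m) := by
  induction m with
  | zero => rw [pow_zero]; exact raise_one b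
  | succ m ih => rw [pow_succ]; exact ih.mul b hA

theorem Raise.eq_zero {k : ℕ} {A : Matrix ι ι R} (hA : Raise b k A) (hk : ∀ i, b i < k) : A = 0 := by
  ext i j
  by_contra h
  have := hA i j h
  have := hk i
  omega

/-- The bound on the ranks. -/
def bound : ℕ := Finset.univ.sup b + 1

theorem lt_bound (i : ι) : b i < bound b := Nat.lt_succ_of_le (Finset.le_sup (Finset.mem_univ i))

theorem raise_inv {g : GL ι R} (hg : Raise b 1 (g.val - 1)) : Raise b 0 (g⁻¹).val := by
  set N := g.val - 1 with hN
  have hnil : (-N) ^ bound b = 0 := (hg.neg b).pow b (bound b) |>.eq_zero b (lt_bound b)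
  have hgeom : g.val * (∑ m ∈ Finset.range (bound b), (-N) ^ m) = 1 := by
    rw [show g.val = 1 - -N by rw [hN]; abel, mul_neg_geom_sum, hnil, sub_zero]
  rw [Units.inv_eq_of_mul_eq_one_right hgeom]
  refine Finset.sum_induction _ (Raise b 0) (fun A B => Raise.add b) (raise_zero b 0) fun m _ => ?_
  exact ((hg.neg b).pow b m).mono b (Nat.zero_le m)

/-- The congruence subgroups of the unitriangular group. -/
def level (k : ℕ) : Subgroup (GL ι R) where
  carrier := {g | Raise b (k + 1) (g.val - 1)}
  one_mem' := by simpa using raise_zero b (k + 1)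
  mul_mem' := fun {g h} hg hh => by
    show Raise b (k + 1) ((g * h).val - 1)
    rw [Units.val_mul, show g.val * h.val - 1 = (g.val - 1) * (h.val - 1) + ((g.val - 1) + (h.val - 1)) by noncomm_ring]
    exact ((Raise.mul b hg hh).mono b (by omega)).add b (Raise.add b hg hh)
  inv_mem' := fun {g} hg => by
    have hg' : Raise b 1 (g.val - 1) := Raise.mono b hg (by omega)
    have h := (Raise.mul b (raise_inv b hg') hg).neg b
    rw [Nat.zero_add] at h
    show Raise b (k + 1) ((g⁻¹).val - 1)
    rw [show (g⁻¹).val - 1 = -((g⁻¹).val * (g.val - 1)) by rw [mul_sub, Units.inv_mul]; simp]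
    exact h

theorem mem_level {k : ℕ} {g : GL ι R} : g ∈ level b k ↔ Raise b (k + 1) (g.val - 1) := Iff.rfl

theorem level_bot {k : ℕ} (hk : bound b ≤ k + 1) : level (R := R) b k = ⊥ := by
  rw [eq_bot_iff]
  intro g hg
  exact Subgroup.mem_bot.2 (Units.ext (sub_eq_zero.1 (Raise.eq_zero b hg fun i => (lt_bound b i).trans_le hk)))

theorem commutator_mem {k : ℕ} {x y : GL ι R} (hx : x ∈ level b 0) (hy : y ∈ level b k) :
    ⁅x, y⁆ ∈ level b (k + 1) := by
  rw [mem_level, commutatorElement_def, Units.val_mul, Units.val_mul, Units.val_mul]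
  rw [show x.val * y.val * (x⁻¹).val * (y⁻¹).val - 1 =
      ((x.val - 1) * (y.val - 1) - (y.val - 1) * (x.val - 1)) * ((x⁻¹).val * (y⁻¹).val) by
    rw [show (x.val - 1) * (y.val - 1) - (y.val - 1) * (x.val - 1) = x.val * y.val - y.val * x.val by noncomm_ring,
      sub_mul]
    congr 1
    · simp [mul_assoc]
    · rw [mul_assoc, ← mul_assoc x.val, Units.mul_inv, one_mul, Units.mul_inv]]
  have h1 : Raise b (k + 1 + 1) ((x.val - 1) * (y.val - 1)) := (Raise.mul b hx hy).mono b (by omega)
  have h2 : Raise b (k + 1 + 1) ((y.val - 1) * (x.val - 1)) := (Raise.mul b hy hx).mono b (by omega)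
  have h3 : Raise b 0 ((x⁻¹).val * (y⁻¹).val) :=
    Raise.mul b (raise_inv b hx) (raise_inv b (Raise.mono b hy (by omega)))
  rw [sub_eq_add_neg ((x.val - 1) * (y.val - 1))]
  have h4 := Raise.mul b (h1.add b (h2.neg b)) h3
  exact h4

/-- A group of unitriangular matrices is nilpotent. -/
theorem isNilpotent (U : Subgroup (GL ι R)) (hU : U ≤ level b 0) : Group.IsNilpotent U := by
  haveI : ∀ k, ((level b k).subgroupOf U).Normal := fun k => ⟨fun n hn g => by
    rw [Subgroup.mem_subgroupOf] at hn ⊢
    have h := Raise.mul b (Raise.mul b (raise_inv b (hU (inv_mem g.2))) hn) (raise_inv b (hU g.2))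
    rw [inv_inv] at h
    show Raise b (k + 1) _
    rw [show (((g * n * g⁻¹ : U) : GL ι R)).val - 1 =
        (g : GL ι R).val * ((n : GL ι R).val - 1) * (((g : GL ι R))⁻¹).val by
      rw [mul_sub, sub_mul, mul_one, Units.mul_inv]; rfl]
    simpa using h⟩
  refine (Subgroup.nilpotent_iff_finite_descending_central_series U).2
    ⟨bound b, fun k => (level b k).subgroupOf U, ⟨?_, fun x k hx g => ?_⟩, ?_⟩
  · rw [Subgroup.subgroupOf_eq_top]; exact hU
  · rw [Subgroup.mem_subgroupOf] at hx ⊢
    have h := inv_mem (commutator_mem b (hU g.2) hx)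
    rw [commutatorElement_inv] at h
    exact h
  · show (level b (bound b)).subgroupOf U = ⊥
    rw [level_bot b (k := bound b) (by omega), Subgroup.bot_subgroupOf]

theorem pow_sub_one_eq_zero {g : GL ι R} (hg : g ∈ level b 0) {n : ℕ} (hn : ∀ i, b i < n) :
    (g.val - 1) ^ n = 0 :=
  ((Raise.pow b hg n)).eq_zero b hn

end Cfsg.Lib.Linear.UTri
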