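import Mathlib
import Cfsg.Agent.Lib.Linear.ChevBasic
import Cfsg.Agent.Lib.Linear.Unitriangular

/-! The unipotent subgroups of a Chevalley group are unitriangular. -/

set_option autoImplicit false

namespace Cfsg.Lib.Linear.Chev

open Cfsg.Lie

/-- Compressed levels: negative roots, the toral part, positive roots. -/
def rk (D : ChevalleyDatum) : D.Idx → ℕ
  | Sum.inl _ => D.nroots / 2
  | Sum.inr u => if 2 * u.val < D.nroots then u.val else u.val + 1

theorem rk_le (D : ChevalleyDatum) (i : D.Idx) : rk D i ≤ D.nroots := by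
  rcases i with k | u <;> simp only [rk] <;> [skip; split_ifs] <;> omega

theorem rk_lt {D : ChevalleyDatum} {i j : D.Idx} (h : level D j < level D i) : rk D j < rk D i := by
  rcases i with k | u <;> rcases j with k' | u' <;> simp only [level, rk] at h ⊢ <;> (try split_ifs) <;> omega

variable {F : Type*} [Field F]

theorem posUnipotent_le_level {D : ChevalleyDatum} (h1 : goodIdx D = true) (h3 : goodOrder D = true) :
    D.posUnipotent F ≤ UTri.level (rk D) 0 := by
  refine (Subgroup.closure_le _).2 ?_
  rintro g ⟨r, t, hr, hg⟩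
  have hspec := List.all_eq_true.1 h3 r (List.mem_range.2 hr.1)
  simp only [Bool.and_eq_true, beq_iff_eq, decide_eq_decide] at hspec
  have hc : D.nroots ≤ 2 * r := hspec.2.1 hr
  intro i j hne
  rw [Matrix.sub_apply, sub_ne_zero, hg] at hne
  have := rk_lt ((x_entry h1 h3 hr.1 t i j hne).1 hc)
  omega

theorem negUnipotent_le_level {D : ChevalleyDatum} (h1 : goodIdx D = true) (h3 : goodOrder D = true) :
    D.negUnipotent F ≤ UTri.level (fun i => D.nroots - rk D i) 0 := by
  refine (Subgroup.closure_le _).2 ?_
  rintro g ⟨r, t, hr, hg⟩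
  have hspec := List.all_eq_true.1 h3 r (List.mem_range.2 hr.1)
  simp only [Bool.and_eq_true, beq_iff_eq, decide_eq_decide] at hspec
  intro i j hne
  rw [Matrix.sub_apply, sub_ne_zero, hg] at hne
  have hc : ¬ D.nroots ≤ 2 * r := by
    intro hc
    have hp : D.IsPosRoot r := hspec.2.2 hc
    obtain ⟨hn, hnr, hnn, -, hneg⟩ := idx_spec h1 hr.1
    have hp' := hneg hr
    have hspec' := List.all_eq_true.1 h3 (D.neg r) (List.mem_range.2 hn)
    simp only [Bool.and_eq_true, beq_iff_eq, decide_eq_decide] at hspec'
    have hc' := hspec'.2.1 hp'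
    have hside := hspec.1.2
    simp [hc] at hside
    omega
  have := rk_lt ((x_entry h1 h3 hr.1 t i j hne).2 hc)
  have := rk_le D i
  have := rk_le D j
  show D.nroots - rk D j + (0 + 1) ≤ D.nroots - rk D i
  omega

theorem rank_pos {D : ChevalleyDatum}
    (hD : D ∈ [chevG2, chevB2, chevD4, chevF4, chevE6, chevE7, chevE8]) : 0 < D.rank := by
  simp only [List.mem_cons, List.mem_singleton, List.not_mem_nil, or_false] at hD
  rcases hD with rfl | rfl | rfl | rfl | rfl | rfl | rfl <;> decide

end Cfsg.Lib.Linear.Chev
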