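import Cfsg.Agent.Lib.Linear.SemisimpleClasses

/-!
# The number of conjugacy classes of `GL_n(q)` is at most `q ^ n`

A class is determined by the tuple whose `j`th entry is the product of the irreducible polynomials with a block of
size `j + 1`; the entries are monic, do not vanish at `0`, and `∑ (j + 1) * natDegree = n`.
-/

set_option autoImplicit false

universe u

namespace Cfsg.Lib.Linear.ClassNumberGL

open Polynomial Cfsg.Lib Cfsg.Agent.Lib.Linear

variable {F : Type u} [Field F]

/-- Monic polynomials of degree `m` with nonzero constant term. -/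
abbrev Pol (F : Type u) [Field F] (m : ℕ) : Type u :=
  {g : F[X] // g.Monic ∧ g.natDegree = m ∧ g.coeff 0 ≠ 0}

/-- Tuples of such polynomials of weighted degree `n`. -/
abbrev Tup (F : Type u) [Field F] (J n : ℕ) : Type u :=
  {g : Fin J → F[X] // (∀ j, (g j).Monic ∧ (g j).coeff 0 ≠ 0) ∧ ∑ j, (j.val + 1) * (g j).natDegree = n}

/-- The number of monic polynomials of degree `m` with nonzero constant term. -/
def a (q : ℕ) : ℕ → ℕ
  | 0 => 1
  | m + 1 => (q - 1) * q ^ m

/-- The bound on the number of tuples. -/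
def N (q : ℕ) : ℕ → ℕ → ℕ
  | 0, n => if n = 0 then 1 else 0
  | J + 1, n => ∑ m ∈ Finset.range (n + 1), if (J + 1) * m ≤ n then a q m * N q J (n - (J + 1) * m) else 0

/-- The tuples whose last entry is not constant. -/
def E (q J n : ℕ) : ℕ :=
  ∑ m ∈ Finset.range n, if (J + 1) * (m + 1) ≤ n then a q (m + 1) * N q J (n - (J + 1) * (m + 1)) else 0

theorem N_zero (q : ℕ) : ∀ J, N q J 0 = 1
  | 0 => rfl
  | J + 1 => by simp [N, a, N_zero q J]

theorem N_succ (q J n : ℕ) : N q (J + 1) n = N q J n + E q J n := by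
  rw [N, Finset.sum_range_succ', E, add_comm]
  simp [a]

theorem E_eq_zero (q J n : ℕ) (h : n < J + 1) : E q J n = 0 :=
  Finset.sum_eq_zero fun m _ => if_neg (by
    have : J + 1 ≤ (J + 1) * (m + 1) := Nat.le_mul_of_pos_right _ (by omega)
    omega)

theorem E_add (q J r : ℕ) : E q J (J + 1 + r) = (q - 1) * N q J r + q * E q J r := by
  rw [E, show J + 1 + r = (J + r) + 1 from by omega, Finset.sum_range_succ', add_comm]
  congr 1
  · simp only [zero_add, mul_one, a, pow_zero]
    rw [if_pos (by omega), show J + r + 1 - (J + 1) = r by omega]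
  · rw [E, Finset.mul_sum]
    refine (Finset.sum_subset (by simp) ?_).symm.trans (Finset.sum_congr rfl fun m hm => ?_)
    · intro m hm hm'
      rw [Finset.mem_range] at hm'
      refine if_neg ?_
      have : m + 1 ≤ (J + 1) * (m + 1) := Nat.le_mul_of_pos_left _ (by omega)
      rw [Nat.mul_add (J + 1) (m + 1) 1]
      omega
    · rw [Nat.mul_add (J + 1) (m + 1) 1, mul_one]
      by_cases h : (J + 1) * (m + 1) ≤ r
      · rw [if_pos h, if_pos (by omega), ← mul_assoc,
          show J + r + 1 - ((J + 1) * (m + 1) + (J + 1)) = r - (J + 1) * (m + 1) by omega]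
        congr 1
        simp only [a, pow_succ]
        ring
      · rw [if_neg h, if_neg (by omega), mul_zero]

theorem N_one (q n : ℕ) : N q 1 n = a q n := by
  rw [N, Finset.sum_eq_single_of_mem n (Finset.self_mem_range_succ n)]
  · simp [N]
  · intro m hm hne
    rw [Finset.mem_range] at hm
    simp only [zero_add, one_mul, if_pos (Nat.lt_succ_iff.1 hm), N]
    rw [if_neg (by omega), mul_zero]

theorem N_add_le (q : ℕ) (hq : 1 ≤ q) : ∀ J n, 1 ≤ n → N q (J + 1) n + q ^ (n - (J + 1)) ≤ q ^ n := by
  obtain ⟨c, rfl⟩ : ∃ c, q = c + 1 := ⟨q - 1, by omega⟩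
  intro J
  induction J with
  | zero =>
    intro n hn
    obtain ⟨m, rfl⟩ : ∃ m, n = m + 1 := ⟨n - 1, by omega⟩
    rw [N_one, a, Nat.add_sub_cancel, Nat.add_sub_cancel, pow_succ]
    apply le_of_eq
    ring
  | succ J ih =>
    have hE : ∀ r, E (c + 1) (J + 1) (J + 1 + 1 + r) ≤ c * (c + 1) ^ r := by
      intro r
      induction r using Nat.strong_induction_on with
      | _ r IH =>
        rw [E_add, Nat.add_sub_cancel]
        rcases Nat.eq_zero_or_pos r with rfl | hr
        · rw [N_zero, E_eq_zero _ _ _ (by omega)]; simp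
        have h1 := ih r hr
        rcases Nat.lt_or_ge r (J + 1 + 1) with h | h
        · rw [E_eq_zero _ _ _ h, mul_zero, add_zero]
          exact Nat.mul_le_mul_left c (by omega)
        · obtain ⟨s, rfl⟩ : ∃ s, r = J + 1 + 1 + s := ⟨r - (J + 1 + 1), by omega⟩
          rw [show J + 1 + 1 + s - (J + 1) = s + 1 by omega] at h1
          have h2 := IH s (by omega)
          calc c * N (c + 1) (J + 1) (J + 1 + 1 + s) + (c + 1) * E (c + 1) (J + 1) (J + 1 + 1 + s)
              ≤ c * N (c + 1) (J + 1) (J + 1 + 1 + s) + (c + 1) * (c * (c + 1) ^ s) :=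
                Nat.add_le_add_left (Nat.mul_le_mul_left _ h2) _
            _ = c * (N (c + 1) (J + 1) (J + 1 + 1 + s) + (c + 1) ^ (s + 1)) := by rw [pow_succ]; ring
            _ ≤ _ := Nat.mul_le_mul_left c h1
    intro n hn
    have h1 := ih n hn
    rw [N_succ]
    rcases Nat.lt_or_ge n (J + 1 + 1) with h | h
    · rw [E_eq_zero _ _ _ h, add_zero, show n - (J + 1 + 1) = n - (J + 1) by omega]
      exact h1
    · obtain ⟨r, rfl⟩ : ∃ r, n = J + 1 + 1 + r := ⟨n - (J + 1 + 1), by omega⟩
      rw [show J + 1 + 1 + r - (J + 1) = r + 1 by omega, pow_succ] at h1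
      rw [show J + 1 + 1 + r - (J + 1 + 1) = r by omega]
      have := hE r
      rw [mul_add, mul_one, mul_comm _ c] at h1
      omega

theorem N_self_le (q : ℕ) (hq : 1 ≤ q) (n : ℕ) (hn : 1 ≤ n) : N q n n ≤ q ^ n := by
  obtain ⟨m, rfl⟩ : ∃ m, n = m + 1 := ⟨n - 1, by omega⟩
  exact le_trans (Nat.le_add_right _ _) (N_add_le q hq m (m + 1) hn)

variable [Fintype F]

theorem finite_card_pol (m : ℕ) : Finite (Pol F m) ∧ Nat.card (Pol F m) ≤ a (Fintype.card F) m := by
  cases m with
  | zero =>
    have : Subsingleton (Pol F 0) := ⟨fun g h => Subtype.ext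
      ((g.2.1.natDegree_eq_zero.1 g.2.2.1).trans (h.2.1.natDegree_eq_zero.1 h.2.2.1).symm)⟩
    exact ⟨Finite.of_subsingleton, Finite.card_le_one_iff_subsingleton.2 this⟩
  | succ m =>
    have h := SemisimpleClasses.card_monic_coeff_zero (F := F) m {x | x ≠ 0}
    have hS : Nat.card ({x : F | x ≠ 0} : Set F) = Fintype.card F - 1 := by
      rw [← Nat.card_eq_fintype_card (α := F), ← Nat.card_units]
      exact (Nat.card_congr unitsEquivNeZero).symm
    rw [hS] at h
    refine ⟨Nat.finite_of_card_ne_zero ?_, le_of_eq h⟩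
    show Nat.card {g : F[X] // g.Monic ∧ g.natDegree = m + 1 ∧ g.coeff 0 ∈ {x : F | x ≠ 0}} ≠ 0
    rw [h]
    have : 1 < Fintype.card F := Fintype.one_lt_card
    exact Nat.mul_ne_zero (by omega) (pow_ne_zero _ (by omega))

theorem finite_card_tup : ∀ J n, Finite (Tup F J n) ∧ Nat.card (Tup F J n) ≤ N (Fintype.card F) J n := by
  intro J
  induction J with
  | zero =>
    intro n
    have : Subsingleton (Tup F 0 n) := ⟨fun g h => Subtype.ext (funext fun j => Fin.elim0 j)⟩
    refine ⟨Finite.of_subsingleton, ?_⟩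
    by_cases hn : n = 0
    · simp only [N, hn, if_pos]
      exact Finite.card_le_one_iff_subsingleton.2 (hn ▸ this)
    · have : IsEmpty (Tup F 0 n) := ⟨fun g => hn (by simpa using g.2.2.symm)⟩
      rw [Nat.card_of_isEmpty]
      exact Nat.zero_le _
  | succ J ih =>
    intro n
    let I := {m : Fin (n + 1) // (J + 1) * m.val ≤ n}
    have hdeg : ∀ g : Tup F (J + 1) n, (J + 1) * (g.1 (Fin.last J)).natDegree +
        ∑ j : Fin J, (j.val + 1) * (g.1 j.castSucc).natDegree = n := fun g => by
      have := g.2.2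
      rw [Fin.sum_univ_castSucc] at this
      simpa [add_comm] using this
    have hle : ∀ g : Tup F (J + 1) n, (g.1 (Fin.last J)).natDegree < n + 1 := fun g => by
      have := hdeg g
      have : (g.1 (Fin.last J)).natDegree ≤ (J + 1) * (g.1 (Fin.last J)).natDegree := Nat.le_mul_of_pos_left _ J.succ_pos
      omega
    let φ : Tup F (J + 1) n → Σ m : I, Pol F m.1.val × Tup F J (n - (J + 1) * m.1.val) := fun g =>
      ⟨⟨⟨_, hle g⟩, by have := hdeg g; simp only; omega⟩,
        ⟨g.1 (Fin.last J), (g.2.1 _).1, rfl, (g.2.1 _).2⟩,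
        ⟨fun j => g.1 j.castSucc, fun j => g.2.1 _, by have := hdeg g; simp only; omega⟩⟩
    have hφ : Function.Injective φ := by
      intro g g' h
      refine Subtype.ext (funext fun j => ?_)
      have h1 := congrArg (fun x : Σ m : I, Pol F m.1.val × Tup F J (n - (J + 1) * m.1.val) => (x.2.1.1, x.2.2.1)) h
      refine Fin.lastCases ?_ (fun i => ?_) j
      · exact congrArg Prod.fst h1
      · exact congrFun (congrArg Prod.snd h1) i
    haveI : ∀ m : I, Finite (Pol F m.1.val) := fun m => (finite_card_pol _).1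
    haveI : ∀ m : I, Finite (Tup F J (n - (J + 1) * m.1.val)) := fun m => (ih _).1
    refine ⟨Finite.of_injective φ hφ, (Nat.card_le_card_of_injective φ hφ).trans ?_⟩
    classical
    rw [Nat.card_sigma, N, ← Fin.sum_univ_eq_sum_range]
    refine le_trans (Finset.sum_le_sum (g := fun m : I =>
      a (Fintype.card F) m.1.val * N (Fintype.card F) J (n - (J + 1) * m.1.val)) fun m _ => ?_) (le_of_eq ?_)
    · rw [Nat.card_prod]
      exact Nat.mul_le_mul (finite_card_pol _).2 (ih _).2
    · rw [← Finset.sum_filter]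
      exact (Finset.sum_subtype _ (fun x => by simp)
        (fun x : Fin (n + 1) => a (Fintype.card F) x.val * N (Fintype.card F) J (n - (J + 1) * x.val))).symm

theorem count_pair {ι α : Type*} [Fintype ι] [DecidableEq α] (p : ι → α) (e : ι → ℕ) (x : α) (k : ℕ) :
    Multiset.count (x, k) ((Finset.univ : Finset ι).val.map fun i => (p i, e i)) =
      Multiset.count x (((Finset.univ : Finset ι).val.filter fun i => e i = k).map p) := by
  rw [Multiset.count_map, Multiset.count_map, Multiset.filter_filter]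
  congr 1
  refine Multiset.filter_congr fun i _ => ?_
  rw [Prod.mk.injEq, eq_comm (a := k)]

theorem eq_of_prod_eq {s t : Multiset F[X]} (hs : ∀ x ∈ s, x.Monic ∧ Irreducible x)
    (ht : ∀ x ∈ t, x.Monic ∧ Irreducible x) (h : s.prod = t.prod) : s = t := by
  classical
  have key : ∀ u : Multiset F[X], (∀ x ∈ u, x.Monic ∧ Irreducible x) →
      UniqueFactorizationMonoid.normalizedFactors u.prod = u := fun u hu => by
    rw [UniqueFactorizationMonoid.normalizedFactors_prod_eq _ fun x hx => (hu x hx).2]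
    exact (Multiset.map_congr rfl fun x hx => (hu x hx).1.normalize_eq_self).trans (Multiset.map_id _)
  rw [← key s hs, ← key t ht, h]

/-- `t` is a tuple of `g`: its `j`th entry is the product of the polynomials with a block of size `j + 1`. -/
def IsTupleOf {n : ℕ} (g : GL (Fin n) F) (t : Tup F n n) : Prop :=
  ∃ (ι : Type u) (_ : Fintype ι) (p : ι → F[X]) (e : ι → ℕ), (∀ i, (p i).Monic ∧ Irreducible (p i)) ∧
    (∀ i, 1 ≤ e i ∧ e i ≤ n) ∧ CanonicalForm.HasForm g.1 (fun i => p i ^ e i) ∧
    ∀ j, t.1 j = ((Finset.univ.val.filter fun i => e i = j.val + 1).map p).prod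

omit [Fintype F] in
theorem exists_isTupleOf {n : ℕ} (g : GL (Fin n) F) : ∃ t, IsTupleOf g t := by
  classical
  obtain ⟨ι, hι, p, e, hp, hi, he, h⟩ := CanonicalForm.exists_form g.1
  have hsum := h.sum_natDegree fun i => (hp i).pow (e i)
  have hpos : ∀ i, 1 ≤ (p i).natDegree := fun i => (hi i).natDegree_pos
  have hen : ∀ i, e i ≤ n := fun i => by
    have h1 : ((p i) ^ e i).natDegree ≤ n := hsum ▸ Finset.single_le_sum (f := fun i => ((p i) ^ e i).natDegree)
      (fun _ _ => Nat.zero_le _) (Finset.mem_univ i)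
    rw [natDegree_pow] at h1
    exact le_trans (Nat.le_mul_of_pos_right _ (hpos i)) h1
  have h0 : ∀ i, (p i).coeff 0 ≠ 0 := fun i h0 => by
    have hd : (g.1).det = 0 := by
      rw [Matrix.det_eq_sign_charpoly_coeff, h.charpoly (fun i => (hp i).pow (e i)), coeff_zero_prod,
        Finset.prod_eq_zero (Finset.mem_univ i), mul_zero]
      rw [coeff_zero_eq_eval_zero, eval_pow, ← coeff_zero_eq_eval_zero, h0, zero_pow (by have := he i; omega)]
    exact ((Matrix.isUnit_iff_isUnit_det _).mp g.isUnit).ne_zero hd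
  refine ⟨⟨fun j => ∏ i ∈ Finset.univ.filter (fun i => e i = j.val + 1), p i, ?_, ?_⟩,
    ι, hι, p, e, fun i => ⟨hp i, hi i⟩, fun i => ⟨he i, hen i⟩, h, fun j => rfl⟩
  · refine fun j => ⟨monic_prod_of_monic _ _ fun i _ => hp i, ?_⟩
    rw [coeff_zero_prod]
    exact Finset.prod_ne_zero_iff.2 fun i _ => h0 i
  · let F' : ι → Fin n := fun i => ⟨e i - 1, lt_of_lt_of_le (Nat.sub_lt (he i) one_pos) (hen i)⟩
    refine Eq.trans (Finset.sum_congr rfl fun j _ => ?_)
      ((Finset.sum_fiberwise (Finset.univ : Finset ι) F' fun i => ((p i) ^ e i).natDegree).trans hsum)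
    have hfib : (Finset.univ.filter fun i => F' i = j) = Finset.univ.filter (fun i => e i = j.val + 1) :=
      Finset.filter_congr fun i _ => by
        have h1 := he i
        rw [Fin.ext_iff]
        constructor
        · intro (h2 : e i - 1 = j.val); omega
        · intro h2; show e i - 1 = j.val; omega
    rw [hfib, natDegree_prod_of_monic _ _ fun i _ => hp i, Finset.mul_sum]
    refine Finset.sum_congr rfl fun i hi' => ?_
    rw [natDegree_pow, (Finset.mem_filter.1 hi').2]

theorem IsTupleOf.isConj {n : ℕ} {g g' : GL (Fin n) F} {t : Tup F n n} (hg : IsTupleOf g t)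
    (hg' : IsTupleOf g' t) : IsConj g g' := by
  classical
  obtain ⟨ι, hι, p, e, hp, he, hform, ht⟩ := hg
  obtain ⟨ι', hι', p', e', hp', he', hform', ht'⟩ := hg'
  have hpair : ((Finset.univ : Finset ι).val.map fun i => (p i, e i)) =
      ((Finset.univ : Finset ι').val.map fun i => (p' i, e' i)) := by
    refine Multiset.ext.2 fun ⟨x, k⟩ => ?_
    rw [count_pair, count_pair]
    by_cases hk : 1 ≤ k ∧ k ≤ n
    · congr 1
      refine eq_of_prod_eq (fun y hy => ?_) (fun y hy => ?_) ?_
      · obtain ⟨i, -, rfl⟩ := Multiset.mem_map.1 hy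
        exact hp i
      · obtain ⟨i, -, rfl⟩ := Multiset.mem_map.1 hy
        exact hp' i
      · have := ht ⟨k - 1, by omega⟩
        rw [ht' ⟨k - 1, by omega⟩] at this
        simpa [show k - 1 + 1 = k by omega] using this.symm
    · rw [Multiset.filter_eq_nil.2 fun i _ h => hk (by rw [← h]; exact he i),
        Multiset.filter_eq_nil.2 fun i _ h => hk (by rw [← h]; exact he' i)]
      rfl
  have hmap := congrArg (Multiset.map fun x : F[X] × ℕ => x.1 ^ x.2) hpair
  rw [Multiset.map_map, Multiset.map_map] at hmap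
  exact SemisimpleClasses.isConj_units_of_isConj _ _ (CanonicalForm.isConj_of_map_eq hform hform' hmap)

theorem card_classes_le {n : ℕ} (hn : 1 ≤ n) :
    Nat.card (ConjClasses (GL (Fin n) F)) ≤ Fintype.card F ^ n := by
  choose g hg using fun c : ConjClasses (GL (Fin n) F) => ConjClasses.mk_surjective c
  choose t ht using fun c => exists_isTupleOf (g c)
  haveI := (finite_card_tup (F := F) n n).1
  refine (Nat.card_le_card_of_injective t fun c d hcd => ?_).trans
    ((finite_card_tup (F := F) n n).2.trans (N_self_le _ Fintype.card_pos n hn))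
  rw [← hg c, ← hg d]
  exact ConjClasses.mk_eq_mk_iff_isConj.2 ((hcd ▸ ht c).isConj (ht d))

end Cfsg.Lib.Linear.ClassNumberGL
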