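import Cfsg.Agent.Lib.Linear.ClassNumberSL

/-!
# The classes of a central quotient are the orbits of the centre on the classes
-/

set_option autoImplicit false

universe u

namespace Cfsg.Lib.Linear.ClassNumberPSL

variable {G : Type u} [Group G]

/-- Multiplication of a class by a central element. -/
noncomputable def smulClass (z : Subgroup.center G) (C : ConjClasses G) : ConjClasses G :=
  ConjClasses.mk (z.1 * C.out)

theorem isConj_mul_left (z : Subgroup.center G) {a b : G} (h : IsConj a b) : IsConj (z.1 * a) (z.1 * b) := by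
  obtain ⟨c, hc⟩ := isConj_iff.1 h
  refine isConj_iff.2 ⟨c, ?_⟩
  rw [← mul_assoc c, Subgroup.mem_center_iff.1 z.2 c, mul_assoc, mul_assoc, ← mul_assoc c, hc]

theorem smulClass_mk (z : Subgroup.center G) (a : G) : smulClass z (ConjClasses.mk a) = ConjClasses.mk (z.1 * a) :=
  ConjClasses.mk_eq_mk_iff_isConj.2 (isConj_mul_left z (ConjClasses.mk_eq_mk_iff_isConj.1 (Quotient.out_eq _)))

/-- The action of the centre on the classes. -/
@[reducible] noncomputable def classAction : MulAction (Subgroup.center G) (ConjClasses G) where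
  smul := smulClass
  one_smul C := by
    obtain ⟨a, rfl⟩ := ConjClasses.mk_surjective C
    exact (smulClass_mk 1 a).trans (by rw [Subgroup.coe_one, one_mul])
  mul_smul y z C := by
    obtain ⟨a, rfl⟩ := ConjClasses.mk_surjective C
    show smulClass (y * z) _ = smulClass y (smulClass z _)
    rw [smulClass_mk, smulClass_mk, smulClass_mk, Subgroup.coe_mul, mul_assoc]

attribute [local instance] classAction

theorem card_classes_quotient (G : Type u) [Group G] :
    Nat.card (ConjClasses (G ⧸ Subgroup.center G)) =
      Nat.card (MulAction.orbitRel.Quotient (Subgroup.center G) (ConjClasses G)) := by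
  symm
  refine Nat.card_congr (Equiv.ofBijective (Quotient.lift
    (fun C : ConjClasses G => ConjClasses.mk (QuotientGroup.mk C.out : G ⧸ Subgroup.center G)) ?_) ⟨?_, ?_⟩)
  · rintro C D ⟨z, (hz : smulClass z D = C)⟩
    rw [← hz]
    refine ConjClasses.mk_eq_mk_iff_isConj.2 ?_
    have h : IsConj (smulClass z D).out (z.1 * D.out) := ConjClasses.mk_eq_mk_iff_isConj.1 (Quotient.out_eq _)
    have h2 := (QuotientGroup.mk' (Subgroup.center G)).map_isConj h
    simpa [(QuotientGroup.eq_one_iff _).2 z.2] using h2
  · intro x y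
    induction x using Quotient.inductionOn with | _ C => ?_
    induction y using Quotient.inductionOn with | _ D => ?_
    intro h
    refine Quotient.sound ?_
    obtain ⟨c, hc⟩ := isConj_iff.1 (ConjClasses.mk_eq_mk_iff_isConj.1 h)
    obtain ⟨c, rfl⟩ := QuotientGroup.mk_surjective c
    rw [← QuotientGroup.mk_inv, ← QuotientGroup.mk_mul, ← QuotientGroup.mk_mul, QuotientGroup.eq] at hc
    set z : Subgroup.center G := ⟨(c * C.out * c⁻¹)⁻¹ * D.out, hc⟩
    refine MulAction.mem_orbit_iff.2 ⟨z⁻¹, ?_⟩
    show smulClass z⁻¹ D = C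
    have h3 : smulClass z C = D := by
      conv_rhs => rw [← Quotient.out_eq D]
      refine ConjClasses.mk_eq_mk_iff_isConj.2 (isConj_iff.2 ⟨c, ?_⟩)
      rw [← mul_assoc c, Subgroup.mem_center_iff.1 z.2 c, mul_assoc z.1, mul_assoc z.1,
        ← Subgroup.mem_center_iff.1 z.2]
      show c * C.out * c⁻¹ * ((c * C.out * c⁻¹)⁻¹ * D.out) = D.out
      rw [mul_inv_cancel_left]
    rw [← h3]
    exact inv_smul_smul z C
  · intro X
    obtain ⟨x, rfl⟩ := ConjClasses.mk_surjective X
    obtain ⟨a, rfl⟩ := QuotientGroup.mk_surjective x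
    refine ⟨Quotient.mk _ (ConjClasses.mk a), ConjClasses.mk_eq_mk_iff_isConj.2 ?_⟩
    exact (QuotientGroup.mk' (Subgroup.center G)).map_isConj
      (ConjClasses.mk_eq_mk_iff_isConj.1 (Quotient.out_eq (ConjClasses.mk a)))

theorem card_center_mul_classes (G : Type u) [Group G] [Finite G] [Fintype (Subgroup.center G)] :
    Nat.card (Subgroup.center G) * Nat.card (ConjClasses (G ⧸ Subgroup.center G)) =
      ∑ z : Subgroup.center G, Nat.card {C : ConjClasses G // ConjClasses.mk (z.1 * C.out) = C} := by
  classical
  let : Fintype (ConjClasses G) := Fintype.ofFinite _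
  let : Fintype (MulAction.orbitRel.Quotient (Subgroup.center G) (ConjClasses G)) := Fintype.ofFinite _
  rw [card_classes_quotient G, Nat.card_eq_fintype_card, Nat.card_eq_fintype_card, mul_comm,
    ← MulAction.sum_card_fixedBy_eq_card_orbits_mul_card_group (Subgroup.center G) (ConjClasses G)]
  exact Finset.sum_congr rfl fun z _ => (Nat.card_eq_fintype_card (α := MulAction.fixedBy (ConjClasses G) z)).symm

end Cfsg.Lib.Linear.ClassNumberPSL
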