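import Cfsg.Agent.Lib.Linear.ClassScale
import Cfsg.Agent.Lib.Linear.CentralizerDet
import Cfsg.Agent.Lib.Linear.SLBasic

/-!
# Conjugacy classes of `SL_n(q)` over a class of `GL_n(q)`

The classes of `SL_n(q)` in the class of `g` correspond to the cosets of `det C(g)`, whose index divides every block
size and `q - 1`.
-/

set_option autoImplicit false

universe u

namespace Cfsg.Lib.Linear.ClassNumberSL

open Polynomial Matrix Cfsg.Lib Cfsg.Lib.Linear.ClassNumberGL Cfsg.Lib.Linear.ClassWeight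
  Cfsg.Lib.Linear.ClassScale

variable {F : Type u} [Field F] [Fintype F] {n : ℕ}

theorem cst_eq {g : GL (Fin n) F} {t : Tup F n n} (h : IsTupleOf g t) :
    ((cst t : Fˣ) : F) = (-1) ^ n * g.1.det := by
  classical
  obtain ⟨ι, hι, p, e, hp, he, hform, ht⟩ := h
  have h1 : g.1.det = (-1) ^ n * ∏ i, (p i).coeff 0 ^ e i := by
    rw [det_eq_sign_charpoly_coeff, Fintype.card_fin, hform.charpoly (fun i => (hp i).1.pow (e i)), coeff_zero_prod]
    congr 1
    exact Finset.prod_congr rfl fun i _ => by rw [coeff_zero_eq_eval_zero, eval_pow, ← coeff_zero_eq_eval_zero]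
  rw [h1, ← mul_assoc, ← mul_pow, neg_one_mul, neg_neg, one_pow, one_mul, cst, Units.coe_prod]
  simp only [Units.val_pow_eq_pow_val, Units.val_mk0]
  let F' : ι → Fin n := fun i => ⟨e i - 1, lt_of_lt_of_le (Nat.sub_lt (he i).1 one_pos) (he i).2⟩
  rw [← Finset.prod_fiberwise (Finset.univ : Finset ι) F']
  refine Finset.prod_congr rfl fun j _ => ?_
  have hfib : (Finset.univ.filter fun i => F' i = j) = Finset.univ.filter (fun i => e i = j.val + 1) :=
    Finset.filter_congr fun i _ => by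
      have h2 := (he i).1
      rw [Fin.ext_iff]
      constructor
      · intro (h3 : e i - 1 = j.val); omega
      · intro h3; show e i - 1 = j.val; omega
  rw [hfib, ht, ← Finset.filter_val, ← Finset.prod_eq_multiset_prod, coeff_zero_prod, ← Finset.prod_pow]
  exact Finset.prod_congr rfl fun i hi => by rw [(Finset.mem_filter.1 hi).2]

/-- The subgroup of determinants of elements commuting with `g`. -/
noncomputable def detCent (g : GL (Fin n) F) : Subgroup Fˣ :=
  (Subgroup.centralizer {g}).map GeneralLinearGroup.det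

theorem index_detCent_dvd {g : GL (Fin n) F} {t : Tup F n n} (h : IsTupleOf g t) : (detCent g).index ∣ idx t := by
  classical
  obtain ⟨ι, hι, p, e, hp, he, hform, ht⟩ := h
  refine Nat.dvd_gcd ?_ (Finset.dvd_gcd fun j hj => ?_)
  · rw [← Fintype.card_units, ← Nat.card_eq_fintype_card]
    exact Subgroup.index_dvd_card _
  · obtain ⟨i, hi⟩ : ∃ i, e i = j.val + 1 := by
      by_contra hne
      apply (Finset.mem_filter.1 hj).2
      rw [ht, Multiset.filter_eq_nil.2 fun i _ hi => hne ⟨i, hi⟩]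
      simp
    haveI : IsCyclic (Fˣ ⧸ detCent g) := isCyclic_of_surjective _ (QuotientGroup.mk'_surjective (detCent g))
    rw [Subgroup.index_eq_card, ← IsCyclic.exponent_eq_card]
    refine Monoid.exponent_dvd_of_forall_pow_eq_one fun y => ?_
    obtain ⟨v, rfl⟩ := QuotientGroup.mk_surjective y
    rw [← QuotientGroup.mk_pow, QuotientGroup.eq_one_iff, ← hi]
    obtain ⟨x, hx, hdet⟩ := CentralizerDet.exists_det_pow hp hform i v
    have hx0 : x.det ≠ 0 := by rw [hdet]; exact pow_ne_zero _ v.ne_zero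
    refine ⟨GeneralLinearGroup.mkOfDetNeZero x hx0, ?_, Units.ext hdet⟩
    exact Subgroup.mem_centralizer_singleton_iff.2 (Units.ext hx.symm)

/-- The embedding of `SL_n` in `GL_n`. -/
noncomputable abbrev ι' : SpecialLinearGroup (Fin n) F →* GL (Fin n) F := SpecialLinearGroup.toGL

/-- The tuple of a class of `SL_n(q)`. -/
noncomputable def tupOf (C : ConjClasses (SpecialLinearGroup (Fin n) F)) : Tup F n n :=
  (exists_isTupleOf (ι' C.out)).choose

theorem isTupleOf_tupOf (C : ConjClasses (SpecialLinearGroup (Fin n) F)) : IsTupleOf (ι' C.out) (tupOf C) :=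
  (exists_isTupleOf (ι' C.out)).choose_spec

theorem cst_tupOf (C : ConjClasses (SpecialLinearGroup (Fin n) F)) : cst (tupOf C) = (-1) ^ n := by
  refine Units.ext ?_
  rw [cst_eq (isTupleOf_tupOf C), show (ι' C.out).1.det = 1 from C.out.2, mul_one, Units.val_pow_eq_pow_val,
    Units.val_neg, Units.val_one]

theorem mk_out (C : ConjClasses (SpecialLinearGroup (Fin n) F)) : ConjClasses.mk C.out = C := Quotient.out_eq C

theorem card_fiber_le (t : Tup F n n) :
    Nat.card {C : ConjClasses (SpecialLinearGroup (Fin n) F) // tupOf C = t} ≤ idx t := by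
  classical
  rcases isEmpty_or_nonempty {C : ConjClasses (SpecialLinearGroup (Fin n) F) // tupOf C = t} with h | ⟨⟨C₀, h₀⟩⟩
  · rw [Nat.card_of_isEmpty]; exact Nat.zero_le _
  have hT₀ : IsTupleOf (ι' C₀.out) t := by rw [← h₀]; exact isTupleOf_tupOf C₀
  have hx : ∀ C : {C : ConjClasses (SpecialLinearGroup (Fin n) F) // tupOf C = t},
      ∃ x, x * ι' C₀.out * x⁻¹ = ι' C.1.out := fun C =>
    isConj_iff.1 (hT₀.isConj (t := t) (by
      have := isTupleOf_tupOf C.1
      rwa [C.2] at this))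
  choose x hx using hx
  refine le_trans (Nat.card_le_card_of_injective
    (fun C => (QuotientGroup.mk (GeneralLinearGroup.det (x C)) : Fˣ ⧸ detCent (ι' C₀.out))) fun C C' hCC => ?_)
    (Nat.le_of_dvd (Nat.gcd_pos_of_pos_left _ (by have := two_le_card (F := F); omega)) (index_detCent_dvd hT₀))
  obtain ⟨y, hy, hdet⟩ := QuotientGroup.eq.1 hCC
  have hy' : y * ι' C₀.out = ι' C₀.out * y := Subgroup.mem_centralizer_singleton_iff.1 hy
  have hd : GeneralLinearGroup.det (x C' * (x C * y)⁻¹) = 1 := by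
    rw [map_mul, map_inv, map_mul, hdet, mul_inv_cancel_left, mul_inv_cancel]
  obtain ⟨z, hz⟩ : ∃ z : SpecialLinearGroup (Fin n) F, ι' z = x C' * (x C * y)⁻¹ :=
    ⟨⟨_, congrArg Units.val hd⟩, Units.ext rfl⟩
  apply Subtype.ext
  rw [← mk_out C.1, ← mk_out C'.1, ConjClasses.mk_eq_mk_iff_isConj, isConj_iff]
  refine ⟨z, SpecialLinearGroup.toGL_injective ?_⟩
  show ι' (z * C.1.out * z⁻¹) = ι' C'.1.out
  rw [map_mul, map_mul, map_inv, hz, ← hx C, ← hx C']
  calc x C' * (x C * y)⁻¹ * (x C * ι' C₀.out * (x C)⁻¹) * (x C' * (x C * y)⁻¹)⁻¹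
      = x C' * y⁻¹ * (ι' C₀.out * y) * (x C')⁻¹ := by group
    _ = x C' * y⁻¹ * (y * ι' C₀.out) * (x C')⁻¹ := by rw [hy']
    _ = x C' * ι' C₀.out * (x C')⁻¹ := by group

theorem card_subtype_le (P : ConjClasses (SpecialLinearGroup (Fin n) F) → Prop) (T : Finset (Tup F n n))
    (hT : ∀ C, P C → tupOf C ∈ T) : Nat.card {C // P C} ≤ ∑ t ∈ T, idx t := by
  classical
  refine le_trans (Nat.card_le_card_of_injective
    (β := Σ t : T, {C : ConjClasses (SpecialLinearGroup (Fin n) F) // tupOf C = t.1})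
    (fun C => ⟨⟨tupOf C.1, hT C.1 C.2⟩, C.1, rfl⟩)
    fun C C' h => Subtype.ext (congrArg (fun z : Σ t : T,
      {C : ConjClasses (SpecialLinearGroup (Fin n) F) // tupOf C = t.1} => z.2.1) h)) ?_
  rw [Nat.card_sigma, ← Finset.sum_coe_sort T]
  exact Finset.sum_le_sum fun t _ => card_fiber_le t.1

theorem card_classes_le_weight :
    Nat.card (ConjClasses (SpecialLinearGroup (Fin n) F)) ≤ weight n ((-1 : Fˣ) ^ n) := by
  classical
  rw [← Nat.card_congr (Equiv.subtypeUnivEquiv (fun _ => trivial) :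
    {_C : ConjClasses (SpecialLinearGroup (Fin n) F) // True} ≃ _)]
  exact card_subtype_le _ _ fun C _ => Finset.mem_filter.2 ⟨Finset.mem_univ _, cst_tupOf C⟩

theorem card_fixed_le {z : SpecialLinearGroup (Fin n) F} {c : Fˣ} (hz : z.1 = scalar (Fin n) (c : F))
    {m : ℕ} (hm : n = orderOf c * m) :
    Nat.card {C : ConjClasses (SpecialLinearGroup (Fin n) F) // ConjClasses.mk (z * C.out) = C} ≤
      weight m ((-1 : Fˣ) ^ n) := by
  classical
  refine le_trans (card_subtype_le _ _ fun C hC => ?_) (sum_sparse_le (orderOf_pos c) hm ((-1 : Fˣ) ^ n))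
  refine Finset.mem_filter.2 ⟨Finset.mem_univ _, cst_tupOf C, ?_⟩
  refine sparse_of_isConj_smul (isTupleOf_tupOf C) (g' := ι' (z * C.out)) ?_ (ι'.map_isConj ?_)
  · show z.1 * C.out.1 = (c : F) • C.out.1
    rw [hz, Matrix.smul_eq_diagonal_mul]
    rfl
  · exact (ConjClasses.mk_eq_mk_iff_isConj.1 (hC.trans (mk_out C).symm)).symm

end Cfsg.Lib.Linear.ClassNumberSL
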