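import Cfsg.Agent.Lib.Linear.ClassWeight

/-!
# Bounds for the weighted counts, and the tuples of polynomials in a power of `X`
-/

set_option autoImplicit false

universe u

namespace Cfsg.Lib.Linear.ClassWeight

open Polynomial Cfsg.Lib Cfsg.Lib.Linear.ClassNumberGL

variable {F : Type u} [Field F] [Fintype F]

theorem weight_one (s : Fˣ) : weight (F := F) 1 s ≤ 1 := by
  have h := mul_weight_le_divisors 1 le_rfl s
  rw [Nat.gcd_one_left, Nat.divisors_one, Finset.erase_singleton, Finset.sum_empty, N_one, a, pow_zero] at h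
  have := two_le_card (F := F)
  exact Nat.le_of_mul_le_mul_left (by simpa using h) (show 0 < Fintype.card F - 1 by omega)

theorem weight_two (s : Fˣ) :
    weight (F := F) 2 s ≤ Fintype.card F + 4 ∧ 2 * weight (F := F) 2 s ≤ 5 * Fintype.card F := by
  have h := mul_weight_le_divisors 2 (by norm_num) s
  have hN : N (Fintype.card F) 2 2 + Fintype.card F ^ (2 - 2) ≤ Fintype.card F ^ 2 :=
    N_add_le (Fintype.card F) Fintype.card_pos 1 2 (by norm_num)
  have h2 := two_le_card (F := F)
  obtain ⟨c, hc⟩ : ∃ c, Fintype.card F = c + 1 := ⟨Fintype.card F - 1, by omega⟩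
  simp only [hc, Nat.add_sub_cancel] at h hN h2 ⊢
  rcases (Nat.dvd_prime Nat.prime_two).1 (Nat.gcd_dvd_left 2 c) with hg | hg
  · rw [hg, Nat.divisors_one, Finset.erase_singleton, Finset.sum_empty] at h
    have : c * weight (F := F) 2 s ≤ c * (c + 2) := by
      simp only [Nat.sub_self, pow_zero, pow_two] at hN
      rw [Nat.mul_add c c 2]
      have : (c + 1) * (c + 1) = c * c + c * 2 + 1 := by ring
      omega
    have := Nat.le_of_mul_le_mul_left this (by omega)
    omega
  · rw [hg, Nat.Prime.divisors Nat.prime_two, Finset.erase_insert (by simp), Finset.sum_singleton,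
      show 2 / 2 = 1 from rfl, N_one, a, pow_zero, mul_one] at h
    have hc1 : c ≠ 1 := fun h1 => by rw [h1] at hg; norm_num at hg
    have : c * weight (F := F) 2 s ≤ c * (c + 5) := by
      simp only [Nat.sub_self, pow_zero, pow_two, Nat.add_sub_cancel] at hN h
      rw [Nat.mul_add c c 5]
      have : (c + 1) * (c + 1) = c * c + c * 2 + 1 := by ring
      omega
    have := Nat.le_of_mul_le_mul_left this (by omega)
    omega

theorem weight_three (s : Fˣ) : weight (F := F) 3 s ≤ Fintype.card F ^ 2 + 3 * Fintype.card F ^ 1 := by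
  have h := mul_weight_le_divisors 3 (by norm_num) s
  have h2 := two_le_card (F := F)
  obtain ⟨c, hc⟩ : ∃ c, Fintype.card F = c + 1 := ⟨Fintype.card F - 1, by omega⟩
  simp only [hc, Nat.add_sub_cancel] at h h2 ⊢
  have hN : N (c + 1) 3 3 = c * (c + 1) ^ 2 + (c * c + c) := by
    rw [N_succ, N_succ, N_one, show E (c + 1) 2 3 = E (c + 1) 2 (2 + 1 + 0) from rfl,
      show E (c + 1) 1 3 = E (c + 1) 1 (1 + 1 + 1) from rfl, E_add, E_add, N_zero, N_one,
      E_eq_zero (c + 1) 2 0 (by norm_num), E_eq_zero (c + 1) 1 1 (by norm_num)]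
    simp only [a, Nat.add_sub_cancel, pow_zero, mul_one, mul_zero, add_zero]
    ring
  have key : c * weight (F := F) 3 s ≤ c * ((c + 1) ^ 2 + 3 * (c + 1) ^ 1) := by
    rcases (Nat.dvd_prime Nat.prime_three).1 (Nat.gcd_dvd_left 3 c) with hg | hg
    · rw [hg, Nat.divisors_one, Finset.erase_singleton, Finset.sum_empty, hN] at h
      nlinarith
    · rw [hg, Nat.Prime.divisors Nat.prime_three, Finset.erase_insert (by simp), Finset.sum_singleton,
        show 3 / 3 = 1 from rfl, N_one, a, pow_zero, mul_one, hN] at h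
      have h3 : 3 ∣ c := hg ▸ Nat.gcd_dvd_right 3 c
      have : 3 ≤ c := Nat.le_of_dvd (by omega) h3
      norm_num at h
      nlinarith
  exact Nat.le_of_mul_le_mul_left key (by omega)

theorem weight_four (s : Fˣ) : weight (F := F) 4 s ≤ Fintype.card F ^ 3 + 3 * Fintype.card F ^ 2 := by
  have h := mul_weight_le_divisors 4 (by norm_num) s
  have h2 := two_le_card (F := F)
  obtain ⟨c, hc⟩ : ∃ c, Fintype.card F = c + 1 := ⟨Fintype.card F - 1, by omega⟩
  simp only [hc, Nat.add_sub_cancel] at h h2 ⊢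
  have hN4 := N_self_le (c + 1) (by omega) 4 (by norm_num)
  have hN2 := N_self_le (c + 1) (by omega) 2 (by norm_num)
  have key : c * weight (F := F) 4 s ≤ c * ((c + 1) ^ 3 + 3 * (c + 1) ^ 2) := by
    obtain ⟨i, hi, hg⟩ := (Nat.dvd_prime_pow Nat.prime_two (m := 2)).1 (Nat.gcd_dvd_left 4 c)
    have hdc := Nat.gcd_dvd_right 4 c
    rw [hg] at h hdc
    interval_cases i
    · rw [pow_zero, Nat.divisors_one, Finset.erase_singleton, Finset.sum_empty] at h
      nlinarith
    · rw [pow_one, Nat.Prime.divisors Nat.prime_two, Finset.erase_insert (by simp), Finset.sum_singleton] at h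
      rw [pow_one] at hdc
      have : 2 ≤ c := Nat.le_of_dvd (by omega) hdc
      norm_num at h
      nlinarith [Nat.mul_le_mul_right ((c + 1) ^ 2) this]
    · rw [show (2 ^ 2 : ℕ).divisors.erase 1 = {2, 4} from by decide, Finset.sum_pair (by norm_num)] at h
      have : 4 ≤ c := Nat.le_of_dvd (by omega) hdc
      norm_num [N_one, a] at h
      nlinarith [Nat.mul_le_mul_right ((c + 1) ^ 2) this, Nat.mul_le_mul_right (c + 1) this]
  exact Nat.le_of_mul_le_mul_left key (by omega)

theorem weight_five_le (n : ℕ) (hn : 5 ≤ n) (s : Fˣ) :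
    weight (F := F) n s ≤ Fintype.card F ^ (n - 1) + 3 * Fintype.card F ^ (n - 2) := by
  have h := mul_weight_le_divisors n (by omega) s
  have h2 := two_le_card (F := F)
  have hN := N_self_le (Fintype.card F) (by omega) n (by omega)
  set q := Fintype.card F with hq
  set D := (Nat.gcd n (q - 1)).divisors.erase 1
  have hmem : ∀ d ∈ D, 2 ≤ d ∧ d ∣ n ∧ d ≤ q - 1 := fun d hd => by
    have h1 := Finset.mem_erase.1 hd
    have h3 := Nat.mem_divisors.1 h1.2
    have : 0 < d := Nat.pos_of_dvd_of_pos h3.1 (Nat.pos_of_ne_zero h3.2)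
    exact ⟨by omega, h3.1.trans (Nat.gcd_dvd_left _ _), Nat.le_of_dvd (by omega) (h3.1.trans (Nat.gcd_dvd_right _ _))⟩
  have hterm : ∀ d ∈ D, (d ^ 2 - 1) * N q (n / d) (n / d) ≤ q ^ (n - 2) := fun d hd => by
    obtain ⟨h1, hdn, h3⟩ := hmem d hd
    have hpos : 1 ≤ n / d := (Nat.one_le_div_iff (by omega)).2 (Nat.le_of_dvd (by omega) hdn)
    refine (Nat.mul_le_mul_left _ (N_self_le q (by omega) _ hpos)).trans ?_
    rcases eq_or_lt_of_le h1 with rfl | h4
    · calc (2 ^ 2 - 1) * q ^ (n / 2) ≤ q * q ^ (n - 3) :=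
            Nat.mul_le_mul (by omega) (Nat.pow_le_pow_right (by omega) (by omega))
        _ = q ^ (n - 2) := by rw [← pow_succ', show n - 3 + 1 = n - 2 by omega]
    · calc (d ^ 2 - 1) * q ^ (n / d) ≤ q ^ 2 * q ^ (n / 3) :=
            Nat.mul_le_mul ((Nat.sub_le _ _).trans (Nat.pow_le_pow_left (by omega) 2))
              (Nat.pow_le_pow_right (by omega) (Nat.div_le_div_left h4 (by norm_num)))
        _ ≤ q ^ (n - 2) := by rw [← pow_add]; exact Nat.pow_le_pow_right (by omega) (by omega)
  have hcard : D.card ≤ q - 2 := by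
    have : D ⊆ Finset.Icc 2 (q - 1) := fun d hd => Finset.mem_Icc.2 ⟨(hmem d hd).1, (hmem d hd).2.2⟩
    have := Finset.card_le_card this
    rw [Nat.card_Icc] at this
    omega
  have hsum := (Finset.sum_le_card_nsmul D _ _ hterm).trans (Nat.mul_le_mul_right _ hcard)
  obtain ⟨c, hc⟩ : ∃ c, q = c + 1 := ⟨q - 1, by omega⟩
  refine Nat.le_of_mul_le_mul_left ?_ (show 0 < q - 1 by omega)
  obtain ⟨k, rfl⟩ : ∃ k, n = k + 2 := ⟨n - 2, by omega⟩
  simp only [show k + 2 - 1 = k + 1 from rfl, Nat.add_sub_cancel] at hsum h ⊢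
  rw [hc] at hsum hN h h2 ⊢
  simp only [Nat.add_sub_cancel, show c + 1 - 2 = c - 1 by omega] at hsum h ⊢
  obtain ⟨b, rfl⟩ : ∃ b, c = b + 1 := ⟨c - 1, by omega⟩
  simp only [Nat.add_sub_cancel] at hsum
  rw [pow_succ, pow_succ] at hN
  rw [pow_succ]
  nlinarith

theorem weight_le (n : ℕ) (hn : 3 ≤ n) (s : Fˣ) :
    weight (F := F) n s ≤ Fintype.card F ^ (n - 1) + 3 * Fintype.card F ^ (n - 2) := by
  rcases Nat.lt_or_ge n 5 with h | h
  · interval_cases n
    · exact weight_three s
    · exact weight_four s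
  · exact weight_five_le n h s

theorem two_mul_weight_le (n : ℕ) (hn : 1 ≤ n) (s : Fˣ) :
    2 * weight (F := F) n s ≤ 5 * Fintype.card F ^ (n - 1) := by
  have h2 := two_le_card (F := F)
  rcases Nat.lt_or_ge n 3 with h | h
  · interval_cases n
    · have := weight_one s; simp; omega
    · simpa using (weight_two s).2
  · obtain ⟨k, rfl⟩ : ∃ k, n = k + 2 := ⟨n - 2, by omega⟩
    have := weight_le (k + 2) h s
    rw [show k + 2 - 1 = k + 1 from rfl, Nat.add_sub_cancel, pow_succ] at this
    rw [show k + 2 - 1 = k + 1 from rfl, pow_succ]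
    nlinarith [Nat.mul_le_mul_left (Fintype.card F ^ k) h2]

omit [Fintype F] in
theorem natDegree_contract {e : ℕ} (he : 0 < e) {g : F[X]} (hg : g ≠ 0) (hs : ∀ k, g.coeff k ≠ 0 → e ∣ k) :
    e * (contract e g).natDegree = g.natDegree := by
  obtain ⟨d, hd⟩ := hs g.natDegree (by rw [coeff_natDegree]; exact leadingCoeff_ne_zero.2 hg)
  have : (contract e g).natDegree = d := by
    refine natDegree_eq_of_le_of_coeff_ne_zero (natDegree_le_iff_coeff_eq_zero.2 fun k hk => ?_) ?_
    · rw [coeff_contract he.ne']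
      refine coeff_eq_zero_of_natDegree_lt ?_
      rw [hd, mul_comm k]
      exact Nat.mul_lt_mul_of_pos_left hk he
    · rw [coeff_contract he.ne', mul_comm, ← hd, coeff_natDegree]
      exact leadingCoeff_ne_zero.2 hg
  rw [this, hd]

open scoped Classical in
/-- Tuples all of whose entries are polynomials in `X ^ e` are counted by the tuples of weighted degree `n / e`. -/
theorem sum_sparse_le {n e m : ℕ} (he : 0 < e) (hn : n = e * m) (s : Fˣ) :
    ∑ t ∈ (Finset.univ : Finset (Tup F n n)).filter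
      (fun t => cst t = s ∧ ∀ j k, (t.1 j).coeff k ≠ 0 → e ∣ k), idx t ≤ weight (F := F) m s := by
  subst hn
  set X₀ := (Finset.univ : Finset (Tup F (e * m) (e * m))).filter
      (fun t => cst t = s ∧ ∀ j k, (t.1 j).coeff k ≠ 0 → e ∣ k) with hX₀
  have hmn : m ≤ e * m := Nat.le_mul_of_pos_left m he
  have hsp : ∀ t : {t // t ∈ X₀}, ∀ j, e * (contract e (t.1.1 j)).natDegree = (t.1.1 j).natDegree := fun t j =>
    natDegree_contract he (t.1.2.1 j).1.ne_zero ((Finset.mem_filter.1 t.2).2.2 j)
  have hsmall : ∀ t : {t // t ∈ X₀}, ∀ j ∈ supp t.1, j.val < m := fun t j hj => by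
    have h1 : (j.val + 1) * (t.1.1 j).natDegree ≤ e * m :=
      le_trans (Finset.single_le_sum (f := fun i : Fin (e * m) => (i.val + 1) * (t.1.1 i).natDegree)
        (fun _ _ => Nat.zero_le _) (Finset.mem_univ j)) (le_of_eq t.1.2.2)
    have h2 : 1 ≤ (contract e (t.1.1 j)).natDegree := Nat.pos_of_ne_zero fun h0 => by
      have := hsp t j
      rw [h0, mul_zero] at this
      exact (Finset.mem_filter.1 hj).2 this.symm
    rw [← hsp t j, mul_left_comm] at h1
    have := (Nat.le_mul_of_pos_right (j.val + 1) h2).trans (Nat.le_of_mul_le_mul_left h1 he)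
    omega
  have hout : ∀ t : {t // t ∈ X₀}, ∀ j : Fin (e * m), j ∉ Set.range (Fin.castLE hmn) → j ∉ supp t.1 := fun t j hj hs =>
    hj ⟨⟨j.val, hsmall t j hs⟩, rfl⟩
  let φ : {t // t ∈ X₀} → Tup F m m := fun t => ⟨fun j => contract e (t.1.1 (Fin.castLE hmn j)), fun j => by
      refine ⟨?_, by rw [coeff_contract he.ne', zero_mul]; exact (t.1.2.1 _).2⟩
      show (contract e (t.1.1 (Fin.castLE hmn j))).coeff (contract e (t.1.1 (Fin.castLE hmn j))).natDegree = 1
      rw [coeff_contract he.ne', Nat.mul_comm (contract e (t.1.1 (Fin.castLE hmn j))).natDegree e, hsp]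
      exact (t.1.2.1 _).1,
    Nat.eq_of_mul_eq_mul_left he (by
      rw [Finset.mul_sum]
      conv_rhs => rw [← t.1.2.2]
      refine Fintype.sum_of_injective _ (Fin.castLE_injective hmn) _ _ (fun j hj => ?_) fun j => ?_
      · rw [show (t.1.1 j).natDegree = 0 by simpa [supp] using hout t j hj, mul_zero]
      · rw [mul_left_comm, hsp]; rfl)⟩
  have hsupp : ∀ t, supp t.1 = (supp (φ t)).image (Fin.castLE hmn) := fun t => by
    ext j
    rw [Finset.mem_image]
    constructor
    · intro hj
      refine ⟨⟨j.val, hsmall t j hj⟩, ?_, rfl⟩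
      simp only [supp, Finset.mem_filter, Finset.mem_univ, true_and] at hj ⊢
      intro h0
      apply hj
      rw [← hsp t j, show (contract e (t.1.1 j)).natDegree = 0 from h0, mul_zero]
    · rintro ⟨i, hi, rfl⟩
      simp only [supp, Finset.mem_filter, Finset.mem_univ, true_and] at hi ⊢
      rw [← hsp t]
      exact Nat.mul_ne_zero he.ne' hi
  have hidx : ∀ t, idx t.1 = idx (φ t) := fun t => by
    rw [idx, idx, hsupp, Finset.gcd_image]
    rfl
  have hcst : ∀ t, cst (φ t) = s := fun t => by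
    rw [← (Finset.mem_filter.1 t.2).2.1, cst, cst]
    refine Fintype.prod_of_injective _ (Fin.castLE_injective hmn) _ _ (fun j hj => ?_) fun j => ?_
    · rw [coeff_zero_of_notMem (hout t j hj), one_pow]
    · refine congrArg₂ (fun (x : Fˣ) k => x ^ k) (Units.ext ?_) rfl
      show (contract e _).coeff 0 = _
      rw [coeff_contract he.ne', zero_mul]
      rfl
  have hinj : Function.Injective φ := fun t t' h => by
    refine Subtype.ext (Subtype.ext (funext fun j => ?_))
    by_cases hj : j ∈ Set.range (Fin.castLE hmn)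
    · obtain ⟨i, rfl⟩ := hj
      have h1 : contract e (t.1.1 (Fin.castLE hmn i)) = contract e (t'.1.1 (Fin.castLE hmn i)) :=
        congrFun (congrArg Subtype.val h) i
      ext k
      by_cases hk : e ∣ k
      · obtain ⟨l, rfl⟩ := hk
        have := congrArg (fun g : F[X] => g.coeff l) h1
        simpa [coeff_contract he.ne', mul_comm] using this
      · rw [not_not.1 (mt ((Finset.mem_filter.1 t.2).2.2 _ k) hk), not_not.1 (mt ((Finset.mem_filter.1 t'.2).2.2 _ k) hk)]
    · rw [eq_one_of_notMem (hout t j hj), eq_one_of_notMem (hout t' j hj)]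
  rw [weight, ← Finset.sum_coe_sort X₀, Finset.sum_congr rfl fun t _ => hidx t]
  refine le_trans (le_of_eq (Finset.sum_image (g := φ) (f := idx) fun a _ b _ h => hinj h).symm) ?_
  refine Finset.sum_le_sum_of_subset fun x hx => ?_
  obtain ⟨t, -, rfl⟩ := Finset.mem_image.1 hx
  exact Finset.mem_filter.2 ⟨Finset.mem_univ _, hcst t⟩

end Cfsg.Lib.Linear.ClassWeight
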