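import Cfsg.Agent.Lib.Linear.SemisimpleClasses

set_option autoImplicit false

namespace Cfsg.Agent.Lib.Linear.UnipotentClasses

open Polynomial
open Cfsg.Lib

universe u

variable {F : Type u} [Field F] {n : ℕ}

theorem monic_Y : (X - C (1 : F)).Monic := monic_X_sub_C 1

theorem natDegree_Y : (X - C (1 : F)).natDegree = 1 := natDegree_X_sub_C 1

theorem aeval_Y (A : Matrix (Fin n) (Fin n) F) (N : ℕ) : aeval A ((X - C (1 : F)) ^ N) = (A - 1) ^ N := by
  rw [map_pow, map_sub, aeval_X, aeval_C, map_one]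

theorem pow_eq_one_iff {p : ℕ} [Fact p.Prime] [CharP F p] (A : Matrix (Fin n) (Fin n) F) (k : ℕ) :
    A ^ p ^ k = 1 ↔ (A - 1) ^ p ^ k = 0 := by
  haveI : ExpChar F[X] p := ExpChar.prime Fact.out
  rw [← aeval_Y A (p ^ k), sub_pow_expChar_pow, map_sub, map_pow, map_pow, aeval_X, aeval_C, map_one, one_pow, sub_eq_zero]

theorem hasForm_of_isConj {A B : Matrix (Fin n) (Fin n) F} {ι : Type u} {f : ι → F[X]}
    (h : CanonicalForm.HasForm A f) (hc : IsConj A B) : CanonicalForm.HasForm B f := by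
  obtain ⟨Ψ, hΨ⟩ := h
  obtain ⟨c, hc⟩ := hc
  let L : (Fin n → F) ≃ₗ[F] (Fin n → F) := Matrix.toLin'OfInv c.inv_mul c.mul_inv
  refine ⟨L.symm.trans Ψ, fun v i => ?_⟩
  have h1 : (↑c⁻¹ : Matrix (Fin n) (Fin n) F) * B = A * (↑c⁻¹ : Matrix (Fin n) (Fin n) F) := by
    rw [← mul_one ((↑c⁻¹ : Matrix (Fin n) (Fin n) F) * B), ← c.mul_inv, mul_assoc, ← mul_assoc B,
      ← show (c : Matrix (Fin n) (Fin n) F) * A = B * c from hc, ← mul_assoc, ← mul_assoc, c.inv_mul, one_mul]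
  show Ψ ((↑c⁻¹ : Matrix (Fin n) (Fin n) F).mulVec (B.mulVec v)) i =
    AdjoinRoot.root (f i) * Ψ ((↑c⁻¹ : Matrix (Fin n) (Fin n) F).mulVec v) i
  rw [Matrix.mulVec_mulVec, h1, ← Matrix.mulVec_mulVec, hΨ]

variable [Fintype F]

/-- The form of a unipotent matrix. -/
theorem exists_type {A : Matrix (Fin n) (Fin n) F} (N : ℕ) (hA : (A - 1) ^ N = 0) :
    ∃ μ : Nat.Partition n, (∀ a ∈ μ.parts, a ≤ N) ∧ ∃ (ι : Type u) (_ : Fintype ι) (e : ι → ℕ),
      (∀ i, 1 ≤ e i) ∧ (Finset.univ : Finset ι).val.map e = μ.parts ∧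
        CanonicalForm.HasForm A fun i => (X - C (1 : F)) ^ e i := by
  obtain ⟨ι, hι, e, he, heN, hs, h⟩ :=
    CanonicalForm.exists_unipotent_form (A := A) (monic_Y (F := F)) natDegree_Y N (by rw [aeval_Y, hA])
  refine ⟨⟨(Finset.univ : Finset ι).val.map e, fun {i} hi => ?_, hs⟩, fun a ha => ?_, ι, hι, e, he, rfl, h⟩
  · obtain ⟨j, -, rfl⟩ := Multiset.mem_map.mp hi
    exact he j
  · obtain ⟨j, -, rfl⟩ := Multiset.mem_map.mp ha
    exact heN j

theorem pow_card_eq_zero {A : Matrix (Fin n) (Fin n) F} (N : ℕ) (hA : (A - 1) ^ N = 0) : (A - 1) ^ n = 0 := by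
  obtain ⟨μ, -, ι, hι, e, he, hmap, h⟩ := exists_type N hA
  rw [← aeval_Y, h.aeval_eq_zero_iff]
  intro i
  refine pow_dvd_pow _ ?_
  rw [← μ.parts_sum, ← hmap]
  exact Multiset.single_le_sum (fun _ _ => Nat.zero_le _) _ (Multiset.mem_map_of_mem _ (Finset.mem_univ i))

theorem exists_GL_of_type (N : ℕ) (μ : Nat.Partition n) (hμ : ∀ a ∈ μ.parts, a ≤ N) :
    ∃ g : GL (Fin n) F, ((g : Matrix (Fin n) (Fin n) F) - 1) ^ N = 0 ∧
      ∃ (ι : Type u) (_ : Fintype ι) (e : ι → ℕ), (∀ i, 1 ≤ e i) ∧ (Finset.univ : Finset ι).val.map e = μ.parts ∧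
        CanonicalForm.HasForm (g : Matrix (Fin n) (Fin n) F) fun i => (X - C (1 : F)) ^ e i := by
  classical
  let l := μ.parts.toList
  let ι := ULift.{u} (Fin l.length)
  let e : ι → ℕ := fun i => l.get i.down
  have hmem : ∀ i, e i ∈ μ.parts := fun i => Multiset.mem_toList.mp (List.get_mem _ _)
  have hmap : (Finset.univ : Finset ι).val.map e = μ.parts := by
    rw [← Finset.map_univ_equiv (Equiv.ulift.{u}.symm : Fin l.length ≃ ι), Finset.map_val, Multiset.map_map]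
    show (Finset.univ : Finset (Fin l.length)).val.map l.get = μ.parts
    rw [Fin.univ_val_map, List.ofFn_get]
    exact Multiset.coe_toList _
  have hdeg : ∑ i, ((X - C (1 : F)) ^ e i).natDegree = n := by
    rw [Finset.sum_congr rfl fun i _ => by rw [monic_Y.natDegree_pow, natDegree_Y, mul_one]]
    conv_rhs => rw [← μ.parts_sum, ← hmap]
    rfl
  obtain ⟨A, hA⟩ := CanonicalForm.exists_matrix (fun i => (X - C (1 : F)) ^ e i) (fun i => monic_Y.pow _) hdeg
  have hN : (A - 1) ^ N = 0 := by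
    rw [← aeval_Y, hA.aeval_eq_zero_iff]
    exact fun i => pow_dvd_pow _ (hμ _ (hmem i))
  have hu : IsUnit A := by
    have h1 : IsNilpotent (A - 1) := ⟨N, hN⟩
    simpa using h1.isUnit_add_one
  exact ⟨hu.unit, hN, ι, inferInstance, e, fun i => μ.parts_pos (hmem i), hmap, hA⟩

theorem card_classes (N : ℕ) :
    Nat.card {C : ConjClasses (GL (Fin n) F) //
        ∃ g : GL (Fin n) F, ConjClasses.mk g = C ∧ ((g : Matrix (Fin n) (Fin n) F) - 1) ^ N = 0} =
      (Finset.univ.filter fun μ : Nat.Partition n => ∀ a ∈ μ.parts, a ≤ N).card := by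
  classical
  rw [← Fintype.card_subtype, ← Nat.card_eq_fintype_card]
  choose g hg hg' using fun μ : {μ : Nat.Partition n // ∀ a ∈ μ.parts, a ≤ N} =>
    exists_GL_of_type (F := F) N μ.1 μ.2
  refine (Nat.card_eq_of_bijective (fun μ => (⟨ConjClasses.mk (g μ), g μ, rfl, hg μ⟩ :
    {C : ConjClasses (GL (Fin n) F) //
      ∃ g : GL (Fin n) F, ConjClasses.mk g = C ∧ ((g : Matrix (Fin n) (Fin n) F) - 1) ^ N = 0})) ⟨?_, ?_⟩).symm
  · intro μ ν h
    have h1 : IsConj (g μ) (g ν) := ConjClasses.mk_eq_mk_iff_isConj.mp (congrArg Subtype.val h)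
    obtain ⟨c, hc⟩ := (Units.coeHom _).map_isConj h1
    obtain ⟨ι, hι, e, he, hmap, he'⟩ := hg' μ
    obtain ⟨κ, hκ, d, hd, hmap', hd'⟩ := hg' ν
    have hform : CanonicalForm.HasForm ((g ν : Matrix (Fin n) (Fin n) F)) fun i => (X - C (1 : F)) ^ e i :=
      hasForm_of_isConj he' ⟨c, hc⟩
    have := CanonicalForm.map_eq_of_hasForm monic_Y natDegree_Y he hd hform hd'
    exact Subtype.ext (Nat.Partition.ext (by rw [← hmap, ← hmap', this]))
  · rintro ⟨C, x, rfl, hx⟩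
    obtain ⟨μ, hμ, ι, hι, e, he, hmap, h⟩ := exists_type N hx
    refine ⟨⟨μ, hμ⟩, Subtype.ext ?_⟩
    obtain ⟨κ, hκ, d, hd, hmap', hd'⟩ := hg' ⟨μ, hμ⟩
    refine ConjClasses.mk_eq_mk_iff_isConj.mpr (SemisimpleClasses.isConj_units_of_isConj _ _
      (CanonicalForm.isConj_of_map_eq hd' h ?_))
    have e1 := congrArg (Multiset.map fun k => (X - C (1 : F)) ^ k) (hmap'.trans hmap.symm)
    simpa [Multiset.map_map, Function.comp_def] using e1

end Cfsg.Agent.Lib.Linear.UnipotentClasses
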