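import Cfsg.Agent.Lib.Linear.ClassTuples
import Cfsg.Agent.Lib.Linear.ClassWeightBound
import Cfsg.Agent.Lib.Linear.UnipotentClasses

/-!
# Multiplying a matrix by a scalar scales the roots in its tuple
-/

set_option autoImplicit false

universe u

namespace Cfsg.Lib.Linear.ClassScale

open Polynomial Cfsg.Lib Cfsg.Lib.Linear.ClassNumberGL Cfsg.Lib.Linear.ClassWeight Cfsg.Agent.Lib.Linear

variable {F : Type u} [Field F]

theorem scaleRoots_scaleRoots_inv (f : F[X]) {c : F} (hc : c ≠ 0) : (f.scaleRoots c).scaleRoots c⁻¹ = f := by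
  rw [← scaleRoots_mul, mul_inv_cancel₀ hc, scaleRoots_one]

theorem irreducible_scaleRoots {f : F[X]} (hf : Irreducible f) {c : F} (hc : c ≠ 0) :
    Irreducible (f.scaleRoots c) := by
  have hu : ∀ a : F[X], a ≠ 0 → IsUnit (a.scaleRoots c⁻¹) → IsUnit a := fun a ha h => by
    rw [isUnit_iff_degree_eq_zero, degree_scaleRoots] at h
    exact isUnit_iff_degree_eq_zero.2 h
  refine ⟨fun h => hf.not_isUnit ?_, fun a b hab => ?_⟩
  · rw [isUnit_iff_degree_eq_zero, degree_scaleRoots] at h
    exact isUnit_iff_degree_eq_zero.2 h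
  · have hne : a * b ≠ 0 := hab ▸ scaleRoots_ne_zero hf.ne_zero c
    have h1 : f = a.scaleRoots c⁻¹ * b.scaleRoots c⁻¹ := by
      rw [← mul_scaleRoots_of_noZeroDivisors, ← hab, scaleRoots_scaleRoots_inv f hc]
    exact (hf.isUnit_or_isUnit h1).imp (hu a (left_ne_zero_of_mul hne)) (hu b (right_ne_zero_of_mul hne))

/-- The map of `F[X]/(g)` sending the root to a root of `g`. -/
noncomputable def rootHom {S : Type u} [CommRing S] [Algebra F S] (g : F[X]) (x : S) (h : aeval x g = 0) :
    AdjoinRoot g →ₐ[F] S :=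
  AdjoinRoot.liftAlgHom g (Algebra.ofId F S) x h

theorem rootHom_root {S : Type u} [CommRing S] [Algebra F S] (g : F[X]) (x : S) (h : aeval x g = 0) :
    rootHom g x h (AdjoinRoot.root g) = x :=
  AdjoinRoot.liftAlgHom_root _ _ _ _

theorem hasForm_smul {n : ℕ} {A : Matrix (Fin n) (Fin n) F} {ι : Type u} {f : ι → F[X]}
    (h : CanonicalForm.HasForm A f) {c : F} (hc : c ≠ 0) :
    CanonicalForm.HasForm (c • A) fun i => (f i).scaleRoots c := by
  obtain ⟨Ψ, hΨ⟩ := h
  have h1 : ∀ i, aeval (algebraMap F (AdjoinRoot (f i)) c * AdjoinRoot.root (f i)) ((f i).scaleRoots c) = 0 :=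
    fun i => scaleRoots_aeval_eq_zero (p := f i) ((AdjoinRoot.aeval_eq (f i)).trans AdjoinRoot.mk_self)
  have h2 : ∀ i, aeval (algebraMap F (AdjoinRoot ((f i).scaleRoots c)) c⁻¹ * AdjoinRoot.root ((f i).scaleRoots c))
      (f i) = 0 := fun i => by
    have := scaleRoots_aeval_eq_zero (r := c⁻¹) (a := AdjoinRoot.root ((f i).scaleRoots c))
      (p := (f i).scaleRoots c) (by rw [AdjoinRoot.aeval_eq, AdjoinRoot.mk_self])
    rwa [scaleRoots_scaleRoots_inv _ hc] at this
  let φ := fun i => rootHom ((f i).scaleRoots c) _ (h1 i)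
  let ψ := fun i => rootHom (f i) _ (h2 i)
  let e : ∀ i, AdjoinRoot ((f i).scaleRoots c) ≃ₐ[F] AdjoinRoot (f i) := fun i =>
    AlgEquiv.ofAlgHom (φ i) (ψ i)
      (AdjoinRoot.algHom_ext (by
        simp only [φ, ψ, AlgHom.comp_apply, rootHom_root, map_mul, AlgHom.commutes]
        rw [← mul_assoc, ← map_mul, inv_mul_cancel₀ hc, map_one, one_mul]
        rfl))
      (AdjoinRoot.algHom_ext (by
        simp only [φ, ψ, AlgHom.comp_apply, rootHom_root, map_mul, AlgHom.commutes]
        rw [← mul_assoc, ← map_mul, mul_inv_cancel₀ hc, map_one, one_mul]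
        rfl))
  refine ⟨Ψ.trans (LinearEquiv.piCongrRight fun i => (e i).symm.toLinearEquiv), fun v i => ?_⟩
  show (e i).symm (Ψ ((c • A).mulVec v) i) = AdjoinRoot.root _ * (e i).symm (Ψ v i)
  apply (e i).injective
  rw [map_mul, AlgEquiv.apply_symm_apply, AlgEquiv.apply_symm_apply, Matrix.smul_mulVec, map_smul, Pi.smul_apply,
    hΨ, show e i (AdjoinRoot.root _) = algebraMap F (AdjoinRoot (f i)) c * AdjoinRoot.root (f i) from
      rootHom_root _ _ (h1 i), Algebra.smul_def, mul_assoc]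

theorem prod_scaleRoots (s : Multiset F[X]) (c : F) :
    (s.map fun x => x.scaleRoots c).prod = s.prod.scaleRoots c := by
  induction s using Multiset.induction_on with
  | empty => simp [one_scaleRoots]
  | cons a s ih => rw [Multiset.map_cons, Multiset.prod_cons, Multiset.prod_cons, mul_scaleRoots_of_noZeroDivisors, ih]

variable [Fintype F]

theorem IsTupleOf.of_isConj {n : ℕ} {g g' : GL (Fin n) F} {t : Tup F n n} (h : IsTupleOf g t) (hc : IsConj g g') :
    IsTupleOf g' t := by
  obtain ⟨ι, hι, p, e, hp, he, hform, ht⟩ := h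
  exact ⟨ι, hι, p, e, hp, he, UnipotentClasses.hasForm_of_isConj hform ((Units.coeHom _).map_isConj hc), ht⟩

/-- A class fixed by multiplication by a scalar of order `e` has entries in `F[X ^ e]`. -/
theorem sparse_of_isConj_smul {n : ℕ} {g g' : GL (Fin n) F} {t : Tup F n n} (h : IsTupleOf g t) {c : Fˣ}
    (hg' : g'.1 = (c : F) • g.1) (hconj : IsConj g g') : ∀ j k, (t.1 j).coeff k ≠ 0 → orderOf c ∣ k := by
  obtain ⟨ι, hι, p, e, hp, he, hform, ht⟩ := id h
  have hdeg : ∑ j, (j.val + 1) * ((t.1 j).scaleRoots (c : F)).natDegree = n := by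
    simp only [natDegree_scaleRoots]; exact t.2.2
  let t' : Tup F n n := ⟨fun j => (t.1 j).scaleRoots (c : F), fun j => ⟨(monic_scaleRoots_iff _).2 (t.2.1 j).1, by
    rw [coeff_scaleRoots]; exact mul_ne_zero (t.2.1 j).2 (pow_ne_zero _ c.ne_zero)⟩, hdeg⟩
  have ht' : IsTupleOf g' t' := by
    refine ⟨ι, hι, fun i => (p i).scaleRoots (c : F), e,
      fun i => ⟨(monic_scaleRoots_iff _).2 (hp i).1, irreducible_scaleRoots (hp i).2 c.ne_zero⟩, he, ?_, fun j => ?_⟩
    · rw [hg', show (fun i => (p i).scaleRoots (c : F) ^ e i) = fun i => (p i ^ e i).scaleRoots (c : F) from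
        funext fun i => (pow_scaleRoots_of_isReduced _ _ _).symm]
      exact hasForm_smul hform c.ne_zero
    · show (t.1 j).scaleRoots (c : F) = _
      rw [ht, ← prod_scaleRoots, Multiset.map_map]
      rfl
  intro j k hk
  have heq : (t.1 j).scaleRoots (c : F) = t.1 j :=
    congrFun (congrArg Subtype.val (ClassTuples.IsTupleOf.unique ht' (IsTupleOf.of_isConj h hconj))) j
  have key : ∀ l, (t.1 j).coeff l ≠ 0 → orderOf c ∣ (t.1 j).natDegree - l := fun l hl => by
    refine orderOf_dvd_of_pow_eq_one (Units.ext ?_)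
    have := congrArg (fun f : F[X] => f.coeff l) heq
    simp only [coeff_scaleRoots] at this
    rw [Units.val_pow_eq_pow_val, Units.val_one]
    exact mul_left_cancel₀ hl (this.trans (mul_one _).symm)
  have hle : k ≤ (t.1 j).natDegree := le_natDegree_of_ne_zero hk
  have h0 := key 0 (t.2.1 j).2
  rw [Nat.sub_zero] at h0
  have := Nat.dvd_sub h0 (key k hk)
  rwa [Nat.sub_sub_self hle] at this

end Cfsg.Lib.Linear.ClassScale
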