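import Mathlib

/-!
# Norm forms represent units in finite commutative rings
-/

set_option autoImplicit false

namespace Cfsg.Lib.Linear.HermitianNorm

theorem field_case {E : Type*} [Field E] [Finite E] (t n c : E) (hd : t ^ 2 - 4 * n ≠ 0) :
    ∃ a b : E, a ^ 2 + t * a * b + n * b ^ 2 = c := by
  haveI := Fintype.ofFinite E
  rcases eq_or_ne (ringChar E) 2 with h2 | h2
  · obtain ⟨a, ha⟩ := FiniteField.isSquare_of_char_two h2 c
    exact ⟨a, 0, by rw [ha]; ring⟩
  · have hodd : Fintype.card E % 2 = 1 := FiniteField.odd_card_of_char_ne_two h2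
    have hne : (2 : E) ≠ 0 := Ring.two_ne_zero h2
    obtain ⟨u, v, huv⟩ := FiniteField.exists_root_sum_quadratic (R := E)
      (f := Polynomial.C 1 * Polynomial.X ^ 2) (g := Polynomial.C (-(t ^ 2 - 4 * n)) * Polynomial.X ^ 2 + Polynomial.C (-(4 * c)))
      (Polynomial.degree_C_mul_X_pow 2 one_ne_zero)
      (by rw [Polynomial.degree_add_C (by rw [Polynomial.degree_C_mul_X_pow 2 (neg_ne_zero.mpr hd)]; norm_num),
            Polynomial.degree_C_mul_X_pow 2 (neg_ne_zero.mpr hd)]; rfl) hodd
    simp only [Polynomial.eval_add, Polynomial.eval_mul, Polynomial.eval_pow, Polynomial.eval_X, Polynomial.eval_C,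
      one_mul] at huv
    refine ⟨(u - t * v) / 2, v, ?_⟩
    field_simp
    linear_combination huv

theorem quadratic_bijective_nil {R : Type*} [CommRing R] [Finite R] (e c : R) (he : IsUnit e) {m : R}
    (hm : IsNilpotent m) : ∃ x : R, e * x + c * x ^ 2 = m := by
  let f : {x : R // IsNilpotent x} → {x : R // IsNilpotent x} := fun x =>
    ⟨e * x.1 + c * x.1 ^ 2, by
      have hx : (x.1 : R) ∈ nilradical R := x.2
      exact Ideal.add_mem _ (Ideal.mul_mem_left _ e hx)
        (by rw [pow_two, ← mul_assoc]; exact Ideal.mul_mem_left _ _ hx)⟩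
  have hinj : Function.Injective f := by
    intro x y h
    have h' : e * x.1 + c * x.1 ^ 2 = e * y.1 + c * y.1 ^ 2 := congrArg Subtype.val h
    have hn : IsNilpotent (c * (x.1 + y.1)) := Commute.isNilpotent_mul_left (Commute.all _ _)
      (Commute.isNilpotent_add (Commute.all _ _) x.2 y.2)
    have hu : IsUnit (e + c * (x.1 + y.1)) := hn.isUnit_add_left_of_commute he (Commute.all _ _)
    have h0 : (x.1 - y.1) * (e + c * (x.1 + y.1)) = 0 := by linear_combination h'
    exact Subtype.ext (sub_eq_zero.mp (hu.mul_left_eq_zero.mp h0))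
  obtain ⟨x, hx⟩ := (Finite.injective_iff_surjective.mp hinj) ⟨m, hm⟩
  exact ⟨x.1, congrArg Subtype.val hx⟩

/-- A nondegenerate binary norm form represents every unit. -/
theorem exists_repr {R : Type*} [CommRing R] [Finite R] (t n : R) (hd : IsUnit (t ^ 2 - 4 * n))
    (h2 : IsUnit (2 : R) ∨ (2 : R) = 0) {h : R} (hh : IsUnit h) :
    ∃ a b : R, a ^ 2 + t * a * b + n * b ^ 2 = h := by
  classical
  haveI : IsArtinianRing R := inferInstance
  let ψ := IsArtinianRing.quotNilradicalEquivPi R
  have hloc : ∀ I : MaximalSpectrum R, ∃ a b : R ⧸ I.asIdeal,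
      a ^ 2 + Ideal.Quotient.mk _ t * a * b + Ideal.Quotient.mk _ n * b ^ 2 = Ideal.Quotient.mk _ h := by
    intro I
    letI : Field (R ⧸ I.asIdeal) := Ideal.Quotient.field I.asIdeal
    haveI : Finite (R ⧸ I.asIdeal) := Finite.of_surjective _ Ideal.Quotient.mk_surjective
    refine field_case _ _ _ ?_
    have := (hd.map (Ideal.Quotient.mk I.asIdeal)).ne_zero
    simpa [map_ofNat] using this
  choose a b hab using hloc
  obtain ⟨a₀, ha₀⟩ := Ideal.Quotient.mk_surjective (ψ.symm a)
  obtain ⟨b₀, hb₀⟩ := Ideal.Quotient.mk_surjective (ψ.symm b)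
  have hmod : Ideal.Quotient.mk (nilradical R) (a₀ ^ 2 + t * a₀ * b₀ + n * b₀ ^ 2) =
      Ideal.Quotient.mk (nilradical R) h := by
    apply ψ.injective
    simp only [map_add, map_mul, map_pow, ha₀, hb₀, AlgEquiv.apply_symm_apply]
    funext I
    exact hab I
  rw [Ideal.Quotient.mk_eq_mk_iff_sub_mem] at hmod
  set Q := a₀ ^ 2 + t * a₀ * b₀ + n * b₀ ^ 2 with hQ
  have hQu : IsUnit Q := by
    have := IsNilpotent.isUnit_add_left_of_commute (hmod : IsNilpotent (Q - h)) hh (Commute.all _ _)
    simpa using this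
  obtain ⟨Qi, hQi⟩ := hQu.exists_left_inv
  have hm : IsNilpotent (Qi * (h - Q)) := by
    refine Commute.isNilpotent_mul_left (Commute.all _ _) ?_
    rw [← neg_sub]
    exact (show IsNilpotent (Q - h) from hmod).neg
  rcases h2 with h2 | h2
  · obtain ⟨x, hx⟩ := quadratic_bijective_nil 2 1 h2 hm
    exact ⟨(1 + x) * a₀, (1 + x) * b₀, by linear_combination Q * hx + (h - Q) * hQi⟩
  · have ht : IsUnit t := by
      have e : t ^ 2 - 4 * n = t * t := by linear_combination (-2 * n) * h2
      rw [e] at hd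
      exact isUnit_of_mul_isUnit_left hd
    obtain ⟨x, hx⟩ := quadratic_bijective_nil t n ht hm
    refine ⟨a₀ - n * b₀ * x, a₀ * x + b₀ + t * b₀ * x, ?_⟩
    linear_combination Q * hx + (h - Q) * hQi

end Cfsg.Lib.Linear.HermitianNorm
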