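import Cfsg.Agent.Lib.Linear.CanonicalForm

/-!
# A matrix is similar to its transpose
-/

set_option autoImplicit false

namespace Cfsg.Agent.Lib.Linear.TransposeSimilar

open Polynomial
open Cfsg.Lib
open scoped Matrix

universe u

variable {F : Type u} [Field F]

theorem exists_mul_top_coeff_ne_zero {f : F[X]} (hf : f.Monic) (z : AdjoinRoot f) (hz : z ≠ 0) :
    ∃ w, (AdjoinRoot.modByMonicHom hf (z * w)).coeff (f.natDegree - 1) ≠ 0 := by
  obtain ⟨g₀, rfl⟩ := AdjoinRoot.mk_surjective z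
  have hg0 : g₀ %ₘ f ≠ 0 := fun h => hz (AdjoinRoot.mk_eq_zero.mpr ((modByMonic_eq_zero_iff_dvd hf).mp h))
  have hmk : AdjoinRoot.mk f (g₀ %ₘ f) = AdjoinRoot.mk f g₀ := by
    rw [AdjoinRoot.mk_eq_mk, modByMonic_eq_sub_mul_div, sub_sub_cancel_left]
    exact (dvd_mul_right _ _).neg_right
  have hd : (g₀ %ₘ f).natDegree < f.natDegree := by
    have h1 : f.natDegree ≠ 0 := by
      intro h0
      rw [hf.natDegree_eq_zero.mp h0, modByMonic_one] at hg0
      exact hg0 rfl
    exact natDegree_modByMonic_lt _ hf (fun h => h1 (by rw [h, natDegree_one]))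
  refine ⟨AdjoinRoot.mk f (X ^ (f.natDegree - 1 - (g₀ %ₘ f).natDegree)), ?_⟩
  rw [← hmk, ← map_mul, AdjoinRoot.modByMonicHom_mk]
  have hdeg : ((g₀ %ₘ f) * X ^ (f.natDegree - 1 - (g₀ %ₘ f).natDegree)).natDegree = f.natDegree - 1 := by
    rw [natDegree_mul hg0 (pow_ne_zero _ X_ne_zero), natDegree_X_pow]
    omega
  rw [(modByMonic_eq_self_iff hf).mpr]
  · have h := leadingCoeff_ne_zero.mpr (mul_ne_zero hg0 (pow_ne_zero (f.natDegree - 1 - (g₀ %ₘ f).natDegree) X_ne_zero))
    rwa [leadingCoeff, hdeg] at h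
  · rw [degree_eq_natDegree hf.ne_zero, degree_eq_natDegree (mul_ne_zero hg0 (pow_ne_zero _ X_ne_zero)), hdeg]
    exact_mod_cast Nat.sub_lt (by omega) one_pos

/-- A matrix is self-adjoint for some non-degenerate matrix. -/
theorem exists_intertwiner {n : ℕ} (A : Matrix (Fin n) (Fin n) F) :
    ∃ S : Matrix (Fin n) (Fin n) F, S.det ≠ 0 ∧ S * A = Aᵀ * S := by
  classical
  obtain ⟨ι, hι, q, e, hq, -, -, Ψ, hΨ⟩ := CanonicalForm.exists_form A
  let φ : ∀ i, AdjoinRoot (q i ^ e i) →ₗ[F] F := fun i =>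
    (lcoeff F ((q i ^ e i).natDegree - 1)).comp (AdjoinRoot.modByMonicHom ((hq i).pow (e i)))
  let B : (Fin n → F) →ₗ[F] (Fin n → F) →ₗ[F] F :=
    LinearMap.mk₂ F (fun v w => ∑ i, φ i (Ψ v i * Ψ w i))
      (fun v v' w => by simp [add_mul, Finset.sum_add_distrib])
      (fun c v w => by simp [smul_mul_assoc, Finset.mul_sum])
      (fun v w w' => by simp [mul_add, Finset.sum_add_distrib])
      (fun c v w => by simp [mul_smul_comm, Finset.mul_sum])
  have hB : ∀ v w, B v w = ∑ i, φ i (Ψ v i * Ψ w i) := fun v w => rfl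
  have hadj : ∀ v w, B (A *ᵥ v) w = B v (A *ᵥ w) := fun v w => by
    rw [hB, hB]
    refine Finset.sum_congr rfl fun i _ => ?_
    rw [hΨ, hΨ, mul_assoc, mul_left_comm]
  let S : Matrix (Fin n) (Fin n) F := Matrix.of fun i j => B (Pi.single i 1) (Pi.single j 1)
  have hvec : ∀ v : Fin n → F, v = ∑ k, v k • (Pi.single k (1 : F) : Fin n → F) := fun v => pi_eq_sum_univ' v
  refine ⟨S, fun h0 => ?_, ?_⟩
  · obtain ⟨w, hw, hSw⟩ := Matrix.exists_mulVec_eq_zero_iff.mpr h0
    have h1 : ∀ v, B v w = 0 := by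
      intro v
      rw [hvec v, map_sum, LinearMap.sum_apply]
      refine Finset.sum_eq_zero fun k _ => ?_
      rw [map_smul, LinearMap.smul_apply]
      have := congrFun hSw k
      rw [Pi.zero_apply] at this
      conv_lhs => rw [hvec w, map_sum]
      rw [show ∑ j, B (Pi.single k 1) (w j • (Pi.single j (1 : F) : Fin n → F)) = (S *ᵥ w) k by
        simp [S, Matrix.mulVec, dotProduct, mul_comm], this, smul_zero]
    refine hw (Ψ.injective (funext fun i => ?_))
    rw [map_zero, Pi.zero_apply]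
    by_contra hne
    obtain ⟨z, hz⟩ := exists_mul_top_coeff_ne_zero ((hq i).pow (e i)) _ hne
    have h2 := h1 (Ψ.symm (Pi.single i z))
    rw [hB, Finset.sum_eq_single i] at h2
    · rw [LinearEquiv.apply_symm_apply, Pi.single_eq_same, mul_comm] at h2
      exact hz h2
    · intro j _ hj
      rw [LinearEquiv.apply_symm_apply, Pi.single_eq_of_ne hj, zero_mul, map_zero]
    · simp
  · ext i j
    have h := hadj (Pi.single i 1) (Pi.single j 1)
    rw [Matrix.mulVec_single_one, Matrix.mulVec_single_one, hvec (A.col i), hvec (A.col j), map_sum,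
      LinearMap.sum_apply, map_sum] at h
    simp only [map_smul, LinearMap.smul_apply, smul_eq_mul, Matrix.col_apply] at h
    simp only [Matrix.mul_apply, Matrix.transpose_apply, S, Matrix.of_apply]
    rw [h]
    exact Finset.sum_congr rfl fun k _ => mul_comm _ _

theorem isConj_transpose {m : Type*} [Fintype m] [DecidableEq m] (A : Matrix m m F) : IsConj A Aᵀ := by
  obtain ⟨S, hS, hSA⟩ := exists_intertwiner (Matrix.reindex (Fintype.equivFin m) (Fintype.equivFin m) A)
  have hu := (Matrix.isUnit_iff_isUnit_det S).mpr (Ne.isUnit hS)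
  have h : IsConj (Matrix.reindex (Fintype.equivFin m) (Fintype.equivFin m) A)
      (Matrix.reindex (Fintype.equivFin m) (Fintype.equivFin m) A)ᵀ := ⟨hu.unit, hSA⟩
  rw [Matrix.transpose_reindex] at h
  have h2 := (Matrix.reindexAlgEquiv F F (Fintype.equivFin m)).symm.toAlgHom.toMonoidHom.map_isConj h
  simpa using h2

end Cfsg.Agent.Lib.Linear.TransposeSimilar
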