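import Cfsg.Agent.Lib.Linear.CanonicalForm
import Mathlib.LinearAlgebra.Matrix.SpecialLinearGroup
import Mathlib.RingTheory.Polynomial.Basic

set_option autoImplicit false

namespace Cfsg.Agent.Lib.Linear.SemisimpleClasses

open Polynomial
open Cfsg.Lib

universe u

variable {F : Type u} [Field F]

theorem coeff_zero_monicEquiv {n : ℕ} (hn : n ≠ 0) (g : { g : F[X] // g.Monic ∧ g.natDegree = n }) :
    ((monicEquivDegreeLT n g : degreeLT F n) : F[X]).coeff 0 = g.1.coeff 0 := by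
  show g.1.eraseLead.coeff 0 = g.1.coeff 0
  rw [eraseLead_coeff_of_ne _ (by rw [g.2.2]; exact hn.symm)]

/-- The number of monic polynomials of degree `m + 1` with constant term in a given set. -/
theorem card_monic_coeff_zero [Fintype F] (m : ℕ) (S : Set F) :
    Nat.card { g : F[X] // g.Monic ∧ g.natDegree = m + 1 ∧ g.coeff 0 ∈ S } =
      Nat.card S * Fintype.card F ^ m := by
  let e₀ : { g : F[X] // g.Monic ∧ g.natDegree = m + 1 } ≃ (Fin (m + 1) → F) :=
    (monicEquivDegreeLT (m + 1)).trans (degreeLTEquiv F (m + 1)).toEquiv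
  have he : ∀ g, e₀ g 0 = g.1.coeff 0 := fun g => coeff_zero_monicEquiv (Nat.succ_ne_zero m) g
  let e₁ : { g : F[X] // g.Monic ∧ g.natDegree = m + 1 ∧ g.coeff 0 ∈ S } ≃
      { v : Fin (m + 1) → F // v 0 ∈ S } :=
    { toFun := fun g => ⟨e₀ ⟨g.1, g.2.1, g.2.2.1⟩, by rw [he]; exact g.2.2.2⟩
      invFun := fun v => ⟨(e₀.symm v.1).1, (e₀.symm v.1).2.1, (e₀.symm v.1).2.2, by
        rw [← he, Equiv.apply_symm_apply]; exact v.2⟩
      left_inv := fun g => Subtype.ext (show (e₀.symm (e₀ ⟨g.1, g.2.1, g.2.2.1⟩)).1 = g.1 by rw [Equiv.symm_apply_apply])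
      right_inv := fun v => Subtype.ext (e₀.apply_symm_apply v.1) }
  let e₂ : { v : Fin (m + 1) → F // v 0 ∈ S } ≃ S × (Fin m → F) :=
    { toFun := fun v => (⟨v.1 0, v.2⟩, Fin.tail v.1)
      invFun := fun x => ⟨Fin.cons x.1.1 x.2, by simp [x.1.2]⟩
      left_inv := fun v => Subtype.ext (Fin.cons_self_tail v.1)
      right_inv := fun x => by simp [Prod.ext_iff] }
  rw [Nat.card_congr (e₁.trans e₂), Nat.card_prod, Nat.card_fun, Nat.card_fin, Nat.card_eq_fintype_card (α := F)]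

theorem cast_ne_zero_of_coprime {p m : ℕ} [Fact p.Prime] [CharP F p] (h : m.Coprime p) : (m : F) ≠ 0 := fun h0 =>
  (Fact.out : p.Prime).not_dvd_one (h ▸ Nat.dvd_gcd ((CharP.cast_eq_zero_iff F p m).mp h0) dvd_rfl)

theorem isConj_units_of_isConj {M : Type*} [Monoid M] (g h : Mˣ) (hc : IsConj (g : M) (h : M)) : IsConj g h := by
  obtain ⟨c, hc⟩ := hc
  exact isConj_iff.mpr ⟨c, by rw [mul_inv_eq_iff_eq_mul]; exact Units.ext hc⟩

theorem charpoly_eq_of_isConj {n : ℕ} {A B : Matrix (Fin n) (Fin n) F} (h : IsConj A B) :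
    A.charpoly = B.charpoly := by
  obtain ⟨c, hc⟩ := h
  have : B = (c : Matrix (Fin n) (Fin n) F) * A * (↑c⁻¹ : Matrix (Fin n) (Fin n) F) := by
    rw [(show (c : Matrix (Fin n) (Fin n) F) * A = B * c from hc), mul_assoc, Units.mul_inv, mul_one]
  rw [this]
  rw [Matrix.coe_units_inv]
  exact (Matrix.charpoly_units_conj c A).symm

theorem isConj_GL [Fintype F] {p n : ℕ} [Fact p.Prime] [CharP F p] (g h : GL (Fin n) F)
    (hg : (orderOf g).Coprime p) (hh : (orderOf h).Coprime p)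
    (hc : (g : Matrix (Fin n) (Fin n) F).charpoly = (h : Matrix (Fin n) (Fin n) F).charpoly) : IsConj g h := by
  refine isConj_units_of_isConj g h (CanonicalForm.isConj_of_charpoly_eq (orderOf g) (orderOf h)
    (cast_ne_zero_of_coprime hg) (cast_ne_zero_of_coprime hh) ?_ ?_ hc)
  · rw [← Units.val_pow_eq_pow_val, pow_orderOf_eq_one, Units.val_one]
  · rw [← Units.val_pow_eq_pow_val, pow_orderOf_eq_one, Units.val_one]

theorem exists_GL [Fintype F] {p n : ℕ} [Fact p.Prime] [CharP F p] (P : F[X]) (h1 : P.Monic)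
    (h2 : P.natDegree = n) (h0 : P.coeff 0 ≠ 0) :
    ∃ g : GL (Fin n) F, (g : Matrix (Fin n) (Fin n) F).charpoly = P ∧ (orderOf g).Coprime p := by
  obtain ⟨A, hA, m, hm, hAm⟩ := CanonicalForm.exists_semisimple p P h1 h2 h0
  have hdet : A.det ≠ 0 := by
    rw [Matrix.det_eq_sign_charpoly_coeff, hA]
    exact mul_ne_zero (pow_ne_zero _ (neg_ne_zero.mpr one_ne_zero)) h0
  refine ⟨Matrix.GeneralLinearGroup.mkOfDetNeZero A hdet, hA, hm.coprime_dvd_left (orderOf_dvd_of_pow_eq_one ?_)⟩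
  exact Units.ext (by rw [Units.val_pow_eq_pow_val, Units.val_one]; exact hAm)

end Cfsg.Agent.Lib.Linear.SemisimpleClasses
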