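import Cfsg.Agent.Lib.Linear.SympConj
import Cfsg.Agent.Lib.Linear.SemisimpleClasses

/-!
# Semisimple conjugacy in symplectic groups
-/

set_option autoImplicit false

namespace Cfsg.Lib.Linear.SympConj

open scoped Matrix

variable {F : Type*} [Field F] [Fintype F] {m : ℕ}

theorem isConj_sp_of_isConj (A B : Matrix.symplecticGroup (Fin m) F) (hN : ((orderOf A : ℕ) : F) ≠ 0)
    (h : IsConj (A : Matrix (Fin m ⊕ Fin m) (Fin m ⊕ Fin m) F) (B : Matrix (Fin m ⊕ Fin m) (Fin m ⊕ Fin m) F)) :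
    IsConj A B := by
  classical
  set a : Matrix (Fin m ⊕ Fin m) (Fin m ⊕ Fin m) F := (A : Matrix (Fin m ⊕ Fin m) (Fin m ⊕ Fin m) F) with ha
  set b : Matrix (Fin m ⊕ Fin m) (Fin m ⊕ Fin m) F := (B : Matrix (Fin m ⊕ Fin m) (Fin m ⊕ Fin m) F) with hb
  set J : Matrix (Fin m ⊕ Fin m) (Fin m ⊕ Fin m) F := Matrix.J (Fin m) F with hJdef
  obtain ⟨c, hc⟩ := h
  set T : Matrix (Fin m ⊕ Fin m) (Fin m ⊕ Fin m) F := (c : Matrix (Fin m ⊕ Fin m) (Fin m ⊕ Fin m) F) with hTdef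
  have hTab : T * a = b * T := hc
  have hJi : (-J) * J = 1 := by rw [hJdef, Matrix.neg_mul, Matrix.J_squared, neg_neg]
  have hJu : IsUnit J := IsUnit.of_mul_eq_one_right _ hJi
  have hJT : Jᵀ = -J := Matrix.J_transpose _ _
  have hJalt : ∀ u, u ⬝ᵥ (J *ᵥ u) = 0 := fun u => by
    simp only [hJdef, Matrix.J, dotProduct, Matrix.fromBlocks_mulVec, Fintype.sum_sum_type, Sum.elim_inl, Sum.elim_inr,
      Matrix.zero_mulVec, Matrix.neg_mulVec, Matrix.one_mulVec, zero_add, add_zero, Pi.neg_apply,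
      Function.comp_apply, mul_neg, Finset.sum_neg_distrib]
    rw [Finset.sum_congr rfl (fun i _ => mul_comm (u (Sum.inl i)) (u (Sum.inr i)))]
    ring
  have haJ : aᵀ * J * a = J := SymplecticGroup.mem_iff'.mp A.2
  have hbJ : bᵀ * J * b = J := SymplecticGroup.mem_iff'.mp B.2
  set H : Matrix (Fin m ⊕ Fin m) (Fin m ⊕ Fin m) F := (-J) * (Tᵀ * J * T) with hH
  have hJH : J * H = Tᵀ * J * T := by
    rw [hH, ← mul_assoc, mul_neg, hJdef, Matrix.J_squared, neg_neg, one_mul]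
  have hTu : IsUnit T := c.isUnit
  have hHu : IsUnit H := hJu.neg.mul (((Matrix.isUnit_transpose T).mpr hTu).mul hJu |>.mul hTu)
  have hHalt : ∀ u, u ⬝ᵥ ((J * H) *ᵥ u) = 0 := fun u => by
    rw [hJH, ← Matrix.mulVec_mulVec, ← Matrix.mulVec_mulVec, Matrix.dotProduct_mulVec, Matrix.vecMul_transpose]
    exact hJalt _
  have hHT : Hᵀ * J = J * H := by
    have h1 : (J * H)ᵀ = -(J * H) := by
      rw [hJH, Matrix.transpose_mul, Matrix.transpose_mul, Matrix.transpose_transpose, hJT]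
      simp only [neg_mul, mul_neg, mul_assoc]
    rw [Matrix.transpose_mul, hJT, mul_neg, neg_inj] at h1
    exact h1
  have hkey : aᵀ * (J * H) * a = J * H := by
    rw [hJH]
    calc aᵀ * (Tᵀ * J * T) * a = (T * a)ᵀ * J * (T * a) := by rw [Matrix.transpose_mul]; simp only [mul_assoc]
      _ = Tᵀ * (bᵀ * J * b) * T := by rw [hTab, Matrix.transpose_mul]; simp only [mul_assoc]
      _ = Tᵀ * J * T := by rw [hbJ]
  set ai : Matrix (Fin m ⊕ Fin m) (Fin m ⊕ Fin m) F := ((A⁻¹ : Matrix.symplecticGroup (Fin m) F) : Matrix (Fin m ⊕ Fin m) (Fin m ⊕ Fin m) F)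
  have hai : a * ai = 1 := congrArg Subtype.val (mul_inv_cancel A)
  have haT : aᵀ * J = J * ai := by
    calc aᵀ * J = aᵀ * J * (a * ai) := by rw [hai, mul_one]
      _ = J * ai := by rw [← mul_assoc, haJ]
  have hHA : Commute a H := by
    have h1 : J * (ai * H * a) = J * H := by
      rw [← hkey]; simp only [← mul_assoc]; rw [haT]
    have h2 := hJu.mul_left_cancel h1
    show a * H = H * a
    calc a * H = a * (ai * H * a) := by rw [h2]
      _ = H * a := by rw [← mul_assoc, ← mul_assoc, hai, one_mul]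
  obtain ⟨S, hSu, hSa, hSJ⟩ := exists_factor hN
    (by rw [ha, ← SubmonoidClass.coe_pow, pow_orderOf_eq_one]; rfl) hJu hJT hJalt haJ hai hHu hHalt hHA hHT
  obtain ⟨Su, rfl⟩ := hSu
  set Si : Matrix (Fin m ⊕ Fin m) (Fin m ⊕ Fin m) F := ((Su⁻¹ : (Matrix (Fin m ⊕ Fin m) (Fin m ⊕ Fin m) F)ˣ) : Matrix (Fin m ⊕ Fin m) (Fin m ⊕ Fin m) F)
  have hSS : (Su : Matrix (Fin m ⊕ Fin m) (Fin m ⊕ Fin m) F) * Si = 1 := Su.mul_inv
  have hSS' : Si * (Su : Matrix (Fin m ⊕ Fin m) (Fin m ⊕ Fin m) F) = 1 := Su.inv_mul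
  have hUmem : T * Si ∈ Matrix.symplecticGroup (Fin m) F := by
    rw [SymplecticGroup.mem_iff']
    calc (T * Si)ᵀ * J * (T * Si) = Siᵀ * (Tᵀ * J * T) * Si := by rw [Matrix.transpose_mul]; simp only [mul_assoc]
      _ = Siᵀ * ((Su : Matrix (Fin m ⊕ Fin m) (Fin m ⊕ Fin m) F)ᵀ * J * (Su : Matrix (Fin m ⊕ Fin m) (Fin m ⊕ Fin m) F)) * Si := by rw [hSJ, hJH]
      _ = ((Su : Matrix (Fin m ⊕ Fin m) (Fin m ⊕ Fin m) F) * Si)ᵀ * J * ((Su : Matrix (Fin m ⊕ Fin m) (Fin m ⊕ Fin m) F) * Si) := by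
          rw [Matrix.transpose_mul]; simp only [mul_assoc]
      _ = J := by rw [hSS, Matrix.transpose_one, one_mul, mul_one]
  refine isConj_iff.mpr ⟨⟨_, hUmem⟩, ?_⟩
  rw [mul_inv_eq_iff_eq_mul]
  refine Subtype.ext ?_
  show T * Si * a = b * (T * Si)
  have hSia : Si * a = a * Si := (hSa.units_inv_right).eq.symm
  rw [mul_assoc, hSia, ← mul_assoc, hTab, mul_assoc]

theorem isConj_matrix_of_charpoly_eq (A B : Matrix.symplecticGroup (Fin m) F) {k l : ℕ} (hk : (k : F) ≠ 0)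
    (hl : (l : F) ≠ 0) (hA : A ^ k = 1) (hB : B ^ l = 1)
    (hc : (A : Matrix (Fin m ⊕ Fin m) (Fin m ⊕ Fin m) F).charpoly =
      (B : Matrix (Fin m ⊕ Fin m) (Fin m ⊕ Fin m) F).charpoly) :
    IsConj (A : Matrix (Fin m ⊕ Fin m) (Fin m ⊕ Fin m) F) (B : Matrix (Fin m ⊕ Fin m) (Fin m ⊕ Fin m) F) := by
  classical
  let e := Matrix.reindexAlgEquiv F F (finSumFinEquiv : Fin m ⊕ Fin m ≃ Fin (m + m))
  have h := Cfsg.Lib.CanonicalForm.isConj_of_charpoly_eq (A := e (A : Matrix (Fin m ⊕ Fin m) (Fin m ⊕ Fin m) F)) (B := e (B : Matrix (Fin m ⊕ Fin m) (Fin m ⊕ Fin m) F)) k l hk hl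
    (by rw [← map_pow, ← SubmonoidClass.coe_pow, hA]; exact map_one e)
    (by rw [← map_pow, ← SubmonoidClass.coe_pow, hB]; exact map_one e)
    (by rw [Matrix.reindexAlgEquiv_apply, Matrix.reindexAlgEquiv_apply, Matrix.charpoly_reindex,
      Matrix.charpoly_reindex, hc])
  have h' := MonoidHom.map_isConj e.symm.toAlgHom.toRingHom.toMonoidHom h
  simpa using h'

end Cfsg.Lib.Linear.SympConj
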