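import Cfsg.Agent.Lib.Linear.ClassNumberGL

/-!
# The tuple of a class of `GL_n(q)` is unique

The ranks of the powers of the irreducible polynomials in `A` determine the primary form of `A`.
-/

set_option autoImplicit false

universe u

namespace Cfsg.Lib.Linear.ClassTuples

open Polynomial Cfsg.Lib Cfsg.Lib.Linear.ClassNumberGL Cfsg.Agent.Lib.Linear

variable {F : Type u} [Field F]

theorem finrank_range_same (Y : F[X]) (hY : Y.Monic) (e k : ℕ) :
    Module.finrank F (LinearMap.range (LinearMap.mulLeft F (AdjoinRoot.mk (Y ^ e) (Y ^ k)))) =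
      (e - k) * Y.natDegree := by
  haveI : Module.Finite F (AdjoinRoot (Y ^ e)) := (hY.pow e).finite_adjoinRoot
  rcases Nat.lt_or_ge e k with hk | hk
  · have h0 : AdjoinRoot.mk (Y ^ e) (Y ^ k) = 0 := AdjoinRoot.mk_eq_zero.mpr (pow_dvd_pow _ hk.le)
    rw [h0, LinearMap.mulLeft_zero_eq_zero, LinearMap.range_zero, finrank_bot, Nat.sub_eq_zero_of_le hk.le, zero_mul]
  · let π := (AdjoinRoot.algHomOfDvd (R := F) (Y ^ e) (Y ^ k) (pow_dvd_pow _ hk)).toLinearMap
    have hπ : ∀ g, π (AdjoinRoot.mk (Y ^ e) g) = AdjoinRoot.mk (Y ^ k) g := by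
      intro g
      show AdjoinRoot.algHomOfDvd (R := F) (Y ^ e) (Y ^ k) (pow_dvd_pow _ hk) (AdjoinRoot.mk (Y ^ e) g) = _
      rw [← AdjoinRoot.aeval_eq, ← AdjoinRoot.aeval_eq, ← Polynomial.aeval_algHom_apply]
      simp
    have hker : LinearMap.ker π = LinearMap.range (LinearMap.mulLeft F (AdjoinRoot.mk (Y ^ e) (Y ^ k))) := by
      ext z
      obtain ⟨g, rfl⟩ := AdjoinRoot.mk_surjective z
      rw [LinearMap.mem_ker, hπ, AdjoinRoot.mk_eq_zero, LinearMap.mem_range]
      constructor
      · rintro ⟨c, rfl⟩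
        exact ⟨AdjoinRoot.mk _ c, (map_mul _ _ _).symm⟩
      · rintro ⟨w, hw⟩
        obtain ⟨c, rfl⟩ := AdjoinRoot.mk_surjective w
        rw [LinearMap.mulLeft_apply, ← map_mul, AdjoinRoot.mk_eq_mk] at hw
        obtain ⟨d, hd⟩ := hw
        refine ⟨c - Y ^ (e - k) * d, ?_⟩
        have he : Y ^ e = Y ^ k * Y ^ (e - k) := by rw [← pow_add, Nat.add_sub_cancel' hk]
        rw [he] at hd
        linear_combination -hd
    have hsurj : LinearMap.range π = ⊤ := LinearMap.range_eq_top.mpr fun z => by
      obtain ⟨g, rfl⟩ := AdjoinRoot.mk_surjective z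
      exact ⟨AdjoinRoot.mk _ g, hπ g⟩
    have h := LinearMap.finrank_range_add_finrank_ker π
    rw [hsurj, finrank_top, hker, (AdjoinRoot.powerBasis' (hY.pow k)).finrank,
      (AdjoinRoot.powerBasis' (hY.pow e)).finrank] at h
    simp only [AdjoinRoot.powerBasis'_dim, hY.natDegree_pow] at h
    rw [Nat.sub_mul]
    omega

theorem finrank_range_other (f g : F[X]) (hf : f.Monic) (h : IsCoprime g f) :
    Module.finrank F (LinearMap.range (LinearMap.mulLeft F (AdjoinRoot.mk f g))) = f.natDegree := by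
  obtain ⟨a, b, hab⟩ := h
  have hs : LinearMap.range (LinearMap.mulLeft F (AdjoinRoot.mk f g)) = ⊤ := LinearMap.range_eq_top.mpr fun z => by
    refine ⟨AdjoinRoot.mk f a * z, ?_⟩
    rw [LinearMap.mulLeft_apply, ← mul_assoc, ← map_mul]
    have h1 : AdjoinRoot.mk f (g * a) = AdjoinRoot.mk f 1 := AdjoinRoot.mk_eq_mk.2 ⟨-b, by linear_combination hab⟩
    rw [h1, map_one, one_mul]
  rw [hs, finrank_top, (AdjoinRoot.powerBasis' hf).finrank, AdjoinRoot.powerBasis'_dim]

theorem finrank_range_aeval {n : ℕ} {A : Matrix (Fin n) (Fin n) F} {ι : Type u} [Fintype ι] {f : ι → F[X]}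
    (hf : ∀ i, (f i).Monic) (h : CanonicalForm.HasForm A f) (g : F[X]) :
    Module.finrank F (LinearMap.range (Polynomial.aeval A g).mulVecLin) =
      ∑ i, Module.finrank F (LinearMap.range (LinearMap.mulLeft F (AdjoinRoot.mk (f i) g))) := by
  classical
  obtain ⟨Ψ, hΨ⟩ := h
  haveI : ∀ i, Module.Finite F (AdjoinRoot (f i)) := fun i => (hf i).finite_adjoinRoot
  let μ := fun i => LinearMap.mulLeft F (AdjoinRoot.mk (f i) g)
  have he : (LinearMap.range (Polynomial.aeval A g).mulVecLin).map Ψ.toLinearMap =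
      Submodule.pi Set.univ fun i => LinearMap.range (μ i) := by
    ext z
    constructor
    · rintro ⟨w, ⟨v, rfl⟩, rfl⟩ i -
      exact ⟨Ψ v i, (CanonicalForm.HasForm.aeval hΨ g v i).symm⟩
    · intro hz
      choose y hy using fun i => hz i (Set.mem_univ i)
      refine ⟨_, ⟨Ψ.symm y, rfl⟩, funext fun i => ?_⟩
      show Ψ _ i = _
      rw [Matrix.mulVecLin_apply, CanonicalForm.HasForm.aeval hΨ, LinearEquiv.apply_symm_apply]
      exact hy i
  let e2 : Submodule.pi Set.univ (fun i => LinearMap.range (μ i)) ≃ₗ[F] ∀ i, LinearMap.range (μ i) :=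
    { toFun := fun z i => ⟨z.1 i, z.2 i (Set.mem_univ i)⟩
      invFun := fun z => ⟨fun i => (z i).1, fun i _ => (z i).2⟩
      left_inv := fun z => rfl
      right_inv := fun z => rfl
      map_add' := fun _ _ => rfl
      map_smul' := fun _ _ => rfl }
  rw [← LinearEquiv.finrank_map_eq Ψ, he, e2.finrank_eq, Module.finrank_pi_fintype]

variable [Fintype F]

theorem IsTupleOf.unique {n : ℕ} {g : GL (Fin n) F} {t t' : Tup F n n} (hg : IsTupleOf g t)
    (hg' : IsTupleOf g t') : t = t' := by
  classical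
  obtain ⟨ι, hι, p, e, hp, he, hform, ht⟩ := hg
  obtain ⟨ι', hι', p', e', hp', he', hform', ht'⟩ := hg'
  have key : ∀ {τ : Type u} [Fintype τ] (p : τ → F[X]) (e : τ → ℕ), (∀ i, (p i).Monic ∧ Irreducible (p i)) →
      CanonicalForm.HasForm g.1 (fun i => p i ^ e i) → ∀ Y : F[X], Y.Monic → Irreducible Y → ∀ k,
      Module.finrank F (LinearMap.range (Polynomial.aeval g.1 (Y ^ k)).mulVecLin) =
        Module.finrank F (LinearMap.range (Polynomial.aeval g.1 (Y ^ (k + 1))).mulVecLin) +
          Y.natDegree * (Finset.univ.filter fun i => p i = Y ∧ k < e i).card := by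
    intro τ _ p e hp h Y hY hYi k
    rw [finrank_range_aeval (fun i => (hp i).1.pow _) h, finrank_range_aeval (fun i => (hp i).1.pow _) h,
      Finset.card_filter, Finset.mul_sum, ← Finset.sum_add_distrib]
    refine Finset.sum_congr rfl fun i _ => ?_
    by_cases hi : p i = Y
    · rw [hi, finrank_range_same Y hY, finrank_range_same Y hY]
      by_cases hk : k < e i
      · rw [if_pos ⟨rfl, hk⟩, mul_one, ← Nat.succ_mul]
        congr 1
        omega
      · rw [if_neg (fun h => hk h.2), mul_zero, add_zero, Nat.sub_eq_zero_of_le (by omega : e i ≤ k),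
          Nat.sub_eq_zero_of_le (by omega : e i ≤ k + 1)]
    · have hco : IsCoprime Y (p i) := by
        refine hYi.coprime_iff_not_dvd.2 fun hd => hi ?_
        exact (eq_of_monic_of_associated hY (hp i).1 (hYi.associated_of_dvd (hp i).2 hd)).symm
      rw [finrank_range_other _ _ ((hp i).1.pow _) hco.pow, finrank_range_other _ _ ((hp i).1.pow _) hco.pow,
        if_neg (fun h => hi h.1), mul_zero, add_zero]
  refine Subtype.ext (funext fun j => ?_)
  rw [ht, ht']
  congr 1
  refine Multiset.ext.2 fun Y => ?_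
  rw [← count_pair, ← count_pair]
  by_cases hY : Y.Monic ∧ Irreducible Y
  · have split : ∀ {τ : Type u} [Fintype τ] (p : τ → F[X]) (e : τ → ℕ),
        (Finset.univ.filter fun i => p i = Y ∧ j.val < e i).card =
        Multiset.count (Y, j.val + 1) ((Finset.univ : Finset τ).val.map fun i => (p i, e i)) +
          (Finset.univ.filter fun i => p i = Y ∧ j.val + 1 < e i).card := by
      intro τ _ p e
      rw [Multiset.count_map, ← Finset.filter_val, ← Finset.card_def, Finset.card_filter, Finset.card_filter,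
        Finset.card_filter, ← Finset.sum_add_distrib]
      refine Finset.sum_congr rfl fun i _ => ?_
      by_cases hi : p i = Y
      · simp only [hi, true_and, Prod.mk.injEq]
        split_ifs <;> omega
      · simp [hi, Prod.mk.injEq, Ne.symm hi]
    have hd : 0 < Y.natDegree := hY.2.natDegree_pos
    have heq : ∀ k, (Finset.univ.filter fun i => p i = Y ∧ k < e i).card =
        (Finset.univ.filter fun i => p' i = Y ∧ k < e' i).card := fun k =>
      Nat.eq_of_mul_eq_mul_left hd (Nat.add_left_cancel ((key p e hp hform Y hY.1 hY.2 k).symm.trans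
        (key p' e' hp' hform' Y hY.1 hY.2 k)))
    have h1 := split p e
    have h2 := split p' e'
    rw [heq j.val, heq (j.val + 1)] at h1
    omega
  · rw [Multiset.count_eq_zero.2, Multiset.count_eq_zero.2] <;>
    · intro hmem
      obtain ⟨i, -, hi⟩ := Multiset.mem_map.1 hmem
      apply hY
      have h2 := congrArg Prod.fst hi
      simp only at h2
      rw [← h2]
      first
        | exact hp i
        | exact hp' i

end Cfsg.Lib.Linear.ClassTuples
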