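import Cfsg.Agent.Lib.Linear.ClassNumberGL

/-!
# Weighted counts of tuples with given constant

`idx t` bounds the number of classes of `SL_n(q)` in the class of `GL_n(q)` with tuple `t`, and `cst t` is the
determinant up to sign. The sum of `idx` over the tuples with given constant is at most the average of `idx ^ 2`.
-/

set_option autoImplicit false

universe u

namespace Cfsg.Lib.Linear.ClassWeight

open Polynomial Cfsg.Lib Cfsg.Lib.Linear.ClassNumberGL

variable {F : Type u} [Field F] [Fintype F]

instance (J n : ℕ) : Finite (Tup F J n) := (finite_card_tup J n).1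

noncomputable instance (J n : ℕ) : Fintype (Tup F J n) := Fintype.ofFinite _

/-- The entries which are not constant. -/
noncomputable def supp {n : ℕ} (t : Tup F n n) : Finset (Fin n) :=
  Finset.univ.filter fun j => (t.1 j).natDegree ≠ 0

/-- The bound for the number of classes of `SL_n(q)` with tuple `t`. -/
noncomputable def idx {n : ℕ} (t : Tup F n n) : ℕ :=
  Nat.gcd (Fintype.card F - 1) ((supp t).gcd fun j => j.val + 1)

/-- The product of the powers of the constant terms. -/
noncomputable def cst {n : ℕ} (t : Tup F n n) : Fˣ :=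
  ∏ j, Units.mk0 ((t.1 j).coeff 0) (t.2.1 j).2 ^ (j.val + 1)

omit [Fintype F] in
theorem eq_one_of_notMem {n : ℕ} {t : Tup F n n} {j : Fin n} (hj : j ∉ supp t) : t.1 j = 1 :=
  (t.2.1 j).1.natDegree_eq_zero.1 (by simpa [supp] using hj)

omit [Fintype F] in
theorem coeff_zero_of_notMem {n : ℕ} {t : Tup F n n} {j : Fin n} (hj : j ∉ supp t) :
    Units.mk0 ((t.1 j).coeff 0) (t.2.1 j).2 = 1 :=
  Units.ext (show (t.1 j).coeff 0 = 1 by rw [eq_one_of_notMem hj, coeff_one_zero])

theorem two_le_card : 2 ≤ Fintype.card F := Fintype.one_lt_card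

theorem idx_dvd {n : ℕ} (t : Tup F n n) : idx t ∣ n := by
  have h : ∀ j, idx t ∣ (j.val + 1) * (t.1 j).natDegree := fun j => by
    by_cases hj : j ∈ supp t
    · exact Dvd.dvd.mul_right ((Nat.gcd_dvd_right _ _).trans (Finset.gcd_dvd hj)) _
    · rw [show (t.1 j).natDegree = 0 by simpa [supp] using hj, mul_zero]
      exact dvd_zero _
  conv_rhs => rw [← t.2.2]
  exact Finset.dvd_sum fun j _ => h j

/-- The sum of `idx` over the tuples with constant `s`. -/
noncomputable def weight (n : ℕ) (s : Fˣ) : ℕ :=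
  open scoped Classical in ∑ t ∈ (Finset.univ : Finset (Tup F n n)).filter (fun t => cst t = s), idx t

theorem mul_weight_le (n : ℕ) (s : Fˣ) :
    (Fintype.card F - 1) * weight n s ≤ ∑ t : Tup F n n, idx t ^ 2 := by
  classical
  rw [weight, ← Finset.sum_fiberwise _ supp, ← Finset.sum_fiberwise (Finset.univ : Finset (Tup F n n)) supp,
    Finset.mul_sum]
  refine Finset.sum_le_sum fun S _ => ?_
  set i := Nat.gcd (Fintype.card F - 1) (S.gcd fun j => j.val + 1) with hi
  set X := (Finset.univ : Finset (Tup F n n)).filter fun t => supp t = S with hX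
  set Y := ((Finset.univ : Finset (Tup F n n)).filter fun t => cst t = s).filter fun t => supp t = S with hY
  rw [Finset.sum_congr rfl (g := fun _ => i) (fun t ht => by rw [idx, (Finset.mem_filter.1 ht).2]),
    Finset.sum_congr rfl (s₁ := X) (g := fun _ => i ^ 2) (fun t ht => by rw [idx, (Finset.mem_filter.1 ht).2]),
    Finset.sum_const, Finset.sum_const, smul_eq_mul, smul_eq_mul]
  let h : (Fin n → Fˣ) →* Fˣ :=
    { toFun := fun c => ∏ j ∈ S, c j ^ (j.val + 1)
      map_one' := by simp
      map_mul' := fun c d => by simp [mul_pow, Finset.prod_mul_distrib] }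
  have hidx : Fintype.card F - 1 ≤ i * Nat.card h.range := by
    have hcard : h.range.index ∣ i := by
      refine Nat.dvd_gcd ?_ (Finset.dvd_gcd fun j hj => ?_)
      · rw [← Fintype.card_units, ← Nat.card_eq_fintype_card]
        exact Subgroup.index_dvd_card _
      · have : IsCyclic (Fˣ ⧸ h.range) := isCyclic_of_surjective _ (QuotientGroup.mk'_surjective h.range)
        rw [Subgroup.index_eq_card, ← IsCyclic.exponent_eq_card]
        refine Monoid.exponent_dvd_of_forall_pow_eq_one fun x => ?_
        obtain ⟨y, rfl⟩ := QuotientGroup.mk_surjective x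
        rw [← QuotientGroup.mk_pow, QuotientGroup.eq_one_iff]
        refine ⟨Function.update 1 j y, ?_⟩
        show ∏ k ∈ S, _ = _
        rw [Finset.prod_eq_single_of_mem j hj (fun k _ hk => by simp [Function.update_of_ne hk])]
        simp
    have hipos : 0 < i := Nat.gcd_pos_of_pos_left _ (by have := two_le_card (F := F); omega)
    have := h.range.card_mul_index
    rw [Nat.card_eq_fintype_card (α := Fˣ), Fintype.card_units] at this
    rw [← this, mul_comm]
    exact Nat.mul_le_mul_right _ (Nat.le_of_dvd hipos hcard)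
  -- scaling the constant terms in `S`
  choose c hc using fun z : h.range => z.2
  let sc : h.range × {t // t ∈ Y} → Fin n → F[X] := fun z j =>
    if j ∈ S then z.2.1.1 j + C (((c z.1 j : Fˣ) : F) * (z.2.1.1 j).coeff 0 - (z.2.1.1 j).coeff 0) else z.2.1.1 j
  have hsupp : ∀ z : h.range × {t // t ∈ Y}, supp z.2.1 = S := fun z => (Finset.mem_filter.1 z.2.2).2
  have hdeg : ∀ z j, (sc z j).natDegree = (z.2.1.1 j).natDegree := fun z j => by
    simp only [sc]; split_ifs
    exacts [natDegree_add_C, rfl]
  have hmonic : ∀ z j, (sc z j).Monic := fun z j => by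
    simp only [sc]; split_ifs with hj
    · refine (z.2.1.2.1 j).1.add_of_left (lt_of_le_of_lt degree_C_le (natDegree_pos_iff_degree_pos.1 ?_))
      rw [← hsupp z, supp, Finset.mem_filter] at hj
      exact Nat.pos_of_ne_zero hj.2
    · exact (z.2.1.2.1 j).1
  have hcoeff : ∀ z j, (sc z j).coeff 0 =
      (if j ∈ S then ((c z.1 j : Fˣ) : F) else 1) * (z.2.1.1 j).coeff 0 := fun z j => by
    simp only [sc]; split_ifs with hj <;> simp
  let sc' : h.range × {t // t ∈ Y} → Tup F n n := fun z => ⟨sc z, fun j => ⟨hmonic z j, by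
      rw [hcoeff]
      refine mul_ne_zero ?_ (z.2.1.2.1 j).2
      split_ifs <;> simp⟩,
    by simp only [hdeg]; exact z.2.1.2.2⟩
  have hsupp' : ∀ z, supp (sc' z) = S := fun z => by
    rw [← hsupp z]
    exact Finset.filter_congr fun j _ => by rw [show ((sc' z).1 j).natDegree = _ from hdeg z j]
  have hcst : ∀ z, cst (sc' z) = z.1.1 * s := fun z => by
    have hs : cst z.2.1 = s := (Finset.mem_filter.1 (Finset.mem_filter.1 z.2.2).1).2
    rw [← hc z.1, ← hs]
    show cst (sc' z) = (∏ j ∈ S, c z.1 j ^ (j.val + 1)) * cst z.2.1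
    rw [cst, cst, ← Finset.prod_subset (Finset.subset_univ S) (fun j _ hj => by
        rw [coeff_zero_of_notMem (by rw [hsupp']; exact hj), one_pow]),
      ← Finset.prod_subset (Finset.subset_univ S) (fun j _ hj => by
        rw [coeff_zero_of_notMem (by rw [hsupp]; exact hj), one_pow]),
      ← Finset.prod_mul_distrib]
    refine Finset.prod_congr rfl fun j hj => ?_
    rw [← mul_pow]
    refine congrArg (· ^ _) (Units.ext ?_)
    show (sc z j).coeff 0 = _
    rw [hcoeff, if_pos hj]
    rfl
  have hinj : Function.Injective sc' := by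
    intro z w hzw
    have h1 : z.1 = w.1 := Subtype.ext (mul_right_cancel ((hcst z).symm.trans ((congrArg cst hzw).trans (hcst w))))
    refine Prod.ext h1 (Subtype.ext (Subtype.ext (funext fun j => ?_)))
    have h2 : sc z j = sc w j := congrFun (congrArg Subtype.val hzw) j
    have h3 : (sc z j).coeff 0 = (sc w j).coeff 0 := by rw [h2]
    rw [hcoeff, hcoeff, h1] at h3
    have h4 := mul_left_cancel₀ (by split_ifs <;> simp) h3
    simp only [sc, h1, h4] at h2
    split_ifs at h2
    · exact add_right_cancel h2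
    · exact h2
  have hle : Nat.card h.range * Y.card ≤ X.card := by
    have := Nat.card_le_card_of_injective (fun z => (⟨sc' z, by simp [hX, hsupp']⟩ : {t // t ∈ X}))
      (fun a b hab => hinj (congrArg Subtype.val hab))
    rwa [Nat.card_prod, Nat.card_eq_finsetCard, Nat.card_eq_finsetCard] at this
  calc (Fintype.card F - 1) * (Y.card * i) ≤ i * Nat.card h.range * (Y.card * i) := Nat.mul_le_mul_right _ hidx
    _ = Nat.card h.range * Y.card * i ^ 2 := by ring
    _ ≤ X.card * i ^ 2 := Nat.mul_le_mul_right _ hle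

theorem card_tup_le (n : ℕ) : Fintype.card (Tup F n n) ≤ N (Fintype.card F) n n := by
  rw [← Nat.card_eq_fintype_card]
  exact (finite_card_tup n n).2

open scoped Classical in
theorem card_dvd_le (n d : ℕ) (hd : 0 < d) (hdn : d ∣ n) :
    ((Finset.univ : Finset (Tup F n n)).filter fun t => ∀ j ∈ supp t, d ∣ j.val + 1).card ≤
      N (Fintype.card F) (n / d) (n / d) := by
  obtain ⟨m, rfl⟩ := hdn
  rw [Nat.mul_div_cancel_left _ hd]
  let e : Fin m → Fin (d * m) := fun j => ⟨d * (j.val + 1) - 1, by
    have : d * (j.val + 1) ≤ d * m := Nat.mul_le_mul_left d j.2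
    have : d ≤ d * (j.val + 1) := Nat.le_mul_of_pos_right d j.val.succ_pos
    omega⟩
  have he : ∀ j, (e j).val + 1 = d * (j.val + 1) := fun j => by
    have : d ≤ d * (j.val + 1) := Nat.le_mul_of_pos_right d j.val.succ_pos
    show d * (j.val + 1) - 1 + 1 = _
    omega
  have hinj : Function.Injective e := fun a b h => by
    have := congrArg (fun x : Fin (d * m) => x.val + 1) h
    simp only [he] at this
    exact Fin.ext (Nat.succ_injective (Nat.eq_of_mul_eq_mul_left hd this))
  have hrange : ∀ (t : Tup F (d * m) (d * m)), (∀ j ∈ supp t, d ∣ j.val + 1) → ∀ j ∉ Set.range e,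
      (t.1 j).natDegree = 0 := fun t ht j hj => by
    by_contra hne
    obtain ⟨k, hk⟩ := ht j (by simp [supp, hne])
    have hk1 : 1 ≤ k := Nat.pos_of_ne_zero (by rintro rfl; simp at hk)
    have hk2 : k ≤ m := Nat.le_of_mul_le_mul_left (by rw [← hk]; exact j.2) hd
    refine hj ⟨⟨k - 1, by omega⟩, Fin.ext ?_⟩
    show d * (k - 1 + 1) - 1 = j.val
    rw [Nat.sub_add_cancel hk1]
    omega
  let φ : {t // t ∈ (Finset.univ : Finset (Tup F (d * m) (d * m))).filter fun t => ∀ j ∈ supp t, d ∣ j.val + 1} →
      Tup F m m := fun t => ⟨fun j => t.1.1 (e j), fun j => t.1.2.1 _, Nat.eq_of_mul_eq_mul_left hd (by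
    rw [Finset.mul_sum]
    conv_rhs => rw [← t.1.2.2]
    refine Fintype.sum_of_injective e hinj _ _ (fun j hj => ?_) fun j => ?_
    · rw [hrange t.1 (Finset.mem_filter.1 t.2).2 j hj, mul_zero]
    · rw [he, mul_assoc])⟩
  have hφ : Function.Injective φ := by
    intro s t hst
    refine Subtype.ext (Subtype.ext (funext fun j => ?_))
    by_cases hj : j ∈ Set.range e
    · obtain ⟨k, rfl⟩ := hj
      exact congrFun (congrArg Subtype.val hst) k
    · rw [(s.1.2.1 j).1.natDegree_eq_zero.1 (hrange s.1 (Finset.mem_filter.1 s.2).2 j hj),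
        (t.1.2.1 j).1.natDegree_eq_zero.1 (hrange t.1 (Finset.mem_filter.1 t.2).2 j hj)]
  have := Nat.card_le_card_of_injective φ hφ
  rw [Nat.card_eq_finsetCard] at this
  exact this.trans (finite_card_tup m m).2

theorem mul_weight_le_divisors (n : ℕ) (hn : 1 ≤ n) (s : Fˣ) :
    (Fintype.card F - 1) * weight n s ≤ N (Fintype.card F) n n +
      ∑ d ∈ (Nat.gcd n (Fintype.card F - 1)).divisors.erase 1, (d ^ 2 - 1) * N (Fintype.card F) (n / d) (n / d) := by
  classical
  set D := (Nat.gcd n (Fintype.card F - 1)).divisors.erase 1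
  have hpt : ∀ t : Tup F n n, idx t ^ 2 ≤
      1 + ∑ d ∈ D, if (∀ j ∈ supp t, d ∣ j.val + 1) then d ^ 2 - 1 else 0 := fun t => by
    by_cases h1 : idx t = 1
    · rw [h1]; simp
    have hmem : idx t ∈ D := Finset.mem_erase.2 ⟨h1, Nat.mem_divisors.2
      ⟨Nat.dvd_gcd (idx_dvd t) (Nat.gcd_dvd_left _ _), (Nat.gcd_pos_of_pos_left _ hn).ne'⟩⟩
    have h2 := Finset.single_le_sum (f := fun d => if (∀ j ∈ supp t, d ∣ j.val + 1) then d ^ 2 - 1 else 0)
      (fun _ _ => Nat.zero_le _) hmem
    have hall : ∀ j ∈ supp t, idx t ∣ j.val + 1 := fun j hj => (Nat.gcd_dvd_right _ _).trans (Finset.gcd_dvd hj)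
    rw [if_pos hall] at h2
    omega
  refine (mul_weight_le n s).trans ((Finset.sum_le_sum fun t _ => hpt t).trans ?_)
  rw [Finset.sum_add_distrib, Finset.sum_comm]
  refine Nat.add_le_add (by simpa using card_tup_le n) (Finset.sum_le_sum fun d hd => ?_)
  rw [← Finset.sum_filter, Finset.sum_const, smul_eq_mul, mul_comm]
  have hd' := Nat.mem_divisors.1 (Finset.mem_erase.1 hd).2
  exact Nat.mul_le_mul_left _ (card_dvd_le n d (Nat.pos_of_dvd_of_pos hd'.1 (Nat.gcd_pos_of_pos_left _ hn))
    (hd'.1.trans (Nat.gcd_dvd_left _ _)))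

end Cfsg.Lib.Linear.ClassWeight
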