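import Mathlib
import Cfsg.Agent.Lib.Linear.SLBasic
import Cfsg.Agent.Lib.Linear.UnitaryCenter

/-!
Primes of elements commuting with an element of order the characteristic in projective linear and unitary groups.
-/

set_option autoImplicit false

namespace Cfsg.Lib.Linear.CommutingPElt

open scoped Matrix

/-- A matrix with pairwise distinct eigenvalues commutes with no non-zero nilpotent matrix. -/
theorem eq_zero_of_nodup_roots {L : Type*} [Field L] [IsAlgClosed L] {n : ℕ} (B N : Matrix (Fin n) (Fin n) L)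
    (hB : B.charpoly.roots.Nodup) (hc : Commute B N) (hN : IsNilpotent N) : N = 0 := by
  classical
  have hcard : B.charpoly.roots.toFinset.card = n := by
    rw [Multiset.toFinset_card_of_nodup hB, ← (IsAlgClosed.splits B.charpoly).natDegree_eq_card_roots,
      Matrix.charpoly_natDegree_eq_dim, Fintype.card_fin]
  let f : Module.End L (Fin n → L) := Matrix.toLin' B
  have hev : ∀ μ : B.charpoly.roots.toFinset, f.HasEigenvalue (μ : L) := fun μ => by
    rw [Module.End.hasEigenvalue_iff_isRoot_charpoly, Matrix.charpoly_toLin']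
    exact (Polynomial.mem_roots (Matrix.charpoly_monic B).ne_zero).1 (Multiset.mem_toFinset.1 μ.2)
  choose v hv using fun μ => (hev μ).exists_hasEigenvector
  have hli : LinearIndependent L v :=
    Module.End.eigenvectors_linearIndependent' f (fun μ : B.charpoly.roots.toFinset => (μ : L))
      (fun a b h => Subtype.ext h) v hv
  let b : Module.Basis B.charpoly.roots.toFinset L (Fin n → L) :=
    basisOfLinearIndependentOfCardEqFinrank' v hli (by rw [Fintype.card_coe, hcard]; simp)
  have hb : ∀ μ, b μ = v μ := fun μ => by simp [b]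
  have key : ∀ μ, N *ᵥ v μ = 0 := by
    intro μ
    have hBv : ∀ ν, B *ᵥ v ν = (ν : L) • v ν := fun ν => (hv ν).apply_eq_smul
    set w := N *ᵥ v μ with hw
    have hBw : B *ᵥ w = (μ : L) • w := by
      rw [hw, Matrix.mulVec_mulVec, hc.eq, ← Matrix.mulVec_mulVec, hBv, Matrix.mulVec_smul]
    have hco : ∀ ν, ν ≠ μ → b.repr w ν = 0 := by
      intro ν hνμ
      have h := congrArg (fun x => b.repr x ν) hBw
      have e : B *ᵥ w = ∑ i, (b.repr w i * (i : L)) • b i := by
        conv_lhs => rw [← b.sum_repr w]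
        rw [Matrix.mulVec_sum]
        exact Finset.sum_congr rfl fun i _ => by rw [Matrix.mulVec_smul, hb, hBv, smul_smul]
      rw [e] at h
      simp only [b.repr_sum_self, map_smul, Finsupp.smul_apply, smul_eq_mul] at h
      have h' : b.repr w ν * ((ν : L) - (μ : L)) = 0 := by linear_combination h
      rcases mul_eq_zero.1 h' with h'' | h''
      · exact h''
      · exact absurd (Subtype.ext (sub_eq_zero.1 h'')) hνμ
    have hwe : w = b.repr w μ • v μ := by
      conv_lhs => rw [← b.sum_repr w]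
      rw [Finset.sum_eq_single μ (fun ν _ h => by rw [hco ν h, zero_smul]) (by simp), hb]
    obtain ⟨k, hk⟩ := hN
    have hpow : ∀ j : ℕ, (N ^ j) *ᵥ v μ = b.repr w μ ^ j • v μ := by
      intro j
      induction j with
      | zero => simp
      | succ j ih =>
        rw [pow_succ', ← Matrix.mulVec_mulVec, ih, Matrix.mulVec_smul, ← hw]
        conv_lhs => arg 2; rw [hwe]
        rw [smul_smul, pow_succ]
    have h0 := hpow k
    rw [hk, Matrix.zero_mulVec] at h0
    rcases smul_eq_zero.1 h0.symm with h | h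
    · rw [hwe, (pow_eq_zero_iff'.1 h).1, zero_smul]
    · exact absurd h (hv μ).2
  have : Matrix.toLin' N = 0 := b.ext fun μ => by rw [hb, Matrix.toLin'_apply, key, LinearMap.zero_apply]
  exact Matrix.toLin'.map_eq_zero_iff.1 this

/-- Roots of unity of prime order closed under an exponent of large order have no room for multiplicities. -/
theorem nodup_of_closed {L : Type*} [Field L] {n r : ℕ} [Fact r.Prime] (hn : 3 ≤ n) (M : Multiset L)
    (hcard : M.card = n) (hprod : M.prod = 1) (hord : ∀ x ∈ M, x ^ r = 1) (e : ℤ)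
    (hcl : ∀ x ∈ M, x ^ e ∈ M) (he0 : (e : ZMod r) ≠ 0)
    (he : ∀ j : ℕ, 1 ≤ j → j ≤ n - 2 → (e : ZMod r) ^ j ≠ 1) {x : L} (hx : x ∈ M) (hx1 : x ≠ 1) : M.Nodup := by
  classical
  have hxr : x ^ r = 1 := hord x hx
  have hord' : orderOf x = r := orderOf_eq_prime hxr hx1
  have hx0 : x ≠ 0 := fun h => by rw [h, zero_pow (Fact.out : r.Prime).ne_zero] at hxr; exact zero_ne_one hxr
  let u : Lˣ := Units.mk0 x hx0
  have hu : orderOf u = r := by rw [← orderOf_units]; exact hord'
  let S : ℕ → L := fun i => x ^ (e ^ i)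
  have hS : ∀ i, S i ∈ M := by
    intro i
    induction i with
    | zero => simpa [S] using hx
    | succ i ih =>
      have := hcl _ ih
      simpa [S, pow_succ, zpow_mul] using this
  have hSeq : ∀ a b : ℤ, x ^ a = x ^ b ↔ (a : ZMod r) = (b : ZMod r) := by
    intro a b
    have h1 : x ^ a = x ^ b ↔ u ^ a = u ^ b := by
      rw [Units.ext_iff, Units.val_zpow_eq_zpow_val, Units.val_zpow_eq_zpow_val]; rfl
    rw [h1, zpow_eq_zpow_iff_modEq, hu, ZMod.intCast_eq_intCast_iff]
  have hne : ∀ i j, i < j → j ≤ n - 1 → (j - i = n - 1 → (e : ZMod r) ^ (n - 1) ≠ 1) → S i ≠ S j := by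
    intro i j hij hj hlast h
    rw [hSeq] at h
    push_cast at h
    have hj' : (e : ZMod r) ^ i * (e : ZMod r) ^ (j - i) = (e : ZMod r) ^ i * 1 := by
      rw [← pow_add, Nat.add_sub_cancel' hij.le, mul_one, h]
    have h1 := mul_left_cancel₀ (pow_ne_zero i he0) hj'
    by_cases hd : j - i = n - 1
    · exact hlast hd (hd ▸ h1)
    · exact he (j - i) (by omega) (by omega) h1
  let T : Finset L := (Finset.range (n - 1)).image S
  have hinj : Set.InjOn S (Finset.range (n - 1) : Set ℕ) := by
    intro i hi j hj h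
    simp only [Finset.coe_range, Set.mem_Iio] at hi hj
    rcases lt_trichotomy i j with hl | hl | hl
    · exact absurd h (hne i j hl (by omega) (by omega))
    · exact hl
    · exact absurd h.symm (hne j i hl (by omega) (by omega))
  have hTcard : T.card = n - 1 := by rw [Finset.card_image_of_injOn hinj, Finset.card_range]
  have hTM : T.val ≤ M := (Multiset.le_iff_subset T.nodup).2 fun y hy => by
    obtain ⟨i, -, rfl⟩ := (Finset.mem_image (f := S) (s := Finset.range (n - 1))).1 hy
    exact hS i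
  by_cases hlast : (e : ZMod r) ^ (n - 1) = 1
  · obtain ⟨R, hR⟩ := Multiset.le_iff_exists_add.1 hTM
    have hRc : R.card = 1 := by
      have := congrArg Multiset.card hR
      rw [Multiset.card_add, hcard, Finset.card_val, hTcard] at this
      omega
    obtain ⟨y, rfl⟩ := Multiset.card_eq_one.1 hRc
    have hTprod : T.val.prod = 1 := by
      rw [Finset.prod_val T]
      rw [Finset.prod_image hinj]
      simp only [id]
      have hzp : ∀ l : ℕ, ∏ i ∈ Finset.range l, S i = x ^ (∑ i ∈ Finset.range l, e ^ i) := by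
        intro l
        induction l with
        | zero => simp
        | succ l ih => rw [Finset.prod_range_succ, ih, Finset.sum_range_succ, zpow_add₀ hx0]
      rw [hzp, ← zpow_zero x, hSeq]
      push_cast
      have h1 : ((e : ZMod r) - 1) ≠ 0 := fun h => he 1 le_rfl (by omega) (by rw [pow_one]; linear_combination h)
      apply mul_left_cancel₀ h1
      rw [mul_geom_sum, hlast, sub_self, mul_zero]
    have hy : y = 1 := by
      have := hprod
      rwa [hR, Multiset.prod_add, hTprod, one_mul, Multiset.prod_singleton] at this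
    rw [hR, Multiset.nodup_add]
    refine ⟨T.nodup, Multiset.nodup_singleton y, ?_⟩
    rw [Multiset.disjoint_singleton, hy]
    intro h1
    obtain ⟨i, -, hi⟩ := (Finset.mem_image (f := S) (s := Finset.range (n - 1))).1 h1
    rw [show (1 : L) = x ^ (0 : ℤ) by simp] at hi
    have := (hSeq _ _).1 hi
    push_cast at this
    exact pow_ne_zero i he0 this
  · let T' : Finset L := (Finset.range n).image S
    have hinj' : Set.InjOn S (Finset.range n : Set ℕ) := by
      intro i hi j hj h
      simp only [Finset.coe_range, Set.mem_Iio] at hi hj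
      rcases lt_trichotomy i j with hl | hl | hl
      · exact absurd h (hne i j hl (by omega) (fun _ => hlast))
      · exact hl
      · exact absurd h.symm (hne j i hl (by omega) (fun _ => hlast))
    have hT' : T'.val ≤ M := (Multiset.le_iff_subset T'.nodup).2 fun y hy => by
      obtain ⟨i, -, rfl⟩ := (Finset.mem_image (f := S) (s := Finset.range n)).1 hy
      exact hS i
    have := Multiset.eq_of_le_of_card_le hT'
      (by rw [hcard, Finset.card_val, Finset.card_image_of_injOn hinj', Finset.card_range])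
    rw [← this]
    exact T'.nodup

/-- The engine: closed eigenvalue sets force commuting unipotent elements to be trivial. -/
theorem no_commuting {F : Type*} [Field F] {p n r : ℕ} [Fact p.Prime] [CharP F p] [Fact r.Prime] (hrp : r ≠ p)
    (hn : 3 ≤ n) (B u : Matrix (Fin n) (Fin n) F) (hdet : B.det = 1) (hBr : B ^ r = 1) (hB1 : B ≠ 1)
    (hu : u ^ p = 1) (hu1 : u ≠ 1) (hc : Commute B u) (e : ℤ) (he0 : (e : ZMod r) ≠ 0)
    (he : ∀ j : ℕ, 1 ≤ j → j ≤ n - 2 → (e : ZMod r) ^ j ≠ 1)
    (hcl : ∀ x : AlgebraicClosure F, x ≠ 0 →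
      ((B.map (algebraMap F (AlgebraicClosure F))) - Matrix.scalar (Fin n) x).det = 0 →
      ((B.map (algebraMap F (AlgebraicClosure F))) - Matrix.scalar (Fin n) (x ^ e)).det = 0) : False := by
  classical
  set K := AlgebraicClosure F with hK
  set φ := algebraMap F K
  have : CharP K p := charP_of_injective_algebraMap φ.injective p
  set B' := B.map φ with hB'
  set u' := u.map φ with hu'
  have hn0 : Nonempty (Fin n) := ⟨⟨0, by omega⟩⟩
  have hB'r : B' ^ r = 1 := by rw [hB', ← RingHom.mapMatrix_apply, ← map_pow, hBr, map_one]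
  have hroot : ∀ x : K, x ∈ B'.charpoly.roots ↔ (B' - Matrix.scalar (Fin n) x).det = 0 := by
    intro x
    rw [Polynomial.mem_roots (Matrix.charpoly_monic B').ne_zero, Polynomial.IsRoot, Matrix.eval_charpoly,
      ← neg_sub B', Matrix.det_neg, mul_eq_zero, or_iff_right (pow_ne_zero _ (by norm_num))]
  have hordr : ∀ x ∈ B'.charpoly.roots, x ^ r = 1 := by
    intro x hx
    have hd : (Polynomial.X ^ r - 1 : Polynomial K).aeval B' = 0 := by simp [hB'r]
    have hx' : x ∈ spectrum K B' := Matrix.mem_spectrum_of_isRoot_charpoly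
      ((Polynomial.mem_roots (Matrix.charpoly_monic B').ne_zero).1 hx)
    have := spectrum.subset_polynomial_aeval B' (Polynomial.X ^ r - 1 : Polynomial K) ⟨x, hx', rfl⟩
    rw [hd, spectrum.zero_eq, Set.mem_singleton_iff] at this
    simpa [sub_eq_zero] using this
  have hprod : B'.charpoly.roots.prod = 1 := by
    rw [← Matrix.det_eq_prod_roots_charpoly, hB', ← RingHom.mapMatrix_apply, ← RingHom.map_det, hdet, map_one]
  have hcard : B'.charpoly.roots.card = n := by
    rw [← (IsAlgClosed.splits B'.charpoly).natDegree_eq_card_roots, Matrix.charpoly_natDegree_eq_dim, Fintype.card_fin]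
  obtain ⟨x, hx, hx1⟩ : ∃ x ∈ B'.charpoly.roots, x ≠ 1 := by
    by_contra hall
    push Not at hall
    have hrep : B'.charpoly.roots = Multiset.replicate n 1 := Multiset.eq_replicate.2 ⟨hcard, hall⟩
    have hcp : B'.charpoly = (Polynomial.X - Polynomial.C 1) ^ n := by
      rw [(IsAlgClosed.splits B'.charpoly).eq_prod_roots_of_monic (Matrix.charpoly_monic B'), hrep,
        Multiset.map_replicate, Multiset.prod_replicate]
    have hnil : (B' - 1) ^ n = 0 := by
      have := Matrix.aeval_self_charpoly B'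
      rw [hcp] at this
      simpa using this
    have h2 : (B' - 1) * (∑ i ∈ Finset.range r, B' ^ i) = 0 := by rw [mul_geom_sum, hB'r, sub_self]
    have hunit : IsUnit (∑ i ∈ Finset.range r, B' ^ i) := by
      have hd : ∀ i : ℕ, IsNilpotent (B' ^ i - 1) := fun i => by
        rw [← mul_geom_sum]
        exact (Commute.sum_right (Finset.range i) _ (B' - 1) fun j _ =>
          ((Commute.refl B').sub_left (Commute.one_left _)).pow_right j).isNilpotent_mul_right ⟨n, hnil⟩
      have hsum : IsNilpotent ((∑ i ∈ Finset.range r, B' ^ i) - (r : Matrix (Fin n) (Fin n) K)) := by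
        rw [show ((r : Matrix (Fin n) (Fin n) K)) = ∑ i ∈ Finset.range r, (1 : Matrix (Fin n) (Fin n) K) by simp,
          ← Finset.sum_sub_distrib]
        exact Commute.isNilpotent_sum (fun i _ => hd i) fun i j _ _ =>
          ((Commute.pow_pow_self B' i j).sub_left (Commute.one_left _)).sub_right (Commute.one_right _)
      have hrK : (r : K) ≠ 0 := fun h => hrp ((Nat.prime_dvd_prime_iff_eq Fact.out Fact.out).1
        ((CharP.cast_eq_zero_iff K p r).1 h)).symm
      have hru : IsUnit ((r : Matrix (Fin n) (Fin n) K)) := by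
        rw [show (r : Matrix (Fin n) (Fin n) K) = algebraMap K (Matrix (Fin n) (Fin n) K) (r : K) from (map_natCast _ r).symm]
        exact (IsUnit.mk0 _ hrK).map _
      have := hsum.isUnit_add_left_of_commute hru ((Nat.commute_cast _ r))
      simpa using this
    have : B' - 1 = 0 := hunit.mul_left_eq_zero.1 h2
    apply hB1
    exact Matrix.map_injective φ.injective (by
      show B' = (1 : Matrix (Fin n) (Fin n) F).map φ
      rw [Matrix.map_one φ φ.map_zero φ.map_one]; exact sub_eq_zero.1 this)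
  have hnd : B'.charpoly.roots.Nodup := by
    refine nodup_of_closed hn _ hcard hprod hordr e (fun y hy => ?_) he0 he hx hx1
    refine (hroot _).2 (hcl y (fun h0 => ?_) ((hroot y).1 hy))
    have := hordr y hy
    rw [h0, zero_pow (Fact.out : r.Prime).ne_zero] at this
    exact zero_ne_one this
  have hnilu : IsNilpotent (u' - 1) := ⟨p, by
    rw [sub_pow_char_of_commute p (Commute.one_right u'), one_pow, hu', ← RingHom.mapMatrix_apply, ← map_pow, hu,
      map_one, sub_self]⟩
  have h0 := eq_zero_of_nodup_roots B' (u' - 1) hnd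
    (((hc.map φ.mapMatrix)).sub_right (Commute.one_right _)) hnilu
  apply hu1
  exact Matrix.map_injective φ.injective (by
    show u' = (1 : Matrix (Fin n) (Fin n) F).map φ
    rw [Matrix.map_one φ φ.map_zero φ.map_one]; exact sub_eq_zero.1 h0)

/-- Commuting with an element of order `p` lifts through a centre without elements of order `p`. -/
theorem lift_commuting {E : Type*} [Group E] [Finite E] {p r : ℕ} [Fact p.Prime] [Fact r.Prime]
    (hZ : ∀ z ∈ Subgroup.center E, z ^ p = 1 → z = 1) {a b : E ⧸ Subgroup.center E} (ha : orderOf a = p)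
    (hab : Commute a b) (hr : r ∣ orderOf b) : ∃ B u : E, orderOf B = r ∧ orderOf u = p ∧ Commute B u := by
  obtain ⟨A, rfl⟩ := QuotientGroup.mk_surjective a
  obtain ⟨B₀, rfl⟩ := QuotientGroup.mk_surjective b
  let f : Subgroup.center E → Subgroup.center E := fun z => z ^ p
  have hf : Function.Bijective f := Finite.injective_iff_bijective.1 fun z w h => by
    have e : ((z * w⁻¹ : Subgroup.center E) : E) ^ p = 1 := by
      rw [← SubmonoidClass.coe_pow,
        (show Commute z w⁻¹ from Subtype.ext (Subgroup.mem_center_iff.1 (w⁻¹).2 (z : E))).mul_pow, inv_pow, show z ^ p = w ^ p from h, mul_inv_cancel]; rfl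
    exact mul_inv_eq_one.1 (Subtype.ext (hZ _ (z * w⁻¹).2 e))
  have hAp : A ^ p ∈ Subgroup.center E := by
    rw [← QuotientGroup.eq_one_iff, QuotientGroup.mk_pow, ← ha, pow_orderOf_eq_one]
  obtain ⟨w, hw⟩ := hf.2 ⟨A ^ p, hAp⟩
  set u := A * ((w : E))⁻¹ with hu
  have hup : u ^ p = 1 := by
    rw [hu, (show Commute A (w : E)⁻¹ from (Subgroup.mem_center_iff.1 (inv_mem w.2) A)).mul_pow, inv_pow,
      show ((w : E)) ^ p = A ^ p from congrArg Subtype.val hw, mul_inv_cancel]
  have hmk : (QuotientGroup.mk u : E ⧸ Subgroup.center E) = QuotientGroup.mk A := by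
    rw [QuotientGroup.eq, hu, mul_inv_rev, inv_inv, mul_assoc, inv_mul_cancel, mul_one]; exact w.2
  have hu1 : u ≠ 1 := by
    intro h
    rw [h, QuotientGroup.mk_one] at hmk
    rw [← hmk, orderOf_one] at ha
    exact (Fact.out : p.Prime).one_lt.ne ha
  have hcomm : Commute B₀ u := by
    have hz : B₀ * u * B₀⁻¹ * u⁻¹ ∈ Subgroup.center E := by
      rw [← QuotientGroup.eq_one_iff, QuotientGroup.mk_mul, QuotientGroup.mk_mul, QuotientGroup.mk_mul,
        QuotientGroup.mk_inv, QuotientGroup.mk_inv, hmk, ← hab.eq]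
      group
    have hc := Subgroup.mem_center_iff.1 hz
    have h1 : (B₀ * u * B₀⁻¹ * u⁻¹) ^ p = 1 := by
      have : (B₀ * u * B₀⁻¹) ^ p = 1 := by
        rw [show B₀ * u * B₀⁻¹ = MulAut.conj B₀ u from rfl, ← map_pow, hup, map_one]
      have e : B₀ * u * B₀⁻¹ = (B₀ * u * B₀⁻¹ * u⁻¹) * u := by group
      rw [e, (show Commute (B₀ * u * B₀⁻¹ * u⁻¹) u from (hc u).symm).mul_pow, hup, mul_one] at this
      exact this
    have := hZ _ hz h1
    rw [mul_inv_eq_one, mul_inv_eq_iff_eq_mul] at this
    exact this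
  have hr' : r ∣ orderOf B₀ := hr.trans (orderOf_map_dvd (QuotientGroup.mk' (Subgroup.center E)) B₀)
  refine ⟨B₀ ^ (orderOf B₀ / r), u, ?_, orderOf_eq_prime hup hu1, hcomm.pow_left _⟩
  exact orderOf_pow_orderOf_div (orderOf_pos B₀).ne' hr'

section Linear

variable {F : Type*} [Field F] [Fintype F] (p : ℕ) [Fact p.Prime] [CharP F p]

theorem dvd_card_SL {n r : ℕ} (hn : 2 ≤ n) {j : ℕ} (hj1 : 1 ≤ j) (hjn : j ≤ n)
    (hr : r ∣ Fintype.card F ^ j - 1) : r ∣ Nat.card (Matrix.SpecialLinearGroup (Fin n) F) := by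
  set q := Fintype.card F
  obtain ⟨m, rfl⟩ : ∃ m, n = m + 1 := ⟨n - 1, by omega⟩
  have hq : 0 < q - 1 := by have := Fintype.one_lt_card (α := F); omega
  have h := card_SL_mul (F := F) (m + 1) (by omega)
  rw [Fin.prod_univ_castSucc] at h
  have hlast : q ^ (m + 1) - q ^ m = (q - 1) * q ^ m := by rw [Nat.sub_mul, one_mul, pow_succ']
  simp only [Fin.val_last, Fin.coe_castSucc] at h
  rw [hlast, mul_comm (∏ x : Fin m, _), mul_assoc] at h
  rw [Nat.eq_of_mul_eq_mul_left hq h]
  obtain ⟨i, hi⟩ : ∃ i : Fin m, r ∣ q ^ (m + 1 - i.val) - 1 := by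
    rcases Nat.lt_or_ge j 2 with hj | hj
    · refine ⟨⟨m - 1, by omega⟩, ?_⟩
      have hj' : j = 1 := by omega
      subst hj'
      rw [show m + 1 - (m - 1) = 2 by omega]
      exact hr.trans (by simpa using Nat.sub_dvd_pow_sub_pow q 1 2)
    · exact ⟨⟨m + 1 - j, by omega⟩, by simpa [show m + 1 - (m + 1 - j) = j by omega] using hr⟩
  refine Dvd.dvd.mul_left (hi.trans (Dvd.dvd.trans ?_ (Finset.dvd_prod_of_mem _ (Finset.mem_univ i)))) _
  refine ⟨q ^ i.val, ?_⟩
  rw [Nat.sub_mul, one_mul, ← pow_add, Nat.sub_add_cancel (by omega : i.val ≤ m + 1)]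

theorem p_dvd_card_SL {n : ℕ} (hn : 2 ≤ n) : p ∣ Nat.card (Matrix.SpecialLinearGroup (Fin n) F) := by
  set i : Fin n := ⟨0, by omega⟩
  set j : Fin n := ⟨1, by omega⟩
  have hij : i ≠ j := by simp [i, j, Fin.ext_iff]
  let t : Matrix.SpecialLinearGroup (Fin n) F := Matrix.SpecialLinearGroup.transvection hij 1
  have ht : orderOf t = p := by
    refine orderOf_eq_prime ?_ fun h => ?_
    · have hk : ∀ k : ℕ, t ^ k = Matrix.SpecialLinearGroup.transvection hij (k : F) := by
        intro k
        induction k with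
        | zero => exact Subtype.ext (by simp [Matrix.SpecialLinearGroup.transvection])
        | succ k ih =>
          rw [pow_succ, ih]
          refine Subtype.ext ?_
          show Matrix.transvection i j (k : F) * Matrix.transvection i j 1 = Matrix.transvection i j ((k + 1 : ℕ) : F)
          rw [Matrix.transvection_mul_transvection_same _ _ hij, Nat.cast_succ]
      rw [hk, CharP.cast_eq_zero F p]
      exact Subtype.ext (by simp [Matrix.SpecialLinearGroup.transvection])
    · have := congrArg (fun g : Matrix.SpecialLinearGroup (Fin n) F => (g : Matrix (Fin n) (Fin n) F) i j) h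
      simp [t, Matrix.SpecialLinearGroup.transvection, Matrix.transvection, hij] at this
  exact ht ▸ orderOf_dvd_natCard t

theorem main_psl {n : ℕ} (hn : 4 ≤ n) (a b : Matrix.ProjectiveSpecialLinearGroup (Fin n) F) (ha : orderOf a = p)
    (hab : Commute a b) :
    (orderOf b).primeFactors ⊆ (Nat.card (Matrix.SpecialLinearGroup (Fin (n - 2)) F)).primeFactors := by
  intro r hr
  obtain ⟨hrp', hrb, -⟩ := Nat.mem_primeFactors.1 hr
  have : Fact r.Prime := ⟨hrp'⟩
  refine Nat.mem_primeFactors.2 ⟨hrp', ?_, Nat.card_pos.ne'⟩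
  by_contra hnot
  have hrp : r ≠ p := fun h => hnot (h ▸ p_dvd_card_SL p (by omega))
  have : Nonempty (Fin n) := ⟨⟨0, by omega⟩⟩
  have hZ : ∀ z ∈ Subgroup.center (Matrix.SpecialLinearGroup (Fin n) F), z ^ p = 1 → z = 1 := by
    intro z hz hzp
    obtain ⟨c, -, hc⟩ := Matrix.SpecialLinearGroup.mem_center_iff.1 hz
    have h1 : ((z ^ p : Matrix.SpecialLinearGroup (Fin n) F) : Matrix (Fin n) (Fin n) F) = 1 := by rw [hzp]; rfl
    rw [Matrix.SpecialLinearGroup.coe_pow, ← hc, ← map_pow, ← map_one (Matrix.scalar (Fin n))] at h1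
    have h2 : c = 1 := frobenius_inj F p (by simpa [frobenius_def] using Matrix.scalar_inj.1 h1)
    exact Subtype.ext (by rw [← hc, h2, map_one]; rfl)
  obtain ⟨B, u, hB, hu, hc⟩ := lift_commuting (p := p) (r := r) hZ ha hab hrb
  set q := Fintype.card F with hq
  have hq1 : 1 < q := Fintype.one_lt_card
  have hnr : ∀ j, 1 ≤ j → j ≤ n - 2 → ((q : ℤ) : ZMod r) ^ j ≠ 1 := fun j h1 h2 h => hnot (by
    refine dvd_card_SL (n := n - 2) (by omega) h1 h2 ?_
    rw [← ZMod.natCast_eq_zero_iff, Nat.cast_sub (Nat.one_le_pow _ _ (by omega))]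
    push_cast at h ⊢
    rw [h, sub_self])
  have hq0 : ((q : ℤ) : ZMod r) ≠ 0 := by
    rw [Int.cast_natCast, ne_eq, ZMod.natCast_eq_zero_iff]
    obtain ⟨k, hk⟩ := FiniteField.card F p
    rw [hq, hk.2]
    exact fun h => hrp ((Nat.prime_dvd_prime_iff_eq hrp' Fact.out).1 (hrp'.dvd_of_dvd_pow h))
  refine no_commuting (p := p) (r := r) hrp (by omega) (B : Matrix (Fin n) (Fin n) F) (u : Matrix (Fin n) (Fin n) F)
    B.2 ?_ (fun h => ?_) ?_ (fun h => ?_) ?_ (q : ℤ) hq0 hnr fun x hx0 hx => ?_
  · rw [← Matrix.SpecialLinearGroup.coe_pow, ← hB, pow_orderOf_eq_one]; rfl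
  · rw [Subtype.ext (show (B : Matrix (Fin n) (Fin n) F) = ((1 : Matrix.SpecialLinearGroup (Fin n) F) : Matrix (Fin n) (Fin n) F) from h), orderOf_one] at hB
    exact hrp'.one_lt.ne hB
  · rw [← Matrix.SpecialLinearGroup.coe_pow, ← hu, pow_orderOf_eq_one]; rfl
  · rw [Subtype.ext (show (u : Matrix (Fin n) (Fin n) F) = ((1 : Matrix.SpecialLinearGroup (Fin n) F) : Matrix (Fin n) (Fin n) F) from h), orderOf_one] at hu
    exact (Fact.out : p.Prime).one_lt.ne hu
  · exact (congrArg Subtype.val hc.eq :)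
  · have hinj : Function.Injective fun y : AlgebraicClosure F => y ^ q := by
      obtain ⟨k, hk⟩ := FiniteField.card F p
      have : CharP (AlgebraicClosure F) p :=
        charP_of_injective_algebraMap (algebraMap F (AlgebraicClosure F)).injective p
      intro y z h
      exact iterateFrobenius_inj (AlgebraicClosure F) p k (by simpa [iterateFrobenius_def, hq, hk.2] using h)
    let σ : AlgebraicClosure F →+* AlgebraicClosure F := (FiniteField.frobeniusAlgHom F (AlgebraicClosure F)).toRingHom
    have hσ : ∀ y, σ y = y ^ q := fun y => by simp [σ, hq]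
    have h := congrArg σ hx
    rw [map_zero, RingHom.map_det, map_sub, RingHom.mapMatrix_apply, RingHom.mapMatrix_apply] at h
    rw [zpow_natCast]
    convert h using 2
    · ext i j
      simp only [Matrix.sub_apply, Matrix.map_apply, Matrix.scalar_apply, Matrix.diagonal_apply]
      rw [hσ, ← map_pow, hq, FiniteField.pow_card]
      split_ifs with hij
      · rw [hσ]
      · rw [map_zero]

end Linear

section Unitary

open Cfsg.Lib.Linear.Herm

variable {F : Type*} [Field F] [Fintype F] (p : ℕ) [Fact p.Prime] [CharP F p] {q : ℕ}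

theorem dvd_card_SU (hF : Fintype.card F = q ^ 2) {m r : ℕ} (hm : 2 ≤ m) {i : ℕ} (hi : i + 1 < m)
    (hr : r ∣ if Even (i + 1) then q ^ (i + 2) + 1 else q ^ (i + 2) - 1) : r ∣ Nat.card (Cfsg.SU m F q) := by
  have h := card_SU hF (show 1 ≤ m by omega)
  rw [card_GU hF] at h
  obtain ⟨l, rfl⟩ : ∃ l, m = l + 1 := ⟨m - 1, by omega⟩
  rw [Finset.prod_range_succ'] at h
  simp only [Even.zero, if_true, Nat.zero_add, pow_one] at h
  rw [← mul_assoc, mul_comm _ (q + 1)] at h
  rw [Nat.eq_of_mul_eq_mul_left (Nat.succ_pos q) h]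
  exact Dvd.dvd.mul_left (hr.trans (Finset.dvd_prod_of_mem (fun k => if Even (k + 1) then q ^ (k + 1 + 1) + 1 else q ^ (k + 1 + 1) - 1)
    (show i ∈ Finset.range l from Finset.mem_range.2 (by omega)))) _

theorem p_dvd_card_SU (hF : Fintype.card F = q ^ 2) {m : ℕ} (hm : 2 ≤ m) : p ∣ Nat.card (Cfsg.SU m F q) := by
  have h := card_SU hF (show 1 ≤ m by omega)
  rw [card_GU hF] at h
  have hpq : p ∣ q := by
    obtain ⟨k, hk⟩ := FiniteField.card F p
    have : p ∣ q ^ 2 := by rw [← hF, hk.2]; exact dvd_pow_self p k.pos.ne'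
    exact (Fact.out : p.Prime).dvd_of_dvd_pow this
  have h1 : p ∣ (q + 1) * Nat.card (Cfsg.SU m F q) := by
    rw [h]
    refine Dvd.dvd.mul_right (hpq.trans (dvd_pow_self q ?_)) _
    exact (Nat.div_pos (show 2 * 1 ≤ m * (m - 1) from Nat.mul_le_mul hm (by omega)) two_pos).ne'
  rcases ((Fact.out : p.Prime).dvd_mul).1 h1 with h2 | h2
  · exact absurd ((Nat.dvd_add_right hpq).1 h2) (Fact.out : p.Prime).not_dvd_one
  · exact h2

theorem main_psu {m : ℕ} (hm : 4 ≤ m) (hF : Fintype.card F = q ^ 2) (a b : Cfsg.PSU m F q) (ha : orderOf a = p)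
    (hab : Commute a b) : (orderOf b).primeFactors ⊆ (Nat.card ↥(Cfsg.SU (m - 2) F q)).primeFactors := by
  intro r hr
  obtain ⟨hrp', hrb, -⟩ := Nat.mem_primeFactors.1 hr
  have : Fact r.Prime := ⟨hrp'⟩
  refine Nat.mem_primeFactors.2 ⟨hrp', ?_, Nat.card_pos.ne'⟩
  by_contra hnot
  have hrp : r ≠ p := fun h => hnot (h ▸ p_dvd_card_SU p hF (by omega))
  have : Nonempty (Fin m) := ⟨⟨0, by omega⟩⟩
  have hZ : ∀ z ∈ Subgroup.center ↥(Cfsg.SU m F q), z ^ p = 1 → z = 1 := by
    intro z hz hzp
    obtain ⟨c, hc⟩ := exists_scalar hF (by omega) ((z : Matrix.SpecialLinearGroup (Fin m) F) : Matrix (Fin m) (Fin m) F)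
      (fun A hA => congrArg (fun g : Cfsg.SU m F q => ((g : Matrix.SpecialLinearGroup (Fin m) F) : Matrix (Fin m) (Fin m) F))
        (Subgroup.mem_center_iff.1 hz ⟨A, hA⟩))
    have h1 : (((z ^ p : Cfsg.SU m F q) : Matrix.SpecialLinearGroup (Fin m) F) : Matrix (Fin m) (Fin m) F) = 1 := by
      rw [hzp]; rfl
    rw [Subgroup.coe_pow, Matrix.SpecialLinearGroup.coe_pow, hc, ← map_pow, ← map_one (Matrix.scalar (Fin m))] at h1
    have h2 : c = 1 := frobenius_inj F p (by simpa [frobenius_def] using Matrix.scalar_inj.1 h1)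
    exact Subtype.ext (Subtype.ext (by rw [hc, h2, map_one]; rfl))
  obtain ⟨B, u, hB, hu, hc⟩ := lift_commuting (p := p) (r := r) hZ ha hab hrb
  have hq2 := two_le_q hF
  have hnr : ∀ j, 1 ≤ j → j ≤ m - 2 → (((-(q : ℤ)) : ℤ) : ZMod r) ^ j ≠ 1 := fun j h1 h2 h => hnot (by
    push_cast at h
    rcases Nat.lt_or_ge j 2 with hj | hj
    · obtain rfl : j = 1 := by omega
      refine dvd_card_SU hF (by omega) (i := 0) (by omega) ?_
      rw [if_neg (by decide), ← ZMod.natCast_eq_zero_iff, Nat.cast_sub (Nat.one_le_pow _ _ (by omega))]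
      push_cast
      rw [show ((q : ZMod r)) ^ (0 + 2) = (-(q : ZMod r)) ^ 1 * (-(q : ZMod r)) ^ 1 by ring, h, one_mul, sub_self]
    · refine dvd_card_SU hF (by omega) (i := j - 2) (by omega) ?_
      rw [show j - 2 + 2 = j by omega]
      rcases Nat.even_or_odd j with he | ho
      · rw [if_neg (by rw [Nat.even_iff] at he ⊢; omega), ← ZMod.natCast_eq_zero_iff,
          Nat.cast_sub (Nat.one_le_pow _ _ (by omega))]
        push_cast
        rw [← he.neg_pow, h, sub_self]
      · rw [if_pos (by rw [Nat.odd_iff] at ho; rw [Nat.even_iff]; omega), ← ZMod.natCast_eq_zero_iff]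
        push_cast
        rw [ho.neg_pow] at h
        linear_combination -h)
  have hq0 : (((-(q : ℤ)) : ℤ) : ZMod r) ≠ 0 := by
    push_cast
    rw [neg_ne_zero, ne_eq, ZMod.natCast_eq_zero_iff]
    intro h
    obtain ⟨k, hk⟩ := FiniteField.card F p
    have : r ∣ p ^ (k : ℕ) := by rw [← hk.2, hF]; exact h.trans (dvd_pow_self q two_ne_zero)
    exact hrp ((Nat.prime_dvd_prime_iff_eq hrp' Fact.out).1 (hrp'.dvd_of_dvd_pow this))
  set B1 := ((B : Matrix.SpecialLinearGroup (Fin m) F) : Matrix (Fin m) (Fin m) F) with hB1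
  have hcoe : ∀ g : Cfsg.SU m F q, ((g : Matrix.SpecialLinearGroup (Fin m) F) : Matrix (Fin m) (Fin m) F) = 1 → g = 1 :=
    fun g h => Subtype.ext (Subtype.ext h)
  refine no_commuting (p := p) (r := r) hrp (by omega) B1
    ((u : Matrix.SpecialLinearGroup (Fin m) F) : Matrix (Fin m) (Fin m) F)
    (B : Matrix.SpecialLinearGroup (Fin m) F).2 ?_ (fun h => ?_) ?_ (fun h => ?_) ?_ (-(q : ℤ)) hq0 hnr
    fun x hx0 hx => ?_
  · rw [hB1, ← Matrix.SpecialLinearGroup.coe_pow, ← Subgroup.coe_pow, ← hB, pow_orderOf_eq_one]; rfl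
  · rw [hcoe B h, orderOf_one] at hB; exact hrp'.one_lt.ne hB
  · rw [← Matrix.SpecialLinearGroup.coe_pow, ← Subgroup.coe_pow, ← hu, pow_orderOf_eq_one]; rfl
  · rw [hcoe u h, orderOf_one] at hu; exact (Fact.out : p.Prime).one_lt.ne hu
  · exact (congrArg (fun g : Cfsg.SU m F q => ((g : Matrix.SpecialLinearGroup (Fin m) F) : Matrix (Fin m) (Fin m) F)) hc.eq :)
  · obtain ⟨k, hk⟩ := FiniteField.card F p
    obtain ⟨l, -, hl⟩ := (Nat.dvd_prime_pow Fact.out).1 (show q ∣ p ^ (k : ℕ) by
      rw [← hk.2, hF]; exact dvd_pow_self q two_ne_zero)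
    let φ : F →+* AlgebraicClosure F := algebraMap F (AlgebraicClosure F)
    have : CharP (AlgebraicClosure F) p := charP_of_injective_algebraMap φ.injective p
    let σ : (AlgebraicClosure F) →+* (AlgebraicClosure F) := iterateFrobenius (AlgebraicClosure F) p l
    have hσ : ∀ y, σ y = y ^ q := fun y => by simp [σ, iterateFrobenius_def, hl]
    have hherm : B1ᵀ * B1.map (fun y => y ^ q) = 1 := by
      ext i j
      have h := B.2 (Pi.single i 1) (Pi.single j 1)
      simp only [Cfsg.slToMat, Cfsg.hermForm, Matrix.mulVec_single_one, Matrix.col_apply] at h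
      rw [Matrix.mul_apply]
      simp only [Matrix.transpose_apply, Matrix.map_apply]
      rw [show ∑ x, B1 x i * B1 x j ^ q = _ from h,
        Finset.sum_eq_single i (fun l _ hl => by simp [hl]) (by simp)]
      rcases eq_or_ne i j with rfl | hij
      · simp
      · simp [hij, Matrix.one_apply_ne hij, zero_pow (show q ≠ 0 by omega)]
    set C := B1.map φ with hC
    have hCσ : Cᵀ * C.map σ = 1 := by
      have e : (φ.mapMatrix (B1ᵀ * B1.map fun y => y ^ q)) = 1 := by rw [hherm, map_one]
      rw [map_mul, RingHom.mapMatrix_apply, RingHom.mapMatrix_apply] at e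
      rw [← e]
      congr 1
      ext i j
      simp [hC, hσ]
    have h := congrArg σ hx
    rw [map_zero, RingHom.map_det, map_sub, RingHom.mapMatrix_apply] at h
    have hsc : ∀ z : (AlgebraicClosure F), σ.mapMatrix (Matrix.scalar (Fin m) z) = Matrix.scalar (Fin m) (z ^ q) := by
      intro z
      ext i j
      simp only [RingHom.mapMatrix_apply, Matrix.map_apply, Matrix.scalar_apply, Matrix.diagonal_apply]
      split_ifs
      · exact hσ z
      · exact map_zero σ
    rw [hsc] at h
    have h2 : (Cᵀ * (C.map σ - Matrix.scalar (Fin m) (x ^ q))).det = 0 := by rw [Matrix.det_mul, h, mul_zero]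
    rw [mul_sub, hCσ] at h2
    have hy : x ^ q ≠ 0 := pow_ne_zero q hx0
    have e3 : (1 : Matrix (Fin m) (Fin m) (AlgebraicClosure F)) - Cᵀ * Matrix.scalar (Fin m) (x ^ q) =
        (-(x ^ q)) • (C - Matrix.scalar (Fin m) (x ^ (-(q : ℤ))))ᵀ := by
      ext i j
      simp only [Matrix.sub_apply, Matrix.smul_apply, Matrix.transpose_apply, Matrix.scalar_apply,
        Matrix.mul_diagonal, Matrix.diagonal_apply, Matrix.one_apply, smul_eq_mul, zpow_neg, zpow_natCast, eq_comm (a := i) (b := j)]
      split_ifs <;> field_simp <;> ring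
    rw [e3, Matrix.det_smul, Matrix.det_transpose, mul_eq_zero] at h2
    exact h2.resolve_left (pow_ne_zero _ (neg_ne_zero.2 hy))

end Unitary

end Cfsg.Lib.Linear.CommutingPElt
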