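import Cfsg.Agent.Lib.Linear.MinIndexOrbit

/-!
# A lower bound for cross-characteristic representations of `SL_n(q)`

The transvections with a fixed centre form an abelian group of order `q ^ (n - 1)` whose non-trivial characters are
permuted transitively by the stabiliser of the centre, so all of them occur in a faithful representation.
-/

set_option autoImplicit false

namespace Cfsg.Lib.Linear.CrossChar

open Matrix Cfsg.Lib.Linear Cfsg.Lib.Linear.MinIndex Cfsg.Lib.Linear.AutPSL
open scoped MatrixGroups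

variable {ι : Type} [Fintype ι] [DecidableEq ι] {F : Type*} [Field F]

/-- Extension by zero at `l`. -/
def ext0 {l : ι} (a : {i // i ≠ l} → F) : ι → F := fun i => if h : i ≠ l then a ⟨i, h⟩ else 0

theorem ext0_self {l : ι} (a : {i // i ≠ l} → F) : ext0 a l = 0 := by simp [ext0]

theorem ext0_apply {l : ι} (a : {i // i ≠ l} → F) (i : {i // i ≠ l}) : ext0 a i.val = a i := by
  simp [ext0, i.2]

theorem ext0_add {l : ι} (a b : {i // i ≠ l} → F) : ext0 (a + b) = ext0 a + ext0 b := by
  funext i; by_cases h : i ≠ l <;> simp [ext0, h]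

theorem ext0_perp {l : ι} (a : {i // i ≠ l} → F) : ext0 a ⬝ᵥ (Pi.single l 1 : ι → F) = 0 := by
  rw [dotProduct_single, ext0_self, zero_mul]

theorem ext0_dot {l : ι} (a : {i // i ≠ l} → F) (w : ι → F) :
    ext0 a ⬝ᵥ w = a ⬝ᵥ fun i => w i.val := by
  rw [dotProduct, ← Finset.add_sum_erase _ _ (Finset.mem_univ l), ext0_self, zero_mul, zero_add, dotProduct]
  refine (Finset.sum_subtype _ (fun i => by simp) _).trans (Finset.sum_congr rfl fun i _ => ?_)
  rw [ext0_apply]

theorem restrict_ext0 {v : ι → F} {l : ι} (h : v l = 0) : ext0 (fun i : {i // i ≠ l} => v i.val) = v := by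
  funext i
  by_cases hi : i ≠ l
  · simp [ext0, hi]
  · rw [not_ne_iff.1 hi, ext0_self, h]

set_option maxHeartbeats 1000000 in
theorem degree_bound [Fintype F] (p : ℕ) [Fact p.Prime] [CharP F p] (hn : 3 ≤ Fintype.card ι)
    {K : Type*} [Field K] [IsAlgClosed K] (hK : (p : K) ≠ 0) {d : ℕ}
    (ρ : SpecialLinearGroup ι F →* GL (Fin d) K)
    (hker : ρ.ker ≤ Subgroup.center (SpecialLinearGroup ι F)) :
    Fintype.card F ^ (Fintype.card ι - 1) - 1 ≤ d := by
  classical
  let := ZMod.algebra F p
  have hne : Nonempty ι := Fintype.card_pos_iff.1 (by omega)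
  obtain ⟨l⟩ := hne
  have : NeZero ((p : ℕ) : K) := ⟨hK⟩
  obtain ⟨ζ, hζ0⟩ := IsAlgClosed.exists_root (Polynomial.cyclotomic p K)
    (Polynomial.degree_cyclotomic_pos p K (Fact.out : p.Prime).pos).ne'
  have hζ : IsPrimitiveRoot ζ p := Polynomial.isRoot_cyclotomic_iff.1 hζ0
  let ψ : AddChar (ZMod p) K := AddChar.zmodChar p hζ.pow_eq_one
  have hψ1 : ∀ x, ψ x = 1 → x = 0 := fun x hx => by
    rw [AddChar.zmodChar_apply] at hx
    exact (ZMod.val_eq_zero x).1 (Nat.eq_zero_of_dvd_of_lt ((hζ.pow_eq_one_iff_dvd _).1 hx) (ZMod.val_lt x))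
  set e : ι → F := Pi.single l 1 with he
  have he0 : e ≠ 0 := Pi.single_ne_zero_iff.2 one_ne_zero
  let J := {i // i ≠ l}
  let R : (J → F) → Matrix (Fin d) (Fin d) K := fun a => ((ρ (tau e (ext0 a)) : GL (Fin d) K) : Matrix _ _ K)
  have hRadd : ∀ a b, R (a + b) = R a * R b := fun a b => by
    simp only [R]
    rw [ext0_add, tau_add (ext0_perp a) (ext0_perp b), map_mul, Units.val_mul]
  have hR0 : R 0 = 1 := by
    simp only [R]
    rw [show ext0 (0 : J → F) = 0 by funext i; simp [ext0], tau_zero, map_one, Units.val_one]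
  let χ : (J → F) → (J → F) → K := fun w a => ψ (Algebra.trace (ZMod p) F (a ⬝ᵥ w))
  have hχadd : ∀ w a b, χ w (a + b) = χ w a * χ w b := fun w a b => by
    simp only [χ]; rw [add_dotProduct, map_add, AddChar.map_add_eq_mul]
  have hχ0 : ∀ w, χ w 0 = 1 := fun w => by simp [χ]
  have horth : ∀ w : J → F, w ≠ 0 → ∑ a, χ w a = 0 := by
    intro w hw
    let Ψ : AddChar (J → F) K := ⟨χ w, hχ0 w, hχadd w⟩
    refine AddChar.sum_eq_zero_of_ne_one (ψ := Ψ) fun h => hw (funext fun i => eq_zero_of_trace p _ fun c => ?_)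
    have h1 : χ w (Pi.single i c) = 1 := by
      show Ψ (Pi.single i c) = 1
      rw [h, AddChar.one_apply]
    have h2 := hψ1 _ h1
    rwa [single_dotProduct] at h2
  let E : (J → F) → Matrix (Fin d) (Fin d) K := fun w => ∑ a, χ w (-a) • R a
  have hRE : ∀ b w, R b * E w = χ w b • E w := by
    intro b w
    simp only [E, Finset.mul_sum, Matrix.mul_smul, ← hRadd, Finset.smul_sum, smul_smul]
    refine Fintype.sum_equiv (Equiv.addLeft b) _ _ fun a => ?_
    rw [Equiv.coe_addLeft, neg_add, hχadd, ← mul_assoc, ← hχadd, add_neg_cancel, hχ0, one_mul]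
  have hcard : (Fintype.card (J → F) : K) ≠ 0 := by
    obtain ⟨k, -, hk⟩ := FiniteField.card F p
    rw [Fintype.card_fun, hk, ← pow_mul, Nat.cast_pow]
    exact pow_ne_zero _ hK
  have hsum : ∑ w, E w = (Fintype.card (J → F) : K) • 1 := by
    simp only [E]
    rw [Finset.sum_comm, Finset.sum_eq_single (0 : J → F)]
    · simp only [neg_zero, hχ0, hR0, one_smul, Finset.sum_const, Finset.card_univ, Nat.cast_smul_eq_nsmul]
    · intro a _ ha
      rw [← Finset.sum_smul]
      have h1 := horth (-a) (neg_ne_zero.2 ha)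
      rw [show ∑ w, χ w (-a) = ∑ w, χ (-a) w from Finset.sum_congr rfl fun w _ => by
        simp only [χ]; rw [dotProduct_comm], h1, zero_smul]
    · simp
  obtain ⟨w0, hw0, hE0⟩ : ∃ w, w ≠ 0 ∧ E w ≠ 0 := by
    by_contra hno
    push Not at hno
    have h1 : ∑ w, E w = E 0 := Fintype.sum_eq_single 0 fun w hw => hno w hw
    have hall : ∀ b, R b = 1 := fun b => by
      have h2 := hRE b 0
      rw [← h1, hsum, show χ 0 b = 1 by simp [χ], one_smul, Matrix.mul_smul, Matrix.mul_one] at h2
      exact smul_right_injective _ hcard h2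
    obtain ⟨i, hil⟩ := Fintype.exists_ne_of_one_lt_card (show 1 < Fintype.card ι by omega) l
    let a : J → F := Pi.single ⟨i, hil⟩ 1
    have hmem : tau e (ext0 a) ∈ ρ.ker := by
      rw [MonoidHom.mem_ker]
      exact Units.ext (hall a)
    obtain ⟨r, -, hr⟩ := Matrix.SpecialLinearGroup.mem_center_iff.1 (hker hmem)
    have h3 := congrFun (congrFun hr l) i
    rw [tau_val (ext0_perp a)] at h3
    have h4 : ext0 a i = 1 := (ext0_apply a ⟨i, hil⟩).trans (by simp [a])
    simp [tvMat, vecMulVec_apply, he, h4, Matrix.scalar_apply, hil.symm] at h3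
  -- all non-trivial characters occur
  have hall : ∀ w : J → F, w ≠ 0 → E w ≠ 0 := by
    intro w hw hEw
    have hout : ∀ u : J → F, u ≠ 0 → ext0 u ∉ Submodule.span F {e} := by
      intro u hu hmem
      obtain ⟨c, hc⟩ := Submodule.mem_span_singleton.1 hmem
      refine hu (funext fun i => ?_)
      have h5 := congrFun hc i.val
      rw [ext0_apply] at h5
      rw [← h5]
      simp [he, i.2]
    obtain ⟨g, hge, hgw⟩ := exists_fix_move hn (hout w hw) (hout w0 hw0)
    have hperp : ∀ a : J → F, (ext0 a ᵥ* (g⁻¹).1) l = 0 := fun a => by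
      have h5 : (ext0 a ᵥ* (g⁻¹).1) ⬝ᵥ e = 0 := by
        rw [← dotProduct_mulVec]
        conv_lhs => rw [← hge, inv_mulVec]
        exact ext0_perp a
      rwa [he, dotProduct_single, mul_one] at h5
    have hperp' : ∀ a : J → F, (ext0 a ᵥ* g.1) l = 0 := fun a => by
      have h5 : (ext0 a ᵥ* g.1) ⬝ᵥ e = 0 := by rw [← dotProduct_mulVec, hge]; exact ext0_perp a
      rwa [he, dotProduct_single, mul_one] at h5
    let act : (J → F) ≃ (J → F) :=
      { toFun := fun a i => (ext0 a ᵥ* (g⁻¹).1) i.val
        invFun := fun a i => (ext0 a ᵥ* g.1) i.val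
        left_inv := fun a => funext fun i => by
          simp only
          rw [restrict_ext0 (hperp a), vecMul_vecMul, inv_mul_val, vecMul_one, ext0_apply]
        right_inv := fun a => funext fun i => by
          simp only
          rw [restrict_ext0 (hperp' a), vecMul_vecMul, mul_inv_val, vecMul_one, ext0_apply] }
    refine hE0 ?_
    have h6 : ((ρ g : GL (Fin d) K) : Matrix _ _ K) * E w * ((ρ g⁻¹ : GL (Fin d) K) : Matrix _ _ K) = E w0 := by
      simp only [E, Finset.mul_sum, Finset.sum_mul, Matrix.mul_smul, Matrix.smul_mul]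
      refine Fintype.sum_equiv act _ _ fun a => ?_
      have h7 : R (act a) = ((ρ g : GL (Fin d) K) : Matrix _ _ K) * R a * ((ρ g⁻¹ : GL (Fin d) K) : Matrix _ _ K) := by
        simp only [R, act, Equiv.coe_fn_mk]
        rw [restrict_ext0 (hperp a), ← conj_tau g (ext0_perp a) hge, map_mul, map_mul, Units.val_mul, Units.val_mul]
      rw [h7]
      congr 1
      simp only [χ, neg_dotProduct, act, Equiv.coe_fn_mk]
      congr 3
      have h8 : (fun i : J => (ext0 w0) i.val) = w0 := funext fun i => ext0_apply w0 i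
      rw [← h8, ← ext0_dot (fun i : J => (ext0 a ᵥ* (g⁻¹).1) i.val), restrict_ext0 (hperp a), ← hgw,
        ← dotProduct_mulVec, inv_mulVec, ext0_dot]
      exact congrArg _ (funext fun i => (ext0_apply w i).symm)
    rw [← h6, hEw, mul_zero, zero_mul]
  -- independent eigenvectors
  have hvec : ∀ w : {w : J → F // w ≠ 0}, ∃ x, E w.1 *ᵥ x ≠ 0 := fun w => by
    by_contra hno
    push Not at hno
    exact hall w.1 w.2 (ext_of_mulVec_single fun i => by rw [hno, zero_mulVec])
  choose x hx using hvec
  have hind : LinearIndependent K fun w : {w : J → F // w ≠ 0} => E w.1 *ᵥ x w := by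
    rw [Fintype.linearIndependent_iff]
    intro c hc u
    have hEE : ∀ w, E u.1 * E w = if w = u.1 then (Fintype.card (J → F) : K) • E w else 0 := by
      intro w
      have h9 : E u.1 * E w = (∑ a, χ u.1 (-a) * χ w a) • E w := by
        show (∑ a, χ u.1 (-a) • R a) * E w = _
        rw [Finset.sum_mul, Finset.sum_smul]
        exact Finset.sum_congr rfl fun a _ => by rw [Matrix.smul_mul, hRE, smul_smul]
      rw [h9]
      split_ifs with hw
      · subst hw
        simp [← hχadd, hχ0]
      · rw [show ∑ a, χ u.1 (-a) * χ w a = ∑ a, χ (w - u.1) a from Finset.sum_congr rfl fun a _ => by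
          simp only [χ]
          rw [neg_dotProduct, dotProduct_sub, map_neg, map_sub, sub_eq_neg_add, AddChar.map_add_eq_mul],
          horth _ (sub_ne_zero.2 hw), zero_smul]
    have h10 := congrArg (fun y => E u.1 *ᵥ y) hc
    simp only [mulVec_sum, mulVec_smul, mulVec_mulVec, mulVec_zero, hEE] at h10
    rw [Finset.sum_eq_single u (fun w _ hw => by
      rw [if_neg (fun h => hw (Subtype.ext h)), zero_mulVec, smul_zero]) (by simp), if_pos rfl, smul_mulVec,
      smul_smul, smul_eq_zero, mul_eq_zero] at h10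
    exact (h10.resolve_right (hx u)).resolve_right hcard
  have := hind.fintype_card_le_finrank
  rw [Module.finrank_fintype_fun_eq_card, Fintype.card_fin, Fintype.card_subtype_compl, Fintype.card_subtype_eq,
    Fintype.card_fun, Fintype.card_subtype_compl, Fintype.card_subtype_eq] at this
  exact this

end Cfsg.Lib.Linear.CrossChar
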