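import Cfsg.Agent.Lib.Linear.CharSupport
import Cfsg.Agent.Lib.Linear.CrossChar

/-!
# A lower bound for cross-characteristic representations of symplectic groups in odd characteristic

The Siegel radical is the group of symmetric matrices; a non-trivial character is given by a symmetric
matrix, whose congruence class has at least half of `(q - 1) q ^ (n - 1)` members.
-/

set_option autoImplicit false

namespace Cfsg.Lib.Linear.CrossCharSymp

open Matrix

variable {F : Type*} [Field F] {n : ℕ}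

theorem siegel_mem (S : Matrix (Fin n) (Fin n) F) (hS : Sᵀ = S) :
    fromBlocks 1 S 0 1 ∈ symplecticGroup (Fin n) F := by
  rw [SymplecticGroup.mem_iff, Matrix.J, fromBlocks_transpose, fromBlocks_multiply, fromBlocks_multiply]
  simp [hS]

theorem levi_mem (A A' : Matrix (Fin n) (Fin n) F) (h : A * A' = 1) :
    fromBlocks A 0 0 A'ᵀ ∈ symplecticGroup (Fin n) F := by
  have h' : A'ᵀ * Aᵀ = 1 := by rw [← transpose_mul, h, transpose_one]
  rw [SymplecticGroup.mem_iff, Matrix.J, fromBlocks_transpose, fromBlocks_multiply, fromBlocks_multiply]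
  simp [h', h]

/-- The symmetric matrices. -/
def symm (F : Type*) [Field F] (n : ℕ) : AddSubgroup (Matrix (Fin n) (Fin n) F) where
  carrier := {S | Sᵀ = S}
  zero_mem' := transpose_zero
  add_mem' := fun {a b} ha hb => by
    simp only [Set.mem_setOf_eq] at ha hb ⊢
    rw [transpose_add, ha, hb]
  neg_mem' := fun {a} ha => by
    simp only [Set.mem_setOf_eq] at ha ⊢
    rw [transpose_neg, ha]

theorem conj_symm (A : Matrix (Fin n) (Fin n) F) {S : Matrix (Fin n) (Fin n) F} (hS : Sᵀ = S) :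
    (A * S * Aᵀ)ᵀ = A * S * Aᵀ := by
  rw [transpose_mul, transpose_mul, transpose_transpose, hS, mul_assoc]

theorem rank_one_inverse (i : Fin n) (w : Fin n → F) (hw : 1 + w i ≠ 0) :
    ((1 : Matrix (Fin n) (Fin n) F) + vecMulVec (Pi.single i 1) w) *
      (1 - (1 + w i)⁻¹ • vecMulVec (Pi.single i 1) w) = 1 := by
  rw [add_mul, mul_sub, mul_sub, mul_one, one_mul, Matrix.mul_smul, Matrix.mul_one, vecMulVec_mul_vecMulVec,
    dotProduct_single, mul_one, vecMulVec_smul, smul_smul]
  generalize vecMulVec (Pi.single i 1) w = M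
  have e : 1 - (1 + w i)⁻¹ - (1 + w i)⁻¹ * w i = 0 := by field_simp; ring
  have e' : M - (1 + w i)⁻¹ • M - ((1 + w i)⁻¹ * w i) • M = 0 := by
    rw [show M - (1 + w i)⁻¹ • M - ((1 + w i)⁻¹ * w i) • M =
      (1 - (1 + w i)⁻¹ - (1 + w i)⁻¹ * w i) • M by rw [sub_smul, sub_smul, one_smul], e, zero_smul]
  rw [show 1 - (1 + w i)⁻¹ • M + (M - ((1 + w i)⁻¹ * w i) • M) =
    1 + (M - (1 + w i)⁻¹ • M - ((1 + w i)⁻¹ * w i) • M) by abel, e', add_zero]

theorem congr_entry (i : Fin n) (w : Fin n → F) (N : Matrix (Fin n) (Fin n) F) (j : Fin n) :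
    ((1 + vecMulVec (Pi.single i 1) w : Matrix (Fin n) (Fin n) F)ᵀ * N *
      (1 + vecMulVec (Pi.single i 1) w)) i j =
      (1 + w i) * N i j + (1 + w i) * N i i * w j := by
  simp only [transpose_add, transpose_one, transpose_vecMulVec, Matrix.mul_apply, Matrix.add_apply,
    vecMulVec_apply, Matrix.one_apply, Pi.single_apply, add_mul, mul_add, Finset.sum_add_distrib, ite_mul,
    mul_ite, mul_zero, zero_mul, mul_one, one_mul, Finset.sum_ite_eq, Finset.sum_ite_eq', Finset.mem_univ, if_true]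

/-- A congruence class of symmetric matrices with a non-zero diagonal entry is large. -/
theorem congr_class_card [Fintype F] [DecidableEq F] (N : Matrix (Fin n) (Fin n) F) (i : Fin n)
    (hN : N i i ≠ 0) (O : Finset (Matrix (Fin n) (Fin n) F))
    (hO : ∀ B B' : Matrix (Fin n) (Fin n) F, B * B' = 1 → Bᵀ * N * B ∈ O) :
    (Fintype.card F - 1) * Fintype.card F ^ (n - 1) ≤ 2 * O.card := by
  classical
  obtain ⟨D, hD⟩ : ∃ D : Finset (Fin n → F), D = Finset.univ.filter fun w => 1 + w i ≠ 0 := ⟨_, rfl⟩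
  have hDcard : D.card = (Fintype.card F - 1) * Fintype.card F ^ (n - 1) := by
    have e : {w : Fin n → F // 1 + w i ≠ 0} ≃ {x : F // x ≠ 0} × ({j : Fin n // j ≠ i} → F) :=
      { toFun := fun w => (⟨1 + w.1 i, w.2⟩, fun j => w.1 j.1)
        invFun := fun z => ⟨fun j => if hj : j = i then z.1.1 - 1 else z.2 ⟨j, hj⟩, by simp [z.1.2]⟩
        left_inv := fun w => Subtype.ext (funext fun j => by
          by_cases hj : j = i
          · subst hj; simp
          · simp [hj])
        right_inv := fun z => by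
          refine Prod.ext (Subtype.ext (by simp)) (funext fun j => ?_)
          simp [j.2] }
    rw [hD, ← Fintype.card_subtype, Fintype.card_congr e, Fintype.card_prod, Fintype.card_subtype_compl,
      Fintype.card_subtype_eq, Fintype.card_fun, Fintype.card_subtype_compl, Fintype.card_subtype_eq,
      Fintype.card_fin]
  obtain ⟨f, hf⟩ : ∃ f : (Fin n → F) → Matrix (Fin n) (Fin n) F, ∀ w,
      f w = (1 + vecMulVec (Pi.single i 1) w)ᵀ * N * (1 + vecMulVec (Pi.single i 1) w) := ⟨_, fun w => rfl⟩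
  rw [← hDcard]
  refine (Finset.card_le_mul_card_image (f := f) D 2 fun M hM => ?_).trans
    (Nat.mul_le_mul_left 2 (Finset.card_le_card fun M hM => ?_))
  · -- a point of a fibre is determined by its scale, which is a square root
    refine le_trans (Finset.card_le_card_of_injOn (fun w => 1 + w i)
      (t := (Finset.univ.filter fun a : F => a ^ 2 * N i i = M i i)) (fun w hw => ?_) ?_) ?_
    · simp only [Finset.coe_filter, Set.mem_setOf_eq, hD, Finset.mem_filter, Finset.mem_univ, true_and] at hw ⊢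
      rw [← hw.2, hf, congr_entry]
      ring
    · intro w hw w' hw' e
      simp only [Finset.coe_filter, Set.mem_setOf_eq, hD, Finset.mem_filter, Finset.mem_univ, true_and] at hw hw'
      simp only at e
      funext j
      have e1 := congrFun (congrFun (hw.2.trans hw'.2.symm) i) j
      rw [hf, hf, congr_entry, congr_entry, ← e] at e1
      have hne : (1 + w i) * N i i ≠ 0 := mul_ne_zero hw.1 hN
      exact mul_left_cancel₀ hne (by linear_combination e1)
    · by_cases hex : ∃ a : F, a ^ 2 * N i i = M i i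
      · obtain ⟨a, ha⟩ := hex
        refine (Finset.card_le_card (t := {a, -a}) fun b hb => ?_).trans Finset.card_le_two
        simp only [Finset.mem_filter, Finset.mem_univ, true_and] at hb
        simp only [Finset.mem_insert, Finset.mem_singleton]
        exact sq_eq_sq_iff_eq_or_eq_neg.mp (mul_right_cancel₀ hN (hb.trans ha.symm))
      · rw [Finset.filter_eq_empty_iff.mpr fun b _ hb => hex ⟨b, hb⟩]
        simp
  · rw [Finset.mem_image] at hM
    obtain ⟨w, hw, rfl⟩ := hM
    rw [hD, Finset.mem_filter] at hw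
    rw [hf]
    exact hO _ _ (rank_one_inverse i w hw.2)

variable [Fintype F]

set_option maxHeartbeats 800000 in
/-- A non-zero symmetric matrix all whose congruents are among at most `d` matrices. -/
theorem exists_support (p : ℕ) [Fact p.Prime] [CharP F p] (hp2 : p ≠ 2) (hn : 1 ≤ n)
    {K : Type*} [Field K] [IsAlgClosed K] (hK : (p : K) ≠ 0) {d : ℕ}
    (ρ : ↥(symplecticGroup (Fin n) F) →* GL (Fin d) K)
    (hker : ρ.ker ≤ Subgroup.center ↥(symplecticGroup (Fin n) F)) :
    ∃ (N : Matrix (Fin n) (Fin n) F) (i : Fin n) (O : Finset (Matrix (Fin n) (Fin n) F)),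
      Nᵀ = N ∧ N i i ≠ 0 ∧ (∀ B B' : Matrix (Fin n) (Fin n) F, B * B' = 1 → Bᵀ * N * B ∈ O) ∧ O.card ≤ d := by
  classical
  let := ZMod.algebra F p
  have h2 : (2 : F) ≠ 0 := fun h0 => hp2 (by
    have := (CharP.cast_eq_zero_iff F p 2).mp (by exact_mod_cast h0)
    exact (Nat.prime_dvd_prime_iff_eq (Fact.out : p.Prime) Nat.prime_two).mp this)
  have : NeZero ((p : ℕ) : K) := ⟨hK⟩
  obtain ⟨ζ, hζ0⟩ := IsAlgClosed.exists_root (Polynomial.cyclotomic p K)
    (Polynomial.degree_cyclotomic_pos p K (Fact.out : p.Prime).pos).ne'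
  have hζ : IsPrimitiveRoot ζ p := Polynomial.isRoot_cyclotomic_iff.1 hζ0
  let ψ : AddChar (ZMod p) K := AddChar.zmodChar p hζ.pow_eq_one
  have hψ1 : ∀ x, ψ x = 1 → x = 0 := fun x hx => by
    rw [AddChar.zmodChar_apply] at hx
    exact (ZMod.val_eq_zero x).1 (Nat.eq_zero_of_dvd_of_lt ((hζ.pow_eq_one_iff_dvd _).1 hx) (ZMod.val_lt x))
  obtain ⟨χ, hχdef⟩ : ∃ χ : ↥(symm F n) → ↥(symm F n) → K,
      ∀ N S, χ N S = ψ (Algebra.trace (ZMod p) F (Matrix.trace (N.1 * S.1))) := ⟨_, fun N S => rfl⟩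
  have hχ : ∀ N a b, χ N (a + b) = χ N a * χ N b := fun N a b => by
    rw [hχdef, hχdef, hχdef, AddSubgroup.coe_add, mul_add, Matrix.trace_add, map_add, AddChar.map_add_eq_mul]
  have hχ0 : ∀ N, χ N 0 = 1 := fun N => by simp [hχdef]
  have hsymm : ∀ N S, χ N S = χ S N := fun N S => by rw [hχdef, hχdef, Matrix.trace_mul_comm]
  have horth : ∀ N, N ≠ 0 → ∑ a, χ N a = 0 := by
    intro N hN
    let Ψ : AddChar ↥(symm F n) K := ⟨χ N, hχ0 N, hχ N⟩
    refine AddChar.sum_eq_zero_of_ne_one (ψ := Ψ) fun h => hN (Subtype.ext ?_)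
    ext i j
    have hc : ∀ c : F, Algebra.trace (ZMod p) F (c * (N.1 j i + N.1 i j)) = 0 := fun c => by
      have hmem : (Matrix.single i j c + Matrix.single j i c) ∈ symm F n := by
        show (Matrix.single i j c + Matrix.single j i c)ᵀ = _
        rw [transpose_add, transpose_single, transpose_single, add_comm]
      have h1 : χ N ⟨_, hmem⟩ = 1 := by
        show Ψ ⟨_, hmem⟩ = 1
        rw [h, AddChar.one_apply]
      rw [hχdef] at h1
      have h3 := hψ1 _ h1
      simp only [Matrix.mul_add, Matrix.trace_add, Matrix.trace_mul_single] at h3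
      rw [← h3]
      congr 1
      simp only [op_smul_eq_mul]
      ring
    have h4 := Cfsg.Lib.Linear.MinIndex.eq_zero_of_trace p _ hc
    have hs : N.1 j i = N.1 i j := congrFun (congrFun N.2 i) j
    rw [hs, ← two_mul, mul_eq_zero] at h4
    exact h4.resolve_left h2
  obtain ⟨R, hRdef⟩ : ∃ R : ↥(symm F n) → Matrix (Fin d) (Fin d) K,
      ∀ S, R S = ((ρ ⟨fromBlocks 1 S.1 0 1, siegel_mem S.1 S.2⟩ : GL (Fin d) K) : Matrix _ _ K) := ⟨_, fun S => rfl⟩
  have hR : ∀ a b, R (a + b) = R a * R b := fun a b => by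
    rw [hRdef, hRdef, hRdef, ← Units.val_mul, ← map_mul]
    congr 2
    refine Subtype.ext ?_
    rw [Submonoid.coe_mul, fromBlocks_multiply]
    simp [add_comm]
  have hR0 : R 0 = 1 := by
    rw [hRdef, show (⟨fromBlocks 1 (0 : ↥(symm F n)).1 0 1, siegel_mem _ (0 : ↥(symm F n)).2⟩ :
      ↥(symplecticGroup (Fin n) F)) = 1 from Subtype.ext (by simp [fromBlocks_one]), map_one, Units.val_one]
  have hcard : (Fintype.card ↥(symm F n) : K) ≠ 0 := by
    obtain ⟨k, -, hk⟩ := FiniteField.card F p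
    have hd : Fintype.card ↥(symm F n) ∣ p ^ ((k : ℕ) * (n * n)) := by
      rw [← Nat.card_eq_fintype_card, pow_mul, ← hk]
      refine dvd_trans (symm F n).card_addSubgroup_dvd_card ?_
      rw [Nat.card_eq_fintype_card,
        show Fintype.card (Matrix (Fin n) (Fin n) F) = Fintype.card (Fin n → Fin n → F) from
          Fintype.card_congr (Equiv.refl _), Fintype.card_fun, Fintype.card_fun, Fintype.card_fin, ← pow_mul]
    obtain ⟨j, -, hj⟩ := (Nat.dvd_prime_pow (Fact.out : p.Prime)).mp hd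
    rw [hj, Nat.cast_pow]
    exact pow_ne_zero _ hK
  -- some element of the radical acts non-trivially
  obtain ⟨S₀, hS₀⟩ : ∃ S, R S ≠ 1 := by
    by_contra hno
    push Not at hno
    let i : Fin n := ⟨0, hn⟩
    have hmem : Matrix.single i i (1 : F) ∈ symm F n := transpose_single i i 1
    have hk : (⟨_, siegel_mem _ hmem⟩ : ↥(symplecticGroup (Fin n) F)) ∈ ρ.ker := by
      rw [MonoidHom.mem_ker]
      refine Units.ext ?_
      rw [Units.val_one, ← hno ⟨_, hmem⟩, hRdef]
    have hcm := congrArg Subtype.val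
      (Subgroup.mem_center_iff.mp (hker hk) ⟨Matrix.J (Fin n) F, SymplecticGroup.J_mem (Fin n) F⟩)
    simp only [Submonoid.coe_mul, Matrix.J, fromBlocks_multiply, fromBlocks_inj] at hcm
    simp at hcm
    simpa using congrFun (congrFun hcm.2 i) i
  obtain ⟨N₀, hN₀, hP₀⟩ := CharSupport.exists_proj_ne hχ hχ0 hsymm horth hR hR0 hcard hS₀
  -- congruent matrices occur as well
  have hmove : ∀ (N N' : ↥(symm F n)) (B B' : Matrix (Fin n) (Fin n) F), B * B' = 1 → N'.1 = Bᵀ * N.1 * B →
      CharSupport.proj χ R N ≠ 0 → CharSupport.proj χ R N' ≠ 0 := by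
    intro N N' B B' hBB hN' hne
    have hB'B : B' * B = 1 := mul_eq_one_comm.mp hBB
    let act : ↥(symm F n) ≃ ↥(symm F n) :=
      { toFun := fun S => ⟨B' * S.1 * B'ᵀ, conj_symm B' S.2⟩
        invFun := fun S => ⟨B * S.1 * Bᵀ, conj_symm B S.2⟩
        left_inv := fun S => Subtype.ext (by
          show B * (B' * S.1 * B'ᵀ) * Bᵀ = S.1
          rw [← mul_assoc, ← mul_assoc, hBB, one_mul, mul_assoc, ← transpose_mul, hBB, transpose_one, mul_one])
        right_inv := fun S => Subtype.ext (by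
          show B' * (B * S.1 * Bᵀ) * B'ᵀ = S.1
          rw [← mul_assoc, ← mul_assoc, hB'B, one_mul, mul_assoc, ← transpose_mul, hB'B, transpose_one, mul_one]) }
    refine CharSupport.proj_transfer act (fun a => Subtype.ext ?_)
      ((ρ ⟨_, levi_mem B' B hB'B⟩ : GL (Fin d) K) : Matrix _ _ K)
      ((ρ ⟨_, levi_mem B B' hBB⟩ : GL (Fin d) K) : Matrix _ _ K) ?_ ?_ ?_ hne
    · show B' * (-a : ↥(symm F n)).1 * B'ᵀ = -(B' * a.1 * B'ᵀ)
      rw [AddSubgroup.coe_neg, mul_neg, neg_mul]
    · rw [← Units.val_mul, ← map_mul,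
        show (⟨_, levi_mem B B' hBB⟩ : ↥(symplecticGroup (Fin n) F)) * ⟨_, levi_mem B' B hB'B⟩ = 1 from
          Subtype.ext (by
            rw [Submonoid.coe_mul, fromBlocks_multiply]
            simp [hBB, ← transpose_mul, fromBlocks_one]),
        map_one, Units.val_one]
    · intro a
      rw [hRdef, hRdef, ← Units.val_mul, ← Units.val_mul, ← map_mul, ← map_mul]
      congr 2
      refine Subtype.ext ?_
      rw [Submonoid.coe_mul, Submonoid.coe_mul, fromBlocks_multiply, fromBlocks_multiply]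
      simp [act, hB'B, ← transpose_mul]
    · intro a
      rw [hχdef, hχdef, hN']
      congr 2
      show Matrix.trace (N.1 * a.1) = Matrix.trace (Bᵀ * N.1 * B * (B' * a.1 * B'ᵀ))
      rw [show Bᵀ * N.1 * B * (B' * a.1 * B'ᵀ) = Bᵀ * N.1 * (B * B') * a.1 * B'ᵀ by
        simp only [Matrix.mul_assoc], hBB, mul_one, Matrix.trace_mul_comm (Bᵀ * N.1 * a.1), ← Matrix.mul_assoc, ← Matrix.mul_assoc,
        ← transpose_mul, hBB, transpose_one, one_mul]
  -- a congruent matrix with a non-zero diagonal entry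
  obtain ⟨N, i, hi, hP⟩ : ∃ (N : ↥(symm F n)) (i : Fin n), N.1 i i ≠ 0 ∧ CharSupport.proj χ R N ≠ 0 := by
    by_cases hd : ∃ i, N₀.1 i i ≠ 0
    · obtain ⟨i, hi⟩ := hd
      exact ⟨N₀, i, hi, hP₀⟩
    push Not at hd
    obtain ⟨i, j, hij⟩ : ∃ i j, N₀.1 i j ≠ 0 := by
      by_contra hc
      push Not at hc
      exact hN₀ (Subtype.ext (by ext i j; exact hc i j))
    have hne : j ≠ i := fun e => hij (by rw [e]; exact hd i)
    have hBB := rank_one_inverse j (Pi.single i (1 : F)) (by simp [hne])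
    refine ⟨⟨_, conj_symm (1 + vecMulVec (Pi.single j 1) (Pi.single i (1 : F)))ᵀ N₀.2⟩, i, ?_,
      hmove N₀ _ _ _ hBB (by simp) hP₀⟩
    simp only [transpose_transpose]
    have hs : N₀.1 j i = N₀.1 i j := congrFun (congrFun N₀.2 i) j
    simp [Matrix.mul_apply, vecMulVec_apply, Matrix.one_apply, Pi.single_apply, add_mul, mul_add,
      Finset.sum_add_distrib, hne, hne.symm, hd, hs]
    intro h0
    exact hij ((mul_eq_zero.mp (show (2 : F) * N₀.1 i j = 0 by linear_combination h0)).resolve_left h2)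
  obtain ⟨O, hO⟩ : ∃ O : Finset ↥(symm F n), O = Finset.univ.filter fun M => CharSupport.proj χ R M ≠ 0 := ⟨_, rfl⟩
  have hle := CharSupport.card_le hχ hχ0 hsymm horth hR hcard O fun M hM => by
    rw [hO, Finset.mem_filter] at hM; exact hM.2
  refine ⟨N.1, i, O.map ⟨Subtype.val, Subtype.val_injective⟩, N.2, hi, fun B B' hBB => ?_,
    by rw [Finset.card_map]; exact hle⟩
  rw [Finset.mem_map]
  have hm : (Bᵀ * N.1 * B) ∈ symm F n := by
    have := conj_symm Bᵀ N.2
    rwa [transpose_transpose] at this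
  exact ⟨⟨_, hm⟩, by rw [hO, Finset.mem_filter]; exact ⟨Finset.mem_univ _, hmove N _ B B' hBB rfl hP⟩, rfl⟩

theorem degree_bound (p : ℕ) [Fact p.Prime] [CharP F p] (hp2 : p ≠ 2) (hn : 1 ≤ n)
    {K : Type*} [Field K] [IsAlgClosed K] (hK : (p : K) ≠ 0) {d : ℕ}
    (ρ : ↥(symplecticGroup (Fin n) F) →* GL (Fin d) K)
    (hker : ρ.ker ≤ Subgroup.center ↥(symplecticGroup (Fin n) F)) :
    Fintype.card F ^ (n - 1) * (Fintype.card F - 1) / 2 ≤ d := by
  classical
  obtain ⟨N, i, O, -, hi, hO, hcard⟩ := exists_support p hp2 hn hK ρ hker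
  have hbound := congr_class_card N i hi O hO
  rw [mul_comm] at hbound
  omega

end Cfsg.Lib.Linear.CrossCharSymp
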