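import Mathlib

/-!
# Automorphisms of odd prime order of a 2-group of order at most 16
-/

set_option autoImplicit false

namespace Cfsg.Lib.CubicAut

variable {V : Type*} [Group V] [Finite V]

theorem modEq_fixed {ℓ : ℕ} (hℓ : ℓ.Prime) {k : MulAut V} (hk : k ^ ℓ = 1) (W : Subgroup V)
    (hW : ∀ v ∈ W, k v ∈ W) : Nat.card W ≡ Nat.card {v : W // k v = v} [MOD ℓ] := by
  classical
  haveI : Fintype W := Fintype.ofFinite W
  haveI : Fact ℓ.Prime := ⟨hℓ⟩
  let σ : Function.End W := fun v => ⟨k v, hW v v.2⟩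
  have hσ : ∀ (j : ℕ) (v : W), (((σ ^ j) v : W) : V) = (k ^ j) v := by
    intro j
    induction j with
    | zero => intro v; rw [pow_zero, pow_zero]; rfl
    | succ j ih => intro v; rw [pow_succ' k, MulAut.mul_apply, ← ih, pow_succ']; rfl
  have hpow : σ ^ ℓ ^ 1 = 1 := by
    funext v
    refine Subtype.ext ?_
    rw [pow_one, hσ, hk]
    rfl
  have hmod := Equiv.Perm.card_fixedPoints_modEq hpow
  rw [← Nat.card_eq_fintype_card, ← Nat.card_eq_fintype_card] at hmod
  refine hmod.trans ?_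
  refine (congrArg (· % ℓ) (Nat.card_congr ⟨fun v => ⟨v.1, congrArg Subtype.val v.2⟩, fun v => ⟨v.1, Subtype.ext v.2⟩,
    fun _ => rfl, fun _ => rfl⟩))

/-- The fixed subgroup. -/
def fixed (k : MulAut V) : Subgroup V where
  carrier := {v | k v = v}
  mul_mem' {a b} ha hb := by
    simp only [Set.mem_setOf_eq] at *
    rw [map_mul, ha, hb]
  one_mem' := map_one k
  inv_mem' {a} ha := by
    simp only [Set.mem_setOf_eq] at *
    rw [map_inv, ha]

variable {n : ℕ} (hV : Nat.card V = 2 ^ n) (hn : n ≤ 4)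

include hV hn in
/-- Only the prime five acts without an element of order seven. -/
theorem prime_five {ℓ : ℕ} (hℓ : ℓ.Prime) (h5 : 5 ≤ ℓ) (h7 : ℓ ≠ 7) {k : MulAut V} (hk : k ^ ℓ = 1)
    (hk1 : k ≠ 1) : ℓ = 5 ∧ n = 4 ∧ ∀ v, k v = v → v = 1 := by
  have hmod := modEq_fixed hℓ hk ⊤ (fun v _ => trivial)
  rw [Subgroup.card_top, hV] at hmod
  have e : Nat.card {v : (⊤ : Subgroup V) // k v = v} = Nat.card (fixed k) :=
    Nat.card_congr ⟨fun v => ⟨v.1.1, v.2⟩, fun v => ⟨⟨v.1, trivial⟩, v.2⟩, fun _ => rfl, fun _ => rfl⟩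
  rw [e] at hmod
  have hd : Nat.card (fixed k) ∣ 2 ^ n := hV ▸ Subgroup.card_subgroup_dvd_card _
  obtain ⟨i, hi, hF⟩ := (Nat.dvd_prime_pow Nat.prime_two).1 hd
  have hne : i ≠ n := fun h => hk1 (MulEquiv.ext fun v => by
    have htop : fixed k = ⊤ := Subgroup.eq_top_of_card_eq _ (by rw [hF, h, hV])
    exact (show v ∈ fixed k by rw [htop]; trivial))
  rw [hF] at hmod
  have hdvd : ℓ ∣ 2 ^ n - 2 ^ i :=
    (Nat.modEq_iff_dvd' (Nat.pow_le_pow_right (by norm_num) hi)).1 hmod.symm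
  have hpos : 0 < 2 ^ n - 2 ^ i :=
    Nat.sub_pos_of_lt (Nat.pow_lt_pow_right (by norm_num) (lt_of_le_of_ne hi hne))
  have hle : ℓ ≤ 15 := (Nat.le_of_dvd hpos hdvd).trans (by
    have h1 : 2 ^ n ≤ 16 := (Nat.pow_le_pow_right (by norm_num) hn).trans le_rfl
    have h2 : 1 ≤ 2 ^ i := Nat.one_le_two_pow
    omega)
  have key : ℓ = 5 ∧ n = 4 ∧ i = 0 := by
    interval_cases ℓ <;> first
      | (exfalso; exact h7 rfl)
      | (exfalso; revert hℓ; decide)
      | (interval_cases n <;> interval_cases i <;> simp_all <;> omega)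
  refine ⟨key.1, key.2.1, fun v hv => ?_⟩
  have : fixed k = ⊥ := Subgroup.eq_bot_of_card_eq _ (by rw [hF, key.2.2, pow_zero])
  exact Subgroup.mem_bot.1 (this ▸ (show v ∈ fixed k from hv))

/-- Elements commuting with a fixed-point-free automorphism of order five of a group of order 16
act semiregularly. -/
theorem semiregular (hV : Nat.card V = 2 ^ 4) {k : MulAut V} (hk : k ^ 5 = 1)
    (hfix : ∀ v, k v = v → v = 1) {g : MulAut V} (hg : g * k = k * g) {v : V} (hv : v ≠ 1)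
    (hgv : g v = v) : g = 1 := by
  have hinv : ∀ w ∈ fixed g, k w ∈ fixed g := fun w hw => by
    show g (k w) = k w
    rw [← MulAut.mul_apply, hg, MulAut.mul_apply, show g w = w from hw]
  have hmod := modEq_fixed (by norm_num : Nat.Prime 5) hk (fixed g) hinv
  have e : Nat.card {w : fixed g // k w = w} = 1 :=
    Nat.card_eq_one_iff_unique.2 ⟨⟨fun a c => Subtype.ext (Subtype.ext (by
      rw [hfix _ a.2, hfix _ c.2]))⟩, ⟨⟨1, map_one k⟩⟩⟩
  rw [e] at hmod
  obtain ⟨i, hi, hF⟩ := (Nat.dvd_prime_pow Nat.prime_two).1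
    (hV ▸ Subgroup.card_subgroup_dvd_card (fixed g))
  have hi0 : i ≠ 0 := fun h => hv (by
    have : fixed g = ⊥ := Subgroup.eq_bot_of_card_eq _ (by rw [hF, h, pow_zero])
    exact Subgroup.mem_bot.1 (this ▸ (show v ∈ fixed g from hgv)))
  rw [hF] at hmod
  have hi4 : i = 4 := by
    interval_cases i <;> simp_all [Nat.ModEq]
  have htop : fixed g = ⊤ := Subgroup.eq_top_of_card_eq _ (by rw [hF, hi4, hV])
  exact MulEquiv.ext fun w => (show w ∈ fixed g by rw [htop]; trivial)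

/-- An involution has a nontrivial fixed point. -/
theorem exists_fixed (hV : Nat.card V = 2 ^ 4) {g : MulAut V} (hg : g ^ 2 = 1) :
    ∃ v, v ≠ 1 ∧ g v = v := by
  by_contra hc
  push Not at hc
  have hmod := modEq_fixed Nat.prime_two hg ⊤ (fun v _ => trivial)
  have e : Nat.card {w : (⊤ : Subgroup V) // g w = w} = 1 :=
    Nat.card_eq_one_iff_unique.2 ⟨⟨fun a c => Subtype.ext (Subtype.ext (by
      rw [not_imp_comm.1 (hc _) (not_not.2 a.2), not_imp_comm.1 (hc _) (not_not.2 c.2)]))⟩,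
      ⟨⟨1, map_one g⟩⟩⟩
  rw [Subgroup.card_top, hV, e] at hmod
  exact absurd hmod (by decide)

end Cfsg.Lib.CubicAut
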