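import Cfsg.Agent.Lib.Linear.CubicFour
import Cfsg.Agent.Lib.Core.PSolvable
import Cfsg.Prelude.Def_Transfer

/-!
# Irreducible groups with an element having a single cubic Jordan block

`G = R⟨b⟩` acts irreducibly over the field of three elements, `R` is a solvable `3'`-group with
`R = [R,b]`, `b` has rank at most two and a four-group of `R` is permuted by `b`.
-/

set_option autoImplicit false

namespace Cfsg.Lib.CubicBlock

open Subgroup Cfsg.Lib.CubicFour

universe u v

variable {G : Type u} [Group G] {E : Type v} [AddCommGroup E] [Module (ZMod 3) E]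
  {ρ : G →* Module.End (ZMod 3) E} {b : G} {R : Subgroup G}

/-- The setting. -/
structure Ctx (ρ : G →* Module.End (ZMod 3) E) (b : G) (R : Subgroup G) : Prop where
  cubic : IsCubic ρ b
  irr : ∀ N : Submodule (ZMod 3) E, (∀ g : G, ∀ t ∈ N, ρ g t ∈ N) → N ≠ ⊥ → N = ⊤
  normal : R.Normal
  cop : ¬ 3 ∣ Nat.card R
  comm : ⁅R, zpowers b⁆ = R
  top : R ⊔ zpowers b = ⊤
  four : ∃ q ∈ R, IsFour b q

/-- A normal subgroup containing `b` is everything. -/
theorem Ctx.eq_top (h : Ctx ρ b R) {S : Subgroup G} (hS : S.Normal) (hb : b ∈ S) : S = ⊤ := by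
  have h1 : R ≤ S := by
    rw [← h.comm]
    exact (commutator_mono le_top (zpowers_le.2 hb)).trans (commutator_le_right _ _)
  exact top_unique (h.top.ge.trans (sup_le h1 (zpowers_le.2 hb)))

/-- `R` dies in every commutative image. -/
theorem Ctx.hom_eq_one (h : Ctx ρ b R) {C : Type*} [CommGroup C] (f : G →* C) {r : G} (hr : r ∈ R) :
    f r = 1 := by
  have h1 : R ≤ f.ker := by
    rw [← h.comm, Subgroup.commutator_le]
    intro x _ y _
    simp [MonoidHom.mem_ker, commutatorElement_def, mul_comm (f x) (f y)]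
  exact h1 hr

/-- A normal subgroup centralised by `b` is central. -/
theorem Ctx.central (h : Ctx ρ b R) {A : Subgroup G} [A.Normal] (hb : ∀ a ∈ A, a * b = b * a)
    {a : G} (ha : a ∈ A) (g : G) : a * g = g * a := by
  have : centralizer (A : Set G) = ⊤ :=
    h.eq_top inferInstance (mem_centralizer_iff.2 fun a ha => hb a ha)
  exact mem_centralizer_iff.1 (show g ∈ centralizer (A : Set G) by rw [this]; trivial) a ha

theorem zmod3_cases (a : ZMod 3) : a = 0 ∨ a = 1 ∨ a = -1 := by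
  revert a; decide

/-- A weight vector of a four-group. -/
theorem exists_vec (hb : IsCubic ρ b) {q : G} (hq : IsFour b q) : ∃ v ∈ IsFour.wt ρ b q, v ≠ 0 := by
  have : ∃ w, ρ q w ≠ w := by
    by_contra h
    push Not at h
    exact hq.ne (hb.inj (LinearMap.ext fun w => by rw [h w, oneApply]))
  obtain ⟨w, hw⟩ := this
  obtain ⟨v, -, h1, h2⟩ := hq.exists_wt hb (N := ⊤) (fun _ _ => trivial) (fun _ _ => trivial) trivial hw
  exact ⟨v, h1, h2⟩

/-- Central elements are scalars. -/
theorem Ctx.scalar [Finite E] (h : Ctx ρ b R) {z : G} (hz : ∀ g, z * g = g * z) :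
    z = 1 ∨ ∀ w, ρ z w = -w := by
  obtain ⟨q, -, hq⟩ := h.four
  obtain ⟨v, hv, hv0⟩ := exists_vec h.cubic hq
  obtain ⟨h1, h2⟩ := IsFour.mem_wt.1 hv
  have hcom : ∀ g w, ρ g (ρ z w) = ρ z (ρ g w) := fun g w => by
    rw [← mulApply, ← mulApply, hz]
  obtain ⟨a, ha⟩ := hq.wt_line h.cubic hv hv0 (w := ρ z v)
    (IsFour.mem_wt.2 ⟨by rw [hcom, h1], by rw [hcom, h2, map_neg]⟩)
  have key : LinearMap.ker (ρ z - a • (1 : Module.End (ZMod 3) E)) = ⊤ := by
    refine h.irr _ (fun g t ht => ?_) fun hbot => hv0 ?_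
    · rw [LinearMap.mem_ker, LinearMap.sub_apply, LinearMap.smul_apply, Module.End.one_apply,
        sub_eq_zero] at ht ⊢
      rw [← hcom, ht, map_smul]
    · rw [← Submodule.mem_bot (ZMod 3), ← hbot]
      simp [ha]
  have hall : ∀ w, ρ z w = a • w := fun w => by
    have : w ∈ LinearMap.ker (ρ z - a • (1 : Module.End (ZMod 3) E)) := by rw [key]; trivial
    simpa [sub_eq_zero] using this
  rcases zmod3_cases a with rfl | rfl | rfl
  · exfalso
    refine hv0 ?_
    have := hall v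
    rw [zero_smul] at this
    calc v = ρ (z⁻¹ * z) v := by rw [inv_mul_cancel, oneApply]
      _ = 0 := by rw [mulApply, this, map_zero]
  · exact Or.inl (h.cubic.inj (LinearMap.ext fun w => by rw [hall, oneApply, one_smul]))
  · exact Or.inr fun w => by rw [hall, neg_one_smul]

/-! ### Elementary abelian normal subgroups of odd exponent -/

/-- An element of prime order at least five fixes every invariant submodule with at most nine
vectors. -/
theorem fix_of_small [Finite E] {a : G} {ℓ : ℕ} (hℓ : ℓ.Prime) (h5 : 5 ≤ ℓ) (ha : a ^ ℓ = 1)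
    {N : Submodule (ZMod 3) E} (hN : ∀ t ∈ N, ρ a t ∈ N) (hcard : Nat.card N ≤ 9) {t : E} (ht : t ∈ N) :
    ρ a t = t := by
  classical
  haveI : Fintype N := Fintype.ofFinite N
  haveI : Fact ℓ.Prime := ⟨hℓ⟩
  let f : N → N := fun t => ⟨ρ a t, hN t t.2⟩
  have hf : Function.Injective f := fun s t h => by
    have := congrArg (fun x : N => ρ a⁻¹ (x : E)) h
    simp only [f, ← mulApply, inv_mul_cancel, oneApply] at this
    exact Subtype.ext this
  let σ : Function.End N := f
  have hσ : ∀ (k : ℕ) (s : N), (((σ ^ k) s : N) : E) = ρ (a ^ k) s := by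
    intro k
    induction k with
    | zero => intro s; simp [oneApply]; rfl
    | succ k ih =>
      intro s
      rw [pow_succ' a, mulApply, ← ih, pow_succ']
      rfl
  have hpow : σ ^ ℓ ^ 1 = 1 := by
    funext s
    apply Subtype.ext
    rw [pow_one, hσ, ha, oneApply]
    rfl
  have hmod := Equiv.Perm.card_fixedPoints_modEq hpow
  let F : Submodule (ZMod 3) E := N ⊓ LinearMap.ker (ρ a - 1)
  have hF : Nat.card F = Fintype.card (Function.fixedPoints σ) := by
    rw [← Nat.card_eq_fintype_card]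
    refine Nat.card_congr
      ⟨fun s => ⟨⟨s, s.2.1⟩, Subtype.ext (sub_eq_zero.1 (LinearMap.mem_ker.1 s.2.2))⟩,
       fun s => ⟨s.1, s.1.2, LinearMap.mem_ker.2 (sub_eq_zero.2 (congrArg Subtype.val s.2))⟩,
       fun s => rfl, fun s => rfl⟩
  rw [← hF, ← Nat.card_eq_fintype_card] at hmod
  have h3 : ∀ M : Submodule (ZMod 3) E, Nat.card M ≤ 9 →
      Nat.card M = 1 ∨ Nat.card M = 3 ∨ Nat.card M = 9 := by
    intro M hM
    have hM3 : Nat.card M = 3 ^ Module.finrank (ZMod 3) M := by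
      rw [Module.natCard_eq_pow_finrank (K := ZMod 3), Nat.card_zmod]
    have : Module.finrank (ZMod 3) M < 3 := by
      by_contra hc
      have : 27 ≤ Nat.card M := by
        rw [hM3]
        calc 27 = 3 ^ 3 := rfl
          _ ≤ _ := Nat.pow_le_pow_right (by norm_num) (not_lt.1 hc)
      omega
    interval_cases (Module.finrank (ZMod 3) M) <;> simp_all
  have hle : Nat.card F ≤ Nat.card N :=
    Nat.card_mono (Set.toFinite _) (inf_le_left : F ≤ N)
  have heq : Nat.card F = Nat.card N := by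
    by_contra hne
    have hd : ℓ ∣ Nat.card N - Nat.card F := (Nat.modEq_iff_dvd' hle).1 (hmod.symm)
    rcases h3 N hcard with e | e | e <;> rcases h3 F (hle.trans hcard) with e' | e' | e' <;>
      rw [e, e'] at hd hne hle <;> try omega
    · exact absurd (Nat.le_of_dvd (by norm_num) hd) (by omega)
    · have := (Nat.Prime.dvd_mul hℓ).1 (show ℓ ∣ 2 * 4 from hd)
      rcases this with h | h <;> have := Nat.le_of_dvd (by norm_num) h <;> omega
    · have := (Nat.Prime.dvd_mul hℓ).1 (show ℓ ∣ 2 * 3 from hd)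
      rcases this with h | h <;> have := Nat.le_of_dvd (by norm_num) h <;> omega
  have : t ∈ F := by
    have hFN : (F : Set E) = N :=
      Set.eq_of_subset_of_ncard_le (inf_le_left : F ≤ N) (le_of_eq heq.symm) (Set.toFinite _)
    exact hFN.ge ht
  exact sub_eq_zero.1 (LinearMap.mem_ker.1 this.2)

section Odd

variable [Finite E] {q : G} (hb : IsCubic ρ b) (hq : IsFour b q) {v : E}
  (hv : v ∈ IsFour.wt ρ b q) (hv0 : v ≠ 0)

include hb hq hv hv0 in
theorem line₂ {y : E} (h1 : ρ q y = -y) (h2 : ρ (b * q * b⁻¹) y = y) :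
    ∃ c : ZMod 3, y = c • ρ b v := by
  have hw : ρ b (ρ b y) ∈ IsFour.wt ρ b q := by
    have hb3 : b * b * b = 1 := by rw [← pow_three', hb.cube]
    have e1 : q * (b * b) = b * b * (b * q * b⁻¹) := by
      calc q * (b * b) = (b * b * b) * q * (b * b) := by rw [hb3, one_mul]
        _ = b * b * (b * q * b⁻¹) * (b * b * b) := by group
        _ = _ := by rw [hb3, mul_one]
    refine IsFour.mem_wt.2 ⟨?_, ?_⟩
    · rw [← mulApply ρ b b, ← mulApply, e1, mulApply, h2]
    · have e2 : b * q * b⁻¹ * (b * b) = b * b * (q * (b * q * b⁻¹)) := by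
        rw [← hq.prod]
        calc b * q * b⁻¹ * (b * b) = (b * b * b) * (b * q * b⁻¹) * (b * b) := by rw [hb3, one_mul]
          _ = b * b * (b * (b * q * b⁻¹) * b⁻¹) * (b * b * b) := by group
          _ = _ := by rw [hb3, mul_one]
      rw [← mulApply ρ b b, ← mulApply, e2, mulApply, mulApply ρ q (b * q * b⁻¹), h2, h1, map_neg]
  obtain ⟨c, hc⟩ := hq.wt_line hb hv hv0 hw
  exact ⟨c, by rw [← IsFour.bbb hb y, hc, map_smul]⟩

include hb hq hv hv0 in
theorem line₃ {y : E} (h1 : ρ q y = -y) (h2 : ρ (b * q * b⁻¹) y = -y) :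
    ∃ c : ZMod 3, y = c • ρ b (ρ b v) := by
  have hw : ρ b y ∈ IsFour.wt ρ b q := by
    have hb3 : b * b * b = 1 := by rw [← pow_three', hb.cube]
    have e1 : q * b = b * (q * (b * q * b⁻¹)) := by
      rw [← hq.prod]
      calc q * b = (b * b * b) * q * b := by rw [hb3, one_mul]
        _ = b * (b * (b * q * b⁻¹) * b⁻¹) * (b * b * b) := by group
        _ = _ := by rw [hb3, mul_one]
    refine IsFour.mem_wt.2 ⟨?_, ?_⟩
    · rw [← mulApply, e1, mulApply, mulApply, h2, map_neg, h1, neg_neg]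
    · rw [← mulApply, show b * q * b⁻¹ * b = b * q by group, mulApply, h1, map_neg]
  obtain ⟨c, hc⟩ := hq.wt_line hb hv hv0 hw
  exact ⟨c, by rw [← IsFour.bbb hb y, hc, map_smul, map_smul]⟩

include hb hq hv hv0 in
/-- An element of `A` centralizing `q` centralizes `b q b⁻¹`, for `A` abelian normal of exponent
`ℓ ≥ 5`. -/
theorem comm_of_comm {A : Subgroup G} [hA : A.Normal] (hab : IsMulCommutative A) {ℓ : ℕ}
    (hℓ : ℓ.Prime) (h5 : 5 ≤ ℓ) (hexp : ∀ a ∈ A, a ^ ℓ = 1) {a : G} (haA : a ∈ A)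
    (haq : a * q = q * a) : a * (b * q * b⁻¹) = (b * q * b⁻¹) * a := by
  classical
  obtain ⟨m1, m2, m3, m4⟩ := hq.wt_move hv
  obtain ⟨v1, v2⟩ := IsFour.mem_wt.1 hv
  set p := b * q * b⁻¹ with hp
  -- the plane inverted by `q`
  let P : Submodule (ZMod 3) E := LinearMap.ker (ρ q + 1)
  have hPmem : ∀ t, t ∈ P ↔ ρ q t = -t := fun t => by
    simp [P, LinearMap.mem_ker, add_eq_zero_iff_eq_neg]
  have hdec : ∀ t, ρ q t = t → ∃ x u, t = x + u ∧ x ∈ IsFour.wt ρ b q ∧ ρ p u = u := by
    intro t ht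
    obtain ⟨x, y, z, u, e, hx, hy, hz, hu, -⟩ := hq.decomp (ρ := ρ) t
    have h0 : (x - x) + y + z + (u - u) = 0 := by
      have := ht
      rw [e, map_add, map_add, map_add, (IsFour.mem_wt.1 hx).1, hy.1, hz.1, hu.1] at this
      have h2 : (y + z) + (y + z) = 0 := by
        rw [← sub_eq_zero.2 this.symm]; abel
      rw [sub_self, sub_self, zero_add, add_zero]
      exact two_smul_eq h2
    obtain ⟨-, hy0, hz0, -⟩ := hq.indep (x := x - x) (u := u - u) (by simp) hy hz (by simp) h0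
    exact ⟨x, u, by rw [e, hy0, hz0]; abel, hx, hu.2⟩
  have hPcard : Nat.card P ≤ 9 := by
    let f : ZMod 3 × ZMod 3 → P := fun c => ⟨c.1 • ρ b v + c.2 • ρ b (ρ b v),
      (hPmem _).2 (by rw [map_add, map_smul, map_smul, m1, m3]; simp; abel)⟩
    refine le_of_le_of_eq (Nat.card_le_card_of_surjective f ?_) (by simp)
    rintro ⟨t, ht⟩
    rw [hPmem] at ht
    obtain ⟨x, y, z, u, e, hx, hy, hz, hu, -⟩ := hq.decomp (ρ := ρ) t
    have h0 : x + (y - y) + (z - z) + u = 0 := by
      have := ht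
      rw [e, map_add, map_add, map_add, (IsFour.mem_wt.1 hx).1, hy.1, hz.1, hu.1] at this
      have h2 : (x + u) + (x + u) = 0 := by
        rw [← sub_eq_zero.2 this]; abel
      rw [sub_self, sub_self, add_zero, add_zero]
      exact two_smul_eq h2
    obtain ⟨hx0, -, -, hu0⟩ := hq.indep hx (y := y - y) (z := z - z) (by simp) (by simp) hu h0
    obtain ⟨c, hc⟩ := line₂ hb hq hv hv0 hy.1 hy.2
    obtain ⟨c', hc'⟩ := line₃ hb hq hv hv0 hz.1 hz.2
    exact ⟨(c, c'), Subtype.ext (by simp [f, e, hx0, hu0, hc, hc'])⟩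
  have hfixP : ∀ t ∈ P, ρ a t = t := fun t ht => by
    refine fix_of_small hℓ h5 (hexp a haA) (fun s hs => ?_) hPcard ht
    rw [hPmem] at hs ⊢
    rw [← mulApply, ← haq, mulApply, hs, map_neg]
  have hfix' : ∀ t ∈ P, ρ a⁻¹ t = t := fun t ht => by
    conv_lhs => rw [← hfixP t ht, ← mulApply, inv_mul_cancel, oneApply]
  obtain ⟨c, hc⟩ : ∃ c, c = a⁻¹ * (p * a * p) := ⟨_, rfl⟩
  have hcA : c ∈ A := by
    have hpi : p⁻¹ = p := inv_eq_of_mul_eq_one_right hq.sq₂
    have := hA.conj_mem a haA p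
    rw [hpi] at this
    rw [hc]
    exact A.mul_mem (A.inv_mem haA) this
  have hpP : ∀ t ∈ P, ρ p t ∈ P := fun t ht => by
    rw [hPmem] at ht ⊢
    rw [← mulApply, hq.comm, mulApply, ht, map_neg]
  have hcP : ∀ t ∈ P, ρ c t = t := fun t ht => by
    have hp2 : p * p = 1 := hq.sq₂
    rw [hc, mulApply ρ a⁻¹ (p * a * p), mulApply ρ (p * a) p, mulApply ρ p a, hfixP _ (hpP t ht),
      ← mulApply ρ p p, hp2, oneApply,
      hfix' t ht]
  have hp1 : ∀ t, ρ q t = t → ∃ k : ZMod 3, ρ p t - t = k • v := fun t ht => by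
    obtain ⟨x, u, e, hx, hu⟩ := hdec t ht
    obtain ⟨k, hk⟩ := hq.wt_line hb hv hv0 hx
    refine ⟨k, ?_⟩
    rw [e, map_add, (IsFour.mem_wt.1 hx).2, hu]
    conv_rhs => rw [← hk, ← four_smul x]
    have h3 : x + x + x = 0 := by
      have h := four_smul x
      exact add_eq_right.1 h
    rw [show -x + u - (x + u) = (x + x + x + x) - (x + x + x) - (x + x + x) by abel, h3]
    abel
  let W : Submodule (ZMod 3) E := LinearMap.range (ρ c - 1)
  have hW : ∀ d ∈ W, ∃ k l : ZMod 3, d = k • v + l • ρ a⁻¹ v := by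
    rintro _ ⟨t, rfl⟩
    obtain ⟨x, y, z, u, e, hx, hy, hz, hu, -⟩ := hq.decomp (ρ := ρ) t
    have hs : ρ q (x + u) = x + u := by rw [map_add, (IsFour.mem_wt.1 hx).1, hu.1]
    have hyz : y + z ∈ P := (hPmem _).2 (by rw [map_add, hy.1, hz.1]; abel)
    have hqp : ∀ t, ρ q t = t → ρ q (ρ p t) = ρ p t := fun t ht => by
      rw [← mulApply, hq.comm, mulApply, ht]
    have hqa : ∀ t, ρ q t = t → ρ q (ρ a t) = ρ a t := fun t ht => by
      rw [← mulApply, ← haq, mulApply, ht]
    obtain ⟨k, hk⟩ := hp1 _ (hqa _ (hqp _ hs))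
    obtain ⟨l, hl⟩ := hp1 _ hs
    refine ⟨l, k, ?_⟩
    have : ρ c t - t = ρ c (x + u) - (x + u) := by
      rw [e, show x + y + z + u = (x + u) + (y + z) by abel, map_add (ρ c), hcP _ hyz]
      abel
    rw [LinearMap.sub_apply, Module.End.one_apply, this, hc, mulApply ρ a⁻¹ (p * a * p), mulApply ρ (p * a) p, mulApply ρ p a,
      ← map_smul, ← hk, ← hl, map_sub, ← mulApply ρ a⁻¹ a, inv_mul_cancel, oneApply]
    abel
  have hWcard : Nat.card W ≤ 9 := by
    choose k l hkl using hW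
    refine le_of_le_of_eq (Nat.card_le_card_of_injective (fun d : W => (k d d.2, l d d.2))
      fun d d' h => Subtype.ext ?_) (by simp : Nat.card (ZMod 3 × ZMod 3) = 9)
    simp only [Prod.mk.injEq] at h
    rw [hkl d d.2, hkl d' d'.2, h.1, h.2]
  have hcube : c ^ 3 = 1 := hb.inj (LinearMap.ext fun t => by
    have hW1 : ∀ d ∈ W, ρ c d = d := fun d hd => by
      refine fix_of_small hℓ h5 (hexp c hcA) ?_ hWcard hd
      rintro _ ⟨s, rfl⟩
      exact ⟨ρ c s, by simp⟩
    have hd := hW1 (ρ c t - t) ⟨t, by simp⟩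
    set d := ρ c t - t with hdd
    have e : ρ c t = t + d := by rw [hdd]; abel
    rw [oneApply, pow_three, mulApply ρ c (c * c), mulApply ρ c c, e, map_add, e, hd, map_add, map_add, e, hd]
    have h3 : d + d + d = 0 := add_eq_right.1 (four_smul d)
    rw [show t + d + d + d = t + (d + d + d) by abel, h3, add_zero])
  have hc1 : c = 1 := by
    have h := pow_gcd_eq_one.2 ⟨hcube, hexp c hcA⟩
    rwa [(Nat.coprime_primes Nat.prime_three hℓ).2 (by omega), pow_one] at h
  rw [hc] at hc1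
  have hp2 : p * p = 1 := hq.sq₂
  have e1 : a = p * a * p := inv_mul_eq_one.1 hc1
  calc a * p = (p * a * p) * p := congrArg (· * p) e1
    _ = p * a := by rw [mul_assoc, hp2, mul_one]

end Odd

/-- No noncentral normal abelian subgroup of odd prime exponent. -/
theorem Ctx.odd_central [Finite E] (h : Ctx ρ b R) {A : Subgroup G} [hA : A.Normal]
    (hab : IsMulCommutative A) {ℓ : ℕ} (hℓ : ℓ.Prime) (h5 : 5 ≤ ℓ) (hexp : ∀ a ∈ A, a ^ ℓ = 1)
    {a : G} (haA : a ∈ A) : a * b = b * a := by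
  obtain ⟨q, -, hq⟩ := h.four
  have hb := h.cubic
  set p := b * q * b⁻¹ with hp
  have hq2 : IsFour b p := by
    refine ⟨hq.sq₂, fun e => hq.ne ?_, ?_, ?_⟩
    · have : b * q * b⁻¹ = 1 := e
      rwa [conj_eq_one_iff] at this
    · rw [hq.prod, ← mul_assoc, ← hq.comm]
    · have hb3 : b * b * b = 1 := by rw [← pow_three', hb.cube]
      calc b * (b * p * b⁻¹) * b⁻¹ = (b * b * b) * q * (b * b * b)⁻¹ := by rw [hp]; group
        _ = q := by rw [hb3]; group
        _ = p * (b * p * b⁻¹) := by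
          rw [hq.prod, ← mul_assoc, ← hq.comm, mul_assoc, hq.sq₂, mul_one]
  obtain ⟨v, hv, hv0⟩ := exists_vec hb hq
  obtain ⟨v', hv', hv0'⟩ := exists_vec hb hq2
  obtain ⟨m1, m2, m3, m4⟩ := hq.wt_move hv
  obtain ⟨v1, v2⟩ := IsFour.mem_wt.1 hv
  have k1 : ∀ x ∈ A, x * q = q * x → x * p = p * x := fun x hx hxq =>
    comm_of_comm hb hq hv hv0 hab hℓ h5 hexp hx hxq
  have k2 : ∀ x ∈ A, x * p = p * x → x * q = q * x := fun x hx hxp => by
    have h2 := comm_of_comm hb hq2 hv' hv0' hab hℓ h5 hexp hx hxp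
    rw [hq.prod] at h2
    have hqq : q = (q * p) * p := by rw [mul_assoc, hq.sq₂, mul_one]
    calc x * q = x * ((q * p) * p) := by rw [← hqq]
      _ = (q * p) * (x * p) := by rw [← mul_assoc, h2, mul_assoc]
      _ = ((q * p) * p) * x := by rw [hxp, ← mul_assoc]
      _ = q * x := by rw [← hqq]
  have hqi : q⁻¹ = q := inv_eq_of_mul_eq_one_right hq.sq
  have hpi : p⁻¹ = p := inv_eq_of_mul_eq_one_right hq.sq₂
  have hc := fun x (hx : x ∈ A) y (hy : y ∈ A) => congrArg Subtype.val
    (hab.is_comm.comm (⟨x, hx⟩ : A) ⟨y, hy⟩)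
  simp only [MulMemClass.coe_mul] at hc
  have hconj : ∀ g x, x ∈ A → g * x * g⁻¹ ∈ A := fun g x hx => hA.conj_mem x hx g
  -- the squares are centralised by `q` and `p`
  have hsq : a * a * q = q * (a * a) := by
    set aq := q * a * q⁻¹ with e1
    set ap := p * a * p⁻¹ with e2
    set ar := q * p * a * (q * p)⁻¹ with e3
    have A1 := hconj q a haA
    have A2 := hconj p a haA
    have A3 := hconj (q * p) a haA
    rw [← e1] at A1
    rw [← e2] at A2
    rw [← e3] at A3
    have hpq : p * q = q * p := hq.comm.symm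
    let fix : G → Prop := fun x => q * x * q⁻¹ = x
    have f1 : fix (a * aq) := by
      show q * (a * aq) * q⁻¹ = a * aq
      calc q * (a * aq) * q⁻¹ = aq * ((q * q) * a * (q * q)⁻¹) := by rw [e1]; group
        _ = aq * a := by rw [hq.sq]; group
        _ = a * aq := hc _ A1 _ haA
    have f2' : fix (a * ap) := by
      have hfix : p * (a * ap) * p⁻¹ = a * ap := by
        calc p * (a * ap) * p⁻¹ = ap * ((p * p) * a * (p * p)⁻¹) := by rw [e2]; group
          _ = ap * a := by rw [hq.sq₂]; group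
          _ = a * ap := hc _ A2 _ haA
      have := k2 _ (A.mul_mem haA A2) (mul_inv_eq_iff_eq_mul.1 hfix).symm
      exact mul_inv_eq_iff_eq_mul.2 this.symm
    have f4 : fix (a * aq * ap * ar) := by
      show q * (a * aq * ap * ar) * q⁻¹ = a * aq * ap * ar
      calc q * (a * aq * ap * ar) * q⁻¹
          = aq * ((q * q) * a * (q * q)⁻¹) * ar * ((q * q) * p * a * ((q * q) * p)⁻¹) := by
            rw [e1, e2, e3]; group
        _ = aq * a * ar * ap := by rw [hq.sq]; rw [e2]; group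
        _ = a * aq * (ar * ap) := by rw [hc _ A1 _ haA]; group
        _ = _ := by rw [hc _ A3 _ A2]; group
    have f3 : fix (a * ar) := by
      have hfix : (q * p) * (a * ar) * (q * p)⁻¹ = a * ar := by
        have hr2 : (q * p) * (q * p) = 1 := by
          rw [mul_assoc, ← mul_assoc p q p, hpq, mul_assoc, hq.sq₂, mul_one, hq.sq]
        calc (q * p) * (a * ar) * (q * p)⁻¹
            = ar * (((q * p) * (q * p)) * a * ((q * p) * (q * p))⁻¹) := by rw [e3]; group
          _ = ar * a := by rw [hr2]; group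
          _ = a * ar := hc _ A3 _ haA
      have hr := (mul_inv_eq_iff_eq_mul.1 hfix).symm
      have hq3 : IsFour b (q * p) := by
        have hb3 : b * b * b = 1 := by rw [← pow_three', hb.cube]
        have hbr : b * (q * p) * b⁻¹ = q := by
          rw [← hq.prod]
          calc b * (b * p * b⁻¹) * b⁻¹ = (b * b * b) * q * (b * b * b)⁻¹ := by rw [hp]; group
            _ = q := by rw [hb3]; group
        refine ⟨by rw [mul_assoc, ← mul_assoc p q p, hpq, mul_assoc, hq.sq₂, mul_one, hq.sq],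
          fun e => hq.ne₂ ?_, ?_, ?_⟩
        · exact (eq_inv_of_mul_eq_one_right e).trans hqi
        · rw [hbr]
          rw [mul_assoc, hpq]
        · rw [hbr, hp.symm, mul_assoc, hpq, ← mul_assoc, hq.sq, one_mul]
      obtain ⟨v'', hv'', hv0''⟩ := exists_vec hb hq3
      have h3 := comm_of_comm hb hq3 hv'' hv0'' hab hℓ h5 hexp (A.mul_mem haA A3) hr
      have hbr : b * (q * p) * b⁻¹ = q := by
        have hb3 : b * b * b = 1 := by rw [← pow_three', hb.cube]
        rw [← hq.prod]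
        calc b * (b * p * b⁻¹) * b⁻¹ = (b * b * b) * q * (b * b * b)⁻¹ := by rw [hp]; group
          _ = q := by rw [hb3]; group
      rw [hbr] at h3
      exact mul_inv_eq_iff_eq_mul.2 h3.symm
    have hmul : ∀ x y, fix x → fix y → fix (x * y) := fun x y hx hy => by
      show q * (x * y) * q⁻¹ = x * y
      conv_rhs => rw [← hx, ← hy]
      group
    have hinv : ∀ x, fix x → fix x⁻¹ := fun x hx => by
      show q * x⁻¹ * q⁻¹ = x⁻¹
      conv_rhs => rw [← hx]
      group
    have haa : fix (a * a) := by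
      have := hmul _ _ (hmul _ _ (hmul _ _ f1 f2') f3) (hinv _ f4)
      convert this using 1
      have c1 : a * aq * (a * ap) = a * a * (aq * ap) := by
        rw [mul_assoc a aq, ← mul_assoc aq a ap, hc _ A1 _ haA]; group
      rw [c1, mul_assoc (a * a) (aq * ap), ← mul_assoc (aq * ap) a ar,
        hc _ (A.mul_mem A1 A2) _ haA]
      group
    exact (mul_inv_eq_iff_eq_mul.1 haa).symm
  have haq : a * q = q * a := by
    have hcm : Commute (a * a) q := hsq
    have h2 := hcm.pow_left ((ℓ + 1) / 2)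
    rw [← pow_two, ← pow_mul, Nat.mul_div_cancel' (by
      have := hℓ.eq_two_or_odd
      omega), pow_succ, hexp a haA, one_mul] at h2
    exact h2
  have hap := k1 a haA haq
  -- lines are fixed
  have hline : ∀ g : G, (∀ w, w ∈ IsFour.wt ρ b q → ρ g w ∈ IsFour.wt ρ b q) → g ^ ℓ = 1 →
      ρ g v = v := by
    intro g hg hgl
    obtain ⟨c, hc'⟩ := hq.wt_line hb hv hv0 (hg v hv)
    have hk : ∀ k : ℕ, ρ (g ^ k) v = c ^ k • v := by
      intro k
      induction k with
      | zero => simp [oneApply]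
      | succ k ih => rw [pow_succ, mulApply, hc', map_smul, ih, smul_smul, pow_succ']
    have := hk ℓ
    rw [hgl, oneApply] at this
    have hc1 : c ^ ℓ = 1 := by
      have h0 : (c ^ ℓ - 1) • v = 0 := by rw [sub_smul, one_smul, ← this, sub_self]
      rw [smul_eq_zero, or_iff_left hv0, sub_eq_zero] at h0
      exact h0
    rcases zmod3_cases c with rfl | rfl | rfl
    · simp [zero_pow hℓ.ne_zero] at hc1
    · rw [hc', one_smul]
    · rw [(hℓ.odd_of_ne_two (by omega)).neg_one_pow] at hc1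
      exact absurd hc1 (by decide)
  have hwt : ∀ x ∈ A, x * q = q * x → x * p = p * x → ∀ w, w ∈ IsFour.wt ρ b q →
      ρ x w ∈ IsFour.wt ρ b q := fun x _ hxq hxp w hw => by
    obtain ⟨e1, e2⟩ := IsFour.mem_wt.1 hw
    refine IsFour.mem_wt.2 ⟨?_, ?_⟩
    · rw [← mulApply, ← hxq, mulApply, e1]
    · rw [← hp, ← mulApply, ← hxp, mulApply, e2, map_neg]
  -- conjugates of `a` by powers of `b`
  have hcq : ∀ x ∈ A, x * q = q * x → x * p = p * x →
      (b⁻¹ * x * b) * q = q * (b⁻¹ * x * b) := fun x _ _ hxp => by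
    calc b⁻¹ * x * b * q = b⁻¹ * (x * p) * b := by rw [hp]; group
      _ = q * (b⁻¹ * x * b) := by rw [hxp, hp]; group
  have hb1 : b⁻¹ * a * b ∈ A := by simpa using hconj b⁻¹ a haA
  have hq1 := hcq a haA haq hap
  have hp1 := k1 _ hb1 hq1
  have hb2 : b⁻¹ * (b⁻¹ * a * b) * b ∈ A := by simpa using hconj b⁻¹ _ hb1
  have hq2' := hcq _ hb1 hq1 hp1
  have hp2' := k1 _ hb2 hq2'
  have ev1 := hline a (hwt a haA haq hap) (hexp a haA)
  have ev2 : ρ a (ρ b v) = ρ b v := by
    rw [← mulApply, show a * b = b * (b⁻¹ * a * b) by group, mulApply,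
      hline _ (hwt _ hb1 hq1 hp1) (hexp _ hb1)]
  have ev3 : ρ a (ρ b (ρ b v)) = ρ b (ρ b v) := by
    rw [← mulApply ρ b b, ← mulApply, show a * (b * b) = b * b * (b⁻¹ * (b⁻¹ * a * b) * b) by group,
      mulApply, hline _ (hwt _ hb2 hq2' hp2') (hexp _ hb2)]
  refine hb.inj (LinearMap.ext fun t => ?_)
  rw [mulApply, mulApply]
  obtain ⟨x, y, z, u, e, hx, hy, hz, hu, -⟩ := hq.decomp (ρ := ρ) t
  obtain ⟨c1, rfl⟩ := hq.wt_line hb hv hv0 hx
  obtain ⟨c2, rfl⟩ := line₂ hb hq hv hv0 hy.1 hy.2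
  obtain ⟨c3, rfl⟩ := line₃ hb hq hv hv0 hz.1 hz.2
  have hu' := hq.fix_fixed hb hv hv0 hu.1 hu.2
  have hau : ρ b (ρ a u) = ρ a u := hq.fix_fixed hb hv hv0
    (by rw [← mulApply, ← haq, mulApply, hu.1]) (by rw [← hp, ← mulApply, ← hap, mulApply, hu.2])
  subst e
  simp only [map_add, map_smul, ev1, ev2, ev3, hu', hau, IsFour.bbb hb v]

end Cfsg.Lib.CubicBlock
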