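import Mathlib

/-!
# A four-group permuted by an element with one cubic Jordan block over the field of three elements
-/

set_option autoImplicit false

namespace Cfsg.Lib.CubicFour

universe u v

variable {G : Type u} [Group G] {E : Type v} [AddCommGroup E] [Module (ZMod 3) E]
  (ρ : G →* Module.End (ZMod 3) E) (b : G)

/-- `q` and its conjugates under `⟨b⟩` are the involutions of a four-group. -/
structure IsFour (q : G) : Prop where
  sq : q * q = 1
  ne : q ≠ 1
  comm : q * (b * q * b⁻¹) = (b * q * b⁻¹) * q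
  prod : b * (b * q * b⁻¹) * b⁻¹ = q * (b * q * b⁻¹)

/-- The hypotheses on `b`. -/
structure IsCubic : Prop where
  inj : Function.Injective ρ
  cube : b ^ 3 = 1
  rank : Nat.card (LinearMap.range (ρ b - 1)) ≤ 9

theorem mulApply (g h : G) (w : E) : ρ (g * h) w = ρ g (ρ h w) := by
  rw [map_mul]; rfl

theorem oneApply (w : E) : ρ 1 w = w := by
  rw [map_one]; rfl

variable {ρ b}

namespace IsFour

variable {q : G} (hq : IsFour b q)

include hq in
theorem sq₂ : (b * q * b⁻¹) * (b * q * b⁻¹) = 1 := by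
  calc (b * q * b⁻¹) * (b * q * b⁻¹) = b * (q * q) * b⁻¹ := by group
    _ = 1 := by rw [hq.sq]; group

include hq in
theorem ne₂ : b * q * b⁻¹ ≠ q := fun h => hq.ne (by
  have h1 := hq.prod
  rw [h, h, hq.sq] at h1
  exact h1)

/-- The weight space with `q ↦ 1`, `b q b⁻¹ ↦ -1`. -/
def wt (ρ : G →* Module.End (ZMod 3) E) (b q : G) : Submodule (ZMod 3) E :=
  LinearMap.ker (ρ q - 1) ⊓ LinearMap.ker (ρ (b * q * b⁻¹) + 1)

theorem mem_wt {w : E} : w ∈ wt ρ b q ↔ ρ q w = w ∧ ρ (b * q * b⁻¹) w = -w := by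
  simp only [wt, Submodule.mem_inf, LinearMap.mem_ker, LinearMap.sub_apply, LinearMap.add_apply,
    Module.End.one_apply, sub_eq_zero, add_eq_zero_iff_eq_neg]

include hq in
/-- The first two images of a weight vector: the weights permute cyclically. -/
theorem wt_move {w : E} (hw : w ∈ wt ρ b q) :
    ρ q (ρ b w) = -ρ b w ∧ ρ (b * q * b⁻¹) (ρ b w) = ρ b w ∧
      ρ q (ρ b (ρ b w)) = -ρ b (ρ b w) ∧ ρ (b * q * b⁻¹) (ρ b (ρ b w)) = -ρ b (ρ b w) := by
  obtain ⟨h1, h2⟩ := mem_wt.1 hw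
  set p := b * q * b⁻¹ with hp
  have e2 : ρ p (ρ b w) = ρ b w := by
    rw [← mulApply, show p * b = b * q by rw [hp]; group, mulApply, h1]
  have e3 : ρ (q * p) (ρ b w) = -ρ b w := by
    rw [← mulApply, ← hq.prod, show b * p * b⁻¹ * b = b * p by group, mulApply, h2, map_neg]
  have e1 : ρ q (ρ b w) = -ρ b w := by rw [← e3, mulApply, e2]
  have e5 : ρ p (ρ b (ρ b w)) = -ρ b (ρ b w) := by
    rw [← mulApply ρ p b, show p * b = b * q by rw [hp]; group, mulApply, e1, map_neg]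
  have e6 : ρ (q * p) (ρ b (ρ b w)) = ρ b (ρ b w) := by
    rw [← mulApply ρ (q * p) b, ← hq.prod, show b * p * b⁻¹ * b = b * p by group, mulApply, e2]
  have e7 : ρ q (ρ b (ρ b w)) = -ρ b (ρ b w) := by
    rw [mulApply, e5, map_neg] at e6
    exact neg_eq_iff_eq_neg.1 e6
  exact ⟨e1, e2, e7, e5⟩

end IsFour

theorem four_smul (w : E) : w + w + w + w = w := by
  have : (4 : ZMod 3) • w = w := by rw [show (4 : ZMod 3) = 1 from rfl, one_smul]
  rw [show (4 : ZMod 3) = 1 + 1 + 1 + 1 from rfl, add_smul, add_smul, add_smul, one_smul] at this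
  exact this

theorem two_smul_eq {w : E} (h : w + w = 0) : w = 0 := by
  have := four_smul w
  rw [h, zero_add, h] at this
  exact this.symm

theorem eq_zero_of_eq_neg {w : E} (h : w = -w) : w = 0 :=
  two_smul_eq (add_eq_zero_iff_eq_neg.2 h)

namespace IsFour

variable {q : G} (hq : IsFour b q)

include hq in
/-- Components with different weights are independent. -/
theorem indep {x y z u : E} (hx : x ∈ wt ρ b q)
    (hy : ρ q y = -y ∧ ρ (b * q * b⁻¹) y = y) (hz : ρ q z = -z ∧ ρ (b * q * b⁻¹) z = -z)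
    (hu : ρ q u = u ∧ ρ (b * q * b⁻¹) u = u) (h : x + y + z + u = 0) :
    x = 0 ∧ y = 0 ∧ z = 0 ∧ u = 0 := by
  obtain ⟨x1, x2⟩ := mem_wt.1 hx
  set p := b * q * b⁻¹
  have hA : x - y - z + u = 0 := by
    have := congrArg (ρ q) h
    rw [map_add, map_add, map_add, x1, hy.1, hz.1, hu.1, map_zero] at this
    rw [← this]; abel
  have hB : -x + y - z + u = 0 := by
    have := congrArg (ρ p) h
    rw [map_add, map_add, map_add, x2, hy.2, hz.2, hu.2, map_zero] at this
    rw [← this]; abel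
  have hC : -x - y + z + u = 0 := by
    have := congrArg (ρ p) hA
    rw [map_add, map_sub, map_sub, x2, hy.2, hz.2, hu.2, map_zero] at this
    rw [← this]; abel
  have h0 : (x + x + x + x) = 0 := by
    calc (x + x + x + x) = (x + y + z + u) + (x - y - z + u) - (-x + y - z + u) - (-x - y + z + u) := by abel
      _ = 0 := by rw [h, hA, hB, hC]; abel
  have h1 : (y + y + y + y) = 0 := by
    calc (y + y + y + y) = (x + y + z + u) - (x - y - z + u) + (-x + y - z + u) - (-x - y + z + u) := by abel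
      _ = 0 := by rw [h, hA, hB, hC]; abel
  have h2 : (z + z + z + z) = 0 := by
    calc (z + z + z + z) = (x + y + z + u) - (x - y - z + u) - (-x + y - z + u) + (-x - y + z + u) := by abel
      _ = 0 := by rw [h, hA, hB, hC]; abel
  rw [four_smul] at h0 h1 h2
  refine ⟨h0, h1, h2, ?_⟩
  rw [h0, h1, h2] at h
  simpa using h

include hq in
/-- Every vector is a sum of weight components; the first three lie in any invariant submodule with
the vector. -/
theorem decomp (w : E) : ∃ x y z u : E, w = x + y + z + u ∧ x ∈ wt ρ b q ∧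
    (ρ q y = -y ∧ ρ (b * q * b⁻¹) y = y) ∧ (ρ q z = -z ∧ ρ (b * q * b⁻¹) z = -z) ∧
    (ρ q u = u ∧ ρ (b * q * b⁻¹) u = u) ∧
    ∀ N : Submodule (ZMod 3) E, (∀ t ∈ N, ρ q t ∈ N) → (∀ t ∈ N, ρ (b * q * b⁻¹) t ∈ N) → w ∈ N →
      x ∈ N ∧ y ∈ N ∧ z ∈ N ∧ u ∈ N := by
  have hp2 := hq.sq₂
  set p := b * q * b⁻¹ with hp
  have qq : ∀ t, ρ q (ρ q t) = t := fun t => by rw [← mulApply, hq.sq, oneApply]
  have pp : ∀ t, ρ p (ρ p t) = t := fun t => by rw [← mulApply, hp2, oneApply]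
  have qp : ∀ t, ρ p (ρ q t) = ρ q (ρ p t) := fun t => by
    rw [← mulApply, ← mulApply, hq.comm]
  refine ⟨w + ρ q w - ρ p w - ρ q (ρ p w), w - ρ q w + ρ p w - ρ q (ρ p w),
    w - ρ q w - ρ p w + ρ q (ρ p w), w + ρ q w + ρ p w + ρ q (ρ p w), ?_, ?_, ⟨?_, ?_⟩, ⟨?_, ?_⟩,
    ⟨?_, ?_⟩, ?_⟩
  · conv_lhs => rw [← four_smul w]
    abel
  · rw [mem_wt]
    refine ⟨?_, ?_⟩ <;> simp only [map_add, map_sub, qq, pp, qp, ← hp] <;> abel
  all_goals try (simp only [map_add, map_sub, qq, pp, qp] <;> abel)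
  intro N h1 h2 hw
  have a1 := h1 w hw
  have a2 := h2 w hw
  have a3 := h1 _ a2
  exact ⟨sub_mem (sub_mem (add_mem hw a1) a2) a3, sub_mem (add_mem (sub_mem hw a1) a2) a3,
    add_mem (sub_mem (sub_mem hw a1) a2) a3, add_mem (add_mem (add_mem hw a1) a2) a3⟩

variable (hb : IsCubic ρ b)

include hb in
theorem bbb (w : E) : ρ b (ρ b (ρ b w)) = w := by
  rw [← mulApply, ← mulApply, show b * b * b = b ^ 3 from (pow_three' b).symm, hb.cube, oneApply]

include hq hb in
/-- A submodule stable under `q` and `b` on which `q` acts non-trivially contains a weight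
vector. -/
theorem exists_wt {N : Submodule (ZMod 3) E} (hNq : ∀ t ∈ N, ρ q t ∈ N) (hNb : ∀ t ∈ N, ρ b t ∈ N)
    {w : E} (hw : w ∈ N) (hne : ρ q w ≠ w) : ∃ v ∈ N, v ∈ wt ρ b q ∧ v ≠ 0 := by
  have hb' : ∀ t ∈ N, ρ b⁻¹ t ∈ N := fun t ht => by
    rw [show b⁻¹ = b * b by
      rw [inv_eq_iff_mul_eq_one, show b * (b * b) = b ^ 3 from (pow_three b).symm, hb.cube], mulApply]
    exact hNb _ (hNb _ ht)
  have hNp : ∀ t ∈ N, ρ (b * q * b⁻¹) t ∈ N := fun t ht => by
    rw [mulApply, mulApply]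
    exact hNb _ (hNq _ (hb' _ ht))
  obtain ⟨x, y, z, u, rfl, hx, hy, hz, hu, hmem⟩ := hq.decomp (ρ := ρ) w
  obtain ⟨xN, yN, zN, -⟩ := hmem N hNq hNp hw
  set p := b * q * b⁻¹ with hp
  have b2 : ∀ t, ρ q (ρ b t) = ρ b (ρ (q * p) t) := fun t => by
    have hb3 : b * b * b = 1 := by rw [show b * b * b = b ^ 3 from (pow_three' b).symm, hb.cube]
    have : q * b = b * (q * p) := by
      have h := hq.prod
      calc q * b = (b * b * b) * q * (b * b * b)⁻¹ * b := by rw [hb3]; group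
        _ = b * (b * (b * q * b⁻¹) * b⁻¹) := by group
        _ = b * (q * p) := by rw [h]
    rw [← mulApply, this, mulApply]
  have p2 : ∀ t, ρ p (ρ b t) = ρ b (ρ q t) := fun t => by
    rw [← mulApply, show p * b = b * q by rw [hp]; group, mulApply]
  by_cases hz0 : z = 0
  · by_cases hy0 : y = 0
    · subst hz0 hy0
      simp only [add_zero] at hne
      exact absurd (by rw [map_add, (mem_wt.1 hx).1, hu.1]) hne
    · refine ⟨ρ b (ρ b y), hNb _ (hNb _ yN), mem_wt.2 ⟨?_, ?_⟩, fun h => hy0 ?_⟩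
      · rw [b2, mulApply, p2, hy.1, map_neg, map_neg, map_neg, b2, mulApply, hy.2, hy.1]
        simp
      · rw [← hp, p2, b2, mulApply, hy.2, hy.1, map_neg, map_neg]
      · rw [← bbb hb y, h, map_zero]
  · refine ⟨ρ b z, hNb _ zN, mem_wt.2 ⟨?_, ?_⟩, fun h => hz0 ?_⟩
    · rw [b2, mulApply, hz.2, map_neg, hz.1, neg_neg]
    · rw [← hp, p2, hz.1, map_neg]
    · rw [← bbb hb z, h, map_zero, map_zero]

/-- The span of a weight vector and its two images. -/
def tri (ρ : G →* Module.End (ZMod 3) E) (b : G) (w : E) : Submodule (ZMod 3) E :=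
  Submodule.span (ZMod 3) {w, ρ b w, ρ b (ρ b w)}

variable {v : E} (hv : v ∈ wt ρ b q) (hv0 : v ≠ 0)

include hq hb hv hv0 in
/-- The range of `b - 1` is spanned by the differences of the weight vectors. -/
theorem range_eq [Finite E] (d : E) (hd : d ∈ LinearMap.range (ρ b - 1)) :
    ∃ a c : ZMod 3, d = a • (ρ b v - v) + c • (ρ b (ρ b v) - ρ b v) := by
  classical
  obtain ⟨m1, m2, m3, m4⟩ := hq.wt_move hv
  let f : ZMod 3 × ZMod 3 → LinearMap.range (ρ b - 1) := fun ac =>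
    ⟨ac.1 • (ρ b v - v) + ac.2 • (ρ b (ρ b v) - ρ b v),
      ⟨ac.1 • v + ac.2 • ρ b v, by simp [map_add, map_smul]⟩⟩
  have hf : Function.Injective f := by
    rintro ⟨a, c⟩ ⟨a', c'⟩ h
    have h' := congrArg Subtype.val h
    simp only [f] at h'
    have h0 : (a' - a) • v + ((a - a') - (c - c')) • ρ b v + (c - c') • ρ b (ρ b v) + 0 = 0 := by
      have := sub_eq_zero.2 h'
      refine Eq.trans ?_ this
      simp only [sub_smul, smul_sub]
      abel
    obtain ⟨h1, -, h3, -⟩ := hq.indep (Submodule.smul_mem _ _ hv)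
      ⟨by rw [map_smul, m1, smul_neg], by rw [map_smul, m2]⟩
      ⟨by rw [map_smul, m3, smul_neg], by rw [map_smul, m4, smul_neg]⟩
      ⟨map_zero _, map_zero _⟩ h0
    have hb0 : ρ b (ρ b v) ≠ 0 := fun h => hv0 (by rw [← bbb hb v, h, map_zero])
    rw [smul_eq_zero, or_iff_left hv0, sub_eq_zero] at h1
    rw [smul_eq_zero, or_iff_left hb0, sub_eq_zero] at h3
    rw [h1, h3]
  haveI := Fintype.ofFinite (LinearMap.range (ρ b - 1))
  have hsurj : Function.Surjective f := by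
    refine (Fintype.bijective_iff_injective_and_card f).2 ⟨hf, le_antisymm
      (Fintype.card_le_of_injective f hf) ?_⟩ |>.2
    rw [← Nat.card_eq_fintype_card]
    simpa using hb.rank
  obtain ⟨⟨a, c⟩, h⟩ := hsurj ⟨d, hd⟩
  exact ⟨a, c, (congrArg Subtype.val h).symm⟩

include hq hb hv hv0 in
/-- The weight space is a line. -/
theorem wt_line [Finite E] {w : E} (hw : w ∈ wt ρ b q) : ∃ a : ZMod 3, w = a • v := by
  obtain ⟨a, c, h⟩ := hq.range_eq hb hv hv0 (ρ b w - w) ⟨w, by simp⟩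
  obtain ⟨m1, m2, m3, m4⟩ := hq.wt_move hv
  obtain ⟨n1, n2, -, -⟩ := hq.wt_move hw
  refine ⟨a, ?_⟩
  have h0 : (a • v - w) + (ρ b w - a • ρ b v + c • ρ b v) + (-(c • ρ b (ρ b v))) + 0 = 0 := by
    rw [show ρ b w = w + (ρ b w - w) by abel, h]
    simp only [smul_sub]
    abel
  obtain ⟨h1, -, -, -⟩ := hq.indep (sub_mem (Submodule.smul_mem _ _ hv) hw)
    ⟨by simp only [map_add, map_sub, map_smul, n1, m1, smul_neg]; abel,
     by simp only [map_add, map_sub, map_smul, n2, m2]⟩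
    ⟨by simp only [map_neg, map_smul, m3, smul_neg],
     by simp only [map_neg, map_smul, m4, smul_neg]⟩
    ⟨map_zero _, map_zero _⟩ h0
  exact (sub_eq_zero.1 h1).symm

include hq hb hv hv0 in
/-- `b` fixes the common fixed space of the four-group pointwise. -/
theorem fix_fixed [Finite E] {u : E} (hu : ρ q u = u) (hu' : ρ (b * q * b⁻¹) u = u) : ρ b u = u := by
  obtain ⟨a, c, h⟩ := hq.range_eq hb hv hv0 (ρ b u - u) ⟨u, by simp⟩
  obtain ⟨m1, m2, m3, m4⟩ := hq.wt_move hv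
  have e2 : ρ (b * q * b⁻¹) (ρ b u) = ρ b u := by
    rw [← mulApply, show b * q * b⁻¹ * b = b * q by group, mulApply, hu]
  have e3 : ρ (q * (b * q * b⁻¹)) (ρ b u) = ρ b u := by
    rw [← hq.prod, ← mulApply, show b * (b * q * b⁻¹) * b⁻¹ * b = b * (b * q * b⁻¹) by group,
      mulApply, hu']
  have e1 : ρ q (ρ b u) = ρ b u := by rwa [mulApply, e2] at e3
  have h0 : (a • v) + ((c - a) • ρ b v) + (-(c • ρ b (ρ b v))) + (ρ b u - u) = 0 := by
    rw [h]
    simp only [smul_sub, sub_smul]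
    abel
  obtain ⟨-, -, -, h4⟩ := hq.indep (Submodule.smul_mem _ _ hv)
    ⟨by simp only [map_smul, m1, smul_neg], by simp only [map_smul, m2]⟩
    ⟨by simp only [map_neg, map_smul, m3, smul_neg],
     by simp only [map_neg, map_smul, m4, smul_neg]⟩
    ⟨by rw [map_sub, e1, hu], by rw [map_sub, e2, hu']⟩ h0
  exact sub_eq_zero.1 h4

end IsFour

end Cfsg.Lib.CubicFour
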