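import Cfsg.Agent.Lib.Linear.CubicMonomial
import Cfsg.Agent.Lib.Linear.CubicAut

/-!
# A noncentral normal elementary abelian 2-subgroup always exists

In the setting of `CubicBlock.Ctx` with `R` solvable, some normal elementary abelian 2-subgroup of
`G` inside `R` is not centralised by `b`.
-/

set_option autoImplicit false

namespace Cfsg.Lib.CubicBlock

open Subgroup Cfsg.Lib.CubicFour
open scoped commutatorElement

universe u v

variable {G : Type u} [Group G] {E : Type v} [AddCommGroup E] [Module (ZMod 3) E]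
  {ρ : G →* Module.End (ZMod 3) E} {b : G} {R : Subgroup G}

/-- `g` acts as the identity or as minus the identity. -/
def Sgn (ρ : G →* Module.End (ZMod 3) E) (g : G) : Prop := g = 1 ∨ ∀ w, ρ g w = -w

theorem Ctx.exists_ne_zero [Finite E] (h : Ctx ρ b R) : ∃ v : E, v ≠ 0 := by
  obtain ⟨q, -, hq⟩ := h.four
  obtain ⟨v, -, hv⟩ := exists_vec h.cubic hq
  exact ⟨v, hv⟩

theorem Ctx.sgn_unique (h : Ctx ρ b R) {g g' : G} (hg : Sgn ρ g) (hg1 : g ≠ 1) (hg' : Sgn ρ g')
    (hg1' : g' ≠ 1) : g = g' :=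
  h.cubic.inj (LinearMap.ext fun w => by rw [hg.resolve_left hg1, hg'.resolve_left hg1'])

theorem Ctx.sgn_comm (h : Ctx ρ b R) {g : G} (hg : Sgn ρ g) (x : G) : g * x = x * g := by
  rcases hg with rfl | hg
  · rw [one_mul, mul_one]
  · exact h.cubic.inj (LinearMap.ext fun w => by rw [mulApply, mulApply, hg, hg, map_neg])

theorem Ctx.sgn_sq (h : Ctx ρ b R) {g : G} (hg : Sgn ρ g) : g * g = 1 := by
  rcases hg with rfl | hg
  · exact one_mul 1
  · exact h.cubic.inj (LinearMap.ext fun w => by rw [mulApply, hg, hg, neg_neg, oneApply])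

theorem Ctx.sgn_mul (h : Ctx ρ b R) {g g' : G} (hg : Sgn ρ g) (hg' : Sgn ρ g') :
    Sgn ρ (g * g') := by
  by_cases h1 : g = 1
  · rwa [h1, one_mul]
  by_cases h2 : g' = 1
  · rwa [h2, mul_one]
  exact Or.inl (by rw [h.sgn_unique hg h1 hg' h2, h.sgn_sq hg'])

theorem Ctx.sgn_inv (h : Ctx ρ b R) {g : G} (hg : Sgn ρ g) : Sgn ρ g⁻¹ := by
  rwa [inv_eq_of_mul_eq_one_right (h.sgn_sq hg)]

theorem Ctx.sgn_conj (h : Ctx ρ b R) {g : G} (hg : Sgn ρ g) (x : G) : x * g * x⁻¹ = g := by
  rw [← h.sgn_comm hg x, mul_inv_cancel_right]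

/-- The group of scalars. -/
def Ctx.zed (h : Ctx ρ b R) : Subgroup G where
  carrier := {g | Sgn ρ g}
  mul_mem' := h.sgn_mul
  one_mem' := Or.inl rfl
  inv_mem' := h.sgn_inv

theorem Ctx.mem_zed (h : Ctx ρ b R) {g : G} : g ∈ h.zed ↔ Sgn ρ g := Iff.rfl

theorem Ctx.zed_normal (h : Ctx ρ b R) : h.zed.Normal :=
  ⟨fun g hg x => by rw [h.sgn_conj hg x]; exact hg⟩

/-- The telescoping product of the commutators with `b`. -/
theorem tele (h : Ctx ρ b R) (u : G) :
    (u⁻¹ * (b * u * b⁻¹)) * (b * (u⁻¹ * (b * u * b⁻¹)) * b⁻¹) *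
      (b * (b * (u⁻¹ * (b * u * b⁻¹)) * b⁻¹) * b⁻¹) = 1 := by
  have hb3 : b * b * b = 1 := by rw [← pow_three', h.cubic.cube]
  calc (u⁻¹ * (b * u * b⁻¹)) * (b * (u⁻¹ * (b * u * b⁻¹)) * b⁻¹) *
      (b * (b * (u⁻¹ * (b * u * b⁻¹)) * b⁻¹) * b⁻¹)
      = u⁻¹ * ((b * b * b) * u * (b * b * b)⁻¹) := by group
    _ = 1 := by rw [hb3]; group

/-- A commutator with `b` that is a scalar is trivial. -/
theorem Ctx.comm_of_sgn (h : Ctx ρ b R) {u : G} (hu : Sgn ρ (u⁻¹ * (b * u * b⁻¹))) :
    u * b = b * u := by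
  have h1 := tele h u
  rw [h.sgn_conj hu b, h.sgn_conj hu b, h.sgn_sq hu, one_mul] at h1
  rw [inv_mul_eq_one] at h1
  exact (eq_mul_inv_iff_mul_eq.1 h1)

section Hyp

/-- Every normal elementary abelian 2-subgroup inside `R` is centralised by `b`. -/
def NoLines (b : G) (R : Subgroup G) : Prop :=
  ∀ A : Subgroup G, A.Normal → A ≤ R → (∀ x ∈ A, ∀ y ∈ A, x * y = y * x) →
    (∀ x ∈ A, x * x = 1) → ∀ a ∈ A, a * b = b * a

variable [Finite E] (h : Ctx ρ b R) (H : NoLines b R)

include h in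
theorem sgn_of_central {A : Subgroup G} [A.Normal] (hA : ∀ a ∈ A, a * b = b * a) {a : G}
    (ha : a ∈ A) : Sgn ρ a :=
  h.scalar (h.central hA ha)

include h H in
theorem sgn_of_sq {A : Subgroup G} [hA : A.Normal] (hle : A ≤ R)
    (hc : ∀ x ∈ A, ∀ y ∈ A, x * y = y * x) {a : G} (ha : a ∈ A) (h2 : a * a = 1) : Sgn ρ a := by
  let A2 : Subgroup G :=
    { carrier := {x | x ∈ A ∧ x * x = 1}
      mul_mem' := fun {x y} hx hy => ⟨A.mul_mem hx.1 hy.1, by
        calc x * y * (x * y) = x * (y * x) * y := by group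
          _ = x * (x * y) * y := by rw [hc y hy.1 x hx.1]
          _ = (x * x) * (y * y) := by group
          _ = 1 := by rw [hx.2, hy.2, one_mul]⟩
      one_mem' := ⟨A.one_mem, one_mul 1⟩
      inv_mem' := fun {x} hx => ⟨A.inv_mem hx.1, by rw [← mul_inv_rev, hx.2, inv_one]⟩ }
  haveI : A2.Normal := ⟨fun x hx g => ⟨hA.conj_mem x hx.1 g, by
    calc g * x * g⁻¹ * (g * x * g⁻¹) = g * (x * x) * g⁻¹ := by group
      _ = 1 := by rw [hx.2]; group⟩⟩
  exact sgn_of_central h (A := A2)
    (fun x hx => H A2 inferInstance (fun y hy => hle hy.1)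
      (fun x hx y hy => hc x hx.1 y hy.1) (fun y hy => hy.2) x hx) ⟨ha, h2⟩

include h H in
theorem sgn_of_four {A : Subgroup G} [hA : A.Normal] (hle : A ≤ R)
    (hc : ∀ x ∈ A, ∀ y ∈ A, x * y = y * x) {a : G} (ha : a ∈ A) (h4 : a * a * (a * a) = 1) :
    Sgn ρ a := by
  let A4 : Subgroup G :=
    { carrier := {x | x ∈ A ∧ x * x * (x * x) = 1}
      mul_mem' := fun {x y} hx hy => ⟨A.mul_mem hx.1 hy.1, by
        have e : Commute x y := hc x hx.1 y hy.1
        rw [e.symm.mul_mul_mul_comm, (((e.mul_right e).mul_left (e.mul_right e)).symm).mul_mul_mul_comm,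
          hx.2, hy.2, one_mul]⟩
      one_mem' := ⟨A.one_mem, by simp⟩
      inv_mem' := fun {x} hx => ⟨A.inv_mem hx.1, by
        rw [← mul_inv_rev, ← mul_inv_rev, hx.2, inv_one]⟩ }
  haveI : A4.Normal := ⟨fun x hx g => ⟨hA.conj_mem x hx.1 g, by
    calc g * x * g⁻¹ * (g * x * g⁻¹) * (g * x * g⁻¹ * (g * x * g⁻¹))
        = g * (x * x * (x * x)) * g⁻¹ := by group
      _ = 1 := by rw [hx.2]; group⟩⟩
  refine sgn_of_central h (A := A4) (fun x hx => h.comm_of_sgn ?_) ⟨ha, h4⟩
  have hx2 : Sgn ρ (x * x) := sgn_of_sq h H hle hc (A.mul_mem hx.1 hx.1) hx.2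
  have hy : b * x * b⁻¹ ∈ A := hA.conj_mem x hx.1 b
  have hsq : b * x * b⁻¹ * (b * x * b⁻¹) = x * x := by
    rw [← h.sgn_conj hx2 b]; group
  refine sgn_of_sq h H hle hc (A.mul_mem (A.inv_mem hx.1) hy) ?_
  have e : Commute x⁻¹ (b * x * b⁻¹) := hc _ (A.inv_mem hx.1) _ hy
  rw [e.symm.mul_mul_mul_comm, hsq, ← mul_inv_rev, inv_mul_cancel]

include h H in
theorem sgn_of_abelian {A : Subgroup G} [A.Normal] (hle : A ≤ R)
    (hc : ∀ x ∈ A, ∀ y ∈ A, x * y = y * x) (hp : IsPGroup 2 A) {a : G} (ha : a ∈ A) : Sgn ρ a := by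
  obtain ⟨k, hk⟩ := hp ⟨a, ha⟩
  replace hk : a ^ 2 ^ k = 1 := congrArg Subtype.val hk
  induction k generalizing a with
  | zero => exact Or.inl (by simpa using hk)
  | succ k ih =>
    have hs : Sgn ρ (a * a) := ih (A.mul_mem ha ha) (by
      rw [← pow_two, ← pow_mul, ← pow_succ']; exact hk)
    exact sgn_of_four h H hle hc ha (h.sgn_sq hs)

end Hyp

/-- `T` is the largest normal 2-subgroup of `G` inside `R`. -/
structure IsTwoRad (R T : Subgroup G) : Prop where
  normal : T.Normal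
  le : T ≤ R
  two : IsPGroup 2 T
  max : ∀ S : Subgroup G, S.Normal → S ≤ R → IsPGroup 2 S → S ≤ T

theorem exists_twoRad [Finite G] (R : Subgroup G) : ∃ T : Subgroup G, IsTwoRad R T := by
  obtain ⟨T, ⟨hT1, hT2, hT3⟩, hmax⟩ :=
    Set.Finite.exists_maximal (s := {K : Subgroup G | K.Normal ∧ K ≤ R ∧ IsPGroup 2 K})
      (Set.toFinite _) ⟨⊥, inferInstance, bot_le, IsPGroup.of_bot⟩
  refine ⟨T, hT1, hT2, hT3, fun S hS hSR hS2 => ?_⟩
  haveI := hT1
  haveI := hS
  exact le_sup_right.trans (hmax ⟨inferInstance, sup_le hT2 hSR, hT3.to_sup_of_normal_left hS2⟩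
    le_sup_left)

/-- A subgroup closed under conjugation by a generating set is normal. -/
theorem Ctx.normal_of_gen (h : Ctx ρ b R) {A : Subgroup G}
    (hR : ∀ r ∈ R, ∀ a ∈ A, r * a * r⁻¹ ∈ A) (hb : ∀ a ∈ A, b * a * b⁻¹ ∈ A) : A.Normal := by
  let N : Set G := {g | ∀ a ∈ A, g * a * g⁻¹ ∈ A}
  have hmul : ∀ g g', g ∈ N → g' ∈ N → g * g' ∈ N := fun g g' hg hg' a ha => by
    have := hg _ (hg' a ha)
    rwa [show g * (g' * a * g'⁻¹) * g⁻¹ = g * g' * a * (g * g')⁻¹ by group] at this
  have hb2 : b⁻¹ ∈ N := by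
    rw [show b⁻¹ = b * b by rw [inv_eq_iff_mul_eq_one, ← pow_three, h.cubic.cube]]
    exact hmul _ _ hb hb
  refine ⟨fun a ha g => ?_⟩
  haveI := h.normal
  obtain ⟨r, hr, c, hc, rfl⟩ :=
    Subgroup.mem_sup_of_normal_left.1 (show g ∈ R ⊔ zpowers b by rw [h.top]; trivial)
  refine hmul _ _ (hR r hr) ?_ a ha
  rw [Subgroup.mem_zpowers_iff] at hc
  obtain ⟨k, rfl⟩ := hc
  induction k using Int.induction_on with
  | zero => intro a ha; simpa using ha
  | succ k ih => rw [zpow_add_one]; exact hmul _ _ ih hb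
  | pred k ih => rw [zpow_sub_one]; exact hmul _ _ ih hb2

variable [Finite G] [Finite E] {T : Subgroup G} (h : Ctx ρ b R) (H : NoLines b R)
  (hT : IsTwoRad R T)

/-- The prime part of exponent `ℓ` of an abelian subgroup. -/
def expPart (M : Subgroup G) (hc : ∀ x ∈ M, ∀ y ∈ M, x * y = y * x) (ℓ : ℕ) : Subgroup G where
  carrier := {x | x ∈ M ∧ x ^ ℓ = 1}
  mul_mem' := fun {x y} hx hy =>
    ⟨M.mul_mem hx.1 hy.1, by rw [Commute.mul_pow (hc x hx.1 y hy.1), hx.2, hy.2, one_mul]⟩
  one_mem' := ⟨M.one_mem, one_pow ℓ⟩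
  inv_mem' := fun {x} hx => ⟨M.inv_mem hx.1, by rw [inv_pow, hx.2, inv_one]⟩

theorem expPart_normal {M : Subgroup G} (hM : M.Normal) (hc : ∀ x ∈ M, ∀ y ∈ M, x * y = y * x)
    (ℓ : ℕ) : (expPart M hc ℓ).Normal :=
  ⟨fun x hx g => ⟨hM.conj_mem x hx.1 g, by rw [conj_pow, hx.2, mul_one, mul_inv_cancel]⟩⟩

include h in
theorem five_le {ℓ : ℕ} (hℓ : ℓ.Prime) (hd : ℓ ∣ Nat.card R) (h2 : ℓ ≠ 2) : 5 ≤ ℓ := by
  have h3 : ℓ ≠ 3 := fun e => h.cop (e ▸ hd)
  have := hℓ.two_le
  by_contra hc
  interval_cases ℓ <;> simp_all (config := { decide := true })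

include h hT H in
/-- The centre of `T` consists of scalars. -/
theorem center_sgn {t : G} (ht : t ∈ T) (hc : ∀ u ∈ T, t * u = u * t) : Sgn ρ t := by
  haveI := hT.normal
  refine sgn_of_abelian h H (A := T ⊓ centralizer (T : Set G)) (inf_le_left.trans hT.le)
    (fun x hx y hy => (mem_centralizer_iff.1 hx.2 y hy.1).symm) (hT.two.to_le inf_le_left)
    ⟨ht, mem_centralizer_iff.2 fun u hu => (hc u hu).symm⟩

include h hT H in
/-- `C_R(T) ≤ T`. -/
theorem cent_le (hsol : Group.IsSolvable R) : R ⊓ centralizer (T : Set G) ≤ T := by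
  haveI := hT.normal
  haveI := h.normal
  set C := R ⊓ centralizer (T : Set G) with hC
  set π := QuotientGroup.mk' T with hπ
  have hπs : Function.Surjective π := QuotientGroup.mk'_surjective T
  have hker : ∀ x, π x = 1 → x ∈ T := fun x hx => (QuotientGroup.eq_one_iff x).1 hx
  by_contra hne
  have hCne : C.map π ≠ ⊥ := fun e => hne fun c hc => hker c (by
    have : π c ∈ C.map π := Subgroup.mem_map_of_mem π hc
    rwa [e, Subgroup.mem_bot] at this)
  obtain ⟨M, hM, hMC⟩ := Cfsg.Lib.Core.exists_isMinNormal ((inferInstance : C.Normal).map π hπs) hCne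
  haveI hMn := hM.1
  haveI : Group.IsSolvable R := hsol
  haveI : Group.IsSolvable C :=
    Group.isSolvable_of_isSolvable_injective (f := Subgroup.inclusion (inf_le_left : C ≤ R))
      (Subgroup.inclusion_injective _)
  haveI : Group.IsSolvable (C.map π) := Group.isSolvable_of_surjective (π.subgroupMap_surjective C)
  have hMab := Cfsg.Lib.Core.isMulCommutative_of_minimal_solvable hM
    (Group.isSolvable_of_isSolvable_injective (f := Subgroup.inclusion hMC)
      (Subgroup.inclusion_injective hMC))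
  have hMc : ∀ x ∈ M, ∀ y ∈ M, x * y = y * x := fun x hx y hy =>
    congrArg Subtype.val (hMab.is_comm.comm (⟨x, hx⟩ : M) ⟨y, hy⟩)
  set ℓ := (Nat.card M).minFac with hℓ
  have hM1 : Nat.card M ≠ 1 := fun e => hM.2.1 (Subgroup.eq_bot_of_card_eq _ e)
  have hp : ℓ.Prime := Nat.minFac_prime hM1
  haveI : Fact ℓ.Prime := ⟨hp⟩
  obtain ⟨m, hm⟩ := exists_prime_orderOf_dvd_card' (G := M) ℓ (Nat.minFac_dvd _)
  let N : Subgroup G := C ⊓ (expPart M hMc ℓ).comap π
  haveI : N.Normal := by
    haveI := (expPart_normal hMn hMc ℓ).comap π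
    infer_instance
  obtain ⟨x, hxC, hx⟩ := Subgroup.mem_map.1 (hMC m.2)
  have hxN : x ∈ N := ⟨hxC, show π x ∈ expPart M hMc ℓ from hx ▸ ⟨m.2, congrArg Subtype.val
    (show m ^ ℓ = 1 by rw [← hm, pow_orderOf_eq_one])⟩⟩
  have hxT : x ∉ T := fun hxT => by
    have : (m : G ⧸ T) = 1 := by rw [← hx]; exact (QuotientGroup.eq_one_iff x).2 hxT
    rw [Subtype.ext (a1 := m) (a2 := 1) this, orderOf_one] at hm
    exact hp.one_lt.ne hm
  have hpow : ∀ y ∈ N, Sgn ρ (y ^ ℓ) := fun y hy => by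
    have hyT : y ^ ℓ ∈ T := hker _ (by rw [map_pow]; exact hy.2.2)
    exact center_sgn h H hT hyT fun u hu =>
      ((mem_centralizer_iff.1 (pow_mem hy.1.2 ℓ) u hu).symm)
  have hN2 : ℓ = 2 → False := fun e => hxT (hT.max N inferInstance (inf_le_left.trans inf_le_left)
    (fun ⟨y, hy⟩ => ⟨2, Subtype.ext (by
      show y ^ 2 ^ 2 = 1
      have := h.sgn_sq (hpow y hy)
      rw [e] at this
      rw [← this, ← pow_add]; rfl)⟩) hxN)
  have hcm : ∀ y ∈ N, ∀ w ∈ N, Sgn ρ ⁅y, w⁆ := fun y hy w hw => by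
    refine center_sgn h H hT (hker _ ?_) fun u hu => ?_
    · rw [map_commutatorElement, commutatorElement_eq_one_iff_mul_comm]
      exact hMc _ hy.2.1 _ hw.2.1
    · refine ((mem_centralizer_iff.1 ?_) u hu).symm
      rw [commutatorElement_def]
      exact mul_mem (mul_mem (mul_mem hy.1.2 hw.1.2) (inv_mem hy.1.2)) (inv_mem hw.1.2)
  have hxR : x ∈ R := hxC.1
  have hℓR : ℓ ∣ Nat.card R := by
    have h1 : ℓ ∣ orderOf x := by
      have := orderOf_map_dvd π x
      rw [hx] at this
      rwa [← hm, ← Subgroup.orderOf_coe]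
    exact h1.trans (by
      have := orderOf_dvd_natCard (⟨x, hxR⟩ : R)
      rwa [Subgroup.orderOf_mk] at this)
  have h5 := five_le h hp hℓR hN2
  have hNc : ∀ y ∈ N, ∀ w ∈ N, y * w = w * y := fun y hy w hw => by
    rw [← commutatorElement_eq_one_iff_mul_comm]
    have hs := hcm y hy w hw
    have hz : ∀ g : G, ⁅y, w⁆ * g = g * ⁅y, w⁆ := h.sgn_comm hs
    have h1 : ∀ n : ℕ, y ^ n * w = ⁅y, w⁆ ^ n * (w * y ^ n) := by
      intro n
      induction n with
      | zero => simp
      | succ n ih =>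
        rw [pow_succ' y, mul_assoc, ih]
        have e : y * w = ⁅y, w⁆ * (w * y) := by rw [commutatorElement_def]; group
        have hy' : y * ⁅y, w⁆ ^ n = ⁅y, w⁆ ^ n * y := (Commute.pow_left (hz y : Commute ⁅y, w⁆ y) n).symm
        rw [← mul_assoc y, hy', mul_assoc, ← mul_assoc y w, e, pow_succ]
        simp only [mul_assoc]
    have h2 := h1 ℓ
    rw [h.sgn_comm (hpow y hy) w] at h2
    have h3 : ⁅y, w⁆ ^ ℓ = 1 := mul_eq_right.1 h2.symm
    have h4 : ⁅y, w⁆ ^ 2 = 1 := by rw [pow_two]; exact h.sgn_sq hs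
    have := pow_gcd_eq_one.2 ⟨h4, h3⟩
    rwa [(Nat.coprime_primes Nat.prime_two hp).2 (by omega), pow_one] at this
  haveI hA : (expPart N hNc ℓ).Normal := expPart_normal inferInstance hNc ℓ
  set y := x ^ 2 with hy
  have hyN : y ∈ expPart N hNc ℓ := ⟨pow_mem hxN 2, by
    rw [hy, ← pow_mul, mul_comm, pow_mul, pow_two]
    exact h.sgn_sq (hpow x hxN)⟩
  have hys : Sgn ρ y := sgn_of_central h (A := expPart N hNc ℓ)
    (fun a ha => h.odd_central (A := expPart N hNc ℓ)
      ⟨⟨fun u w => Subtype.ext (hNc _ u.2.1 _ w.2.1)⟩⟩ hp h5 (fun a ha => ha.2) ha) hyN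
  have hy1 : y = 1 := by
    have h4 : y ^ 2 = 1 := by rw [pow_two]; exact h.sgn_sq hys
    have := pow_gcd_eq_one.2 ⟨h4, hyN.2⟩
    rwa [(Nat.coprime_primes Nat.prime_two hp).2 (by omega), pow_one] at this
  have hm2 : ℓ ∣ 2 := by
    rw [← hm]
    refine orderOf_dvd_of_pow_eq_one (Subtype.ext ?_)
    show (m : G ⧸ T) ^ 2 = 1
    rw [← hx, ← map_pow, ← hy, hy1, map_one]
  have := Nat.le_of_dvd (by norm_num) hm2
  omega

include h hT H in
theorem exists_noncomm (hsol : Group.IsSolvable R) : ∃ t ∈ T, t * b ≠ b * t := by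
  by_contra hc
  push Not at hc
  haveI := hT.normal
  have hcen : ∀ t ∈ T, ∀ g, t * g = g * t := fun t ht => h.central hc ht
  have hRT : R ≤ T := fun r hr =>
    cent_le h H hT hsol ⟨hr, mem_centralizer_iff.2 fun t ht => hcen t ht r⟩
  obtain ⟨q, hqR, hq⟩ := h.four
  refine hq.ne₂ ?_
  rw [← hc q (hRT hqR), mul_inv_cancel_right]

include h hT H in
/-- Commutators in `T` are scalars. -/
theorem derived_sgn {t u : G} (ht : t ∈ T) (hu : u ∈ T) : Sgn ρ ⁅t, u⁆ := by
  haveI := hT.normal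
  haveI := h.zed_normal
  haveI : Fact (Nat.Prime 2) := ⟨Nat.prime_two⟩
  obtain ⟨n, hn⟩ := (Subgroup.isNilpotent_iff_lowerCentralSeries T).1 hT.two.isNilpotent
  have hnor : ∀ k, (T.lowerCentralSeries k).Normal := by
    intro k
    induction k with
    | zero => exact hT.normal
    | succ k ih => haveI := ih; exact Subgroup.commutator_normal _ _
  have hle : ∀ k, T.lowerCentralSeries k ≤ T := fun k => T.lowerCentralSeries_antitone (Nat.zero_le k)
  have step : ∀ k, T.lowerCentralSeries (k + 2) ≤ h.zed → T.lowerCentralSeries (k + 1) ≤ h.zed := by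
    intro k hk
    have hbot : ⁅⁅T, T.lowerCentralSeries (k + 1)⁆, T⁆ = ⊥ := by
      refine Subgroup.commutator_eq_bot_iff_le_centralizer.2 fun g hg => ?_
      rw [Subgroup.commutator_comm] at hg
      exact mem_centralizer_iff.2 fun x _ => (h.sgn_comm (hk hg) x).symm
    have h3 : ⁅⁅T, T⁆, T.lowerCentralSeries (k + 1)⁆ = ⊥ :=
      Subgroup.commutator_commutator_eq_bot_of_rotate hbot (by rwa [Subgroup.commutator_comm T (T.lowerCentralSeries (k + 1))] at hbot)
    haveI := hnor (k + 1)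
    have hd : T.lowerCentralSeries (k + 1) ≤ ⁅T, T⁆ := T.lowerCentralSeries_antitone (Nat.le_add_left 1 k)
    refine fun g hg => sgn_of_abelian h H ((hle _).trans hT.le) (fun x hx y hy => ?_)
      (hT.two.to_le (hle _)) hg
    exact (mem_centralizer_iff.1
      (Subgroup.commutator_eq_bot_iff_le_centralizer.1 h3 (hd hx)) y hy).symm
  have key : ∀ k, T.lowerCentralSeries (k + 1) ≤ h.zed → T.lowerCentralSeries 1 ≤ h.zed := by
    intro k
    induction k with
    | zero => exact id
    | succ k ih => exact fun hk => ih (step k hk)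
  exact key n ((T.lowerCentralSeries_antitone (Nat.le_succ n)).trans (hn.le.trans bot_le))
    (Subgroup.commutator_mem_commutator ht hu)

include h hT H in
/-- Squares in `T` are scalars. -/
theorem sq_sgn {t : G} (ht : t ∈ T) : Sgn ρ (t * t) := by
  refine center_sgn h H hT (T.mul_mem ht ht) fun u hu => ?_
  have hs := derived_sgn h H hT ht hu
  have e : t * u = ⁅t, u⁆ * (u * t) := by rw [commutatorElement_def]; group
  calc t * t * u = t * (⁅t, u⁆ * (u * t)) := by rw [mul_assoc, e]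
    _ = ⁅t, u⁆ * (t * u) * t := by rw [← mul_assoc, ← h.sgn_comm hs t]; group
    _ = (⁅t, u⁆ * ⁅t, u⁆) * (u * (t * t)) := by rw [e]; group
    _ = u * (t * t) := by rw [h.sgn_sq hs, one_mul]


/-! ### The dimension is at most four -/

include h in
theorem range_bound {c : G} {w : E} : ρ b (ρ c w) - ρ c w ∈ LinearMap.range (ρ b - 1) :=
  ⟨ρ c w, by rw [LinearMap.sub_apply, Module.End.one_apply]⟩

include h hT H in
/-- A noncentral element of `T` is conjugate to its negative. -/
theorem exists_flip {g : G} (hg : g ∈ T) (hn : ¬ Sgn ρ g) :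
    ∃ t ∈ T, ∀ w, ρ (t * g * t⁻¹) w = -ρ g w := by
  by_contra hc
  push Not at hc
  refine hn (center_sgn h H hT hg fun u hu => ?_)
  obtain ⟨w, hw⟩ := hc u hu
  rcases derived_sgn h H hT hu hg with e | e
  · exact (commutatorElement_eq_one_iff_mul_comm.1 e).symm
  · refine absurd ?_ hw
    rw [show u * g * u⁻¹ = ⁅u, g⁆ * g by rw [commutatorElement_def]; group, mulApply, e]

include h hT H in
theorem card_E_le (hsol : Group.IsSolvable R) : Nat.card E ≤ 81 := by
  obtain ⟨u, hu, hub⟩ := exists_noncomm h H hT hsol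
  haveI := hT.normal
  have hxT : u⁻¹ * (b * u * b⁻¹) ∈ T := T.mul_mem (T.inv_mem hu) (hT.normal.conj_mem u hu b)
  have hxn : ¬ Sgn ρ (u⁻¹ * (b * u * b⁻¹)) := fun hs => hub (h.comm_of_sgn hs)
  have hx2 := sq_sgn h H hT hxT
  have htele := tele h u
  have hrank := h.cubic.rank
  set x := u⁻¹ * (b * u * b⁻¹) with hx
  have hbnd : Nat.card (LinearMap.range (ρ b - 1) × LinearMap.range (ρ b - 1)) ≤ 81 := by
    rw [Nat.card_prod]
    exact (Nat.mul_le_mul hrank hrank).trans le_rfl
  by_cases h1 : x * x = 1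
  · have hxi : x⁻¹ = x := inv_eq_of_mul_eq_one_right h1
    have hconj : ∀ g : G, g * g = 1 → b * g * b⁻¹ * (b * g * b⁻¹) = 1 := fun g hg => by
      calc b * g * b⁻¹ * (b * g * b⁻¹) = b * (g * g) * b⁻¹ := by group
        _ = 1 := by rw [hg]; group
    have hx1' := hconj x h1
    have hx2' := hconj _ hx1'
    set x' := b * x * b⁻¹ with hx'
    set x'' := b * x' * b⁻¹ with hx''
    have hxi' : x'⁻¹ = x' := inv_eq_of_mul_eq_one_right hx1'
    have e'' : x'' = x' * x := by
      rw [← mul_eq_one_iff_inv_eq.1 htele, mul_inv_rev, hxi, hxi']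
    have e2 : x * x' = x' * x := by
      rw [← e'', ← inv_eq_of_mul_eq_one_right hx2', e'', mul_inv_rev, hxi, hxi']
    have hfour : IsFour b x := ⟨h1, fun e => hxn (Or.inl e), e2, e''.trans e2.symm⟩
    let P : Submodule (ZMod 3) E := LinearMap.ker (ρ x + 1)
    have hP : ∀ w, w ∈ P ↔ ρ x w = -w := fun w => by
      simp [P, LinearMap.mem_ker, add_eq_zero_iff_eq_neg]
    have hPcard : Nat.card P ≤ 9 := by
      refine (Nat.card_le_card_of_injective
        (fun w : P => (⟨ρ b (w : E) - w, ⟨(w : E), by simp⟩⟩ : LinearMap.range (ρ b - 1)))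
        fun w w' e => ?_).trans hrank
      have e' : ρ b ((w : E) - w') = (w : E) - w' := by
        have := congrArg Subtype.val e
        simp only at this
        rw [map_sub, ← sub_eq_zero]
        rw [← sub_eq_zero] at this
        rw [← this]; abel
      have hd := (hP _).1 (sub_mem w.2 w'.2)
      set d := (w : E) - w' with hd0
      have hbi : ρ b⁻¹ d = d := by
        conv_lhs => rw [← e', ← mulApply, inv_mul_cancel, oneApply]
      have hd' : ρ x' d = -d := by
        rw [hx', mulApply, mulApply, hbi, hd, map_neg, e']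
      have hd'' : ρ x'' d = -d := by
        rw [hx'', mulApply, mulApply, hbi, hd', map_neg, e']
      have hd''' : ρ x'' d = d := by
        rw [e'', mulApply, hd, map_neg, hd', neg_neg]
      have : d = 0 := eq_zero_of_eq_neg (hd'''.symm.trans hd'')
      exact Subtype.ext (sub_eq_zero.1 this)
    obtain ⟨t, ht, hflip⟩ := exists_flip h H hT hxT hxn
    have hxx : ∀ w, ρ x (ρ x w) = w := fun w => by rw [← mulApply, h1, oneApply]
    have hinj : Function.Injective fun w : E =>
        ((⟨w - ρ x w, (hP _).2 (by rw [map_sub, hxx, neg_sub])⟩,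
          ⟨ρ t (w + ρ x w), (hP _).2 (by
            have hf := hflip (ρ t (w + ρ x w))
            rw [← mulApply ρ (t * x * t⁻¹) t, inv_mul_cancel_right, mulApply, map_add (ρ x), hxx,
              add_comm (ρ x w)] at hf
            exact neg_eq_iff_eq_neg.1 hf.symm)⟩) : P × P) := by
      intro w w' e
      simp only [Prod.mk.injEq, Subtype.mk.injEq] at e
      have e2 := LineData.inj_apply (ρ := ρ) t e.2
      have e1 := e.1
      have : (w - w') + (w - w') = 0 := by
        calc (w - w') + (w - w') = ((w - ρ x w) - (w' - ρ x w')) + ((w + ρ x w) - (w' + ρ x w')) := by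
              abel
          _ = 0 := by rw [e1, e2]; abel
      exact sub_eq_zero.1 (two_smul_eq this)
    refine (Nat.card_le_card_of_injective _ hinj).trans ?_
    rw [Nat.card_prod]
    exact (Nat.mul_le_mul hPcard hPcard).trans le_rfl
  · refine (Nat.card_le_card_of_injective (fun w : E =>
      ((⟨ρ b (ρ b⁻¹ w) - ρ b⁻¹ w, range_bound h⟩, ⟨ρ b (ρ u w) - ρ u w, range_bound h⟩) :
        LinearMap.range (ρ b - 1) × LinearMap.range (ρ b - 1))) fun w w' e => ?_).trans hbnd
    simp only [Prod.mk.injEq, Subtype.mk.injEq] at e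
    set d := w - w' with hd
    have e1 : ρ b (ρ b⁻¹ d) = ρ b⁻¹ d := by
      rw [hd, map_sub, map_sub, ← sub_eq_zero]
      rw [← sub_eq_zero.2 e.1]; abel
    have e2 : ρ b (ρ u d) = ρ u d := by
      rw [hd, map_sub, map_sub, ← sub_eq_zero]
      rw [← sub_eq_zero.2 e.2]; abel
    have hbi : ρ b⁻¹ d = d := by
      conv_rhs => rw [← oneApply ρ d, ← mul_inv_cancel b, mulApply, e1]
    have hxd : ρ x d = d := by
      rw [hx, mulApply ρ u⁻¹, mulApply ρ (b * u) b⁻¹, mulApply ρ b u, hbi, e2, ← mulApply,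
        inv_mul_cancel, oneApply]
    have : d = 0 := by
      refine eq_zero_of_eq_neg ?_
      conv_lhs => rw [← hxd, ← hxd, ← mulApply, hx2.resolve_left h1]
    exact sub_eq_zero.1 this

include h hT H in
theorem exists_neg (hsol : Group.IsSolvable R) : ∃ z ∈ T, z ≠ 1 ∧ ∀ w, ρ z w = -w := by
  obtain ⟨t, ht, htb⟩ := exists_noncomm h H hT hsol
  by_contra hc
  push Not at hc
  have habel : ∀ g ∈ T, ∀ g' ∈ T, g * g' = g' * g := fun g hg g' hg' => by
    rcases derived_sgn h H hT hg hg' with e | e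
    · exact commutatorElement_eq_one_iff_mul_comm.1 e
    · haveI := hT.normal
      by_contra hne
      obtain ⟨w, hw⟩ := hc ⁅g, g'⁆ (by
        rw [commutatorElement_def]
        exact T.mul_mem (T.mul_mem (T.mul_mem hg hg') (T.inv_mem hg)) (T.inv_mem hg'))
        fun e1 => hne (commutatorElement_eq_one_iff_mul_comm.1 e1)
      exact hw (e w)
  refine htb ?_
  have hs := center_sgn h H hT ht (habel t ht)
  exact h.sgn_comm hs b

include h hT H in
theorem finrank_facts (hsol : Group.IsSolvable R) :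
    Module.finrank (ZMod 3) E ≤ 4 ∧ ((Module.finrank (ZMod 3) E : ℕ) : ZMod 3) ≠ 0 := by
  obtain ⟨z, hz, -, hneg⟩ := exists_neg h H hT hsol
  have hd : LinearMap.det (ρ z) = 1 := by
    simpa using congrArg Units.val (h.hom_eq_one (LinearMap.det.comp ρ).toHomUnits (hT.le hz))
  have e : ρ z = (-1 : ZMod 3) • (LinearMap.id : E →ₗ[ZMod 3] E) :=
    LinearMap.ext fun w => by rw [hneg, LinearMap.smul_apply, LinearMap.id_apply, neg_one_smul]
  rw [e, LinearMap.det_smul, LinearMap.det_id, mul_one] at hd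
  have hle := card_E_le h H hT hsol
  rw [Module.natCard_eq_pow_finrank (K := ZMod 3), Nat.card_zmod] at hle
  have h4 : Module.finrank (ZMod 3) E ≤ 4 :=
    (Nat.pow_le_pow_iff_right (by norm_num : 1 < 3)).1 hle
  refine ⟨h4, fun h0 => ?_⟩
  obtain ⟨v, hv⟩ := h.exists_ne_zero
  haveI : Nontrivial E := ⟨⟨v, 0, hv⟩⟩
  have hpos : 0 < Module.finrank (ZMod 3) E := Module.finrank_pos
  interval_cases Module.finrank (ZMod 3) E <;> revert hd h0 <;> decide

include h hT H in
/-- There is no element of order seven. -/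
theorem no_seven (hsol : Group.IsSolvable R) {a : G} (ha : a ^ 7 = 1) : a = 1 := by
  classical
  haveI : Fintype E := Fintype.ofFinite E
  haveI : Fact (Nat.Prime 7) := ⟨by norm_num⟩
  let σ : Function.End E := fun w => ρ a w
  have hσ : ∀ (k : ℕ) (s : E), (σ ^ k) s = ρ (a ^ k) s := by
    intro k
    induction k with
    | zero => intro s; rw [pow_zero, pow_zero, oneApply]; rfl
    | succ k ih => intro s; rw [pow_succ' a, mulApply, ← ih, pow_succ']; rfl
  have hpow : σ ^ 7 ^ 1 = 1 := by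
    funext s; rw [pow_one, hσ, ha, oneApply]; rfl
  have hmod := Equiv.Perm.card_fixedPoints_modEq hpow
  let F : Submodule (ZMod 3) E := LinearMap.ker (ρ a - 1)
  have hF : Nat.card F = Fintype.card (Function.fixedPoints σ) := by
    rw [← Nat.card_eq_fintype_card]
    exact Nat.card_congr ⟨fun s => ⟨s, sub_eq_zero.1 (LinearMap.mem_ker.1 s.2)⟩,
      fun s => ⟨s.1, LinearMap.mem_ker.2 (sub_eq_zero.2 s.2)⟩, fun s => rfl, fun s => rfl⟩
  rw [← hF, ← Nat.card_eq_fintype_card, Module.natCard_eq_pow_finrank (K := ZMod 3),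
    Module.natCard_eq_pow_finrank (K := ZMod 3) (V := F), Nat.card_zmod] at hmod
  have h4 := (finrank_facts h H hT hsol).1
  have hle := Submodule.finrank_le F
  have heq : Module.finrank (ZMod 3) F = Module.finrank (ZMod 3) E := by
    generalize Module.finrank (ZMod 3) F = i at *
    generalize Module.finrank (ZMod 3) E = j at *
    interval_cases j <;> interval_cases i <;> simp_all [Nat.ModEq]
  have htop := Submodule.eq_top_of_finrank_eq heq
  exact h.cubic.inj (LinearMap.ext fun w => by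
    have : w ∈ F := by rw [htop]; trivial
    rw [oneApply]; exact sub_eq_zero.1 this)

include h hT H in
theorem trace_eq_zero {g : G} (hg : g ∈ T) (hn : ¬ Sgn ρ g) :
    LinearMap.trace (ZMod 3) E (ρ g) = 0 := by
  obtain ⟨t, -, hflip⟩ := exists_flip h H hT hg hn
  have e : ρ (t * g * t⁻¹) = -ρ g := LinearMap.ext fun w => by rw [hflip, LinearMap.neg_apply]
  have h1 := congrArg (LinearMap.trace (ZMod 3) E) e
  rw [map_mul ρ, LinearMap.trace_mul_comm, ← map_mul ρ, ← mul_assoc, inv_mul_cancel, one_mul,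
    map_neg] at h1
  generalize LinearMap.trace (ZMod 3) E (ρ g) = c at h1
  revert h1
  revert c
  decide

/-! ### The action on `T` modulo scalars -/

include h hT H in
/-- An element of `R` acting trivially on `T` modulo scalars lies in `T`. -/
theorem act_trivial (hsol : Group.IsSolvable R) {r : G} (hr : r ∈ R)
    (hrt : ∀ t ∈ T, Sgn ρ ⁅r, t⁆) : r ∈ T := by
  classical
  haveI := hT.normal
  haveI := h.normal
  let W : Subgroup G :=
    { carrier := {g | g ∈ R ∧ ∀ t ∈ T, Sgn ρ ⁅g, t⁆}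
      mul_mem' := fun {g g'} hg hg' => ⟨R.mul_mem hg.1 hg'.1, fun t ht => by
        rw [show ⁅g * g', t⁆ = g * ⁅g', t⁆ * g⁻¹ * ⁅g, t⁆ by simp only [commutatorElement_def]; group,
          h.sgn_conj (hg'.2 t ht)]
        exact h.sgn_mul (hg'.2 t ht) (hg.2 t ht)⟩
      one_mem' := ⟨R.one_mem, fun t _ => Or.inl (commutatorElement_one_left t)⟩
      inv_mem' := fun {g} hg => ⟨R.inv_mem hg.1, fun t ht => by
        rw [show ⁅g⁻¹, t⁆ = g⁻¹ * ⁅g, t⁆⁻¹ * g by simp only [commutatorElement_def]; group]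
        have := h.sgn_conj (h.sgn_inv (hg.2 t ht)) g⁻¹
        rw [inv_inv] at this
        rw [this]
        exact h.sgn_inv (hg.2 t ht)⟩ }
  haveI : W.Normal := ⟨fun g hg x => ⟨h.normal.conj_mem g hg.1 x, fun t ht => by
    have := hg.2 (x⁻¹ * t * x) (by simpa using hT.normal.conj_mem t ht x⁻¹)
    rw [show ⁅x * g * x⁻¹, t⁆ = x * ⁅g, x⁻¹ * t * x⁆ * x⁻¹ by simp only [commutatorElement_def]; group,
      h.sgn_conj this]
    exact this⟩⟩
  have hTW : T ≤ W := fun t ht => ⟨hT.le ht, fun u hu => derived_sgn h H hT ht hu⟩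
  let χ : W → (T →* ZMod 3) := fun g =>
    { toFun := fun t => if ⁅(g : G), (t : G)⁆ = 1 then 1 else -1
      map_one' := by rw [OneMemClass.coe_one, commutatorElement_one_right]; simp
      map_mul' := fun s t => by
        have hs := g.2.2 s s.2
        have ht := g.2.2 t t.2
        have e : ⁅(g : G), ((s * t : T) : G)⁆ = ⁅(g : G), (s : G)⁆ * ⁅(g : G), (t : G)⁆ := by
          rw [show ⁅(g : G), ((s * t : T) : G)⁆ = ⁅(g : G), (s : G)⁆ * ((s : G) * ⁅(g : G), (t : G)⁆ * (s : G)⁻¹) by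
            simp only [commutatorElement_def, Subgroup.coe_mul]; group, h.sgn_conj ht]
        rw [e]
        by_cases h1 : ⁅(g : G), (s : G)⁆ = 1
        · rw [if_pos h1, one_mul, h1, one_mul]
        by_cases h2 : ⁅(g : G), (t : G)⁆ = 1
        · rw [if_neg h1, if_pos h2, mul_one, h2, mul_one, if_neg h1]
        rw [if_neg h1, if_neg h2, h.sgn_unique hs h1 ht h2, h.sgn_sq ht, if_pos rfl]
        decide }
  have hχ : ∀ g g' : W, χ g = χ g' → Sgn ρ ((g : G)⁻¹ * g') := fun g g' e => by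
    have hc : ∀ t ∈ T, ⁅(g : G), t⁆ = ⁅(g' : G), t⁆ := fun t ht => by
      have e' := DFunLike.congr_fun e ⟨t, ht⟩
      simp only [χ, MonoidHom.coe_mk, OneHom.coe_mk] at e'
      split_ifs at e' with h1 h2 h2
      · rw [h1, h2]
      · exact absurd e' (by decide)
      · exact absurd e' (by decide)
      · exact h.sgn_unique (g.2.2 t ht) h1 (g'.2.2 t ht) h2
    have hcen : ∀ t ∈ T, (g : G)⁻¹ * g' * t = t * ((g : G)⁻¹ * g') := fun t ht => by
      have := hc t ht
      simp only [commutatorElement_def, mul_left_inj] at this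
      calc (g : G)⁻¹ * g' * t = (g : G)⁻¹ * ((g' : G) * t * (g' : G)⁻¹) * g' := by group
        _ = _ := by rw [← this]; group
    refine center_sgn h H hT (cent_le h H hT hsol ⟨R.mul_mem (R.inv_mem g.2.1) g'.2.1,
      mem_centralizer_iff.2 fun t ht => (hcen t ht).symm⟩) hcen
  let rep : W → W := fun g => Function.invFun χ (χ g)
  have hrep : ∀ g, χ (rep g) = χ g := fun g => Function.invFun_eq ⟨g, rfl⟩
  have hinj : Function.Injective fun g : W => (χ g, decide (g = rep g)) := by
    intro g g' e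
    simp only [Prod.mk.injEq, decide_eq_decide] at e
    have e0 : rep g = rep g' := congrArg (Function.invFun χ) e.1
    by_cases hg : g = rep g
    · rw [hg, e.2.1 hg]
      exact e0
    have hg' : g' ≠ rep g' := fun h' => hg (e.2.2 h')
    rw [← e0] at hg'
    have s1 := hχ _ _ (hrep g)
    have s2 := hχ _ _ ((hrep g).trans e.1)
    exact Subtype.ext (mul_left_cancel (h.sgn_unique s1
      (fun h' => hg (Subtype.ext (inv_mul_eq_one.1 h').symm)) s2
      (fun h' => hg' (Subtype.ext (inv_mul_eq_one.1 h').symm))))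
  haveI : Fintype T := Fintype.ofFinite T
  have hli : LinearIndependent (ZMod 3) (fun f : T →* ZMod 3 => (f : T → ZMod 3)) :=
    linearIndependent_monoidHom T (ZMod 3)
  haveI : Finite (T →* ZMod 3) := Finite.of_injective _ DFunLike.coe_injective
  haveI : Fintype (T →* ZMod 3) := Fintype.ofFinite _
  have hhom : Nat.card (T →* ZMod 3) ≤ Nat.card T := by
    have := hli.fintype_card_le_finrank
    rwa [Module.finrank_fintype_fun_eq_card, ← Nat.card_eq_fintype_card,
      ← Nat.card_eq_fintype_card] at this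
  have hW : Nat.card W ≤ Nat.card T * 2 := by
    refine (Nat.card_le_card_of_injective _ hinj).trans ?_
    rw [Nat.card_prod, Nat.card_eq_fintype_card (α := Bool), Fintype.card_bool]
    exact Nat.mul_le_mul hhom le_rfl
  have hW2 : IsPGroup 2 W := by
    haveI : Fact (Nat.Prime 2) := ⟨Nat.prime_two⟩
    obtain ⟨k, hk⟩ := Subgroup.card_dvd_of_le hTW
    obtain ⟨n, hn⟩ := IsPGroup.iff_card.1 hT.two
    have hTpos : 0 < Nat.card T := Nat.card_pos
    have hk2 : k ≤ 2 := Nat.le_of_mul_le_mul_left (hk ▸ hW) hTpos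
    have hk0 : k ≠ 0 := fun e => Nat.card_pos.ne' (by rw [hk, e, mul_zero] : Nat.card W = 0)
    rw [hn] at hk
    rcases (show k = 1 ∨ k = 2 by omega) with rfl | rfl
    · exact IsPGroup.of_card (n := n) (by rw [hk, mul_one])
    · exact IsPGroup.of_card (n := n + 1) (by rw [hk, pow_succ])
  exact hT.max W inferInstance (fun g hg => hg.1) hW2 ⟨hr, hrt⟩


include h hT H in
/-- The contradiction. -/
theorem noLines_absurd (hsol : Group.IsSolvable R) : False := by
  classical
  haveI := hT.normal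
  haveI := h.normal
  haveI := h.zed_normal
  obtain ⟨z, hzT, hz1, hzneg⟩ := exists_neg h H hT hsol
  -- first, `R` is bigger than `T`
  have hRT : ¬ R ≤ T := by
    intro hRT
    obtain ⟨q, hqR, hq⟩ := h.four
    set p := b * q * b⁻¹ with hp
    have hpR : p ∈ R := h.normal.conj_mem q hqR b
    have hzs : Sgn ρ z := Or.inr hzneg
    let A : Subgroup G := Subgroup.closure {q, p, z}
    have hcl : ∀ x ∈ ({q, p, z} : Set G), x ∈ A := fun x hx => Subgroup.subset_closure hx
    have hAR : A ≤ R := (Subgroup.closure_le _).2 (by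
      rintro x (rfl | rfl | rfl); exacts [hqR, hpR, hT.le hzT])
    have hgenc : ∀ x ∈ ({q, p, z} : Set G), ∀ y ∈ ({q, p, z} : Set G), x * y = y * x := by
      rintro x (rfl | rfl | rfl) y (rfl | rfl | rfl)
      all_goals first
        | rfl
        | exact hq.comm
        | exact hq.comm.symm
        | exact h.sgn_comm hzs _
        | exact (h.sgn_comm hzs _).symm
    have hA1 : A ≤ centralizer (({q, p, z} : Set G)) := (Subgroup.closure_le _).2 fun x hx =>
      mem_centralizer_iff.2 fun y hy => hgenc y hy x hx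
    have hA2 : A ≤ centralizer (A : Set G) := (Subgroup.closure_le _).2 fun x hx =>
      mem_centralizer_iff.2 fun y hy => (mem_centralizer_iff.1 (hA1 hy) x hx).symm
    have hAc : ∀ x ∈ A, ∀ y ∈ A, x * y = y * x := fun x hx y hy =>
      (mem_centralizer_iff.1 (hA2 hx) y hy).symm
    have hAsq : ∀ x ∈ A, x * x = 1 := by
      intro x hx
      refine Subgroup.closure_induction (p := fun x _ => x * x = 1) ?_ (one_mul 1) ?_ ?_ hx
      · rintro y (rfl | rfl | rfl)
        exacts [hq.sq, hq.sq₂, h.sgn_sq hzs]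
      · intro y w hy hw ey ew
        rw [(Commute.symm (hAc y hy w hw)).mul_mul_mul_comm, ey, ew, one_mul]
      · intro y hy ey
        rw [← mul_inv_rev, ey, inv_one]
    have hsgnA : ∀ g : G, Sgn ρ g → g ∈ A := fun g hg => by
      by_cases e : g = 1
      · rw [e]; exact A.one_mem
      rw [h.sgn_unique hg e hzs hz1]
      exact hcl z (by simp)
    have hconjA : ∀ g : G, (∀ x ∈ ({q, p, z} : Set G), g * x * g⁻¹ ∈ A) →
        ∀ a ∈ A, g * a * g⁻¹ ∈ A := fun g hg a ha => by
      refine Subgroup.closure_induction (p := fun a _ => g * a * g⁻¹ ∈ A) hg (by simp) ?_ ?_ ha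
      · intro y w _ _ ey ew
        rw [show g * (y * w) * g⁻¹ = g * y * g⁻¹ * (g * w * g⁻¹) by group]
        exact A.mul_mem ey ew
      · intro y _ ey
        rw [show g * y⁻¹ * g⁻¹ = (g * y * g⁻¹)⁻¹ by group]
        exact A.inv_mem ey
    have hnorm : A.Normal := h.normal_of_gen
      (fun r hr => hconjA r fun x hx => by
        rw [show r * x * r⁻¹ = ⁅r, x⁆ * x by rw [commutatorElement_def]; group]
        exact A.mul_mem (hsgnA _ (derived_sgn h H hT (hRT hr) (hRT (hAR (hcl x hx))))) (hcl x hx))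
      (hconjA b (by
        rintro x (rfl | rfl | rfl)
        · exact hcl p (by simp)
        · rw [hq.prod]; exact A.mul_mem (hcl q (by simp)) (hcl p (by simp))
        · rw [h.sgn_conj hzs b]; exact hcl _ (by simp)))
    refine hq.ne₂ ?_
    rw [← H A hnorm hAR hAc hAsq q (hcl q (by simp)), mul_inv_cancel_right]
  -- the action on `T` modulo scalars
  set π := QuotientGroup.mk' h.zed with hπ
  have hπ1 : ∀ g, π g = 1 ↔ Sgn ρ g := fun g => (QuotientGroup.eq_one_iff g).trans h.mem_zed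
  haveI hVn : (T.map π).Normal := hT.normal.map π (QuotientGroup.mk'_surjective _)
  set V := T.map π with hV
  set φ : G →* MulAut V := (MulAut.conjNormal (H := V)).comp π with hφ
  have hφv : ∀ g t (ht : t ∈ T),
      ((φ g ⟨π t, Subgroup.mem_map_of_mem π ht⟩ : V) : G ⧸ h.zed) = π (g * t * g⁻¹) := fun g t ht => by
    rw [hφ, MonoidHom.comp_apply, MulAut.conjNormal_apply, map_mul, map_mul, map_inv]
  have hker : ∀ r ∈ R, φ r = 1 → r ∈ T := fun r hr e => act_trivial h H hT hsol hr fun t ht => by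
    have := hφv r t ht
    rw [e, MulAut.one_apply] at this
    rw [← hπ1, commutatorElement_def, map_mul, ← this]
    show π t * π t⁻¹ = 1
    rw [← map_mul, mul_inv_cancel, map_one]
  -- `V` has at most sixteen elements
  haveI : Fintype V := Fintype.ofFinite V
  have hrep : ∀ v : V, ∃ t ∈ T, π t = (v : G ⧸ h.zed) := fun v => Subgroup.mem_map.1 v.2
  choose rep hrepT hrepπ using hrep
  obtain ⟨hn4, hn0⟩ := finrank_facts h H hT hsol
  have hli : LinearIndependent (ZMod 3) fun v : V => ρ (rep v) := by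
    refine Fintype.linearIndependent_iff.2 fun c hc w => ?_
    have hzero := congrArg (fun f => LinearMap.trace (ZMod 3) E (f * ρ (rep w)⁻¹)) hc
    simp only [Finset.sum_mul, smul_mul_assoc, ← map_mul, map_sum, map_smul, zero_mul, map_zero] at hzero
    rw [Finset.sum_eq_single w (fun v _ hvw => by
      rw [trace_eq_zero h H hT (T.mul_mem (hrepT v) (T.inv_mem (hrepT w))) (fun hs => hvw ?_), smul_zero]
      · refine Subtype.ext ?_
        have e := (hπ1 _).2 hs
        rw [map_mul, map_inv, mul_inv_eq_one, hrepπ, hrepπ] at e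
        exact e) (fun hw => absurd (Finset.mem_univ w) hw), mul_inv_cancel, map_one,
      LinearMap.trace_one, smul_eq_mul, mul_eq_zero, or_iff_left hn0] at hzero
    exact hzero
  have hcardV : Nat.card V ≤ 16 := by
    have := hli.fintype_card_le_finrank
    rw [Module.finrank_linearMap, ← Nat.card_eq_fintype_card] at this
    exact this.trans ((Nat.mul_le_mul hn4 hn4).trans le_rfl)
  haveI : Fact (Nat.Prime 2) := ⟨Nat.prime_two⟩
  obtain ⟨n, hn⟩ := IsPGroup.iff_card.1 (hT.two.map π)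
  rw [← hV] at hn
  have hn' : n ≤ 4 := by
    rw [hn] at hcardV
    exact (Nat.pow_le_pow_iff_right (by norm_num : 1 < 2)).1 (hcardV.trans (le_of_eq (by norm_num)))
  -- a minimal normal subgroup of the image
  set f := φ.rangeRestrict with hf
  have hfs : Function.Surjective f := MonoidHom.rangeRestrict_surjective _
  have hf1 : ∀ g, f g = 1 ↔ φ g = 1 := fun g =>
    ⟨fun e => congrArg Subtype.val e, fun e => Subtype.ext e⟩
  have hRne : R.map f ≠ ⊥ := fun e => hRT fun r hr => hker r hr ((hf1 r).1 (by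
    have : f r ∈ R.map f := Subgroup.mem_map_of_mem f hr
    rwa [e, Subgroup.mem_bot] at this))
  obtain ⟨M, hM, hMR⟩ := Cfsg.Lib.Core.exists_isMinNormal (h.normal.map f hfs) hRne
  haveI hMn := hM.1
  haveI : Group.IsSolvable R := hsol
  haveI : Group.IsSolvable (R.map f) := Group.isSolvable_of_surjective (f.subgroupMap_surjective R)
  have hMab := Cfsg.Lib.Core.isMulCommutative_of_minimal_solvable hM
    (Group.isSolvable_of_isSolvable_injective (f := Subgroup.inclusion hMR)
      (Subgroup.inclusion_injective hMR))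
  have hMc : ∀ x ∈ M, ∀ y ∈ M, x * y = y * x := fun x hx y hy =>
    congrArg Subtype.val (hMab.is_comm.comm (⟨x, hx⟩ : M) ⟨y, hy⟩)
  set ℓ := (Nat.card M).minFac with hℓ
  have hp : ℓ.Prime := Nat.minFac_prime fun e => hM.2.1 (Subgroup.eq_bot_of_card_eq _ e)
  haveI : Fact ℓ.Prime := ⟨hp⟩
  obtain ⟨⟨k, hkM⟩, hm⟩ := exists_prime_orderOf_dvd_card' (G := M) ℓ (Nat.minFac_dvd _)
  rw [Subgroup.orderOf_mk] at hm
  set K := expPart M hMc ℓ with hK
  haveI hKn : K.Normal := expPart_normal hMn hMc ℓ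
  have hkK : k ∈ K := ⟨hkM, by rw [← hm, pow_orderOf_eq_one]⟩
  have hk1 : k ≠ 1 := fun e => hp.one_lt.ne (by rw [← hm, e, orderOf_one])
  have hKR : K ≤ R.map f := fun x hx => hMR hx.1
  have hℓR : ℓ ∣ Nat.card R := by
    rw [← hm]
    have := orderOf_dvd_natCard (⟨k, hMR hkM⟩ : R.map f)
    rw [Subgroup.orderOf_mk] at this
    exact this.trans (Subgroup.card_map_dvd R f)
  have hℓ2 : ℓ ≠ 2 := by
    intro e
    let N : Subgroup G := R ⊓ K.comap f
    haveI : N.Normal := inferInstance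
    obtain ⟨r, hr, hrk⟩ := Subgroup.mem_map.1 (hMR hkM)
    refine hk1 ?_
    have hrT : r ∈ T := hT.max N inferInstance inf_le_left (fun ⟨y, hy⟩ => by
      have hy2 : y ^ 2 ∈ T := hker _ (pow_mem hy.1 2) ((hf1 _).1 (by
        rw [map_pow, ← e]; exact hy.2.2))
      obtain ⟨j, hj⟩ := hT.two ⟨_, hy2⟩
      have hj' : (y ^ 2) ^ 2 ^ j = 1 := congrArg Subtype.val hj
      exact ⟨j + 1, Subtype.ext (by
        show y ^ 2 ^ (j + 1) = 1
        rw [pow_succ', pow_mul, hj'])⟩) ⟨hr, show f r ∈ K from hrk ▸ hkK⟩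
    rw [← hrk, hf1]
    refine MulEquiv.ext fun v => Subtype.ext ?_
    obtain ⟨t, ht, hv⟩ := Subgroup.mem_map.1 v.2
    have := hφv r t ht
    rw [show (⟨π t, Subgroup.mem_map_of_mem π ht⟩ : V) = v from Subtype.ext hv] at this
    rw [this, MulAut.one_apply, ← hv, show r * t * r⁻¹ = ⁅r, t⁆ * t by
      rw [commutatorElement_def]; group, map_mul, (hπ1 _).2 (derived_sgn h H hT hrT ht), one_mul]
  have h5 := five_le h hp hℓR hℓ2
  have h7 : ℓ ≠ 7 := by
    intro e
    haveI : Fact (Nat.Prime 7) := ⟨by norm_num⟩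
    obtain ⟨a, ha⟩ := exists_prime_orderOf_dvd_card' (G := R) 7 (e ▸ hℓR)
    have ha1 : (a : G) = 1 := no_seven h H hT hsol (by
      rw [← ha, ← Subgroup.orderOf_coe a, pow_orderOf_eq_one])
    rw [← Subgroup.orderOf_coe, ha1, orderOf_one] at ha
    norm_num at ha
  have hprime : ∀ x ∈ K, x ≠ 1 → ℓ = 5 ∧ n = 4 ∧ ∀ v, (x : MulAut V) v = v → v = 1 :=
    fun x hx hx1 => Cfsg.Lib.CubicAut.prime_five hn hn' hp h5 h7
      (congrArg Subtype.val hx.2) (fun e => hx1 (Subtype.ext e))
  obtain ⟨hℓ5, hn44, hfix⟩ := hprime k hkK hk1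
  rw [hn44] at hn
  obtain ⟨v₀, hv₀⟩ : ∃ v : V, v ≠ 1 := by
    haveI : Nontrivial V := Finite.one_lt_card_iff_nontrivial.1 (by rw [hn]; norm_num)
    exact exists_ne 1
  have hkpow : (k : MulAut V) ^ 5 = 1 := by
    rw [← hℓ5]; exact congrArg Subtype.val hkK.2
  -- semiregularity
  have hsemi : ∀ g : φ.range, g * k = k * g → ∀ v, v ≠ 1 → (g : MulAut V) v = v → g = 1 :=
    fun g hg v hv hgv => Subtype.ext
      (Cfsg.Lib.CubicAut.semiregular hn hkpow hfix (congrArg Subtype.val hg) hv hgv)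
  have hbound : ∀ S : Subgroup φ.range, (∀ g ∈ S, g * k = k * g) → Nat.card S ≤ 15 := by
    intro S hS
    have hval : Nat.card {v : V // v ≠ 1} = 15 := by
      rw [Nat.card_eq_fintype_card, Fintype.card_subtype_compl, Fintype.card_subtype_eq,
        ← Nat.card_eq_fintype_card, hn]
      rfl
    refine (Nat.card_le_card_of_injective
      (fun g : S => (⟨((g : φ.range) : MulAut V) v₀, fun e => hv₀ (by
        rwa [MulEquiv.map_eq_one_iff] at e)⟩ : {v : V // v ≠ 1})) fun g g' e => ?_).trans hval.le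
    have e' := congrArg Subtype.val e
    simp only at e'
    have := hsemi ((g' : φ.range)⁻¹ * g) (hS _ (S.mul_mem (S.inv_mem g'.2) g.2)) v₀ hv₀ (by
      show ((g' : φ.range) : MulAut V)⁻¹ (((g : φ.range) : MulAut V) v₀) = v₀
      rw [MulAut.inv_def, MulEquiv.symm_apply_eq]; exact e')
    exact (Subtype.ext (inv_mul_eq_one.1 this)).symm
  -- `K` has order five
  have hKz : zpowers k = K := by
    refine Subgroup.eq_of_le_of_card_ge (zpowers_le.2 hkK) ?_
    rw [Nat.card_zpowers, hm, hℓ5]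
    have hle := hbound K fun g hg => hMc g hg.1 k hkM
    haveI : Fact (Nat.Prime 5) := ⟨by norm_num⟩
    obtain ⟨j, hj⟩ := IsPGroup.iff_card.1 (show IsPGroup 5 K from fun ⟨x, hx⟩ => ⟨1, Subtype.ext (by
      show x ^ 5 ^ 1 = 1
      rw [pow_one, ← hℓ5]; exact hx.2)⟩)
    rw [hj] at hle ⊢
    have : j < 2 := by
      by_contra hc
      have := Nat.pow_le_pow_right (show 0 < 5 by norm_num) (not_lt.1 hc)
      omega
    interval_cases j <;> norm_num
  -- `b` centralises `K`
  have hbk : f b * k = k * f b := by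
    have hc : f b * k * (f b)⁻¹ ∈ zpowers k := by rw [hKz]; exact hKn.conj_mem k hkK (f b)
    obtain ⟨i, hi⟩ := (Submonoid.mem_powers_iff _ _).1 (mem_powers_iff_mem_zpowers.2 hc)
    have hb3 : f b * f b * f b = 1 := by
      rw [← map_mul, ← map_mul, ← pow_three', h.cubic.cube, map_one]
    have e3 : k = k ^ (i * i * i) := by
      calc k = (f b * f b * f b) * k * (f b * f b * f b)⁻¹ := by rw [hb3]; group
        _ = f b * (f b * (f b * k * (f b)⁻¹) * (f b)⁻¹) * (f b)⁻¹ := by group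
        _ = k ^ (i * i * i) := by
          rw [← hi, ← conj_pow, ← hi, ← pow_mul, ← conj_pow, ← hi, ← pow_mul, mul_assoc]
    have hmod : 1 ≡ i * i * i [MOD 5] := by
      rw [← hℓ5, ← hm, ← pow_eq_pow_iff_modEq, pow_one]
      exact e3
    have hi1 : i % 5 = 1 := by
      have h' : ((i * i * i : ℕ) : ZMod 5) = ((1 : ℕ) : ZMod 5) :=
        (ZMod.natCast_eq_natCast_iff _ _ _).2 hmod.symm
      push_cast at h'
      have key : ∀ x : ZMod 5, x * x * x = 1 → x = 1 := by decide
      exact (ZMod.natCast_eq_natCast_iff i 1 5).1 (by rw [key _ h', Nat.cast_one])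
    have : k ^ i = k := by
      rw [← pow_mod_orderOf, hm, hℓ5, hi1, pow_one]
    rw [this] at hi
    exact (eq_mul_inv_iff_mul_eq.1 hi).symm
  -- so `K` is central
  have hcen : ∀ g : G, f g * k = k * f g := by
    intro g
    let S : Subgroup G := (centralizer ((zpowers k : Subgroup φ.range) : Set φ.range)).comap f
    haveI : (zpowers k).Normal := hKz ▸ hKn
    have hS : S = ⊤ := h.eq_top inferInstance (by
      show f b ∈ centralizer ((zpowers k : Subgroup φ.range) : Set φ.range)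
      refine mem_centralizer_iff.2 fun x hx => ?_
      obtain ⟨j, rfl⟩ := Subgroup.mem_zpowers_iff.1 hx
      exact (Commute.zpow_left (hbk : Commute (f b) k).symm j))
    exact (mem_centralizer_iff.1 (show g ∈ S by rw [hS]; trivial) k (mem_zpowers k)).symm
  have hcenR : ∀ x ∈ R.map f, x * k = k * x := by
    rintro _ ⟨r, -, rfl⟩; exact hcen r
  -- the image of `R` has order five
  have hR5 : Nat.card (R.map f) = 5 := by
    have hle := hbound _ hcenR
    have hd5 : 5 ∣ Nat.card (R.map f) := by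
      have := Subgroup.card_dvd_of_le (hKR)
      rwa [← hKz, Nat.card_zpowers, hm, hℓ5] at this
    have h3 : ¬ 3 ∣ Nat.card (R.map f) := fun hd => h.cop (hd.trans (Subgroup.card_map_dvd R f))
    have h2 : ¬ 2 ∣ Nat.card (R.map f) := by
      intro hd
      obtain ⟨g, hg⟩ := exists_prime_orderOf_dvd_card' (G := R.map f) 2 hd
      have hg2 : ((g : φ.range) : MulAut V) ^ 2 = 1 := by
        have : (g : φ.range) ^ 2 = 1 := by rw [← hg, ← Subgroup.orderOf_coe, pow_orderOf_eq_one]
        exact congrArg Subtype.val this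
      obtain ⟨v, hv, hgv⟩ := Cfsg.Lib.CubicAut.exists_fixed hn hg2
      have := hsemi g (hcenR g g.2) v hv hgv
      rw [← Subgroup.orderOf_coe, this, orderOf_one] at hg
      norm_num at hg
    have hpos : 0 < Nat.card (R.map f) := Nat.card_pos
    omega
  have hRK : R.map f = zpowers k := (Subgroup.eq_of_le_of_card_ge (zpowers_le.2 (hKR hkK))
    (by rw [hR5, Nat.card_zpowers, hm, hℓ5])).symm
  refine hRT fun r hr => hker r hr ((hf1 r).1 ?_)
  have hle : R ≤ f.ker := by
    conv_lhs => rw [← h.comm]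
    rw [Subgroup.commutator_le]
    intro r hr c hc
    rw [MonoidHom.mem_ker, map_commutatorElement, commutatorElement_eq_one_iff_mul_comm]
    obtain ⟨j, rfl⟩ := Subgroup.mem_zpowers_iff.1 hc
    have hrk : f r ∈ zpowers k := hRK ▸ Subgroup.mem_map_of_mem f hr
    obtain ⟨i, hi⟩ := Subgroup.mem_zpowers_iff.1 hrk
    rw [← hi, map_zpow]
    exact (Commute.zpow_zpow (Commute.symm hbk) i j)
  exact hle hr

/-- The conclusion in the setting of a context. -/
theorem Ctx.conclude {G : Type u} [Group G] [Finite G] {E : Type v} [AddCommGroup E]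
    [Module (ZMod 3) E] [Finite E] {ρ : G →* Module.End (ZMod 3) E} {b : G} {R : Subgroup G}
    (h : Ctx ρ b R) (hsol : Group.IsSolvable R) :
    (Cfsg.IsElementaryAbelian 2 R ∧ Nat.card R = 4) ∨
      (Cfsg.IsExtraspecial 2 R ∧ Nat.card R = 32 ∧
        ∃ A : Subgroup G, A ≤ R ∧ Cfsg.IsElementaryAbelian 2 A ∧ Nat.card A = 8) := by
  by_cases H : NoLines b R
  · obtain ⟨T, hT⟩ := exists_twoRad R
    exact (noLines_absurd h H hT hsol).elim
  · unfold NoLines at H
    push Not at H
    obtain ⟨A, hA, hle, hc, hsq, a, ha, hab⟩ := H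
    obtain ⟨D, -⟩ := h.exists_lineData hA hle hc hsq ha hab
    exact D.conclude hsol

end Cfsg.Lib.CubicBlock
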