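import Cfsg.Agent.Lib.Linear.CubicBlock

/-!
# The lines of a noncentral normal elementary abelian 2-subgroup

In the setting of `CubicBlock.Ctx`, the translates of the weight line of a four-group inside `A`
form a basis permuted monomially.
-/

set_option autoImplicit false

namespace Cfsg.Lib.CubicBlock

open Subgroup Cfsg.Lib.CubicFour

universe u v

variable {G : Type u} [Group G] {E : Type v} [AddCommGroup E] [Module (ZMod 3) E]
  {ρ : G →* Module.End (ZMod 3) E} {b : G} {R : Subgroup G}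

theorem zmod3_ne_zero {a : ZMod 3} (h : a ≠ 0) : a = 1 ∨ a = -1 :=
  (zmod3_cases a).resolve_left h

theorem zmod3_mul_self {a : ZMod 3} (h : a ≠ 0) : a * a = 1 := by
  rcases zmod3_ne_zero h with rfl | rfl <;> decide

/-- Data: a noncentral elementary abelian normal 2-subgroup and a four-group inside it. -/
structure LineData (ρ : G →* Module.End (ZMod 3) E) (b : G) (R : Subgroup G) where
  ctx : Ctx ρ b R
  A : Subgroup G
  normal : A.Normal
  le : A ≤ R
  comm : ∀ x ∈ A, ∀ y ∈ A, x * y = y * x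
  sq : ∀ x ∈ A, x * x = 1
  q : G
  mem : q ∈ A
  four : IsFour b q
  v : E
  wt : v ∈ IsFour.wt ρ b q
  v_ne : v ≠ 0

theorem Ctx.exists_lineData (h : Ctx ρ b R) {A : Subgroup G} (hA : A.Normal) (hle : A ≤ R)
    (hc : ∀ x ∈ A, ∀ y ∈ A, x * y = y * x) (hsq : ∀ x ∈ A, x * x = 1) {a : G} (ha : a ∈ A)
    (hab : a * b ≠ b * a) : ∃ D : LineData ρ b R, D.A = A := by
  have hb3 : b * b * b = 1 := by rw [← pow_three', h.cubic.cube]
  have hai : ∀ x ∈ A, x⁻¹ = x := fun x hx => inv_eq_of_mul_eq_one_right (hsq x hx)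
  set a' := b * a * b⁻¹ with e1
  have ha' : a' ∈ A := hA.conj_mem a ha b
  set a'' := b * a' * b⁻¹ with e2
  have ha'' : a'' ∈ A := hA.conj_mem a' ha' b
  have hconj : b * (a * a') * b⁻¹ = a' * a'' := by
    rw [e2, e1]; group
  have hq : IsFour b (a * a') := by
    refine ⟨hsq _ (A.mul_mem ha ha'), fun h0 => hab ?_, hc _ (A.mul_mem ha ha') _
      (hconj ▸ A.mul_mem ha' ha''), ?_⟩
    · have : a' = a := ((eq_inv_of_mul_eq_one_right h0).trans (hai a ha))
      exact (mul_inv_eq_iff_eq_mul.1 this).symm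
    · have h3 : b * a'' * b⁻¹ = a := by
        rw [e2, e1]
        calc b * (b * (b * a * b⁻¹) * b⁻¹) * b⁻¹ = (b * b * b) * a * (b * b * b)⁻¹ := by group
          _ = a := by rw [hb3]; group
      calc b * (b * (a * a') * b⁻¹) * b⁻¹ = (b * a' * b⁻¹) * (b * a'' * b⁻¹) := by
            rw [hconj]; group
        _ = a'' * a := by rw [h3, ← e2]
        _ = a * a'' := hc _ ha'' _ ha
        _ = a * (a' * a') * a'' := by rw [hsq a' ha', mul_one]
        _ = a * a' * (b * (a * a') * b⁻¹) := by rw [hconj]; group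
  obtain ⟨v, hv, hv0⟩ := exists_vec h.cubic hq
  exact ⟨⟨h, A, hA, hle, hc, hsq, a * a', A.mul_mem ha ha', hq, v, hv, hv0⟩, rfl⟩

namespace LineData

variable (D : LineData ρ b R)

theorem p_mem : b * D.q * b⁻¹ ∈ D.A := D.normal.conj_mem _ D.mem b

/-- The stabilizer of the line. -/
def S : Subgroup G where
  carrier := {g | ρ g D.v = D.v ∨ ρ g D.v = -D.v}
  mul_mem' {g h} hg hh := by
    simp only [Set.mem_setOf_eq] at *
    rw [mulApply]
    rcases hh with hh | hh <;> rw [hh] <;> [skip; rw [map_neg]] <;>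
      rcases hg with hg | hg <;> simp [hg]
  one_mem' := Or.inl (oneApply ρ D.v)
  inv_mem' {g} hg := by
    simp only [Set.mem_setOf_eq] at *
    have h := oneApply ρ D.v
    rw [← inv_mul_cancel g, mulApply] at h
    rcases hg with hg | hg
    · exact Or.inl (by rwa [hg] at h)
    · rw [hg, map_neg] at h
      exact Or.inr (neg_eq_iff_eq_neg.1 h)

/-- The set of lines. -/
abbrev Ω := G ⧸ D.S

/-- A spanning vector of a line. -/
noncomputable def vec (ω : D.Ω) : E := ρ ω.out D.v

theorem vec_mk (g : G) : D.vec (g : D.Ω) = ρ g D.v ∨ D.vec (g : D.Ω) = -ρ g D.v := by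
  obtain ⟨⟨h, hh⟩, e⟩ := QuotientGroup.mk_out_eq_mul D.S g
  rw [vec, e, mulApply]
  rcases hh with hh | hh <;> rw [hh]
  · exact Or.inl rfl
  · exact Or.inr (map_neg _ _)

theorem vec_smul (g : G) (ω : D.Ω) :
    D.vec (g • ω) = ρ g (D.vec ω) ∨ D.vec (g • ω) = -ρ g (D.vec ω) := by
  have e : g • ω = ((g * ω.out : G) : D.Ω) := by
    conv_lhs => rw [← QuotientGroup.out_eq' ω]
    rfl
  rw [e]
  rcases D.vec_mk (g * ω.out) with h | h
  · exact Or.inl (by rw [h, mulApply]; rfl)
  · exact Or.inr (by rw [h, mulApply]; rfl)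

theorem inj_apply (g : G) : Function.Injective (ρ g) := fun s t h => by
  have := congrArg (ρ g⁻¹) h
  rwa [← mulApply, ← mulApply, inv_mul_cancel, oneApply, oneApply] at this

theorem vec_ne (ω : D.Ω) : D.vec ω ≠ 0 := fun h =>
  D.v_ne (inj_apply (ρ := ρ) ω.out (h.trans (map_zero _).symm))

theorem mem_wt_of_mem {a : G} (ha : a ∈ D.A) {w : E} (hw : w ∈ IsFour.wt ρ b D.q) :
    ρ a w ∈ IsFour.wt ρ b D.q := by
  obtain ⟨e1, e2⟩ := IsFour.mem_wt.1 hw
  refine IsFour.mem_wt.2 ⟨?_, ?_⟩
  · rw [← mulApply, D.comm _ D.mem _ ha, mulApply, e1]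
  · rw [← mulApply, D.comm _ D.p_mem _ ha, mulApply, e2, map_neg]

variable [Finite E]

theorem exists_sign {a : G} (ha : a ∈ D.A) (g : G) :
    ∃ c : ZMod 3, c ≠ 0 ∧ ρ a (ρ g D.v) = c • ρ g D.v := by
  have ha' : g⁻¹ * a * g ∈ D.A := by simpa using D.normal.conj_mem a ha g⁻¹
  obtain ⟨c, hc⟩ := D.four.wt_line D.ctx.cubic D.wt D.v_ne (D.mem_wt_of_mem ha' D.wt)
  refine ⟨c, fun h0 => D.v_ne (inj_apply (ρ := ρ) _ (hc.trans (by rw [h0, zero_smul, map_zero]))), ?_⟩
  rw [← mulApply, show a * g = g * (g⁻¹ * a * g) by group, mulApply, hc, map_smul]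

open Classical in
/-- The sign of `a` on a line. -/
noncomputable def sg (a : G) (ω : D.Ω) : ZMod 3 :=
  if h : a ∈ D.A then (D.exists_sign h ω.out).choose else 0

theorem sg_ne {a : G} (ha : a ∈ D.A) (ω : D.Ω) : D.sg a ω ≠ 0 := by
  rw [sg, dif_pos ha]; exact (D.exists_sign ha ω.out).choose_spec.1

theorem sg_spec {a : G} (ha : a ∈ D.A) (ω : D.Ω) : ρ a (D.vec ω) = D.sg a ω • D.vec ω := by
  rw [sg, dif_pos ha]; exact (D.exists_sign ha ω.out).choose_spec.2

theorem sg_eq {a : G} (ha : a ∈ D.A) {ω : D.Ω} {c : ZMod 3} (h : ρ a (D.vec ω) = c • D.vec ω) :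
    D.sg a ω = c := by
  have h1 := D.sg_spec ha ω
  rw [h] at h1
  have h2 : (D.sg a ω - c) • D.vec ω = 0 := by rw [sub_smul, ← h1, sub_self]
  rw [smul_eq_zero, or_iff_left (D.vec_ne ω), sub_eq_zero] at h2
  exact h2

theorem sg_mul {a a' : G} (ha : a ∈ D.A) (ha' : a' ∈ D.A) (ω : D.Ω) :
    D.sg (a * a') ω = D.sg a ω * D.sg a' ω := by
  apply D.sg_eq (D.A.mul_mem ha ha')
  rw [mulApply, D.sg_spec ha', map_smul, D.sg_spec ha, smul_smul, mul_comm]

theorem sg_one (ω : D.Ω) : D.sg 1 ω = 1 :=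
  D.sg_eq D.A.one_mem (by rw [oneApply, one_smul])

theorem sg_conj {a : G} (ha : a ∈ D.A) (g : G) (ω : D.Ω) :
    D.sg (g * a * g⁻¹) (g • ω) = D.sg a ω := by
  apply D.sg_eq (D.normal.conj_mem a ha g)
  rcases D.vec_smul g ω with h | h <;>
    simp only [h, map_neg, smul_neg, ← mulApply, inv_mul_cancel_right] <;>
    rw [mulApply, D.sg_spec ha, map_smul]

theorem sg_ext {ω ω' : D.Ω} (h : ∀ a ∈ D.A, D.sg a ω = D.sg a ω') : ω = ω' := by
  set g := ω.out with hg
  set k := ω'.out with hk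
  obtain ⟨e1, e2⟩ := IsFour.mem_wt.1 D.wt
  have key : ∀ (x : G) (c : ZMod 3), x ∈ D.A → ρ x D.v = c • D.v →
      ρ x (ρ k⁻¹ (ρ g D.v)) = c • ρ k⁻¹ (ρ g D.v) := by
    intro x c hx hc
    have hxA : k * x * k⁻¹ ∈ D.A := D.normal.conj_mem x hx k
    have hs : D.sg (k * x * k⁻¹) ω = c := by
      rw [h _ hxA]
      apply D.sg_eq hxA
      show ρ (k * x * k⁻¹) (ρ k D.v) = c • ρ k D.v
      rw [← mulApply, show k * x * k⁻¹ * k = k * x by group, mulApply, hc, map_smul]
    have := D.sg_spec hxA ω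
    rw [hs] at this
    change ρ (k * x * k⁻¹) (ρ g D.v) = c • ρ g D.v at this
    have h' := congrArg (ρ k⁻¹) this
    rw [← mulApply ρ k⁻¹ (k * x * k⁻¹), show k⁻¹ * (k * x * k⁻¹) = x * k⁻¹ by group, mulApply,
      map_smul] at h'
    exact h'
  have hw : ρ k⁻¹ (ρ g D.v) ∈ IsFour.wt ρ b D.q := by
    refine IsFour.mem_wt.2 ⟨?_, ?_⟩
    · have := key D.q 1 D.mem (by rw [e1, one_smul])
      rwa [one_smul] at this
    · have := key _ (-1) D.p_mem (by rw [e2, neg_one_smul])
      rwa [neg_one_smul] at this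
  obtain ⟨c, hc⟩ := D.four.wt_line D.ctx.cubic D.wt D.v_ne hw
  have hS : k⁻¹ * g ∈ D.S := by
    show ρ (k⁻¹ * g) D.v = D.v ∨ ρ (k⁻¹ * g) D.v = -D.v
    rw [mulApply, hc]
    rcases zmod3_cases c with rfl | rfl | rfl
    · exfalso
      rw [zero_smul, ← mulApply] at hc
      exact D.v_ne (inj_apply (ρ := ρ) _ (hc.trans (map_zero _).symm))
    · exact Or.inl (one_smul _ _)
    · exact Or.inr (neg_one_smul _ _)
  calc ω = ((g : G) : D.Ω) := (QuotientGroup.out_eq' ω).symm
    _ = ((k : G) : D.Ω) := (QuotientGroup.eq.2 hS).symm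
    _ = ω' := QuotientGroup.out_eq' ω'

theorem linearIndependent [Finite G] : LinearIndependent (ZMod 3) D.vec := by
  classical
  rw [linearIndependent_iff']
  intro s
  induction s using Finset.induction_on with
  | empty => intro c _ i hi; simp at hi
  | @insert j s hj ih =>
    intro c hc
    have hrest : ∀ i ∈ s, c i = 0 := by
      intro i hi
      have hij : i ≠ j := fun h => hj (h ▸ hi)
      obtain ⟨a, ha, hne⟩ : ∃ a ∈ D.A, D.sg a i ≠ D.sg a j := by
        by_contra h
        push Not at h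
        exact hij (D.sg_ext h)
      have h0 : ∑ i ∈ s, (c i * (D.sg a i - D.sg a j)) • D.vec i = 0 := by
        rw [Finset.sum_insert hj] at hc
        have h1 : (c j * D.sg a j) • D.vec j + ∑ k ∈ s, (c k * D.sg a k) • D.vec k = 0 := by
          have h := congrArg (ρ a) hc
          rw [map_add, map_sum, map_zero, map_smul, D.sg_spec ha, smul_smul] at h
          rw [← h]
          congr 1
          exact Finset.sum_congr rfl fun k _ => by rw [map_smul, D.sg_spec ha, smul_smul]
        have h2 : (c j * D.sg a j) • D.vec j + ∑ k ∈ s, (c k * D.sg a j) • D.vec k = 0 := by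
          have h := congrArg (fun t => D.sg a j • t) hc
          simp only [smul_add, Finset.smul_sum, smul_smul, smul_zero] at h
          rw [← h, mul_comm (c j)]
          congr 1
          exact Finset.sum_congr rfl fun k _ => by rw [mul_comm]
        calc _ = ∑ k ∈ s, ((c k * D.sg a k) • D.vec k - (c k * D.sg a j) • D.vec k) :=
              Finset.sum_congr rfl fun k _ => by rw [mul_sub, sub_smul]
          _ = ((c j * D.sg a j) • D.vec j + ∑ k ∈ s, (c k * D.sg a k) • D.vec k) -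
              ((c j * D.sg a j) • D.vec j + ∑ k ∈ s, (c k * D.sg a j) • D.vec k) := by
              rw [Finset.sum_sub_distrib, add_sub_add_left_eq_sub]
          _ = 0 := by rw [h1, h2, sub_zero]
      have := ih _ h0 i hi
      rcases mul_eq_zero.1 this with h | h
      · exact h
      · exact absurd (sub_eq_zero.1 h) hne
    intro i hi
    rcases Finset.mem_insert.1 hi with rfl | hi'
    · rw [Finset.sum_insert hj, Finset.sum_eq_zero fun k hk => by rw [hrest k hk, zero_smul],
        add_zero, smul_eq_zero, or_iff_left (D.vec_ne _)] at hc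
      exact hc
    · exact hrest i hi'

theorem span_eq_top : Submodule.span (ZMod 3) (Set.range D.vec) = ⊤ := by
  refine D.ctx.irr _ (fun g t ht => ?_) fun h => D.vec_ne ((1 : G) : D.Ω) ?_
  · induction ht using Submodule.span_induction with
    | mem t ht =>
      obtain ⟨ω, rfl⟩ := ht
      have hm : D.vec (g • ω) ∈ Submodule.span (ZMod 3) (Set.range D.vec) :=
        Submodule.subset_span ⟨_, rfl⟩
      rcases D.vec_smul g ω with h | h <;> rw [h] at hm
      · exact hm
      · simpa using Submodule.neg_mem _ hm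
    | zero => simp
    | add x y _ _ hx hy => rw [map_add]; exact add_mem hx hy
    | smul c x _ hx => rw [map_smul]; exact Submodule.smul_mem _ _ hx
  · rw [← Submodule.mem_bot (ZMod 3), ← h]
    exact Submodule.subset_span ⟨_, rfl⟩

/-- An element of `A` is determined by its signs. -/
theorem eq_one_of_sg {a : G} (ha : a ∈ D.A) (h : ∀ ω, D.sg a ω = 1) : a = 1 := by
  refine D.ctx.cubic.inj (LinearMap.ext_on_range D.span_eq_top fun ω => ?_)
  rw [D.sg_spec ha, h, one_smul, oneApply]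

/-- The determinant of a monomial element. -/
theorem det_eq [Finite G] [Fintype D.Ω] [DecidableEq D.Ω] {g : G} (σ : Equiv.Perm D.Ω)
    (d : D.Ω → ZMod 3) (h : ∀ ω, ρ g (D.vec ω) = d ω • D.vec (σ ω)) :
    LinearMap.det (ρ g) = ((Equiv.Perm.sign σ : ℤ) : ZMod 3) * ∏ ω, d ω := by
  let B := Module.Basis.mk D.linearIndependent D.span_eq_top.ge
  have hB : ∀ ω, B ω = D.vec ω := fun ω => Module.Basis.mk_apply _ _ ω
  have hmat : LinearMap.toMatrix B B (ρ g) =
      Equiv.Perm.permMatrix (ZMod 3) σ⁻¹ * Matrix.diagonal d := by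
    ext i j
    rw [LinearMap.toMatrix_apply, hB, h, ← hB, map_smul, Module.Basis.repr_self,
      Finsupp.smul_single, smul_eq_mul, mul_one, Finsupp.single_apply, Matrix.mul_diagonal,
      Equiv.Perm.permMatrix, PEquiv.toMatrix_apply]
    by_cases hij : σ j = i
    · subst hij; simp
    · rw [if_neg hij, if_neg, zero_mul]
      simp only [Equiv.toPEquiv_apply, Option.mem_def, Option.some.injEq]
      intro e
      exact hij (by rw [← e]; simp)
  rw [← LinearMap.det_toMatrix B, hmat, Matrix.det_mul, Matrix.det_diagonal,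
    Matrix.det_permutation, Equiv.Perm.sign_inv]

end LineData

end Cfsg.Lib.CubicBlock
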