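import Cfsg.Agent.Lib.Linear.CubicLines
import Cfsg.Agent.Lib.PGroup.Basic

/-!
# The monomial case: at most four lines
-/

set_option autoImplicit false

namespace Cfsg.Lib.CubicBlock

open Subgroup Cfsg.Lib.CubicFour
open scoped commutatorElement

universe u v

variable {G : Type u} [Group G] [Finite G] {E : Type v} [AddCommGroup E] [Module (ZMod 3) E]
  [Finite E] {ρ : G →* Module.End (ZMod 3) E} {b : G} {R : Subgroup G}

namespace LineData

variable (D : LineData ρ b R)

/-- The first line. -/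
def o₁ : D.Ω := ((1 : G) : D.Ω)

/-- The second line. -/
def o₂ : D.Ω := b • D.o₁

/-- The third line. -/
def o₃ : D.Ω := b • D.o₂

theorem vec_o₁ : D.vec D.o₁ = D.v ∨ D.vec D.o₁ = -D.v := by
  rcases D.vec_mk 1 with h | h <;> rw [oneApply] at h
  · exact Or.inl h
  · exact Or.inr h

theorem b_o₃ : b • D.o₃ = D.o₁ := by
  rw [o₃, o₂, ← mul_smul, ← mul_smul, show b * b * b = 1 by rw [← pow_three', D.ctx.cubic.cube],
    one_smul]

theorem sg_of_vec {a : G} (ha : a ∈ D.A) {ω : D.Ω} {w : E} {c : ZMod 3}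
    (hw : D.vec ω = w ∨ D.vec ω = -w) (h : ρ a w = c • w) : D.sg a ω = c := by
  apply D.sg_eq ha
  rcases hw with e | e <;> rw [e]
  · exact h
  · rw [map_neg, h, smul_neg]

theorem vec_o₂ : D.vec D.o₂ = ρ b D.v ∨ D.vec D.o₂ = -ρ b D.v := by
  rcases D.vec_smul b D.o₁ with h | h <;> rcases D.vec_o₁ with e | e <;>
    simp [o₂, h, e]

theorem vec_o₃ : D.vec D.o₃ = ρ b (ρ b D.v) ∨ D.vec D.o₃ = -ρ b (ρ b D.v) := by
  rcases D.vec_smul b D.o₂ with h | h <;> rcases D.vec_o₂ with e | e <;>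
    simp [o₃, h, e]

theorem signs : D.sg D.q D.o₁ = 1 ∧ D.sg (b * D.q * b⁻¹) D.o₁ = -1 ∧
    D.sg D.q D.o₂ = -1 ∧ D.sg (b * D.q * b⁻¹) D.o₂ = 1 ∧
    D.sg D.q D.o₃ = -1 ∧ D.sg (b * D.q * b⁻¹) D.o₃ = -1 := by
  obtain ⟨e1, e2⟩ := IsFour.mem_wt.1 D.wt
  obtain ⟨m1, m2, m3, m4⟩ := D.four.wt_move D.wt
  exact ⟨D.sg_of_vec D.mem D.vec_o₁ (by rw [e1, one_smul]),
    D.sg_of_vec D.p_mem D.vec_o₁ (by rw [e2, neg_one_smul]),
    D.sg_of_vec D.mem D.vec_o₂ (by rw [m1, neg_one_smul]),
    D.sg_of_vec D.p_mem D.vec_o₂ (by rw [m2, one_smul]),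
    D.sg_of_vec D.mem D.vec_o₃ (by rw [m3, neg_one_smul]),
    D.sg_of_vec D.p_mem D.vec_o₃ (by rw [m4, neg_one_smul])⟩

theorem o_ne : D.o₁ ≠ D.o₂ ∧ D.o₁ ≠ D.o₃ ∧ D.o₂ ≠ D.o₃ := by
  obtain ⟨h1, h2, h3, h4, h5, h6⟩ := D.signs
  refine ⟨fun h => ?_, fun h => ?_, fun h => ?_⟩
  · rw [h, h3] at h1; exact absurd h1 (by decide)
  · rw [h, h5] at h1; exact absurd h1 (by decide)
  · rw [h, h6] at h4; exact absurd h4 (by decide)

theorem outside {ω : D.Ω} (h1 : ω ≠ D.o₁) (h2 : ω ≠ D.o₂) (h3 : ω ≠ D.o₃) :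
    D.sg D.q ω = 1 ∧ D.sg (b * D.q * b⁻¹) ω = 1 ∧ b • ω = ω := by
  have hq := D.sg_spec D.mem ω
  have hp := D.sg_spec D.p_mem ω
  have hne := D.vec_ne ω
  have same : ∀ (o : D.Ω) (c : ZMod 3) (w : E), (D.vec o = w ∨ D.vec o = -w) →
      D.vec ω = c • w → ω = o := by
    intro o c w ho hc
    refine D.sg_ext fun a ha => ?_
    obtain ⟨k, hk⟩ : ∃ k, ρ a w = k • w := by
      refine ⟨D.sg a o, ?_⟩
      have := D.sg_spec ha o
      rcases ho with e | e <;> rw [e] at this
      · exact this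
      · rwa [map_neg, smul_neg, neg_inj] at this
    rw [D.sg_eq ha (show ρ a (D.vec ω) = k • D.vec ω by rw [hc, map_smul, hk, smul_comm]),
      D.sg_of_vec ha ho hk]
  rcases zmod3_ne_zero (D.sg_ne D.mem ω) with e | e <;>
    rcases zmod3_ne_zero (D.sg_ne D.p_mem ω) with e' | e' <;>
    simp only [e, e', one_smul, neg_one_smul] at hq hp
  · refine ⟨e, e', ?_⟩
    have hfix := D.four.fix_fixed D.ctx.cubic D.wt D.v_ne hq hp
    refine D.sg_ext fun a ha => ?_
    apply D.sg_eq ha
    rcases D.vec_smul b ω with h | h <;> rw [h, hfix]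
    · exact D.sg_spec ha ω
    · rw [map_neg, D.sg_spec ha ω, smul_neg]
  · obtain ⟨c, hc⟩ := D.four.wt_line D.ctx.cubic D.wt D.v_ne (IsFour.mem_wt.2 ⟨hq, hp⟩)
    exact absurd (same _ c _ D.vec_o₁ hc) h1
  · obtain ⟨c, hc⟩ := line₂ D.ctx.cubic D.four D.wt D.v_ne hq hp
    exact absurd (same _ c _ D.vec_o₂ hc) h2
  · obtain ⟨c, hc⟩ := line₃ D.ctx.cubic D.four D.wt D.v_ne hq hp
    exact absurd (same _ c _ D.vec_o₃ hc) h3

theorem smul_of_mem {a : G} (ha : a ∈ D.A) (ω : D.Ω) : a • ω = ω := by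
  refine D.sg_ext fun x hx => D.sg_eq hx ?_
  rcases D.vec_smul a ω with h | h <;> rw [h, D.sg_spec ha]
  · rw [map_smul, D.sg_spec hx, smul_comm]
  · rw [map_neg, map_smul, D.sg_spec hx, smul_comm, smul_neg]

/-! ### Pairs -/

/-- The lines `i`, `j` are joined by an element of `A`. -/
def Rel (i j : D.Ω) : Prop :=
  i = j ∨ ∃ a ∈ D.A, ∀ k, D.sg a k = -1 ↔ (k = i ∨ k = j)

theorem rel_symm {i j : D.Ω} (h : D.Rel i j) : D.Rel j i := by
  rcases h with rfl | ⟨a, ha, h⟩
  · exact Or.inl rfl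
  · exact Or.inr ⟨a, ha, fun k => (h k).trans or_comm⟩

theorem rel_trans {i j k : D.Ω} (h1 : D.Rel i j) (h2 : D.Rel j k) : D.Rel i k := by
  by_cases hik : i = k
  · exact Or.inl hik
  by_cases hij : i = j
  · subst hij; exact h2
  by_cases hjk : j = k
  · subst hjk; exact h1
  obtain ⟨a, ha, h1⟩ := h1.resolve_left hij
  obtain ⟨a', ha', h2⟩ := h2.resolve_left hjk
  refine Or.inr ⟨a * a', D.A.mul_mem ha ha', fun l => ?_⟩
  rw [D.sg_mul ha ha']
  rcases zmod3_ne_zero (D.sg_ne ha l) with e | e <;> rcases zmod3_ne_zero (D.sg_ne ha' l) with e' | e' <;>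
    rw [e, e'] <;> have f1 := h1 l <;> have f2 := h2 l <;> rw [e] at f1 <;> rw [e'] at f2
  · have g1 : ¬ (l = i ∨ l = j) := fun h => absurd (f1.2 h) (by decide)
    have g2 : ¬ (l = j ∨ l = k) := fun h => absurd (f2.2 h) (by decide)
    exact iff_of_false (by decide) (by tauto)
  · have g1 : ¬ (l = i ∨ l = j) := fun h => absurd (f1.2 h) (by decide)
    exact iff_of_true (by decide) (by have := f2.1 rfl; tauto)
  · have g2 : ¬ (l = j ∨ l = k) := fun h => absurd (f2.2 h) (by decide)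
    exact iff_of_true (by decide) (by have := f1.1 rfl; tauto)
  · refine iff_of_false (by decide) ?_
    rintro (rfl | rfl)
    · rcases f2.1 rfl with h | h
      · exact hij h
      · exact hik h
    · rcases f1.1 rfl with h | h
      · exact hik h.symm
      · exact hjk h.symm

theorem rel_smul (g : G) {i j : D.Ω} (h : D.Rel i j) : D.Rel (g • i) (g • j) := by
  rcases h with rfl | ⟨a, ha, h⟩
  · exact Or.inl rfl
  refine Or.inr ⟨g * a * g⁻¹, D.normal.conj_mem a ha g, fun k => ?_⟩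
  have : D.sg (g * a * g⁻¹) k = D.sg a (g⁻¹ • k) := by
    rw [← D.sg_conj ha g (g⁻¹ • k), smul_inv_smul]
  rw [this, h, inv_smul_eq_iff, inv_smul_eq_iff]

theorem rel_all (i j : D.Ω) : D.Rel i j := by
  let T : Subgroup G :=
    { carrier := {g | ∀ ω, D.Rel ω (g • ω)}
      mul_mem' := fun {g h} hg hh ω => by
        rw [mul_smul]; exact D.rel_trans (hh ω) (hg (h • ω))
      one_mem' := fun ω => Or.inl (one_smul G ω).symm
      inv_mem' := fun {g} hg ω => by
        have := hg (g⁻¹ • ω)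
        rw [smul_inv_smul] at this
        exact D.rel_symm this }
  have hT : T.Normal := ⟨fun g hg h ω => by
    have := D.rel_smul h (hg (h⁻¹ • ω))
    simpa [mul_smul] using this⟩
  obtain ⟨s1, s2, s3, s4, s5, s6⟩ := D.signs
  obtain ⟨n12, n13, n23⟩ := D.o_ne
  have hb : b ∈ T := fun ω => by
    by_cases h1 : ω = D.o₁
    · subst h1
      refine Or.inr ⟨D.q * (b * D.q * b⁻¹), D.A.mul_mem D.mem D.p_mem, fun k => ?_⟩
      rw [D.sg_mul D.mem D.p_mem]
      by_cases k1 : k = D.o₁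
      · subst k1; rw [s1, s2]; simp
      by_cases k2 : k = D.o₂
      · subst k2; rw [s3, s4]; simp [o₂]
      by_cases k3 : k = D.o₃
      · subst k3; rw [s5, s6]
        exact iff_of_false (by decide) (by rintro (h | h); exacts [n13 h.symm, n23 h.symm])
      obtain ⟨e1, e2, -⟩ := D.outside k1 k2 k3
      rw [e1, e2]
      exact iff_of_false (by decide) (by rintro (h | h); exacts [k1 h, k2 h])
    by_cases h2 : ω = D.o₂
    · subst h2
      refine Or.inr ⟨D.q, D.mem, fun k => ?_⟩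
      by_cases k1 : k = D.o₁
      · subst k1; rw [s1]
        exact iff_of_false (by decide) (by rintro (h | h); exacts [n12 h, n13 h])
      by_cases k2 : k = D.o₂
      · subst k2; rw [s3]; simp
      by_cases k3 : k = D.o₃
      · subst k3; rw [s5]; simp [o₃]
      obtain ⟨e1, -, -⟩ := D.outside k1 k2 k3
      rw [e1]
      exact iff_of_false (by decide) (by rintro (h | h); exacts [k2 h, k3 h])
    by_cases h3 : ω = D.o₃
    · subst h3
      rw [D.b_o₃]
      refine Or.inr ⟨b * D.q * b⁻¹, D.p_mem, fun k => ?_⟩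
      by_cases k1 : k = D.o₁
      · subst k1; rw [s2]; simp
      by_cases k2 : k = D.o₂
      · subst k2; rw [s4]
        exact iff_of_false (by decide) (by rintro (h | h); exacts [n23 h, n12 h.symm])
      by_cases k3 : k = D.o₃
      · subst k3; rw [s6]; simp
      obtain ⟨-, e2, -⟩ := D.outside k1 k2 k3
      rw [e2]
      exact iff_of_false (by decide) (by rintro (h | h); exacts [k3 h, k1 h])
    exact Or.inl (D.outside h1 h2 h3).2.2.symm
  have htop : T = ⊤ := D.ctx.eq_top hT hb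
  obtain ⟨g, rfl⟩ := MulAction.exists_smul_eq G i j
  exact (show g ∈ T by rw [htop]; trivial) i

/-! ### The even code -/

include D in
theorem det_one {r : G} (hr : r ∈ R) : LinearMap.det (ρ r) = 1 := by
  have h := D.ctx.hom_eq_one (LinearMap.det.comp ρ).toHomUnits hr
  simpa using congrArg Units.val h

theorem perm_sign {r : G} (hr : r ∈ R) [Fintype D.Ω] [DecidableEq D.Ω] :
    Equiv.Perm.sign (MulAction.toPermHom G D.Ω r) = 1 :=
  D.ctx.hom_eq_one (Equiv.Perm.sign.comp (MulAction.toPermHom G D.Ω)) hr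

theorem exists_coeff (g : G) :
    ∃ d : D.Ω → ZMod 3, (∀ ω, d ω ≠ 0) ∧ ∀ ω, ρ g (D.vec ω) = d ω • D.vec (g • ω) := by
  classical
  refine ⟨fun ω => if D.vec (g • ω) = ρ g (D.vec ω) then 1 else -1,
    fun ω => by dsimp only; split <;> decide, fun ω => ?_⟩
  dsimp only
  split
  · next h => rw [one_smul, h]
  · next h => rw [(D.vec_smul g ω).resolve_left h, neg_one_smul, neg_neg]

theorem prod_coeff {r : G} (hr : r ∈ R) [Fintype D.Ω] {d : D.Ω → ZMod 3}
    (h : ∀ ω, ρ r (D.vec ω) = d ω • D.vec (r • ω)) : ∏ ω, d ω = 1 := by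
  classical
  have := D.det_eq (MulAction.toPermHom G D.Ω r) d h
  rw [D.det_one hr, D.perm_sign hr] at this
  simpa using this.symm

theorem prod_sg {a : G} (ha : a ∈ D.A) [Fintype D.Ω] : ∏ ω, D.sg a ω = 1 :=
  D.prod_coeff (D.le ha) fun ω => by rw [D.smul_of_mem ha, D.sg_spec ha]

theorem realize_finset (o : D.Ω) :
    ∀ s : Finset D.Ω, o ∉ s → ∃ a ∈ D.A, ∀ ω, ω ≠ o → (D.sg a ω = -1 ↔ ω ∈ s) := by
  classical
  intro s
  induction s using Finset.induction_on with
  | empty => exact fun _ => ⟨1, D.A.one_mem, fun ω _ => by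
      rw [D.sg_one]; exact iff_of_false (by decide) (Finset.notMem_empty ω)⟩
  | @insert j s hj ih =>
    intro ho
    simp only [Finset.mem_insert, not_or] at ho
    obtain ⟨a, ha, h⟩ := ih ho.2
    obtain ⟨a', ha', h'⟩ := (D.rel_all o j).resolve_left ho.1
    refine ⟨a * a', D.A.mul_mem ha ha', fun ω hω => ?_⟩
    rw [D.sg_mul ha ha', Finset.mem_insert]
    by_cases hωj : ω = j
    · subst hωj
      have e : D.sg a ω = 1 :=
        (zmod3_ne_zero (D.sg_ne ha ω)).resolve_right fun h0 => hj ((h ω hω).1 h0)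
      rw [e, (h' ω).2 (Or.inr rfl)]
      simp
    · have e : D.sg a' ω = 1 :=
        (zmod3_ne_zero (D.sg_ne ha' ω)).resolve_right fun h0 => by
          rcases (h' ω).1 h0 with h1 | h1
          · exact hω h1
          · exact hωj h1
      rw [e, mul_one, h ω hω]
      simp [hωj]

theorem realize [Fintype D.Ω] {d : D.Ω → ZMod 3} (h0 : ∀ ω, d ω ≠ 0) (h1 : ∏ ω, d ω = 1) :
    ∃ a ∈ D.A, ∀ ω, D.sg a ω = d ω := by
  classical
  obtain ⟨a, ha, h⟩ := D.realize_finset D.o₁
    (Finset.univ.filter fun ω => ω ≠ D.o₁ ∧ d ω = -1) (by simp)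
  refine ⟨a, ha, ?_⟩
  have hne : ∀ ω, ω ≠ D.o₁ → D.sg a ω = d ω := fun ω hω => by
    have := h ω hω
    rw [Finset.mem_filter] at this
    rcases zmod3_ne_zero (D.sg_ne ha ω) with e | e <;> rcases zmod3_ne_zero (h0 ω) with e' | e' <;>
      rw [e, e'] at this ⊢
    · exact absurd (this.2 ⟨Finset.mem_univ _, hω, rfl⟩) (by decide)
    · exact absurd (this.1 rfl).2.2 (by decide)
  intro ω
  by_cases hω : ω = D.o₁
  · subst hω
    have hp := D.prod_sg ha
    rw [← Finset.mul_prod_erase _ _ (Finset.mem_univ D.o₁)] at hp h1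
    rw [Finset.prod_congr rfl fun k hk => hne k (Finset.ne_of_mem_erase hk)] at hp
    have hne0 : ∏ k ∈ Finset.univ.erase D.o₁, d k ≠ 0 := Finset.prod_ne_zero_iff.2 fun k _ => h0 k
    exact mul_right_cancel₀ hne0 (hp.trans h1.symm)
  · exact hne ω hω

theorem card_A [Fintype D.Ω] : Nat.card D.A = 2 ^ (Fintype.card D.Ω - 1) := by
  classical
  let f : D.A → Finset {ω : D.Ω // ω ≠ D.o₁} :=
    fun a => Finset.univ.filter fun ω => D.sg a ω.1 = -1
  have hf : Function.Bijective f := by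
    refine ⟨fun a a' haa => Subtype.ext ?_, fun s => ?_⟩
    · have hne : ∀ ω, ω ≠ D.o₁ → D.sg a.1 ω = D.sg a'.1 ω := fun ω hω => by
        have := Finset.ext_iff.1 haa ⟨ω, hω⟩
        simp only [f, Finset.mem_filter, Finset.mem_univ, true_and] at this
        rcases zmod3_ne_zero (D.sg_ne a.2 ω) with e | e <;>
          rcases zmod3_ne_zero (D.sg_ne a'.2 ω) with e' | e' <;> rw [e, e'] at this ⊢
        · exact absurd (this.2 rfl) (by decide)
        · exact absurd (this.1 rfl) (by decide)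
      have hm := D.A.mul_mem a.2 a'.2
      have key : (a : G) * a' = 1 := by
        refine D.eq_one_of_sg hm fun ω => ?_
        by_cases hω : ω = D.o₁
        · subst hω
          have hp := D.prod_sg hm
          rw [← Finset.mul_prod_erase _ _ (Finset.mem_univ D.o₁), Finset.prod_eq_one fun k hk => by
            rw [D.sg_mul a.2 a'.2, hne k (Finset.ne_of_mem_erase hk), zmod3_mul_self (D.sg_ne a'.2 k)],
            mul_one] at hp
          exact hp
        · rw [D.sg_mul a.2 a'.2, hne ω hω, zmod3_mul_self (D.sg_ne a'.2 ω)]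
      calc (a : G) = a * (a' * a') := by rw [D.sq _ a'.2, mul_one]
        _ = a' := by rw [← mul_assoc, key, one_mul]
    · obtain ⟨a, ha, h⟩ := D.realize_finset D.o₁ (s.map (Function.Embedding.subtype _))
        (by simp)
      refine ⟨⟨a, ha⟩, Finset.ext fun ω => ?_⟩
      simp only [f, Finset.mem_filter, Finset.mem_univ, true_and]
      rw [h ω.1 ω.2]
      simp [ω.2]
  rw [Nat.card_eq_of_bijective f hf, Nat.card_eq_fintype_card, Fintype.card_finset,
    Fintype.card_subtype_compl, Fintype.card_subtype_eq]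

/-- `A` is the kernel of the action of `R` on the lines. -/
theorem mem_iff {r : G} (hr : r ∈ R) : r ∈ D.A ↔ ∀ ω : D.Ω, r • ω = ω := by
  refine ⟨fun h => D.smul_of_mem h, fun h => ?_⟩
  haveI := Fintype.ofFinite D.Ω
  obtain ⟨d, h0, hd⟩ := D.exists_coeff r
  obtain ⟨a, ha, hs⟩ := D.realize h0 (D.prod_coeff hr hd)
  have : r = a := D.ctx.cubic.inj (LinearMap.ext_on_range D.span_eq_top fun ω => by
    rw [hd, h, D.sg_spec ha, hs])
  rwa [this]

/-! ### Counting the lines -/

theorem card_R : Nat.card R = Nat.card D.A * Nat.card (R.map (MulAction.toPermHom G D.Ω)) := by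
  set f := (MulAction.toPermHom G D.Ω).comp R.subtype with hf
  have hk : f.ker = D.A.subgroupOf R := by
    ext ⟨r, hr⟩
    rw [MonoidHom.mem_ker, Subgroup.mem_subgroupOf, D.mem_iff hr, Equiv.ext_iff]
    rfl
  have hrange : f.range = R.map (MulAction.toPermHom G D.Ω) := by
    rw [hf, MonoidHom.range_comp, Subgroup.range_subtype]
  rw [← Subgroup.card_mul_index f.ker, Subgroup.index_ker, hk, hrange,
    Nat.card_congr (Subgroup.subgroupOfEquivOfLe D.le).toEquiv]

theorem not_three_dvd_image : ¬ 3 ∣ Nat.card (R.map (MulAction.toPermHom G D.Ω)) :=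
  fun h => D.ctx.cop (h.trans (Subgroup.card_map_dvd R _))

theorem case_trivial (h : R.map (MulAction.toPermHom G D.Ω) = ⊥) :
    R = D.A ∧ Nat.card R = 4 := by
  classical
  haveI := Fintype.ofFinite D.Ω
  haveI := D.ctx.normal
  have hfix : ∀ r ∈ R, ∀ ω : D.Ω, r • ω = ω := fun r hr ω => by
    have hm : MulAction.toPermHom G D.Ω r ∈ R.map (MulAction.toPermHom G D.Ω) :=
      Subgroup.mem_map_of_mem _ hr
    rw [h, Subgroup.mem_bot] at hm
    exact Equiv.Perm.ext_iff.1 hm ω
  have hRA : R = D.A := le_antisymm (fun r hr => (D.mem_iff hr).2 (hfix r hr)) D.le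
  refine ⟨hRA, ?_⟩
  have hn : Fintype.card D.Ω = 3 := by
    have huniv : (Finset.univ : Finset D.Ω) = {D.o₁, D.o₂, D.o₃} := by
      refine (Finset.eq_univ_iff_forall.2 fun ω => ?_).symm
      obtain ⟨g, rfl⟩ := MulAction.exists_smul_eq G D.o₁ ω
      have hg : g ∈ R ⊔ zpowers b := by rw [D.ctx.top]; trivial
      obtain ⟨r, hr, c, hc, rfl⟩ := Subgroup.mem_sup_of_normal_left.1 hg
      rw [mul_smul, hfix r hr]
      obtain ⟨k, rfl⟩ := (Submonoid.mem_powers_iff _ _).1
        (mem_powers_iff_mem_zpowers.2 hc)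
      clear hc hg
      induction k with
      | zero => simp
      | succ k ih =>
        rw [pow_succ', mul_smul]
        have := ih
        simp only [Finset.mem_insert, Finset.mem_singleton] at this ⊢
        rcases this with e | e | e <;> rw [e]
        · exact Or.inr (Or.inl rfl)
        · exact Or.inr (Or.inr rfl)
        · exact Or.inl D.b_o₃
    obtain ⟨n12, n13, n23⟩ := D.o_ne
    rw [← Finset.card_univ, huniv, Finset.card_insert_of_notMem (by simp [n12, n13]),
      Finset.card_pair n23]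
  rw [hRA, D.card_A, hn]; rfl

set_option maxHeartbeats 1000000 in
theorem case_moved (hsol : Group.IsSolvable R) (h : R.map (MulAction.toPermHom G D.Ω) ≠ ⊥) :
    Nat.card D.Ω = 4 ∧ Nat.card (R.map (MulAction.toPermHom G D.Ω)) = 4 ∧
      (∀ x ∈ R.map (MulAction.toPermHom G D.Ω), x * x = 1) ∧
      (∀ x ∈ R.map (MulAction.toPermHom G D.Ω), ∀ ω, x ω = ω → x = 1) ∧
      ∀ i j : D.Ω, ∃ r ∈ R, r • i = j := by
  classical
  haveI := Fintype.ofFinite D.Ω
  set π := MulAction.toPermHom G D.Ω with hπ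
  set f := π.rangeRestrict with hf
  have hfs : Function.Surjective f := MonoidHom.rangeRestrict_surjective _
  have hR'n : (R.map f).Normal := D.ctx.normal.map f hfs
  have hR'ne : R.map f ≠ ⊥ := fun h0 => h (by
    rw [Subgroup.map_eq_bot_iff] at h0 ⊢
    rwa [hf, MonoidHom.ker_rangeRestrict] at h0)
  obtain ⟨M, hM, hMR⟩ := Cfsg.Lib.Core.exists_isMinNormal hR'n hR'ne
  haveI hMn := hM.1
  haveI : Group.IsSolvable R := hsol
  haveI : Group.IsSolvable (R.map f) := Group.isSolvable_of_surjective (f.subgroupMap_surjective R)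
  have hMsol : Group.IsSolvable M :=
    Group.isSolvable_of_isSolvable_injective (f := Subgroup.inclusion hMR) (Subgroup.inclusion_injective hMR)
  have hMab := Cfsg.Lib.Core.isMulCommutative_of_minimal_solvable hM hMsol
  have hMc : ∀ x ∈ M, ∀ y ∈ M, x * y = y * x := fun x hx y hy =>
    congrArg Subtype.val (hMab.is_comm.comm (⟨x, hx⟩ : M) ⟨y, hy⟩)
  -- orbits
  let O : D.Ω → D.Ω → Prop := fun i j => ∃ m ∈ M, (m : Equiv.Perm D.Ω) i = j
  have Or : ∀ i, O i i := fun i => ⟨1, M.one_mem, rfl⟩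
  have Os : ∀ {i j}, O i j → O j i := fun {i j} ⟨m, hm, e⟩ =>
    ⟨m⁻¹, M.inv_mem hm, by rw [← e]; simp⟩
  have Ot : ∀ {i j k}, O i j → O j k → O i k := fun {i j k} ⟨m, hm, e⟩ ⟨m', hm', e'⟩ =>
    ⟨m' * m, M.mul_mem hm' hm, by rw [← e', ← e]; rfl⟩
  have hfa : ∀ (g : G) ω, (f g : Equiv.Perm D.Ω) ω = g • ω := fun g ω => rfl
  have Og : ∀ (g : G) {i j}, O i j → O (g • i) (g • j) := fun g {i j} ⟨m, hm, e⟩ =>
    ⟨f g * m * (f g)⁻¹, hMn.conj_mem m hm (f g), by
      rw [← e, ← hfa, ← hfa]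
      simp⟩
  obtain ⟨n12, n13, n23⟩ := D.o_ne
  have htri : ∀ ω, b • ω ≠ ω → ω = D.o₁ ∨ ω = D.o₂ ∨ ω = D.o₃ := fun ω hω => by
    by_contra hc
    push Not at hc
    exact hω (D.outside hc.1 hc.2.1 hc.2.2).2.2
  have hkeep : ∀ ω, O ω (b • ω) := by
    intro ω
    by_contra hω
    have hmv : ∀ x, O ω x → b • x ≠ x := fun x hx h0 => hω (by
      have := Og b hx
      rw [h0] at this
      exact Ot hx (Os this))
    have hmv' : ∀ x, O (b • ω) x → b • x ≠ x := fun x hx h0 => hω (by
      have h1 : b⁻¹ • x = x := inv_smul_eq_iff.2 h0.symm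
      have := Og b⁻¹ hx
      rw [inv_smul_smul, h1] at this
      exact Ot this (Os hx))
    -- the orbit of `ω` is a single point
    have hone : ∀ x, O ω x → x = ω := by
      intro x hx
      by_contra hne
      have hbx : O (b • ω) (b • x) := Og b hx
      have T1 := htri _ (hmv ω (Or ω))
      have T2 := htri _ (hmv x hx)
      have T3 := htri _ (hmv' _ (Or _))
      have T4 := htri _ (hmv' _ hbx)
      have d1 : ω ≠ b • ω := fun e => hω (e ▸ Or ω)
      have d2 : ω ≠ b • x := fun e => hω (Os (e ▸ hbx))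
      have d3 : x ≠ b • ω := fun e => hω (e ▸ hx)
      have d4 : x ≠ b • x := fun e => hω (Ot hx (Os (e ▸ hbx)))
      have d5 : b • ω ≠ b • x := fun e => hne (MulAction.injective b e).symm
      rcases T1 with a | a | a <;> rcases T2 with c | c | c <;> rcases T3 with d | d | d <;>
        rcases T4 with e | e | e <;> grind
    apply hM.2.1
    rw [Subgroup.eq_bot_iff_forall]
    intro m hm
    refine Subtype.ext (Equiv.Perm.ext fun j => ?_)
    obtain ⟨g, rfl⟩ := MulAction.exists_smul_eq G ω j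
    have hm' : O (g • ω) ((m : Equiv.Perm D.Ω) (g • ω)) := ⟨m, hm, rfl⟩
    have := Og g⁻¹ hm'
    rw [inv_smul_smul] at this
    exact inv_smul_eq_iff.1 (hone _ this)
  have htrans : ∀ i j, O i j := by
    let T : Subgroup G :=
      { carrier := {g | ∀ ω, O ω (g • ω)}
        mul_mem' := fun {g h} hg hh ω => by rw [mul_smul]; exact Ot (hh ω) (hg (h • ω))
        one_mem' := fun ω => by rw [one_smul]; exact Or ω
        inv_mem' := fun {g} hg ω => by
          have := hg (g⁻¹ • ω)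
          rw [smul_inv_smul] at this
          exact Os this }
    have hT : T.Normal := ⟨fun g hg h ω => by
      have := Og h (hg (h⁻¹ • ω))
      simpa [mul_smul] using this⟩
    have htop := D.ctx.eq_top hT hkeep
    intro i j
    obtain ⟨g, rfl⟩ := MulAction.exists_smul_eq G i j
    exact (show g ∈ T by rw [htop]; trivial) i
  have hreg : ∀ m ∈ M, ∀ ω, (m : Equiv.Perm D.Ω) ω = ω → m = 1 := by
    intro m hm ω hω
    refine Subtype.ext (Equiv.Perm.ext fun j => ?_)
    obtain ⟨m', hm', rfl⟩ := htrans ω j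
    show ((m * m' : _) : Equiv.Perm D.Ω) ω = _
    rw [hMc m hm m' hm']
    show (m' : Equiv.Perm D.Ω) ((m : Equiv.Perm D.Ω) ω) = _
    rw [hω]
    rfl
  have hev : ∀ ω, Function.Bijective fun m : M => ((m : π.range) : Equiv.Perm D.Ω) ω := by
    refine fun ω => ⟨fun m m' e => Subtype.ext ?_, fun j => ?_⟩
    · have h1 : ((m' : π.range)⁻¹ * m : π.range) = 1 :=
        hreg _ (M.mul_mem (M.inv_mem m'.2) m.2) ω (by
          show ((m' : π.range) : Equiv.Perm D.Ω)⁻¹ (((m : π.range) : Equiv.Perm D.Ω) ω) = ω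
          rw [Equiv.Perm.inv_def, Equiv.symm_apply_eq]; exact e)
      exact (inv_mul_eq_one.1 h1).symm
    · obtain ⟨m, hm, e⟩ := htrans ω j
      exact ⟨⟨m, hm⟩, e⟩
  have hcardM : Nat.card M = Fintype.card D.Ω :=
    (Nat.card_eq_of_bijective _ (hev D.o₁)).trans Nat.card_eq_fintype_card
  have himg : (R.map f).map π.range.subtype = R.map π := by
    rw [Subgroup.map_map]; rfl
  have hcardR' : Nat.card (R.map f) = Nat.card (R.map π) := by
    rw [← himg, Subgroup.card_map_of_injective π.range.subtype_injective]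
  have h3M : ¬ 3 ∣ Nat.card M := fun h3 =>
    D.not_three_dvd_image (h3.trans ((Subgroup.card_dvd_of_le hMR).trans hcardR'.dvd))
  set F := Finset.univ.filter (fun ω : D.Ω => b • ω = ω) with hF
  have hFc : F.card + 3 = Fintype.card D.Ω := by
    have : Finset.univ.filter (fun ω : D.Ω => ¬ b • ω = ω) = {D.o₁, D.o₂, D.o₃} := by
      ext ω
      simp only [Finset.mem_filter, Finset.mem_univ, true_and, Finset.mem_insert, Finset.mem_singleton]
      refine ⟨htri ω, ?_⟩
      rintro (rfl | rfl | rfl)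
      · exact fun e => n12 e.symm
      · exact fun e => n23 e.symm
      · rw [D.b_o₃]; exact n13
    rw [← Finset.card_univ, ← Finset.card_filter_add_card_filter_not (s := Finset.univ) (p := fun ω : D.Ω => b • ω = ω),
      this, Finset.card_insert_of_notMem (by simp [n12, n13]), Finset.card_pair n23]
  obtain ⟨o, ho⟩ : ∃ o, b • o = o := by
    by_contra hc
    push Not at hc
    have hz : F = ∅ := Finset.filter_false_of_mem fun ω _ => hc ω
    rw [hz, Finset.card_empty, zero_add] at hFc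
    exact h3M (by rw [hcardM, ← hFc])
  set C : Subgroup π.range := M ⊓ centralizer {f b} with hC
  have hconj : ∀ m : π.range, ((f b * m * (f b)⁻¹ : π.range) : Equiv.Perm D.Ω) o =
      b • ((m : Equiv.Perm D.Ω) o) := fun m => by
    show (f b : Equiv.Perm D.Ω) ((m : Equiv.Perm D.Ω) ((f b : Equiv.Perm D.Ω)⁻¹ o)) = _
    have : (f b : Equiv.Perm D.Ω)⁻¹ o = o := by
      rw [Equiv.Perm.inv_def, Equiv.symm_apply_eq]; exact ho.symm
    rw [this]; rfl
  have hCF : Nat.card C = F.card := by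
    have hb : ∀ c : C, ((c : π.range) : Equiv.Perm D.Ω) o ∈ F := fun c => by
      refine Finset.mem_filter.2 ⟨Finset.mem_univ _, ?_⟩
      have e : f b * (c : π.range) * (f b)⁻¹ = c := by
        rw [← mem_centralizer_singleton_iff.1 c.2.2, mul_inv_cancel_right]
      rw [← hconj, e]
    rw [← Nat.card_eq_finsetCard F]
    refine Nat.card_eq_of_bijective (fun c : C => (⟨_, hb c⟩ : F)) ⟨fun c c' e => ?_, fun ⟨j, hj⟩ => ?_⟩
    · have := (hev o).1 (a₁ := ⟨c, c.2.1⟩) (a₂ := ⟨c', c'.2.1⟩) (congrArg Subtype.val e)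
      exact Subtype.ext (congrArg (fun x : M => (x : π.range)) this)
    · obtain ⟨⟨m, hm⟩, hmj⟩ := (hev o).2 j
      have h1 : f b * m * (f b)⁻¹ = m := by
        have := (hev o).1 (a₁ := ⟨_, hMn.conj_mem m hm (f b)⟩) (a₂ := ⟨m, hm⟩) (by
          show ((f b * m * (f b)⁻¹ : π.range) : Equiv.Perm D.Ω) o = (m : Equiv.Perm D.Ω) o
          rw [hconj]
          simp only at hmj
          rw [hmj]
          exact (Finset.mem_filter.1 hj).2)
        exact congrArg Subtype.val this
      exact ⟨⟨m, hm, mem_centralizer_singleton_iff.2 (mul_inv_eq_iff_eq_mul.1 h1).symm⟩, Subtype.ext hmj⟩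
  have hn : Fintype.card D.Ω = 4 := by
    have hd : F.card ∣ Fintype.card D.Ω := hCF ▸ hcardM ▸ Subgroup.card_dvd_of_le inf_le_left
    have hpos : 0 < F.card := Finset.card_pos.2 ⟨o, by simp [hF, ho]⟩
    have hd3 : F.card ∣ 3 := by
      rw [← hFc] at hd
      exact (Nat.dvd_add_right dvd_rfl).1 hd
    rcases (Nat.dvd_prime Nat.prime_three).1 hd3 with e | e
    · omega
    · exfalso; exact h3M (by rw [hcardM, ← hFc, e]; norm_num)
  have heven : R.map π ≤ alternatingGroup D.Ω := by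
    rintro _ ⟨r, hr, rfl⟩
    exact Equiv.Perm.mem_alternatingGroup.2 (D.perm_sign hr)
  haveI : Nontrivial D.Ω := ⟨⟨D.o₁, D.o₂, n12⟩⟩
  have h12 : Nat.card (alternatingGroup D.Ω) = 12 := by
    have := two_mul_card_alternatingGroup (α := D.Ω)
    rw [Fintype.card_perm, hn, show Nat.factorial 4 = 24 from rfl, ← Nat.card_eq_fintype_card] at this
    omega
  have hRM : R.map f = M := by
    refine (Subgroup.eq_of_le_of_card_ge hMR ?_).symm
    rw [hcardM, hn, hcardR']
    have hd : Nat.card (R.map π) ∣ 12 := h12 ▸ Subgroup.card_dvd_of_le heven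
    have h3 : ¬ 3 ∣ Nat.card (R.map π) := D.not_three_dvd_image
    have hle := Nat.le_of_dvd (by norm_num) hd
    interval_cases hx : Nat.card (R.map π) <;> omega
  have hm2 : ∀ m ∈ M, m * m = 1 := by
    intro m hm
    by_contra hne
    have hdvd : orderOf m ∣ 4 := by
      have := orderOf_dvd_natCard (⟨m, hm⟩ : M)
      rwa [Subgroup.orderOf_mk, hcardM, hn] at this
    have h4 : orderOf m = 4 := by
      rcases (Nat.dvd_prime_pow Nat.prime_two (m := 2)).1 hdvd with ⟨k, hk, e⟩
      interval_cases k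
      · have e1 : m = 1 := orderOf_eq_one_iff.1 (e.trans (pow_zero 2))
        exact absurd (by rw [e1, one_mul]) hne
      · exact absurd (by rw [← pow_two, ← pow_orderOf_eq_one m, e, pow_one]) hne
      · simpa using e
    have hz : zpowers m = M := by
      refine Subgroup.eq_of_le_of_card_ge (zpowers_le.2 hm) ?_
      rw [Nat.card_zpowers, h4, hcardM, hn]
    have hx : f b * m * (f b)⁻¹ ∈ zpowers m := by rw [hz]; exact hMn.conj_mem m hm (f b)
    obtain ⟨k, hk⟩ := Subgroup.mem_zpowers_iff.1 hx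
    have hm4 : (m * m) * (m * m) = 1 := by
      rw [← pow_two m, ← pow_two, ← pow_mul, show 2 * 2 = 4 from rfl, ← h4, pow_orderOf_eq_one]
    have hfix : f b * (m * m) * (f b)⁻¹ = m * m := by
      have e : f b * (m * m) * (f b)⁻¹ = (m * m) ^ k := by
        rw [(Commute.refl m).mul_zpow, hk]; group
      rw [e]
      rcases Int.even_or_odd k with ⟨l, hl⟩ | ⟨l, hl⟩
      · exfalso
        have h1 : f b * (m * m) * (f b)⁻¹ = 1 := by
          rw [e, hl, ← two_mul, zpow_mul, zpow_two, hm4, one_zpow]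
        exact hne (conj_eq_one_iff.1 h1)
      · rw [hl, zpow_add, zpow_mul, zpow_two, hm4, one_zpow, one_mul, zpow_one]
    have hmem : m * m ∈ C :=
      ⟨M.mul_mem hm hm, mem_centralizer_singleton_iff.2 (mul_inv_eq_iff_eq_mul.1 hfix).symm⟩
    have hC1 : C = ⊥ := Subgroup.eq_bot_of_card_eq _ (by rw [hCF]; omega)
    rw [hC1, Subgroup.mem_bot] at hmem
    exact hne hmem
  refine ⟨by rw [Nat.card_eq_fintype_card, hn], by rw [← hcardR', hRM, hcardM, hn], ?_, ?_, ?_⟩
  · rintro _ ⟨r, hr, rfl⟩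
    exact congrArg Subtype.val (hm2 _ (hRM ▸ Subgroup.mem_map_of_mem f hr))
  · rintro _ ⟨r, hr, rfl⟩ ω hω
    exact congrArg Subtype.val (hreg _ (hRM ▸ Subgroup.mem_map_of_mem f hr) ω hω)
  · intro i j
    obtain ⟨m, hm, e⟩ := htrans i j
    rw [← hRM] at hm
    obtain ⟨r, hr, rfl⟩ := hm
    exact ⟨r, hr, e⟩

include D in
/-- The conclusion: `R` is a four-group or extraspecial of order 32. -/
theorem conclude (hsol : Group.IsSolvable R) :
    (Cfsg.IsElementaryAbelian 2 R ∧ Nat.card R = 4) ∨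
      (Cfsg.IsExtraspecial 2 R ∧ Nat.card R = 32 ∧
        ∃ A : Subgroup G, A ≤ R ∧ Cfsg.IsElementaryAbelian 2 A ∧ Nat.card A = 8) := by
  classical
  haveI := Fintype.ofFinite D.Ω
  have hAel : Cfsg.IsElementaryAbelian 2 D.A :=
    ⟨⟨⟨fun x y => Subtype.ext (D.comm _ x.2 _ y.2)⟩⟩, fun a ha => by rw [pow_two]; exact D.sq a ha⟩
  by_cases hπ : R.map (MulAction.toPermHom G D.Ω) = ⊥
  · obtain ⟨h1, h2⟩ := D.case_trivial hπ
    exact Or.inl ⟨h1 ▸ hAel, h2⟩
  obtain ⟨hn, hc4, hsqP, hregP, htr⟩ := D.case_moved hsol hπ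
  rw [Nat.card_eq_fintype_card] at hn
  have hA8 : Nat.card D.A = 8 := by rw [D.card_A, hn]; norm_num
  have hR32 : Nat.card R = 32 := by rw [D.card_R, hA8, hc4]
  refine Or.inr ⟨?_, hR32, D.A, D.le, hAel, hA8⟩
  obtain ⟨z, hzA, hz⟩ := D.realize (d := fun _ => -1) (fun _ => by decide) (by
    rw [Finset.prod_const, Finset.card_univ, hn]; decide)
  have hzneg : ∀ w, ρ z w = -w := fun w => by
    have : ρ z = -(1 : Module.End (ZMod 3) E) := LinearMap.ext_on_range D.span_eq_top fun ω => by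
      rw [D.sg_spec hzA, hz, LinearMap.neg_apply, Module.End.one_apply, neg_one_smul]
    rw [this]; rfl
  have hzc : ∀ g : G, z * g = g * z := fun g => D.ctx.cubic.inj (LinearMap.ext fun w => by
    rw [mulApply, mulApply, hzneg, hzneg, map_neg])
  have hz1 : z ≠ 1 := fun e => by
    have := hz D.o₁
    rw [e, D.sg_one] at this
    exact absurd this (by decide)
  -- constant signs give `1` or `z`
  have hconst : ∀ a ∈ D.A, (∀ ω, D.sg a ω = D.sg a D.o₁) → a = 1 ∨ a = z := by
    intro a ha h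
    rcases zmod3_ne_zero (D.sg_ne ha D.o₁) with e | e
    · exact Or.inl (D.eq_one_of_sg ha fun ω => (h ω).trans e)
    · refine Or.inr ?_
      have h1 : a * z = 1 := D.eq_one_of_sg (D.A.mul_mem ha hzA) fun ω => by
        rw [D.sg_mul ha hzA, h, e, hz]; decide
      calc a = a * (z * z) := by rw [D.sq z hzA, mul_one]
        _ = z := by rw [← mul_assoc, h1, one_mul]
  have hsq : ∀ r ∈ R, r * r = 1 ∨ r * r = z := by
    intro r hr
    by_cases hrA : r ∈ D.A
    · exact Or.inl (D.sq r hrA)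
    have hmem : MulAction.toPermHom G D.Ω r ∈ R.map (MulAction.toPermHom G D.Ω) :=
      Subgroup.mem_map_of_mem _ hr
    have hne : ∀ ω : D.Ω, r • ω ≠ ω := fun ω e => hrA ((D.mem_iff hr).2 fun ω' => by
      have := hregP _ hmem ω e
      exact Equiv.Perm.ext_iff.1 this ω')
    have hrr : ∀ ω : D.Ω, r • r • ω = ω := fun ω => Equiv.Perm.ext_iff.1 (hsqP _ hmem) ω
    have hrrA : r * r ∈ D.A := (D.mem_iff (R.mul_mem hr hr)).2 fun ω => by rw [mul_smul, hrr]
    obtain ⟨d, h0, hd⟩ := D.exists_coeff r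
    have hs : ∀ ω, D.sg (r * r) ω = d ω * d (r • ω) := fun ω => by
      apply D.sg_eq hrrA
      rw [mulApply, hd, map_smul, hd, smul_smul, hrr]
    refine hconst _ hrrA fun ω => ?_
    rw [hs, hs]
    by_cases h1 : ω = D.o₁
    · rw [h1]
    by_cases h2 : ω = r • D.o₁
    · rw [h2, hrr, mul_comm]
    have hd4 : ({ω, r • ω, D.o₁, r • D.o₁} : Finset D.Ω).card = 4 := by
      have a1 : ω ≠ r • ω := (hne ω).symm
      have a2 : r • ω ≠ D.o₁ := fun e => h2 (by rw [← e, hrr])
      have a3 : r • ω ≠ r • D.o₁ := fun e => h1 (MulAction.injective r e)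
      have a4 : D.o₁ ≠ r • D.o₁ := (hne _).symm
      rw [Finset.card_insert_of_notMem (by simp [a1, h1, h2]),
        Finset.card_insert_of_notMem (by simp [a2, a3]), Finset.card_pair a4]
    have huniv : ({ω, r • ω, D.o₁, r • D.o₁} : Finset D.Ω) = Finset.univ :=
      Finset.eq_univ_of_card _ (hd4.trans hn.symm)
    have hp := D.prod_coeff hr hd
    rw [← huniv, Finset.prod_insert (by simp [h1, h2, (hne ω).symm]),
      Finset.prod_insert (by
        simp only [Finset.mem_insert, Finset.mem_singleton, not_or]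
        exact ⟨fun e => h2 (by rw [← e, hrr]), fun e => h1 (MulAction.injective r e)⟩),
      Finset.prod_pair (hne _).symm] at hp
    have hne0 : d D.o₁ * d (r • D.o₁) ≠ 0 := mul_ne_zero (h0 _) (h0 _)
    calc d ω * d (r • ω)
        = d ω * d (r • ω) * ((d D.o₁ * d (r • D.o₁)) * (d D.o₁ * d (r • D.o₁))) := by
          rw [zmod3_mul_self hne0, mul_one]
      _ = (d ω * (d (r • ω) * (d D.o₁ * d (r • D.o₁)))) * (d D.o₁ * d (r • D.o₁)) := by ring
      _ = d D.o₁ * d (r • D.o₁) := by rw [hp, one_mul]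
  haveI : Fact (Nat.Prime 2) := ⟨Nat.prime_two⟩
  have hp2 : IsPGroup 2 R := IsPGroup.of_card (n := 5) (by rw [hR32]; norm_num)
  have hsmall : ∀ x : R, ((x : G) = 1 ∨ (x : G) = z) → x ∈ Subgroup.center R := fun x hx =>
    Subgroup.mem_center_iff.2 fun y => Subtype.ext (by
      rcases hx with e | e <;> simp [e, hzc])
  have hcen : ∀ x ∈ Subgroup.center R, ((x : R) : G) = 1 ∨ ((x : R) : G) = z := by
    intro x hx
    have hcomm : ∀ y ∈ R, (x : G) * y = y * x := fun y hy =>
      (congrArg Subtype.val (Subgroup.mem_center_iff.1 hx ⟨y, hy⟩)).symm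
    have hxA : (x : G) ∈ D.A := (D.mem_iff x.2).2 fun ω => D.sg_ext fun a ha => by
      have e : (x : G) * a * (x : G)⁻¹ = a := by rw [hcomm a (D.le ha), mul_inv_cancel_right]
      rw [← D.sg_conj ha (x : G) ω, e]
    refine hconst _ hxA fun ω => ?_
    obtain ⟨r, hr, rfl⟩ := htr D.o₁ ω
    conv_lhs => rw [show (x : G) = r * (x : G) * r⁻¹ by rw [← hcomm r hr, mul_inv_cancel_right]]
    rw [D.sg_conj hxA]
  have hsqc : ∀ x : R, x * x ∈ Subgroup.center R := fun x => hsmall _ (hsq x x.2)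
  have hcomm : commutator R ≤ Subgroup.center R := by
    rw [commutator_def, Subgroup.commutator_le]
    intro x _ y _
    have hx : (x * x) * y = y * (x * x) := (Subgroup.mem_center_iff.1 (hsqc x) y).symm
    have e : ⁅x, y⁆ = (x * y) * (x * y) * (x * x)⁻¹ * (y * y)⁻¹ := by
      have h2 : (x * x)⁻¹ * y⁻¹ = y⁻¹ * (x * x)⁻¹ := by rw [← mul_inv_rev, ← mul_inv_rev, hx]
      calc ⁅x, y⁆ = (x * y) * (x * y) * (y⁻¹ * (x * x)⁻¹) * y⁻¹ := by
            rw [commutatorElement_def]; group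
        _ = _ := by rw [← h2]; group
    rw [e]
    exact mul_mem (mul_mem (hsqc _) (inv_mem (hsqc x))) (inv_mem (hsqc y))
  have hC2 : Nat.card (Subgroup.center R) = 2 := by
    refine Nat.card_eq_two_iff.2 ⟨1, ⟨⟨z, D.le hzA⟩, hsmall _ (Or.inr rfl)⟩,
      fun h => hz1 (congrArg (fun u : Subgroup.center R => ((u : R) : G)) h).symm,
      Set.eq_univ_iff_forall.2 fun u => ?_⟩
    rcases hcen u u.2 with e | e
    · exact Or.inl (Subtype.ext (Subtype.ext e))
    · exact Or.inr (Subtype.ext (Subtype.ext e))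
  have hne : commutator R ≠ ⊥ := fun hb => by
    have htop : Subgroup.center R = ⊤ := top_unique fun x _ => Subgroup.mem_center_iff.2 fun y => by
      have : ⁅y, x⁆ ∈ commutator R :=
        Subgroup.commutator_mem_commutator (Subgroup.mem_top y) (Subgroup.mem_top x)
      rw [hb, Subgroup.mem_bot] at this
      exact commutatorElement_eq_one_iff_mul_comm.1 this
    rw [htop, Subgroup.card_top, hR32] at hC2
    omega
  have heq : commutator R = Subgroup.center R := by
    refine Subgroup.eq_of_le_of_card_ge hcomm ?_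
    rw [hC2]
    exact (Subgroup.one_lt_card_iff_ne_bot _).2 hne
  refine ⟨⟨hp2, le_antisymm ?_ (heq ▸ Lib.PGroup.commutator_le_frattini hp2), heq⟩, hC2⟩
  exact Lib.PGroup.frattini_le_of_commutator_le_of_pow_mem (p := 2) hcomm fun u => by
    rw [pow_two]; exact hsqc u

end LineData

end Cfsg.Lib.CubicBlock
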