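import Cfsg.Agent.Lib.Linear.CubicGeneral
import Cfsg.Agent.Lib.Coprime.Action
import Cfsg.Agent.Lib.Core.Cores
import Cfsg.Agent.Lib.Extra.Structure
import Cfsg.Prelude.Def_Solvable

/-!
# From a solvable group with a cubic element to the irreducible core
-/

set_option autoImplicit false

namespace Cfsg.Lib.CubicOuter

open Subgroup Cfsg.Lib.CubicFour Cfsg.Lib.CubicBlock
open scoped commutatorElement

universe u v

variable {S : Type u} [Group S] [Finite S]

/-- An element of a four-group normalised but not centralised by an element of order three. -/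
theorem exists_isFour {Q : Subgroup S} (hQ : Cfsg.IsElementaryAbelian 2 Q) (hQ4 : Nat.card Q = 4)
    {b : S} (hb : b ^ 3 = 1) (hnor : ∀ x ∈ Q, b * x * b⁻¹ ∈ Q) (hnc : ∃ x ∈ Q, b * x ≠ x * b) :
    ∃ q ∈ Q, IsFour b q := by
  classical
  obtain ⟨q, hqQ, hq⟩ := hnc
  have hsq : ∀ x ∈ Q, x * x = 1 := fun x hx => by rw [← pow_two]; exact hQ.2 x hx
  have hc : ∀ x ∈ Q, ∀ y ∈ Q, x * y = y * x := fun x hx y hy =>
    congrArg Subtype.val (hQ.1.is_comm.comm (⟨x, hx⟩ : Q) ⟨y, hy⟩)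
  set p := b * q * b⁻¹ with hp
  have hpQ : p ∈ Q := hnor q hqQ
  set r := b * p * b⁻¹ with hr
  have hrQ : r ∈ Q := hnor p hpQ
  have hb3 : b * b * b = 1 := by rw [← pow_three', hb]
  have hqp : p ≠ q := fun e => hq (mul_inv_eq_iff_eq_mul.1 (hp.symm.trans e))
  have hq1 : q ≠ 1 := fun e => hq (by rw [e, mul_one, one_mul])
  have hp1 : p ≠ 1 := fun e => hq1 (conj_eq_one_iff.1 (hp.symm.trans e))
  have hr1 : r ≠ 1 := fun e => hp1 (conj_eq_one_iff.1 (hr.symm.trans e))
  have hrp : r ≠ p := fun e => hqp (by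
    rw [hr] at e
    conv_rhs at e => rw [hp]
    exact mul_left_cancel (mul_right_cancel e))
  have hrq : r ≠ q := fun e => hqp (by
    have h3 : b * r * b⁻¹ = q := by
      calc b * r * b⁻¹ = (b * b * b) * q * (b * b * b)⁻¹ := by rw [hr, hp]; group
        _ = q := by rw [hb3]; group
    rwa [e, ← hp] at h3)
  haveI : Fintype Q := Fintype.ofFinite Q
  have hqp1 : q * p ≠ 1 := fun e => hqp ((mul_eq_one_iff_inv_eq.1 e).symm.trans
    (inv_eq_of_mul_eq_one_right (hsq q hqQ)))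
  have huniv : ({1, ⟨q, hqQ⟩, ⟨p, hpQ⟩, ⟨q * p, Q.mul_mem hqQ hpQ⟩} : Finset Q) = Finset.univ := by
    apply Finset.eq_univ_of_card
    rw [← Nat.card_eq_fintype_card, hQ4, Finset.card_insert_of_notMem, Finset.card_insert_of_notMem,
      Finset.card_pair]
    · simp [hq1, eq_comm]
    · simp [Subtype.ext_iff, hqp.symm, hp1]
    · simp [Subtype.ext_iff, hq1.symm, hp1.symm, hqp1.symm]
  have hmem : (⟨r, hrQ⟩ : Q) ∈ ({1, ⟨q, hqQ⟩, ⟨p, hpQ⟩, ⟨q * p, Q.mul_mem hqQ hpQ⟩} : Finset Q) := by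
    rw [huniv]; exact Finset.mem_univ _
  simp only [Finset.mem_insert, Finset.mem_singleton, Subtype.ext_iff, OneMemClass.coe_one] at hmem
  refine ⟨q, hqQ, hsq q hqQ, hq1, hc q hqQ p hpQ, ?_⟩
  rcases hmem with e | e | e | e
  exacts [absurd e hr1, absurd e hrq, absurd e hrp, e]

/-- In a `3`-solvable group a four-group permuted by a central element of a Sylow 3-subgroup lies in
`O_{3'}`. -/
theorem four_le_core [Group.IsSolvable S] {b q : S} (hb : b ^ 3 = 1) (hq : IsFour b q)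
    (P : Sylow 3 S) (hbP : b ∈ P) (hbc : ∀ x ∈ P, b * x = x * b) :
    q ∈ Cfsg.pPrimeCore 3 S := by
  haveI : Fact (Nat.Prime 3) := ⟨Nat.prime_three⟩
  haveI : (Cfsg.pPrimeCore 3 S).Normal := inferInstance
  set π := QuotientGroup.mk' (Cfsg.pPrimeCore 3 S) with hπ
  have hπs : Function.Surjective π := QuotientGroup.mk'_surjective _
  have hHH := Cfsg.Lib.Core.centralizer_pCore_le_of_isPSolvable (p := 3)
    (Cfsg.Lib.Core.isPSolvable_quotient (Cfsg.Lib.Core.isPSolvable_of_isSolvable (p := 3))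
      (Cfsg.pPrimeCore 3 S)) Cfsg.Lib.Core.pPrimeCore_quotient_eq_bot
  have hbO : π b ∈ Cfsg.pCore 3 (S ⧸ Cfsg.pPrimeCore 3 S) := by
    refine hHH (mem_centralizer_iff.2 fun x hx => ?_)
    have hxP := Cfsg.Lib.Core.pCore_le_sylow (P.mapSurjective hπs) hx
    rw [Sylow.coe_mapSurjective, Subgroup.mem_map] at hxP
    obtain ⟨y, hy, rfl⟩ := hxP
    rw [← map_mul, ← map_mul, hbc y hy]
  set p := b * q * b⁻¹ with hp
  have hbn : (Cfsg.pCore 3 (S ⧸ Cfsg.pPrimeCore 3 S)).Normal := inferInstance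
  -- `q` is the commutator of `b q b⁻¹` and `b`
  have e : π q = π (p * b * p⁻¹) * (π b)⁻¹ := by
    rw [← map_inv, ← map_mul]
    refine congrArg π ?_
    have h1 : p⁻¹ = p := inv_eq_of_mul_eq_one_right hq.sq₂
    calc q = p * (q * p) := by rw [hq.comm, ← mul_assoc, hq.sq₂, one_mul]
      _ = p * (b * p * b⁻¹) := by rw [hq.prod]
      _ = p * b * p⁻¹ * b⁻¹ := by rw [h1]; group
  have hqO : π q ∈ Cfsg.pCore 3 (S ⧸ Cfsg.pPrimeCore 3 S) := by
    rw [e, map_mul, map_mul, map_inv]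
    exact mul_mem (hbn.conj_mem _ hbO _) (inv_mem hbO)
  obtain ⟨k, hk⟩ := Cfsg.Lib.Core.pCore_isPGroup 3 (S ⧸ Cfsg.pPrimeCore 3 S) ⟨π q, hqO⟩
  have hk' : π q ^ 3 ^ k = 1 := congrArg Subtype.val hk
  have h2 : π q ^ 2 = 1 := by rw [← map_pow, pow_two, hq.sq, map_one]
  have := pow_gcd_eq_one.2 ⟨h2, hk'⟩
  rw [((Nat.coprime_primes Nat.prime_two Nat.prime_three).2 (by norm_num)).pow_right k, pow_one] at this
  exact (QuotientGroup.eq_one_iff q).1 this

variable {E : Type v} [AddCommGroup E] [Module (ZMod 3) E] [Finite E]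

/-- The fixed space of a subgroup. -/
def fixSpace (ρ : S →* Module.End (ZMod 3) E) (R : Subgroup S) : Submodule (ZMod 3) E :=
  ⨅ r : R, LinearMap.ker (ρ r - 1)

theorem mem_fixSpace {ρ : S →* Module.End (ZMod 3) E} {R : Subgroup S} {w : E} :
    w ∈ fixSpace ρ R ↔ ∀ r ∈ R, ρ r w = w := by
  simp [fixSpace, Submodule.mem_iInf, sub_eq_zero]

/-- The sum over a subgroup. -/
noncomputable def avg (ρ : S →* Module.End (ZMod 3) E) (R : Subgroup S) : Module.End (ZMod 3) E :=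
  haveI := Fintype.ofFinite R
  ∑ r : R, ρ r

theorem avg_apply (ρ : S →* Module.End (ZMod 3) E) (R : Subgroup S) [Fintype R] (w : E) :
    avg ρ R w = ∑ r : R, ρ r w := by
  rw [avg]
  simp only [LinearMap.coe_sum, Finset.sum_apply]
  congr!

theorem avg_left (ρ : S →* Module.End (ZMod 3) E) {R : Subgroup S} {r : S} (hr : r ∈ R) (w : E) :
    ρ r (avg ρ R w) = avg ρ R w := by
  haveI := Fintype.ofFinite R
  rw [avg_apply, map_sum]
  exact Fintype.sum_equiv (Equiv.mulLeft ⟨r, hr⟩) _ _ fun x => by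
    rw [Equiv.coe_mulLeft, Subgroup.coe_mul, mulApply]

theorem avg_normalizer (ρ : S →* Module.End (ZMod 3) E) {R : Subgroup S} {g : S}
    (hg : g ∈ Subgroup.normalizer (R : Set S)) (w : E) : avg ρ R (ρ g w) = ρ g (avg ρ R w) := by
  haveI := Fintype.ofFinite R
  rw [avg_apply, avg_apply, map_sum]
  let e : R ≃ R :=
    { toFun := fun x => ⟨g⁻¹ * x * g, by
        have := (Subgroup.mem_normalizer_iff''.1 hg x).1 x.2
        exact this⟩
      invFun := fun x => ⟨g * x * g⁻¹, (Subgroup.mem_normalizer_iff.1 hg x).1 x.2⟩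
      left_inv := fun x => Subtype.ext (by group)
      right_inv := fun x => Subtype.ext (by group) }
  exact Fintype.sum_equiv e _ _ fun x => by
    rw [← mulApply, ← mulApply]
    congr 2
    show (x : S) * g = g * (g⁻¹ * x * g)
    group

/-- The structure theorem. -/
theorem main [Group.IsSolvable S] (ρ : S →* Module.End (ZMod 3) E) (hfaith : Function.Injective ρ)
    {b : S} (hb : b ^ 3 = 1) (hrank : Nat.card (LinearMap.range (ρ b - 1)) ≤ 9) {q : S}
    (hq : IsFour b q) (P : Sylow 3 S) (hbP : b ∈ P) (hbc : ∀ x ∈ P, b * x = x * b) (R : Subgroup S)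
    (hR : R = ⁅Cfsg.pPrimeCore 3 S, zpowers b⁆) :
    ((Cfsg.IsElementaryAbelian 2 R ∧ Nat.card R = 4) ∨
      (Cfsg.IsExtraspecial 2 R ∧ Nat.card R = 32 ∧
        ∃ A : Subgroup S, A ≤ R ∧ Cfsg.IsElementaryAbelian 2 A ∧ Nat.card A = 8)) ∧
    ∃ F₀ F₁ : Submodule (ZMod 3) E, F₀ ⊓ F₁ = ⊥ ∧ F₀ ⊔ F₁ = ⊤ ∧
      (∀ r ∈ R, ∀ v ∈ F₁, ρ r v = v) ∧ (∀ r ∈ R ⊔ zpowers b, ∀ v ∈ F₀, ρ r v ∈ F₀) ∧
      (∀ r ∈ R ⊔ zpowers b, (∀ v ∈ F₀, ρ r v = v) → r = 1) ∧
      (∀ N : Submodule (ZMod 3) E, N ≤ F₀ → (∀ r ∈ R ⊔ zpowers b, ∀ v ∈ N, ρ r v ∈ N) →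
        N = ⊥ ∨ N = F₀) := by
  classical
  haveI : Fact (Nat.Prime 3) := ⟨Nat.prime_three⟩
  set K := Cfsg.pPrimeCore 3 S with hK
  have hqK := four_le_core hb hq P hbP hbc
  have hKn : K.Normal := inferInstance
  have hnor : zpowers b ≤ Subgroup.normalizer (K : Set S) := by
    rw [Subgroup.normalizer_eq_top]; exact le_top
  have hcopK : (Nat.card (zpowers b)).Coprime (Nat.card K) := by
    rw [Nat.card_zpowers]
    exact Nat.Coprime.coprime_dvd_left (orderOf_dvd_of_pow_eq_one hb)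
      (Cfsg.Lib.Core.pPrimeCore_coprime 3 S).symm
  have hRK : R ≤ K := hR ▸ Cfsg.Lib.Coprime.commutator_le_of_le_normalizer hnor
  have hcomm : ⁅R, zpowers b⁆ = R := by
    rw [hR]
    exact Cfsg.Lib.Coprime.commutator_commutator_eq hnor hcopK (Or.inr inferInstance)
  have hR3 : ¬ 3 ∣ Nat.card R := fun h =>
    Cfsg.Lib.Core.pPrimeCore_not_dvd 3 S (h.trans (Subgroup.card_dvd_of_le hRK))
  -- conjugation by `b` and by `R`
  have hbR : zpowers b ≤ Subgroup.normalizer (R : Set S) := by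
    rw [hR]; exact Subgroup.normalizer_commutator_ge_right K (zpowers b)
  have hnorR : R ⊔ zpowers b ≤ Subgroup.normalizer (R : Set S) := sup_le Subgroup.le_normalizer hbR
  set p := b * q * b⁻¹ with hp
  have hqR : q ∈ R := by
    have hpK : p ∈ K := hKn.conj_mem q hqK b
    have e : q = ⁅p, b⁆ := by
      rw [commutatorElement_def]
      have h1 : p⁻¹ = p := inv_eq_of_mul_eq_one_right hq.sq₂
      calc q = p * (q * p) := by rw [hq.comm, ← mul_assoc, hq.sq₂, one_mul]
        _ = p * (b * p * b⁻¹) := by rw [hq.prod]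
        _ = p * b * p⁻¹ * b⁻¹ := by rw [h1]; group
    rw [hR, e]
    exact Subgroup.commutator_mem_commutator hpK (mem_zpowers b)
  have hpR : p ∈ R := (Subgroup.mem_normalizer_iff.1 (hbR (mem_zpowers b)) q).1 hqR
  have hCub : IsCubic ρ b := ⟨hfaith, hb, hrank⟩
  -- the decomposition
  haveI : Fintype R := Fintype.ofFinite R
  set m : ZMod 3 := (Nat.card R : ZMod 3) with hm
  have hm0 : m ≠ 0 := fun h => hR3 ((ZMod.natCast_eq_zero_iff _ _).1 h)
  set F₁ := fixSpace ρ R with hF₁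
  set F₀ := LinearMap.ker (avg ρ R) with hF₀
  have hF1 : ∀ w ∈ F₁, avg ρ R w = m • w := fun w hw => by
    rw [avg_apply, Finset.sum_congr rfl (fun (r : R) _ => mem_fixSpace.1 hw r r.2), Finset.sum_const,
      Finset.card_univ, hm, Nat.card_eq_fintype_card, Nat.cast_smul_eq_nsmul]
  have hinf : F₀ ⊓ F₁ = ⊥ := eq_bot_iff.2 fun w hw => by
    have h0 : m • w = 0 := (hF1 w hw.2).symm.trans (LinearMap.mem_ker.1 hw.1)
    rw [smul_eq_zero] at h0
    exact h0.resolve_left hm0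
  have havg1 : ∀ w, avg ρ R w ∈ F₁ := fun w => mem_fixSpace.2 fun r hr => avg_left ρ hr w
  have hsup : F₀ ⊔ F₁ = ⊤ := top_unique fun w _ => by
    refine Submodule.mem_sup.2 ⟨w - m⁻¹ • avg ρ R w, ?_, m⁻¹ • avg ρ R w,
      Submodule.smul_mem _ _ (havg1 w), sub_add_cancel _ _⟩
    rw [hF₀, LinearMap.mem_ker, map_sub, map_smul, hF1 _ (havg1 w), smul_smul, inv_mul_cancel₀ hm0,
      one_smul, sub_self]
  have hinv : ∀ g ∈ R ⊔ zpowers b, ∀ w ∈ F₀, ρ g w ∈ F₀ := fun g hg w hw => by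
    rw [hF₀, LinearMap.mem_ker] at hw ⊢
    rw [avg_normalizer ρ (hnorR hg), hw, map_zero]
  -- a weight vector
  obtain ⟨v, hv, hv0⟩ := exists_vec hCub hq
  have hbg : b ∈ R ⊔ zpowers b := mem_sup_right (mem_zpowers b)
  have hwt : ∀ v' ∈ IsFour.wt ρ b q, v' ∈ F₀ := fun v' hv' => by
    obtain ⟨-, h2⟩ := IsFour.mem_wt.1 hv'
    have h1 : avg ρ R (ρ p v') = ρ p (avg ρ R v') := avg_normalizer ρ (Subgroup.le_normalizer hpR) v'
    rw [h2, map_neg, avg_left ρ hpR] at h1
    exact LinearMap.mem_ker.2 (eq_zero_of_eq_neg h1.symm)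
  have hD : ∀ (N : Submodule (ZMod 3) E) (v' : E), v' ∈ IsFour.wt ρ b q → v' ≠ 0 → v' ∈ N →
      (∀ t ∈ N, ρ b t ∈ N) → ∀ w, ρ b w - w ∈ N := fun N v' h1 h2 h3 h4 w => by
    obtain ⟨a, c, e⟩ := hq.range_eq hCub h1 h2 (ρ b w - w) ⟨w, by simp⟩
    rw [e]
    exact add_mem (N.smul_mem _ (sub_mem (h4 _ h3) h3))
      (N.smul_mem _ (sub_mem (h4 _ (h4 _ h3)) (h4 _ h3)))
  have hirr : ∀ N : Submodule (ZMod 3) E, N ≤ F₀ → (∀ g ∈ R ⊔ zpowers b, ∀ w ∈ N, ρ g w ∈ N) →
      N = ⊥ ∨ N = F₀ := by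
    intro N hN0 hN
    have hNb : ∀ t ∈ N, ρ b t ∈ N := hN b hbg
    have hNq : ∀ t ∈ N, ρ q t ∈ N := hN q (mem_sup_left hqR)
    by_cases hmove : ∃ w ∈ N, ρ q w ≠ w
    · obtain ⟨w, hw, hne⟩ := hmove
      obtain ⟨v', hv'N, hv', hv'0⟩ := hq.exists_wt hCub hNq hNb hw hne
      have hbN := hD N v' hv' hv'0 hv'N hNb
      have hpowN : ∀ c ∈ zpowers b, ∀ w, ρ c w - w ∈ N := by
        intro c hc
        obtain ⟨i, rfl⟩ := (Submonoid.mem_powers_iff _ _).1 (mem_powers_iff_mem_zpowers.2 hc)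
        clear hc
        induction i with
        | zero => intro w; simp
        | succ i ih =>
          intro w
          rw [pow_succ', mulApply, ← sub_add_sub_cancel _ (ρ (b ^ i) w)]
          exact add_mem (hbN _) (ih w)
      have hRN : ∀ r ∈ R, ∀ w, ρ r w - w ∈ N := by
        intro r hr
        rw [← hcomm] at hr
        refine Subgroup.closure_induction (p := fun r _ => r ∈ R ∧ ∀ w, ρ r w - w ∈ N) ?_ ?_ ?_ ?_ hr |>.2
        · rintro x ⟨g, hg, c, hc, rfl⟩
          refine ⟨hcomm.le (Subgroup.commutator_mem_commutator hg hc), fun w => ?_⟩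
          have e : ρ ⁅g, c⁆ w - w = ρ g (ρ c (ρ g⁻¹ (ρ c⁻¹ w)) - ρ g⁻¹ (ρ c⁻¹ w)) + (ρ c⁻¹ w - w) := by
            rw [commutatorElement_def, mulApply, mulApply, mulApply, map_sub, ← mulApply ρ g g⁻¹,
              mul_inv_cancel, oneApply]
            abel
          rw [e]
          exact add_mem (hN g (mem_sup_left hg) _ (hpowN c hc _)) (hpowN _ (inv_mem hc) w)
        · exact ⟨R.one_mem, fun w => by simp⟩
        · rintro x y - - ⟨hx, ex⟩ ⟨hy, ey⟩
          refine ⟨R.mul_mem hx hy, fun w => ?_⟩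
          rw [mulApply, ← sub_add_sub_cancel _ (ρ y w)]
          exact add_mem (ex _) (ey w)
        · rintro x - ⟨hx, ex⟩
          refine ⟨R.inv_mem hx, fun w => ?_⟩
          have := ex (ρ x⁻¹ w)
          rw [← mulApply, mul_inv_cancel, oneApply] at this
          rw [← neg_sub]
          exact N.neg_mem this
      refine Or.inr (le_antisymm hN0 fun w hw => ?_)
      have hsum : ∑ r : R, (ρ r w - w) ∈ N := Submodule.sum_mem _ fun r _ => hRN r r.2 w
      rw [Finset.sum_sub_distrib, ← avg_apply, LinearMap.mem_ker.1 hw, zero_sub, Finset.sum_const,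
        Finset.card_univ, ← Nat.card_eq_fintype_card, ← Nat.cast_smul_eq_nsmul (ZMod 3), ← hm,
        Submodule.neg_mem_iff, Submodule.smul_mem_iff _ hm0] at hsum
      exact hsum
    · push Not at hmove
      refine Or.inl (eq_bot_iff.2 fun w hw => ?_)
      have hNbi : ∀ t ∈ N, ρ b⁻¹ t ∈ N := hN b⁻¹ (inv_mem hbg)
      have hfixp : ∀ t ∈ N, ρ p t = t := fun t ht => by
        rw [hp, mulApply, mulApply, hmove _ (hNbi t ht), ← mulApply, mul_inv_cancel, oneApply]
      have hfixb : ∀ t ∈ N, ρ b t = t := fun t ht =>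
        hq.fix_fixed hCub hv hv0 (hmove t ht) (hfixp t ht)
      let L : Subgroup S :=
        { carrier := {g | g ∈ R ⊔ zpowers b ∧ ∀ t ∈ N, ρ g t = t}
          mul_mem' := fun {g g'} hg hg' => ⟨mul_mem hg.1 hg'.1, fun t ht => by
            rw [mulApply, hg'.2 t ht, hg.2 t ht]⟩
          one_mem' := ⟨one_mem _, fun t _ => oneApply ρ t⟩
          inv_mem' := fun {g} hg => ⟨inv_mem hg.1, fun t ht => by
            conv_lhs => rw [← hg.2 t ht, ← mulApply, inv_mul_cancel, oneApply]⟩ }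
      have hbL : zpowers b ≤ L := zpowers_le.2 ⟨hbg, hfixb⟩
      have hRL : R ≤ L := by
        conv_lhs => rw [← hcomm]
        rw [Subgroup.commutator_le]
        intro g hg c hc
        refine ⟨mem_sup_left (hcomm.le (Subgroup.commutator_mem_commutator hg hc)), fun t ht => ?_⟩
        rw [commutatorElement_def, mulApply, (hbL (inv_mem hc)).2 t ht, mulApply, mulApply,
          (hbL hc).2 _ (hN g⁻¹ (mem_sup_left (inv_mem hg)) t ht), ← mulApply, mul_inv_cancel, oneApply]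
      rw [← hinf]
      exact ⟨hN0 hw, mem_fixSpace.2 fun r hr => (hRL hr).2 w hw⟩
  have hfaithF : ∀ g ∈ R ⊔ zpowers b, (∀ w ∈ F₀, ρ g w = w) → g = 1 := by
    intro g hg hg0
    have hdec : ∀ w, ∃ w₀ ∈ F₀, ∃ w₁ ∈ F₁, w = w₀ + w₁ := fun w => by
      obtain ⟨w₀, h0, w₁, h1, e⟩ := Submodule.mem_sup.1 (hsup ▸ Submodule.mem_top : w ∈ F₀ ⊔ F₁)
      exact ⟨w₀, h0, w₁, h1, e.symm⟩
    have hF1g : ∀ x ∈ R ⊔ zpowers b, ∀ w ∈ F₁, ρ x w ∈ F₁ := fun x hx w hw =>
      mem_fixSpace.2 fun r hr => by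
        have hr' : x⁻¹ * r * x ∈ R := (Subgroup.mem_normalizer_iff''.1 (hnorR hx) r).1 hr
        rw [← mulApply, show r * x = x * (x⁻¹ * r * x) by group, mulApply, mem_fixSpace.1 hw _ hr']
    have hcr : ∀ r ∈ R, g * r = r * g := fun r hr => hfaith (LinearMap.ext fun w => by
      obtain ⟨w₀, h0, w₁, h1, rfl⟩ := hdec w
      rw [map_add, map_add, mulApply, mulApply, mulApply, mulApply, hg0 _ h0,
        hg0 _ (hinv r (mem_sup_left hr) _ h0), mem_fixSpace.1 h1 r hr,
        mem_fixSpace.1 (hF1g g hg _ h1) r hr])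
    haveI := Fintype.ofFinite S
    obtain ⟨r, hr, c, hc, hgrc⟩ := Cfsg.Lib.Coprime.exists_mul_of_mem_sup hbR hg
    by_cases hc1 : c = 1
    · rw [hc1, mul_one] at hgrc
      subst hgrc
      refine hfaith (LinearMap.ext fun w => ?_)
      obtain ⟨w₀, h0, w₁, h1, rfl⟩ := hdec w
      rw [oneApply, map_add, hg0 _ h0, mem_fixSpace.1 h1 _ hr]
    exfalso
    -- `c = r⁻¹ g` acts on `R` as the inner automorphism by `r⁻¹`
    have hconj : ∀ x ∈ R, c * x * c⁻¹ = r⁻¹ * x * r := fun x hx => by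
      have e : c = r⁻¹ * g := by rw [hgrc]; group
      rw [e, mul_inv_rev, inv_inv, show r⁻¹ * g * x * (g⁻¹ * r) = r⁻¹ * (g * x) * g⁻¹ * r by group,
        hcr x hx]
      group
    have hc3 : c * c * c = 1 := by
      obtain ⟨i, rfl⟩ := Subgroup.mem_zpowers_iff.1 hc
      rw [← zpow_add, ← zpow_add, show i + i + i = ((3 : ℕ) : ℤ) * i by push_cast; ring, zpow_mul,
        zpow_natCast, hb, one_zpow]
    have hr3 : ∀ x ∈ R, r⁻¹ ^ 3 * x = x * r⁻¹ ^ 3 := fun x hx => by
      have m1 : c * x * c⁻¹ ∈ R := by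
        rw [hconj x hx]; exact R.mul_mem (R.mul_mem (R.inv_mem hr) hx) hr
      have m2 : c * (c * x * c⁻¹) * c⁻¹ ∈ R := by
        rw [hconj _ m1]; exact R.mul_mem (R.mul_mem (R.inv_mem hr) m1) hr
      have h3 : r⁻¹ * (r⁻¹ * (r⁻¹ * x * r) * r) * r = x := by
        calc r⁻¹ * (r⁻¹ * (r⁻¹ * x * r) * r) * r = c * (c * (c * x * c⁻¹) * c⁻¹) * c⁻¹ := by
              rw [hconj _ m2, hconj _ m1, hconj x hx]
          _ = (c * c * c) * x * (c * c * c)⁻¹ := by group
          _ = x := by rw [hc3]; group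
      calc r⁻¹ ^ 3 * x = r⁻¹ * (r⁻¹ * (r⁻¹ * x * r) * r) * r * r⁻¹ ^ 3 := by group
        _ = x * r⁻¹ ^ 3 := by rw [h3]
    have hrx : ∀ x ∈ R, r⁻¹ * x = x * r⁻¹ := fun x hx => by
      have hm' : r⁻¹ ∈ zpowers (r⁻¹ ^ 3) := by
        have hcop : (Nat.card (zpowers r⁻¹)).Coprime 3 := by
          rw [Nat.coprime_comm, Nat.Prime.coprime_iff_not_dvd Nat.prime_three]
          exact fun h => hR3 (h.trans (Subgroup.card_dvd_of_le (zpowers_le.2 (R.inv_mem hr))))
        rw [Nat.card_zpowers] at hcop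
        obtain ⟨k, hk⟩ := exists_pow_eq_self_of_coprime hcop.symm
        exact Subgroup.mem_zpowers_iff.2 ⟨k, by rw [zpow_natCast]; exact hk⟩
      obtain ⟨k, hk⟩ := Subgroup.mem_zpowers_iff.1 hm'
      rw [← hk]
      exact Commute.zpow_left (hr3 x hx : Commute (r⁻¹ ^ 3) x) k
    have hcc : ∀ x ∈ R, c * x = x * c := fun x hx =>
      mul_inv_eq_iff_eq_mul.1 (by rw [hconj x hx, hrx x hx, mul_assoc, inv_mul_cancel, mul_one])
    refine hq.ne₂ ?_
    obtain ⟨i, hi⟩ := (Submonoid.mem_powers_iff _ _).1 (mem_powers_iff_mem_zpowers.2 hc)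
    have hbmem : b ∈ zpowers c := by
      have hne : i % 3 ≠ 0 := fun h0 => hc1 (by
        rw [← hi, ← Nat.div_add_mod i 3, h0, add_zero, pow_mul, hb, one_pow])
      have : b = c ∨ b = c * c := by
        have e : c = b ^ (i % 3) := by
          rw [← hi]
          conv_lhs => rw [← Nat.div_add_mod i 3, pow_add, pow_mul, hb, one_pow, one_mul]
        have hb4 : b ^ 4 = b := by rw [pow_succ, hb, one_mul]
        rcases (show i % 3 = 1 ∨ i % 3 = 2 by omega) with h | h
        · exact Or.inl (by rw [e, h, pow_one])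
        · exact Or.inr (by rw [e, h, ← pow_add, hb4])
      rcases this with e | e <;> rw [e]
      · exact mem_zpowers c
      · exact mul_mem (mem_zpowers c) (mem_zpowers c)
    obtain ⟨k, hk⟩ := Subgroup.mem_zpowers_iff.1 hbmem
    have hbq : b * q = q * b := by
      rw [← hk]; exact Commute.zpow_left (hcc q hqR : Commute c q) k
    rw [hbq, mul_inv_cancel_right]
  refine ⟨?_, F₀, F₁, hinf, hsup, fun r hr w hw => mem_fixSpace.1 hw r hr, hinv, hfaithF, hirr⟩
  -- the core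
  set G₀ := R ⊔ zpowers b with hG₀
  let σ : G₀ →* Module.End (ZMod 3) F₀ :=
    { toFun := fun g => (ρ g).restrict (hinv g g.2)
      map_one' := LinearMap.ext fun w => Subtype.ext (oneApply ρ (w : E))
      map_mul' := fun g g' => LinearMap.ext fun w => Subtype.ext (mulApply ρ (g : S) g' w) }
  have hσ : ∀ (g : G₀) (w : F₀), ((σ g w : F₀) : E) = ρ g (w : E) := fun g w => rfl
  set R₀ := R.subgroupOf G₀ with hR₀
  have hR₀map : R₀.map G₀.subtype = R := Subgroup.map_subgroupOf_eq_of_le le_sup_left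
  let b₀ : G₀ := ⟨b, hbg⟩
  have hb₀map : (zpowers b₀).map G₀.subtype = zpowers b := MonoidHom.map_zpowers _ _
  have hctx : Ctx σ b₀ R₀ :=
    { cubic := by
        refine ⟨fun g g' e => ?_, Subtype.ext hb, ?_⟩
        · have h1 : ((g' : S)⁻¹ * g) = 1 := hfaithF _ (mul_mem (inv_mem g'.2) g.2) fun w hw => by
            have := congrArg (fun f => ((f ⟨w, hw⟩ : F₀) : E)) e
            simp only [hσ] at this
            rw [mulApply, this, ← mulApply, inv_mul_cancel, oneApply]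
          exact (Subtype.ext (inv_mul_eq_one.1 h1)).symm
        · refine (Nat.card_le_card_of_injective
            (fun d : LinearMap.range (σ b₀ - 1) => (⟨((d : F₀) : E), by
              obtain ⟨w, hw⟩ := d.2
              exact ⟨(w : E), by
                rw [← hw, LinearMap.sub_apply, LinearMap.sub_apply, Module.End.one_apply,
                  Module.End.one_apply, Submodule.coe_sub, hσ]⟩⟩ : LinearMap.range (ρ b - 1)))
            fun d d' e => ?_).trans hrank
          have e' : ((d : F₀) : E) = ((d' : F₀) : E) := congrArg (fun z : LinearMap.range (ρ b - 1) => (z : E)) e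
          exact Subtype.ext (Subtype.ext e')
      irr := fun N hN hne => by
        have h := hirr (N.map F₀.subtype) (Submodule.map_subtype_le F₀ N) fun g hg w hw => by
          obtain ⟨t, ht, rfl⟩ := hw
          exact ⟨σ ⟨g, hg⟩ t, hN _ t ht, hσ ⟨g, hg⟩ t⟩
        rcases h with e | e
        · exact absurd (Submodule.map_injective_of_injective F₀.injective_subtype
            (e.trans (Submodule.map_bot _).symm)) hne
        · exact Submodule.map_injective_of_injective F₀.injective_subtype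
            (e.trans (Submodule.map_subtype_top F₀).symm)
      normal := by
        rw [hR₀]
        exact (Subgroup.normal_subgroupOf_iff_le_normalizer le_sup_left).2 hnorR
      cop := by
        rw [← Subgroup.card_map_of_injective G₀.subtype_injective, hR₀map]
        exact hR3
      comm := by
        refine Subgroup.map_injective G₀.subtype_injective ?_
        rw [Subgroup.map_commutator, hR₀map, hb₀map, hcomm]
      top := by
        refine Subgroup.map_injective G₀.subtype_injective ?_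
        rw [Subgroup.map_sup, hR₀map, hb₀map, ← MonoidHom.range_eq_map, Subgroup.range_subtype]
      four := ⟨⟨q, mem_sup_left hqR⟩, hqR,
        ⟨Subtype.ext hq.sq, fun e => hq.ne (congrArg Subtype.val e), Subtype.ext hq.comm,
          Subtype.ext hq.prod⟩⟩ }
  have e₀ : R₀ ≃* R := Subgroup.subgroupOfEquivOfLe le_sup_left
  have hsol : Group.IsSolvable R₀ := inferInstance
  have helem : ∀ A : Subgroup G₀, Cfsg.IsElementaryAbelian 2 A →
      Cfsg.IsElementaryAbelian 2 (A.map G₀.subtype) := fun A hA => by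
    refine ⟨⟨⟨?_⟩⟩, ?_⟩
    · rintro ⟨_, x, hx, rfl⟩ ⟨_, y, hy, rfl⟩
      exact Subtype.ext (congrArg (fun z : A => (((z : G₀)) : S))
        (hA.1.is_comm.comm (⟨x, hx⟩ : A) ⟨y, hy⟩))
    · rintro _ ⟨x, hx, rfl⟩
      rw [← map_pow, hA.2 x hx, map_one]
  haveI : Fact (Nat.Prime 2) := ⟨Nat.prime_two⟩
  rcases hctx.conclude hsol with ⟨h1, h2⟩ | ⟨h1, h2, A, hA, hAe, hA8⟩
  · refine Or.inl ⟨?_, (Nat.card_congr e₀.toEquiv).symm.trans h2⟩
    rw [← hR₀map]; exact helem _ h1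
  · refine Or.inr ⟨Cfsg.Lib.Extra.isExtraspecial_congr e₀ h1,
      (Nat.card_congr e₀.toEquiv).symm.trans h2, A.map G₀.subtype, ?_, helem A hAe, ?_⟩
    · rw [← hR₀map]; exact Subgroup.map_mono hA
    · rw [Subgroup.card_map_of_injective G₀.subtype_injective, hA8]

end Cfsg.Lib.CubicOuter
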