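import Cfsg.Agent.Lib.Linear.SLBasic

/-!
Generation of `SL` by a root group at `(0,1)` and a cyclic monomial matrix.
-/

set_option autoImplicit false

namespace Cfsg.Lib.Linear.CyclicGen

open Matrix Fin.NatCast Fin.CommRing

variable {K : Type*} [Field K] {n : ℕ}

/-- The `(i,j)` root group lies in `S`. -/
def Good (S : Subgroup (SpecialLinearGroup (Fin (n + 1)) K)) (i j : Fin (n + 1)) : Prop :=
  ∀ (h : i ≠ j) (c : K), SpecialLinearGroup.transvection h c ∈ S

theorem transvection_val {i j : Fin (n + 1)} (h : i ≠ j) (c : K) :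
    (SpecialLinearGroup.transvection h c : Matrix (Fin (n + 1)) (Fin (n + 1)) K) = 1 + Matrix.single i j c := by
  rw [Matrix.SpecialLinearGroup.transvection_coe]

theorem w_conj {w : SpecialLinearGroup (Fin (n + 1)) K} {d : Fin (n + 1) → K}
    (hw : ∀ a b, w.1 a b = if b = a + 1 then d a else 0) (hd : ∀ a, d a ≠ 0)
    (i j : Fin (n + 1)) (h : i ≠ j) (h' : i + 1 ≠ j + 1) (c : K) :
    w * SpecialLinearGroup.transvection h' c * w⁻¹ = SpecialLinearGroup.transvection h (d i * c / d j) := by
  rw [mul_inv_eq_iff_eq_mul]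
  apply Matrix.SpecialLinearGroup.ext
  intro a b
  simp only [Matrix.SpecialLinearGroup.coe_mul, transvection_val, mul_add, add_mul, Matrix.mul_one,
    Matrix.one_mul, Matrix.add_apply]
  congr 1
  by_cases hb : b = j + 1
  · subst hb
    rw [Matrix.mul_single_apply_same]
    by_cases ha : a = i
    · subst ha
      rw [Matrix.single_mul_apply_same, hw, hw, if_pos rfl, if_pos rfl, div_mul_cancel₀ _ (hd j)]
    · rw [Matrix.single_mul_apply_of_ne _ _ _ _ _ ha, hw, if_neg fun e => ha (add_right_cancel e).symm, zero_mul]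
  · rw [Matrix.mul_single_apply_of_ne _ _ _ _ _ hb]
    by_cases ha : a = i
    · subst ha
      rw [Matrix.single_mul_apply_same, hw, if_neg hb, mul_zero]
    · rw [Matrix.single_mul_apply_of_ne _ _ _ _ _ ha]

/-- The root group at `(0,1)` and a cyclic monomial element generate. -/
theorem eq_top_of_good (S : Subgroup (SpecialLinearGroup (Fin (n + 1)) K))
    (w : SpecialLinearGroup (Fin (n + 1)) K) (d : Fin (n + 1) → K)
    (hw : ∀ a b, w.1 a b = if b = a + 1 then d a else 0) (hd : ∀ a, d a ≠ 0) (hwS : w ∈ S)
    (h01 : Good S 0 1) : S = ⊤ := by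
  have hstep : ∀ i j : Fin (n + 1), Good S (i + 1) (j + 1) → Good S i j := by
    intro i j hg h c
    have h' : i + 1 ≠ j + 1 := fun e => h (add_right_cancel e)
    have h1 := S.mul_mem (S.mul_mem hwS (hg h' (d j * c / d i))) (S.inv_mem hwS)
    rw [w_conj hw hd i j h h'] at h1
    convert h1 using 2
    field_simp [hd i, hd j]
  have hshift : ∀ m : ℕ, Good S (0 - (m : Fin (n + 1))) (1 - (m : Fin (n + 1))) := by
    intro m
    induction m with
    | zero => simpa using h01
    | succ m ih =>
      refine hstep _ _ ?_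
      convert ih using 1 <;> push_cast <;> ring
  have hnext : ∀ i : Fin (n + 1), Good S i (i + 1) := by
    intro i
    have h := hshift (-i).val
    rw [Fin.cast_val_eq_self] at h
    convert h using 1 <;> ring
  have hall : ∀ (m : ℕ), 1 ≤ m → m ≤ n → ∀ i : Fin (n + 1), Good S i (i + (m : Fin (n + 1))) := by
    intro m hm
    induction m, hm using Nat.le_induction with
    | base => intro _ i; simpa using hnext i
    | succ m hm ih =>
      intro hmn i h c
      have hne : ∀ k : ℕ, 1 ≤ k → k ≤ n → ∀ a : Fin (n + 1), a ≠ a + (k : Fin (n + 1)) := by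
        intro k hk hk' a e
        have : (k : Fin (n + 1)) = 0 := by simpa using e.symm
        have h2 := congrArg Fin.val this
        rw [Fin.val_natCast, Nat.mod_eq_of_lt (by omega), Fin.val_zero] at h2
        omega
      have h1 : i ≠ i + (m : Fin (n + 1)) := hne m hm (by omega) i
      have h2 : i + (m : Fin (n + 1)) ≠ i + ((m + 1 : ℕ) : Fin (n + 1)) := by
        have := hne 1 le_rfl (by omega) (i + (m : Fin (n + 1)))
        simpa [add_assoc] using this
      rw [transvection_eq_commutator h h1 h2 c, commutatorElement_def]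
      have hA := ih (by omega) i h1 c
      have hB : SpecialLinearGroup.transvection h2 (1 : K) ∈ S := by
        have e : i + (m : Fin (n + 1)) + 1 = i + ((m + 1 : ℕ) : Fin (n + 1)) := by push_cast; ring
        have := hnext (i + (m : Fin (n + 1)))
        rw [e] at this
        exact this h2 1
      exact S.mul_mem (S.mul_mem (S.mul_mem hA hB) (S.inv_mem hA)) (S.inv_mem hB)
  rw [eq_top_iff, ← closure_transvection_eq_top, Subgroup.closure_le]
  rintro _ ⟨i, j, h, c, rfl⟩
  have h0 : (j - i).val ≠ 0 := fun e => h (sub_eq_zero.1 (Fin.ext (by simpa using e))).symm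
  have hg := hall (j - i).val (by omega) (by have := (j - i).isLt; omega) i
  rw [Fin.cast_val_eq_self, add_sub_cancel] at hg
  exact hg h c

/-- The matrix in the statements is a cyclic monomial matrix. -/
theorem cyclic_entries (w : SpecialLinearGroup (Fin (n + 1)) K) (hn : 1 ≤ n)
    (hw : (w : Matrix (Fin (n + 1)) (Fin (n + 1)) K) =
      Matrix.of (fun i j => if j.val = i.val + 1 then 1 else if i.val = n ∧ j.val = 0 then (-1) ^ n else 0)) :
    ∀ a b, w.1 a b = if b = a + 1 then (if a.val = n then (-1 : K) ^ n else 1) else 0 := by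
  intro a b
  rw [hw, Matrix.of_apply]
  have hb := b.isLt
  have ha := a.isLt
  by_cases han : a.val = n
  · have h1 : (a + 1).val = 0 := by
      rw [Fin.val_add_one]; simp [Fin.ext_iff, han]
    simp only [Fin.ext_iff, h1]
    rw [if_neg (by omega : ¬ b.val = a.val + 1), if_pos han]
    simp [han]
  · have h1 : (a + 1).val = a.val + 1 := by
      rw [Fin.val_add_one]; simp [Fin.ext_iff, han]
    simp only [Fin.ext_iff, h1, han, if_false, false_and]

theorem d_ne_zero (a : Fin (n + 1)) : (if a.val = n then (-1 : K) ^ n else 1) ≠ 0 := by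
  split <;> simp

theorem transvection_mul {i j : Fin (n + 1)} (h : i ≠ j) (a b : K) :
    SpecialLinearGroup.transvection h a * SpecialLinearGroup.transvection h b =
      SpecialLinearGroup.transvection h (a + b) := by
  apply Matrix.SpecialLinearGroup.ext
  intro x y
  simp [transvection_val, mul_add, add_mul, h.symm, Matrix.single_add, add_assoc]

theorem diag_conj {h : SpecialLinearGroup (Fin (n + 1)) K} {e : Fin (n + 1) → K}
    (he : h.1 = Matrix.diagonal e) {i j : Fin (n + 1)} (hij : i ≠ j) (hj : e j ≠ 0) (c : K) :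
    h * SpecialLinearGroup.transvection hij c * h⁻¹ = SpecialLinearGroup.transvection hij (e i * c / e j) := by
  rw [mul_inv_eq_iff_eq_mul]
  apply Matrix.SpecialLinearGroup.ext
  intro a b
  simp only [Matrix.SpecialLinearGroup.coe_mul, transvection_val, mul_add, add_mul, Matrix.mul_one,
    Matrix.one_mul]
  rw [he]
  simp only [Matrix.add_apply, Matrix.diagonal_mul, Matrix.mul_diagonal]
  congr 1
  by_cases ha : a = i <;> by_cases hb : b = j
  · subst ha hb
    simp [div_mul_cancel₀ _ hj]
  · subst ha
    simp [Ne.symm hb]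
  · simp [Ne.symm ha]
  · simp [Ne.symm ha]

theorem diag_comm {h g : SpecialLinearGroup (Fin (n + 1)) K} {e f : Fin (n + 1) → K}
    (he : h.1 = Matrix.diagonal e) (hf : g.1 = Matrix.diagonal f) : h * g = g * h := by
  apply Subtype.ext
  show h.1 * g.1 = g.1 * h.1
  rw [he, hf, Matrix.diagonal_mul_diagonal, Matrix.diagonal_mul_diagonal]
  simp [mul_comm]

theorem w_diag {w h D : SpecialLinearGroup (Fin (n + 1)) K} {d e : Fin (n + 1) → K}
    (hw : ∀ a b, w.1 a b = if b = a + 1 then d a else 0)
    (he : h.1 = Matrix.diagonal e) (hD : D = w * h * w⁻¹) :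
    D.1 = Matrix.diagonal fun a => e (a + 1) := by
  have h1 : D.1 * w.1 = Matrix.diagonal (fun a => e (a + 1)) * w.1 := by
    have h2 : D * w = w * h := by rw [hD, inv_mul_cancel_right]
    have h3 : D.1 * w.1 = w.1 * h.1 := congrArg Subtype.val h2
    rw [h3, he]
    ext a b
    rw [Matrix.mul_diagonal, Matrix.diagonal_mul, hw]
    split_ifs with hb
    · subst hb; ring
    · simp
  have hu : IsUnit w.1 := (Matrix.isUnit_iff_isUnit_det _).2 (by rw [w.2]; exact isUnit_one)
  exact hu.mul_left_inj.1 h1

end Cfsg.Lib.Linear.CyclicGen
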