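import Cfsg.Prelude.Def_LieClassical
import Mathlib

/-!
# Reduction of scalars along a quadratic extension of finite fields

Coordinates of `K^n` over `F` for `|K| = |F|^2` that turn Hermitian, alternating and quadratic
forms over `K` into the standard forms over `F`.
-/

set_option autoImplicit false

namespace Cfsg.Lib.Linear.FieldReduce

open scoped Matrix
open Module

section Restrict

variable {F K : Type*} [Field F] [Field K] [Algebra F K] {ι κ : Type} [Fintype ι] [DecidableEq ι]
  [Fintype κ] [DecidableEq κ]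

/-- Restriction of scalars of matrices through a coordinate system. -/
noncomputable def restrictMat (E : (ι → K) ≃ₗ[F] (κ → F)) : Matrix ι ι K →* Matrix κ κ F where
  toFun A := LinearMap.toMatrix'
    (E.toLinearMap ∘ₗ ((Matrix.toLin' A).restrictScalars F) ∘ₗ E.symm.toLinearMap)
  map_one' := by
    rw [Matrix.toLin'_one, ← LinearMap.toMatrix'_id]
    congr 1
    refine LinearMap.ext fun x => ?_
    exact E.apply_symm_apply x
  map_mul' A B := by
    rw [← LinearMap.toMatrix'_comp]
    congr 1
    refine LinearMap.ext fun x => ?_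
    show E (Matrix.toLin' (A * B) (E.symm x)) = E (Matrix.toLin' A (E.symm (E (Matrix.toLin' B (E.symm x)))))
    rw [E.symm_apply_apply, Matrix.toLin'_mul_apply]

theorem restrictMat_mulVec (E : (ι → K) ≃ₗ[F] (κ → F)) (A : Matrix ι ι K) (u : ι → K) :
    restrictMat E A *ᵥ E u = E (A *ᵥ u) := by
  show (LinearMap.toMatrix' _) *ᵥ E u = _
  rw [← Matrix.toLin'_apply, Matrix.toLin'_toMatrix']
  show E (Matrix.toLin' A (E.symm (E u))) = _
  rw [E.symm_apply_apply, Matrix.toLin'_apply]

theorem restrictMat_injective (E : (ι → K) ≃ₗ[F] (κ → F)) : Function.Injective (restrictMat E) := by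
  intro A B h
  apply Matrix.toLin'.injective
  refine LinearMap.ext fun u => E.injective ?_
  rw [Matrix.toLin'_apply, Matrix.toLin'_apply, ← restrictMat_mulVec, ← restrictMat_mulVec, h]

/-- A coordinate system from an injective map. -/
theorem exists_coords (hκ : Fintype.card κ = Module.finrank F K * Fintype.card ι) [FiniteDimensional F K]
    (f : (ι → K) →ₗ[F] (κ → F)) (hf : ∀ u, f u = 0 → u = 0) :
    ∃ E : (ι → K) ≃ₗ[F] (κ → F), ∀ u, E u = f u := by
  have h : Module.finrank F (ι → K) = Module.finrank F (κ → F) := by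
    rw [Module.finrank_pi, Module.finrank_pi_fintype, hκ, Finset.sum_const, Finset.card_univ, smul_eq_mul, mul_comm]
  exact ⟨LinearMap.linearEquivOfInjective f ((injective_iff_map_eq_zero f).mpr hf) h, fun u => rfl⟩

end Restrict

section Symplectic

variable {R : Type*} [CommRing R] {n : ℕ}

/-- The symplectic group preserves the alternating form. -/
theorem symp_form {A : Matrix (Fin n ⊕ Fin n) (Fin n ⊕ Fin n) R} (hA : A ∈ Matrix.symplecticGroup (Fin n) R)
    (u v : Fin n ⊕ Fin n → R) :
    (A *ᵥ u) ⬝ᵥ (Matrix.J (Fin n) R *ᵥ (A *ᵥ v)) = u ⬝ᵥ (Matrix.J (Fin n) R *ᵥ v) := by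
  rw [Matrix.mulVec_mulVec, ← Matrix.vecMul_transpose, ← Matrix.dotProduct_mulVec, Matrix.mulVec_mulVec,
    ← Matrix.mul_assoc, SymplecticGroup.mem_iff'.mp hA]

theorem symp_of_form {A : Matrix (Fin n ⊕ Fin n) (Fin n ⊕ Fin n) R}
    (h : ∀ u v : Fin n ⊕ Fin n → R,
      (A *ᵥ u) ⬝ᵥ (Matrix.J (Fin n) R *ᵥ (A *ᵥ v)) = u ⬝ᵥ (Matrix.J (Fin n) R *ᵥ v)) :
    A ∈ Matrix.symplecticGroup (Fin n) R := by
  rw [SymplecticGroup.mem_iff']
  ext i j
  have h1 := h (Pi.single i 1) (Pi.single j 1)
  rw [Matrix.mulVec_mulVec, ← Matrix.vecMul_transpose, ← Matrix.dotProduct_mulVec, Matrix.mulVec_mulVec,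
    ← Matrix.mul_assoc] at h1
  simpa using h1

/-- The alternating form in coordinates. -/
theorem dot_J (x y : Fin n ⊕ Fin n → R) :
    x ⬝ᵥ (Matrix.J (Fin n) R *ᵥ y) = ∑ i, (x (.inr i) * y (.inl i) - x (.inl i) * y (.inr i)) := by
  simp only [Matrix.J, dotProduct, Matrix.fromBlocks_mulVec, Fintype.sum_sum_type, Sum.elim_inl, Sum.elim_inr,
    Matrix.zero_mulVec, Matrix.neg_mulVec, Matrix.one_mulVec, zero_add, add_zero, Pi.neg_apply,
    Function.comp_apply, Finset.sum_sub_distrib, mul_neg, Finset.sum_neg_distrib]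
  ring

end Symplectic

section Quadratic

variable {F K : Type*} [Field F] [Fintype F] [Field K] [Fintype K] {q : ℕ}

/-- A quadratic extension of finite fields is an algebra. -/
theorem exists_algebra (hF : Fintype.card F = q) (hK : Fintype.card K = q ^ 2) :
    ∃ _ : Algebra F K, Module.finrank F K = 2 := by
  obtain ⟨p, hpF⟩ := CharP.exists F
  obtain ⟨n, hp, hn⟩ := FiniteField.card F p
  haveI := Fact.mk hp
  obtain ⟨p', hpK⟩ := CharP.exists K
  obtain ⟨n', hp', hn'⟩ := FiniteField.card K p'
  have hpp : p' = p := by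
    have h1 : p' ∣ p := hp'.dvd_of_dvd_pow (n := (n : ℕ) * 2) (by
      rw [pow_mul, ← hn, hF, ← hK, hn']
      exact dvd_pow_self p' n'.2.ne')
    exact (Nat.prime_dvd_prime_iff_eq hp' hp).mp h1
  subst hpp
  letI : Algebra (ZMod p') F := ZMod.algebra _ _
  letI : Algebra (ZMod p') K := ZMod.algebra _ _
  obtain ⟨f⟩ : Nonempty (F →ₐ[ZMod p'] K) := FiniteField.nonempty_algHom_of_finrank_dvd ⟨2, by
    refine Nat.pow_right_injective hp.two_le ?_
    show p' ^ _ = p' ^ _
    rw [pow_mul, FiniteField.pow_finrank_eq_card, FiniteField.pow_finrank_eq_card, hK, hF]⟩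
  letI : Algebra F K := f.toRingHom.toAlgebra
  refine ⟨inferInstance, Nat.pow_right_injective (show 2 ≤ q from hF ▸ Fintype.one_lt_card) ?_⟩
  show q ^ _ = q ^ _
  rw [← hK, ← hF, ← Module.card_eq_pow_finrank]

variable [Algebra F K] (hF : Fintype.card F = q) (hK : Fintype.card K = q ^ 2)

include hF hK

theorem finrank_eq_two : Module.finrank F K = 2 := by
  refine Nat.pow_right_injective (show 2 ≤ q from hF ▸ Fintype.one_lt_card) ?_
  show q ^ _ = q ^ _
  rw [← hK, ← hF, ← Module.card_eq_pow_finrank]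

theorem conj_add (x y : K) : (x + y) ^ q = x ^ q + y ^ q := by
  obtain ⟨p, hpF⟩ := CharP.exists F
  obtain ⟨n, hp, hn⟩ := FiniteField.card F p
  haveI := Fact.mk hp
  haveI : CharP K p := charP_of_injective_algebraMap (algebraMap F K).injective p
  rw [← hF, hn, add_pow_char_pow]

theorem conj_base (a : F) : (algebraMap F K a) ^ q = algebraMap F K a := by
  rw [← map_pow, ← hF, FiniteField.pow_card]

omit hF in
theorem conj_conj (x : K) : (x ^ q) ^ q = x := by
  rw [← pow_mul, ← pow_two, ← hK, FiniteField.pow_card]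

theorem mem_range_of_fixed {x : K} (h : x ^ q = x) : x ∈ Set.range (algebraMap F K) := by
  classical
  by_contra hx
  have hq : 1 < q := hF ▸ Fintype.one_lt_card
  let S : Finset K := insert x (Finset.univ.image (algebraMap F K))
  have hS : S.card = q + 1 := by
    rw [Finset.card_insert_of_notMem (by simpa using hx), Finset.card_image_of_injective _ (algebraMap F K).injective,
      Finset.card_univ, hF]
  have hne : (Polynomial.X ^ q - Polynomial.X : Polynomial K) ≠ 0 := FiniteField.X_pow_card_sub_X_ne_zero K hq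
  have hle : S.card ≤ (Polynomial.X ^ q - Polynomial.X : Polynomial K).natDegree := by
    refine Polynomial.card_le_degree_of_subset_roots fun y hy => (Polynomial.mem_roots hne).mpr ?_
    have hy' : y ∈ S := hy
    simp only [S, Finset.mem_insert, Finset.mem_image, Finset.mem_univ, true_and] at hy'
    rcases hy' with rfl | ⟨a, rfl⟩
    · simp [h]
    · simp [conj_base hF hK a]
  rw [hS, FiniteField.X_pow_card_sub_X_natDegree_eq K hq] at hle
  omega

/-- The trace in terms of conjugation. -/
theorem trace_eq (x : K) : algebraMap F K (Algebra.trace F K x) = x + x ^ q := by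
  rw [trace_eq_sum_automorphisms, ← (FiniteField.bijective_frobeniusAlgEquivOfAlgebraic_pow F K).sum_comp,
    Fintype.sum_equiv (finCongr (finrank_eq_two hF hK)) (fun i => ((FiniteField.frobeniusAlgEquivOfAlgebraic F K) ^ (i : ℕ)) x)
      (fun i => ((FiniteField.frobeniusAlgEquivOfAlgebraic F K) ^ (i : ℕ)) x) (fun i => rfl),
    Fin.sum_univ_two]
  simp [FiniteField.coe_frobeniusAlgEquivOfAlgebraic, hF]

/-- An element outside the base field. -/
theorem exists_outside : ∃ w : K, w ^ q ≠ w := by
  by_contra h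
  push Not at h
  have h1 : Function.Surjective (algebraMap F K) := fun x => mem_range_of_fixed hF hK (h x)
  have h2 := Fintype.card_le_of_surjective _ h1
  have h3 : 1 < q := hF ▸ Fintype.one_lt_card
  rw [hF, hK, pow_two] at h2
  nlinarith

variable {w : K} (hw : w ^ q ≠ w)

include hw

/-- Coordinates with respect to `1, w`. -/
theorem exists_basis_equiv : ∃ P : (F × F) ≃ₗ[F] K, ∀ a b, P (a, b) = algebraMap F K a + algebraMap F K b * w := by
  let f : (F × F) →ₗ[F] K :=
    { toFun := fun ab => algebraMap F K ab.1 + algebraMap F K ab.2 * w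
      map_add' := fun x y => by simp only [Prod.fst_add, Prod.snd_add, map_add]; ring
      map_smul' := fun c x => by
        simp only [Prod.smul_fst, Prod.smul_snd, smul_eq_mul, map_mul, RingHom.id_apply]
        rw [Algebra.smul_def c (_ : K)]; ring }
  have hf : Function.Injective f := by
    refine (injective_iff_map_eq_zero f).mpr fun x hx => ?_
    have h1 : algebraMap F K x.1 + algebraMap F K x.2 * w = 0 := hx
    have h2 : algebraMap F K x.1 + algebraMap F K x.2 * w ^ q = 0 := by
      have := congrArg (fun z => z ^ q) h1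
      rwa [conj_add hF hK, mul_pow, conj_base hF hK, conj_base hF hK,
        zero_pow (show q ≠ 0 from hF ▸ Fintype.card_ne_zero)] at this
    have h3 : algebraMap F K x.2 * (w ^ q - w) = 0 := by linear_combination h2 - h1
    have h4 : x.2 = 0 := by
      rcases mul_eq_zero.mp h3 with h | h
      · exact (map_eq_zero _).mp h
      · exact absurd (sub_eq_zero.mp h) hw
    rw [h4, map_zero, zero_mul, add_zero, map_eq_zero] at h1
    exact Prod.ext h1 h4
  refine ⟨LinearMap.linearEquivOfInjective f hf ?_, fun a b => rfl⟩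
  rw [Module.finrank_prod, Module.finrank_self, finrank_eq_two hF hK]

theorem eq_zero_of_traces {y : K} (h0 : Algebra.trace F K y = 0) (h1 : Algebra.trace F K (w * y) = 0) : y = 0 := by
  have e0 := trace_eq hF hK y
  have e1 := trace_eq hF hK (w * y)
  rw [h0, map_zero] at e0
  rw [h1, map_zero, mul_pow] at e1
  have : y * (w - w ^ q) = 0 := by linear_combination (w ^ q) * e0 - e1
  rcases mul_eq_zero.mp this with h | h
  · exact h
  · exact absurd (sub_eq_zero.mp h).symm hw

omit hw in
theorem fixed_trace (x : K) : (x + x ^ q) ^ q = x + x ^ q := by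
  rw [← trace_eq hF hK, conj_base hF hK]

omit hw in
theorem exists_norm_neg_one : ∃ c : K, c * c ^ q = -1 := by
  obtain ⟨c, hc⟩ := FiniteField.norm_surjective F K (-1)
  refine ⟨c, ?_⟩
  have h := FiniteField.algebraMap_norm_eq_pow (K := F) (K' := K) (x := c)
  rw [hc, map_neg, map_one, Nat.card_eq_fintype_card, Nat.card_eq_fintype_card, hK, hF] at h
  rw [h, ← pow_succ']
  congr 1
  obtain ⟨k, rfl⟩ : ∃ k, q = k + 2 := ⟨q - 2, by have : 1 < q := hF ▸ Fintype.one_lt_card; omega⟩
  rw [show (k + 2) ^ 2 - 1 = (k + 2 + 1) * (k + 2 - 1) by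
    rw [show k + 2 - 1 = k + 1 by omega]
    have : (k + 2) ^ 2 = (k + 2 + 1) * (k + 1) + 1 := by ring
    omega, Nat.mul_div_cancel _ (by omega)]

/-- Two copies of the norm form make two hyperbolic planes. -/
theorem exists_pair : ∃ f : (K × K) →ₗ[F] (F × F) × (F × F), (∀ x, f x = 0 → x = 0) ∧
    ∀ x, algebraMap F K ((f x).1.1 * (f x).2.1 + (f x).1.2 * (f x).2.2) = x.1 * x.1 ^ q + x.2 * x.2 ^ q := by
  obtain ⟨P, hP⟩ := exists_basis_equiv hF hK hw
  obtain ⟨c, hc⟩ := exists_norm_neg_one hF hK
  obtain ⟨lF, hlF⟩ := Algebra.trace_surjective F K 1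
  have hl : lF + lF ^ q = 1 := by rw [← trace_eq hF hK, hlF, map_one]
  have hc0 : c ≠ 0 := by
    rintro rfl
    rw [zero_mul] at hc
    exact one_ne_zero (neg_eq_zero.mp hc.symm)
  let Z : (K × K) →ₗ[F] K := LinearMap.fst F K K - (LinearMap.mulLeft F c⁻¹).comp (LinearMap.snd F K K)
  let X : (K × K) →ₗ[F] K := LinearMap.fst F K K - (LinearMap.mulLeft F lF).comp Z
  let T1 : K →ₗ[F] F := Algebra.trace F K
  let T2 : K →ₗ[F] F := (Algebra.trace F K).comp (LinearMap.mulLeft F (w ^ q))
  let f : (K × K) →ₗ[F] (F × F) × (F × F) :=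
    LinearMap.prod (P.symm.toLinearMap.comp Z) ((LinearMap.prod T1 T2).comp X)
  have hcoord : ∀ x, Z x = algebraMap F K (f x).1.1 + algebraMap F K (f x).1.2 * w := fun x => by
    rw [← hP]
    exact (P.apply_symm_apply (Z x)).symm
  have hZ : ∀ x : K × K, Z x = x.1 - c⁻¹ * x.2 := fun x => rfl
  have hX : ∀ x : K × K, X x = x.1 - lF * Z x := fun x => rfl
  have h21 : ∀ x, algebraMap F K (f x).2.1 = X x + X x ^ q := fun x => trace_eq hF hK _
  have h22 : ∀ x, algebraMap F K (f x).2.2 = w ^ q * X x + (w ^ q * X x) ^ q := fun x => trace_eq hF hK _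
  refine ⟨f, fun x hx => ?_, fun x => ?_⟩
  · have hz : Z x = 0 := by rw [hcoord, hx]; simp
    have hw' : (w ^ q) ^ q ≠ w ^ q := by rw [conj_conj hK]; exact Ne.symm hw
    have hxx : X x = 0 := by
      have h0 : (f x).2 = 0 := by rw [hx]; rfl
      exact eq_zero_of_traces hF hK hw' (congrArg Prod.fst h0) (congrArg Prod.snd h0)
    rw [hX, hz, mul_zero, sub_zero] at hxx
    rw [hZ, hxx, zero_sub, neg_eq_zero, mul_eq_zero, or_iff_right (inv_ne_zero hc0)] at hz
    exact Prod.ext hxx hz
  · have hzq : Z x ^ q = algebraMap F K (f x).1.1 + algebraMap F K (f x).1.2 * w ^ q := by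
      rw [hcoord, conj_add hF hK, mul_pow, conj_base hF hK, conj_base hF hK]
    have h2 : x.2 = c * (x.1 - Z x) := by rw [hZ, sub_sub_cancel, mul_inv_cancel_left₀ hc0]
    have h2q : x.2 ^ q = c ^ q * (x.1 ^ q - Z x ^ q) := by
      rw [h2, mul_pow]
      congr 1
      have := conj_add hF hK (x.1 - Z x) (Z x)
      rw [sub_add_cancel] at this
      linear_combination -this
    have hXq : X x ^ q = x.1 ^ q - lF ^ q * Z x ^ q := by
      have := conj_add hF hK (X x) (lF * Z x)
      rw [show X x + lF * Z x = x.1 by rw [hX, sub_add_cancel], mul_pow] at this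
      linear_combination -this
    rw [map_add, map_mul, map_mul, h21, h22, mul_pow, conj_conj hK]
    linear_combination (-x.2 ^ q) * h2 - (c * (x.1 - Z x)) * h2q - (x.1 - Z x) * (x.1 ^ q - Z x ^ q) * hc +
      Z x * hXq - X x * hzq - (X x ^ q) * hcoord x + (Z x ^ q) * hX x - (Z x * Z x ^ q) * hl

end Quadratic

end Cfsg.Lib.Linear.FieldReduce
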