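import Cfsg.Agent.Lib.Linear.PrimeForms

/-!
# Elements of prime order modulo scalars: the two kinds and their constructions
-/

set_option autoImplicit false

universe u

namespace Cfsg.Lib.Linear.PrimeCriteria

open Polynomial Module Cfsg.Lib Cfsg.Lib.Linear.PrimeForms

variable {F : Type u} [Field F] [Fintype F]

attribute [local instance] Classical.propDecidable

theorem dvd_sub_one_iff {r : ℕ} [Fact r.Prime] : orderOf (Fintype.card F : ZMod r) = 1 ↔ r ∣ Fintype.card F - 1 := by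
  rw [orderOf_eq_one_iff, ← ZMod.natCast_eq_zero_iff, Nat.cast_sub Fintype.card_pos, Nat.cast_one, sub_eq_zero]

theorem orderOf_pos_of_not_dvd {r : ℕ} [Fact r.Prime] (h : ¬ r ∣ Fintype.card F) : 0 < orderOf (Fintype.card F : ZMod r) := by
  have hu : (Fintype.card F : ZMod r) ≠ 0 := fun h0 => h ((ZMod.natCast_eq_zero_iff _ _).1 h0)
  exact orderOf_pos_iff.2 (isOfFinOrder_iff_pow_eq_one.2 ⟨r - 1, Nat.sub_pos_of_lt (Fact.out : r.Prime).one_lt, ZMod.pow_card_sub_one_eq_one hu⟩)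

theorem exists_root_of_coprime {r : ℕ} [Fact r.Prime] (h : ¬ r ∣ Fintype.card F - 1) {c : F} (hc : c ≠ 0) :
    ∃ w : F, w ^ r = c := by
  classical
  have hcop : (Nat.card Fˣ).Coprime r := by
    rw [Nat.card_eq_fintype_card, Fintype.card_units]
    exact ((Fact.out : r.Prime).coprime_iff_not_dvd.2 h).symm
  obtain ⟨w, hw⟩ := (powCoprime hcop).surjective (Units.mk0 c hc)
  exact ⟨w, by rw [← Units.val_pow_eq_pow_val, show w ^ r = Units.mk0 c hc from hw, Units.val_mk0]⟩

theorem exists_sign_root {r : ℕ} [hr : Fact r.Prime] (h : r = 2 → Fintype.card F % 4 = 1) :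
    ∃ t : F, t ≠ 0 ∧ t ^ r = (-1) ^ (r + 1) := by
  rcases hr.out.eq_two_or_odd' with h2 | ⟨k, hk⟩
  · obtain ⟨t, ht⟩ := FiniteField.isSquare_neg_one_iff.2 (by rw [h h2]; decide : Fintype.card F % 4 ≠ 3)
    refine ⟨t, fun h0 => ?_, ?_⟩
    · rw [h0, mul_zero, neg_eq_zero] at ht; exact one_ne_zero ht
    · rw [h2, pow_two, ← ht]; norm_num
  · exact ⟨1, one_ne_zero, by rw [one_pow, hk, show 2 * k + 1 + 1 = 2 * (k + 1) by ring, pow_mul, neg_one_sq, one_pow]⟩

/-- No scalar outside the powers gives determinant one. -/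
theorem no_bad {r n k : ℕ} [hr : Fact r.Prime] (hn0 : n ≠ 0) (hn : n = r * k)
    (hv : padicValNat r n ≤ padicValNat r (Fintype.card F - 1) ∧ (r = 2 → Even n → Fintype.card F % 4 = 1))
    {c : F} (hc : ∀ w : F, w ^ r ≠ c) (hdet : ((-1 : F) ^ (r + 1) * c) ^ k = 1) : False := by
  classical
  obtain ⟨t, ht0, ht⟩ := exists_sign_root (F := F) (r := r) fun h2 => hv.2 h2 ⟨k, by rw [hn, h2]; ring⟩
  rw [← ht] at hdet
  have hc0 : c ≠ 0 := fun h => hc 0 (by rw [h, zero_pow hr.out.ne_zero])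
  obtain ⟨ζ, hζ⟩ := IsCyclic.exists_generator (α := Fˣ)
  set u := Units.mk0 (t ^ r * c) (mul_ne_zero (pow_ne_zero _ ht0) hc0)
  obtain ⟨j, hj⟩ := (mem_powers_iff_mem_zpowers.2 (hζ u) : u ∈ Submonoid.powers ζ)
  have hj' : ζ ^ j = u := hj
  have hrj : ¬ r ∣ j := by
    rintro ⟨i, rfl⟩
    refine hc (((ζ ^ i : Fˣ) : F) / t) ?_
    rw [div_pow, ← Units.val_pow_eq_pow_val, ← pow_mul, mul_comm i r, hj', Units.val_mk0, mul_div_cancel_left₀ _ (pow_ne_zero _ ht0)]
  have h1 : orderOf ζ ∣ j * k := by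
    refine orderOf_dvd_of_pow_eq_one (Units.ext ?_)
    rw [pow_mul, hj', Units.val_pow_eq_pow_val, Units.val_mk0, hdet, Units.val_one]
  rw [orderOf_eq_card_of_forall_mem_zpowers hζ, Nat.card_eq_fintype_card, Fintype.card_units] at h1
  have h2 : r ^ padicValNat r (Fintype.card F - 1) ∣ k :=
    Nat.Coprime.dvd_of_dvd_mul_left (((hr.out.coprime_iff_not_dvd).2 hrj).pow_left _) (pow_padicValNat_dvd.trans h1)
  have h3 : r ^ (padicValNat r (Fintype.card F - 1) + 1) ∣ n := by
    rw [hn, pow_succ']; exact mul_dvd_mul_left r h2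
  have := (padicValNat_dvd_iff_le hn0).1 h3
  omega

/-- A scalar outside the powers with determinant one. -/
theorem exists_bad_scalar {r n : ℕ} [hr : Fact r.Prime] (hn0 : n ≠ 0) (he : r ∣ Fintype.card F - 1)
    (hv : ¬ (padicValNat r n ≤ padicValNat r (Fintype.card F - 1) ∧ (r = 2 → Even n → Fintype.card F % 4 = 1))) :
    ∃ k, n = r * k ∧ ∃ c : F, (∀ w : F, w ^ r ≠ c) ∧ ((-1 : F) ^ (r + 1) * c) ^ k = 1 := by
  classical
  by_cases hA : r = 2 ∧ Even n ∧ Fintype.card F % 4 ≠ 1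
  · obtain ⟨rfl, ⟨k, hk⟩, hq⟩ := hA
    have hq3 : Fintype.card F % 4 = 3 := by
      have := Fintype.one_lt_card (α := F)
      omega
    refine ⟨k, by omega, -1, fun w hw => ?_, by norm_num⟩
    exact FiniteField.isSquare_neg_one_iff.1 ⟨w, by rw [← hw, pow_two]⟩ hq3
  · push Not at hA
    have hlt : padicValNat r (Fintype.card F - 1) < padicValNat r n := by
      by_contra h
      exact hv ⟨not_lt.1 h, hA⟩
    set v := padicValNat r (Fintype.card F - 1)
    have h3 : r ^ (v + 1) ∣ n := (padicValNat_dvd_iff_le hn0).2 hlt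
    have h4 : r ∣ n := (dvd_pow_self r v.succ_ne_zero).trans h3
    obtain ⟨t, ht0, ht⟩ := exists_sign_root (F := F) (r := r) fun h2 => hA h2 (even_iff_two_dvd.2 (h2 ▸ h4))
    obtain ⟨k, hk⟩ := h4
    refine ⟨k, hk, ?_⟩
    obtain ⟨ζ, hζ⟩ := IsCyclic.exists_generator (α := Fˣ)
    obtain ⟨j, hj⟩ : r ^ v ∣ Fintype.card F - 1 := pow_padicValNat_dvd
    have hrj : ¬ r ∣ j := by
      rintro ⟨i, rfl⟩
      have hq1 := Fintype.one_lt_card (α := F)
      have h5 : r ^ (v + 1) ∣ Fintype.card F - 1 := ⟨i, by rw [hj, pow_succ]; ring⟩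
      have := (padicValNat_dvd_iff_le (show Fintype.card F - 1 ≠ 0 by omega)).1 h5
      omega
    have hnp : ∀ w : F, w ^ r ≠ ((ζ ^ j : Fˣ) : F) := by
      intro w hw
      have hw0 : w ≠ 0 := fun h => (ζ ^ j).ne_zero (by rw [← hw, h, zero_pow hr.out.ne_zero])
      obtain ⟨i, hi⟩ := (mem_powers_iff_mem_zpowers.2 (hζ (Units.mk0 w hw0)) : Units.mk0 w hw0 ∈ Submonoid.powers ζ)
      have h5 : ζ ^ (i * r) = ζ ^ j := by
        rw [pow_mul, show ζ ^ i = Units.mk0 w hw0 from hi]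
        exact Units.ext (by rw [Units.val_pow_eq_pow_val, Units.val_mk0, hw])
      rw [pow_eq_pow_iff_modEq, orderOf_eq_card_of_forall_mem_zpowers hζ, Nat.card_eq_fintype_card, Fintype.card_units] at h5
      exact hrj (((Nat.ModEq.of_dvd he h5).dvd_iff dvd_rfl).1 (dvd_mul_left r i))
    refine ⟨(-1) ^ (r + 1) * ((ζ ^ j : Fˣ) : F), fun w hw => hnp (w / t) ?_, ?_⟩
    · rw [div_pow, hw, ht, mul_div_cancel_left₀ _ (pow_ne_zero _ (neg_ne_zero.2 one_ne_zero))]
    · rw [← mul_assoc, ← mul_pow, neg_mul_neg, one_mul, one_pow, one_mul, ← Units.val_pow_eq_pow_val, ← pow_mul, Units.val_eq_one,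
        ← orderOf_dvd_iff_pow_eq_one, orderOf_eq_card_of_forall_mem_zpowers hζ, Nat.card_eq_fintype_card, Fintype.card_units, hj,
        mul_comm (r ^ v)]
      refine mul_dvd_mul_left j ?_
      rw [hk, pow_succ'] at h3
      exact Nat.dvd_of_mul_dvd_mul_left hr.out.pos h3

/-- The two kinds of elements. -/
theorem split_cases {n r : ℕ} [hr : Fact r.Prime] (hn0 : n ≠ 0) (hrF : (r : F) ≠ 0) (x : Matrix.SpecialLinearGroup (Fin n) F)
    {c : F} (hx : (x : Matrix (Fin n) (Fin n) F) ^ r = c • 1) :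
    ∃ (ι : Type u) (_ : Fintype ι) (f : ι → F[X]), (∀ i, (f i).Monic) ∧
      CanonicalForm.HasForm (x : Matrix (Fin n) (Fin n) F) f ∧ ∑ i, (f i).natDegree = n ∧
      ((∀ i, (f i).natDegree = 1 ∨ (f i).natDegree = orderOf (Fintype.card F : ZMod r)) ∨
        (orderOf (Fintype.card F : ZMod r) = 1 ∧ r ∣ n ∧ (∀ i, (f i).natDegree = r) ∧
          ¬ (padicValNat r n ≤ padicValNat r (Fintype.card F - 1) ∧ (r = 2 → Even n → Fintype.card F % 4 = 1)))) := by
  haveI : NeZero n := ⟨hn0⟩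
  have hc : c ≠ 0 := fun h => by
    have := congrArg Matrix.det hx
    rw [Matrix.det_pow, x.2, one_pow, h, zero_smul, Matrix.det_zero] at this
    exact one_ne_zero this
  obtain ⟨ι, hι, f, hf1, hf2, hf3, h⟩ := exists_form_pow hrF hc hx
  refine ⟨ι, hι, f, hf1, h, h.sum_natDegree hf1, ?_⟩
  by_cases hp : ∃ d : F, d ^ r = c
  · obtain ⟨d, hd⟩ := hp
    refine Or.inl fun i => ?_
    rcases natDegree_of_dvd hrF (hf1 i) (hf2 i) (d := d) (fun h0 => hc (by rw [← hd, h0, zero_pow hr.out.ne_zero]))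
      (hd.symm ▸ hf3 i) with h1 | h1
    · exact Or.inl (by rw [h1, natDegree_X_sub_C])
    · exact Or.inr h1
  · push Not at hp
    have he : r ∣ Fintype.card F - 1 := by
      by_contra he
      obtain ⟨w, hw⟩ := exists_root_of_coprime he hc
      exact hp w hw
    have hfi : ∀ i, f i = X ^ r - C c := fun i => eq_binomial hp (hf1 i) (hf2 i) (hf3 i)
    obtain ⟨hn, hdet⟩ := det_binomial hr.out.ne_zero h hfi
    refine Or.inr ⟨dvd_sub_one_iff.2 he, ⟨_, hn⟩, fun i => by rw [hfi i, natDegree_X_pow_sub_C], fun hv => ?_⟩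
    exact no_bad hn0 hn hv hp (hdet.symm.trans x.2)

/-- An element with all invariant dimensions divisible by the prime. -/
theorem exists_bad {n r : ℕ} [hr : Fact r.Prime] (hn0 : n ≠ 0) (he : orderOf (Fintype.card F : ZMod r) = 1)
    (hv : ¬ (padicValNat r n ≤ padicValNat r (Fintype.card F - 1) ∧ (r = 2 → Even n → Fintype.card F % 4 = 1))) :
    ∃ (x : Matrix.SpecialLinearGroup (Fin n) F) (c : F), (x : Matrix (Fin n) (Fin n) F) ^ r = c • 1 ∧
      (∀ z : F, (x : Matrix (Fin n) (Fin n) F) ≠ z • 1) ∧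
      ∀ W : Submodule F (Fin n → F), W.map (Matrix.toLin' (x : Matrix (Fin n) (Fin n) F)) ≤ W → r ∣ finrank F W := by
  obtain ⟨k, hk, c, hc, hdet⟩ := exists_bad_scalar hn0 (dvd_sub_one_iff.1 he) hv
  obtain ⟨A, hA⟩ := CanonicalForm.exists_matrix (n := n) (fun _ : ULift.{u} (Fin k) => X ^ r - C c)
    (fun _ => monic_X_pow_sub_C c hr.out.ne_zero) (by
      rw [Finset.sum_const, Finset.card_univ, natDegree_X_pow_sub_C, smul_eq_mul, Fintype.card_ulift, Fintype.card_fin, hk, mul_comm])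
  have hd := (det_binomial hr.out.ne_zero hA fun _ => rfl).2
  rw [Fintype.card_ulift, Fintype.card_fin, hdet] at hd
  have hAr : A ^ r = c • 1 := by
    have h1 := (hA.aeval_eq_zero_iff (X ^ r - C c)).2 fun _ => dvd_rfl
    rwa [map_sub, map_pow, aeval_X, aeval_C, Algebra.algebraMap_eq_smul_one, sub_eq_zero] at h1
  refine ⟨⟨A, hd⟩, c, hAr, fun z hz => ?_, fun W hW => dvd_finrank hc hAr W hW⟩
  haveI : NeZero n := ⟨hn0⟩
  have h1 : z ^ r • (1 : Matrix (Fin n) (Fin n) F) = c • 1 := by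
    rw [← hAr, show A = z • 1 from hz, _root_.smul_pow, one_pow]
  have h2 := congrFun (congrFun h1 0) 0
  simp at h2
  exact hc z h2

/-- An element of prime order with a small fixed space. -/
theorem exists_small_fixed {n r : ℕ} [hr : Fact r.Prime] (hrF : (r : F) ≠ 0) (hrq : ¬ r ∣ Fintype.card F)
    (he : 2 ≤ orderOf (Fintype.card F : ZMod r)) (hen : orderOf (Fintype.card F : ZMod r) ≤ n) :
    ∃ x : Matrix.SpecialLinearGroup (Fin n) F, (x : Matrix (Fin n) (Fin n) F) ^ r = 1 ∧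
      (∀ z : F, (x : Matrix (Fin n) (Fin n) F) ≠ z • 1) ∧
      ∃ K : Submodule F (Fin n → F), finrank F K ≤ n % orderOf (Fintype.card F : ZMod r) ∧
        ∀ W : Submodule F (Fin n → F), W.map (Matrix.toLin' (x : Matrix (Fin n) (Fin n) F)) ≤ W →
          finrank F W ≡ finrank F ↥(W ⊓ K) [MOD orderOf (Fintype.card F : ZMod r)] := by
  classical
  set e := orderOf (Fintype.card F : ZMod r)
  obtain ⟨g, hgm, hgi, hgd⟩ := exists_monic_irreducible_factor (cyclotomic r F) (not_isUnit_of_natDegree_pos _ (by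
    rw [natDegree_cyclotomic, Nat.totient_prime hr.out]
    exact Nat.sub_pos_of_lt hr.out.one_lt))
  have hg1 : g ≠ X - C 1 := fun h => by
    have h1 : IsRoot (cyclotomic r F) 1 := dvd_iff_isRoot.1 (h ▸ hgd)
    rw [IsRoot, eval_one_cyclotomic_prime] at h1
    exact hrF h1
  have hgX : g ∣ X ^ r - C (1 : F) := by
    rw [C_1]; exact hgd.trans (cyclotomic.dvd_X_pow_sub_one r F)
  have hdeg : g.natDegree = e := (natDegree_of_dvd hrF hgm hgi one_ne_zero ((one_pow r : (1 : F) ^ r = 1).symm ▸ hgX)).resolve_left hg1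
  let ι := ULift.{u} (Fin (n / e)) ⊕ ULift.{u} (Fin (n % e))
  let f : ι → F[X] := Sum.elim (fun _ => g) (fun _ => X - C 1)
  have hf : ∀ i, (f i).Monic := by
    rintro (i | i)
    exacts [hgm, monic_X_sub_C 1]
  obtain ⟨A, hA⟩ := CanonicalForm.exists_matrix (n := n) f hf (by
    simp [ι, f, Fintype.sum_sum_type, hdeg, natDegree_X_sub_C, mul_comm (n / e), Nat.div_add_mod, -map_one])
  have hAr : A ^ r = 1 := by
    have h1 := (hA.aeval_eq_zero_iff (X ^ r - C (1 : F))).2 (by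
      rintro (i | i)
      · exact hgX
      · exact dvd_iff_isRoot.2 (by simp))
    rwa [map_sub, map_pow, aeval_X, aeval_C, map_one, sub_eq_zero] at h1
  have hdet : A.det = 1 := by
    have h := congrArg Matrix.det hAr
    rw [Matrix.det_pow, Matrix.det_one] at h
    by_contra hne
    have h2 : r ∣ Fintype.card F - 1 := by
      rw [← orderOf_eq_prime h hne]
      exact orderOf_dvd_of_pow_eq_one (FiniteField.pow_card_sub_one_eq_one _ fun h0 => by
        rw [h0, zero_pow hr.out.ne_zero] at h; exact zero_ne_one h)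
    have := dvd_sub_one_iff.2 h2
    omega
  refine ⟨⟨A, hdet⟩, hAr, fun z hz => ?_, LinearMap.ker (Matrix.toLin' A - 1), ?_, fun W hW => finrank_modEq hrq hAr W hW⟩
  · have h1 := (hA.aeval_eq_zero_iff (X - C z)).1 (by
      rw [map_sub, aeval_X, aeval_C, Algebra.algebraMap_eq_smul_one]; exact sub_eq_zero.2 hz)
    have h2 := natDegree_le_of_dvd (h1 (Sum.inl ⟨⟨0, Nat.div_pos hen (by omega)⟩⟩)) (X_sub_C_ne_zero z)
    rw [natDegree_X_sub_C, show f (Sum.inl ⟨⟨0, Nat.div_pos hen (by omega)⟩⟩) = g from rfl, hdeg] at h2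
    omega
  · obtain ⟨Ψ, hΨ⟩ := hA
    haveI : ∀ i, Module.Finite F (AdjoinRoot (f i)) := fun i => (hf i).finite_adjoinRoot
    haveI : Fact (Irreducible g) := ⟨hgi⟩
    let L : LinearMap.ker (Matrix.toLin' A - 1) →ₗ[F] ∀ i : ULift.{u} (Fin (n % e)), AdjoinRoot (f (Sum.inr i)) :=
      LinearMap.pi fun i => ((LinearMap.proj (Sum.inr i : ι)).comp Ψ.toLinearMap).comp (Submodule.subtype _)
    have hL : Function.Injective L := (injective_iff_map_eq_zero _).2 fun v hv => by
      refine Subtype.ext (Ψ.injective (funext fun i => ?_))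
      rw [Submodule.coe_zero, map_zero, Pi.zero_apply]
      rcases i with i | i
      · have h1 : A.mulVec (v : Fin n → F) = v := by
          have := LinearMap.mem_ker.1 v.2
          rwa [LinearMap.sub_apply, Matrix.toLin'_apply, Module.End.one_apply, sub_eq_zero] at this
        have h2 := hΨ v (Sum.inl i)
        rw [h1] at h2
        have h3 : (AdjoinRoot.root g - 1) * (show AdjoinRoot g from Ψ v (Sum.inl i)) = 0 := by
          rw [sub_mul, one_mul, sub_eq_zero]; exact h2.symm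
        refine (mul_eq_zero.1 h3).resolve_left fun h4 => hg1 ?_
        have h5 : AdjoinRoot.mk g (X - C 1) = 0 := by rw [map_sub, AdjoinRoot.mk_X, C_1, map_one]; exact h4
        exact eq_of_monic_of_associated hgm (monic_X_sub_C 1) (hgi.associated_of_dvd (irreducible_X_sub_C 1) (AdjoinRoot.mk_eq_zero.1 h5))
      · exact congrFun hv i
    refine (LinearMap.finrank_le_finrank_of_injective hL).trans_eq ?_
    rw [Module.finrank_pi_fintype, Finset.sum_congr rfl (g := fun _ => 1), Finset.sum_const, Finset.card_univ, Fintype.card_ulift,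
      Fintype.card_fin, smul_eq_mul, mul_one]
    intro i _
    rw [(AdjoinRoot.powerBasis' (hf (Sum.inr i))).finrank]
    exact natDegree_X_sub_C 1

end Cfsg.Lib.Linear.PrimeCriteria
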