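import Cfsg.Agent.Lib.Linear.OrthBlocksMax

/-!
# Decompositions as in the geometric classes
-/

set_option autoImplicit false

namespace Cfsg.Lib.Linear.Orth

open Module

variable {ι : Type} [Fintype ι] [DecidableEq ι] {F : Type*} [Field F]
  {Q : (ι → F) → F} {B : LinearMap.BilinForm F (ι → F)}
  {t : ℕ} {D : Fin t → Submodule F (ι → F)} {k : ℕ}

omit [DecidableEq ι] in
theorem decomp_card (h : Cfsg.Geo.IsMDecomposition k D) : Fintype.card ι = t * k := by
  classical
  have hint := DirectSum.isInternal_submodule_of_iSupIndep_of_iSup_eq_top h.indep h.iSup_eq_top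
  have e := (LinearEquiv.ofBijective (DirectSum.coeLinearMap D) hint).finrank_eq
  rw [finrank_fintype_fun_eq_card, Module.finrank_directSum] at e
  rw [← e]
  simp [h.finrank_eq]

theorem blocks_of_geo (C : Space Q B) (h2 : (2 : F) ≠ 0) (hk : 3 ≤ k)
    (hD : Cfsg.Geo.IsOrthogonalMDecomposition Q k D) : Blocks Q B D k where
  space := C
  two := h2
  dim3 := hk
  nd i := ndeg_of_geo C (hD.decomp.nondegenerate i)
  orth i j h u hu w hw := by rw [← C.polar]; exact hD.decomp.orthogonal i j h u hu w hw
  top := hD.decomp.decomp.iSup_eq_top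
  dim := hD.decomp.decomp.finrank_eq
  two_le := hD.decomp.decomp.two_le
  isom := fun _ => hD.isometric

/-- Two blocks need not be isometric. -/
theorem blocks_of_pair {D : Fin 2 → Submodule F (ι → F)} (C : Space Q B) (h2 : (2 : F) ≠ 0)
    (hk : 3 ≤ k) (hD : Cfsg.Geo.IsNondegenerateMDecomposition (QuadraticMap.polar Q) k D) :
    Blocks Q B D k where
  space := C
  two := h2
  dim3 := hk
  nd i := ndeg_of_geo C (hD.nondegenerate i)
  orth i j h u hu w hw := by rw [← C.polar]; exact hD.orthogonal i j h u hu w hw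
  top := hD.decomp.iSup_eq_top
  dim := hD.decomp.finrank_eq
  two_le := le_rfl
  isom := fun h => absurd h (by omega)

theorem exists_mu [Fintype F] (h : 4 ≤ Fintype.card F) : ∃ μ : F, μ ≠ 0 ∧ μ ^ 2 ≠ 1 := by
  classical
  by_contra hne
  push Not at hne
  have hle : (Finset.univ : Finset F) ⊆ {0, 1, -1} := fun x _ => by
    by_cases hx : x = 0
    · simp [hx]
    · rcases sq_eq_one_iff.mp (hne x hx) with rfl | rfl <;> simp
  have := (Finset.card_le_card hle).trans Finset.card_le_three
  rw [Finset.card_univ] at this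
  omega

end Cfsg.Lib.Linear.Orth
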