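import Cfsg.Agent.Lib.Linear.OrthRule

/-!
# An orthogonal decomposition into two non-degenerate parts

`Split Q B U W`: the space is the orthogonal sum of `U` and `W`.  The tools to show that a
subgroup containing the stabiliser and a root element mixing the parts is all of `Ω`.
-/

set_option autoImplicit false

namespace Cfsg.Lib.Linear.Orth

open Module
open scoped Matrix

variable {ι : Type} [Fintype ι] [DecidableEq ι] {F : Type*} [Field F]
  {Q : (ι → F) → F} {B : LinearMap.BilinForm F (ι → F)}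

/-- An orthogonal decomposition into non-degenerate parts. -/
structure Split (Q : (ι → F) → F) (B : LinearMap.BilinForm F (ι → F))
    (U W : Submodule F (ι → F)) : Prop where
  ndU : NDeg B U
  ndW : NDeg B W
  orth : ∀ u ∈ U, ∀ w ∈ W, B u w = 0
  sup : U ⊔ W = ⊤

section

variable (C : Space Q B) {U W : Submodule F (ι → F)} (S : Split Q B U W)

include C S

theorem Split.swap : Split Q B W U :=
  ⟨S.ndW, S.ndU, fun w hw u hu => by rw [C.symm]; exact S.orth u hu w hw,
    by rw [sup_comm]; exact S.sup⟩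

theorem Split.parts (x : ι → F) : ∃ u ∈ U, ∃ w ∈ W, x = u + w := by
  obtain ⟨u, hu, w, hw, e⟩ := Submodule.mem_sup.mp (S.sup ▸ Submodule.mem_top : x ∈ U ⊔ W)
  exact ⟨u, hu, w, hw, e.symm⟩

theorem Split.B_left {a u w : ι → F} (ha : a ∈ U) (hw : w ∈ W) : B a (u + w) = B a u := by
  rw [map_add, S.orth a ha w hw, add_zero]

theorem Split.mem_U_iff {x : ι → F} : x ∈ U ↔ ∀ w ∈ W, B w x = 0 := by
  refine ⟨fun hx w hw => by rw [C.symm]; exact S.orth x hx w hw, fun h => ?_⟩
  obtain ⟨u, hu, w, hw, rfl⟩ := S.parts C x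
  have hw0 : w = 0 := S.ndW w hw fun w' hw' => by
    have := h w' hw'
    rwa [map_add, C.symm w' u, S.orth u hu w' hw', zero_add, C.symm] at this
  rwa [hw0, add_zero]

theorem Split.disj {x : ι → F} (h1 : x ∈ U) (h2 : x ∈ W) : x = 0 :=
  S.ndU x h1 fun y hy => by rw [C.symm]; exact S.orth y hy x h2

theorem Split.eq_parts {u u' w w' : ι → F} (hu : u ∈ U) (hu' : u' ∈ U) (hw : w ∈ W)
    (hw' : w' ∈ W) (h : u + w = u' + w') : u = u' ∧ w = w' := by
  have h1 : u - u' = w' - w := by rw [sub_eq_sub_iff_add_eq_add, h, add_comm]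
  have h2 : u - u' = 0 := S.disj C (U.sub_mem hu hu') (h1 ▸ W.sub_mem hw' hw)
  exact ⟨sub_eq_zero.mp h2, (sub_eq_zero.mp (h2 ▸ h1).symm).symm⟩

theorem Split.finrank_add : finrank F U + finrank F W = Fintype.card ι := by
  have h := Submodule.finrank_sup_add_finrank_inf_eq U W
  have h0 : U ⊓ W = ⊥ := eq_bot_iff.mpr fun x hx =>
    (Submodule.mem_bot F).mpr (S.disj C hx.1 hx.2)
  rw [S.sup, h0, finrank_bot, finrank_top, finrank_fintype_fun_eq_card] at h
  omega

end

/-! ## Hyperbolic pairs perpendicular to a small subspace -/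

/-- The vectors of `U` perpendicular to `A`. -/
def perpIn (B : LinearMap.BilinForm F (ι → F)) (U A : Submodule F (ι → F)) :
    Submodule F (ι → F) where
  carrier := {x | x ∈ U ∧ ∀ a ∈ A, B a x = 0}
  add_mem' := fun hx hy => ⟨U.add_mem hx.1 hy.1,
    fun a ha => by rw [map_add, hx.2 a ha, hy.2 a ha, add_zero]⟩
  zero_mem' := ⟨U.zero_mem, fun _ _ => map_zero _⟩
  smul_mem' := fun c _ hx => ⟨U.smul_mem c hx.1,
    fun a ha => by rw [map_smul, hx.2 a ha, smul_zero]⟩

theorem mem_perpIn {U A : Submodule F (ι → F)} {x : ι → F} :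
    x ∈ perpIn B U A ↔ x ∈ U ∧ ∀ a ∈ A, B a x = 0 := Iff.rfl

theorem finrank_perpIn (U A : Submodule F (ι → F)) :
    finrank F U ≤ finrank F (perpIn B U A) + finrank F A := by
  let Φ : U →ₗ[F] Module.Dual F A :=
    { toFun := fun u => (B.flip (u : ι → F)).comp A.subtype
      map_add' := fun a b => by ext; simp
      map_smul' := fun c a => by ext; simp }
  have h1 := LinearMap.finrank_range_add_finrank_ker Φ
  have h2 := Submodule.finrank_le (LinearMap.range Φ)
  rw [Subspace.dual_finrank_eq] at h2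
  have h3 : (LinearMap.ker Φ).map U.subtype ≤ perpIn B U A := by
    rintro _ ⟨u, hu, rfl⟩
    exact ⟨u.2, fun a ha => LinearMap.congr_fun (LinearMap.mem_ker.mp hu) ⟨a, ha⟩⟩
  have h4 := Submodule.finrank_mono h3
  rw [(Submodule.equivMapOfInjective _ U.injective_subtype _).finrank_eq.symm] at h4
  omega

/-- A vector of `U` with prescribed pairings. -/
theorem exists_perpIn (C : Space Q B) {U W : Submodule F (ι → F)} (S : Split Q B U W)
    {A : Submodule F (ι → F)} (hA : A ≤ U) {x : ι → F} (hxU : x ∈ U) (hx : x ∉ A) :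
    ∃ z ∈ perpIn B U A, B x z = 1 := by
  obtain ⟨y, hy, hxy⟩ := C.exists_perp hx
  obtain ⟨u, hu, w, hw, rfl⟩ := S.parts C y
  exact ⟨u, ⟨hu, fun a ha => by rw [← S.B_left C (hA ha) hw]; exact hy a ha⟩,
    by rwa [S.B_left C hxU hw] at hxy⟩

theorem exists_hyp_perpIn [Finite F] (C : Space Q B) {U W : Submodule F (ι → F)}
    (S : Split Q B U W) {A : Submodule F (ι → F)} (hA : A ≤ U)
    (hdim : 2 * finrank F A + 3 ≤ finrank F U) :
    ∃ e f, Hyp Q B (perpIn B U A) e f ∧ e ∉ A ∧ f ∉ A := by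
  obtain ⟨A', hA'⟩ := A.exists_isCompl
  obtain ⟨e, he, he0, hQe⟩ := Sing.exists_singular C.smul C.polar (perpIn B U A ⊓ A') (by
    have h1 := Submodule.finrank_sup_add_finrank_inf_eq (perpIn B U A) A'
    have h2 : perpIn B U A ⊔ A' ≤ ⊤ := le_top
    have h3 := Submodule.finrank_mono h2
    have h4 := Submodule.finrank_add_eq_of_isCompl hA'
    have h5 := finrank_perpIn (B := B) U A
    rw [finrank_top, finrank_fintype_fun_eq_card] at h3
    rw [finrank_fintype_fun_eq_card] at h4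
    omega)
  obtain ⟨heP, heA'⟩ := Submodule.mem_inf.mp he
  have heA : e ∉ A := fun h => he0 (by
    have : e ∈ A ⊓ A' := ⟨h, heA'⟩
    rwa [hA'.inf_eq_bot, Submodule.mem_bot] at this)
  obtain ⟨z, hz, hez⟩ := exists_perpIn C S hA heP.1 heA
  have hH : Hyp Q B (perpIn B U A) e (z - Q z • e) := by
    refine ⟨heP, Submodule.sub_mem _ hz (Submodule.smul_mem _ _ heP), hQe, ?_, ?_⟩
    · rw [sub_eq_add_neg, ← neg_smul, C.add, C.smul, hQe, map_smul, C.symm z e, hez]
      simp
    · rw [map_sub, map_smul, hez, C.self_zero hQe]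
      simp
  refine ⟨e, _, hH, heA, fun h => ?_⟩
  have := heP.2 _ h
  rw [C.symm, hH.pair] at this
  exact one_ne_zero this

theorem Hyp.span (C : Space Q B) {U : Submodule F (ι → F)} {e f : ι → F} (h : Hyp Q B U e f) :
    U ≤ Submodule.span F {w | w ∈ U ∧ Q w = 0} := by
  intro x hx
  set T := Submodule.span F {w | w ∈ U ∧ Q w = 0}
  have hsub : ∀ w, w ∈ U → Q w = 0 → w ∈ T := fun w h1 h2 => Submodule.subset_span ⟨h1, h2⟩
  set w := x - B f x • e - B e x • f with hw
  obtain ⟨hwU, hew, hfw⟩ := mem_perp2.mp (h.proj C hx)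
  rw [← hw] at hwU hew hfw
  have hsing : Q (w + (f - Q w • e)) = 0 := by
    rw [C.add, map_sub, map_smul, C.symm w f, hfw, C.symm w e, hew, sub_eq_add_neg f, ← neg_smul,
      C.add, C.smul, h.singE, h.singF, map_smul, h.pair' C]
    simp
  rw [show x = (w + (f - Q w • e)) - f + Q w • e + B f x • e + B e x • f by rw [hw]; module]
  exact T.add_mem (T.add_mem (T.add_mem (T.sub_mem
    (hsub _ (U.add_mem hwU (U.sub_mem h.memF (U.smul_mem _ h.memE))) hsing)
    (hsub _ h.memF h.singF)) (T.smul_mem _ (hsub _ h.memE h.singE)))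
    (T.smul_mem _ (hsub _ h.memE h.singE))) (T.smul_mem _ (hsub _ h.memF h.singF))

/-- A singular vector of `U` perpendicular to `A` and pairing to one with `x`. -/
theorem exists_sing_perpIn [Finite F] (C : Space Q B) {U W : Submodule F (ι → F)}
    (S : Split Q B U W) {A : Submodule F (ι → F)} (hA : A ≤ U)
    (hdim : 2 * finrank F A + 3 ≤ finrank F U) {x : ι → F} (hxU : x ∈ U) (hx : x ∉ A) :
    ∃ u ∈ perpIn B U A, Q u = 0 ∧ B x u = 1 := by
  obtain ⟨z, hz, hxz⟩ := exists_perpIn C S hA hxU hx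
  obtain ⟨e, f, hH, -⟩ := exists_hyp_perpIn C S hA hdim
  obtain ⟨w, hw, hwx⟩ : ∃ w, (w ∈ perpIn B U A ∧ Q w = 0) ∧ B x w ≠ 0 := by
    by_contra hne
    push Not at hne
    have := (Submodule.span_le (p := LinearMap.ker (B x))).mpr
      (fun w hw => LinearMap.mem_ker.mpr (hne w hw)) (hH.span C hz)
    rw [LinearMap.mem_ker, hxz] at this
    exact one_ne_zero this
  exact ⟨(B x w)⁻¹ • w, Submodule.smul_mem _ _ hw.1, by rw [C.smul, hw.2, mul_zero],
    by rw [map_smul, smul_eq_mul, inv_mul_cancel₀ hwx]⟩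

theorem finrank_span_pair_le (a b : ι → F) : finrank F (Submodule.span F {a, b}) ≤ 2 := by
  classical
  have h := finrank_span_finset_le_card (R := F) ({a, b} : Finset (ι → F))
  rw [Finset.coe_pair] at h
  exact h.trans Finset.card_le_two

/-- A vector of `U` of given norm and pairing. -/
theorem exists_norm_pair [Finite F] (C : Space Q B) {U W : Submodule F (ι → F)}
    (S : Split Q B U W) (h7 : 7 ≤ finrank F U) {x : ι → F} (hxU : x ∈ U) (hx : x ≠ 0) (c β : F) :
    ∃ y ∈ U, y ≠ 0 ∧ Q y = c ∧ B x y = β := by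
  obtain ⟨z, hz, hxz⟩ := exists_perpIn C S (bot_le : (⊥ : Submodule F (ι → F)) ≤ U) hxU
    (by simpa using hx)
  obtain ⟨e, f, hH, -⟩ := exists_hyp_perpIn C S
    (A := Submodule.span F {x}) ((Submodule.span_singleton_le_iff_mem x U).mpr hxU)
    (by rw [finrank_span_singleton hx]; omega)
  have hxe := hH.memE.2 x (Submodule.mem_span_singleton_self x)
  have hxf := hH.memF.2 x (Submodule.mem_span_singleton_self x)
  set z' := β • z - B f (β • z) • e - B e (β • z) • f with hz'
  have hzU : z' ∈ U := U.sub_mem (U.sub_mem (U.smul_mem _ hz.1) (U.smul_mem _ hH.memE.1))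
    (U.smul_mem _ hH.memF.1)
  have hez : B e z' = 0 := by rw [hz']; simp [C.self_zero hH.singE, hH.pair]
  have hfz : B f z' = 0 := by rw [hz']; simp [C.self_zero hH.singF, hH.pair' C]
  refine ⟨z' + (f + (c - Q z') • e), U.add_mem hzU (U.add_mem hH.memF.1 (U.smul_mem _ hH.memE.1)),
    fun h0 => ?_, ?_, ?_⟩
  · have h1 := congrArg (B e) h0
    simp [hez, C.self_zero hH.singE, hH.pair] at h1
  · rw [C.add, map_add, map_smul, C.symm z' e, C.symm z' f, hez, hfz, C.add, C.smul, hH.singE,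
      hH.singF, map_smul, hH.pair' C]
    simp
  · rw [hz']
    simp [hxe, hxf, hxz]

/-! ## Invariant subspaces of the orthogonal group of `W` -/

theorem invariant_eq [Finite F] (C : Space Q B) {U W : Submodule F (ι → F)} (S : Split Q B U W)
    (hex : (∀ x ∈ W, Q x = 0 → x = 0) ∨ 3 ≤ finrank F W ∨ 4 ≤ Nat.card F)
    {M : Submodule F (ι → F)} (hMW : M ≤ W) {w0 : ι → F} (hw0 : w0 ∈ M) (hw00 : w0 ≠ 0)
    (hr : ∀ v ∈ W, Q v ≠ 0 → ∀ x ∈ M, (rGL Q v).val *ᵥ x ∈ M)
    (hs : ∀ u ∈ W, ∀ a ∈ W, Q u = 0 → B u a = 0 → ∀ x ∈ M, (sGL Q B u a).val *ᵥ x ∈ M) :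
    M = W := by
  set N := perpIn B W M with hN
  have hside : ∀ v ∈ W, Q v ≠ 0 → v ∈ M ∨ v ∈ N := by
    intro v hv hQv
    by_cases h : ∀ x ∈ M, B v x = 0
    · exact Or.inr ⟨hv, fun x hx => by rw [C.symm]; exact h x hx⟩
    push Not at h
    obtain ⟨x, hx, hvx⟩ := h
    left
    have h1 := M.sub_mem hx (hr v hv hQv x hx)
    rw [rGL_act C hQv, sub_sub_cancel] at h1
    exact (Submodule.smul_mem_iff M (mul_ne_zero (inv_ne_zero hQv) hvx)).mp h1
  have hspan : ∀ T : Submodule F (ι → F), (∀ v ∈ W, Q v ≠ 0 → v ∈ T) → W ≤ T := by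
    intro T hT x hx
    by_cases hQx : Q x ≠ 0
    · exact hT x hx hQx
    push Not at hQx
    by_cases hx0 : x = 0
    · exact hx0 ▸ T.zero_mem
    obtain ⟨f, hf⟩ := exists_hyp C S.ndW hx hx0 hQx
    have hval : ∀ a : F, Q (a • x + f) = a := fun a => by
      rw [C.add, C.smul, hQx, hf.singF, map_smul, LinearMap.smul_apply, hf.pair]
      simp
    by_cases h2 : ∃ a : F, a ≠ 0 ∧ a ≠ 1
    · obtain ⟨a, ha0, ha1⟩ := h2
      have h1 := hT _ (W.add_mem (W.smul_mem (1 : F) hx) hf.memF) (by rw [hval]; exact one_ne_zero)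
      have h3 := hT _ (W.add_mem (W.smul_mem a hx) hf.memF) (by rw [hval]; exact ha0)
      have h4 := T.sub_mem h3 h1
      rw [show a • x + f - ((1 : F) • x + f) = (a - 1) • x by module] at h4
      exact (Submodule.smul_mem_iff T (sub_ne_zero.mpr ha1)).mp h4
    push Not at h2
    have hcard : Nat.card F ≤ 2 := by
      classical
      have := Fintype.ofFinite F
      rw [Nat.card_eq_fintype_card, ← Finset.card_univ]
      refine le_trans (Finset.card_le_card (t := {0, 1}) fun a _ => ?_) Finset.card_le_two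
      by_cases ha : a = 0 <;> simp [ha, h2 a]
    have h3 : 3 ≤ finrank F W := by
      rcases hex with h | h | h
      · exact absurd (h x hx hQx) hx0
      · exact h
      · omega
    obtain ⟨z, hz, hQz⟩ := exists_nonsing C (hf.ndeg C S.ndW) (fun h => by
      have := hf.le_finrank C
      rw [h, finrank_bot] at this
      omega)
    obtain ⟨hzW, hxz, -⟩ := mem_perp2.mp hz
    have h5 := T.sub_mem (hT _ (W.add_mem hx hzW) (by rwa [C.add, hQx, hxz, zero_add, add_zero]))
      (hT z hzW hQz)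
    simpa using h5
  refine le_antisymm hMW (hspan M fun v hv hQv => ?_)
  by_contra hvM
  have hvN := (hside v hv hQv).resolve_left hvM
  obtain ⟨m, hm, hQm, hmN⟩ : ∃ m ∈ W, Q m ≠ 0 ∧ m ∉ N := by
    by_contra hne
    push Not at hne
    refine hw00 (S.ndW w0 (hMW hw0) fun y hy => ?_)
    exact (hspan N hne hy).2 w0 hw0
  have hmM := (hside m hm hQm).resolve_right hmN
  have hmv : B m v = 0 := hvN.2 m hmM
  have hsing : ∀ t : F, t ≠ 0 → Q (m + t • v) = 0 := fun t ht => by
    by_contra h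
    rcases hside _ (W.add_mem hm (W.smul_mem t hv)) h with h1 | h1
    · exact hvM ((Submodule.smul_mem_iff M ht).mp (by simpa using M.sub_mem h1 hmM))
    · exact hmN (by simpa using N.sub_mem h1 (N.smul_mem t hvN))
  have h1 := hsing 1 one_ne_zero
  rw [one_smul] at h1
  by_cases h2 : (2 : F) = 0
  · obtain ⟨a, ha, hma⟩ := exists_perpIn C (S.swap C) (A := Submodule.span F {m + v})
      ((Submodule.span_singleton_le_iff_mem _ W).mpr (W.add_mem hm hv)) hm (fun h => by
        obtain ⟨c, hc⟩ := Submodule.mem_span_singleton.mp h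
        by_cases hc0 : c = 0
        · exact hQm (by rw [← hc, hc0, zero_smul, C.zero])
        · rw [smul_add] at hc
          have hcv : c • v = (1 - c) • m := by linear_combination (norm := module) hc
          exact hvM ((Submodule.smul_mem_iff M hc0).mp (hcv ▸ M.smul_mem _ hmM)))
    have hea := ha.2 _ (Submodule.mem_span_singleton_self _)
    have := hs _ (W.add_mem hm hv) a ha.1 h1 hea m hmM
    rw [sGL_act C h1 hea, C.symm a m, hma, C.symm (m + v) m, map_add, hmv, C.self, h2] at this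
    simp only [zero_mul, add_zero, zero_smul, mul_zero, one_smul, sub_add_cancel_left] at this
    exact hvM (by simpa using this)
  rcases hex with h | h | h
  · have h0 := h _ (W.add_mem hm hv) h1
    exact hvM (by rw [eq_neg_of_add_eq_zero_right h0]; exact M.neg_mem hmM)
  · obtain ⟨z, hz, hzne, hzm, hzv⟩ : ∃ z ∈ W, z ≠ 0 ∧ B m z = 0 ∧ B v z = 0 := by
      have h5 := finrank_perpIn (B := B) W (Submodule.span F {m, v})
      have h6 := finrank_span_pair_le m v
      obtain ⟨z, hz, hz0⟩ := Submodule.exists_mem_ne_zero_of_ne_bot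
        (p := perpIn B W (Submodule.span F {m, v})) (fun h' => by rw [h', finrank_bot] at h5; omega)
      exact ⟨z, hz.1, hz0, hz.2 m (Submodule.subset_span (by simp)),
        hz.2 v (Submodule.subset_span (by simp))⟩
    obtain ⟨a, ha, hQa, hma, hva⟩ : ∃ a ∈ W, Q a ≠ 0 ∧ B m a = 0 ∧ B v a = 0 := by
      by_contra hne
      push Not at hne
      have hQz : Q z = 0 := by
        by_contra h0
        exact hne z hz h0 hzm hzv
      refine hzne (S.ndW z hz fun y hy => ?_)
      set y' := y - (B m y / (2 * Q m)) • m - (B v y / (2 * Q v)) • v with hy'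
      have hy'W : y' ∈ W := W.sub_mem (W.sub_mem hy (W.smul_mem _ hm)) (W.smul_mem _ hv)
      have hm2 : (2 : F) * Q m ≠ 0 := mul_ne_zero h2 hQm
      have hv2 : (2 : F) * Q v ≠ 0 := mul_ne_zero h2 hQv
      have e1 : B m y' = 0 := by
        rw [hy']; simp only [map_sub, map_smul, hmv, C.self, smul_eq_mul]; field_simp; ring
      have e2 : B v y' = 0 := by
        rw [hy']; simp only [map_sub, map_smul, C.symm v m, hmv, C.self, smul_eq_mul]
        field_simp; ring
      have e3 : B z y' = B z y := by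
        rw [hy']; simp [C.symm z m, hzm, C.symm z v, hzv]
      have q1 : Q y' = 0 := by
        by_contra h0
        exact hne y' hy'W h0 e1 e2
      have q2 : Q (z + y') = 0 := by
        by_contra h0
        exact hne _ (W.add_mem hz hy'W) h0 (by rw [map_add, hzm, e1, add_zero])
          (by rw [map_add, hzv, e2, add_zero])
      rw [C.add, hQz, q1, e3] at q2
      simpa using q2
    have hQ : Q (m + v + a) ≠ 0 := by
      rwa [C.add, h1, map_add, LinearMap.add_apply, hma, hva, zero_add, add_zero, add_zero]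
    rcases hside _ (W.add_mem (W.add_mem hm hv) ha) hQ with h5 | h5
    · have := hvN.2 _ h5
      rw [map_add, LinearMap.add_apply, map_add, LinearMap.add_apply, hmv, C.self, C.symm a v,
        hva] at this
      simp [h2, hQv] at this
    · have := h5.2 m hmM
      rw [map_add, map_add, hmv, C.self, hma] at this
      simp [h2, hQm] at this
  · have key : ∀ t : F, t ≠ 0 → t = 1 ∨ t = -1 := fun t ht => by
      have h5 := hsing t ht
      have h6 : Q v * (t ^ 2 - 1) = 0 := by
        rw [C.add, C.smul, map_smul, hmv, smul_zero, add_zero] at h5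
        rw [C.add, hmv, add_zero] at h1
        linear_combination h5 - h1
      exact sq_eq_one_iff.mp (sub_eq_zero.mp ((mul_eq_zero.mp h6).resolve_left hQv))
    classical
    have := Fintype.ofFinite F
    have hle : (Finset.univ : Finset F) ⊆ {0, 1, -1} := fun t _ => by
      by_cases ht : t = 0
      · simp [ht]
      · rcases key t ht with rfl | rfl <;> simp
    have h5 := (Finset.card_le_card hle).trans Finset.card_le_three
    rw [Finset.card_univ, ← Nat.card_eq_fintype_card] at h5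
    omega

/-! ## Subgroups containing the stabiliser -/

/-- `H` contains the root elements of `U` and of `W`, and every reflection of `W` is induced by an
element of `H` preserving `U`. -/
structure SplitCtx (Q : (ι → F) → F) (B : LinearMap.BilinForm F (ι → F))
    (H : Subgroup (GL ι F)) (U W : Submodule F (ι → F)) : Prop where
  space : Space Q B
  split : Split Q B U W
  big : 7 ≤ finrank F U
  le_iso : H ≤ isometryGroup F Q
  rootU : Root Q B U ≤ H
  rootW : Root Q B W ≤ H
  lift : ∀ v ∈ W, Q v ≠ 0 → ∃ h ∈ H, (∀ u ∈ U, h.val *ᵥ u ∈ U) ∧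
    ∀ x ∈ W, h.val *ᵥ x = (rGL Q v).val *ᵥ x

/-- The vectors `a` whose root elements with centre `y` lie in `H`. -/
def rootsAt (Q : (ι → F) → F) (B : LinearMap.BilinForm F (ι → F)) (C : Space Q B)
    (H : Subgroup (GL ι F)) (y : ι → F) (hy : Q y = 0) : Submodule F (ι → F) where
  carrier := {a | B y a = 0 ∧ ∀ c : F, sGL Q B y (c • a) ∈ H}
  add_mem' := fun {a b} ha hb => ⟨by rw [map_add, ha.1, hb.1, add_zero], fun c => by
    rw [smul_add, ← sGL_mul C hy (by rw [map_smul, ha.1, smul_zero])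
      (by rw [map_smul, hb.1, smul_zero])]
    exact mul_mem (ha.2 c) (hb.2 c)⟩
  zero_mem' := ⟨map_zero _, fun c => by
    have h : sGL Q B y (c • (0 : ι → F)) = 1 := gl_ext fun x => by
      rw [sGL_act C hy (by simp), smul_zero, C.zero]; simp
    rw [h]; exact one_mem H⟩
  smul_mem' := fun d a ha => ⟨by rw [map_smul, ha.1, smul_zero], fun c => by
    rw [smul_smul]; exact ha.2 _⟩

theorem mem_rootsAt {C : Space Q B} {H : Subgroup (GL ι F)} {y a : ι → F} {hy : Q y = 0} :
    a ∈ rootsAt Q B C H y hy ↔ B y a = 0 ∧ ∀ c : F, sGL Q B y (c • a) ∈ H := Iff.rfl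

/-- Every singular vector of `U` perpendicular to `y` is paired with `y` in `H`. -/
def GoodPt (Q : (ι → F) → F) (B : LinearMap.BilinForm F (ι → F)) (H : Subgroup (GL ι F))
    (U : Submodule F (ι → F)) (y : ι → F) : Prop :=
  Q y = 0 ∧ ∀ v ∈ U, Q v = 0 → B y v = 0 → RPair Q B H y v

section Ctx

variable [Finite F] {H : Subgroup (GL ι F)} {U W : Submodule F (ι → F)}
  (X : SplitCtx Q B H U W)

include X

theorem SplitCtx.goodPt_act {y : ι → F} (hy : GoodPt Q B H U y) {g : GL ι F} (hg : g ∈ H)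
    (hgU : ∀ u ∈ U, g.val *ᵥ u ∈ U) : GoodPt Q B H U (g.val *ᵥ y) := by
  refine ⟨by rw [mem_iso.mp (X.le_iso hg), hy.1], fun v hv hQv hyv => ?_⟩
  have hv' : (g⁻¹ : GL ι F).val *ᵥ v ∈ U :=
    stab_mem (Subgroup.inv_mem _ (mem_stab_of_mapsTo hgU)) hv
  have := (hy.2 _ hv' (by rw [mem_iso.mp (inv_mem (X.le_iso hg)), hQv])
    (by rw [← X.space.B_act (X.le_iso hg), act_inv]; exact hyv)).conj X.space X.le_iso hg
  rwa [act_inv] at this

theorem SplitCtx.good_span {y yU yW : ι → F} (hy : GoodPt Q B H U y) (hyU : yU ∈ U)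
    (hyW : yW ∈ W) (he : y = yU + yW) : ∀ a ∈ U, B y a = 0 → a ∈ rootsAt Q B X.space H y hy.1 := by
  intro a ha hya
  have hyU' : ∀ v ∈ U, B y v = B yU v := fun v hv => by
    rw [he, X.space.symm, X.split.B_left X.space hv hyW, X.space.symm]
  obtain ⟨e, f, hH, -⟩ := exists_hyp_perpIn X.space X.split
    (A := Submodule.span F {yU}) ((Submodule.span_singleton_le_iff_mem _ U).mpr hyU) (by
      have := finrank_span_pair_le yU yU
      rw [Set.pair_eq_singleton] at this
      have := X.big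
      omega)
  have haP : a ∈ perpIn B U (Submodule.span F {yU}) := ⟨ha, fun b hb => by
    obtain ⟨c, rfl⟩ := Submodule.mem_span_singleton.mp hb
    rw [map_smul, LinearMap.smul_apply, ← hyU' a ha, hya, smul_zero]⟩
  refine (Submodule.span_le.mpr fun v hv => ?_) (hH.span X.space haP)
  obtain ⟨⟨hvU, hvy⟩, hQv⟩ := hv
  have hyv : B y v = 0 := by
    rw [hyU' v hvU]; exact hvy yU (Submodule.mem_span_singleton_self _)
  exact ⟨hyv, (hy.2 v hvU hQv hyv).2.2.2⟩

/-- Two good points that are orthogonal are paired in `H`. -/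
theorem SplitCtx.good_pair {y y' yU yW yU' yW' : ι → F} (hy : GoodPt Q B H U y)
    (hy' : GoodPt Q B H U y') (hyU : yU ∈ U) (hyW : yW ∈ W) (he : y = yU + yW)
    (hyU' : yU' ∈ U) (hyW' : yW' ∈ W) (he' : y' = yU' + yW') (h0 : B y y' = 0) :
    RPair Q B H y y' := by
  have C := X.space
  obtain ⟨e, f, hH, -⟩ := exists_hyp_perpIn C X.split
    (A := Submodule.span F {yU, yU'})
    (Submodule.span_le.mpr (by rintro x (rfl | rfl) <;> assumption)) (by
      have := finrank_span_pair_le yU yU'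
      have := X.big
      omega)
  have hpe : ∀ {v}, v ∈ perpIn B U (Submodule.span F {yU, yU'}) → B y v = 0 ∧ B y' v = 0 :=
    fun {v} hv => ⟨by
      rw [he, C.symm, X.split.B_left C hv.1 hyW, C.symm]
      exact hv.2 yU (Submodule.subset_span (by simp)), by
      rw [he', C.symm, X.split.B_left C hv.1 hyW', C.symm]
      exact hv.2 yU' (Submodule.subset_span (by simp))⟩
  obtain ⟨hye, hy'e⟩ := hpe hH.memE
  obtain ⟨hyf, hy'f⟩ := hpe hH.memF
  exact (RPair.symm C (hy.2 e hH.memE.1 hH.singE hye)).rule C X.le_iso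
    (RPair.symm C (hy'.2 f hH.memF.1 hH.singF hy'f)) hyf h0 (by rw [C.symm]; exact hy'e) hH.pair

/-- A good point off both parts has all its Siegel elements in `H`. -/
theorem SplitCtx.good_centre
    (hex : (∀ x ∈ W, Q x = 0 → x = 0) ∨ 3 ≤ finrank F W ∨ 4 ≤ Nat.card F)
    {y yU yW : ι → F} (hy : GoodPt Q B H U y) (hyU : yU ∈ U) (hyW : yW ∈ W) (he : y = yU + yW)
    (hyU0 : yU ≠ 0) (hyW0 : yW ≠ 0) : Centre Q B H y := by
  have C := X.space
  have S := X.split
  set T := rootsAt Q B C H y hy.1 ⊔ U with hT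
  let Y : Set (ι → F) := {w | ∃ h ∈ H, (∀ u ∈ U, h.val *ᵥ u ∈ U) ∧
    (∀ x ∈ W, h.val *ᵥ x ∈ W) ∧ h.val *ᵥ yW = w}
  have hYW : Y ⊆ W := fun w ⟨h, _, _, hW, e⟩ => e ▸ hW yW hyW
  have hYT : Y ⊆ T := by
    rintro w ⟨h, hh, hhU, hhW, rfl⟩
    have hu1 : h.val *ᵥ yU ∈ U := hhU yU hyU
    obtain ⟨u', hu', hu'0, hQu', hBu'⟩ :=
      exists_norm_pair C S X.big hyU hyU0 (Q yU) (-B yW (h.val *ᵥ yW))
    obtain ⟨k, hk, hku⟩ := trans C S.ndU (by have := X.big; omega) hu1 hu'
      (act_ne_zero hyU0) hu'0 (by rw [mem_iso.mp (X.le_iso hh), hQu'])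
    have hkW : ∀ x ∈ W, k.val *ᵥ x = x := fun x hx =>
      (root_act C hk x).2 fun z hz => S.orth z hz x hx
    have hkh : k * h ∈ H := mul_mem (X.rootU hk) hh
    have hy2 := X.goodPt_act hy hkh fun u hu => by
      rw [mul_act]; exact root_mem_U C hk (hhU u hu)
    have he2 : (k * h).val *ᵥ y = u' + h.val *ᵥ yW := by
      rw [he, mul_act, Matrix.mulVec_add, Matrix.mulVec_add, hku, hkW _ (hhW yW hyW)]
    rw [he2] at hy2
    have hperp : B y (u' + h.val *ᵥ yW) = 0 := by
      rw [he]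
      simp [S.orth yU hyU _ (hhW yW hyW), C.symm yW u', S.orth u' hu' yW hyW, hBu']
    have hp := X.good_pair hy hy2 hyU hyW he hu' (hhW yW hyW) rfl hperp
    rw [show h.val *ᵥ yW = (u' + h.val *ᵥ yW) - u' by abel]
    exact Submodule.sub_mem _ (Submodule.mem_sup_left ⟨hp.2.2.1, hp.2.2.2⟩)
      (Submodule.mem_sup_right hu')
  set M := Submodule.span F Y
  have hMW : M ≤ W := Submodule.span_le.mpr hYW
  have hinv : ∀ g ∈ H, (∀ u ∈ U, g.val *ᵥ u ∈ U) → (∀ x ∈ W, g.val *ᵥ x ∈ W) →
      ∀ x ∈ M, g.val *ᵥ x ∈ M := fun g hg hgU hgW x hx =>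
    (Submodule.span_le (p := M.comap (Matrix.mulVecLin g.val))).mpr
      (show Y ⊆ _ from fun w ⟨h, hh, hhU, hhW, e⟩ => Submodule.subset_span
        ⟨g * h, mul_mem hg hh, fun u hu => by rw [mul_act]; exact hgU _ (hhU u hu),
          fun z hz => by rw [mul_act]; exact hgW _ (hhW z hz), by rw [mul_act, e]; rfl⟩) hx
  have hMeq : M = W := invariant_eq C S hex hMW (w0 := yW)
    (Submodule.subset_span ⟨1, one_mem H, by simp, by simp, by simp⟩) hyW0
    (fun v hv hQv x hx => by
      obtain ⟨g, hg, hgU, hgW⟩ := X.lift v hv hQv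
      rw [← hgW x (hMW hx)]
      refine hinv g hg hgU (fun z hz => ?_) x hx
      rw [hgW z hz, rGL_act C hQv]
      exact W.sub_mem hz (W.smul_mem _ hv))
    (fun u hu a ha hQu hua x hx => by
      have hg := sGL_mem_root hu ha hQu hua
      refine hinv _ (X.rootW hg) (fun z hz => ?_) (fun z hz => root_mem_U C hg hz) x hx
      rw [(root_act C hg z).2 fun w hw => by rw [C.symm]; exact S.orth z hz w hw]
      exact hz)
  have hWT : W ≤ T := hMeq ▸ Submodule.span_le.mpr hYT
  intro a ha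
  have haT : a ∈ T := by
    obtain ⟨u, hu, w, hw, rfl⟩ := S.parts C a
    exact T.add_mem (Submodule.mem_sup_right hu) (hWT hw)
  obtain ⟨r, hr, u, hu, rfl⟩ := Submodule.mem_sup.mp haT
  have hyu : B y u = 0 := by rwa [map_add, hr.1, zero_add] at ha
  have := (Submodule.add_mem _ hr (X.good_span hy hyU hyW he u hu hyu) :
    r + u ∈ rootsAt Q B C H y hy.1).2 1
  rwa [one_smul] at this

/-- A good point off both parts gives `Ω`. -/
theorem SplitCtx.omega_le_of_good
    (hex : (∀ x ∈ W, Q x = 0 → x = 0) ∨ 3 ≤ finrank F W ∨ 4 ≤ Nat.card F)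
    {y yU yW : ι → F} (hy : GoodPt Q B H U y) (hyU : yU ∈ U) (hyW : yW ∈ W) (he : y = yU + yW)
    (hyU0 : yU ≠ 0) (hyW0 : yW ≠ 0) : Cfsg.Geo.omegaGL Q ≤ H := by
  have C := X.space
  have S := X.split
  obtain ⟨u', hu', hu'0, hQu', hBu'⟩ :=
    exists_norm_pair C S X.big hyU hyU0 (Q yU) (1 - B yW yW)
  obtain ⟨k, hk, hku⟩ := trans C S.ndU (by have := X.big; omega) hyU hu' hyU0 hu'0 hQu'.symm
  have hy2 := X.goodPt_act hy (X.rootU hk) fun u hu => root_mem_U C hk hu
  have he2 : k.val *ᵥ y = u' + yW := by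
    rw [he, Matrix.mulVec_add, hku, (root_act C hk yW).2 fun z hz => S.orth z hz yW hyW]
  rw [he2] at hy2
  refine omega_le_of_two C ?_ X.le_iso hy.1 hy2.1 ?_ (X.good_centre hex hy hyU hyW he hyU0 hyW0)
    (X.good_centre hex hy2 hu' hyW rfl hu'0 hyW0)
  · have := S.finrank_add C
    have := X.big
    omega
  · rw [he]
    simp [S.orth yU hyU yW hyW, C.symm yW u', S.orth u' hu' yW hyW, hBu']

theorem SplitCtx.roots_aux {x y xU xW yU yW : ι → F} (hR : RPair Q B H x y) (hxU : xU ∈ U)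
    (hxW : xW ∈ W) (hx : x = xU + xW) (hyU : yU ∈ U) (hyW : yW ∈ W) (hy : y = yU + yW)
    (hind : xU ∉ Submodule.span F {yU}) :
    perpIn B U (Submodule.span F {xU, yU}) ≤ rootsAt Q B X.space H y hR.2.1 ∧
      ∃ e ∈ perpIn B U (Submodule.span F {xU, yU}), e ∉ Submodule.span F {xU, yU} ∧
        Q e = 0 ∧ RPair Q B H y e := by
  have C := X.space
  have S := X.split
  set A := Submodule.span F {xU, yU}
  have hAU : A ≤ U := Submodule.span_le.mpr (by rintro z (rfl | rfl) <;> assumption)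
  have hx' : ∀ v ∈ U, B x v = B xU v := fun v hv => by
    rw [hx, C.symm, S.B_left C hv hxW, C.symm]
  have hy' : ∀ v ∈ U, B y v = B yU v := fun v hv => by
    rw [hy, C.symm, S.B_left C hv hyW, C.symm]
  have base : ∀ v ∈ perpIn B U A, v ∉ A → Q v = 0 → RPair Q B H y v := by
    intro v hv hvA hQv
    have hnot : xU ∉ Submodule.span F {yU, v} := fun h => by
      obtain ⟨s, t, hst⟩ := Submodule.mem_span_pair.mp h
      by_cases ht : t = 0
      · exact hind (Submodule.mem_span_singleton.mpr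
          ⟨s, by rw [← hst, ht, zero_smul, add_zero]⟩)
      · refine hvA ((Submodule.smul_mem_iff A ht).mp ?_)
        rw [show t • v = xU - s • yU by rw [← hst]; abel]
        exact A.sub_mem (Submodule.subset_span (by simp))
          (A.smul_mem _ (Submodule.subset_span (by simp)))
    obtain ⟨u, hu, hQu, hxu⟩ := exists_sing_perpIn C S (A := Submodule.span F {yU, v})
      (Submodule.span_le.mpr (by rintro z (rfl | rfl); exacts [hyU, hv.1])) (by
        have := finrank_span_pair_le yU v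
        have := X.big
        omega) hxU hnot
    have huv : B u v = 0 := by rw [C.symm]; exact hu.2 v (Submodule.subset_span (by simp))
    have hp : RPair Q B H u v := ⟨hQu, hQv, huv, fun c => X.rootU
      (sGL_mem_root hu.1 (U.smul_mem c hv.1) hQu (by rw [map_smul, huv, smul_zero]))⟩
    exact hR.rule C X.le_iso hp
      (by rw [hy' u hu.1]; exact hu.2 yU (Submodule.subset_span (by simp)))
      (by rw [hy' v hv.1]; exact hv.2 yU (Submodule.subset_span (by simp)))
      (by rw [hx' v hv.1]; exact hv.2 xU (Submodule.subset_span (by simp)))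
      (by rw [hx' u hu.1]; exact hxu)
  obtain ⟨e, f, hH, heA, -⟩ := exists_hyp_perpIn C S hAU (by
    have : finrank F A ≤ 2 := finrank_span_pair_le xU yU
    have := X.big
    omega : 2 * finrank F A + 3 ≤ finrank F U)
  have he := base e hH.memE heA hH.singE
  refine ⟨(hH.span C).trans (Submodule.span_le.mpr ?_), e, hH.memE, heA, hH.singE, he⟩
  rintro v ⟨hv, hQv⟩
  by_cases hvA : v ∈ A
  · have hve : B v e = 0 := hH.memE.2 v hvA
    have hsum : Q (v + e) = 0 := by rw [C.add, hQv, hH.singE, hve]; simp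
    have h1 := base (v + e) (Submodule.add_mem _ hv hH.memE)
      (fun h => heA (by simpa using A.sub_mem h hvA)) hsum
    have h2 : v + e - e ∈ rootsAt Q B C H y hR.2.1 :=
      Submodule.sub_mem _ ⟨h1.2.2.1, h1.2.2.2⟩ ⟨he.2.2.1, he.2.2.2⟩
    rwa [add_sub_cancel_right] at h2
  · have h := base v hv hvA hQv
    exact ⟨h.2.2.1, h.2.2.2⟩

theorem SplitCtx.goodPt_of_pair {x y xU xW yU yW : ι → F} (hR : RPair Q B H x y) (hxU : xU ∈ U)
    (hxW : xW ∈ W) (hx : x = xU + xW) (hyU : yU ∈ U) (hyW : yW ∈ W) (hy : y = yU + yW)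
    (hind : xU ∉ Submodule.span F {yU}) : GoodPt Q B H U y := by
  have C := X.space
  obtain ⟨h1, e, hep, heA, hQe, he⟩ := X.roots_aux hR hxU hxW hx hyU hyW hy hind
  have hey : e ∉ Submodule.span F {yU} := fun h =>
    heA (Submodule.span_mono (by simp) h)
  obtain ⟨h2, -⟩ := X.roots_aux (RPair.symm C he) hep.1 W.zero_mem (by rw [add_zero]) hyU hyW hy hey
  refine ⟨hR.2.1, fun v hv hQv hyv => ⟨hR.2.1, hQv, hyv, ?_⟩⟩
  have hyv' : B yU v = 0 := by
    rw [← hyv, hy, C.symm, ← X.split.B_left C hv hyW, C.symm]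
  have hnot : xU ∉ Submodule.span F {yU, e} := fun h => by
    obtain ⟨s, t, hst⟩ := Submodule.mem_span_pair.mp h
    by_cases ht : t = 0
    · exact hind (Submodule.mem_span_singleton.mpr ⟨s, by rw [← hst, ht, zero_smul, add_zero]⟩)
    · refine heA ((Submodule.smul_mem_iff _ ht).mp ?_)
      rw [show t • e = xU - s • yU by rw [← hst]; abel]
      exact Submodule.sub_mem _ (Submodule.subset_span (by simp))
        (Submodule.smul_mem _ _ (Submodule.subset_span (by simp)))
  obtain ⟨z, hz, hxz⟩ := exists_perpIn C X.split (A := Submodule.span F {yU, e})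
    (Submodule.span_le.mpr (by rintro z (rfl | rfl); exacts [hyU, hep.1])) hxU hnot
  have hz1 := hz.2 yU (Submodule.subset_span (by simp))
  have hz2 := hz.2 e (Submodule.subset_span (by simp))
  have ha : v - B xU v • z ∈ perpIn B U (Submodule.span F {xU, yU}) := by
    refine ⟨U.sub_mem hv (U.smul_mem _ hz.1), fun a ha => ?_⟩
    obtain ⟨s, t, rfl⟩ := Submodule.mem_span_pair.mp ha
    simp [hxz, hz1, hyv']
  have hb : B xU v • z ∈ perpIn B U (Submodule.span F {e, yU}) := by
    refine ⟨U.smul_mem _ hz.1, fun a ha => ?_⟩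
    obtain ⟨s, t, rfl⟩ := Submodule.mem_span_pair.mp ha
    simp [hz1, hz2]
  have := Submodule.add_mem _ (h1 ha) (h2 hb : _ ∈ rootsAt Q B C H y hR.2.1)
  rw [sub_add_cancel] at this
  exact this.2

/-- A root group of `H` that is mixed gives `Ω`. -/
theorem SplitCtx.omega_le_of_pair
    (hex : (∀ x ∈ W, Q x = 0 → x = 0) ∨ 3 ≤ finrank F W ∨ 4 ≤ Nat.card F)
    {x y : ι → F} (hR : RPair Q B H x y) (hind : x ∉ Submodule.span F {y}) (hy0 : y ≠ 0)
    (hU : ¬ (x ∈ U ∧ y ∈ U)) (hW : ¬ (x ∈ W ∧ y ∈ W)) : Cfsg.Geo.omegaGL Q ≤ H := by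
  have C := X.space
  have S := X.split
  -- the case of independent projections to `U`
  have inj : ∀ {x y xU xW yU yW : ι → F}, RPair Q B H x y → xU ∈ U → xW ∈ W → x = xU + xW →
      yU ∈ U → yW ∈ W → y = yU + yW → xU ∉ Submodule.span F {yU} → yU ≠ 0 →
      ¬ (x ∈ U ∧ y ∈ U) → Cfsg.Geo.omegaGL Q ≤ H := by
    intro x y xU xW yU yW hR hxU hxW hx hyU hyW hy hind hyU0 hne
    by_cases hyW0 : yW = 0
    · have hxW0 : xW ≠ 0 := fun h => hne
        ⟨by rw [hx, h, add_zero]; exact hxU, by rw [hy, hyW0, add_zero]; exact hyU⟩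
      have hind' : yU ∉ Submodule.span F {xU} := fun h => by
        obtain ⟨c, hc⟩ := Submodule.mem_span_singleton.mp h
        have hc0 : c ≠ 0 := fun h0 => hyU0 (by rw [← hc, h0, zero_smul])
        exact hind (Submodule.mem_span_singleton.mpr
          ⟨c⁻¹, by rw [← hc, smul_smul, inv_mul_cancel₀ hc0, one_smul]⟩)
      exact X.omega_le_of_good hex
        (X.goodPt_of_pair (RPair.symm C hR) hyU hyW hy hxU hxW hx hind') hxU hxW hx
        (fun h => hind (by rw [h]; exact Submodule.zero_mem _)) hxW0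
    · exact X.omega_le_of_good hex (X.goodPt_of_pair hR hxU hxW hx hyU hyW hy hind) hyU hyW hy
        hyU0 hyW0
  -- the case of a vector of `W`
  have deg : ∀ {x y xU xW : ι → F}, RPair Q B H x y → xU ∈ U → xW ∈ W → x = xU + xW →
      y ∈ W → xU ≠ 0 → y ≠ 0 → Cfsg.Geo.omegaGL Q ≤ H := by
    intro x y xU xW hR hxU hxW hx hyW hxU0 hy0
    have hind : xU ∉ Submodule.span F {(0 : ι → F)} := by simpa using hxU0
    obtain ⟨-, v, hv, hvA, hQv, hRv⟩ :=
      X.roots_aux hR hxU hxW hx U.zero_mem hyW (zero_add y).symm hind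
    have hv0 : v ≠ 0 := fun h => hvA (by rw [h]; exact Submodule.zero_mem _)
    obtain ⟨u1, hu1, hQu1, hvu1⟩ := exists_sing_perpIn C S
      (bot_le : (⊥ : Submodule F (ι → F)) ≤ U) (by
        have := X.big
        rw [finrank_bot]; omega) hv.1 (by simpa using hv0)
    have hu10 : u1 ≠ 0 := fun h => by rw [h] at hvu1; simp at hvu1
    obtain ⟨u2, f, hH, hu2A, -⟩ := exists_hyp_perpIn C S (A := Submodule.span F {v, u1})
      (Submodule.span_le.mpr (by rintro z (rfl | rfl); exacts [hv.1, hu1.1])) (by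
        have := finrank_span_pair_le v u1
        have := X.big
        omega)
    have hu2 := hH.memE
    have h12 : B u1 u2 = 0 := hu2.2 u1 (Submodule.subset_span (by simp))
    have h2v : B v u2 = 0 := hu2.2 v (Submodule.subset_span (by simp))
    have hyu : ∀ u ∈ U, B y u = 0 := fun u hu => by rw [C.symm]; exact S.orth u hu y hyW
    have hg : sGL Q B y v ∈ H := by simpa using hRv.2.2.2 1
    have hp : RPair Q B H u2 u1 := RPair.symm C ⟨hQu1, hH.singE, h12, fun c => X.rootU
      (sGL_mem_root hu1.1 (U.smul_mem c hu2.1) hQu1 (by rw [map_smul, h12, smul_zero]))⟩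
    have hp' := hp.conj C X.le_iso hg
    rw [sGL_act C hRv.1 hRv.2.2.1, sGL_act C hRv.1 hRv.2.2.1, hyu u2 hu2.1, hyu u1 hu1.1, h2v,
      hvu1, hQv] at hp'
    simp only [zero_smul, add_zero, mul_zero, sub_zero, one_smul] at hp'
    refine inj hp' hu2.1 W.zero_mem (add_zero _).symm hu1.1 (W.neg_mem hyW)
      (sub_eq_add_neg u1 y) (fun h => hu2A (Submodule.span_mono (by simp) h)) hu10 fun h => hy0 ?_
    exact S.disj C (by simpa using U.sub_mem hu1.1 h.2) hyW
  obtain ⟨xU, hxU, xW, hxW, hx⟩ := S.parts C x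
  obtain ⟨yU, hyU, yW, hyW, hy⟩ := S.parts C y
  by_cases hdep : xU ∈ Submodule.span F {yU}
  · obtain ⟨c, hc⟩ := Submodule.mem_span_singleton.mp hdep
    have hne : x - c • y ≠ 0 := fun h => hind (Submodule.mem_span_singleton.mpr
      ⟨c, (sub_eq_zero.mp h).symm⟩)
    have hzW : x - c • y ∈ W := by
      rw [hx, hy, ← hc, show c • yU + xW - c • (yU + yW) = xW - c • yW by rw [smul_add]; abel]
      exact W.sub_mem hxW (W.smul_mem c hyW)
    by_cases hyU0 : yU = 0
    · exact absurd ⟨by rw [hx, ← hc, hyU0, smul_zero, zero_add]; exact hxW,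
        by rw [hy, hyU0, zero_add]; exact hyW⟩ hW
    · have h := hR.plane C 0 1 1 (-c)
      rw [zero_smul, zero_add, one_smul, one_smul, neg_smul, ← sub_eq_add_neg] at h
      exact deg h hyU hyW hy hzW hyU0 hne
  · by_cases hyU0 : yU = 0
    · exact deg hR hxU hxW hx (by rw [hy, hyU0, zero_add]; exact hyW)
        (fun h => hdep (by rw [h]; exact Submodule.zero_mem _)) hy0
    · exact inj hR hxU hxW hx hyU hyW hy hdep hyU0 hU

/-- A subgroup containing the stabiliser of a decomposition keeps `U`, maps `U` into `W`, or is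
everything. -/
theorem SplitCtx.stab_or_swap_or_top
    (hex : (∀ x ∈ W, Q x = 0 → x = 0) ∨ 3 ≤ finrank F W ∨ 4 ≤ Nat.card F) :
    (∀ g ∈ H, ∀ u ∈ U, g.val *ᵥ u ∈ U) ∨
      (∃ g ∈ H, ∀ u ∈ U, g.val *ᵥ u ∈ W) ∨ Cfsg.Geo.omegaGL Q ≤ H := by
  have C := X.space
  have S := X.split
  by_cases hbad : ∃ g ∈ H, ∃ a b, a ∈ U ∧ b ∈ U ∧ Q a = 0 ∧ Q b = 0 ∧ B a b = 0 ∧
      a ∉ Submodule.span F {b} ∧ b ≠ 0 ∧ ¬ (g.val *ᵥ a ∈ U ∧ g.val *ᵥ b ∈ U) ∧
      ¬ (g.val *ᵥ a ∈ W ∧ g.val *ᵥ b ∈ W)
  · obtain ⟨g, hg, a, b, ha, hb, hQa, hQb, hab, hind, hb0, h1, h2⟩ := hbad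
    have hR : RPair Q B H a b := ⟨hQa, hQb, hab, fun c => X.rootU
      (sGL_mem_root ha (U.smul_mem c hb) hQa (by rw [map_smul, hab, smul_zero]))⟩
    refine Or.inr (Or.inr (X.omega_le_of_pair hex (hR.conj C X.le_iso hg) (fun h => hind ?_)
      (act_ne_zero hb0) h1 h2))
    obtain ⟨c, hc⟩ := Submodule.mem_span_singleton.mp h
    exact Submodule.mem_span_singleton.mpr
      ⟨c, act_injective g ((Matrix.mulVec_smul _ _ _).trans hc)⟩
  by_cases hsw : ∃ g ∈ H, ∀ u ∈ U, g.val *ᵥ u ∈ W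
  · exact Or.inr (Or.inl hsw)
  left
  intro g hg
  push Not at hbad
  have same : ∀ a ∈ U, Q a = 0 → a ≠ 0 → ∀ a' ∈ U, Q a' = 0 → a' ≠ 0 →
      g.val *ᵥ a ∉ U → g.val *ᵥ a' ∈ W := by
    intro a ha hQa ha0 a' ha' hQa' ha'0 hna
    obtain ⟨b, f, hH, hbA, -⟩ := exists_hyp_perpIn C S (A := Submodule.span F {a, a'})
      (Submodule.span_le.mpr (by rintro z (rfl | rfl) <;> assumption)) (by
        have := finrank_span_pair_le a a'
        have := X.big
        omega)
    have hb0 : b ≠ 0 := fun h => hbA (h ▸ Submodule.zero_mem _)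
    have key : ∀ a ∈ U, Q a = 0 → a ≠ 0 → B a b = 0 → b ∉ Submodule.span F {a} →
        (g.val *ᵥ a ∈ U ∧ g.val *ᵥ b ∈ U) ∨ g.val *ᵥ a ∈ W ∧ g.val *ᵥ b ∈ W := by
      intro a ha hQa ha0 hab hba
      by_contra hne
      push Not at hne
      refine absurd (hbad g hg a b ha hH.memE.1 hQa hH.singE hab (fun h => hba ?_) hb0
        fun h => hne.1 h) (by simpa using hne.2)
      obtain ⟨c, hc⟩ := Submodule.mem_span_singleton.mp h
      have hc0 : c ≠ 0 := fun h0 => ha0 (by rw [← hc, h0, zero_smul])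
      exact Submodule.mem_span_singleton.mpr
        ⟨c⁻¹, by rw [← hc, smul_smul, inv_mul_cancel₀ hc0, one_smul]⟩
    have k1 := key a ha hQa ha0 (hH.memE.2 a (Submodule.subset_span (by simp)))
      fun h => hbA (Submodule.span_mono (by simp) h)
    have k2 := key a' ha' hQa' ha'0 (hH.memE.2 a' (Submodule.subset_span (by simp)))
      fun h => hbA (Submodule.span_mono (by simp) h)
    rcases k1 with h | h
    · exact absurd h.1 hna
    rcases k2 with h' | h'
    · exact absurd (S.disj C h'.2 h.2) (act_ne_zero hb0)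
    · exact h'.1
  obtain ⟨e, f, hH⟩ := exists_hyp' C S.ndU (by have := X.big; omega)
  intro u hu
  by_cases hall : ∀ a ∈ U, Q a = 0 → g.val *ᵥ a ∈ U
  · exact (Submodule.span_le (p := U.comap (Matrix.mulVecLin g.val))).mpr
      (fun a ha => hall a ha.1 ha.2) (hH.span C hu)
  push Not at hall
  obtain ⟨a, ha, hQa, hna⟩ := hall
  have ha0 : a ≠ 0 := fun h => hna (by rw [h, Matrix.mulVec_zero]; exact U.zero_mem)
  exfalso
  refine hsw ⟨g, hg, fun z hz => ?_⟩
  exact (Submodule.span_le (p := W.comap (Matrix.mulVecLin g.val))).mpr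
    (fun a' ha' => by
      by_cases h0 : a' = 0
      · show g.val *ᵥ a' ∈ W
        rw [h0, Matrix.mulVec_zero]; exact W.zero_mem
      · exact same a ha hQa ha0 a' ha'.1 ha'.2 h0 hna) (hH.span C hz)

/-- The dichotomy for a subgroup containing the stabiliser of a decomposition. -/
theorem SplitCtx.stab_or_top
    (hex : (∀ x ∈ W, Q x = 0 → x = 0) ∨ 3 ≤ finrank F W ∨ 4 ≤ Nat.card F)
    (hlt : finrank F W < finrank F U) :
    (∀ g ∈ H, ∀ u ∈ U, g.val *ᵥ u ∈ U) ∨ Cfsg.Geo.omegaGL Q ≤ H := by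
  rcases X.stab_or_swap_or_top hex with h | ⟨g, hg, h⟩ | h
  · exact Or.inl h
  · have h1 := Submodule.finrank_mono (show U.map (Matrix.mulVecLin g.val) ≤ W by
      rintro _ ⟨z, hz, rfl⟩; exact h z hz)
    rw [(Submodule.equivMapOfInjective _ (act_injective g) U).finrank_eq.symm] at h1
    omega
  · exact Or.inr h

end Ctx

end Cfsg.Lib.Linear.Orth
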