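import Cfsg.Agent.Lib.Linear.FrameNotMax

/-!
# Decompositions into small blocks of plus type whose stabilisers are not maximal
-/

set_option autoImplicit false
set_option linter.unusedSectionVars false
set_option linter.style.haveILetI false

namespace Cfsg.Lib.Linear.Orth

open Module
open scoped Matrix

variable {ι : Type} [Fintype ι] [DecidableEq ι] {F : Type*} [Field F]
  {Q : (ι → F) → F} {B : LinearMap.BilinForm F (ι → F)} {t k : ℕ}
  {D : Fin t → Submodule F (ι → F)}

/-- A vector meeting two blocks of an orthogonal decomposition lies in no block. -/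
theorem not_mem_of_two (horth : ∀ i l, i ≠ l → ∀ u ∈ D i, ∀ w ∈ D l, B u w = 0) {x y y' : ι → F}
    {i j : Fin t} (hij : i ≠ j) (hy : y ∈ D i) (hy' : y' ∈ D j) (h : B x y ≠ 0) (h' : B x y' ≠ 0) (l : Fin t) :
    x ∉ D l := fun hx => by
  by_cases hl : l = i
  · exact h' (horth l j (hl ▸ hij) x hx y' hy')
  · exact h (horth l i hl x hx y hy)

/-- The stabiliser of a decomposition lies strictly inside the stabiliser in `Ω` of a set. -/
theorem set_between [Finite F] (C : Space Q B) (h5 : 5 ≤ Fintype.card ι) (R : Set (ι → F))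
    (hsub : ∀ g ∈ isometryGroup F Q, g ∈ Cfsg.Geo.decompositionStabilizer D → ∀ x ∈ R, g.val *ᵥ x ∈ R)
    (h1 : ∃ g ∈ Cfsg.Geo.omegaGL Q, (∀ x ∈ R, g.val *ᵥ x ∈ R) ∧ ∃ i, ∃ x ∈ D i, ∀ l, g.val *ᵥ x ∉ D l)
    (h2 : ∃ g ∈ Cfsg.Geo.omegaGL Q, ∃ x ∈ R, g.val *ᵥ x ∉ R) :
    ∃ K : Subgroup (GL ι F), Cfsg.Geo.decompositionStabilizer D ⊓ Cfsg.Geo.omegaGL Q < K ∧
      K < Cfsg.Geo.omegaGL Q := by
  classical
  have hO := omegaGL_eq C h5
  have hiff : ∀ (g : GL ι F), (∀ x ∈ R, g.val *ᵥ x ∈ R) → ∀ x, g.val *ᵥ x ∈ R ↔ x ∈ R := by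
    intro g hg x
    refine ⟨fun hx => ?_, hg x⟩
    let φ : R → R := fun y => ⟨g.val *ᵥ y, hg y y.2⟩
    have hφ : Function.Injective φ := fun a b h =>
      Subtype.ext (act_injective g (show g.val *ᵥ (a : ι → F) = g.val *ᵥ (b : ι → F) from congrArg Subtype.val h))
    obtain ⟨y, hy⟩ := Finite.injective_iff_surjective.1 hφ ⟨_, hx⟩
    have h : g.val *ᵥ (y : ι → F) = g.val *ᵥ x := congrArg Subtype.val hy
    rw [← act_injective g h]
    exact y.2
  refine ⟨Weight.preserving (fun x => x ∈ R) ⊓ Cfsg.Geo.omegaGL Q,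
    lt_of_le_not_ge (fun g hg => ⟨fun x => propext ?_, hg.2⟩) fun hle => ?_,
    lt_of_le_not_ge inf_le_right fun hle => ?_⟩
  · exact hiff g (hsub g (root_le_iso C _ (hO ▸ hg.2)) hg.1) x
  · obtain ⟨g, hgΩ, hgR, i, x, hx, hout⟩ := h1
    obtain ⟨σ, hσ⟩ := (hle ⟨fun y => propext (hiff g hgR y), hgΩ⟩).1
    refine hout (σ i) ?_
    rw [← hσ]
    exact ⟨x, hx, by rw [Matrix.toLin'_apply]⟩
  · obtain ⟨g, hgΩ, x, hx, hout⟩ := h2
    have h : (g.val *ᵥ x ∈ R) = (x ∈ R) := (hle hgΩ).1 x
    exact hout (h.mpr hx)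

/-- Dual vectors inside a non-degenerate subspace. -/
theorem dual_vec (C : Space Q B) {U : Submodule F (ι → F)} (hU : NDeg B U) {u v : ι → F} (hu : u ∈ U)
    (hv : v ∈ U) (hind : ∀ c : F, u ≠ c • v) : ∃ w ∈ U, B u w = 1 ∧ B v w = 0 := by
  obtain ⟨x, hx, hvx, hux⟩ : ∃ x ∈ U, B v x = 0 ∧ B u x ≠ 0 := by
    by_contra hcon
    push Not at hcon
    by_cases hv0 : ∀ z ∈ U, B v z = 0
    · exact hind 0 ((hU u hu fun z hz => hcon z hz (hv0 z hz)).trans (zero_smul F v).symm)
    push Not at hv0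
    obtain ⟨z, hz, hvz⟩ := hv0
    refine hind (B u z / B v z) (sub_eq_zero.1 (hU _ (U.sub_mem hu (U.smul_mem _ hv)) fun y hy => ?_))
    have h1 := hcon (y - (B v y / B v z) • z) (U.sub_mem hy (U.smul_mem _ hz))
      (by rw [map_sub, map_smul, smul_eq_mul, div_mul_cancel₀ _ hvz, sub_self])
    rw [map_sub, map_smul, smul_eq_mul] at h1
    rw [map_sub, LinearMap.sub_apply, map_smul, LinearMap.smul_apply, smul_eq_mul]
    linear_combination h1
  exact ⟨(B u x)⁻¹ • x, U.smul_mem _ hx, by rw [map_smul, smul_eq_mul, inv_mul_cancel₀ hux],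
    by rw [map_smul, hvx, smul_zero]⟩

/-- A hyperbolic pair in a plane of plus type. -/
theorem plus_plane (C : Space Q B) {U : Submodule F (ι → F)} (hU : NDeg B U) (hk : finrank F U = 2)
    (hp : Cfsg.Geo.IsPlusTypeOn Q U) :
    ∃ e f, e ∈ U ∧ f ∈ U ∧ Q e = 0 ∧ Q f = 0 ∧ B e f = 1 ∧ ∀ v ∈ U, ∃ a b : F, v = a • e + b • f := by
  obtain ⟨V, hVU, hVs, hV⟩ := hp
  obtain ⟨e, he, he0⟩ := Submodule.exists_mem_ne_zero_of_ne_bot (p := V) (fun h => by
    rw [h, finrank_bot, hk] at hV
    omega)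
  have hQe : Q e = 0 := hVs e he
  obtain ⟨z, hz, hez, -⟩ := dual_vec C hU (hVU he) U.zero_mem (fun c => by rwa [smul_zero])
  set f := z + (-Q z) • e with hf
  have hef : B e f = 1 := by rw [hf, map_add, map_smul, hez, C.self_zero hQe, smul_zero, add_zero]
  have hQf : Q f = 0 := by
    rw [hf, C.add, C.smul, map_smul, hQe, smul_eq_mul, C.symm z e, hez]
    ring
  refine ⟨e, f, hVU he, U.add_mem hz (U.smul_mem _ (hVU he)), hQe, hQf, hef, fun v hv => ?_⟩
  have hli : LinearIndependent F ![e, f] := by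
    rw [LinearIndependent.pair_iff]
    intro a b hab
    have e1 := congrArg (B e) hab
    rw [map_add, map_smul, map_smul, C.self_zero hQe, hef, map_zero, smul_zero, zero_add, smul_eq_mul,
      mul_one] at e1
    rw [e1, zero_smul, add_zero] at hab
    exact ⟨(smul_eq_zero.1 hab).resolve_right he0, e1⟩
  have heq : Submodule.span F (Set.range ![e, f]) = U :=
    Submodule.eq_of_le_of_finrank_le (Submodule.span_le.2 (by
      rintro _ ⟨i, rfl⟩
      fin_cases i
      · exact hVU he
      · exact U.add_mem hz (U.smul_mem _ (hVU he))))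
      (by rw [finrank_span_eq_card hli, hk, Fintype.card_fin])
  rw [← heq, Submodule.mem_span_range_iff_exists_fun] at hv
  obtain ⟨a, ha⟩ := hv
  exact ⟨a 0, a 1, by rw [← ha, Fin.sum_univ_two]; rfl⟩

/-- Planes of plus type over the field of five elements. -/
theorem plus_planes_five [Fintype F] (hq : Fintype.card F = 5) (C : Space Q B) (ht : 5 ≤ t)
    (h5 : 5 ≤ Fintype.card ι) (horth : ∀ i l, i ≠ l → ∀ u ∈ D i, ∀ w ∈ D l, B u w = 0)
    (hnd : ∀ i, NDeg B (D i)) (hdim : ∀ i, finrank F (D i) = 2) (hp : ∀ i, Cfsg.Geo.IsPlusTypeOn Q (D i)) :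
    ∃ K : Subgroup (GL ι F), Cfsg.Geo.decompositionStabilizer D ⊓ Cfsg.Geo.omegaGL Q < K ∧
      K < Cfsg.Geo.omegaGL Q := by
  have h5' : (5 : F) = 0 := by
    have := Nat.cast_card_eq_zero F
    rw [hq] at this
    exact_mod_cast this
  have h2 : (2 : F) ≠ 0 := fun h => one_ne_zero (α := F) (by linear_combination h5' - 2 * h)
  choose e f he hf hQe hQf hef hsp using fun i => plus_plane C (hnd i) (hdim i) (hp i)
  have hfe : ∀ i, B (f i) (e i) = 1 := fun i => by rw [C.symm, hef]
  refine frame_not_max C h2 ht h5 le_rfl horth (fun i => ![e i + f i, e i - f i]) (fun i j => ?_) (fun i j l h => ?_)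
    ![1, -1] (fun j => ?_) (fun i j => ?_) fun i v hv j hQv => ?_
  · fin_cases j
    · exact (D i).add_mem (he i) (hf i)
    · exact (D i).sub_mem (he i) (hf i)
  · fin_cases j <;> fin_cases l <;>
      first
        | exact absurd rfl h
        | (simp [C.self_zero (hQe i), C.self_zero (hQf i), hef, hfe]; try ring)
  · fin_cases j <;> simp
  · fin_cases j
    · show Q (e i + f i) = 1
      rw [C.add, hQe, hQf, hef, zero_add, zero_add]
    · show Q (e i - f i) = -1
      rw [sub_eq_add_neg, C.add, C.neg, hQe, hQf, map_neg, hef, zero_add, zero_add]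
  · obtain ⟨a, b, rfl⟩ := hsp i v hv
    rw [C.smul_add, hQe, hQf, hef] at hQv
    have hab : a * b = 1 ∨ a * b = -1 := by
      fin_cases j
      · left; simpa using hQv
      · right; simpa using hQv
    have ha : a ≠ 0 := fun h => by rcases hab with h' | h' <;> simp [h] at h'
    have ha4 : a ^ 4 = 1 := by
      have := FiniteField.pow_card_sub_one_eq_one a ha
      rwa [hq] at this
    have hb : b = a ∨ b = -a := by
      have h : a ^ 2 = b ^ 2 := by
        have h1 : (a * b) ^ 2 = 1 := by rcases hab with h | h <;> rw [h] <;> ring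
        have h3 : a ^ 2 * a ^ 2 = a ^ 2 * b ^ 2 := by linear_combination ha4 - h1
        exact mul_left_cancel₀ (pow_ne_zero 2 ha) h3
      rcases sq_eq_sq_iff_eq_or_eq_neg.mp h.symm with h | h
      · exact Or.inl h
      · exact Or.inr h
    rcases hb with rfl | rfl
    · exact ⟨0, Submodule.mem_span_singleton.2 ⟨b, by simp⟩⟩
    · exact ⟨1, Submodule.mem_span_singleton.2 ⟨a, by simp [smul_sub, sub_eq_add_neg]⟩⟩

/-- Planes of plus type over the field of two elements. -/
theorem plus_planes_two [Fintype F] (hq : Fintype.card F = 2) (C : Space Q B) (ht : 4 ≤ t)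
    (h5 : 5 ≤ Fintype.card ι) (horth : ∀ i l, i ≠ l → ∀ u ∈ D i, ∀ w ∈ D l, B u w = 0)
    (hnd : ∀ i, NDeg B (D i)) (hdim : ∀ i, finrank F (D i) = 2) (hp : ∀ i, Cfsg.Geo.IsPlusTypeOn Q (D i)) :
    ∃ K : Subgroup (GL ι F), Cfsg.Geo.decompositionStabilizer D ⊓ Cfsg.Geo.omegaGL Q < K ∧
      K < Cfsg.Geo.omegaGL Q := by
  classical
  have h2 : (2 : F) = 0 := by
    have := Nat.cast_card_eq_zero F
    rw [hq] at this
    exact_mod_cast this
  have hone : ∀ x : F, x ≠ 0 → x = 1 := fun x hx => by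
    have := FiniteField.pow_card_sub_one_eq_one x hx
    rwa [hq, pow_one] at this
  choose e f he hf hQe hQf hef hsp using fun i => plus_plane C (hnd i) (hdim i) (hp i)
  have hfe : ∀ i, B (f i) (e i) = 1 := fun i => by rw [C.symm, hef]
  let n : Fin t → ι → F := fun i => e i + f i
  have hn : ∀ i, n i ∈ D i := fun i => (D i).add_mem (he i) (hf i)
  let W := Submodule.span F (Set.range n)
  have hnW : ∀ i, n i ∈ W := fun i => Submodule.subset_span ⟨i, rfl⟩
  have hnn : ∀ i l, B (n i) (n l) = 0 := fun i l => by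
    by_cases h : i = l
    · subst h; simp [n, C.self_zero (hQe i), C.self_zero (hQf i), hef, hfe]; linear_combination h2
    · exact horth i l h _ (hn i) _ (hn l)
  have hWW : ∀ x ∈ W, ∀ l, B x (n l) = 0 := by
    intro x hx l
    induction hx using Submodule.span_induction with
    | mem z hz => obtain ⟨i, rfl⟩ := hz; exact hnn i l
    | zero => simp
    | add x y _ _ hx hy => simp [hx, hy]
    | smul a x _ hx => simp [hx]
  let i0 : Fin t := ⟨0, by omega⟩
  let i1 : Fin t := ⟨1, by omega⟩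
  let i2 : Fin t := ⟨2, by omega⟩
  have h01 : i0 ≠ i1 := by simp [i0, i1]
  have h02 : i0 ≠ i2 := by simp [i0, i2]
  have h12 : i1 ≠ i2 := by simp [i1, i2]
  have hO := omegaGL_eq C h5
  refine set_between C h5 (W : Set (ι → F)) (fun g hgI hgD x hx => ?_) ?_ ?_
  · obtain ⟨σ, hσ⟩ := hgD
    have hgn : ∀ i, g.val *ᵥ n i = n (σ i) := by
      intro i
      have hm : g.val *ᵥ n i ∈ D (σ i) := by rw [← hσ]; exact ⟨_, hn i, Matrix.toLin'_apply _ _⟩
      obtain ⟨a, b, hab⟩ := hsp _ _ hm
      have h1 := mem_iso.mp hgI (n i)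
      rw [hab, C.smul_add, hQe, hQf, hef] at h1
      rw [C.add, hQe, hQf, hef] at h1
      have hab1 : a * b = 1 := by simpa using h1
      rw [hab, hone a (left_ne_zero_of_mul_eq_one hab1), hone b (right_ne_zero_of_mul_eq_one hab1),
        one_smul, one_smul]
    induction hx using Submodule.span_induction with
    | mem z hz => obtain ⟨i, rfl⟩ := hz; rw [hgn]; exact hnW _
    | zero => simp
    | add x y _ _ hx hy => rw [Matrix.mulVec_add]; exact W.add_mem hx hy
    | smul a x _ hx => rw [Matrix.mulVec_smul]; exact W.smul_mem a hx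
  · have hQu : Q (n i0 + n i1) = 0 := by
      simp [n, C.add, hQe, hQf, hef, horth i0 i1 h01 _ (he i0) _ (he i1), horth i0 i1 h01 _ (he i0) _ (hf i1),
        horth i0 i1 h01 _ (hf i0) _ (he i1), horth i0 i1 h01 _ (hf i0) _ (hf i1)]
      linear_combination h2
    have hua : B (n i0 + n i1) (e i2) = 0 := by
      rw [map_add, LinearMap.add_apply, horth i0 i2 h02 _ (hn i0) _ (he i2),
        horth i1 i2 h12 _ (hn i1) _ (he i2), add_zero]
    refine ⟨sGL Q B (n i0 + n i1) (e i2), hO ▸ sGL_mem_root trivial trivial hQu hua, fun x hx => ?_,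
      i0, f i0, hf i0, not_mem_of_two horth h02 (he i0) (hf i2) ?_ ?_⟩
    · rw [sGL_act C hQu hua]
      have h0 : B (n i0 + n i1) x = 0 := by
        rw [C.symm, map_add, hWW x hx, hWW x hx, add_zero]
      rw [h0, zero_smul, add_zero]
      exact W.sub_mem hx (W.smul_mem _ (W.add_mem (hnW _) (hnW _)))
    all_goals
      rw [sGL_act C hQu hua]
      simp [n, C.self_zero (hQe _), C.self_zero (hQf _), hef, hfe, hQe, horth i1 i0 h01.symm _ (he i1) _ (hf i0),
        horth i1 i0 h01.symm _ (hf i1) _ (hf i0), horth i2 i0 h02.symm _ (he i2) _ (hf i0),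
        horth i0 i2 h02 _ (hf i0) _ (hf i2), horth i2 i0 h02.symm _ (he i2) _ (he i0)]
  · have hua : B (e i0) (e i1) = 0 := horth i0 i1 h01 _ (he i0) _ (he i1)
    refine ⟨sGL Q B (e i0) (e i1), hO ▸ sGL_mem_root trivial trivial (hQe i0) hua, n i1, hnW i1,
      fun h => ?_⟩
    have h1 := hWW _ h i0
    rw [sGL_act C (hQe i0) hua] at h1
    simp [n, C.self_zero (hQe _), hef, hfe, horth i0 i1 h01 _ (he i0) _ (he i1), horth i0 i1 h01 _ (he i0) _ (hf i1),
      horth i1 i0 h01.symm _ (he i1) _ (he i0), horth i1 i0 h01.symm _ (he i1) _ (hf i0),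
      horth i1 i0 h01.symm _ (hf i1) _ (he i0), horth i1 i0 h01.symm _ (hf i1) _ (hf i0)] at h1

/-- Planes of plus type over the field of four elements. -/
theorem plus_planes_four [Fintype F] (hq : Fintype.card F = 4) (C : Space Q B) (ht : 4 ≤ t)
    (h5 : 5 ≤ Fintype.card ι) (horth : ∀ i l, i ≠ l → ∀ u ∈ D i, ∀ w ∈ D l, B u w = 0)
    (hnd : ∀ i, NDeg B (D i)) (hdim : ∀ i, finrank F (D i) = 2) (hp : ∀ i, Cfsg.Geo.IsPlusTypeOn Q (D i)) :
    ∃ K : Subgroup (GL ι F), Cfsg.Geo.decompositionStabilizer D ⊓ Cfsg.Geo.omegaGL Q < K ∧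
      K < Cfsg.Geo.omegaGL Q := by
  classical
  have h2 : (2 : F) = 0 := by
    have h4 := Nat.cast_card_eq_zero F
    rw [hq] at h4
    push_cast at h4
    exact mul_self_eq_zero.1 (by linear_combination h4)
  obtain ⟨w, hw0, hw1⟩ : ∃ w : F, w ≠ 0 ∧ w ≠ 1 := by
    by_contra hne
    push Not at hne
    have hle : (Finset.univ : Finset F) ⊆ {0, 1} := fun x _ => by
      by_cases hx : x = 0
      · simp [hx]
      · simp [hne x hx]
    have := (Finset.card_le_card hle).trans Finset.card_le_two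
    rw [Finset.card_univ] at this
    omega
  have hcube : ∀ x : F, x ≠ 0 → x ^ 3 = 1 := fun x hx => by
    have := FiniteField.pow_card_sub_one_eq_one x hx
    rwa [hq] at this
  have hquad : ∀ x : F, x ≠ 0 → x ≠ 1 → x + x ^ 2 = 1 := fun x hx hx1 => by
    have h : (x - 1) * (x ^ 2 + x + 1) = 0 := by linear_combination hcube x hx
    linear_combination (mul_eq_zero.1 h).resolve_left (sub_ne_zero.2 hx1) - h2
  choose e f he hf hQe hQf hef hsp using fun i => plus_plane C (hnd i) (hdim i) (hp i)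
  have hfe : ∀ i, B (f i) (e i) = 1 := fun i => by rw [C.symm, hef]
  let N : Set (ι → F) := {v | Q v = 1 ∧ ∃ i, v ∈ D i}
  let R := AddSubgroup.closure N
  have hbB : ∀ x ∈ N, ∀ y ∈ N, B x y = 0 ∨ B x y = 1 := by
    rintro x ⟨hx, i, hxi⟩ y ⟨hy, l, hyl⟩
    by_cases hil : i = l
    swap
    · exact Or.inl (horth i l hil x hxi y hyl)
    subst hil
    obtain ⟨a, b, rfl⟩ := hsp i x hxi
    obtain ⟨c, d, rfl⟩ := hsp i y hyl
    rw [C.smul_add, hQe, hQf, hef] at hx hy
    have hab : a * b = 1 := by simpa using hx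
    have hcd : c * d = 1 := by simpa using hy
    have hB : B (a • e i + b • f i) (c • e i + d • f i) = a * d + b * c := by
      simp [C.self_zero (hQe i), C.self_zero (hQf i), hef, hfe]
    have hz : a * d ≠ 0 := mul_ne_zero (left_ne_zero_of_mul_eq_one hab) (right_ne_zero_of_mul_eq_one hcd)
    have hbc : b * c = (a * d) ^ 2 := by
      have : (a * d) * (b * c) = 1 := by linear_combination c * d * hab + hcd
      linear_combination (a * d) ^ 2 * this - b * c * hcube _ hz
    rw [hB, hbc]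
    by_cases h1 : a * d = 1
    · exact Or.inl (by rw [h1]; linear_combination h2)
    · exact Or.inr (hquad _ hz h1)
  have hbin : ∀ {x y : F}, (x = 0 ∨ x = 1) → (y = 0 ∨ y = 1) → (x + y = 0 ∨ x + y = 1) := by
    rintro x y (rfl | rfl) (rfl | rfl)
    exacts [Or.inl (add_zero 0), Or.inr (zero_add 1), Or.inr (add_zero 1), Or.inl (by linear_combination h2)]
  have hneg : ∀ x : F, -x = x := fun x => by linear_combination (-x) * h2
  have hbR : ∀ x ∈ R, ∀ y ∈ N, B x y = 0 ∨ B x y = 1 := by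
    intro x hx
    induction hx using AddSubgroup.closure_induction with
    | mem z hz => exact hbB z hz
    | zero => intro y _; simp
    | add a b _ _ ha hb => intro y hy; rw [map_add, LinearMap.add_apply]; exact hbin (ha y hy) (hb y hy)
    | neg a _ ha => intro y hy; rw [map_neg, LinearMap.neg_apply, hneg]; exact ha y hy
  let n : Fin t → ι → F := fun i => e i + f i
  let n' : Fin t → ι → F := fun i => w • e i + w ^ 2 • f i
  have hnN : ∀ i, n i ∈ N := fun i => ⟨by simp [n, C.add, hQe, hQf, hef], i, (D i).add_mem (he i) (hf i)⟩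
  have hn'N : ∀ i, n' i ∈ N := fun i => ⟨by
    rw [C.smul_add, hQe, hQf, hef]; linear_combination hcube w hw0,
    i, (D i).add_mem ((D i).smul_mem _ (he i)) ((D i).smul_mem _ (hf i))⟩
  have hnD : ∀ i, n i ∈ D i := fun i => (D i).add_mem (he i) (hf i)
  have hn'D : ∀ i, n' i ∈ D i := fun i => (D i).add_mem ((D i).smul_mem _ (he i)) ((D i).smul_mem _ (hf i))
  have hnn' : ∀ i, B (n i) (n' i) = 1 := fun i => by
    simp [n, n', C.self_zero (hQe i), C.self_zero (hQf i), hef, hfe]
    linear_combination hquad w hw0 hw1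
  let i0 : Fin t := ⟨0, by omega⟩
  let i1 : Fin t := ⟨1, by omega⟩
  let i2 : Fin t := ⟨2, by omega⟩
  let i3 : Fin t := ⟨3, by omega⟩
  have h01 : i0 ≠ i1 := by simp [i0, i1]
  have h02 : i0 ≠ i2 := by simp [i0, i2]
  have h12 : i1 ≠ i2 := by simp [i1, i2]
  have h30 : i3 ≠ i0 := by simp [i0, i3]
  have o : ∀ {i l : Fin t} {x y : ι → F}, i ≠ l → x ∈ D i → y ∈ D l → B x y = 0 :=
    fun h hx hy => horth _ _ h _ hx _ hy
  have hO := omegaGL_eq C h5
  refine set_between C h5 (R : Set (ι → F)) (fun g hgI hgD x hx => ?_) ?_ ?_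
  · obtain ⟨σ, hσ⟩ := hgD
    induction hx using AddSubgroup.closure_induction with
    | mem z hz =>
      obtain ⟨hz1, i, hzi⟩ := hz
      exact AddSubgroup.subset_closure ⟨by rw [mem_iso.mp hgI, hz1], σ i, by
        rw [← hσ]; exact ⟨z, hzi, Matrix.toLin'_apply _ _⟩⟩
    | zero => rw [Matrix.mulVec_zero]; exact R.zero_mem
    | add a b _ _ ha hb => rw [Matrix.mulVec_add]; exact R.add_mem ha hb
    | neg a _ ha => rw [Matrix.mulVec_neg]; exact R.neg_mem ha
  · set p := n i0 + n i1 + n i2 with hp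
    have hQn : ∀ i, Q (n i) = 1 := fun i => (hnN i).1
    have hQp : Q p = 1 := by
      rw [hp, C.add, C.add]
      simp only [map_add, LinearMap.add_apply]
      rw [hQn, hQn, hQn, o h01 (hnD _) (hnD _),
        o h02 (hnD _) (hnD _), o h12 (hnD _) (hnD _)]
      linear_combination h2
    have hQ3 : Q (n i3) ≠ 0 := by rw [hQn]; exact one_ne_zero
    have hQp0 : Q p ≠ 0 := by rw [hQp]; exact one_ne_zero
    have hrefl : ∀ v, Q v = 1 → v ∈ R → (∀ x ∈ R, B v x = 0 ∨ B v x = 1) →
        ∀ x ∈ R, (rGL Q v).val *ᵥ x ∈ R := by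
      intro v hv hvR hb x hx
      rw [rGL_act C (by rw [hv]; exact one_ne_zero), hv, inv_one, one_mul]
      rcases hb x hx with h | h <;> rw [h]
      · rw [zero_smul, sub_zero]; exact hx
      · rw [one_smul]; exact R.sub_mem hx hvR
    have hpR : p ∈ R := R.add_mem (R.add_mem (AddSubgroup.subset_closure (hnN _))
      (AddSubgroup.subset_closure (hnN _))) (AddSubgroup.subset_closure (hnN _))
    refine ⟨rGL Q p * rGL Q (n i3), ?_, fun x hx => ?_, i0, n' i0, hn'D i0,
      not_mem_of_two horth h12 (hn'D i1) (hn'D i2) ?_ ?_⟩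
    · rw [hO, ← comm_eq_root C h5]
      exact rGL_mul_rGL_mem C h5 hQp0 (by rw [hQp, hQn])
    · rw [mul_act]
      refine hrefl p hQp hpR (fun z hz => ?_) _ (hrefl _ (hQn i3) (AddSubgroup.subset_closure (hnN _))
        (fun z hz => by rw [C.symm]; exact hbR z hz _ (hnN i3)) x hx)
      rw [C.symm, hp]
      simp only [map_add]
      exact hbin (hbin (hbR z hz _ (hnN _)) (hbR z hz _ (hnN _))) (hbR z hz _ (hnN _))
    all_goals
      rw [mul_act, rGL_fix C hQ3 (o h30 (hnD _) (hn'D _)), rGL_act C hQp0, hQp, inv_one, one_mul]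
      have hB : B p (n' i0) = 1 := by
        rw [hp]
        simp only [map_add, LinearMap.add_apply]
        rw [hnn',
          o h01.symm (hnD _) (hn'D _), o h02.symm (hnD _) (hn'D _), add_zero, add_zero]
      rw [hB, one_smul, hp]
      simp only [map_sub, map_add, LinearMap.sub_apply, LinearMap.add_apply]
    · rw [o h01 (hn'D _) (hn'D _), o h01 (hnD _) (hn'D _), hnn', o h12.symm (hnD _) (hn'D _)]
      simp
    · rw [o h02 (hn'D _) (hn'D _), o h02 (hnD _) (hn'D _), hnn', o h12 (hnD _) (hn'D _)]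
      simp
  · have hQu : Q (n i0 + n i1) = 0 := by
      rw [C.add, (hnN i0).1, (hnN i1).1, o h01 (hnD _) (hnD _)]
      linear_combination h2
    have hua : B (n i0 + n i1) (w • n i2) = 0 := by
      simp only [map_add, LinearMap.add_apply, map_smul]
      rw [o h02 (hnD _) (hnD _), o h12 (hnD _) (hnD _)]
      simp
    refine ⟨sGL Q B (n i0 + n i1) (w • n i2), hO ▸ sGL_mem_root trivial trivial hQu hua, n' i0,
      AddSubgroup.subset_closure (hn'N _), fun h => ?_⟩
    have hu : B (n i0 + n i1) (n' i0) = 1 := by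
      simp only [map_add, LinearMap.add_apply]
      rw [hnn', o h01.symm (hnD _) (hn'D _), add_zero]
    have key : B ((sGL Q B (n i0 + n i1) (w • n i2)).val *ᵥ n' i0) (n' i2) = w := by
      rw [sGL_act C hQu hua, hu, one_smul]
      simp only [map_sub, map_add, LinearMap.sub_apply, LinearMap.add_apply, map_smul, LinearMap.smul_apply]
      rw [o h02 (hn'D _) (hn'D _), hnn', o h02 (hnD _) (hn'D _), o h12 (hnD _) (hn'D _)]
      simp
    rcases hbR _ h _ (hn'N i2) with h' | h'
    · exact hw0 (key.symm.trans h')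
    · exact hw1 (key.symm.trans h')

/-- A basis of two hyperbolic pairs regrouped into two orthogonal elliptic planes over two elements. -/
theorem plus_four_two [Fintype F] (hq : Fintype.card F = 2) (C : Space Q B) {U : Submodule F (ι → F)}
    (hU : NDeg B U) (hk : finrank F U = 4) (hp : Cfsg.Geo.IsPlusTypeOn Q U) :
    ∃ a b c d, a ∈ U ∧ b ∈ U ∧ c ∈ U ∧ d ∈ U ∧ Q a = 1 ∧ Q b = 1 ∧ Q c = 1 ∧ Q d = 1 ∧ B a b = 1 ∧ B c d = 1 ∧
      B a c = 0 ∧ B a d = 0 ∧ B b c = 0 ∧ B b d = 0 ∧
      ∀ v ∈ U, Q v = 1 → (∃ x y : F, v = x • a + y • b) ∨ ∃ x y : F, v = x • c + y • d := by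
  classical
  have h2 : (2 : F) = 0 := by
    have := Nat.cast_card_eq_zero F
    rw [hq] at this
    exact_mod_cast this
  have hone : ∀ x : F, x ≠ 0 → x = 1 := fun x hx => by
    have := FiniteField.pow_card_sub_one_eq_one x hx
    rwa [hq, pow_one] at this
  obtain ⟨V, hVU, hVs, hV⟩ := hp
  let bV := Module.finBasisOfFinrankEq F V (show finrank F V = 2 by omega)
  set e := (bV 0 : ι → F) with he_def
  set e' := (bV 1 : ι → F) with he'_def
  have he : e ∈ U := hVU (bV 0).2
  have he' : e' ∈ U := hVU (bV 1).2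
  have hli : ∀ c : F, bV 0 ≠ c • bV 1 ∧ bV 1 ≠ c • bV 0 := fun c => by
    constructor <;> intro h
    · have := congrArg (fun z => bV.repr z 0) h
      simp [Finsupp.single_apply] at this
    · have := congrArg (fun z => bV.repr z 1) h
      simp [Finsupp.single_apply] at this
  have hQe : Q e = 0 := hVs e (bV 0).2
  have hQe' : Q e' = 0 := hVs e' (bV 1).2
  have hee : B e e' = 0 := by
    have := hVs (e + e') (V.add_mem (bV 0).2 (bV 1).2)
    rwa [C.add, hQe, hQe', zero_add, zero_add] at this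
  obtain ⟨z, hz, hez, he'z⟩ := dual_vec C hU he he' fun c h => (hli c).1 (Subtype.ext h)
  set f := z + (-Q z) • e with hf
  have hfU : f ∈ U := U.add_mem hz (U.smul_mem _ he)
  have hef : B e f = 1 := by rw [hf, map_add, map_smul, hez, C.self_zero hQe, smul_zero, add_zero]
  have he'f : B e' f = 0 := by rw [hf, map_add, map_smul, he'z, C.symm e' e, hee, smul_zero, add_zero]
  have hQf : Q f = 0 := by
    rw [hf, C.add, C.smul, map_smul, hQe, smul_eq_mul, C.symm z e, hez]
    ring
  obtain ⟨z', hz', he'z', hez'⟩ := dual_vec C hU he' he fun c h => (hli c).2 (Subtype.ext h)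
  set g := z' + (-B f z') • e with hg
  set f' := g + (-Q g) • e' with hf'
  have hgU : g ∈ U := U.add_mem hz' (U.smul_mem _ he)
  have hf'U : f' ∈ U := U.add_mem hgU (U.smul_mem _ he')
  have he'e : B e' e = 0 := by rw [C.symm, hee]
  have he'g : B e' g = 1 := by rw [hg, map_add, map_smul, he'z', he'e, smul_zero, add_zero]
  have heg : B e g = 0 := by rw [hg, map_add, map_smul, hez', C.self_zero hQe, smul_zero, add_zero]
  have hfg : B f g = 0 := by
    rw [hg, map_add, map_smul, C.symm f e, hef, smul_eq_mul, mul_one, add_neg_cancel]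
  have he'f' : B e' f' = 1 := by rw [hf', map_add, map_smul, he'g, C.self_zero hQe', smul_zero, add_zero]
  have hef' : B e f' = 0 := by rw [hf', map_add, map_smul, heg, hee, smul_zero, add_zero]
  have hff' : B f f' = 0 := by rw [hf', map_add, map_smul, hfg, C.symm f e', he'f, smul_zero, add_zero]
  have hQf' : Q f' = 0 := by
    rw [hf', C.add, C.smul, map_smul, hQe', smul_eq_mul, C.symm g e', he'g]
    ring
  have sE : B f e = 1 := by rw [C.symm, hef]
  have sE' : B f' e' = 1 := by rw [C.symm, he'f']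
  have s1 : B f e' = 0 := by rw [C.symm, he'f]
  have s2 : B f' e = 0 := by rw [C.symm, hef']
  have s3 : B f' f = 0 := by rw [C.symm, hff']
  set a := e + f
  set b := e + e' + f'
  set c := e' + f'
  set d := e + f + e'
  have hQ : Q a = 1 ∧ Q b = 1 ∧ Q c = 1 ∧ Q d = 1 := by
    refine ⟨?_, ?_, ?_, ?_⟩ <;>
      simp [a, b, c, d, C.add, hQe, hQe', hQf, hQf', hee, hef, hef', he'f, he'f', hff', sE, sE', s1, s2, s3, he'e]
  have hab : B a b = 1 := by
    simp [a, b, C.self_zero hQe, C.self_zero hQf, hee, hef', sE, s1, hff']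
  have hcd : B c d = 1 := by
    simp [c, d, C.self_zero hQe', he'e, he'f, s2, s3, sE']
  have hac : B a c = 0 := by simp [a, c, hee, hef', s1, hff']
  have had : B a d = 0 := by
    simp [a, d, C.self_zero hQe, C.self_zero hQf, hee, hef, sE, s1]; linear_combination h2
  have hbc : B b c = 0 := by
    simp [b, c, C.self_zero hQe', C.self_zero hQf', hee, hef', he'f', sE']; linear_combination h2
  have hbd : B b d = 0 := by
    simp [b, d, C.self_zero hQe, C.self_zero hQe', hee, hef, he'e, he'f, s2, s3, sE']; linear_combination h2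
  obtain ⟨hQa, hQb, hQc, hQd⟩ := hQ
  have haU : a ∈ U := U.add_mem he hfU
  have hbU : b ∈ U := U.add_mem (U.add_mem he he') hf'U
  have hcU : c ∈ U := U.add_mem he' hf'U
  have hdU : d ∈ U := U.add_mem (U.add_mem he hfU) he'
  refine ⟨a, b, c, d, haU, hbU, hcU, hdU, hQa, hQb, hQc, hQd, hab, hcd, hac, had, hbc, hbd, fun v hv hQv => ?_⟩
  have hself : ∀ x, B x x = 0 := fun x => by rw [C.self, h2, zero_mul]
  have hba : B b a = 1 := by rw [C.symm, hab]
  have hdc : B d c = 1 := by rw [C.symm, hcd]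
  have hli4 : LinearIndependent F ![a, b, c, d] := Fintype.linearIndependent_iff.2 fun g hg => by
    rw [Fin.sum_univ_four] at hg
    have k1 := congrArg (B b) hg
    have k0 := congrArg (B a) hg
    have k3 := congrArg (B d) hg
    have k2 := congrArg (B c) hg
    simp [hself, hab, hba, hcd, hdc, hac, had, hbc, hbd, C.symm c a, C.symm c b, C.symm d a, C.symm d b]
      at k0 k1 k2 k3
    intro i
    fin_cases i
    exacts [k1, k0, k3, k2]
  have hspan : Submodule.span F (Set.range ![a, b, c, d]) = U :=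
    Submodule.eq_of_le_of_finrank_le (Submodule.span_le.2 (by
      rintro _ ⟨i, rfl⟩
      fin_cases i
      exacts [haU, hbU, hcU, hdU]))
      (by rw [finrank_span_eq_card hli4, hk, Fintype.card_fin])
  rw [← hspan, Submodule.mem_span_range_iff_exists_fun] at hv
  obtain ⟨x, rfl⟩ := hv
  rw [Fin.sum_univ_four] at hQv ⊢
  by_cases h01 : x 0 = 0 ∧ x 1 = 0
  · exact Or.inr ⟨x 2, x 3, by simp [h01.1, h01.2]⟩
  by_cases h23 : x 2 = 0 ∧ x 3 = 0
  · exact Or.inl ⟨x 0, x 1, by simp [h23.1, h23.2]⟩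
  exfalso
  simp [C.add, C.smul, hQa, hQb, hQc, hQd, hab, hcd, hac, had, hbc, hbd] at hQv
  by_cases y0 : x 0 = 0 <;> by_cases y1 : x 1 = 0 <;> by_cases y2 : x 2 = 0 <;> by_cases y3 : x 3 = 0 <;>
    first
      | exact h01 ⟨y0, y1⟩
      | exact h23 ⟨y2, y3⟩
      | (try rw [hone _ y0] at hQv
         try rw [hone _ y1] at hQv
         try rw [hone _ y2] at hQv
         try rw [hone _ y3] at hQv
         try simp only [y0, y1, y2, y3] at hQv
         ring_nf at hQv
         first
           | exact one_ne_zero (α := F) (by linear_combination hQv - h2)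
           | exact one_ne_zero (α := F) (by linear_combination hQv)
           | exact one_ne_zero (α := F) (by linear_combination hQv - 2 * h2)
           | exact one_ne_zero (α := F) (by linear_combination -hQv)
           | exact one_ne_zero (α := F) (by linear_combination hQv - 3 * h2)
           | exact one_ne_zero (α := F) (by linear_combination -hQv + h2))

/-- Blocks of dimension four of plus type over the field of two elements. -/
theorem plus_fours_two [Fintype F] (hq : Fintype.card F = 2) (C : Space Q B) (ht : 2 ≤ t)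
    (h5 : 5 ≤ Fintype.card ι) (horth : ∀ i l, i ≠ l → ∀ u ∈ D i, ∀ w ∈ D l, B u w = 0)
    (hnd : ∀ i, NDeg B (D i)) (hdim : ∀ i, finrank F (D i) = 4) (hp : ∀ i, Cfsg.Geo.IsPlusTypeOn Q (D i)) :
    ∃ K : Subgroup (GL ι F), Cfsg.Geo.decompositionStabilizer D ⊓ Cfsg.Geo.omegaGL Q < K ∧
      K < Cfsg.Geo.omegaGL Q := by
  classical
  have h2 : (2 : F) = 0 := by
    have := Nat.cast_card_eq_zero F
    rw [hq] at this
    exact_mod_cast this
  choose a b c d ha hb hc hd hQa hQb hQc hQd hab hcd hac had hbc hbd hsp using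
    fun i => plus_four_two hq C (hnd i) (hdim i) (hp i)
  let N : Set (ι → F) := {v | Q v = 1 ∧ ∃ i, v ∈ D i}
  let i0 : Fin t := ⟨0, by omega⟩
  let i1 : Fin t := ⟨1, by omega⟩
  have h01 : i0 ≠ i1 := by simp [i0, i1]
  have o : ∀ {i l : Fin t} {x y : ι → F}, i ≠ l → x ∈ D i → y ∈ D l → B x y = 0 :=
    fun h hx hy => horth _ _ h _ hx _ hy
  have hself : ∀ x, B x x = 0 := fun x => by rw [C.self, h2, zero_mul]
  have hba : ∀ i, B (b i) (a i) = 1 := fun i => by rw [C.symm, hab]
  have hdc : ∀ i, B (d i) (c i) = 1 := fun i => by rw [C.symm, hcd]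
  have hca : ∀ i, B (c i) (a i) = 0 := fun i => by rw [C.symm, hac]
  have hda : ∀ i, B (d i) (a i) = 0 := fun i => by rw [C.symm, had]
  have hcb : ∀ i, B (c i) (b i) = 0 := fun i => by rw [C.symm, hbc]
  have hdb : ∀ i, B (d i) (b i) = 0 := fun i => by rw [C.symm, hbd]
  have htwo : ∀ v : ι → F, v + v = 0 := fun v => by rw [← two_smul F v, h2, zero_smul]
  have hO := omegaGL_eq C h5
  refine set_between C h5 N (fun g hgI hgD x hx => ?_) ?_ ?_
  · obtain ⟨σ, hσ⟩ := hgD
    obtain ⟨hx1, i, hxi⟩ := hx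
    exact ⟨by rw [mem_iso.mp hgI, hx1], σ i, by rw [← hσ]; exact ⟨x, hxi, Matrix.toLin'_apply _ _⟩⟩
  · set u := a i0 + a i1 with hu
    set v := b i0 + b i1 with hv
    have hQu : Q u = 0 := by
      rw [hu, C.add, hQa, hQa, o h01 (ha _) (ha _)]; linear_combination h2
    have hQv : Q v = 0 := by
      rw [hv, C.add, hQb, hQb, o h01 (hb _) (hb _)]; linear_combination h2
    have huv : B u v = 0 := by
      rw [hu, hv]
      simp [hab, o h01 (ha i0) (hb i1), o h01.symm (ha i1) (hb i0)]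
      linear_combination h2
    set g := sGL Q B u v
    have hact : ∀ x, g.val *ᵥ x = x + B u x • v - B v x • u := fun x => by
      rw [sGL_act C hQu huv, hQv, zero_mul, add_zero]
    have hgI : g ∈ isometryGroup F Q := sGL_mem C hQu huv
    have fix : ∀ {x}, B u x = 0 → B v x = 0 → g.val *ᵥ x = x := fun h h' => by
      rw [hact, h, h', zero_smul, zero_smul, add_zero, sub_zero]
    have hc' : ∀ i, g.val *ᵥ c i = c i ∧ g.val *ᵥ d i = d i := by
      intro i
      have hb0 : ∀ {j}, B (a j) (c i) = 0 ∧ B (b j) (c i) = 0 ∧ B (a j) (d i) = 0 ∧ B (b j) (d i) = 0 := by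
        intro j
        by_cases hji : j = i
        · subst hji; exact ⟨hac _, hbc _, had _, hbd _⟩
        · exact ⟨o hji (ha _) (hc _), o hji (hb _) (hc _), o hji (ha _) (hd _), o hji (hb _) (hd _)⟩
      constructor <;> refine fix ?_ ?_ <;>
        simp [hu, hv, (hb0 (j := i0)).1, (hb0 (j := i1)).1, (hb0 (j := i0)).2.1, (hb0 (j := i1)).2.1,
          (hb0 (j := i0)).2.2.1, (hb0 (j := i1)).2.2.1, (hb0 (j := i0)).2.2.2, (hb0 (j := i1)).2.2.2]
    have hgn : ∀ x : ι → F, -x = x := fun x => neg_eq_of_add_eq_zero_left (htwo x)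
    have hswap : ∀ i, ∃ l, g.val *ᵥ a i = a l ∧ g.val *ᵥ b i = b l := by
      intro i
      by_cases h0 : i = i0
      · subst h0
        refine ⟨i1, ?_, ?_⟩
        · rw [hact]
          simp [hu, hv, hself, hba, o h01.symm (ha i1) (ha i0), o h01.symm (hb i1) (ha i0), sub_eq_add_neg, hgn]
          rw [← add_assoc, htwo, zero_add]
        · rw [hact]
          simp [hu, hv, hself, hab, o h01.symm (ha i1) (hb i0), o h01.symm (hb i1) (hb i0)]
          rw [← add_assoc, htwo, zero_add]
      by_cases h1 : i = i1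
      · subst h1
        refine ⟨i0, ?_, ?_⟩
        · rw [hact]
          simp [hu, hv, hself, hba, o h01 (ha i0) (ha i1), o h01 (hb i0) (ha i1), sub_eq_add_neg, hgn]
          rw [add_left_comm, htwo, add_zero]
        · rw [hact]
          simp [hu, hv, hself, hab, o h01 (ha i0) (hb i1), o h01 (hb i0) (hb i1)]
          rw [add_left_comm, htwo, add_zero]
      refine ⟨i, fix ?_ ?_, fix ?_ ?_⟩ <;>
        simp [hu, hv, o (Ne.symm h0) (ha i0) (ha i), o (Ne.symm h1) (ha i1) (ha i), o (Ne.symm h0) (hb i0) (ha i),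
          o (Ne.symm h1) (hb i1) (ha i), o (Ne.symm h0) (ha i0) (hb i), o (Ne.symm h1) (ha i1) (hb i),
          o (Ne.symm h0) (hb i0) (hb i), o (Ne.symm h1) (hb i1) (hb i)]
    refine ⟨g, hO ▸ sGL_mem_root trivial trivial hQu huv, fun x hx => ⟨by rw [mem_iso.mp hgI]; exact hx.1, ?_⟩,
      i0, a i0 + c i0, (D i0).add_mem (ha _) (hc _), not_mem_of_two horth h01.symm (hb i1) (hd i0) ?_ ?_⟩
    · obtain ⟨hx1, i, hxi⟩ := hx
      rcases hsp i x hxi hx1 with ⟨p, q, rfl⟩ | ⟨p, q, rfl⟩
      · obtain ⟨l, hl, hl'⟩ := hswap i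
        exact ⟨l, by
          rw [Matrix.mulVec_add, Matrix.mulVec_smul, Matrix.mulVec_smul, hl, hl']
          exact (D l).add_mem ((D l).smul_mem _ (ha l)) ((D l).smul_mem _ (hb l))⟩
      · exact ⟨i, by rwa [Matrix.mulVec_add, Matrix.mulVec_smul, Matrix.mulVec_smul, (hc' i).1, (hc' i).2]⟩
    all_goals
      have h0 : g.val *ᵥ a i0 = a i1 := by
        rw [hact]
        simp [hu, hv, hself, hba, o h01.symm (ha i1) (ha i0), o h01.symm (hb i1) (ha i0), sub_eq_add_neg, hgn]
        rw [← add_assoc, htwo, zero_add]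
      rw [Matrix.mulVec_add, h0, (hc' i0).1, map_add, LinearMap.add_apply]
    · rw [hab, o h01 (hc _) (hb _)]; simp
    · rw [o h01.symm (ha _) (hd _), hcd]; simp
  · have hQu : Q (a i0 + c i0) = 0 := by
      rw [C.add, hQa, hQc, hac]; linear_combination h2
    have hua : B (a i0 + c i0) (a i1) = 0 := by
      rw [map_add, LinearMap.add_apply, o h01 (ha _) (ha _), o h01 (hc _) (ha _), add_zero]
    refine ⟨sGL Q B (a i0 + c i0) (a i1), hO ▸ sGL_mem_root trivial trivial hQu hua, b i0, ⟨hQb i0, i0, hb i0⟩,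
      fun h => ?_⟩
    obtain ⟨-, l, hl⟩ := h
    refine not_mem_of_two horth h01 (hd i0) (hb i1) ?_ ?_ l hl
    all_goals
      rw [sGL_act C hQu hua]
      simp [hQa, hab, hcd, hcb, hbd, had, o h01.symm (ha i1) (hb i0), o h01.symm (ha i1) (hd i0),
        o h01 (hb i0) (hb i1), o h01 (ha i0) (hb i1), o h01 (hc i0) (hb i1)]

end Cfsg.Lib.Linear.Orth
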