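import Cfsg.Agent.Lib.Linear.HermParabolic

/-! Determinants on centralisers of semisimple unitary transformations. -/

set_option autoImplicit false

namespace Cfsg.Lib.Linear.Herm.CentDet

open Module Polynomial
open scoped Matrix

section General

variable {F V : Type*} [Field F] [AddCommGroup V] [Module F V]

theorem aeval_mem (f : End F V) {U : Submodule F V} (hU : ∀ x ∈ U, f x ∈ U) (P : F[X]) {x : V} (hx : x ∈ U) :
    aeval f P x ∈ U := by
  induction P using Polynomial.induction_on' generalizing x with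
  | add P Q hP hQ => rw [map_add, LinearMap.add_apply]; exact U.add_mem (hP hx) (hQ hx)
  | monomial k c =>
    rw [aeval_monomial, End.mul_apply, Module.algebraMap_end_apply]
    refine U.smul_mem c ?_
    induction k generalizing x with
    | zero => simpa using hx
    | succ k ih => rw [pow_succ', End.mul_apply]; exact hU _ (ih hx)

/-- A polynomial in `f` restricted to an invariant subspace. -/
noncomputable def res (f : End F V) (U : Submodule F V) (hU : ∀ x ∈ U, f x ∈ U) (P : F[X]) : End F U :=
  (aeval f P).restrict fun _ hx => aeval_mem f hU P hx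

theorem res_apply (f : End F V) (U : Submodule F V) (hU : ∀ x ∈ U, f x ∈ U) (P : F[X]) (x : U) :
    ((res f U hU P x : U) : V) = aeval f P (x : V) := rfl

theorem res_mul (f : End F V) (U : Submodule F V) (hU : ∀ x ∈ U, f x ∈ U) (P Q : F[X]) :
    res f U hU (P * Q) = res f U hU P * res f U hU Q :=
  LinearMap.ext fun x => Subtype.ext (by rw [res_apply, map_mul]; rfl)

theorem res_eq_aeval (f : End F V) (U : Submodule F V) (hU : ∀ x ∈ U, f x ∈ U) (P : F[X]) :
    res f U hU P = aeval (f.restrict hU) P := by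
  induction P using Polynomial.induction_on' with
  | add P Q hP hQ =>
    rw [map_add, ← hP, ← hQ]
    exact LinearMap.ext fun x => Subtype.ext (by simp [res_apply])
  | monomial k c =>
    rw [aeval_monomial]
    refine LinearMap.ext fun x => Subtype.ext ?_
    rw [res_apply, aeval_monomial, End.mul_apply, End.mul_apply, Module.algebraMap_end_apply,
      Module.algebraMap_end_apply, Submodule.coe_smul]
    congr 1
    induction k generalizing x with
    | zero => rfl
    | succ k ih =>
      rw [pow_succ', pow_succ', End.mul_apply, End.mul_apply, ih]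
      rfl

theorem det_id_add_comp [FiniteDimensional F V] {U : Submodule F V} (π : V →ₗ[F] U)
    (A : U →ₗ[F] V) : LinearMap.det (LinearMap.id + A.comp π) = LinearMap.det (LinearMap.id + π.comp A) := by
  classical
  let b := finBasis F V
  let c := finBasis F U
  rw [← LinearMap.det_toMatrix b, ← LinearMap.det_toMatrix c, map_add, map_add, LinearMap.toMatrix_id,
    LinearMap.toMatrix_id, LinearMap.toMatrix_comp b c b, LinearMap.toMatrix_comp c b c,
    Matrix.det_one_add_mul_comm]

/-- On a minimal invariant subspace every unit is the determinant of a polynomial in `f`. -/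
theorem exists_det [Finite F] [FiniteDimensional F V] (f : End F V) (U : Submodule F V)
    (hU : ∀ x ∈ U, f x ∈ U) (hne : U ≠ ⊥)
    (hmin : ∀ D ≤ U, (∀ x ∈ D, f x ∈ D) → D = ⊥ ∨ D = U) {a : F} (ha : a ≠ 0) :
    ∃ P Q : F[X], LinearMap.det (res f U hU P) = a ∧ res f U hU (P * Q) = 1 := by
  classical
  haveI : Nontrivial U := Submodule.nontrivial_iff_ne_bot.2 hne
  set g : End F U := f.restrict hU with hg
  have hmin' : ∀ D : Submodule F U, (∀ x ∈ D, g x ∈ D) → D = ⊥ ∨ D = ⊤ := by
    intro D hD
    rcases hmin (D.map U.subtype) (Submodule.map_subtype_le U D) (by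
        rintro _ ⟨x, hx, rfl⟩
        exact ⟨g x, hD x hx, rfl⟩) with h | h
    · left
      exact Submodule.map_injective_of_injective U.injective_subtype (h.trans (Submodule.map_bot _).symm)
    · right
      exact Submodule.map_injective_of_injective U.injective_subtype (h.trans (Submodule.map_subtype_top U).symm)
  set m := minpoly F g with hm
  have hint : IsIntegral F g := Algebra.IsIntegral.isIntegral g
  have hirr : Irreducible m := by
    refine ⟨minpoly.not_isUnit F g, fun a b hab => ?_⟩
    have hm0 : a * b ≠ 0 := hab ▸ minpoly.ne_zero hint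
    by_cases h : aeval g a = 0
    · right
      obtain ⟨c, hc⟩ := minpoly.dvd F g h
      refine IsUnit.of_mul_eq_one c ?_
      have h1 : a * (b * c) = a * 1 := by rw [← mul_assoc, ← hab, mul_one]; exact hc.symm
      exact mul_left_cancel₀ (left_ne_zero_of_mul hm0) h1
    · left
      have hker : LinearMap.ker (aeval g a) = ⊥ := by
        refine (hmin' _ fun x hx => ?_).resolve_right fun h' => h (LinearMap.ker_eq_top.1 h')
        rw [LinearMap.mem_ker] at hx ⊢
        rw [← End.mul_apply, show aeval g a * g = g * aeval g a by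
          conv_lhs => arg 2; rw [← aeval_X (R := F) g]
          rw [← map_mul, mul_comm, map_mul, aeval_X], End.mul_apply, hx, map_zero]
      have hb0 : aeval g b = 0 := LinearMap.ext fun x => by
        have h2 : aeval g a (aeval g b x) = 0 := by
          rw [← End.mul_apply, ← map_mul, ← hab, hm, minpoly.aeval]; rfl
        exact (LinearMap.ker_eq_bot.1 hker) (h2.trans (map_zero _).symm)
      obtain ⟨c, hc⟩ := minpoly.dvd F g hb0
      refine IsUnit.of_mul_eq_one c ?_
      have h1 : b * (a * c) = b * 1 := by rw [← mul_assoc, mul_comm b a, ← hab, mul_one]; exact hc.symm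
      exact mul_left_cancel₀ (right_ne_zero_of_mul hm0) h1
  haveI : Fact (Irreducible m) := ⟨hirr⟩
  let ψ : AdjoinRoot m →ₐ[F] End F U := Ideal.Quotient.liftₐ (Ideal.span {m}) (aeval g) (fun a ha => by
    obtain ⟨c, rfl⟩ := Ideal.mem_span_singleton.1 ha
    rw [map_mul, minpoly.aeval, zero_mul])
  have hψ : ∀ P, ψ (AdjoinRoot.mk m P) = aeval g P := fun P => rfl
  obtain ⟨v, hv⟩ := exists_ne (0 : U)
  let ev : AdjoinRoot m →ₗ[F] U := (LinearMap.applyₗ v).comp ψ.toLinearMap
  have hev : ∀ e, ev e = ψ e v := fun e => rfl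
  have hinj : Function.Injective ev := by
    rw [← LinearMap.ker_eq_bot, LinearMap.ker_eq_bot']
    intro e he
    by_contra he0
    apply hv
    have : ψ (e⁻¹ * e) v = v := by rw [inv_mul_cancel₀ he0, map_one]; rfl
    rw [← this, map_mul, End.mul_apply, ← hev, he, map_zero]
  have hsurj : Function.Surjective ev := by
    rw [← LinearMap.range_eq_top]
    refine (hmin' _ fun x hx => ?_).resolve_left fun h' => hv ?_
    · obtain ⟨e, rfl⟩ := hx
      exact ⟨AdjoinRoot.mk m X * e, by rw [hev, hev, map_mul, hψ, aeval_X]; rfl⟩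
    · have : v ∈ LinearMap.range ev := ⟨1, by rw [hev, map_one]; rfl⟩
      rwa [h', Submodule.mem_bot] at this
  let evE := LinearEquiv.ofBijective ev ⟨hinj, hsurj⟩
  haveI : Module.Finite F (AdjoinRoot m) := Module.Finite.equiv evE.symm
  haveI : Finite (AdjoinRoot m) := Module.finite_of_finite F
  have hdet : ∀ e, LinearMap.det (ψ e) = Algebra.norm F e := by
    intro e
    rw [Algebra.norm_apply, ← LinearMap.det_conj (Algebra.lmul F (AdjoinRoot m) e) evE]
    congr 1
    refine LinearMap.ext fun x => ?_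
    obtain ⟨w, rfl⟩ := hsurj x
    show ψ e (ev w) = ev (e * evE.symm (evE w))
    rw [LinearEquiv.symm_apply_apply, hev, hev, map_mul]
    rfl
  obtain ⟨e, he⟩ := FiniteField.norm_surjective F (AdjoinRoot m) a
  have he0 : e ≠ 0 := fun h => ha (by rw [← he, h, Algebra.norm_zero])
  obtain ⟨P, hP⟩ := AdjoinRoot.mk_surjective e
  obtain ⟨Q, hQ⟩ := AdjoinRoot.mk_surjective (g := m) e⁻¹
  refine ⟨P, Q, ?_, ?_⟩
  · rw [res_eq_aeval, ← hg, ← hψ, hP, hdet, he]
  · rw [res_eq_aeval, ← hg, ← hψ, map_mul (AdjoinRoot.mk m), hP, hQ, mul_inv_cancel₀ he0, map_one]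

end General

variable {F : Type*} [Field F] [Fintype F] {q : ℕ}

/-- Adjoint endomorphisms of paired subspaces have conjugate determinants. -/
theorem det_adjoint (hF : Fintype.card F = q ^ 2) {n : ℕ} (U C : Submodule F (Fin n → F))
    (hdim : finrank F C = finrank F U)
    (hnd : ∀ u ∈ U, (∀ c ∈ C, hB hF n u c = 0) → u = 0) (S : End F U) (S' : End F C)
    (h : ∀ (u : U) (c : C), hB hF n ((S u : U) : Fin n → F) (c : Fin n → F) = hB hF n (u : Fin n → F) ((S' c : C) : Fin n → F)) :
    LinearMap.det S' = frob hF (LinearMap.det S) := by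
  classical
  let bU := finBasis F U
  let bC := (finBasis F C).reindex (finCongr hdim)
  let G : Matrix (Fin (finrank F U)) (Fin (finrank F U)) F :=
    Matrix.of fun i j => hB hF n (bU i : Fin n → F) (bC j : Fin n → F)
  have hG : G.det ≠ 0 := by
    intro h0
    obtain ⟨w, hw, hw0⟩ := Matrix.exists_vecMul_eq_zero_iff.2 h0
    set z : U := ∑ i, frob hF (w i) • bU i with hz
    have hz0 : (z : Fin n → F) = 0 := by
      refine hnd _ z.2 fun c hc => ?_
      rw [show c = ((∑ j, bC.repr ⟨c, hc⟩ j • bC j : C) : Fin n → F) by rw [bC.sum_repr]]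
      simp only [AddSubmonoidClass.coe_finsetSum, map_sum]
      refine Finset.sum_eq_zero fun j _ => ?_
      have hj := congrFun hw0 j
      simp only [Matrix.vecMul, dotProduct, G, Matrix.of_apply, Pi.zero_apply] at hj
      rw [Submodule.coe_smul, map_smul, hz, Submodule.coe_sum, map_sum, LinearMap.sum_apply]
      rw [show ∑ i, hB hF n ((frob hF (w i) • bU i : U) : Fin n → F) (bC j : Fin n → F) =
          ∑ i, w i * hB hF n (bU i : Fin n → F) (bC j : Fin n → F) from Finset.sum_congr rfl fun i _ => by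
        rw [Submodule.coe_smul, LinearMap.map_smulₛₗ, LinearMap.smul_apply, frob_frob hF, smul_eq_mul], hj,
        smul_zero]
    have h1 := Fintype.linearIndependent_iff.1 bU.linearIndependent (fun i => frob hF (w i)) (Subtype.ext hz0)
    exact hw (funext fun i => by simpa using h1 i)
  set M := LinearMap.toMatrix bU bU S with hM
  set M' := LinearMap.toMatrix bC bC S' with hM'
  have heq : (M.map (frob hF))ᵀ * G = G * M' := by
    ext i j
    have hh := h (bU i) (bC j)
    rw [← bU.sum_repr (S (bU i)), ← bC.sum_repr (S' (bC j)), Submodule.coe_sum, Submodule.coe_sum, map_sum, map_sum,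
      LinearMap.sum_apply] at hh
    rw [Matrix.mul_apply, Matrix.mul_apply]
    refine Eq.trans (Finset.sum_congr rfl fun k _ => ?_) (hh.trans (Finset.sum_congr rfl fun k _ => ?_))
    · rw [Submodule.coe_smul, LinearMap.map_smulₛₗ, LinearMap.smul_apply, smul_eq_mul]
      simp [hM, G, LinearMap.toMatrix_apply]
    · rw [Submodule.coe_smul, map_smul, smul_eq_mul]
      simp [hM', G, LinearMap.toMatrix_apply, mul_comm]
  have hd := congrArg Matrix.det heq
  rw [Matrix.det_mul, Matrix.det_mul, Matrix.det_transpose, mul_comm G.det] at hd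
  have := mul_right_cancel₀ hG hd
  rw [show (M.map (frob hF)).det = frob hF M.det from ((frob hF).map_det M).symm] at this
  rw [← LinearMap.det_toMatrix bC, ← LinearMap.det_toMatrix bU]
  exact this.symm

theorem exists_centralizer_det (hF : Fintype.card F = q ^ 2) {n : ℕ} (hn : 1 ≤ n)
    (f : End F (Fin n → F)) (hf : ∀ x y, hB hF n (f x) (f y) = hB hF n x y) {N : ℕ} (hN : (N : F) ≠ 0)
    (hfN : f ^ N = 1) {z : F} (hz : frob hF z * z = 1) :
    ∃ x : End F (Fin n → F), (∀ u v, hB hF n (x u) (x v) = hB hF n u v) ∧ x * f = f * x ∧ LinearMap.det x = z := by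
  classical
  haveI : Nonempty (Fin n) := ⟨⟨0, hn⟩⟩
  have hsym := (hB_isSymm hF n).eq
  have hN0 : N ≠ 0 := fun h => hN (by rw [h, Nat.cast_zero])
  set f' := f ^ (N - 1) with hf'
  have hff : ∀ y, f (f' y) = y := fun y => by
    rw [hf', ← End.mul_apply, ← pow_succ', Nat.sub_add_cancel (Nat.one_le_iff_ne_zero.2 hN0), hfN]; rfl
  have hadj1 : ∀ x y, hB hF n (f x) y = hB hF n x (f' y) := fun x y => by
    conv_lhs => rw [← hff y, hf]
  let adj : F[X] → F[X] := fun P => (P.map (frob hF)).comp (X ^ (N - 1))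
  have hadj : ∀ P x y, hB hF n (aeval f P x) y = hB hF n x (aeval f (adj P) y) := by
    intro P
    induction P using Polynomial.induction_on' with
    | add P Q hP hQ =>
      intro x y
      simp only [adj, Polynomial.map_add, add_comp, map_add, LinearMap.add_apply]
      rw [hP, hQ]
    | monomial k c =>
      intro x y
      simp only [adj, map_monomial, monomial_comp, aeval_monomial, map_mul, map_pow, aeval_X, aeval_C,
        End.mul_apply, Module.algebraMap_end_apply, LinearMap.map_smulₛₗ, LinearMap.smul_apply, RingHom.id_apply]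
      congr 1
      rw [← hf']
      induction k generalizing x y with
      | zero => rfl
      | succ k ih => rw [pow_succ, End.mul_apply, ih, hadj1, pow_succ', End.mul_apply]
  -- invariant complements
  have hss : f.IsSemisimple := by
    refine End.isSemisimple_of_squarefree_aeval_eq_zero ((X_pow_sub_one_separable_iff (F := F)).mpr hN).squarefree ?_
    simp [hfN]
  have hperp : ∀ X : Submodule F (Fin n → F), (∀ x ∈ X, f x ∈ X) → ∀ x ∈ perp hF X, f x ∈ perp hF X := by
    intro X hX x hx u hu
    have hu' : f' u ∈ X := by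
      rw [hf', ← aeval_X (R := F) f, ← map_pow]
      exact aeval_mem f hX _ hu
    rw [← hff u, hf]
    exact hx _ hu'
  -- a minimal invariant subspace
  obtain ⟨U, hUm, hUmin⟩ := Finset.exists_min_image
    (Finset.univ.filter fun U : Submodule F (Fin n → F) => (∀ x ∈ U, f x ∈ U) ∧ U ≠ ⊥)
    (fun U => finrank F U) ⟨⊤, by simp⟩
  obtain ⟨hU, hUne⟩ := (Finset.mem_filter.1 hUm).2
  have hirrU : ∀ D ≤ U, (∀ x ∈ D, f x ∈ D) → D = ⊥ ∨ D = U := by
    intro D hD hDf
    by_cases h : D = ⊥
    · exact Or.inl h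
    · exact Or.inr (Submodule.eq_of_le_of_finrank_le hD (hUmin D (Finset.mem_filter.2 ⟨Finset.mem_univ _, hDf, h⟩)))
  have hndir : ∀ X : Submodule F (Fin n → F), (∀ D ≤ X, (∀ x ∈ D, f x ∈ D) → D = ⊥ ∨ D = X) → (∀ x ∈ X, f x ∈ X) →
      X ⊓ perp hF X = ⊥ ∨ ∀ u ∈ X, ∀ v ∈ X, hB hF n u v = 0 := by
    intro X hX hXf
    rcases hX (X ⊓ perp hF X) inf_le_left (fun x hx => ⟨hXf x hx.1, hperp X hXf x hx.2⟩) with h | h
    · exact Or.inl h
    · exact Or.inr fun u hu v hv => (h.ge hv).2 u hu
  -- Hilbert 90
  obtain ⟨a, ha0, ha⟩ : ∃ a : F, a ≠ 0 ∧ a = z * frob hF a := by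
    by_cases h : z = -1
    · obtain ⟨y, hy0, hy⟩ := exists_trace_zero (frob_ne_id hF) (frob_frob hF)
      exact ⟨y, hy0, by rw [h]; linear_combination hy⟩
    · refine ⟨1 + z, fun h' => h (eq_neg_of_add_eq_zero_right h'), ?_⟩
      rw [map_add, map_one]
      linear_combination -hz
  have hσa : frob hF a ≠ 0 := fun h => ha0 (by rw [ha, h, mul_zero])
  -- projections attached to a pairing
  have hproj : ∀ U C : Submodule F (Fin n → F), finrank F C = finrank F U →
      (∀ u ∈ U, (∀ c ∈ C, hB hF n u c = 0) → u = 0) → (∀ x ∈ U, f x ∈ U) → (∀ x ∈ C, f x ∈ C) →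
      ∃ π : (Fin n → F) →ₗ[F] U, (∀ u : U, π u = u) ∧
        (∀ v, ∀ c ∈ C, hB hF n c ((π v : U) : Fin n → F) = hB hF n c v) ∧
        ∀ v, ((π (f v) : U) : Fin n → F) = f ((π v : U) : Fin n → F) := by
    intro U C hdim hnd hUf hCf
    let bC := finBasis F C
    let Φ : (Fin n → F) →ₗ[F] (Fin (finrank F C) → F) := LinearMap.pi fun i => hB hF n (bC i : Fin n → F)
    have hΦ : ∀ v w, Φ v = Φ w → ∀ c ∈ C, hB hF n c v = hB hF n c w := by
      intro v w h c hc
      rw [show c = ((∑ j, bC.repr ⟨c, hc⟩ j • bC j : C) : Fin n → F) by rw [bC.sum_repr]]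
      rw [Submodule.coe_sum, map_sum, LinearMap.sum_apply, LinearMap.sum_apply]
      refine Finset.sum_congr rfl fun j _ => ?_
      rw [Submodule.coe_smul, LinearMap.map_smulₛₗ, LinearMap.smul_apply, LinearMap.smul_apply]
      exact congrArg _ (congrFun h j)
    have hinj : Function.Injective (Φ.comp U.subtype) := by
      rw [← LinearMap.ker_eq_bot, LinearMap.ker_eq_bot']
      intro u hu
      refine Subtype.ext (hnd u u.2 fun c hc => ?_)
      have := hΦ (u : Fin n → F) 0 (hu.trans (map_zero Φ).symm) c hc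
      rw [map_zero] at this
      exact hB_symm_zero hF this
    let e := LinearEquiv.ofBijective (Φ.comp U.subtype) ⟨hinj,
      (LinearMap.injective_iff_surjective_of_finrank_eq_finrank (by rw [finrank_fin_fun, hdim])).1 hinj⟩
    refine ⟨e.symm.toLinearMap.comp Φ, fun u => e.symm_apply_apply u, fun v c hc => ?_, fun v => ?_⟩
    · exact hΦ _ _ (e.apply_symm_apply (Φ v)) c hc
    · set u := e.symm (Φ v) with hu
      set u' := e.symm (Φ (f v))
      show (u' : Fin n → F) = f u
      have h1 : ∀ c ∈ C, hB hF n c (u' : Fin n → F) = hB hF n c (f v) := hΦ _ _ (e.apply_symm_apply _)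
      have h2 : ∀ c ∈ C, hB hF n c (u : Fin n → F) = hB hF n c v := hΦ _ _ (e.apply_symm_apply _)
      refine sub_eq_zero.1 (hnd _ (U.sub_mem u'.2 (hUf _ u.2)) fun c hc => ?_)
      apply hB_symm_zero hF
      rw [map_sub, h1 c hc, sub_eq_zero]
      have hc' : f' c ∈ C := by
        rw [hf', ← aeval_X (R := F) f, ← map_pow]
        exact aeval_mem f hCf _ hc
      conv_lhs => rw [← hff c, hf, ← h2 _ hc']
      conv_rhs => rw [← hff c, hf]
  have hcomm : ∀ P v, f (aeval f P v) = aeval f P (f v) := fun P v => by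
    rw [← End.mul_apply, ← End.mul_apply]
    congr 1
    conv_lhs => arg 1; rw [← aeval_X (R := F) f]
    rw [← map_mul, mul_comm, map_mul, aeval_X]
  rcases hndir U hirrU hU with hUnd | hUiso
  · -- non-degenerate
    have hnd : ∀ u ∈ U, (∀ c ∈ U, hB hF n u c = 0) → u = 0 := fun u hu h => by
      have : u ∈ U ⊓ perp hF U := ⟨hu, fun c hc => hB_symm_zero hF (h c hc)⟩
      rwa [hUnd, Submodule.mem_bot] at this
    obtain ⟨P, Q, hP, hPQ⟩ := exists_det f U hU hUne hirrU ha0
    obtain ⟨π, hπ, hπB, hπf⟩ := hproj U U rfl hnd hU hU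
    have hQP : ∀ u ∈ U, aeval f Q (aeval f P u) = u := fun u hu => by
      have := congrArg Subtype.val (LinearMap.congr_fun hPQ ⟨u, hu⟩)
      rw [res_apply, mul_comm, map_mul] at this
      exact this
    have hadjPQ : ∀ u ∈ U, aeval f (adj P) (aeval f (adj Q) u) = u := fun u hu => by
      refine sub_eq_zero.1 (hnd _ (U.sub_mem (aeval_mem f hU _ (aeval_mem f hU _ hu)) hu) fun c hc => ?_)
      apply hB_symm_zero hF
      rw [map_sub, ← hadj, ← hadj, hQP c hc, sub_self]
    set R := P * adj Q with hR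
    have hRiso : ∀ u ∈ U, ∀ v ∈ U, hB hF n (aeval f R u) (aeval f R v) = hB hF n u v := by
      intro u hu v hv
      rw [hR, map_mul, End.mul_apply, End.mul_apply, hadj]
      rw [show aeval f (adj P) (aeval f P (aeval f (adj Q) v)) = aeval f P v by
        rw [← End.mul_apply, ← map_mul, mul_comm, map_mul, End.mul_apply, hadjPQ v hv]]
      rw [← hsym (aeval f P v), hadj, hadjPQ u hu, hsym]
    let A : U →ₗ[F] (Fin n → F) := (aeval f R - 1).comp U.subtype
    let x : End F (Fin n → F) := LinearMap.id + A.comp π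
    have hx : ∀ v, x v = v + (aeval f R ((π v : U) : Fin n → F) - ((π v : U) : Fin n → F)) := fun v => rfl
    have hdecomp : ∀ v, v - ((π v : U) : Fin n → F) ∈ perp hF U := fun v c hc => by
      rw [map_sub, hπB v c hc, sub_self]
    refine ⟨x, fun u v => ?_, LinearMap.ext fun v => ?_, ?_⟩
    · have h1 : ∀ w, x w = (w - ((π w : U) : Fin n → F)) + aeval f R ((π w : U) : Fin n → F) := fun w => by
        rw [hx]; abel
      rw [h1, h1]
      conv_rhs => rw [← sub_add_cancel u ((π u : U) : Fin n → F), ← sub_add_cancel v ((π v : U) : Fin n → F)]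
      have hru := hdecomp u
      have hrv := hdecomp v
      simp only [map_add, LinearMap.add_apply]
      rw [hB_symm_zero hF (hru _ (aeval_mem f hU R (π v).2)), hrv _ (aeval_mem f hU R (π u).2),
        hB_symm_zero hF (hru _ (π v).2), hrv _ (π u).2, hRiso _ (π u).2 _ (π v).2]
    · rw [End.mul_apply, End.mul_apply, hx, hx, hπf, map_add, map_sub, hcomm]
    · rw [show x = LinearMap.id + A.comp π from rfl, det_id_add_comp,
        show LinearMap.id + π.comp A = res f U hU R from LinearMap.ext fun u => by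
          refine Subtype.ext ?_
          rw [LinearMap.add_apply, LinearMap.comp_apply, res_apply]
          show ((LinearMap.id u + π (aeval f R (u : Fin n → F) - u) : U) : Fin n → F) = _
          rw [map_sub, hπ, show π (aeval f R (u : Fin n → F)) = ⟨aeval f R u, aeval_mem f hU R u.2⟩ from
            hπ ⟨_, aeval_mem f hU R u.2⟩]
          simp,
        hR, res_mul, map_mul, hP,
        det_adjoint hF U U rfl hnd (res f U hU Q) (res f U hU (adj Q)) (fun u c => hadj Q _ _)]
      have hdet1 : a * LinearMap.det (res f U hU Q) = 1 := by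
        rw [← hP, ← map_mul, ← res_mul, hPQ, map_one]
      rw [show LinearMap.det (res f U hU Q) = a⁻¹ from (inv_eq_of_mul_eq_one_right hdet1).symm, map_inv₀]
      field_simp
      linear_combination ha
  · -- totally isotropic
    obtain ⟨C', hC'⟩ := End.isSemisimple_iff'.1 hss ⟨perp hF U, fun x hx => hperp U hU x hx⟩
    set C : Submodule F (Fin n → F) := C'.1 with hCdef
    have hCf : ∀ x ∈ C, f x ∈ C := fun x hx => C'.2 hx
    have hcompl : IsCompl (perp hF U) C := by
      refine ⟨disjoint_iff.2 ?_, codisjoint_iff.2 ?_⟩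
      · exact congrArg Subtype.val hC'.inf_eq_bot
      · exact congrArg Subtype.val hC'.sup_eq_top
    have hdimC : finrank F C = finrank F U := by
      have h1 := Submodule.finrank_add_eq_of_isCompl hcompl
      have h2 := finrank_perp hF U
      rw [finrank_fin_fun] at h1
      omega
    have hnd : ∀ u ∈ U, (∀ c ∈ C, hB hF n u c = 0) → u = 0 := by
      intro u hu h
      refine (hB_nondegenerate hF n).1 u fun w => ?_
      obtain ⟨p, hp, c, hc, rfl⟩ := Submodule.mem_sup.1 (show w ∈ perp hF U ⊔ C by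
        rw [hcompl.sup_eq_top]; exact Submodule.mem_top)
      rw [map_add, hp u hu, h c hc, add_zero]
    have hnd' : ∀ c ∈ C, (∀ u ∈ U, hB hF n c u = 0) → c = 0 := by
      intro c hc h
      have : c ∈ perp hF U ⊓ C := ⟨fun u hu => hB_symm_zero hF (h u hu), hc⟩
      rwa [hcompl.inf_eq_bot, Submodule.mem_bot] at this
    have hirrC : ∀ D ≤ C, (∀ x ∈ D, f x ∈ D) → D = ⊥ ∨ D = C := by
      intro D hD hDf
      rcases hirrU (U ⊓ perp hF D) inf_le_left (fun x hx => ⟨hU x hx.1, hperp D hDf x hx.2⟩) with h | h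
      · refine Or.inr (Submodule.eq_of_le_of_finrank_le hD ?_)
        have h1 := Submodule.finrank_sup_add_finrank_inf_eq U (perp hF D)
        have h2 := finrank_perp hF D
        have h3 := Submodule.finrank_le (U ⊔ perp hF D)
        rw [h, finrank_bot] at h1
        rw [finrank_fin_fun] at h3
        omega
      · refine Or.inl ((Submodule.eq_bot_iff _).2 fun d hd => hnd' d (hD hd) fun u hu => ?_)
        exact (h.ge hu).2 d hd
    obtain ⟨U', C₂, hU', hC₂, hndU, hdim2, hiso⟩ : ∃ U' C₂ : Submodule F (Fin n → F),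
        ((∀ x ∈ U', f x ∈ U') ∧ U' ≠ ⊥ ∧ ∀ D ≤ U', (∀ x ∈ D, f x ∈ D) → D = ⊥ ∨ D = U') ∧
        (∀ x ∈ C₂, f x ∈ C₂) ∧ (∀ u ∈ U', (∀ c ∈ C₂, hB hF n u c = 0) → u = 0) ∧
        finrank F C₂ = finrank F U' ∧
        ((U' = C₂) ∨ ((∀ u ∈ U', ∀ v ∈ U', hB hF n u v = 0) ∧ ∀ u ∈ C₂, ∀ v ∈ C₂, hB hF n u v = 0)) := by
      rcases hndir C hirrC hCf with h | h
      · have hCne : C ≠ ⊥ := fun e => hUne (Submodule.finrank_eq_zero.1 (by rw [← hdimC, e, finrank_bot]))
        refine ⟨C, C, ⟨hCf, hCne, hirrC⟩, hCf, fun u hu hu' => ?_, rfl, Or.inl rfl⟩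
        have : u ∈ C ⊓ perp hF C := ⟨hu, fun c hc => hB_symm_zero hF (hu' c hc)⟩
        rwa [h, Submodule.mem_bot] at this
      · exact ⟨U, C, ⟨hU, hUne, hirrU⟩, hCf, hnd, hdimC, Or.inr ⟨hUiso, h⟩⟩
    obtain ⟨hU1, hU2, hU3⟩ := hU'
    obtain ⟨P, Q, hP, hPQ⟩ := exists_det f U' hU1 hU2 hU3 ha0
    have hQP : ∀ u ∈ U', aeval f Q (aeval f P u) = u := fun u hu => by
      have := congrArg Subtype.val (LinearMap.congr_fun hPQ ⟨u, hu⟩)
      rw [res_apply, mul_comm, map_mul] at this
      exact this
    rcases hiso with rfl | ⟨hisoU, hisoC⟩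
    · -- the complement is a non-degenerate irreducible subspace
      obtain ⟨π, hπ, hπB, hπf⟩ := hproj U' U' rfl hndU hU1 hU1
      have hadjPQ : ∀ u ∈ U', aeval f (adj P) (aeval f (adj Q) u) = u := fun u hu => by
        refine sub_eq_zero.1 (hndU _ (U'.sub_mem (aeval_mem f hU1 _ (aeval_mem f hU1 _ hu)) hu) fun c hc => ?_)
        apply hB_symm_zero hF
        rw [map_sub, ← hadj, ← hadj, hQP c hc, sub_self]
      set R := P * adj Q with hR
      have hRiso : ∀ u ∈ U', ∀ v ∈ U', hB hF n (aeval f R u) (aeval f R v) = hB hF n u v := by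
        intro u hu v hv
        rw [hR, map_mul, End.mul_apply, End.mul_apply, hadj]
        rw [show aeval f (adj P) (aeval f P (aeval f (adj Q) v)) = aeval f P v by
          rw [← End.mul_apply, ← map_mul, mul_comm, map_mul, End.mul_apply, hadjPQ v hv]]
        rw [← hsym (aeval f P v), hadj, hadjPQ u hu, hsym]
      let A : U' →ₗ[F] (Fin n → F) := (aeval f R - 1).comp U'.subtype
      let x : End F (Fin n → F) := LinearMap.id + A.comp π
      have hx : ∀ v, x v = v + (aeval f R ((π v : U') : Fin n → F) - ((π v : U') : Fin n → F)) := fun v => rfl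
      have hdecomp : ∀ v, v - ((π v : U') : Fin n → F) ∈ perp hF U' := fun v c hc => by
        rw [map_sub, hπB v c hc, sub_self]
      refine ⟨x, fun u v => ?_, LinearMap.ext fun v => ?_, ?_⟩
      · have h1 : ∀ w, x w = (w - ((π w : U') : Fin n → F)) + aeval f R ((π w : U') : Fin n → F) := fun w => by
          rw [hx]; abel
        rw [h1, h1]
        conv_rhs => rw [← sub_add_cancel u ((π u : U') : Fin n → F), ← sub_add_cancel v ((π v : U') : Fin n → F)]
        have hru := hdecomp u
        have hrv := hdecomp v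
        simp only [map_add, LinearMap.add_apply]
        rw [hB_symm_zero hF (hru _ (aeval_mem f hU1 R (π v).2)), hrv _ (aeval_mem f hU1 R (π u).2),
          hB_symm_zero hF (hru _ (π v).2), hrv _ (π u).2, hRiso _ (π u).2 _ (π v).2]
      · rw [End.mul_apply, End.mul_apply, hx, hx, hπf, map_add, map_sub, hcomm]
      · rw [show x = LinearMap.id + A.comp π from rfl, det_id_add_comp,
          show LinearMap.id + π.comp A = res f U' hU1 R from LinearMap.ext fun u => by
            refine Subtype.ext ?_
            rw [LinearMap.add_apply, LinearMap.comp_apply, res_apply]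
            show ((LinearMap.id u + π (aeval f R (u : Fin n → F) - u) : U') : Fin n → F) = _
            rw [map_sub, hπ, show π (aeval f R (u : Fin n → F)) = ⟨aeval f R u, aeval_mem f hU1 R u.2⟩ from
              hπ ⟨_, aeval_mem f hU1 R u.2⟩]
            simp,
          hR, res_mul, map_mul, hP,
          det_adjoint hF U' U' rfl hndU (res f U' hU1 Q) (res f U' hU1 (adj Q)) (fun u c => hadj Q _ _)]
        have hdet1 : a * LinearMap.det (res f U' hU1 Q) = 1 := by
          rw [← hP, ← map_mul, ← res_mul, hPQ, map_one]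
        rw [show LinearMap.det (res f U' hU1 Q) = a⁻¹ from (inv_eq_of_mul_eq_one_right hdet1).symm, map_inv₀]
        field_simp
        linear_combination ha
    · -- a hyperbolic pair of irreducible subspaces
      have hndC : ∀ c ∈ C₂, (∀ u ∈ U', hB hF n c u = 0) → c = 0 := by
        intro c hc h
        by_contra hc0
        obtain ⟨π, hπ, hπB, -⟩ := hproj U' C₂ hdim2 hndU hU1 hC₂
        obtain ⟨w, hw⟩ : ∃ w, hB hF n c w ≠ 0 := by
          by_contra hne
          push Not at hne
          exact hc0 ((hB_nondegenerate hF n).1 c hne)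
        exact hw (by rw [← hπB w c hc]; exact h _ (π w).2)
      obtain ⟨π, hπ, hπB, hπf⟩ := hproj U' C₂ hdim2 hndU hU1 hC₂
      obtain ⟨ρ, hρ, hρB, hρf⟩ := hproj C₂ U' hdim2.symm hndC hC₂ hU1
      have hπC : ∀ c ∈ C₂, ((π c : U') : Fin n → F) = 0 := fun c hc =>
        hndU _ (π c).2 fun d hd => hB_symm_zero hF (by rw [hπB c d hd]; exact hisoC d hd c hc)
      have hρU : ∀ u ∈ U', ((ρ u : C₂) : Fin n → F) = 0 := fun u hu =>
        hndC _ (ρ u).2 fun d hd => hB_symm_zero hF (by rw [hρB u d hd]; exact hisoU d hd u hu)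
      let A : U' →ₗ[F] (Fin n → F) := (aeval f P - 1).comp U'.subtype
      let A' : C₂ →ₗ[F] (Fin n → F) := (aeval f (adj Q) - 1).comp C₂.subtype
      let x : End F (Fin n → F) := (LinearMap.id + A.comp π) * (LinearMap.id + A'.comp ρ)
      have hx : ∀ v, x v = (v - ((π v : U') : Fin n → F) - ((ρ v : C₂) : Fin n → F)) +
          (aeval f P ((π v : U') : Fin n → F) + aeval f (adj Q) ((ρ v : C₂) : Fin n → F)) := fun v => by
        show (v + (aeval f (adj Q) ((ρ v : C₂) : Fin n → F) - ((ρ v : C₂) : Fin n → F))) +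
          (aeval f P ((π (v + (aeval f (adj Q) ((ρ v : C₂) : Fin n → F) - ((ρ v : C₂) : Fin n → F))) : U') : Fin n → F) -
            ((π (v + (aeval f (adj Q) ((ρ v : C₂) : Fin n → F) - ((ρ v : C₂) : Fin n → F))) : U') : Fin n → F)) = _
        rw [map_add π, Submodule.coe_add,
          hπC _ (C₂.sub_mem (aeval_mem f hC₂ _ (ρ v).2) (ρ v).2), add_zero]
        abel
      refine ⟨x, fun u v => ?_, LinearMap.ext fun v => ?_, ?_⟩
      · rw [hx, hx]
        set ru := u - ((π u : U') : Fin n → F) - ((ρ u : C₂) : Fin n → F) with hrud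
        set rv := v - ((π v : U') : Fin n → F) - ((ρ v : C₂) : Fin n → F) with hrvd
        have hr : ∀ w, (∀ d ∈ U', hB hF n d (w - ((π w : U') : Fin n → F) - ((ρ w : C₂) : Fin n → F)) = 0) ∧
            ∀ d ∈ C₂, hB hF n d (w - ((π w : U') : Fin n → F) - ((ρ w : C₂) : Fin n → F)) = 0 := fun w =>
          ⟨fun d hd => by rw [map_sub, map_sub, hisoU d hd _ (π w).2, hρB w d hd, sub_zero, sub_self],
           fun d hd => by rw [map_sub, map_sub, hisoC d hd _ (ρ w).2, hπB w d hd, sub_zero, sub_self]⟩
        have hu : u = ru + (((π u : U') : Fin n → F) + ((ρ u : C₂) : Fin n → F)) := by rw [hrud]; abel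
        have hv : v = rv + (((π v : U') : Fin n → F) + ((ρ v : C₂) : Fin n → F)) := by rw [hrvd]; abel
        conv_rhs => rw [hu, hv]
        have key : ∀ a ∈ U', ∀ c ∈ C₂, hB hF n (aeval f P a) (aeval f (adj Q) c) = hB hF n a c := fun a ha c hc => by
          rw [← hadj, hQP a ha]
        have k1 := key _ (π u).2 _ (ρ v).2
        have k2 : hB hF n (aeval f (adj Q) ((ρ u : C₂) : Fin n → F)) (aeval f P ((π v : U') : Fin n → F)) =
            hB hF n ((ρ u : C₂) : Fin n → F) ((π v : U') : Fin n → F) := by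
          rw [← hsym (aeval f P ((π v : U') : Fin n → F)), key _ (π v).2 _ (ρ u).2, hsym]
        simp only [map_add, LinearMap.add_apply]
        rw [k1, k2, hB_symm_zero hF ((hr u).1 _ (aeval_mem f hU1 P (π v).2)),
          hB_symm_zero hF ((hr u).2 _ (aeval_mem f hC₂ (adj Q) (ρ v).2)),
          (hr v).1 _ (aeval_mem f hU1 P (π u).2), (hr v).2 _ (aeval_mem f hC₂ (adj Q) (ρ u).2),
          hB_symm_zero hF ((hr u).1 _ (π v).2), hB_symm_zero hF ((hr u).2 _ (ρ v).2), (hr v).1 _ (π u).2,
          (hr v).2 _ (ρ u).2, hisoU _ (aeval_mem f hU1 P (π u).2) _ (aeval_mem f hU1 P (π v).2),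
          hisoC _ (aeval_mem f hC₂ (adj Q) (ρ u).2) _ (aeval_mem f hC₂ (adj Q) (ρ v).2),
          hisoU _ (π u).2 _ (π v).2, hisoC _ (ρ u).2 _ (ρ v).2]
      · show x (f v) = f (x v)
        rw [hx, hx, hπf, hρf]
        simp only [map_add, map_sub, hcomm]
      · rw [show x = (LinearMap.id + A.comp π) * (LinearMap.id + A'.comp ρ) from rfl, map_mul, det_id_add_comp,
          det_id_add_comp,
          show LinearMap.id + π.comp A = res f U' hU1 P from LinearMap.ext fun u => by
            refine Subtype.ext ?_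
            rw [LinearMap.add_apply, LinearMap.comp_apply, res_apply]
            show ((LinearMap.id u + π (aeval f P (u : Fin n → F) - u) : U') : Fin n → F) = _
            rw [map_sub, hπ, show π (aeval f P (u : Fin n → F)) = ⟨aeval f P u, aeval_mem f hU1 P u.2⟩ from
              hπ ⟨_, aeval_mem f hU1 P u.2⟩]
            simp,
          show LinearMap.id + ρ.comp A' = res f C₂ hC₂ (adj Q) from LinearMap.ext fun u => by
            refine Subtype.ext ?_
            rw [LinearMap.add_apply, LinearMap.comp_apply, res_apply]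
            show ((LinearMap.id u + ρ (aeval f (adj Q) (u : Fin n → F) - u) : C₂) : Fin n → F) = _
            rw [map_sub, hρ, show ρ (aeval f (adj Q) (u : Fin n → F)) = ⟨aeval f (adj Q) u, aeval_mem f hC₂ _ u.2⟩ from
              hρ ⟨_, aeval_mem f hC₂ _ u.2⟩]
            simp,
          hP, det_adjoint hF U' C₂ hdim2 hndU (res f U' hU1 Q) (res f C₂ hC₂ (adj Q)) (fun u c => hadj Q _ _)]
        have hdet1 : a * LinearMap.det (res f U' hU1 Q) = 1 := by
          rw [← hP, ← map_mul, ← res_mul, hPQ, map_one]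
        rw [show LinearMap.det (res f U' hU1 Q) = a⁻¹ from (inv_eq_of_mul_eq_one_right hdet1).symm, map_inv₀]
        field_simp
        linear_combination ha

end Cfsg.Lib.Linear.Herm.CentDet
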