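import Cfsg.Agent.Lib.Linear.IsotropicFix.UnitaryPair
import Cfsg.Agent.Lib.Linear.HermParabolic
import Cfsg.Prelude.Def_JordanBlocks

/-!
# The unitary centraliser of a unipotent matrix in Jordan form

For the Jordan matrix `A` of type `d` and an invariant Hermitian Gram matrix `G`, the commutant of `A` maps
onto the product of the matrix algebras on the blocks of equal size, with nil kernel; the unitary elements map
onto the product of the unitary groups, and the kernel of this map has as many elements as there are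
self-adjoint elements in the radical.
-/

set_option autoImplicit false
set_option linter.unusedSectionVars false

universe u

namespace Cfsg.Lib.Linear.HermUnipCent

open Polynomial Cfsg.Lib.Linear.Herm Cfsg.Lib.Linear.IsoFix
open scoped Matrix

variable {F : Type u} [Field F] [Fintype F] {q t : ℕ} (d : Fin t → ℕ)

/-- The index type. -/
abbrev Idx {t : ℕ} (d : Fin t → ℕ) : Type := (k : Fin t) × Fin (d k)

/-- Matrices on the index type. -/
abbrev Mat (F : Type u) {t : ℕ} (d : Fin t → ℕ) : Type u := Matrix (Idx d) (Idx d) F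

variable {d}

/-- Entries, extended by zero. -/
def E (X : Mat F d) (k : Fin t) (a : ℕ) (l : Fin t) (b : ℕ) : F :=
  if h : a < d k ∧ b < d l then X ⟨k, ⟨a, h.1⟩⟩ ⟨l, ⟨b, h.2⟩⟩ else 0

theorem E_fin (X : Mat F d) (p r : Idx d) : E X p.1 p.2 r.1 r.2 = X p r := by
  obtain ⟨k, a⟩ := p
  obtain ⟨l, b⟩ := r
  rw [E, dif_pos ⟨a.2, b.2⟩]

theorem E_left {X : Mat F d} {k l : Fin t} {a b : ℕ} (h : d k ≤ a) : E X k a l b = 0 := dif_neg (by omega)

theorem E_right {X : Mat F d} {k l : Fin t} {a b : ℕ} (h : d l ≤ b) : E X k a l b = 0 := dif_neg (by omega)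

theorem idx_ext {p r : Idx d} (h1 : p.1 = r.1) (h2 : (p.2 : ℕ) = r.2) : p = r := by
  obtain ⟨k, a⟩ := p
  obtain ⟨l, b⟩ := r
  change k = l at h1
  subst h1
  obtain rfl : a = b := Fin.ext h2
  rfl

theorem jordan_apply (p r : Idx d) : Cfsg.jordanTypeMatrix d F p r =
    (if p = r then 1 else 0) + (if p.1 = r.1 ∧ (p.2 : ℕ) = r.2 + 1 then 1 else 0) := by
  obtain ⟨k, a⟩ := p
  obtain ⟨l, b⟩ := r
  rw [Cfsg.jordanTypeMatrix]
  rcases eq_or_ne k l with rfl | h
  · rw [Matrix.blockDiagonal'_apply_eq, Cfsg.jordanBlock, Matrix.of_apply]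
    show _ = (if (⟨k, a⟩ : Idx d) = ⟨k, b⟩ then (1 : F) else 0) + if k = k ∧ (a : ℕ) = b + 1 then 1 else 0
    by_cases hab : (a : ℕ) = b
    · obtain rfl : a = b := Fin.ext hab
      simp
    · have h1 : (⟨k, a⟩ : Idx d) ≠ ⟨k, b⟩ := fun h => hab (congrArg Fin.val (eq_of_heq (Sigma.mk.inj_iff.1 h).2))
      rw [if_neg hab, if_neg h1, zero_add]
      simp
  · rw [Matrix.blockDiagonal'_apply_ne _ _ _ h, if_neg fun e => h (congrArg Sigma.fst e), if_neg fun e => h e.1,
      add_zero]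

theorem sum_shift_down (f : Idx d → F) (k : Fin t) (b : ℕ) :
    ∑ r : Idx d, (if r.1 = k ∧ (r.2 : ℕ) = b then f r else 0) =
      if h : b < d k then f ⟨k, ⟨b, h⟩⟩ else 0 := by
  split_ifs with h
  · rw [Finset.sum_eq_single (⟨k, ⟨b, h⟩⟩ : Idx d) (fun r _ hr => if_neg fun e => hr (idx_ext e.1 e.2))
      (fun h' => absurd (Finset.mem_univ _) h'), if_pos ⟨rfl, rfl⟩]
  · refine Finset.sum_eq_zero fun r _ => if_neg fun e => h ?_
    obtain ⟨l, a⟩ := r
    obtain ⟨rfl, rfl⟩ := e
    exact a.2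

theorem mul_jordan (X : Mat F d) (k : Fin t) (a : Fin (d k)) (l : Fin t) (b : Fin (d l)) :
    (X * Cfsg.jordanTypeMatrix d F : Mat F d) ⟨k, a⟩ ⟨l, b⟩ = E X k a l b + E X k a l (b + 1) := by
  rw [Matrix.mul_apply, show E X k a l b = X ⟨k, a⟩ ⟨l, b⟩ from E_fin X ⟨k, a⟩ ⟨l, b⟩]
  simp only [jordan_apply, mul_add, mul_ite, mul_one, mul_zero, Finset.sum_add_distrib, Finset.sum_ite_eq',
    Finset.mem_univ, if_true]
  rw [sum_shift_down (fun r => X ⟨k, a⟩ r) l (b + 1)]
  congr 1
  by_cases h : (b : ℕ) + 1 < d l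
  · rw [dif_pos h, E, dif_pos ⟨a.2, h⟩]
  · rw [dif_neg h, E_right (by omega)]

theorem jordan_mul (X : Mat F d) (k : Fin t) (a : Fin (d k)) (l : Fin t) (b : Fin (d l)) :
    (Cfsg.jordanTypeMatrix d F * X : Mat F d) ⟨k, a⟩ ⟨l, b⟩ =
      E X k a l b + if (a : ℕ) = 0 then 0 else E X k (a - 1) l b := by
  rw [Matrix.mul_apply, show E X k a l b = X ⟨k, a⟩ ⟨l, b⟩ from E_fin X ⟨k, a⟩ ⟨l, b⟩]
  simp only [jordan_apply, add_mul, ite_mul, one_mul, zero_mul, Finset.sum_add_distrib, Finset.sum_ite_eq,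
    Finset.mem_univ, if_true]
  congr 1
  by_cases ha : (a : ℕ) = 0
  · rw [if_pos ha]
    exact Finset.sum_eq_zero fun r _ => if_neg fun e => by have := e.2; omega
  · rw [if_neg ha, E, dif_pos (show (a : ℕ) - 1 < d k ∧ (b : ℕ) < d l from ⟨by omega, b.2⟩),
      Finset.sum_eq_single (⟨k, ⟨(a : ℕ) - 1, by omega⟩⟩ : Idx d) (fun r _ hr => if_neg fun e => hr
        (idx_ext e.1.symm (show (r.2 : ℕ) = (a : ℕ) - 1 by omega)))
      (fun h => absurd (Finset.mem_univ _) h), if_pos ⟨rfl, show (a : ℕ) = (a : ℕ) - 1 + 1 by omega⟩]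

theorem transpose_jordan_mul (X : Mat F d) (k : Fin t) (a : Fin (d k)) (l : Fin t) (b : Fin (d l)) :
    ((Cfsg.jordanTypeMatrix d F)ᵀ * X : Mat F d) ⟨k, a⟩ ⟨l, b⟩ = E X k a l b + E X k (a + 1) l b := by
  rw [Matrix.mul_apply, show E X k a l b = X ⟨k, a⟩ ⟨l, b⟩ from E_fin X ⟨k, a⟩ ⟨l, b⟩]
  simp only [Matrix.transpose_apply, jordan_apply, add_mul, ite_mul, one_mul, zero_mul, Finset.sum_add_distrib,
    Finset.sum_ite_eq', Finset.mem_univ, if_true]
  rw [sum_shift_down (fun r => X r ⟨l, b⟩) k (a + 1)]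
  congr 1
  by_cases h : (a : ℕ) + 1 < d k
  · rw [dif_pos h, E, dif_pos ⟨h, b.2⟩]
  · rw [dif_neg h, E_left (by omega)]

/-- The matrices commuting with the Jordan matrix. -/
def Cm (X : Mat F d) : Prop := X * Cfsg.jordanTypeMatrix d F = Cfsg.jordanTypeMatrix d F * X

theorem cm_apply {X : Mat F d} (hX : Cm X) (m : Fin t) (a : Fin (d m)) (k : Fin t) (b : Fin (d k)) :
    E X m a k (b + 1) = if (a : ℕ) = 0 then 0 else E X m (a - 1) k b := by
  have h := mul_jordan X m a k b
  rw [show X * Cfsg.jordanTypeMatrix d F = _ from hX, jordan_mul] at h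
  exact (add_left_cancel h).symm

theorem cm_shift {X : Mat F d} (hX : Cm X) {m k : Fin t} {a b : ℕ} (ha : a + 1 < d m) (hb : b < d k) :
    E X m (a + 1) k (b + 1) = E X m a k b := by
  have h := cm_apply hX m ⟨a + 1, ha⟩ k ⟨b, hb⟩
  rwa [if_neg (Nat.succ_ne_zero a)] at h

/-- A commuting matrix is determined by the first column of each block. -/
theorem cm_col {X : Mat F d} (hX : Cm X) (m : Fin t) (k : Fin t) : ∀ (b a : ℕ), a < d m → b < d k →
    E X m a k b = if b ≤ a then E X m (a - b) k 0 else 0 := by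
  intro b
  induction b with
  | zero => intro a _ _; rw [if_pos (Nat.zero_le _), Nat.sub_zero]
  | succ b ih =>
    intro a ha hb
    rcases a with _ | a
    · have h := cm_apply hX m ⟨0, ha⟩ k ⟨b, by omega⟩
      rw [if_pos rfl] at h
      rw [show E X m 0 k (b + 1) = 0 from h, if_neg (by omega)]
    · rw [cm_shift hX ha (by omega), ih a (by omega) (by omega), Nat.add_sub_add_right]
      by_cases hba : b ≤ a
      · rw [if_pos hba, if_pos (by omega)]
      · rw [if_neg hba, if_neg (by omega)]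

theorem cm_low {X : Mat F d} (hX : Cm X) {m k : Fin t} {a : ℕ} (h : a + d k < d m) : E X m a k 0 = 0 := by
  rcases Nat.eq_zero_or_pos (d k) with h0 | h0
  · exact E_right (by omega)
  have h1 := cm_shift hX (m := m) (k := k) (a := a + (d k - 1)) (b := d k - 1) (by omega) (by omega)
  rw [E_right (by omega), cm_col hX m k (d k - 1) (a + (d k - 1)) (by omega) (by omega), if_pos (by omega),
    Nat.add_sub_cancel] at h1
  exact h1.symm

/-- The first entry of a block. -/
def z (hd : ∀ k, 1 ≤ d k) (k : Fin t) : Idx d := ⟨k, ⟨0, hd k⟩⟩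

/-- The last entry of a block. -/
def top (hd : ∀ k, 1 ≤ d k) (k : Fin t) : Idx d := ⟨k, ⟨d k - 1, by have := hd k; omega⟩⟩

theorem cm_support {X : Mat F d} (hX : Cm X) (hd : ∀ k, 1 ≤ d k) {p : Idx d} {k : Fin t} (h : X p (z hd k) ≠ 0) :
    d p.1 ≤ (p.2 : ℕ) + d k := by
  by_contra hcon
  refine h ?_
  rw [← E_fin X p (z hd k)]
  exact cm_low hX (show (p.2 : ℕ) + d k < d p.1 by omega)

theorem cm_top {X : Mat F d} (hX : Cm X) (hd : ∀ k, 1 ≤ d k) {p : Idx d} {k : Fin t} (h : X p (top hd k) ≠ 0) :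
    (p.2 : ℕ) + 1 = d p.1 ∧ d k ≤ d p.1 := by
  obtain ⟨m, a⟩ := p
  rw [← E_fin X ⟨m, a⟩ (top hd k)] at h
  change E X m a k (d k - 1) ≠ 0 at h
  have := a.2
  have := hd k
  rw [cm_col hX m k (d k - 1) a a.2 (by omega)] at h
  split_ifs at h with hle
  · have h2 : ¬((a : ℕ) - (d k - 1) + d k < d m) := fun h2 => h (cm_low hX h2)
    exact ⟨show (a : ℕ) + 1 = d m by omega, show d k ≤ d m by omega⟩
  · exact absurd rfl h

theorem cm_top_eq {X : Mat F d} (hX : Cm X) (hd : ∀ k, 1 ≤ d k) {m k : Fin t} (h : d m = d k) :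
    X (top hd m) (top hd k) = X (z hd m) (z hd k) := by
  rw [← E_fin X (top hd m) (top hd k), ← E_fin X (z hd m) (z hd k)]
  have := hd k
  show E X m (d m - 1) k (d k - 1) = E X m 0 k 0
  rw [cm_col hX m k _ _ (by omega) (by omega), if_pos (by omega), show d m - 1 - (d k - 1) = 0 by omega]

/-- The matrices on the blocks of size `i`. -/
def pi (hd : ∀ k, 1 ≤ d k) (i : ℕ) (X : Mat F d) : Matrix {k : Fin t // d k = i} {k : Fin t // d k = i} F :=
  X.submatrix (fun m => z hd m.1) fun k => z hd k.1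

theorem sum_blocks (hd : ∀ k, 1 ≤ d k) (i : ℕ) (g : Idx d → F) (pos : (k : Fin t) → Fin (d k))
    (h : ∀ p : Idx d, g p ≠ 0 → d p.1 = i ∧ p.2 = pos p.1) :
    ∑ p, g p = ∑ m : {k : Fin t // d k = i}, g ⟨m.1, pos m.1⟩ := by
  refine (Fintype.sum_of_injective (fun m : {k : Fin t // d k = i} => (⟨m.1, pos m.1⟩ : Idx d))
    (fun a b e => Subtype.ext (congrArg Sigma.fst e)) _ _ (fun p hp => ?_) fun m => rfl).symm
  by_contra hne
  obtain ⟨h1, h2⟩ := h p hne
  exact hp ⟨⟨p.1, h1⟩, Sigma.ext rfl (heq_of_eq h2.symm)⟩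

theorem pi_mul (hd : ∀ k, 1 ≤ d k) (i : ℕ) {X Y : Mat F d} (hX : Cm X) (hY : Cm Y) :
    pi hd i (X * Y) = pi hd i X * pi hd i Y := by
  ext ⟨m, hm⟩ ⟨k, hk⟩
  simp only [pi, Matrix.submatrix_apply, Matrix.mul_apply]
  refine sum_blocks hd i (fun r => X (z hd m) r * Y r (z hd k)) (fun l => ⟨0, hd l⟩) fun r hr => ?_
  obtain ⟨l, b⟩ := r
  have h1 : X (z hd m) ⟨l, b⟩ ≠ 0 := left_ne_zero_of_mul hr
  have h2 : d l ≤ (b : ℕ) + d k := cm_support hY hd (right_ne_zero_of_mul hr)
  rw [← E_fin X (z hd m) ⟨l, b⟩] at h1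
  change E X m 0 l b ≠ 0 at h1
  rw [cm_col hX m l b 0 (hd m) b.2] at h1
  split_ifs at h1 with hb
  · have hb0 : (b : ℕ) = 0 := by omega
    have h3 : ¬(0 - (b : ℕ) + d l < d m) := fun h3 => h1 (cm_low hX h3)
    exact ⟨show d l = i by omega, Fin.ext hb0⟩
  · exact absurd rfl h1

theorem pi_one (hd : ∀ k, 1 ≤ d k) (i : ℕ) : pi hd i (1 : Mat F d) = 1 :=
  Matrix.submatrix_one _ fun a b e => Subtype.ext (congrArg Sigma.fst e)

theorem pi_add (hd : ∀ k, 1 ≤ d k) (i : ℕ) (X Y : Mat F d) : pi hd i (X + Y) = pi hd i X + pi hd i Y := rfl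

theorem pi_smul (hd : ∀ k, 1 ≤ d k) (i : ℕ) (c : F) (X : Mat F d) : pi hd i (c • X) = c • pi hd i X := rfl

theorem Cm.add {X Y : Mat F d} (hX : Cm X) (hY : Cm Y) : Cm (X + Y) := by
  unfold Cm at *; rw [add_mul, mul_add, hX, hY]

theorem Cm.sub {X Y : Mat F d} (hX : Cm X) (hY : Cm Y) : Cm (X - Y) := by
  unfold Cm at *; rw [sub_mul, mul_sub, hX, hY]

theorem Cm.smul {X : Mat F d} (hX : Cm X) (c : F) : Cm (c • X) := by
  unfold Cm at *; rw [smul_mul_assoc, mul_smul_comm, hX]

theorem Cm.mul {X Y : Mat F d} (hX : Cm X) (hY : Cm Y) : Cm (X * Y) := by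
  unfold Cm at *; rw [mul_assoc, hY, ← mul_assoc, hX, mul_assoc]

theorem cm_one : Cm (1 : Mat F d) := by
  unfold Cm; rw [one_mul, mul_one]

theorem cm_zero : Cm (0 : Mat F d) := by
  unfold Cm; rw [zero_mul, mul_zero]

/-- The radical. -/
def Rad (hd : ∀ k, 1 ≤ d k) (X : Mat F d) : Prop := Cm X ∧ ∀ i, pi hd i X = 0

theorem rad_pos {X : Mat F d} {hd : ∀ k, 1 ≤ d k} (hX : Rad hd X) {p r : Idx d} (h : X p r ≠ 0) :
    (r.2 : ℕ) < p.2 ∨ ((r.2 : ℕ) = p.2 ∧ d p.1 < d r.1) := by
  obtain ⟨m, a⟩ := p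
  obtain ⟨k, b⟩ := r
  rw [← E_fin X ⟨m, a⟩ ⟨k, b⟩] at h
  change E X m a k b ≠ 0 at h
  rw [cm_col hX.1 m k b a a.2 b.2] at h
  split_ifs at h with hle
  · show (b : ℕ) < a ∨ ((b : ℕ) = a ∧ d m < d k)
    by_contra hcon
    have hba : (b : ℕ) = a := by omega
    rw [hba, Nat.sub_self] at h
    have h1 : ¬(0 + d k < d m) := fun h1 => h (cm_low hX.1 h1)
    refine h ?_
    have hmk : d m = d k := by omega
    have h2 := congrFun (congrFun (hX.2 (d k)) ⟨m, hmk⟩) ⟨k, rfl⟩
    rw [show E X m 0 k 0 = X (z hd m) (z hd k) from E_fin X (z hd m) (z hd k)]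
    exact h2
  · exact absurd rfl h

theorem rad_nilpotent {X : Mat F d} {hd : ∀ k, 1 ≤ d k} (hX : Rad hd X) : IsNilpotent X := by
  classical
  set D := Finset.univ.sup d
  have hD : ∀ k, d k ≤ D := fun k => Finset.le_sup (f := d) (Finset.mem_univ k)
  let w : Idx d → ℕ := fun p => p.2 * (D + 1) + (D - d p.1)
  have hw : ∀ p r, X p r ≠ 0 → w r < w p := fun p r h => by
    have h1 := hD r.1
    have h2 := hD p.1
    rcases rad_pos hX h with h' | ⟨h', h''⟩
    · have h3 : ((r.2 : ℕ) + 1) * (D + 1) ≤ (p.2 : ℕ) * (D + 1) := Nat.mul_le_mul_right _ h'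
      rw [add_mul, one_mul] at h3
      show (r.2 : ℕ) * (D + 1) + (D - d r.1) < p.2 * (D + 1) + (D - d p.1)
      omega
    · show (r.2 : ℕ) * (D + 1) + (D - d r.1) < p.2 * (D + 1) + (D - d p.1)
      rw [h']
      omega
  have key : ∀ (j : ℕ) p r, (X ^ j) p r ≠ 0 → w r + j ≤ w p := by
    intro j
    induction j with
    | zero =>
      intro p r h
      rw [pow_zero, Matrix.one_apply] at h
      split_ifs at h with e
      · rw [e]; exact le_of_eq (add_zero _)
      · exact absurd rfl h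
    | succ j ih =>
      intro p r h
      rw [pow_succ, Matrix.mul_apply] at h
      obtain ⟨s, -, hs⟩ := Finset.exists_ne_zero_of_sum_ne_zero h
      have h1 := ih p s (left_ne_zero_of_mul hs)
      have h2 := hw s r (right_ne_zero_of_mul hs)
      omega
  refine ⟨Finset.univ.sup w + 1, Matrix.ext fun p r => ?_⟩
  by_contra h
  have h1 := key _ p r h
  have h2 : w p ≤ Finset.univ.sup w := Finset.le_sup (f := w) (Finset.mem_univ p)
  omega

/-- The first columns of the elements of the radical. -/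
def radSupp (d : Fin t → ℕ) : Finset (Fin t × Idx d) :=
  Finset.univ.filter fun x => d x.2.1 ≤ (x.2.2 : ℕ) + d x.1 ∧ (d x.2.1 = d x.1 → (x.2.2 : ℕ) ≠ 0)

theorem card_rad (hF : Fintype.card F = q ^ 2) (hd : ∀ k, 1 ≤ d k) :
    Nat.card {X : Mat F d // Rad hd X} = (q ^ 2) ^ (radSupp d).card := by
  classical
  rw [← hF, ← Fintype.card_coe (radSupp d), ← Fintype.card_fun, ← Nat.card_eq_fintype_card]
  let ext : (↥(radSupp d) → F) → Fin t × Idx d → F := fun c x => if h : x ∈ radSupp d then c ⟨x, h⟩ else 0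
  let build : (↥(radSupp d) → F) → Mat F d := fun c p r =>
    if h : (r.2 : ℕ) ≤ p.2 then ext c (r.1, ⟨p.1, ⟨(p.2 : ℕ) - r.2, lt_of_le_of_lt (Nat.sub_le _ _) p.2.2⟩⟩) else 0
  have hE : ∀ c m a k b (ha : a < d m) (hb : b < d k), E (build c) m a k b =
      if b ≤ a then ext c (k, ⟨m, ⟨a - b, lt_of_le_of_lt (Nat.sub_le _ _) ha⟩⟩) else 0 := fun c m a k b ha hb => by
    rw [E, dif_pos ⟨ha, hb⟩]
    simp only [build, dite_eq_ite]
  have hcm : ∀ c, Cm (build c) := fun c => by
    refine Matrix.ext fun p r => ?_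
    obtain ⟨m, a⟩ := p
    obtain ⟨k, b⟩ := r
    rw [mul_jordan, jordan_mul]
    congr 1
    by_cases ha : (a : ℕ) = 0
    · rw [if_pos ha]
      by_cases hb : (b : ℕ) + 1 < d k
      · rw [hE c m a k (b + 1) a.2 hb, if_neg (by omega)]
      · exact E_right (by omega)
    · rw [if_neg ha, hE c m ((a : ℕ) - 1) k b (by omega) b.2]
      by_cases hb : (b : ℕ) + 1 < d k
      · rw [hE c m a k (b + 1) a.2 hb]
        by_cases hle : (b : ℕ) + 1 ≤ a
        · rw [if_pos hle, if_pos (by omega)]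
          congr 4
          omega
        · rw [if_neg hle, if_neg (by omega)]
      · rw [E_right (by omega)]
        split_ifs with hle
        · simp only [ext]
          rw [dif_neg]
          simp only [radSupp, Finset.mem_filter, Finset.mem_univ, true_and, not_and]
          intro h1
          exfalso
          have := a.2
          have := b.2
          omega
        · rfl
  refine Nat.card_congr
    { toFun := fun X x => X.1 x.1.2 (z hd x.1.1)
      invFun := fun c => ⟨build c, hcm c, fun i => Matrix.ext fun ⟨m, hm⟩ ⟨k, hk⟩ => ?_⟩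
      left_inv := fun X => Subtype.ext (Matrix.ext fun p r => ?_)
      right_inv := fun c => funext fun x => ?_ }
  · show build c (z hd m) (z hd k) = 0
    simp only [build, z, le_refl, dite_true, ext]
    refine dif_neg ?_
    simp [radSupp, hm, hk]
  · obtain ⟨m, a⟩ := p
    obtain ⟨k, b⟩ := r
    obtain ⟨c, hc⟩ : ∃ c : ↥(radSupp d) → F, c = fun x => X.1 x.1.2 (z hd x.1.1) := ⟨_, rfl⟩
    suffices h : E (build c) m a k b = E X.1 m a k b by
      have h2 : build c ⟨m, a⟩ ⟨k, b⟩ = X.1 ⟨m, a⟩ ⟨k, b⟩ :=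
        ((E_fin (build c) ⟨m, a⟩ ⟨k, b⟩).symm.trans h).trans (E_fin X.1 ⟨m, a⟩ ⟨k, b⟩)
      subst hc
      exact h2
    refine (hE c m a k b a.2 b.2).trans ?_
    subst hc
    rw [cm_col X.2.1 m k b a a.2 b.2]
    split_ifs with hle
    · simp only [ext]
      split_ifs with hmem
      · exact (E_fin X.1 ⟨m, ⟨(a : ℕ) - b, by omega⟩⟩ (z hd k)).symm
      · simp only [radSupp, Finset.mem_filter, Finset.mem_univ, true_and, not_and_or, not_le, Classical.not_imp,
          not_not] at hmem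
        rcases hmem with h | ⟨h1, h2⟩
        · exact (cm_low X.2.1 h).symm
        · rw [h2]
          exact ((congrFun (congrFun (X.2.2 (d k)) ⟨m, h1⟩) ⟨k, rfl⟩).symm.trans (E_fin X.1 (z hd m) (z hd k)).symm)
    · rfl
  · show build c x.1.2 (z hd x.1.1) = c x
    simp only [build, z, Nat.zero_le, dite_true, Nat.sub_zero, ext]
    exact dif_pos x.2

/-- Lifting matrices on the blocks. -/
def lift (P : (i : ℕ) → Matrix {k : Fin t // d k = i} {k : Fin t // d k = i} F) : Mat F d := fun p r =>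
  if h : d p.1 = d r.1 then (if (p.2 : ℕ) = r.2 then P (d r.1) ⟨p.1, h⟩ ⟨r.1, rfl⟩ else 0) else 0

theorem cm_lift (P : (i : ℕ) → Matrix {k : Fin t // d k = i} {k : Fin t // d k = i} F) : Cm (lift P) := by
  refine Matrix.ext fun p r => ?_
  obtain ⟨m, a⟩ := p
  obtain ⟨k, b⟩ := r
  rw [mul_jordan, jordan_mul]
  congr 1
  by_cases hmk : d m = d k
  · by_cases ha : (a : ℕ) = 0
    · rw [if_pos ha]
      by_cases hb : (b : ℕ) + 1 < d k
      · rw [E, dif_pos ⟨a.2, hb⟩, lift, dif_pos hmk, if_neg (show (a : ℕ) ≠ (b : ℕ) + 1 by omega)]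
      · exact E_right (by omega)
    · have := a.2
      rw [if_neg ha]
      by_cases hb : (b : ℕ) + 1 < d k
      · rw [E, dif_pos ⟨a.2, hb⟩, E, dif_pos ⟨by omega, b.2⟩]
        simp only [lift, dif_pos hmk]
        exact if_congr (by omega) rfl rfl
      · rw [E_right (by omega), E, dif_pos (show (a : ℕ) - 1 < d m ∧ (b : ℕ) < d k from ⟨by omega, b.2⟩), lift,
          dif_pos hmk, if_neg (show (a : ℕ) - 1 ≠ (b : ℕ) by omega)]
  · have h0 : ∀ a' b', E (lift P) m a' k b' = 0 := fun a' b' => by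
      rw [E]
      split_ifs
      · exact dif_neg hmk
      · rfl
    rw [h0, h0, ite_self]

theorem pi_lift (hd : ∀ k, 1 ≤ d k) (P : (i : ℕ) → Matrix {k : Fin t // d k = i} {k : Fin t // d k = i} F) (i : ℕ) :
    pi hd i (lift P) = P i := by
  ext ⟨m, hm⟩ ⟨k, hk⟩
  subst hk
  show lift P (z hd m) (z hd k) = _
  simp [lift, z, hm]

/-! ### The Hermitian structure -/

variable (hF : Fintype.card F = q ^ 2) {G : Mat F d}

/-- An invariant non-degenerate Hermitian Gram matrix. -/
structure Gram (hF : Fintype.card F = q ^ 2) (G : Mat F d) : Prop where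
  herm : adj hF G = G
  unit : IsUnit G
  inv : adj hF (Cfsg.jordanTypeMatrix d F) * G * Cfsg.jordanTypeMatrix d F = G

theorem adj_jordan : adj hF (Cfsg.jordanTypeMatrix d F : Mat F d) = (Cfsg.jordanTypeMatrix d F)ᵀ := by
  ext p r
  rw [adj, Matrix.transpose_apply, Matrix.transpose_apply, Matrix.map_apply, jordan_apply]
  split_ifs <;> simp [map_add]

variable {hF}

theorem Gram.conj (hG : Gram hF G) (k : Fin t) (a : ℕ) (l : Fin t) (b : ℕ) :
    frob hF (E G l b k a) = E G k a l b := by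
  rw [E, E]
  by_cases h : a < d k ∧ b < d l
  · rw [dif_pos h, dif_pos h.symm]
    exact congrFun (congrFun hG.herm ⟨k, ⟨a, h.1⟩⟩) ⟨l, ⟨b, h.2⟩⟩
  · rw [dif_neg h, dif_neg fun h' => h h'.symm, map_zero]

theorem Gram.rel (hG : Gram hF G) (k : Fin t) (a : ℕ) (l : Fin t) (b : ℕ) (ha : a < d k) (hb : b < d l) :
    E G k a l (b + 1) + (E G k (a + 1) l b + E G k (a + 1) l (b + 1)) = 0 := by
  have h := congrFun (congrFun hG.inv ⟨k, ⟨a, ha⟩⟩) ⟨l, ⟨b, hb⟩⟩
  rw [adj_jordan, mul_assoc, transpose_jordan_mul] at h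
  have h1 : E (G * Cfsg.jordanTypeMatrix d F) k a l b = E G k a l b + E G k a l (b + 1) := by
    rw [E, dif_pos ⟨ha, hb⟩, mul_jordan]
  have h2 : E (G * Cfsg.jordanTypeMatrix d F) k (a + 1) l b = E G k (a + 1) l b + E G k (a + 1) l (b + 1) := by
    by_cases ha' : a + 1 < d k
    · rw [E, dif_pos ⟨ha', hb⟩, mul_jordan]
    · rw [E_left (by omega), E_left (by omega), E_left (by omega), add_zero]
  rw [h1, h2, show G ⟨k, ⟨a, ha⟩⟩ ⟨l, ⟨b, hb⟩⟩ = E G k a l b from (E_fin G ⟨k, ⟨a, ha⟩⟩ ⟨l, ⟨b, hb⟩⟩).symm] at h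
  linear_combination h

theorem Gram.vanish_right (hG : Gram hF G) (k l : Fin t) : ∀ (a b : ℕ), d l ≤ a + b → E G k a l b = 0 := by
  intro a
  induction a with
  | zero => intro b h; exact E_right (by omega)
  | succ a ih =>
    intro b
    induction hn : d l - b using Nat.strong_induction_on generalizing b with
    | _ n ihb =>
      intro h
      rcases Nat.lt_or_ge b (d l) with hb | hb
      · rcases Nat.lt_or_ge a (d k) with ha | ha
        · have h1 := hG.rel k a l b ha hb
          rw [ih (b + 1) (by omega), ihb (d l - (b + 1)) (by omega) (b + 1) rfl (by omega), zero_add, add_zero] at h1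
          exact h1
        · exact E_left (by omega)
      · exact E_right hb

theorem Gram.vanish (hG : Gram hF G) {p r : Idx d} (h : G p r ≠ 0) :
    (p.2 : ℕ) + r.2 < d p.1 ∧ (p.2 : ℕ) + r.2 < d r.1 := by
  constructor
  · by_contra hcon
    refine h ?_
    rw [← E_fin G p r, ← hG.conj, hG.vanish_right r.1 p.1 r.2 p.2 (by omega), map_zero]
  · by_contra hcon
    exact h (by rw [← E_fin G p r]; exact hG.vanish_right _ _ _ _ (by omega))

theorem Gram.skew (hG : Gram hF G) {k l : Fin t} (hkl : d k = d l) :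
    ∀ (a b : ℕ), a + b + 1 = d l → E G k a l b = (-1) ^ a * E G k 0 l (a + b) := by
  intro a
  induction a with
  | zero => intro b _; rw [pow_zero, one_mul, zero_add]
  | succ a ih =>
    intro b h
    have h1 := hG.rel k a l b (by omega) (by omega)
    rw [hG.vanish_right k l (a + 1) (b + 1) (by omega), add_zero, ih (b + 1) (by omega)] at h1
    rw [show a + 1 + b = a + (b + 1) by omega, pow_succ]
    linear_combination h1

/-- The form on the blocks of size `i`. -/
def form (hd : ∀ k, 1 ≤ d k) (G : Mat F d) (i : ℕ) :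
    Matrix {k : Fin t // d k = i} {k : Fin t // d k = i} F :=
  G.submatrix (fun m => top hd m.1) fun k => z hd k.1

theorem Gram.form_adj (hG : Gram hF G) (hd : ∀ k, 1 ≤ d k) (i : ℕ) :
    adj hF (form hd G i) = (-1 : F) ^ (i - 1) • form hd G i := by
  ext ⟨k, hk⟩ ⟨l, hl⟩
  have := hd k
  show frob hF (G (top hd l) (z hd k)) = _ * G (top hd k) (z hd l)
  rw [← E_fin G (top hd l) (z hd k), ← E_fin G (top hd k) (z hd l)]
  show frob hF (E G l (d l - 1) k 0) = (-1) ^ (i - 1) * E G k (d k - 1) l 0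
  rw [hG.conj, hG.skew (hk.trans hl.symm) (d k - 1) 0 (by omega), ← mul_assoc, hk, ← mul_pow, neg_mul_neg, one_mul,
    one_pow, one_mul, hl, add_zero]

theorem Gram.form_unit (hG : Gram hF G) (hd : ∀ k, 1 ≤ d k) (i : ℕ) : IsUnit (form hd G i) := by
  classical
  let B : Matrix (Fin t) (Fin t) F := G.submatrix (top hd) (z hd)
  have hB : B.det ≠ 0 := by
    intro h0
    obtain ⟨c, hc0, hc⟩ := Matrix.exists_vecMul_eq_zero_iff.2 h0
    let v : Idx d → F := fun p => if (p.2 : ℕ) = d p.1 - 1 then c p.1 else 0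
    have hv : ∀ r, (v ᵥ* G) r = 0 := fun r => by
      by_cases hr : (r.2 : ℕ) = 0
      · have hrz : r = z hd r.1 := idx_ext rfl hr
        refine Eq.trans ?_ (congrFun hc r.1)
        rw [Matrix.vecMul, Matrix.vecMul, dotProduct, dotProduct]
        refine (Fintype.sum_of_injective (top hd) (fun a b e => congrArg Sigma.fst e) _ _ (fun p hp => ?_) fun k => ?_).symm
        · show v p * G p r = 0
          simp only [v]
          rw [if_neg fun hp' => hp ⟨p.1, idx_ext rfl hp'.symm⟩, zero_mul]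
        · show c k * B k r.1 = v (top hd k) * G (top hd k) r
          simp only [v, B, Matrix.submatrix_apply]
          rw [← hrz]
          simp [top]
      · rw [Matrix.vecMul, dotProduct]
        refine Finset.sum_eq_zero fun p _ => ?_
        by_contra hne
        have h1 := hG.vanish (right_ne_zero_of_mul hne)
        have h2 : (p.2 : ℕ) = d p.1 - 1 := by
          by_contra h3
          exact left_ne_zero_of_mul hne (if_neg h3)
        omega
    obtain ⟨U, hU⟩ := hG.unit.exists_right_inv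
    have hv0 : v = 0 := by
      have h1 : (v ᵥ* G) ᵥ* U = 0 := by rw [show v ᵥ* G = 0 from funext hv, Matrix.zero_vecMul]
      rwa [Matrix.vecMul_vecMul, hU, Matrix.vecMul_one] at h1
    exact hc0 (funext fun k => by simpa [v, top] using congrFun hv0 (top hd k))
  have hT : B.BlockTriangular d := fun k l hlt => by
    by_contra hne
    have h1 := (hG.vanish hne).2
    change d k - 1 + 0 < d l at h1
    omega
  rw [hT.det, Finset.prod_ne_zero_iff] at hB
  rw [Matrix.isUnit_iff_isUnit_det, isUnit_iff_ne_zero]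
  by_cases hi : i ∈ Finset.univ.image d
  · exact hB i hi
  · haveI : IsEmpty {k : Fin t // d k = i} := ⟨fun k => hi (Finset.mem_image.2 ⟨k.1, Finset.mem_univ _, k.2⟩)⟩
    rw [Matrix.det_isEmpty]
    exact one_ne_zero

theorem form_mul (hG : Gram hF G) (hd : ∀ k, 1 ≤ d k) {Y : Mat F d} (hY : Cm Y) (i : ℕ) :
    (G * Y).submatrix (fun m : {k : Fin t // d k = i} => top hd m.1) (fun k : {k : Fin t // d k = i} => z hd k.1) =
      form hd G i * pi hd i Y := by
  ext ⟨k, hk⟩ ⟨l, hl⟩
  simp only [pi, form, Matrix.submatrix_apply, Matrix.mul_apply]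
  refine sum_blocks hd i (fun r => G (top hd k) r * Y r (z hd l)) (fun m => ⟨0, hd m⟩) fun r hr => ?_
  obtain ⟨m, b⟩ := r
  obtain ⟨h1, h2⟩ := hG.vanish (left_ne_zero_of_mul hr)
  have h3 : d m ≤ (b : ℕ) + d l := cm_support hY hd (right_ne_zero_of_mul hr)
  change d k - 1 + (b : ℕ) < d k at h1
  change d k - 1 + (b : ℕ) < d m at h2
  have := hd k
  exact ⟨show d m = i by omega, Fin.ext (show (b : ℕ) = 0 by omega)⟩

theorem adj_form_mul (hG : Gram hF G) (hd : ∀ k, 1 ≤ d k) {X Y : Mat F d} (hX : Cm X) (hY : Cm Y) (i : ℕ) :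
    (adj hF X * G * Y).submatrix (fun m : {k : Fin t // d k = i} => top hd m.1)
        (fun k : {k : Fin t // d k = i} => z hd k.1) =
      adj hF (pi hd i X) * form hd G i * pi hd i Y := by
  rw [mul_assoc (adj hF (pi hd i X)), ← form_mul hG hd hY i, mul_assoc (adj hF X)]
  ext ⟨k, hk⟩ ⟨l, hl⟩
  simp only [Matrix.submatrix_apply, Matrix.mul_apply (M := adj hF X)]
  rw [Matrix.mul_apply]
  refine (sum_blocks hd i (fun p => adj hF X (top hd k) p * (G * Y) p (z hd l))
    (fun m => ⟨d m - 1, by have := hd m; omega⟩) fun p hp => ?_).trans ?_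
  · obtain ⟨m, a⟩ := p
    have hXne : X ⟨m, a⟩ (top hd k) ≠ 0 := fun h0 => left_ne_zero_of_mul hp (by simp [adj, h0])
    obtain ⟨h1, h2⟩ := cm_top hX hd hXne
    change (a : ℕ) + 1 = d m at h1
    change d k ≤ d m at h2
    obtain ⟨r, -, hr⟩ := Finset.exists_ne_zero_of_sum_ne_zero (by
      have := right_ne_zero_of_mul hp
      rwa [Matrix.mul_apply] at this)
    obtain ⟨m', b⟩ := r
    obtain ⟨h3, h4⟩ := hG.vanish (left_ne_zero_of_mul hr)
    have h5 : d m' ≤ (b : ℕ) + d l := cm_support hY hd (right_ne_zero_of_mul hr)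
    change (a : ℕ) + (b : ℕ) < d m at h3
    change (a : ℕ) + (b : ℕ) < d m' at h4
    exact ⟨show d m = i by omega, Fin.ext (show (a : ℕ) = d m - 1 by omega)⟩
  · refine Finset.sum_congr rfl fun ⟨m, hm⟩ _ => ?_
    simp only [Matrix.submatrix_apply, top]
    congr 1
    show frob hF (X (top hd m) (top hd k)) = frob hF (X (z hd m) (z hd k))
    rw [cm_top_eq hX hd (hm.trans hk.symm)]

theorem Gram.adj_one_form (hG : Gram hF G) (hd : ∀ k, 1 ≤ d k) {X : Mat F d} (hX : Cm X) (i : ℕ) :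
    (adj hF X * G).submatrix (fun m : {k : Fin t // d k = i} => top hd m.1)
        (fun k : {k : Fin t // d k = i} => z hd k.1) =
      adj hF (pi hd i X) * form hd G i := by
  have := adj_form_mul hG hd hX cm_one i
  rwa [mul_one, pi_one, mul_one] at this

theorem jordan_commute_inv (hG : Gram hF G) {X Gi : Mat F d} (hGi : Gi * G = 1) (hX : Cm X) :
    Cm (Gi * adj hF X * G) := by
  set A : Mat F d := Cfsg.jordanTypeMatrix d F
  have hGi' : G * Gi = 1 := mul_eq_one_comm.1 hGi
  have h1 : Gi * adj hF A * G * A = 1 := by rw [mul_assoc Gi, mul_assoc Gi, hG.inv, hGi]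
  have h2 : A * (Gi * adj hF A * G) = 1 := mul_eq_one_comm.1 h1
  have h3 : (Gi * adj hF X * G) * (Gi * adj hF A * G) = (Gi * adj hF A * G) * (Gi * adj hF X * G) := by
    have e : ∀ U V : Mat F d, (Gi * adj hF U * G) * (Gi * adj hF V * G) = Gi * adj hF (V * U) * G := fun U V => by
      rw [adj_mul]
      calc Gi * adj hF U * G * (Gi * adj hF V * G) = Gi * adj hF U * (G * Gi) * adj hF V * G := by simp only [mul_assoc]
        _ = _ := by rw [hGi', mul_one]; simp only [mul_assoc]
    rw [e, e, show X * A = A * X from hX]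
  unfold Cm
  calc Gi * adj hF X * G * A
      = A * (Gi * adj hF A * G) * (Gi * adj hF X * G) * A := by rw [h2, one_mul]
    _ = A * ((Gi * adj hF X * G) * (Gi * adj hF A * G)) * A := by rw [h3, mul_assoc A]
    _ = A * (Gi * adj hF X * G) * ((Gi * adj hF A * G) * A) := by simp only [mul_assoc]
    _ = A * (Gi * adj hF X * G) := by rw [h1, mul_one]

/-- Elements of the radical have a self-adjoint square root. -/
theorem exists_poly (hF : Fintype.card F = q ^ 2) (m : ℕ) :
    ∃ g : F[X], g.coeff 0 = 1 ∧ (X : F[X]) ^ (m + 1) ∣ g.map (frob hF) * g - (1 + X) := by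
  obtain ⟨c₀, hc₀⟩ : ∃ c : F, c + frob hF c = 1 := by
    obtain ⟨w, hw⟩ : ∃ w : F, frob hF w ≠ w := by
      by_contra h
      push Not at h
      exact frob_ne_id hF (RingHom.ext h)
    have hw' : frob hF w - w ≠ 0 := sub_ne_zero.2 hw
    refine ⟨frob hF w / (frob hF w - w), ?_⟩
    rw [map_div₀, map_sub, frob_frob hF, ← neg_sub (frob hF w) w, div_neg, ← sub_eq_add_neg, ← sub_div, div_self hw']
  induction m with
  | zero =>
    refine ⟨1, by simp, ?_⟩
    rw [Polynomial.map_one, mul_one, sub_add_cancel_left, pow_one]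
    exact dvd_neg.2 dvd_rfl
  | succ m ih =>
    obtain ⟨g, hg0, r, hr⟩ := ih
    have hrr : r.map (frob hF) = r := by
      have h := congrArg (Polynomial.map (frob hF)) hr
      have hgg : (g.map (frob hF)).map (frob hF) = g := Polynomial.ext fun n => by
        rw [coeff_map, coeff_map, frob_frob hF]
      rw [Polynomial.map_sub, Polynomial.map_mul, hgg, Polynomial.map_add, Polynomial.map_one, map_X, mul_comm g,
        hr, Polynomial.map_mul, Polynomial.map_pow, map_X] at h
      exact (mul_left_cancel₀ (pow_ne_zero _ X_ne_zero) h).symm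
    refine ⟨g - Polynomial.C c₀ * X ^ (m + 1) * r, ?_, ?_⟩
    · rw [coeff_sub, hg0, mul_assoc, mul_comm (X ^ (m + 1)), ← mul_assoc, coeff_mul_X_pow', if_neg (by omega), sub_zero]
    · obtain ⟨g₁, hg₁⟩ : (X : F[X]) ∣ g - 1 := X_dvd_iff.2 (by rw [coeff_sub, hg0, coeff_one_zero, sub_self])
      obtain ⟨g₂, hg₂⟩ : (X : F[X]) ∣ g.map (frob hF) - 1 := X_dvd_iff.2 (by
        rw [coeff_sub, coeff_map, hg0, map_one, coeff_one_zero, sub_self])
      rw [Polynomial.map_sub, Polynomial.map_mul, Polynomial.map_mul, map_C, Polynomial.map_pow, map_X, hrr]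
      refine ⟨-(r * (Polynomial.C (frob hF c₀) * g₁ + Polynomial.C c₀ * g₂)) +
        Polynomial.C (frob hF c₀) * Polynomial.C c₀ * X ^ m * r * r, ?_⟩
      have hc : Polynomial.C c₀ + Polynomial.C (frob hF c₀) = (1 : F[X]) := by rw [← map_add, hc₀, map_one]
      linear_combination hr - (Polynomial.C (frob hF c₀) * X ^ (m + 1) * r) * hg₁ -
        (Polynomial.C c₀ * X ^ (m + 1) * r) * hg₂ - (X ^ (m + 1) * r) * hc

/-- The unitary elements of the commutant. -/
def USet (hF : Fintype.card F = q ^ 2) (G : Mat F d) : Type u := {X : Mat F d // Cm X ∧ adj hF X * G * X = G}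

theorem card_fibers {α β γ : Type*} [Finite α] [Finite β] (f : α → β) (h : ∀ b, Nonempty ({a // f a = b} ≃ γ)) :
    Nat.card α = Nat.card β * Nat.card γ := by
  rw [← Nat.card_prod]
  exact Nat.card_congr ((Equiv.sigmaFiberEquiv f).symm.trans
    ((Equiv.sigmaCongrRight fun b => (h b).some).trans (Equiv.sigmaEquivProd β γ)))

/-- Factorisation of self-adjoint elements of `1 + J`. -/
theorem exists_sqrt (hd : ∀ k, 1 ≤ d k) {Gi : Mat F d} (hGi : Gi * G = 1) {s : Mat F d} (hs : Rad hd s)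
    (hsa : Gi * adj hF s * G = s) :
    ∃ Z : Mat F d, Cm Z ∧ (∀ i, pi hd i Z = 1) ∧ adj hF Z * G * Z = G * (1 + s) := by
  have hGi' : G * Gi = 1 := mul_eq_one_comm.1 hGi
  obtain ⟨N, hN⟩ := rad_nilpotent hs
  obtain ⟨g, hg0, r, hr⟩ := exists_poly hF N
  have hcm : ∀ P : F[X], Cm (aeval s P) := fun P => by
    induction P using Polynomial.induction_on' with
    | add P Q hP hQ => rw [map_add]; exact hP.add hQ
    | monomial n c =>
      rw [aeval_monomial, ← Algebra.smul_def]
      refine Cm.smul ?_ c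
      induction n with
      | zero => rw [pow_zero]; exact cm_one
      | succ n ih => rw [pow_succ]; exact ih.mul hs.1
  have hpi : ∀ P : F[X], ∀ i, pi hd i (aeval s P) = P.coeff 0 • 1 := fun P i => by
    obtain ⟨P₁, hP₁⟩ : (X : F[X]) ∣ P - C (P.coeff 0) := X_dvd_iff.2 (by simp)
    conv_lhs => rw [show P = C (P.coeff 0) + X * P₁ by rw [← hP₁]; ring]
    rw [map_add, aeval_C, map_mul, aeval_X, pi_add, pi_mul hd i hs.1 (hcm P₁), hs.2, zero_mul, add_zero,
      Algebra.algebraMap_eq_smul_one, pi_smul, pi_one]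
  have hadj : ∀ P : F[X], Gi * adj hF (aeval s P) * G = aeval s (P.map (frob hF)) := fun P => by
    induction P using Polynomial.induction_on' with
    | add P Q hP hQ =>
      rw [map_add, Polynomial.map_add, map_add, ← hP, ← hQ, show adj hF (aeval s P + aeval s Q) =
        adj hF (aeval s P) + adj hF (aeval s Q) by ext i j; simp [adj], mul_add, add_mul]
    | monomial n c =>
      rw [Polynomial.map_monomial, aeval_monomial, aeval_monomial, ← Algebra.smul_def, ← Algebra.smul_def, adj_smul,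
        Matrix.mul_smul, Matrix.smul_mul]
      congr 1
      induction n with
      | zero => simp only [pow_zero, adj_one, mul_one, hGi]
      | succ n ih =>
        simp only [pow_succ, adj_mul]
        calc Gi * (adj hF s * adj hF (s ^ n)) * G = Gi * adj hF s * (G * Gi) * adj hF (s ^ n) * G := by
              rw [hGi', mul_one]; simp only [mul_assoc]
          _ = (Gi * adj hF s * G) * (Gi * adj hF (s ^ n) * G) := by simp only [mul_assoc]
          _ = s ^ n * s := by rw [hsa, ih, (Commute.refl s).pow_left n]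
  refine ⟨aeval s g, hcm g, fun i => by rw [hpi, hg0, one_smul], ?_⟩
  have h := congrArg (aeval s) hr
  rw [map_sub, map_mul, map_mul, map_pow, aeval_X, pow_eq_zero_of_le (Nat.le_succ N) hN, zero_mul, sub_eq_zero,
    map_add, map_one, aeval_X, ← hadj] at h
  rw [← h]
  simp only [← mul_assoc, hGi', one_mul]

theorem isUnit_of_pi_one (hd : ∀ k, 1 ≤ d k) {Z : Mat F d} (hZ : Cm Z) (hZ1 : ∀ i, pi hd i Z = 1) :
    ∃ W : Mat F d, Z * W = 1 ∧ W * Z = 1 ∧ Cm W ∧ ∀ i, pi hd i W = 1 := by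
  have hrad : Rad hd (Z - 1) := ⟨hZ.sub cm_one, fun i => by
    show Z.submatrix _ _ - (1 : Mat F d).submatrix _ _ = 0
    rw [show (1 : Mat F d).submatrix _ _ = pi hd i 1 from rfl, pi_one, ← hZ1 i]
    exact sub_self _⟩
  have hu := (rad_nilpotent hrad).isUnit_one_add
  rw [add_sub_cancel] at hu
  obtain ⟨U, rfl⟩ := hu
  have hW : Cm (U⁻¹ : (Mat F d)ˣ).val := by
    have h := (show Commute (U : Mat F d) (Cfsg.jordanTypeMatrix d F) from hZ).units_inv_left
    exact h
  refine ⟨(U⁻¹ : (Mat F d)ˣ).val, U.mul_inv, U.inv_mul, hW, fun i => ?_⟩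
  have h := pi_mul hd i hZ hW
  rw [U.mul_inv, pi_one, hZ1, one_mul] at h
  exact h.symm

/-- A unitary element with prescribed images. -/
theorem exists_unitary (hG : Gram hF G) (hd : ∀ k, 1 ≤ d k)
    (P : (i : ℕ) → Matrix {k : Fin t // d k = i} {k : Fin t // d k = i} F)
    (hP : ∀ i, adj hF (P i) * form hd G i * P i = form hd G i) :
    ∃ X : Mat F d, Cm X ∧ adj hF X * G * X = G ∧ ∀ i, pi hd i X = P i := by
  obtain ⟨Gi, hGi'⟩ := hG.unit.exists_right_inv
  have hGi : Gi * G = 1 := mul_eq_one_comm.1 hGi'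
  have hY := cm_lift P
  set Y := lift P
  set s := Gi * adj hF Y * G * Y - 1 with hs
  have hcm : Cm s := ((jordan_commute_inv hG hGi hY).mul hY).sub cm_one
  have hGs : G * (1 + s) = adj hF Y * G * Y := by
    rw [hs, add_sub_cancel]; simp only [← mul_assoc, hGi', one_mul]
  have hrad : Rad hd s := ⟨hcm, fun i => by
    have h1 := form_mul hG hd (cm_one.add hcm) i
    rw [hGs, adj_form_mul hG hd hY hY i, pi_lift, hP, pi_add, pi_one, mul_add, mul_one, left_eq_add] at h1
    exact (hG.form_unit hd i).mul_right_eq_zero.1 h1⟩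
  have hsa : Gi * adj hF s * G = s := by
    have e : adj hF (Gi * adj hF Y * G * Y - 1) = adj hF Y * G * Y * adj hF Gi - 1 := by
      have hsub : ∀ U V : Mat F d, adj hF (U - V) = adj hF U - adj hF V := fun U V => by
        ext i j
        simp only [adj, Matrix.transpose_apply, Matrix.map_apply, Matrix.sub_apply, map_sub]
      rw [hsub, adj_one, adj_mul, adj_mul, adj_mul, adj_adj, hG.herm]
      simp only [mul_assoc]
    have hGiG : adj hF Gi * G = 1 := by rw [← hG.herm, ← adj_mul, hGi', adj_one]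
    rw [hs, e, mul_sub, sub_mul, mul_one, hGi]
    congr 1
    calc Gi * (adj hF Y * G * Y * adj hF Gi) * G = Gi * adj hF Y * G * Y * (adj hF Gi * G) := by simp only [mul_assoc]
      _ = _ := by rw [hGiG, mul_one]
  obtain ⟨Z, hZ, hZ1, hZG⟩ := exists_sqrt hd hGi hrad hsa
  obtain ⟨W, hZW, -, hW, hW1⟩ := isUnit_of_pi_one hd hZ hZ1
  refine ⟨Y * W, hY.mul hW, ?_, fun i => by rw [pi_mul hd i hY hW, hW1, mul_one, pi_lift]⟩
  calc adj hF (Y * W) * G * (Y * W) = adj hF W * (adj hF Y * G * Y) * W := by rw [adj_mul]; simp only [mul_assoc]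
    _ = adj hF W * (adj hF Z * G * Z) * W := by rw [← hGs, ← hZG]
    _ = adj hF (Z * W) * G * (Z * W) := by rw [adj_mul]; simp only [mul_assoc]
    _ = G := by rw [hZW, adj_one, one_mul, mul_one]

/-- The kernel has as many elements as the self-adjoint part of the radical. -/
theorem card_kernel (hG : Gram hF G) (hd : ∀ k, 1 ≤ d k) :
    Nat.card {X : Mat F d // (Cm X ∧ adj hF X * G * X = G) ∧ ∀ i, pi hd i X = 1} = q ^ (radSupp d).card := by
  classical
  obtain ⟨Gi, hGi'⟩ := hG.unit.exists_right_inv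
  have hGi : Gi * G = 1 := mul_eq_one_comm.1 hGi'
  have hGiG : adj hF Gi * G = 1 := by rw [← hG.herm, ← adj_mul, hGi', adj_one]
  let K := {X : Mat F d // (Cm X ∧ adj hF X * G * X = G) ∧ ∀ i, pi hd i X = 1}
  let S := {s : Mat F d // Rad hd s ∧ Gi * adj hF s * G = s}
  let J := {X : Mat F d // Rad hd X}
  have hdag2 : ∀ X : Mat F d, Gi * adj hF (Gi * adj hF X * G) * G = X := fun X => by
    rw [adj_mul, adj_mul, adj_adj, hG.herm]
    calc Gi * (G * (X * adj hF Gi)) * G = (Gi * G) * X * (adj hF Gi * G) := by simp only [mul_assoc]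
      _ = X := by rw [hGi, hGiG, one_mul, mul_one]
  have hdagadd : ∀ X Y : Mat F d, Gi * adj hF (X + Y) * G = Gi * adj hF X * G + Gi * adj hF Y * G := fun X Y => by
    rw [show adj hF (X + Y) = adj hF X + adj hF Y by ext i j; simp [adj], mul_add, add_mul]
  have hdagsmul : ∀ (c : F) (X : Mat F d), Gi * adj hF (c • X) * G = frob hF c • (Gi * adj hF X * G) := fun c X => by
    rw [adj_smul, Matrix.mul_smul, Matrix.smul_mul]
  have hradd : ∀ {X : Mat F d}, Rad hd X → Rad hd (Gi * adj hF X * G) := fun {X} hX => by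
    refine ⟨jordan_commute_inv hG hGi hX.1, fun i => ?_⟩
    have h1 := form_mul hG hd (jordan_commute_inv hG hGi hX.1) i
    rw [show G * (Gi * adj hF X * G) = adj hF X * G by simp only [← mul_assoc, hGi', one_mul],
      hG.adj_one_form hd hX.1, hX.2] at h1
    have h2 : adj hF (0 : Matrix {k : Fin t // d k = i} {k : Fin t // d k = i} F) = 0 := by ext; simp [adj]
    rw [h2, zero_mul] at h1
    exact (hG.form_unit hd i).mul_right_eq_zero.1 h1.symm
  have hradlin : ∀ {X Y : Mat F d}, Rad hd X → Rad hd Y → ∀ c : F, Rad hd (X + c • Y) := fun hX hY c =>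
    ⟨hX.1.add (hY.1.smul c), fun i => by rw [pi_add, pi_smul, hX.2, hY.2, smul_zero, add_zero]⟩
  -- `J` is the square of `S`
  obtain ⟨w, hw⟩ : ∃ w : F, frob hF w ≠ w := by
    by_contra h
    push Not at h
    exact frob_ne_id hF (RingHom.ext h)
  have hw' : frob hF w - w ≠ 0 := sub_ne_zero.2 hw
  have hJS : Nat.card J = Nat.card S * Nat.card S := by
    rw [← Nat.card_prod]
    refine Nat.card_congr (Equiv.ofBijective (fun p : S × S => (⟨p.1.1 + w • p.2.1, hradlin p.1.2.1 p.2.2.1 w⟩ : J))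
      ⟨?_, ?_⟩).symm
    · rintro ⟨⟨a, ha, ha'⟩, ⟨b, hb, hb'⟩⟩ ⟨⟨a', ha1, ha2⟩, ⟨b', hb1, hb2⟩⟩ h
      have h1 : a + w • b = a' + w • b' := congrArg Subtype.val h
      have h2 := congrArg (fun X => Gi * adj hF X * G) h1
      simp only [hdagadd, hdagsmul, ha', hb', ha2, hb2] at h2
      have h3 : (frob hF w - w) • b = (frob hF w - w) • b' := by
        rw [sub_smul, sub_smul, eq_sub_of_add_eq' h2, eq_sub_of_add_eq' h1]; abel
      have hbb := smul_right_injective _ hw' h3
      subst hbb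
      have haa := add_right_cancel h1
      subst haa
      rfl
    · rintro ⟨X, hX⟩
      set b := (frob hF w - w)⁻¹ • (Gi * adj hF X * G - X) with hb
      have hbr : Rad hd b := by
        have h := hradlin (hradd hX) hX (-1)
        rw [neg_one_smul, ← sub_eq_add_neg] at h
        exact ⟨h.1.smul _, fun i => by rw [hb, pi_smul, h.2, smul_zero]⟩
      have hbs : Gi * adj hF b * G = b := by
        rw [hb, hdagsmul, map_inv₀, map_sub, frob_frob hF, sub_eq_add_neg (Gi * adj hF X * G), hdagadd, hdag2,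
          ← neg_one_smul F X, hdagsmul, map_neg, map_one, ← neg_sub (frob hF w) w, _root_.inv_neg]
        module
      refine ⟨⟨⟨X + (-w) • b, hradlin hX hbr _, ?_⟩, ⟨b, hbr, hbs⟩⟩, Subtype.ext ?_⟩
      · rw [hdagadd, hdagsmul, hbs]
        have h5 : (frob hF w - w) • b = Gi * adj hF X * G - X := by rw [hb, smul_inv_smul₀ hw']
        rw [sub_smul] at h5
        rw [eq_add_of_sub_eq h5.symm, map_neg]
        module
      · show X + (-w) • b + w • b = X
        module
  -- the fibres of `Z ↦ Z* Z`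
  have h1J : Nat.card {Z : Mat F d // Cm Z ∧ ∀ i, pi hd i Z = 1} = Nat.card J := Nat.card_congr
    { toFun := fun Z => ⟨Z.1 + (-1 : F) • 1, Z.2.1.add (cm_one.smul _), fun i => by
        rw [pi_add, pi_smul, Z.2.2, pi_one, neg_one_smul, add_neg_cancel]⟩
      invFun := fun X => ⟨X.1 + 1, X.2.1.add cm_one, fun i => by rw [pi_add, X.2.2, pi_one, zero_add]⟩
      left_inv := fun Z => Subtype.ext (show Z.1 + (-1 : F) • 1 + 1 = Z.1 by module)
      right_inv := fun X => Subtype.ext (show X.1 + 1 + (-1 : F) • 1 = X.1 by module) }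
  let ψ : {Z : Mat F d // Cm Z ∧ ∀ i, pi hd i Z = 1} → S := fun Z =>
    ⟨Gi * adj hF Z.1 * G * Z.1 + (-1 : F) • 1, by
      refine ⟨⟨((jordan_commute_inv hG hGi Z.2.1).mul Z.2.1).add (cm_one.smul _), fun i => ?_⟩, ?_⟩
      · have h1 := form_mul hG hd ((jordan_commute_inv hG hGi Z.2.1).mul Z.2.1) i
        rw [show G * (Gi * adj hF Z.1 * G * Z.1) = adj hF Z.1 * G * Z.1 by simp only [← mul_assoc, hGi', one_mul],
          adj_form_mul hG hd Z.2.1 Z.2.1, Z.2.2, adj_one, one_mul] at h1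
        rw [pi_add, pi_smul, pi_one, neg_one_smul, ← (hG.form_unit hd i).mul_left_cancel h1, add_neg_cancel]
      · rw [hdagadd, hdagsmul, adj_one, mul_one, hGi, map_neg, map_one, adj_mul, adj_mul, adj_mul, adj_adj, hG.herm]
        congr 1
        calc Gi * (adj hF Z.1 * (G * (Z.1 * adj hF Gi))) * G
            = Gi * adj hF Z.1 * G * Z.1 * (adj hF Gi * G) := by simp only [mul_assoc]
          _ = _ := by rw [hGiG, mul_one]⟩
  have hfib : Nat.card J = Nat.card S * Nat.card K := by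
    rw [← h1J]
    refine card_fibers ψ fun s => ?_
    obtain ⟨Z₀, hZ₀, hZ₁, hZG⟩ := exists_sqrt hd hGi s.2.1 s.2.2
    obtain ⟨W, hZW, hWZ, hW, hW1⟩ := isUnit_of_pi_one hd hZ₀ hZ₁
    have hψ : ∀ Z : {Z : Mat F d // Cm Z ∧ ∀ i, pi hd i Z = 1},
        ψ Z = s ↔ adj hF Z.1 * G * Z.1 = adj hF Z₀ * G * Z₀ := fun Z => by
      rw [hZG, Subtype.ext_iff]
      show Gi * adj hF Z.1 * G * Z.1 + (-1 : F) • 1 = s.1 ↔ _
      constructor
      · intro h
        rw [← h, show (1 : Mat F d) + (Gi * adj hF Z.1 * G * Z.1 + (-1 : F) • 1) = Gi * adj hF Z.1 * G * Z.1 by module]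
        simp only [← mul_assoc, hGi', one_mul]
      · intro h
        rw [show Gi * adj hF Z.1 * G * Z.1 = Gi * (adj hF Z.1 * G * Z.1) by simp only [mul_assoc], h, ← mul_assoc, hGi,
          one_mul]
        module
    refine ⟨{ toFun := fun Z => ⟨Z.1.1 * W, ⟨Z.1.2.1.mul hW, ?_⟩,
                fun i => by rw [pi_mul hd i Z.1.2.1 hW, Z.1.2.2, hW1, one_mul]⟩
              invFun := fun X => ⟨⟨X.1 * Z₀, X.2.1.1.mul hZ₀,
                fun i => by rw [pi_mul hd i X.2.1.1 hZ₀, X.2.2, hZ₁, one_mul]⟩, (hψ _).2 ?_⟩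
              left_inv := fun Z => Subtype.ext (Subtype.ext (show Z.1.1 * W * Z₀ = Z.1.1 by rw [mul_assoc, hWZ, mul_one]))
              right_inv := fun X => Subtype.ext (show X.1 * Z₀ * W = X.1 by rw [mul_assoc, hZW, mul_one]) }⟩
    · calc adj hF (Z.1.1 * W) * G * (Z.1.1 * W) = adj hF W * (adj hF Z.1.1 * G * Z.1.1) * W := by
            rw [adj_mul]; simp only [mul_assoc]
        _ = adj hF W * (adj hF Z₀ * G * Z₀) * W := by rw [(hψ Z.1).1 Z.2]
        _ = adj hF (Z₀ * W) * G * (Z₀ * W) := by rw [adj_mul]; simp only [mul_assoc]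
        _ = G := by rw [hZW, adj_one, one_mul, mul_one]
    · calc adj hF (X.1 * Z₀) * G * (X.1 * Z₀) = adj hF Z₀ * (adj hF X.1 * G * X.1) * Z₀ := by
            rw [adj_mul]; simp only [mul_assoc]
        _ = _ := by rw [X.2.1.2]
  have hSpos : 0 < Nat.card S := by
    haveI : Nonempty S := ⟨⟨0, ⟨cm_zero, fun i => rfl⟩,
      by rw [show adj hF (0 : Mat F d) = 0 by ext; simp [adj], mul_zero, zero_mul]⟩⟩
    exact Nat.card_pos
  rw [hJS] at hfib
  have hKS : Nat.card S = Nat.card K := Nat.eq_of_mul_eq_mul_left hSpos hfib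
  have h2 : Nat.card S * Nat.card S = q ^ (radSupp d).card * q ^ (radSupp d).card := by
    rw [← hJS, card_rad hF hd, ← pow_mul, ← pow_add]
    congr 1
    omega
  rw [← hKS]
  exact Nat.mul_self_inj.1 h2

/-- The number of isometries of a Hermitian or skew-Hermitian matrix. -/
theorem card_iso_form {ι : Type} [Fintype ι] [DecidableEq ι] (hF : Fintype.card F = q ^ 2) {h : Matrix ι ι F}
    (hu : IsUnit h) {e : ℕ} (he : adj hF h = (-1 : F) ^ e • h) :
    Nat.card {P : Matrix ι ι F // adj hF P * h * P = h} = guCard q (Fintype.card ι) := by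
  classical
  obtain ⟨ω, hω, hωσ⟩ : ∃ ω : F, ω ≠ 0 ∧ frob hF ω = (-1) ^ e * ω := by
    rcases Nat.even_or_odd e with he | ho
    · exact ⟨1, one_ne_zero, by rw [he.neg_one_pow, one_mul, map_one]⟩
    · obtain ⟨y, hy0, hy⟩ := exists_trace_zero (frob_ne_id hF) (frob_frob hF)
      exact ⟨y, hy0, by rw [ho.neg_one_pow]; linear_combination hy⟩
  obtain ⟨w, hw⟩ : ∃ w : F, frob hF w ≠ w := by
    by_contra h
    push Not at h
    exact frob_ne_id hF (RingHom.ext h)
  let e' : ι ≃ Fin (Fintype.card ι) := Fintype.equivFin ι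
  let R := Matrix.reindexAlgEquiv F F e'
  have hadj : ∀ X, adj hF (R X) = R (adj hF X) := fun X => rfl
  have hherm : adj hF (ω • h) = ω • h := by
    rw [adj_smul, he, smul_smul, hωσ, mul_right_comm, ← mul_pow, neg_mul_neg, one_mul, one_pow, one_mul]
  have hωu : IsUnit (ω • h) := by
    obtain ⟨k, hk⟩ := hu.exists_right_inv
    exact IsUnit.of_mul_eq_one (ω⁻¹ • k) (by rw [smul_mul_smul_comm, mul_inv_cancel₀ hω, hk, one_smul])
  obtain ⟨S, hSu, hS, -⟩ := Cfsg.Lib.Linear.HermitianFactor.exists_factor (σ := frob hF) (frob_frob hF) hw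
    (H := R (ω • h)) (by show adj hF (R (ω • h)) = _; rw [hadj, hherm]) (hωu.map R)
  replace hS : adj hF S * S = R (ω • h) := hS
  obtain ⟨S, rfl⟩ := hSu
  rw [guCard, ← card_GU hF (Fintype.card ι)]
  have key : ∀ P : Matrix ι ι F, adj hF P * h * P = h ↔ IsU hF (S.val * R P * (S⁻¹).val) := fun P => by
    show _ ↔ adj hF _ * _ = 1
    have h1 : adj hF (S.val * R P * (S⁻¹).val) * (S.val * R P * (S⁻¹).val) =
        adj hF (S⁻¹).val * R (adj hF P * (ω • h) * P) * (S⁻¹).val := by
      rw [adj_mul, adj_mul, hadj, map_mul, map_mul, ← hS]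
      simp only [mul_assoc]
    rw [h1]
    constructor
    · intro hP
      rw [Matrix.mul_smul, Matrix.smul_mul, hP, ← hS, ← mul_assoc, ← adj_mul, Units.mul_inv, adj_one, one_mul,
        Units.mul_inv]
    · intro hP
      have h2 := congrArg (fun X => adj hF S.val * X * S.val) hP
      rw [show adj hF S.val * (adj hF (S⁻¹).val * R (adj hF P * (ω • h) * P) * (S⁻¹).val) * S.val =
          (adj hF S.val * adj hF (S⁻¹).val) * R (adj hF P * (ω • h) * P) * ((S⁻¹).val * S.val) by
        simp only [mul_assoc], ← adj_mul, Units.inv_mul, adj_one, one_mul, mul_one, mul_one, hS] at h2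
      have h3 := R.injective h2
      rw [Matrix.mul_smul, Matrix.smul_mul] at h3
      exact smul_right_injective _ hω h3
  refine Nat.card_congr
    { toFun := fun P => ⟨⟨S.val * R P.1 * (S⁻¹).val, adj hF (S.val * R P.1 * (S⁻¹).val),
          mul_eq_one_comm.1 ((key P.1).1 P.2), (key P.1).1 P.2⟩, (mem_GU_iff hF _).2 ((key P.1).1 P.2)⟩
      invFun := fun g => ⟨R.symm ((S⁻¹).val * (g : GL (Fin (Fintype.card ι)) F).val * S.val), ?_⟩
      left_inv := fun P => Subtype.ext (by
        show R.symm ((S⁻¹).val * (S.val * R P.1 * (S⁻¹).val) * S.val) = P.1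
        rw [show (S⁻¹).val * (S.val * R P.1 * (S⁻¹).val) * S.val = (S⁻¹).val * S.val * R P.1 * ((S⁻¹).val * S.val) by
          simp only [mul_assoc], Units.inv_mul, one_mul, mul_one, AlgEquiv.symm_apply_apply])
      right_inv := fun g => Subtype.ext (Units.ext (by
        show S.val * R (R.symm ((S⁻¹).val * (g : GL (Fin (Fintype.card ι)) F).val * S.val)) * (S⁻¹).val = _
        rw [AlgEquiv.apply_symm_apply]
        rw [show S.val * ((S⁻¹).val * (g : GL (Fin (Fintype.card ι)) F).val * S.val) * (S⁻¹).val =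
          S.val * (S⁻¹).val * (g : GL (Fin (Fintype.card ι)) F).val * (S.val * (S⁻¹).val) by
          simp only [mul_assoc], Units.mul_inv, one_mul, mul_one])) }
  rw [key, AlgEquiv.apply_symm_apply, show S.val * ((S⁻¹).val * (g : GL (Fin (Fintype.card ι)) F).val * S.val) * (S⁻¹).val =
    S.val * (S⁻¹).val * (g : GL (Fin (Fintype.card ι)) F).val * (S.val * (S⁻¹).val) by
      simp only [mul_assoc], Units.mul_inv, one_mul, mul_one]
  exact (mem_GU_iff hF _).1 g.2

/-- The order of the unitary centraliser. -/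
theorem card_uset (hG : Gram hF G) (hd : ∀ k, 1 ≤ d k) {D : ℕ} (hD : ∀ k, d k < D) :
    Nat.card {X : Mat F d // Cm X ∧ adj hF X * G * X = G} =
      (∏ i ∈ Finset.range D, guCard q (Finset.univ.filter fun k : Fin t => d k = i).card) *
        q ^ (radSupp d).card := by
  classical
  let Φ : {X : Mat F d // Cm X ∧ adj hF X * G * X = G} →
      ((i : Fin D) → {P : Matrix {k : Fin t // d k = i} {k : Fin t // d k = i} F //
        adj hF P * form hd G i * P = form hd G i}) := fun X i =>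
    ⟨pi hd i X.1, by rw [← adj_form_mul hG hd X.2.1 X.2.1, X.2.2]; rfl⟩
  have hext : ∀ X Y : Mat F d, (∀ i : Fin D, pi hd i X = pi hd i Y) → ∀ i, pi hd i X = pi hd i Y := fun X Y h i => by
    rcases Nat.lt_or_ge i D with hi | hi
    · exact h ⟨i, hi⟩
    · ext ⟨m, hm⟩ k
      have := hD m
      omega
  have hfib : ∀ P, Nonempty ({X // Φ X = P} ≃
      {X : Mat F d // (Cm X ∧ adj hF X * G * X = G) ∧ ∀ i, pi hd i X = 1}) := fun P => by
    obtain ⟨X₀, hX₀, hX₀G, hX₀P⟩ := exists_unitary hG hd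
      (fun i => if h : i < D then (P ⟨i, h⟩).1 else 1) fun i => by
        split_ifs with h
        · exact (P ⟨i, h⟩).2
        · rw [adj_one, one_mul, mul_one]
    have hP : ∀ i : Fin D, pi hd i X₀ = (P i).1 := fun i => by rw [hX₀P, dif_pos i.2]
    obtain ⟨Gi, hGi'⟩ := hG.unit.exists_right_inv
    have hGi : Gi * G = 1 := mul_eq_one_comm.1 hGi'
    obtain ⟨Y, hYdef⟩ : ∃ Y, Gi * adj hF X₀ * G = Y := ⟨_, rfl⟩
    have hYX : Y * X₀ = 1 := by
      rw [show Y * X₀ = Gi * (adj hF X₀ * G * X₀) by rw [← hYdef]; simp only [mul_assoc], hX₀G, hGi]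
    have hXY : X₀ * Y = 1 := mul_eq_one_comm.1 hYX
    have hY : Cm Y := hYdef ▸ jordan_commute_inv hG hGi hX₀
    have hYG : adj hF Y * G * Y = G := by
      calc adj hF Y * G * Y = adj hF Y * (adj hF X₀ * G * X₀) * Y := by rw [hX₀G]
        _ = adj hF (X₀ * Y) * G * (X₀ * Y) := by rw [adj_mul]; simp only [mul_assoc]
        _ = G := by rw [hXY, adj_one, one_mul, mul_one]
    refine ⟨{ toFun := fun X => ⟨Y * X.1.1, ⟨hY.mul X.1.2.1, ?_⟩, fun i => ?_⟩
              invFun := fun K => ⟨⟨X₀ * K.1, hX₀.mul K.2.1.1, ?_⟩, funext fun i => Subtype.ext ?_⟩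
              left_inv := fun X => Subtype.ext (Subtype.ext (show X₀ * (Y * X.1.1) = X.1.1 by
                rw [← mul_assoc, hXY, one_mul]))
              right_inv := fun K => Subtype.ext (show Y * (X₀ * K.1) = K.1 by rw [← mul_assoc, hYX, one_mul]) }⟩
    · calc adj hF (Y * X.1.1) * G * (Y * X.1.1) = adj hF X.1.1 * (adj hF Y * G * Y) * X.1.1 := by
            rw [adj_mul]; simp only [mul_assoc]
        _ = G := by rw [hYG]; exact X.1.2.2
    · have h1 : pi hd i X.1.1 = pi hd i X₀ := hext _ _ (fun j => by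
        rw [hP j]; exact congrArg Subtype.val (congrFun X.2 j)) i
      rw [pi_mul hd i hY X.1.2.1, h1, ← pi_mul hd i hY hX₀, hYX, pi_one]
    · calc adj hF (X₀ * K.1) * G * (X₀ * K.1) = adj hF K.1 * (adj hF X₀ * G * X₀) * K.1 := by
            rw [adj_mul]; simp only [mul_assoc]
        _ = G := by rw [hX₀G, K.2.1.2]
    · show pi hd i (X₀ * K.1) = (P i).1
      rw [pi_mul hd i hX₀ K.2.1.1, K.2.2, mul_one, hP]
  rw [card_fibers Φ hfib, card_kernel hG hd, Nat.card_pi, ← Fin.prod_univ_eq_prod_range (fun i =>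
    guCard q (Finset.univ.filter fun k : Fin t => d k = i).card) D]
  congr 1
  refine Finset.prod_congr rfl fun i _ => ?_
  rw [card_iso_form hF (hG.form_unit hd i) (hG.form_adj hd i), Fintype.card_subtype]

/-- The size of the support. -/
theorem card_radSupp (hd : ∀ k, 1 ≤ d k) :
    (radSupp d).card = ∑ k, ∑ m, (min (d k) (d m) - if d k = d m then 1 else 0) := by
  classical
  have hfin : ∀ n L, (Finset.univ.filter fun a : Fin n => L ≤ (a : ℕ)).card = n - L := fun n L => by
    rcases Nat.lt_or_ge L n with h | h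
    · rw [show (Finset.univ.filter fun a : Fin n => L ≤ (a : ℕ)) = Finset.Ici (⟨L, h⟩ : Fin n) by
        ext a; simp [Fin.le_def], Fin.card_Ici]
    · rw [Finset.filter_eq_empty_iff.2 fun a _ => by omega, Finset.card_empty]
      omega
  rw [radSupp, Finset.card_filter, Fintype.sum_prod_type]
  refine Finset.sum_congr rfl fun k _ => ?_
  rw [Fintype.sum_sigma]
  refine Finset.sum_congr rfl fun m _ => ?_
  rw [← Finset.card_filter]
  have := hd k
  have := hd m
  refine (congrArg Finset.card ?_).trans ((hfin (d m) (if d k = d m then 1 else d m - d k)).trans ?_)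
  · refine Finset.filter_congr fun a _ => ?_
    show (d m ≤ (a : ℕ) + d k ∧ (d m = d k → (a : ℕ) ≠ 0)) ↔ _
    split_ifs with h
    · omega
    · omega
  · split_ifs with h <;> omega

end Cfsg.Lib.Linear.HermUnipCent
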