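import Cfsg.Agent.Lib.Linear.SymplecticGroup
import Cfsg.Agent.Lib.Linear.StabCard

/-! Orders of pointwise fixers of degenerate subspaces in symplectic groups. -/

set_option autoImplicit false

namespace Cfsg.Lib.Linear.Symp

open Module

variable {F V : Type*} [Field F] [AddCommGroup V] [Module F V] [FiniteDimensional F V]
  {B : LinearMap.BilinForm F V}

theorem card_fixer_radical [Fintype F] [Finite V] (hB : B.Nondegenerate) (hA : B.IsAlt) {m : ℕ}
    (hm : finrank F V = 2 * m) :
    ∀ (r : ℕ) (X : Submodule F V), finrank F ↥(X ⊓ B.orthogonal X) = r →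
      ∀ k, finrank F ↥X + r + 2 * k = 2 * m →
      Nat.card (fixer B X) = Fintype.card F ^ (∑ i ∈ Finset.range r, (2 * m - (finrank F ↥X + i))) *
        (Fintype.card F ^ (k ^ 2) * ∏ i ∈ Finset.range k, (Fintype.card F ^ (2 * (i + 1)) - 1)) := by
  intro r
  induction r with
  | zero =>
    intro X hr k hk
    obtain ⟨k', hk', hcard⟩ := card_fixer hB hA _ X (Submodule.finrank_eq_zero.1 hr) le_rfl
    rw [LinearMap.BilinForm.finrank_orthogonal hB, hm] at hk'
    rw [hcard, show k' = k by omega, Finset.sum_range_zero, pow_zero, one_mul]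
  | succ r ih =>
    intro X hr k hk
    obtain ⟨e, he, he0⟩ := Submodule.exists_mem_ne_zero_of_ne_bot
      (fun h : X ⊓ B.orthogonal X = ⊥ => by rw [h, finrank_bot] at hr; omega)
    obtain ⟨f, hef⟩ : ∃ f, B e f = 1 := by
      obtain ⟨u, hu⟩ : ∃ u, B e u ≠ 0 := by
        by_contra hc
        push Not at hc
        exact he0 (hB.1 e hc)
      exact ⟨(B e u)⁻¹ • u, by simp [hu]⟩
    have heX : ∀ x ∈ X, B e x = 0 := fun x hx => hA.isRefl _ _ (he.2 x hx)
    have hfX : f ∉ X := fun h => one_ne_zero (hef.symm.trans (heX f h))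
    have hX1 : finrank F ↥(X ⊔ Submodule.span F {f}) = finrank F ↥X + 1 :=
      Submodule.finrank_sup_span_singleton hfX
    have hrad : finrank F ↥((X ⊔ Submodule.span F {f}) ⊓ B.orthogonal (X ⊔ Submodule.span F {f})) = r := by
      let P : ↥(X ⊓ B.orthogonal X) →ₗ[F] F := (B.flip f).comp (X ⊓ B.orthogonal X).subtype
      have heq : (X ⊔ Submodule.span F {f}) ⊓ B.orthogonal (X ⊔ Submodule.span F {f}) =
          (LinearMap.ker P).map (X ⊓ B.orthogonal X).subtype := by
        ext z
        constructor
        · rintro ⟨hz, hzp⟩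
          obtain ⟨x, hx, y, hy, rfl⟩ := Submodule.mem_sup.1 hz
          obtain ⟨c, rfl⟩ := Submodule.mem_span_singleton.1 hy
          have h1 : B e (x + c • f) = 0 := hzp e (Submodule.mem_sup_left he.1)
          rw [map_add, map_smul, heX x hx, hef, smul_eq_mul, mul_one, zero_add] at h1
          subst h1
          rw [zero_smul, add_zero] at hzp ⊢
          have hx' : x ∈ X ⊓ B.orthogonal X := ⟨hx, fun y hy => hzp y (Submodule.mem_sup_left hy)⟩
          exact ⟨⟨x, hx'⟩, hA.isRefl _ _ (hzp f (Submodule.mem_sup_right (Submodule.mem_span_singleton_self f))), rfl⟩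
        · rintro ⟨⟨x, hx⟩, hxk, rfl⟩
          refine ⟨Submodule.mem_sup_left hx.1, fun y hy => ?_⟩
          obtain ⟨a, ha, b, hb, rfl⟩ := Submodule.mem_sup.1 hy
          obtain ⟨c, rfl⟩ := Submodule.mem_span_singleton.1 hb
          have h1 : B a x = 0 := hx.2 a ha
          have h2 : B f x = 0 := hA.isRefl _ _ hxk
          show B (a + c • f) x = 0
          simp [h1, h2]
      rw [heq, Submodule.finrank_map_subtype_eq]
      have hs : Function.Surjective P := fun a => ⟨a • ⟨e, he⟩, by simp [P, hef]⟩
      have h1 := LinearMap.finrank_range_add_finrank_ker P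
      rw [LinearMap.range_eq_top.2 hs, finrank_top, finrank_self, hr] at h1
      omega
    have horb : Nat.card {b : V // b ∉ X ∧ ∀ x ∈ X, B x f = B x b} =
        Fintype.card F ^ (2 * m - finrank F ↥X) := by
      let eqv : {b : V // b ∉ X ∧ ∀ x ∈ X, B x f = B x b} ≃ ↥(B.orthogonal X) :=
        { toFun := fun b => ⟨(b : V) - f, fun x hx => by
            show B x ((b : V) - f) = 0
            rw [map_sub, b.2.2 x hx, sub_self]⟩
          invFun := fun w => ⟨(w : V) + f, fun hmem => by
              have h1 := heX _ hmem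
              have h2 : B e (w : V) = 0 := w.2 e he.1
              rw [map_add, h2, hef, zero_add] at h1
              exact one_ne_zero h1,
            fun x hx => by
              have : B x (w : V) = 0 := w.2 x hx
              rw [map_add, this, zero_add]⟩
          left_inv := fun b => Subtype.ext (sub_add_cancel _ _)
          right_inv := fun w => Subtype.ext (add_sub_cancel_right _ _) }
      rw [Nat.card_congr eqv, natCard_submodule, LinearMap.BilinForm.finrank_orthogonal hB, hm]
    rw [card_fixer_step hB hA X hfX, horb, ih _ hrad k (by omega), hX1, ← mul_assoc, ← pow_add]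
    congr 2
    rw [Finset.sum_range_succ' (fun i => 2 * m - (finrank F ↥X + i)), Nat.add_zero, add_comm]
    congr 1
    exact Finset.sum_congr rfl fun i _ => by rw [Nat.add_assoc, Nat.add_comm 1 i]

theorem sum_exponent (m k : ℕ) (hk : k ≤ m) :
    ∑ i ∈ Finset.range k, (2 * m - (k + i)) = k * (k + 1) / 2 + 2 * k * (m - k) := by
  obtain ⟨j, rfl⟩ := Nat.exists_eq_add_of_le hk
  have h : ∀ t, t ≤ k → 2 * ∑ i ∈ Finset.range t, (2 * (k + j) - (k + i)) + t * t = t * (4 * j + 2 * k + 1) := by
    intro t
    induction t with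
    | zero => simp
    | succ t ih =>
      intro ht
      obtain ⟨d, hd⟩ := Nat.exists_eq_add_of_le (show t ≤ k by omega)
      rw [Finset.sum_range_succ, mul_add, show 2 * (k + j) - (k + t) = d + 2 * j by omega]
      have := ih (by omega)
      rw [hd] at this ⊢
      nlinarith
  have h1 := h k le_rfl
  rw [Nat.add_sub_cancel_left]
  obtain ⟨a, ha⟩ : Even (k * (k + 1)) := Nat.even_mul_succ_self k
  rw [show k * (k + 1) / 2 = a by omega]
  nlinarith

/-- The fixer of a totally isotropic subspace. -/
theorem card_fixer_isotropic [Fintype F] [Finite V] (hB : B.Nondegenerate) (hA : B.IsAlt) {m k : ℕ}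
    (hm : finrank F V = 2 * m) (hk : k ≤ m) {W : Submodule F V} (hW : finrank F ↥W = k)
    (hWi : ∀ u ∈ W, ∀ v ∈ W, B u v = 0) :
    Nat.card (fixer B W) = Fintype.card F ^ (k * (k + 1) / 2 + 2 * k * (m - k)) *
      (Fintype.card F ^ ((m - k) ^ 2) * ∏ i ∈ Finset.range (m - k), (Fintype.card F ^ (2 * (i + 1)) - 1)) := by
  have hrad : W ⊓ B.orthogonal W = W := inf_eq_left.2 fun x hx y hy => hWi y hy x hx
  rw [card_fixer_radical hB hA hm k W (by rw [hrad, hW]) (m - k) (by omega), hW, sum_exponent m k hk]

end Cfsg.Lib.Linear.Symp
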