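import Mathlib

/-!
# Finite Jordan division sets of matrices commute

Let `S` be an `F_p`-space of square matrices containing `1`, closed under `(a, b) ↦ a b a`, all of whose
nonzero elements are invertible. Then the elements of `S` commute (Albert).

Proof: otherwise a proper centralizer `S ∩ C(g)` is a field `F_p[g]` of degree `m < dim S`. Over a
splitting field the idempotents of `g` have one dimensional Peirce diagonal, so by taking Schur
complements the determinant on `S` is the power of a form of degree `m`, which has a nontrivial zero by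
Chevalley-Warning.
-/

set_option autoImplicit false
set_option linter.style.haveILetI false

namespace Cfsg.Lib.Linear.JordanDivision

open Matrix Polynomial

section Triple

variable {R A : Type*} [CommRing R] [Ring A] [Algebra R A]

/-- Polarization of the triple product. -/
theorem polar {S : Submodule R A} (h : ∀ a ∈ S, ∀ b ∈ S, a * b * a ∈ S) {a b c : A}
    (ha : a ∈ S) (hb : b ∈ S) (hc : c ∈ S) : a * b * c + c * b * a ∈ S := by
  have := S.sub_mem (S.sub_mem (h (a + c) (S.add_mem ha hc) b hb) (h a ha b hb)) (h c hc b hb)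
  rwa [show (a + c) * b * (a + c) - a * b * a - c * b * c = a * b * c + c * b * a by noncomm_ring] at this

theorem pow_mem {S : Submodule R A} (h1 : 1 ∈ S) (h : ∀ a ∈ S, ∀ b ∈ S, a * b * a ∈ S) {a : A}
    (ha : a ∈ S) (k : ℕ) : a ^ k ∈ S := by
  induction k using Nat.twoStepInduction with
  | zero => simpa using h1
  | one => simpa using ha
  | more k ih _ =>
    have := h a ha _ ih
    rwa [← pow_succ', ← pow_succ] at this

theorem aeval_mem {S : Submodule R A} (h1 : 1 ∈ S) (h : ∀ a ∈ S, ∀ b ∈ S, a * b * a ∈ S) {a : A}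
    (ha : a ∈ S) (q : R[X]) : aeval a q ∈ S := by
  induction q using Polynomial.induction_on' with
  | add q q' hq hq' => rw [map_add]; exact S.add_mem hq hq'
  | monomial k c =>
    rw [aeval_monomial, ← Algebra.smul_def]
    exact S.smul_mem _ (pow_mem h1 h ha k)

/-- The triple product passes to spans. -/
theorem span_closed {T : Set A}
    (h2 : ∀ a ∈ T, ∀ b ∈ T, a * b * a ∈ Submodule.span R T)
    (h3 : ∀ a ∈ T, ∀ b ∈ T, ∀ c ∈ T, a * b * c + c * b * a ∈ Submodule.span R T) :
    ∀ a ∈ Submodule.span R T, ∀ b ∈ Submodule.span R T, a * b * a ∈ Submodule.span R T := by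
  set S := Submodule.span R T
  have k1 : ∀ a ∈ T, ∀ b ∈ T, ∀ c ∈ S, a * b * c + c * b * a ∈ S := by
    intro a ha b hb c hc
    induction hc using Submodule.span_induction with
    | mem c hc => exact h3 a ha b hb c hc
    | zero => simp
    | add x y _ _ hx hy =>
      rw [show a * b * (x + y) + (x + y) * b * a = (a * b * x + x * b * a) + (a * b * y + y * b * a) by
        noncomm_ring]
      exact S.add_mem hx hy
    | smul r x _ hx =>
      rw [mul_smul_comm, smul_mul_assoc, smul_mul_assoc, ← smul_add]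
      exact S.smul_mem r hx
  have k2 : ∀ a ∈ T, ∀ b ∈ S, ∀ c ∈ S, a * b * c + c * b * a ∈ S := by
    intro a ha b hb c hc
    induction hb using Submodule.span_induction with
    | mem b hb => exact k1 a ha b hb c hc
    | zero => simp
    | add x y _ _ hx hy =>
      rw [show a * (x + y) * c + c * (x + y) * a = (a * x * c + c * x * a) + (a * y * c + c * y * a) by
        noncomm_ring]
      exact S.add_mem hx hy
    | smul r x _ hx =>
      simp only [mul_smul_comm, smul_mul_assoc, ← smul_add]
      exact S.smul_mem r hx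
  have k3 : ∀ a ∈ S, ∀ b ∈ S, ∀ c ∈ S, a * b * c + c * b * a ∈ S := by
    intro a ha b hb c hc
    induction ha using Submodule.span_induction with
    | mem a ha => exact k2 a ha b hb c hc
    | zero => simp
    | add x y _ _ hx hy =>
      rw [show (x + y) * b * c + c * b * (x + y) = (x * b * c + c * b * x) + (y * b * c + c * b * y) by
        noncomm_ring]
      exact S.add_mem hx hy
    | smul r x _ hx =>
      simp only [mul_smul_comm, smul_mul_assoc, ← smul_add]
      exact S.smul_mem r hx
  intro a ha b hb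
  induction ha using Submodule.span_induction with
  | mem a ha =>
    induction hb using Submodule.span_induction with
    | mem b hb => exact h2 a ha b hb
    | zero => simp
    | add x y _ _ hx hy => rw [mul_add, add_mul]; exact S.add_mem hx hy
    | smul r x _ hx => rw [mul_smul_comm, smul_mul_assoc]; exact S.smul_mem r hx
  | zero => simp
  | add x y hxS hyS hx hy =>
    rw [show (x + y) * b * (x + y) = x * b * x + y * b * y + (x * b * y + y * b * x) by noncomm_ring]
    exact S.add_mem (S.add_mem hx hy) (k3 x hxS b hb y hyS)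
  | smul r x _ hx =>
    simp only [mul_smul_comm, smul_mul_assoc]
    exact S.smul_mem r (S.smul_mem r hx)

end Triple

variable {n : Type*} [Fintype n] [DecidableEq n]

section BaseChange

variable {R Φ : Type*} [CommRing R] [CommRing Φ]

/-- Extension of scalars of a space of matrices. -/
def ext (j : R →+* Φ) (S : Submodule R (Matrix n n R)) : Submodule Φ (Matrix n n Φ) :=
  Submodule.span Φ (j.mapMatrix '' (S : Set (Matrix n n R)))

theorem map_mem_ext (j : R →+* Φ) {S : Submodule R (Matrix n n R)} {a : Matrix n n R} (ha : a ∈ S) :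
    j.mapMatrix a ∈ ext j S :=
  Submodule.subset_span ⟨a, ha, rfl⟩

theorem ext_closed (j : R →+* Φ) {S : Submodule R (Matrix n n R)}
    (h : ∀ a ∈ S, ∀ b ∈ S, a * b * a ∈ S) :
    ∀ a ∈ ext j S, ∀ b ∈ ext j S, a * b * a ∈ ext j S := by
  refine span_closed ?_ ?_
  · rintro _ ⟨a, ha, rfl⟩ _ ⟨b, hb, rfl⟩
    rw [← map_mul, ← map_mul]
    exact map_mem_ext j (h a ha b hb)
  · rintro _ ⟨a, ha, rfl⟩ _ ⟨b, hb, rfl⟩ _ ⟨c, hc, rfl⟩
    rw [← map_mul, ← map_mul, ← map_mul, ← map_mul, ← map_add]
    exact map_mem_ext j (polar h ha hb hc)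

theorem mapMatrix_mem_ext {Ψ : Type*} [CommRing Ψ] (j : R →+* Φ) (i : Φ →+* Ψ)
    {S : Submodule R (Matrix n n R)} {a : Matrix n n Φ} (ha : a ∈ ext j S) :
    i.mapMatrix a ∈ ext (i.comp j) S := by
  induction ha using Submodule.span_induction with
  | mem a ha =>
    obtain ⟨a, ha, rfl⟩ := ha
    exact Submodule.subset_span ⟨a, ha, Matrix.ext fun _ _ => rfl⟩
  | zero => rw [map_zero]; exact zero_mem _
  | add x y _ _ hx hy => rw [map_add]; exact add_mem hx hy
  | smul r x _ hx =>
    rw [show i.mapMatrix (r • x) = i r • i.mapMatrix x from Matrix.ext fun _ _ => map_mul i _ _]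
    exact Submodule.smul_mem _ _ hx

/-- A linear function of the coordinates maps the extension back into `S`. -/
theorem map_functional_mem (j : R →+* Φ) [Algebra R Φ] (hj : j = algebraMap R Φ) (φ : Φ →ₗ[R] R)
    {S : Submodule R (Matrix n n R)} {a : Matrix n n Φ} (ha : a ∈ ext j S) : a.map φ ∈ S := by
  suffices ∀ c : Φ, (c • a).map φ ∈ S by simpa using this 1
  induction ha using Submodule.span_induction with
  | mem a ha =>
    obtain ⟨a, ha, rfl⟩ := ha
    intro c
    rw [show (c • j.mapMatrix a).map φ = φ c • a from Matrix.ext fun i k => by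
      show φ (c * j (a i k)) = φ c * a i k
      rw [hj, ← Algebra.commutes, ← Algebra.smul_def, map_smul, smul_eq_mul, mul_comm]]
    exact S.smul_mem _ ha
  | zero => intro c; rw [smul_zero, Matrix.map_zero _ (map_zero φ)]; exact zero_mem S
  | add x y _ _ hx hy =>
    intro c
    rw [smul_add, Matrix.map_add _ (map_add φ)]
    exact add_mem (hx c) (hy c)
  | smul r x _ hx => intro c; rw [smul_smul]; exact hx _

end BaseChange

/-- The Peirce data of a maximal commutative element over a splitting field. -/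
structure Frame (p r : ℕ) (L : Type) [Field L] [Fact p.Prime] [Algebra (ZMod p) L]
    (S : Submodule (ZMod p) (Matrix n n (ZMod p))) (ι : Type) [Fintype ι] where
  e : ι → Matrix n n L
  mem : ∀ i, e i ∈ ext (algebraMap (ZMod p) L) S
  idem : ∀ i, e i * e i = e i
  orth : ∀ i k, i ≠ k → e i * e k = 0
  sum : ∑ i, e i = 1
  diag : ∀ i, ∀ b ∈ S, ∃ c : L, e i * (algebraMap (ZMod p) L).mapMatrix b * e i = c • e i
  det : ∀ i, ((Polynomial.X : L[X]) • (C : L →+* L[X]).mapMatrix (e i) + (1 - C.mapMatrix (e i))).det =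
    Polynomial.X ^ r

variable {p r : ℕ} {L : Type} [Field L] [Fact p.Prime] [Algebra (ZMod p) L]
  {S : Submodule (ZMod p) (Matrix n n (ZMod p))} {κ : Type} [Fintype κ]

theorem Frame.det_scalar {Φ : Type} [Field Φ] (F : Frame p r L S κ) (ι : L →+* Φ) (i : κ) (c : Φ) :
    (c • ι.mapMatrix (F.e i) + (1 - ι.mapMatrix (F.e i))).det = c ^ r := by
  have := congrArg (Polynomial.eval₂RingHom ι c) (F.det i)
  rw [RingHom.map_det, map_pow] at this
  rw [show (Polynomial.eval₂RingHom ι c) Polynomial.X = c from Polynomial.eval₂_X _ _] at this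
  rw [← this]
  congr 1
  ext a b
  simp [Matrix.one_apply, apply_ite (Polynomial.eval₂ ι c), mul_comm c]

set_option maxHeartbeats 800000 in
/-- The determinant on the extended space is an `r`-th power. -/
theorem Frame.det_eq_pow (F : Frame p r L S κ) (hr : r ≠ 0)
    (h : ∀ a ∈ S, ∀ b ∈ S, a * b * a ∈ S) (h1 : 1 ∈ S) (I : Finset κ) :
    ∀ (Φ : Type) [Field Φ] (ι : L →+* Φ),
      ∀ z ∈ ext (ι.comp (algebraMap (ZMod p) L)) S,
        (∑ i ∈ I, ι.mapMatrix (F.e i)) * z * (∑ i ∈ I, ι.mapMatrix (F.e i)) = z →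
          ∃ w : Φ, (z + (1 - ∑ i ∈ I, ι.mapMatrix (F.e i))).det = w ^ r := by
  classical
  induction I using Finset.strongInduction with
  | _ I IH =>
  intro Φ _ ι z hz hzE
  rcases I.eq_empty_or_nonempty with rfl | ⟨i, hi⟩
  · refine ⟨1, ?_⟩
    simp only [Finset.sum_empty, zero_mul] at hzE
    simp [← hzE]
  set f : κ → Matrix n n Φ := fun k => ι.mapMatrix (F.e k) with hf
  have fidem : ∀ k, f k * f k = f k := fun k => by simp only [hf, ← map_mul, F.idem]
  have forth : ∀ k l, k ≠ l → f k * f l = 0 := fun k l hkl => by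
    simp only [hf, ← map_mul, F.orth k l hkl, map_zero]
  have fmem : ∀ k, f k ∈ ext (ι.comp (algebraMap (ZMod p) L)) S := fun k => mapMatrix_mem_ext _ ι (F.mem k)
  have fdiag : ∀ k, ∀ y ∈ ext (ι.comp (algebraMap (ZMod p) L)) S, ∃ c : Φ, f k * y * f k = c • f k := by
    intro k y hy
    induction hy using Submodule.span_induction with
    | mem y hy =>
      obtain ⟨b, hb, rfl⟩ := hy
      obtain ⟨c, hc⟩ := F.diag k b hb
      refine ⟨ι c, ?_⟩
      have e := congrArg ι.mapMatrix hc
      rw [map_mul, map_mul] at e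
      refine e.trans (Matrix.ext fun _ _ => map_mul ι _ _)
    | zero => exact ⟨0, by simp⟩
    | add x y _ _ hx hy =>
      obtain ⟨c, hc⟩ := hx
      obtain ⟨d, hd⟩ := hy
      exact ⟨c + d, by rw [mul_add, add_mul, hc, hd, add_smul]⟩
    | smul a x _ hx =>
      obtain ⟨c, hc⟩ := hx
      exact ⟨a * c, by rw [mul_smul_comm, smul_mul_assoc, hc, smul_smul]⟩
  have pivot : ∀ (Φ : Type) [Field Φ] (ι : L →+* Φ),
      ∀ z ∈ ext (ι.comp (algebraMap (ZMod p) L)) S,
        (∑ i ∈ I, ι.mapMatrix (F.e i)) * z * (∑ i ∈ I, ι.mapMatrix (F.e i)) = z →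
        ∀ c : Φ, c ≠ 0 → ι.mapMatrix (F.e i) * z * ι.mapMatrix (F.e i) = c • ι.mapMatrix (F.e i) →
          ∃ w : Φ, (z + (1 - ∑ i ∈ I, ι.mapMatrix (F.e i))).det = w ^ r := by
    intro Φ _ ι z hz hzE c hc hcz
    have gmem : ∀ k, ι.mapMatrix (F.e k) ∈ ext (ι.comp (algebraMap (ZMod p) L)) S :=
      fun k => mapMatrix_mem_ext _ ι (F.mem k)
    set e := ι.mapMatrix (F.e i) with he
    set E' := ∑ k ∈ I.erase i, ι.mapMatrix (F.e k) with hE'
    set E := ∑ k ∈ I, ι.mapMatrix (F.e k) with hE
    have hsum : E = e + E' := (Finset.add_sum_erase _ _ hi).symm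
    have hee : e * e = e := by rw [he, ← map_mul, F.idem]
    have heE : e * E' = 0 := by
      rw [hE', Finset.mul_sum]
      refine Finset.sum_eq_zero fun k hk => ?_
      rw [he, ← map_mul, F.orth _ _ (Finset.ne_of_mem_erase hk).symm, map_zero]
    have hEe : E' * e = 0 := by
      rw [hE', Finset.sum_mul]
      refine Finset.sum_eq_zero fun k hk => ?_
      rw [he, ← map_mul, F.orth _ _ (Finset.ne_of_mem_erase hk), map_zero]
    have hEE : E' * E' = E' := by
      rw [hE', Finset.sum_mul]
      refine Finset.sum_congr rfl fun k hk => ?_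
      rw [Finset.mul_sum, Finset.sum_eq_single k]
      · rw [← map_mul, F.idem]
      · intro l _ hlk
        rw [← map_mul, F.orth _ _ hlk.symm, map_zero]
      · exact fun hk' => absurd hk hk'
    have hE'mem : E' ∈ ext (ι.comp (algebraMap (ZMod p) L)) S := sum_mem fun k _ => gmem k
    have hcl := ext_closed (ι.comp (algebraMap (ZMod p) L)) h
    set y := z - c⁻¹ • (z * e * z) with hy
    set z' := E' * y * E' with hz'
    have hz'mem : z' ∈ ext (ι.comp (algebraMap (ZMod p) L)) S :=
      hcl _ hE'mem _ (sub_mem hz (Submodule.smul_mem _ _ (hcl _ hz _ (gmem i))))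
    have hz'E : E' * z' * E' = z' := by
      rw [hz', mul_assoc E' y E', ← mul_assoc E' E', hEE, mul_assoc, mul_assoc, hEE, ← mul_assoc]
    obtain ⟨w, hw⟩ := IH _ (Finset.erase_ssubset hi) Φ ι z' hz'mem hz'E
    refine ⟨c * w, ?_⟩
    have hez' : e * z' = 0 := by rw [hz', ← mul_assoc, ← mul_assoc, heE, zero_mul, zero_mul]
    have hz'e : z' * e = 0 := by rw [hz', mul_assoc, hEe, mul_zero]
    set D := c • e + z' + (1 - E) with hD
    have hDfac : D = (c • e + (1 - e)) * (z' + (1 - E')) := by
      rw [hD, hsum, mul_add, mul_sub, mul_one, add_mul, add_mul, smul_mul_assoc, smul_mul_assoc, hez',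
        heE, smul_zero, sub_mul, sub_mul, one_mul, one_mul, hez', heE]
      abel
    have hfac : z + (1 - E) = (1 + (c⁻¹ • (E' * z)) * e) * D * (1 + e * (c⁻¹ • (z * E'))) := by
      have heD : e * D = c • e := by
        rw [hD, hsum, mul_add, mul_add, mul_sub, mul_one, mul_add, mul_smul_comm, hee, hez', heE]
        abel
      have hDe : D * e = c • e := by
        rw [hD, hsum, add_mul, add_mul, sub_mul, one_mul, add_mul, smul_mul_assoc, hee, hz'e, hEe]
        abel
      have t1 : (c⁻¹ • (E' * z)) * e * D = E' * z * e := by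
        rw [mul_assoc, heD, mul_smul_comm, smul_mul_assoc, smul_smul, mul_inv_cancel₀ hc, one_smul]
      have t2 : D * (e * (c⁻¹ • (z * E'))) = e * z * E' := by
        rw [← mul_assoc, hDe, smul_mul_assoc, mul_smul_comm, smul_smul, mul_inv_cancel₀ hc, one_smul,
          mul_assoc]
      have t3 : (c⁻¹ • (E' * z)) * e * D * (e * (c⁻¹ • (z * E'))) = c⁻¹ • (E' * (z * e * z) * E') := by
        rw [t1, mul_smul_comm, mul_smul_comm]
        congr 1
        simp only [mul_assoc]
        rw [← mul_assoc e e, hee]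
      rw [add_mul (1 : Matrix n n Φ), one_mul, add_mul, mul_add, mul_one, mul_add, mul_one, t2, t3, t1,
        hD, hz', hy, mul_sub, sub_mul, mul_smul_comm, smul_mul_assoc]
      conv_lhs => rw [← hzE, hsum, add_mul, add_mul, mul_add, mul_add, hcz]
      rw [hsum]
      abel
    have hN1 : (1 + (c⁻¹ • (E' * z)) * e).det = 1 := by
      rw [det_one_add_mul_comm, mul_smul_comm, ← mul_assoc e E' z, heE, zero_mul, smul_zero, add_zero,
        det_one]
    have hN2 : (1 + e * (c⁻¹ • (z * E'))).det = 1 := by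
      rw [det_one_add_mul_comm, smul_mul_assoc, mul_assoc z E' e, hEe, mul_zero, smul_zero, add_zero,
        det_one]
    rw [hfac, det_mul, det_mul, hN1, hN2, one_mul, mul_one, hDfac, det_mul, he, F.det_scalar, hw,
      mul_pow]
  by_cases hsome : ∃ c : Φ, c ≠ 0 ∧ f i * z * f i = c • f i
  · obtain ⟨c, hc, hcz⟩ := hsome
    exact pivot Φ ι z hz hzE c hc hcz
  · obtain ⟨c, hcz⟩ := fdiag i z hz
    have hzero : f i * z * f i = 0 := by
      by_cases hc : c = 0
      · rw [hcz, hc, zero_smul]
      · exact absurd ⟨c, hc, hcz⟩ hsome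
    -- perturb at the place `i` with an indeterminate
    let jP : Φ →+* Φ[X] := Polynomial.C
    let jR : Φ →+* RatFunc Φ := (algebraMap Φ[X] (RatFunc Φ)).comp jP
    let zX : Matrix n n Φ[X] := jP.mapMatrix z + (Polynomial.X : Φ[X]) • jP.mapMatrix (f i)
    set zt := (algebraMap Φ[X] (RatFunc Φ)).mapMatrix zX with hzt
    have hzt' : zt = jR.mapMatrix z + algebraMap Φ[X] (RatFunc Φ) Polynomial.X • jR.mapMatrix (f i) := by
      refine Matrix.ext fun a b => ?_
      simp [hzt, zX, jR]
    have hcomp : ∀ k, (jR.comp ι).mapMatrix (F.e k) = jR.mapMatrix (f k) := fun k => rfl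
    have hztmem : zt ∈ ext ((jR.comp ι).comp (algebraMap (ZMod p) L)) S := by
      rw [hzt', RingHom.comp_assoc]
      exact add_mem (mapMatrix_mem_ext _ jR hz)
        (Submodule.smul_mem _ _ (mapMatrix_mem_ext _ jR (fmem i)))
    have hEi : (∑ k ∈ I, f k) * f i = f i := by
      rw [Finset.sum_mul, Finset.sum_eq_single i (fun k _ hk => forth k i hk) (fun h' => absurd hi h'),
        fidem]
    have hiE : f i * (∑ k ∈ I, f k) = f i := by
      rw [Finset.mul_sum, Finset.sum_eq_single i (fun k _ hk => forth i k hk.symm) (fun h' => absurd hi h'),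
        fidem]
    have hztE : (∑ k ∈ I, (jR.comp ι).mapMatrix (F.e k)) * zt * (∑ k ∈ I, (jR.comp ι).mapMatrix (F.e k))
        = zt := by
      simp only [hcomp, ← map_sum]
      rw [hzt', mul_add, add_mul, mul_smul_comm, smul_mul_assoc, ← map_mul, ← map_mul, ← map_mul,
        ← map_mul, hzE, hEi, hiE]
    have hc' : (algebraMap Φ[X] (RatFunc Φ)) Polynomial.X ≠ 0 :=
      (map_ne_zero_iff _ (IsFractionRing.injective Φ[X] (RatFunc Φ))).2 Polynomial.X_ne_zero
    obtain ⟨w, hw⟩ := pivot (RatFunc Φ) (jR.comp ι) zt hztmem hztE _ hc' (by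
      rw [hcomp, hzt', mul_add, add_mul, mul_smul_comm, smul_mul_assoc, ← map_mul, ← map_mul, ← map_mul,
        ← map_mul, hzero, fidem, fidem, map_zero, zero_add])
    set q : Φ[X] := (zX + (1 - ∑ k ∈ I, jP.mapMatrix (f k))).det with hq
    have hqw : algebraMap Φ[X] (RatFunc Φ) q = w ^ r := by
      rw [← hw, hq, RingHom.map_det, map_add, map_sub, map_one, map_sum]
      rfl
    have hint : IsIntegral Φ[X] w :=
      IsIntegral.of_pow (Nat.pos_of_ne_zero hr) (hqw ▸ isIntegral_algebraMap)
    obtain ⟨W, rfl⟩ := IsIntegrallyClosed.isIntegral_iff.1 hint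
    rw [← map_pow] at hqw
    have hqW := IsFractionRing.injective Φ[X] (RatFunc Φ) hqw
    refine ⟨W.eval 0, ?_⟩
    rw [← Polynomial.eval_pow, ← hqW, hq, ← Polynomial.coe_evalRingHom, RingHom.map_det]
    congr 1
    refine Matrix.ext fun a b => ?_
    simp [zX, jP, hf, Matrix.sum_apply, Polynomial.eval_finset_sum, Matrix.one_apply,
      apply_ite (Polynomial.eval (0 : Φ))]

section Main

variable {p : ℕ} [Fact p.Prime]

/-- A commutative Jordan division set is closed under products. -/
theorem mul_mem_of_commute {S : Submodule (ZMod p) (Matrix n n (ZMod p))}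
    (h1 : 1 ∈ S) (h : ∀ a ∈ S, ∀ b ∈ S, a * b * a ∈ S) (hunit : ∀ a ∈ S, a ≠ 0 → IsUnit a)
    (hcomm : ∀ a ∈ S, ∀ b ∈ S, a * b = b * a) {a b : Matrix n n (ZMod p)} (ha : a ∈ S) (hb : b ∈ S) :
    a * b ∈ S := by
  by_cases h2 : p = 2
  · subst h2
    have hsq : Function.Bijective fun x : ↥S => (⟨(x : Matrix n n (ZMod 2)) * x,
        by simpa using h _ x.2 1 h1⟩ : ↥S) := by
      refine Finite.injective_iff_bijective.1 fun x y e => ?_
      have e' : (x : Matrix n n (ZMod 2)) * x = y * y := congrArg Subtype.val e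
      by_contra hne
      have hu := hunit _ (sub_mem x.2 y.2) (fun h0 => hne (Subtype.ext (sub_eq_zero.1 h0)))
      have htwo : ∀ c : Matrix n n (ZMod 2), c + c = 0 := fun c => by
        ext i j
        exact CharTwo.add_self_eq_zero _
      have h0 : ((x : Matrix n n (ZMod 2)) - y) * ((x : Matrix n n (ZMod 2)) - y) = 0 := by
        rw [sub_mul, mul_sub, mul_sub, hcomm _ y.2 _ x.2, e']
        have := htwo ((x : Matrix n n (ZMod 2)) * y)
        have := htwo ((y : Matrix n n (ZMod 2)) * y)
        calc _ = ((y : Matrix n n (ZMod 2)) * y + y * y) - ((x : Matrix n n (ZMod 2)) * y + x * y) := by abel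
          _ = 0 := by rw [htwo, htwo, sub_zero]
      rcases subsingleton_or_nontrivial (Matrix n n (ZMod 2)) with hs | hs
      · exact hne (Subtype.ext (Subsingleton.elim _ _))
      · exact not_isUnit_zero (h0 ▸ hu.mul hu)
    obtain ⟨c, hc⟩ := hsq.2 ⟨a, ha⟩
    have hc' : (c : Matrix n n (ZMod 2)) * c = a := congrArg Subtype.val hc
    rw [← hc', mul_assoc, hcomm _ c.2 _ hb, ← mul_assoc]
    exact h _ c.2 _ hb
  · have h22 : (2 : ZMod p) ≠ 0 := by
      intro h0
      have h0' : ((2 : ℕ) : ZMod p) = 0 := by simpa using h0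
      exact h2 ((Nat.prime_dvd_prime_iff_eq (Fact.out : p.Prime) Nat.prime_two).1
        ((ZMod.natCast_eq_zero_iff 2 p).1 h0'))
    have e := polar h ha h1 hb
    rw [mul_one, mul_one, hcomm b hb a ha, ← two_smul (ZMod p) (a * b)] at e
    exact (S.smul_mem_iff h22).1 e

/-- A generator of a commutative Jordan division set. -/
theorem exists_generator {S : Submodule (ZMod p) (Matrix n n (ZMod p))}
    (h1 : 1 ∈ S) (h : ∀ a ∈ S, ∀ b ∈ S, a * b * a ∈ S) (hunit : ∀ a ∈ S, a ≠ 0 → IsUnit a)
    (hcomm : ∀ a ∈ S, ∀ b ∈ S, a * b = b * a) :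
    ∃ g ∈ S, ∀ x ∈ S, x = 0 ∨ ∃ k : ℕ, x = g ^ k := by
  classical
  rcases subsingleton_or_nontrivial (Matrix n n (ZMod p)) with hs | hs
  · exact ⟨1, h1, fun x _ => Or.inl (Subsingleton.elim _ _)⟩
  let K : Subalgebra (ZMod p) (Matrix n n (ZMod p)) :=
    S.toSubalgebra h1 fun a b ha hb => mul_mem_of_commute h1 h hunit hcomm ha hb
  let instK : CommRing ↥K :=
    { (inferInstance : Ring ↥K) with mul_comm := fun a b => Subtype.ext (hcomm _ a.2 _ b.2) }
  letI : CommRing ↥K := instK
  haveI : Nontrivial ↥K := ⟨⟨0, 1, fun e => zero_ne_one (congrArg Subtype.val e)⟩⟩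
  haveI : NoZeroDivisors ↥K := ⟨fun {a b} hab => by
    by_contra hne
    rw [not_or] at hne
    have hu := (hunit _ a.2 fun h0 => hne.1 (Subtype.ext h0)).mul (hunit _ b.2 fun h0 => hne.2 (Subtype.ext h0))
    rw [show (a : Matrix n n (ZMod p)) * b = 0 from congrArg Subtype.val hab] at hu
    exact not_isUnit_zero hu⟩
  haveI : IsDomain ↥K := NoZeroDivisors.to_isDomain _
  haveI : IsCyclic (↥K)ˣ := isCyclic_of_subgroup_isDomain (Units.coeHom ↥K) Units.val_injective
  obtain ⟨u, hu⟩ := IsCyclic.exists_generator (α := (↥K)ˣ)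
  refine ⟨(u : ↥K).1, (u : ↥K).2, fun x hx => or_iff_not_imp_left.2 fun hx0 => ?_⟩
  obtain ⟨y, hy⟩ : IsUnit (⟨x, hx⟩ : ↥K) := by
    obtain ⟨z, hz⟩ := (Finite.isField_of_domain ↥K).mul_inv_cancel
      (a := ⟨x, hx⟩) (fun h0 => hx0 (congrArg Subtype.val h0))
    exact IsUnit.of_mul_eq_one _ hz
  obtain ⟨k, hk⟩ := Submonoid.mem_powers_iff _ _ |>.1 (mem_powers_iff_mem_zpowers.2 (hu y))
  refine ⟨k, ?_⟩
  have := congrArg (fun v : (↥K)ˣ => ((v : ↥K) : Matrix n n (ZMod p))) hk
  simp only [Units.val_pow_eq_pow_val, SubmonoidClass.coe_pow] at this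
  rw [this, hy]

variable {S : Submodule (ZMod p) (Matrix n n (ZMod p))} {g : Matrix n n (ZMod p)}

/-- The minimal polynomial of an element of a Jordan division set is irreducible. -/
theorem irreducible_minpoly [Nonempty n] (h1 : 1 ∈ S) (h : ∀ a ∈ S, ∀ b ∈ S, a * b * a ∈ S)
    (hunit : ∀ a ∈ S, a ≠ 0 → IsUnit a) (hg : g ∈ S) : Irreducible (minpoly (ZMod p) g) := by
  have hint : IsIntegral (ZMod p) g := Algebra.IsIntegral.isIntegral g
  refine (minpoly.monic hint).irreducible_iff_natDegree.2 ⟨minpoly.ne_one (ZMod p) g, ?_⟩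
  intro a b ha hb hab
  by_contra hne
  rw [not_or] at hne
  have hm := minpoly.aeval (ZMod p) g
  rw [← hab, map_mul] at hm
  have key : ∀ a b : (ZMod p)[X], a.Monic → b.Monic → b.natDegree ≠ 0 → a * b = minpoly (ZMod p) g →
      aeval g a ≠ 0 := by
    intro a b ha hb hb0 hab h0
    have h1' := natDegree_le_natDegree (minpoly.min (ZMod p) g ha h0)
    rw [← hab, natDegree_mul ha.ne_zero hb.ne_zero] at h1'
    omega
  have hu := (hunit _ (aeval_mem h1 h hg a) (key a b ha hb hne.2 hab)).mul
    (hunit _ (aeval_mem h1 h hg b) (key b a hb ha hne.1 (by rw [mul_comm, hab])))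
  rw [hm] at hu
  exact not_isUnit_zero hu

/-- The eigenprojections of `g` over a splitting field form a frame. -/
theorem exists_frame [Nonempty n] (h1 : 1 ∈ S) (h : ∀ a ∈ S, ∀ b ∈ S, a * b * a ∈ S)
    (hunit : ∀ a ∈ S, a ≠ 0 → IsUnit a) (hg : g ∈ S)
    (hC : ∀ x ∈ S, x * g = g * x → ∃ q : (ZMod p)[X], x = aeval g q) :
    ∃ (L : Type) (_ : Field L) (_ : Algebra (ZMod p) L) (_ : Finite L) (κ : Type) (_ : Fintype κ) (r : ℕ),
      r ≠ 0 ∧ Fintype.card n = r * (minpoly (ZMod p) g).natDegree ∧ Nonempty (Frame p r L S κ) := by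
  classical
  set f := minpoly (ZMod p) g with hf
  have hirr : Irreducible f := irreducible_minpoly h1 h hunit hg
  haveI : Fact (Irreducible f) := ⟨hirr⟩
  let L := f.SplittingField
  haveI : Finite L := Module.finite_of_finite (ZMod p)
  set j := algebraMap (ZMod p) L with hj
  set A : Matrix n n L := j.mapMatrix g with hA
  set R : Finset L := (f.map j).roots.toFinset with hR
  have hsplit : (f.map j).Splits := Polynomial.SplittingField.splits f
  have hmonic : (f.map j).Monic := (minpoly.monic (Algebra.IsIntegral.isIntegral g)).map _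
  have hnd : (f.map j).roots.Nodup := nodup_roots ((PerfectField.separable_of_irreducible hirr).map)
  have hfR : f.map j = ∏ x ∈ R, (Polynomial.X - C x) := by
    rw [hR, Finset.prod_eq_multiset_prod, Multiset.toFinset_val, hnd.dedup]
    exact hsplit.eq_prod_roots_of_monic hmonic
  have hRcard : R.card = f.natDegree := by
    rw [hR, Multiset.toFinset_card_of_nodup hnd, hsplit.natDegree_eq_card_roots.symm, natDegree_map]
  have hmapA : ∀ q : (ZMod p)[X], aeval A (q.map j) = j.mapMatrix (aeval g q) := by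
    intro q
    rw [aeval_map_algebraMap]
    exact Polynomial.aeval_algHom_apply ((Algebra.ofId (ZMod p) L).mapMatrix) g q
  have hAq : ∀ q : L[X], aeval A q ∈ ext j S := by
    intro q
    induction q using Polynomial.induction_on' with
    | add q q' hq hq' => rw [map_add]; exact add_mem hq hq'
    | monomial k c =>
      rw [aeval_monomial, ← Algebra.smul_def, hA, ← map_pow]
      exact Submodule.smul_mem _ _ (map_mem_ext j (pow_mem h1 h hg k))
  have hzero : ∀ q : L[X], (∀ x ∈ R, q.eval x = 0) → aeval A q = 0 := by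
    intro q hq
    have hdvd : f.map j ∣ q := by
      rw [hfR]
      refine Finset.prod_dvd_of_coprime ?_ fun x hx => dvd_iff_isRoot.2 (hq x hx)
      exact (Polynomial.pairwise_coprime_X_sub_C Function.injective_id).set_pairwise _
    obtain ⟨t, rfl⟩ := hdvd
    rw [map_mul, hmapA, minpoly.aeval, map_zero, zero_mul]
  have heval : ∀ q q' : L[X], (∀ x ∈ R, q.eval x = q'.eval x) → aeval A q = aeval A q' := fun q q' hq =>
    sub_eq_zero.1 (by rw [← map_sub]; exact hzero _ fun x hx => by rw [eval_sub, hq x hx, sub_self])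
  have hRne : R.Nonempty := Finset.card_pos.1 (hRcard ▸ hirr.natDegree_pos)
  let bas : ↥R → L[X] := fun x => Lagrange.basis R id (x : L)
  have hbas : ∀ x y : ↥R, (bas x).eval (y : L) = if x = y then 1 else 0 := by
    intro x y
    split_ifs with hxy
    · subst hxy
      exact Lagrange.eval_basis_self (v := id) Function.injective_id.injOn x.2
    · exact Lagrange.eval_basis_of_ne (v := id) (fun e => hxy (Subtype.ext e)) y.2
  let e : ↥R → Matrix n n L := fun x => aeval A (bas x)
  have idem : ∀ x, e x * e x = e x := fun x => by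
    simp only [e, ← map_mul]
    exact heval _ _ fun y hy => by
      rw [eval_mul, show (bas x).eval y = _ from hbas x ⟨y, hy⟩]; split_ifs <;> simp
  have orth : ∀ x y, x ≠ y → e x * e y = 0 := fun x y hxy => by
    simp only [e, ← map_mul]
    refine hzero _ fun z hz => ?_
    rw [eval_mul, show (bas x).eval z = _ from hbas x ⟨z, hz⟩, show (bas y).eval z = _ from hbas y ⟨z, hz⟩]
    split_ifs with h1 h2 <;> simp
    exact hxy (h1.trans h2.symm)
  have sum : ∑ x, e x = 1 := by
    simp only [e, ← map_sum, bas]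
    rw [Finset.sum_coe_sort R (fun x => Lagrange.basis R id x),
      Lagrange.sum_basis Function.injective_id.injOn hRne, map_one]
  have habs : ∀ (q : L[X]) (x : ↥R), aeval A q * e x = q.eval (x : L) • e x := fun q x => by
    simp only [e, ← map_mul, ← map_smul]
    refine heval _ _ fun y hy => ?_
    rw [eval_mul, eval_smul, show (bas x).eval y = _ from hbas x ⟨y, hy⟩]
    split_ifs with hxy
    · subst hxy; simp
    · simp
  have hmem : ∀ x, e x ∈ ext j S := fun x => hAq _
  have hex : ∀ x, Commute A (e x) := fun x => by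
    rw [show A = aeval A (Polynomial.X : L[X]) from (aeval_X A).symm]
    exact (Commute.all (Polynomial.X : L[X]) (bas x)).map (aeval A)
  have diag : ∀ x, ∀ b ∈ S, ∃ c : L, e x * j.mapMatrix b * e x = c • e x := by
    intro x b hb
    set y := e x * j.mapMatrix b * e x with hy
    have hyS : y ∈ ext j S := ext_closed j h _ (hmem x) _ (map_mem_ext j hb)
    have hyA : y * A = A * y := by
      have hAe : A * e x = (x : L) • e x := by simpa using habs Polynomial.X x
      rw [hy, mul_assoc, ← (hex x).eq, ← mul_assoc A, ← mul_assoc A (e x), hAe, mul_smul_comm,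
        smul_mul_assoc, smul_mul_assoc]
    let β := Module.finBasis (ZMod p) L
    have hq : ∀ k, ∃ q : (ZMod p)[X], y.map (β.coord k) = aeval g q := by
      intro k
      refine hC _ (map_functional_mem j rfl _ hyS) ?_
      have h2 := congrArg (fun M : Matrix n n L => M.map (β.coord k)) hyA
      refine Matrix.ext fun a c => ?_
      have h3 := congrFun (congrFun h2 a) c
      have hlin : ∀ (u : L) (v : ZMod p), β.coord k (u * j v) = β.coord k u * v := fun u v => by
        rw [hj, ← Algebra.commutes, ← Algebra.smul_def, map_smul, smul_eq_mul, mul_comm]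
      have hlin' : ∀ (u : L) (v : ZMod p), β.coord k (j v * u) = v * β.coord k u := fun u v => by
        rw [mul_comm, hlin, mul_comm]
      simpa only [Matrix.mul_apply, Matrix.map_apply, map_sum, hA, RingHom.mapMatrix_apply, hlin, hlin']
        using h3
    choose q hq using hq
    have hyq : y = ∑ k, β k • j.mapMatrix (aeval g (q k)) := by
      refine Matrix.ext fun a c => ?_
      simp only [← hq, Matrix.sum_apply, Matrix.smul_apply, RingHom.mapMatrix_apply, Matrix.map_apply,
        smul_eq_mul]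
      conv_lhs => rw [← β.sum_repr (y a c)]
      refine Finset.sum_congr rfl fun k _ => ?_
      rw [Algebra.smul_def, mul_comm]
      rfl
    refine ⟨(∑ k, C (β k) * (q k).map j).eval (x : L), ?_⟩
    rw [← habs]
    have hpoly : aeval A (∑ k, C (β k) * (q k).map j) = y := by
      rw [hyq, map_sum]
      refine Finset.sum_congr rfl fun k _ => ?_
      rw [map_mul, aeval_C, hmapA, Algebra.smul_def]
    rw [hpoly, hy]
    rw [mul_assoc _ (e x) (e x), idem]
  have hdpow : ∀ x : ↥R, ∃ k : ℕ,
      ((Polynomial.X : L[X]) • (C : L →+* L[X]).mapMatrix (e x) + (1 - C.mapMatrix (e x))).det =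
        Polynomial.X ^ k := by
    intro x
    set P := (C : L →+* L[X]).mapMatrix (e x) with hP
    have hPP : P * P = P := by rw [hP, ← map_mul, idem]
    have hmulX : ((Polynomial.X : L[X]) • P + (1 - P)) * (P + (Polynomial.X : L[X]) • (1 - P)) =
        (Polynomial.X : L[X]) • (1 : Matrix n n L[X]) := by
      have hPQ : P * (1 - P) = 0 := by rw [mul_sub, mul_one, hPP, sub_self]
      have hQP : (1 - P) * P = 0 := by rw [sub_mul, one_mul, hPP, sub_self]
      have hQQ : (1 - P) * (1 - P) = 1 - P := by rw [mul_sub, mul_one, hQP, sub_zero]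
      rw [add_mul, mul_add, mul_add, smul_mul_assoc, smul_mul_assoc, mul_smul_comm, mul_smul_comm, hPP,
        hPQ, hQP, hQQ, smul_zero, smul_zero, add_zero, zero_add, ← smul_add, add_sub_cancel]
    have hd := congrArg Matrix.det hmulX
    rw [det_mul, det_smul, det_one, mul_one] at hd
    obtain ⟨k, -, hk⟩ := (dvd_prime_pow Polynomial.prime_X _).1 (Dvd.intro _ hd)
    obtain ⟨u, hu⟩ := hk
    refine ⟨k, ?_⟩
    obtain ⟨c, hc, hcu⟩ := Polynomial.isUnit_iff.1 u.isUnit
    have he1 := congrArg (Polynomial.evalRingHom (1 : L)) hu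
    rw [map_mul, RingHom.map_det, map_pow, ← hcu] at he1
    rw [show (Polynomial.evalRingHom (1 : L)).mapMatrix ((Polynomial.X : L[X]) • P + (1 - P)) = 1 by
      refine Matrix.ext fun a b => ?_
      simp [hP, Matrix.one_apply, apply_ite (Polynomial.eval (1 : L))]] at he1
    simp at he1
    rwa [← hcu, he1, map_one, mul_one] at hu
  choose k hk using hdpow
  have hconj : ∀ x y : ↥R, k x = k y := by
    intro x y
    have hroot : ∀ z : ↥R, (f.map j).IsRoot (z : L) := fun z => by
      have hz : (z : L) ∈ (f.map j).roots.toFinset := z.2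
      rw [Multiset.mem_toFinset] at hz
      exact (mem_roots hmonic.ne_zero).1 hz
    have hminx : ∀ z : ↥R, minpoly (ZMod p) (z : L) = f := fun z =>
      (minpoly.eq_of_irreducible_of_monic hirr (by
        rw [← eval_map_algebraMap]; exact hroot z) (minpoly.monic (Algebra.IsIntegral.isIntegral g))).symm
    haveI : Normal (ZMod p) L := Polynomial.SplittingField.instNormal f
    obtain ⟨σ, hσ⟩ := MulAction.mem_orbit_iff.1
      ((Normal.minpoly_eq_iff_mem_orbit (x := (y : L)) (y := (x : L))).1 ((hminx y).trans (hminx x).symm))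
    have hσA : (σ : L →+* L).mapMatrix A = A := by
      refine Matrix.ext fun a b => ?_
      simp [hA, hj]
    have hσR : ∀ z : L, z ∈ R → σ.symm z ∈ R := fun z hz => by
      rw [hR, Multiset.mem_toFinset, mem_roots hmonic.ne_zero] at hz ⊢
      rw [IsRoot, eval_map_algebraMap] at hz ⊢
      show aeval ((σ.symm : L →ₐ[ZMod p] L) z) f = 0
      rw [Polynomial.aeval_algHom_apply, hz, map_zero]
    have hσe : (σ : L →+* L).mapMatrix (e x) = e y := by
      have hq : (σ : L →+* L).mapMatrix (e x) = aeval A ((bas x).map (σ : L →+* L)) := by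
        have e0 := Polynomial.map_aeval_eq_aeval_map (φ := (σ : L →+* L))
          (ψ := (σ : L →+* L).mapMatrix) (by
            refine RingHom.ext fun c => Matrix.ext fun a b => ?_
            simp [Matrix.algebraMap_matrix_apply, apply_ite σ]) (bas x) A
        rw [hσA] at e0
        exact e0
      rw [hq]
      refine heval _ _ fun z hz => ?_
      obtain ⟨z', rfl⟩ : ∃ z', σ z' = z := ⟨σ.symm z, σ.apply_symm_apply z⟩
      have hz' : z' ∈ R := by simpa using hσR _ hz
      rw [eval_map, show σ z' = (σ : L →+* L) z' from rfl, eval₂_hom,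
        show (bas x).eval z' = _ from hbas x ⟨z', hz'⟩,
        show (bas y).eval ((σ : L →+* L) z') = _ from hbas y ⟨σ z', hz⟩]
      by_cases hxz : x = ⟨z', hz'⟩
      · subst hxz
        rw [if_pos rfl, if_pos (Subtype.ext ?_), map_one]
        simpa using hσ.symm
      · rw [if_neg hxz, if_neg, map_zero]
        intro hyz
        refine hxz (Subtype.ext ?_)
        have e1 : (y : L) = σ z' := congrArg Subtype.val hyz
        have e2 : σ (x : L) = (y : L) := by simpa using hσ
        exact σ.injective (e2.trans e1)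
    have e1 := congrArg (Polynomial.mapRingHom (σ : L →+* L)) (hk x)
    rw [RingHom.map_det, map_pow] at e1
    rw [show (Polynomial.mapRingHom (σ : L →+* L)).mapMatrix ((Polynomial.X : L[X]) • C.mapMatrix (e x) +
        (1 - C.mapMatrix (e x))) = (Polynomial.X : L[X]) • C.mapMatrix (e y) + (1 - C.mapMatrix (e y)) by
      rw [← hσe]
      refine Matrix.ext fun a b => ?_
      simp [Matrix.one_apply, apply_ite (Polynomial.map (σ : L →+* L))], hk y,
      Polynomial.coe_mapRingHom, Polynomial.map_X] at e1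
    have := congrArg Polynomial.natDegree e1
    simp at this
    exact this.symm
  obtain ⟨x₀⟩ : Nonempty ↥R := hRne.to_subtype
  have hprod : ∀ I : Finset ↥R, ((Polynomial.X : L[X]) • (C : L →+* L[X]).mapMatrix (∑ x ∈ I, e x) +
      (1 - C.mapMatrix (∑ x ∈ I, e x))).det = Polynomial.X ^ (I.card * k x₀) := by
    intro I
    induction I using Finset.induction_on with
    | empty => simp
    | @insert x I hx ih =>
      rw [Finset.sum_insert hx, Finset.card_insert_of_notMem hx, Nat.succ_mul, pow_add, mul_comm,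
        ← ih, ← hconj x x₀, ← hk x, ← det_mul]
      have h0 : (C : L →+* L[X]).mapMatrix (e x) * C.mapMatrix (∑ z ∈ I, e z) = 0 := by
        rw [← map_mul, Finset.mul_sum, Finset.sum_eq_zero (fun z hz => orth x z (fun e => hx (e ▸ hz))),
          map_zero]
      congr 1
      rw [map_add]
      simp only [add_mul, mul_add, smul_mul_assoc, mul_smul_comm, sub_mul, mul_sub, one_mul, mul_one, h0,
        smul_zero, smul_add]
      abel
  have htot := hprod Finset.univ
  rw [sum, map_one, sub_self, add_zero, det_smul, det_one, mul_one, Finset.card_univ, Fintype.card_coe,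
    hRcard] at htot
  have hn : Fintype.card n = f.natDegree * k x₀ := by
    have := congrArg Polynomial.natDegree htot
    simpa using this
  refine ⟨L, inferInstance, inferInstance, inferInstance, ↥R, inferInstance, k x₀, ?_,
    by rw [hn, mul_comm], ⟨⟨e, hmem, idem, orth, sum, diag, fun x => by rw [hk x, hconj x x₀]⟩⟩⟩
  intro h0
  rw [h0, mul_zero] at hn
  exact Fintype.card_ne_zero hn

theorem totalDegree_det_le {σ R : Type*} [CommRing R] (M : Matrix n n (MvPolynomial σ R))
    (hM : ∀ a b, (M a b).totalDegree ≤ 1) : M.det.totalDegree ≤ Fintype.card n := by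
  rw [det_apply]
  refine MvPolynomial.totalDegree_finsetSum_le fun π _ => ?_
  refine le_trans ?_ ((MvPolynomial.totalDegree_finset_prod _ _).trans
    ((Finset.sum_le_sum fun a (_ : a ∈ Finset.univ) => hM (π a) a).trans_eq (by simp)))
  rcases Int.units_eq_one_or (Equiv.Perm.sign π) with hs | hs <;> simp [hs]

/-- **Albert.** Finite Jordan division sets of matrices are commutative. -/
theorem commute_of_triple_closed (S : Submodule (ZMod p) (Matrix n n (ZMod p))) (h1 : 1 ∈ S)
    (h : ∀ a ∈ S, ∀ b ∈ S, a * b * a ∈ S) (hunit : ∀ a ∈ S, a ≠ 0 → IsUnit a) :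
    ∀ a ∈ S, ∀ b ∈ S, a * b = b * a := by
  classical
  induction hd : Module.finrank (ZMod p) ↥S using Nat.strong_induction_on generalizing S with
  | _ d IH =>
  intro a ha b hb
  by_contra hab
  rcases isEmpty_or_nonempty n with hn | hn
  · exact hab (Subsingleton.elim _ _)
  set C₀ := S ⊓ (Subalgebra.centralizer (ZMod p) {a}).toSubmodule with hC₀
  have hmemC : ∀ x, x ∈ C₀ ↔ x ∈ S ∧ a * x = x * a := fun x => by
    simp [hC₀, Subalgebra.mem_centralizer_iff]
  have hlt : C₀ < S := lt_of_le_of_ne inf_le_left fun e => hab ((hmemC b).1 (e.symm ▸ hb)).2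
  have h1C : 1 ∈ C₀ := (hmemC 1).2 ⟨h1, by simp⟩
  have hC : ∀ x ∈ C₀, ∀ y ∈ C₀, x * y * x ∈ C₀ := by
    intro x hx y hy
    obtain ⟨hxS, hxa⟩ := (hmemC x).1 hx
    obtain ⟨hyS, hya⟩ := (hmemC y).1 hy
    exact (hmemC _).2 ⟨h x hxS y hyS, ((Commute.mul_right hxa hya).mul_right hxa).eq⟩
  have hcomm := IH _ (hd ▸ Submodule.finrank_lt_finrank_of_lt hlt) C₀ h1C hC
    (fun x hx => hunit x ((hmemC x).1 hx).1) rfl
  obtain ⟨g, hgC, hgen⟩ := exists_generator h1C hC (fun x hx => hunit x ((hmemC x).1 hx).1) hcomm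
  have ha0 : a ≠ 0 := fun e => hab (by simp [e])
  obtain ⟨k, hk⟩ := (hgen a ((hmemC a).2 ⟨ha, rfl⟩)).resolve_left ha0
  have hgS := ((hmemC g).1 hgC).1
  have hcent : ∀ x ∈ S, x * g = g * x → ∃ q : (ZMod p)[X], x = aeval g q := by
    intro x hx hxg
    have hxC : x ∈ C₀ := (hmemC x).2 ⟨hx, by rw [hk]; exact (Commute.pow_right hxg k).symm.eq⟩
    rcases hgen x hxC with rfl | ⟨i, rfl⟩
    · exact ⟨0, by simp⟩
    · exact ⟨Polynomial.X ^ i, by simp⟩
  obtain ⟨L, _, _, _, κ, _, r, hr, hcard, ⟨F⟩⟩ := exists_frame h1 h hunit hgS hcent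
  set m := (minpoly (ZMod p) g).natDegree with hm
  have hmd : m < d := by
    refine lt_of_le_of_lt ?_ (hd ▸ Submodule.finrank_lt_finrank_of_lt hlt)
    let v : Fin m → ↥C₀ := fun i => ⟨g ^ (i : ℕ), pow_mem h1C hC hgC i⟩
    have hv : LinearIndependent (ZMod p) v :=
      LinearIndependent.of_comp C₀.subtype (linearIndependent_pow g)
    simpa using hv.fintype_card_le_finrank
  let β : Module.Basis (Fin d) (ZMod p) ↥S := (Module.finBasisOfFinrankEq _ _ hd)
  let P₀ := MvPolynomial (Fin d) (ZMod p)
  let P := MvPolynomial (Fin d) L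
  let Z₀ : Matrix n n P₀ :=
    ∑ i, (MvPolynomial.X i : P₀) • (MvPolynomial.C : ZMod p →+* P₀).mapMatrix (β i : Matrix n n (ZMod p))
  set D₀ := Z₀.det with hD₀
  have hdeg : D₀.totalDegree ≤ Fintype.card n := by
    refine totalDegree_det_le _ fun a b => ?_
    simp only [Z₀, Matrix.sum_apply, Matrix.smul_apply, RingHom.mapMatrix_apply, Matrix.map_apply, smul_eq_mul]
    refine MvPolynomial.totalDegree_finsetSum_le fun i _ => ?_
    exact (MvPolynomial.totalDegree_mul _ _).trans (by simp [MvPolynomial.totalDegree_X])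
  let Φ := FractionRing P
  let ι : L →+* Φ := (algebraMap P Φ).comp MvPolynomial.C
  let μ : P₀ →+* P := MvPolynomial.map (algebraMap (ZMod p) L)
  set zP := μ.mapMatrix Z₀ with hzP
  set z : Matrix n n Φ := (algebraMap P Φ).mapMatrix zP with hz
  have hzmem : z ∈ ext (ι.comp (algebraMap (ZMod p) L)) S := by
    have e1 : z = ∑ i, algebraMap P Φ (MvPolynomial.X i) •
        (ι.comp (algebraMap (ZMod p) L)).mapMatrix (β i : Matrix n n (ZMod p)) := by
      refine Matrix.ext fun a b => ?_
      simp only [hz, hzP, Z₀, RingHom.mapMatrix_apply, Matrix.map_apply, Matrix.sum_apply, Matrix.smul_apply,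
        smul_eq_mul, map_sum, map_mul, RingHom.comp_apply, μ, ι]
      refine Finset.sum_congr rfl fun i _ => ?_
      erw [MvPolynomial.map_X, MvPolynomial.map_C]
    rw [e1]
    exact sum_mem fun i _ => Submodule.smul_mem _ _ (map_mem_ext _ (β i).2)
  have hone : ∑ i, ι.mapMatrix (F.e i) = 1 := by rw [← map_sum, F.sum, map_one]
  obtain ⟨w, hw⟩ := F.det_eq_pow hr h h1 Finset.univ Φ ι z hzmem (by rw [hone, one_mul, mul_one])
  rw [hone, sub_self, add_zero, hz, ← RingHom.map_det, hzP, ← RingHom.map_det, ← hD₀] at hw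
  obtain ⟨W, rfl⟩ := IsIntegrallyClosed.isIntegral_iff.1
    (IsIntegral.of_pow (R := P) (Nat.pos_of_ne_zero hr) (hw ▸ isIntegral_algebraMap))
  rw [← map_pow] at hw
  have hW : μ D₀ = W ^ r := IsFractionRing.injective P Φ hw
  -- evaluation at rational points
  have heval : ∀ x : Fin d → ZMod p, MvPolynomial.eval x D₀ = (∑ i, x i • (β i : Matrix n n (ZMod p))).det := by
    intro x
    rw [hD₀, RingHom.map_det]
    congr 1
    refine Matrix.ext fun a b => ?_
    simp [Z₀, Matrix.sum_apply]
  have hevL : ∀ (x : Fin d → ZMod p) (q : P₀),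
      MvPolynomial.eval (fun i => algebraMap (ZMod p) L (x i)) (μ q) = algebraMap (ZMod p) L (MvPolynomial.eval x q) := by
    intro x q
    rw [show μ q = MvPolynomial.map (algebraMap (ZMod p) L) q from rfl, MvPolynomial.eval_map]
    exact (MvPolynomial.eval₂_comp (algebraMap (ZMod p) L) x q).symm
  let x₁ : Fin d → ZMod p := fun i => β.repr ⟨1, h1⟩ i
  let t₁ : Fin d → L := fun i => algebraMap (ZMod p) L (x₁ i)
  have hx₁ : MvPolynomial.eval x₁ D₀ = 1 := by
    rw [heval]
    have := congrArg Subtype.val (β.sum_repr ⟨1, h1⟩)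
    simp only [AddSubmonoidClass.coe_finsetSum, Submodule.coe_smul] at this
    rw [this, det_one]
  set c := MvPolynomial.eval t₁ W with hc
  have hcr : c ^ r = 1 := by
    rw [hc, ← map_pow, ← hW, hevL, hx₁, map_one]
  have hc0 : c ≠ 0 := fun e => by rw [e, zero_pow hr] at hcr; exact zero_ne_one hcr
  set W₁ : P := MvPolynomial.C c⁻¹ * W with hW₁
  have hW₁r : W₁ ^ r = μ D₀ := by
    rw [hW₁, mul_pow, ← map_pow, inv_pow, hcr, inv_one, map_one, one_mul, hW]
  have hW₁t : MvPolynomial.eval t₁ W₁ = 1 := by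
    rw [hW₁, map_mul, MvPolynomial.eval_C, ← hc, inv_mul_cancel₀ hc0]
  haveI : CharP L p := charP_of_injective_algebraMap (algebraMap (ZMod p) L).injective p
  haveI : ExpChar L p := ExpChar.prime Fact.out
  set φ : L →+* L := frobenius L p with hφ
  have hfix : φ.comp (algebraMap (ZMod p) L) = algebraMap (ZMod p) L := Subsingleton.elim _ _
  set W₂ := MvPolynomial.map φ W₁ with hW₂
  have hW₂r : W₂ ^ r = W₁ ^ r := by
    rw [hW₂, ← map_pow, hW₁r, show μ D₀ = MvPolynomial.map (algebraMap (ZMod p) L) D₀ from rfl,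
      MvPolynomial.map_map, hfix]
  have hassoc : Associated W₁ W₂ := associated_of_dvd_dvd
    ((IsIntegrallyClosed.pow_dvd_pow_iff hr).1 hW₂r.symm.dvd) ((IsIntegrallyClosed.pow_dvd_pow_iff hr).1 hW₂r.dvd)
  obtain ⟨u, hu⟩ := hassoc
  obtain ⟨s, hs, hsu⟩ := MvPolynomial.isUnit_iff_eq_C_of_isReduced.1 u.isUnit
  have hW₂t : MvPolynomial.eval t₁ W₂ = 1 := by
    rw [hW₂, MvPolynomial.eval_map, show t₁ = φ ∘ t₁ from funext fun i => (RingHom.congr_fun hfix (x₁ i)).symm,
      ← MvPolynomial.eval₂_comp, hW₁t, map_one]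
  rw [hsu] at hu
  have hs1 : s = 1 := by
    rw [← hu, map_mul, hW₁t, one_mul, MvPolynomial.eval_C] at hW₂t
    exact hW₂t
  rw [hs1, map_one, mul_one] at hu
  have hrange : W₁ ∈ Set.range (MvPolynomial.map (σ := Fin d) (algebraMap (ZMod p) L)) := by
    rw [MvPolynomial.mem_range_map_iff_coeffs_subset]
    intro a ha
    obtain ⟨e, -, rfl⟩ := MvPolynomial.mem_coeffs_iff.1 ha
    have hfp : (MvPolynomial.coeff e W₁) ^ p = MvPolynomial.coeff e W₁ := by
      have := congrArg (MvPolynomial.coeff e) hu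
      rw [hW₂, MvPolynomial.coeff_map] at this
      exact this.symm
    have hb := (Subfield.mem_bot_iff_pow_eq_self (F := L) (p := p)).2 hfp
    rw [Subfield.bot_eq_of_zMod_algebra (K := L) p] at hb
    exact hb
  obtain ⟨W₀, hW₀⟩ := hrange
  have hW₀r : W₀ ^ r = D₀ := MvPolynomial.map_injective (algebraMap (ZMod p) L)
    (algebraMap (ZMod p) L).injective (by rw [map_pow, hW₀]; exact hW₁r)
  have hdegW : W₀.totalDegree < Fintype.card (Fin d) := by
    rw [Fintype.card_fin]
    refine lt_of_le_of_lt ?_ hmd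
    have hne : W₀ ≠ 0 := fun e => by
      have := hx₁; rw [← hW₀r, e, zero_pow hr, map_zero] at this; exact zero_ne_one this
    have hpow : ∀ i : ℕ, (W₀ ^ i).totalDegree = i * W₀.totalDegree := by
      intro i
      induction i with
      | zero => simp
      | succ i ih =>
        rw [pow_succ, MvPolynomial.totalDegree_mul_of_isDomain (pow_ne_zero i hne) hne, ih]; ring
    have := hdeg
    rw [← hW₀r, hpow, hcard] at this
    exact Nat.le_of_mul_le_mul_left this (Nat.pos_of_ne_zero hr)
  have h00 : MvPolynomial.eval (0 : Fin d → ZMod p) W₀ = 0 := by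
    refine pow_eq_zero_iff hr |>.1 ?_
    rw [← map_pow, hW₀r, heval]
    simp [Matrix.det_zero]
  have hdvd := char_dvd_card_solutions p (f := W₀) hdegW
  have htwo : 1 < Fintype.card {x : Fin d → ZMod p // MvPolynomial.eval x W₀ = 0} :=
    (Fact.out : p.Prime).one_lt.trans_le (Nat.le_of_dvd (Fintype.card_pos_iff.2 ⟨⟨0, h00⟩⟩) hdvd)
  obtain ⟨⟨x, hx⟩, hxne⟩ := Fintype.exists_ne_of_one_lt_card htwo ⟨0, h00⟩
  have hsumne : (∑ i, x i • β i) ≠ 0 := fun e => hxne (Subtype.ext (funext fun i =>
    Fintype.linearIndependent_iff.1 β.linearIndependent x e i))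
  set B : Matrix n n (ZMod p) := ∑ i, x i • (β i : Matrix n n (ZMod p)) with hB
  have hBeq : ((∑ i, x i • β i : ↥S) : Matrix n n (ZMod p)) = B := by simp [hB]
  have hBu := hunit B (hBeq ▸ (∑ i, x i • β i : ↥S).2) (fun e => hsumne (Subtype.ext (hBeq.trans e)))
  rw [Matrix.isUnit_iff_isUnit_det, hB, ← heval, ← hW₀r, map_pow, hx, zero_pow hr] at hBu
  exact not_isUnit_zero hBu

end Main

end Cfsg.Lib.Linear.JordanDivision
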