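import Mathlib

/-! Numerical bounds on orders. -/

set_option autoImplicit false

namespace Cfsg.Lib.OrderBound

/-- The two bounds follow from a power of `q` dividing the order and a power bounding it. -/
theorem bound {p f q c N d : ℕ} (hp : p.Prime) (hq : q = p ^ f) (hc : 0 < c) (hdvd : q ^ N ∣ c) (hlt : c < q ^ d)
    (h3 : d ≤ 3 * N) (h8 : 3 * d ≤ 8 * N) :
    c < p ^ (3 * c.factorization p) ∧ c ^ 3 < p ^ (8 * c.factorization p) := by
  subst hq
  rw [← pow_mul] at hdvd hlt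
  have hv : f * N ≤ c.factorization p := (hp.pow_dvd_iff_le_factorization hc.ne').1 hdvd
  have hp1 : 1 ≤ p := hp.one_le
  refine ⟨hlt.trans_le (Nat.pow_le_pow_right hp1 ?_), ?_⟩
  · nlinarith
  · refine (Nat.pow_lt_pow_left hlt (by norm_num)).trans_le ?_
    rw [← pow_mul]
    refine Nat.pow_le_pow_right hp1 ?_
    nlinarith

theorem pm_lt {q a b : ℕ} (hq : 2 ≤ q) (hb : b ≤ a) : (q ^ a + 1) * (q ^ b - 1) < q ^ (a + b) := by
  have h1 : q ^ b ≤ q ^ a := Nat.pow_le_pow_right (by omega) hb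
  obtain ⟨B, hB⟩ : ∃ B, q ^ b = B + 1 := ⟨q ^ b - 1, by have := Nat.one_le_pow b q (by omega); omega⟩
  rw [pow_add, hB, Nat.add_sub_cancel]
  nlinarith

theorem sub_one_lt (q a : ℕ) (hq : 1 ≤ q) : q ^ a - 1 < q ^ a := Nat.sub_lt (pow_pos hq a) one_pos

theorem prod_sub_one_le (q : ℕ) (e : ℕ → ℕ) (m : ℕ) :
    ∏ i ∈ Finset.range m, (q ^ e i - 1) ≤ q ^ (∑ i ∈ Finset.range m, e i) := by
  rw [← Finset.prod_pow_eq_pow_sum]
  exact Finset.prod_le_prod' fun i _ => Nat.sub_le _ _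

theorem sum_even (m : ℕ) : ∑ i ∈ Finset.range m, 2 * (i + 1) = m * (m + 1) := by
  induction m with
  | zero => rfl
  | succ m ih => rw [Finset.sum_range_succ, ih]; ring

theorem coprime_sub_one {p f q : ℕ} (hp : p.Prime) (hq : q = p ^ f) (hf : 1 ≤ f) (N : ℕ) :
    Nat.Coprime (q ^ N) (q - 1) := by
  refine Nat.Coprime.pow_left N ?_
  have h1 : 1 ≤ q := hq ▸ Nat.one_le_pow _ _ hp.pos
  exact ((Nat.coprime_self_sub_right (m := 1) h1).2 (Nat.coprime_one_right q))

theorem coprime_add_one (q N : ℕ) : Nat.Coprime (q ^ N) (q + 1) :=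
  Nat.Coprime.pow_left N (by simp)

/-- `SU_n` without its factor `q + 1`: the product over `2 ≤ i ≤ n`. -/
theorem unitary_prod {q : ℕ} (hq : 2 ≤ q) : ∀ k : ℕ,
    (∏ i ∈ Finset.range k, (if Even (i + 1) then q ^ (i + 2) + 1 else q ^ (i + 2) - 1)) ≤
        q ^ (∑ i ∈ Finset.range k, (i + 2)) ∧
      (1 ≤ k → (∏ i ∈ Finset.range k, (if Even (i + 1) then q ^ (i + 2) + 1 else q ^ (i + 2) - 1)) <
        q ^ (∑ i ∈ Finset.range k, (i + 2))) := by
  intro k
  induction k using Nat.strong_induction_on with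
  | _ k ih =>
    rcases k with _ | k
    · exact ⟨by simp, fun h => absurd h (by omega)⟩
    suffices h : (∏ i ∈ Finset.range (k + 1), (if Even (i + 1) then q ^ (i + 2) + 1 else q ^ (i + 2) - 1)) <
        q ^ (∑ i ∈ Finset.range (k + 1), (i + 2)) from ⟨h.le, fun _ => h⟩
    by_cases he : Even (k + 1)
    · obtain ⟨j, rfl⟩ : ∃ j, k = j + 1 := ⟨k - 1, by rcases he with ⟨r, hr⟩; omega⟩
      have ho : ¬ Even (j + 1) := fun h => by rw [Nat.even_add_one] at he; exact he h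
      rw [Finset.prod_range_succ, Finset.sum_range_succ, Finset.prod_range_succ, Finset.sum_range_succ, if_pos he,
        if_neg ho, mul_assoc, add_assoc (∑ i ∈ Finset.range j, (i + 2)), pow_add q (∑ i ∈ Finset.range j, (i + 2))]
      refine Nat.mul_lt_mul_of_le_of_lt (ih j (by omega)).1 ?_ (pow_pos (by omega) _)
      have h := pm_lt hq (show j + 2 ≤ j + 1 + 2 by omega)
      rw [add_comm (j + 2) (j + 1 + 2), mul_comm]
      exact h
    · rw [Finset.prod_range_succ, Finset.sum_range_succ, if_neg he, pow_add q (∑ i ∈ Finset.range k, (i + 2))]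
      exact Nat.mul_lt_mul_of_le_of_lt (ih k (by omega)).1 (sub_one_lt q _ (by omega)) (pow_pos (by omega) _)

/-- The order bound data. -/
theorem psl_data {p f q n : ℕ} {c : ℕ} (hp : p.Prime) (hq : q = p ^ f) (hf : 1 ≤ f) (hn : 2 ≤ n)
    (hc : Nat.gcd n (q - 1) * ((q - 1) * c) = ∏ i : Fin n, (q ^ n - q ^ (i : ℕ))) :
    q ^ (n * (n - 1) / 2) ∣ c ∧ c < q ^ (n * n - 1) := by
  have hq2 : 2 ≤ q := hq ▸ le_trans hp.two_le (Nat.le_self_pow (by omega) p)
  rw [Fin.prod_univ_eq_prod_range (fun i => q ^ n - q ^ i) n] at hc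
  constructor
  · have h : q ^ (n * (n - 1) / 2) ∣ ∏ i ∈ Finset.range n, (q ^ n - q ^ i) := by
      rw [← Finset.sum_range_id, ← Finset.prod_pow_eq_pow_sum]
      exact Finset.prod_dvd_prod_of_dvd _ _ fun i hi =>
        Nat.dvd_sub (pow_dvd_pow q (Finset.mem_range.1 hi).le) dvd_rfl
    rw [← hc] at h
    have hcop := coprime_sub_one hp hq hf (n * (n - 1) / 2)
    exact hcop.dvd_of_dvd_mul_left ((hcop.coprime_dvd_right (Nat.gcd_dvd_right _ _)).dvd_of_dvd_mul_left h)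
  · obtain ⟨m, rfl⟩ : ∃ m, n = m + 1 := ⟨n - 1, by omega⟩
    have hg : 0 < Nat.gcd (m + 1) (q - 1) := Nat.gcd_pos_of_pos_left _ (by omega)
    have hlast : q ^ (m + 1) - q ^ m = (q - 1) * q ^ m := by rw [Nat.sub_mul, one_mul, ← pow_succ']
    have hlt : ∏ i ∈ Finset.range m, (q ^ (m + 1) - q ^ i) < q ^ ((m + 1) * m) := by
      rw [pow_mul, show (q ^ (m + 1)) ^ m = ∏ i ∈ Finset.range m, q ^ (m + 1) by simp]
      refine Finset.prod_lt_prod_of_nonempty (fun i hi => ?_) (fun i _ => ?_) ⟨0, Finset.mem_range.2 (by omega)⟩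
      · exact Nat.sub_pos_of_lt (Nat.pow_lt_pow_right (by omega) (by have := Finset.mem_range.1 hi; omega))
      · exact Nat.sub_lt (pow_pos (by omega) _) (pow_pos (by omega) _)
    have h1 : (q - 1) * c ≤ (q - 1) * (q ^ m * ∏ i ∈ Finset.range m, (q ^ (m + 1) - q ^ i)) := by
      refine le_trans (Nat.le_mul_of_pos_left _ hg) (le_of_eq ?_)
      rw [hc, Finset.prod_range_succ, hlast]; ring
    have h2 := Nat.le_of_mul_le_mul_left h1 (by omega)
    refine lt_of_le_of_lt h2 ?_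
    rw [show (m + 1) * (m + 1) - 1 = m + (m + 1) * m by
      rw [show (m + 1) * (m + 1) = m + (m + 1) * m + 1 by ring, Nat.add_sub_cancel], pow_add q m ((m + 1) * m)]
    exact Nat.mul_lt_mul_of_pos_left hlt (pow_pos (by omega) _)

theorem psu_data {q n c : ℕ} (hq2 : 2 ≤ q) (hn : 3 ≤ n)
    (hc : Nat.gcd n (q + 1) * ((q + 1) * c) =
      q ^ (n * (n - 1) / 2) * ∏ i ∈ Finset.range n, (if Even i then q ^ (i + 1) + 1 else q ^ (i + 1) - 1)) :
    q ^ (n * (n - 1) / 2) ∣ c ∧ c < q ^ (n * n - 1) := by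
  obtain ⟨m, rfl⟩ : ∃ m, n = m + 1 := ⟨n - 1, by omega⟩
  rw [Finset.prod_range_succ', if_pos (Even.zero), zero_add, pow_one] at hc
  constructor
  · have hcop := coprime_add_one q ((m + 1) * (m + 1 - 1) / 2)
    have h : q ^ ((m + 1) * (m + 1 - 1) / 2) ∣ Nat.gcd (m + 1) (q + 1) * ((q + 1) * c) := hc ▸ dvd_mul_right _ _
    exact hcop.dvd_of_dvd_mul_left ((hcop.coprime_dvd_right (Nat.gcd_dvd_right _ _)).dvd_of_dvd_mul_left h)
  · have hg : 0 < Nat.gcd (m + 1) (q + 1) := Nat.gcd_pos_of_pos_left _ (by omega)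
    set P := ∏ i ∈ Finset.range m, (if Even (i + 1) then q ^ (i + 1 + 1) + 1 else q ^ (i + 1 + 1) - 1) with hP
    have h1 : (q + 1) * c ≤ (q + 1) * (q ^ ((m + 1) * (m + 1 - 1) / 2) * P) := by
      refine le_trans (Nat.le_mul_of_pos_left _ hg) (le_of_eq ?_)
      rw [hc]; ring
    refine lt_of_le_of_lt (Nat.le_of_mul_le_mul_left h1 (by omega)) ?_
    have hs : (m + 1) * (m + 1 - 1) / 2 + ∑ i ∈ Finset.range m, (i + 2) = (m + 1) * (m + 1) - 1 := by
      have e1 := Finset.sum_range_id_mul_two m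
      have e2 := Finset.sum_range_id_mul_two (m + 1)
      have e3 := Finset.sum_range_id (m + 1)
      rw [Finset.sum_add_distrib, Finset.sum_const, Finset.card_range, smul_eq_mul, ← e3]
      rcases m with _ | m
      · simp
      simp only [Nat.add_sub_cancel] at e1 e2
      have : (m + 1 + 1) * (m + 1 + 1) = 4 + 4 * m + m * m := by ring
      have : (m + 1) * m = m * m + m := by ring
      have : (m + 1 + 1) * (m + 1) = m * m + 3 * m + 2 := by ring
      omega
    rw [← hs, pow_add q ((m + 1) * (m + 1 - 1) / 2)]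
    exact Nat.mul_lt_mul_of_pos_left ((unitary_prod hq2 m).2 (by omega)) (pow_pos (by omega) _)

end Cfsg.Lib.OrderBound
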