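import Cfsg.Agent.Lib.Linear.AutPSL.Stab

/-!
# Orbits of a group of transvections with common centre on the cosets of a subgroup of small index

If a subgroup of `SL_n(q)` of index less than the number of points contains no full group of transvections
with a common centre, then the transvections with centre `v` either meet it trivially, the index being
`q ^ (n - 1)`, or meet it in a hyperplane, the index being `(q ^ n - q) / (q - 1)`.
-/

set_option autoImplicit false

namespace Cfsg.Lib.Linear.MinIndex

open Matrix MulAction Cfsg.Lib.Linear Cfsg.Lib.Linear.TVec Cfsg.Lib.Linear.AutPSL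
open scoped MatrixGroups

variable {ι : Type} [Fintype ι] [DecidableEq ι] {F : Type*} [Field F]

open scoped Classical in
/-- The transvection with centre `v` and axis `a`, or `1`. -/
noncomputable def tau (v a : ι → F) : SpecialLinearGroup ι F :=
  if h : a ⬝ᵥ v = 0 then tvS v a h else 1

theorem tau_val {v a : ι → F} (h : a ⬝ᵥ v = 0) : (tau v a).1 = tvMat v a := by
  classical
  rw [tau, dif_pos h]; rfl

theorem tau_zero (v : ι → F) : tau v 0 = 1 :=
  Subtype.ext (by rw [tau_val (zero_dotProduct v), tvMat_zero_right]; rfl)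

theorem tau_add {v a b : ι → F} (ha : a ⬝ᵥ v = 0) (hb : b ⬝ᵥ v = 0) : tau v (a + b) = tau v a * tau v b :=
  Subtype.ext (by
    show _ = (tau v a).1 * (tau v b).1
    rw [tau_val ha, tau_val hb, tau_val (by rw [add_dotProduct, ha, hb, add_zero]),
      tvMat_mul_right v a b ha])

theorem tau_mem_Tc {v a : ι → F} (h : a ⬝ᵥ v = 0) : tau v a ∈ Tc v := ⟨a, h, tau_val h⟩

theorem tau_injective {v a b : ι → F} (hv : v ≠ 0) (ha : a ⬝ᵥ v = 0) (hb : b ⬝ᵥ v = 0)
    (h : tau v a = tau v b) : a = b := by
  have h1 := congrArg Subtype.val h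
  rw [tau_val ha, tau_val hb, tvMat, tvMat, add_right_inj] at h1
  obtain ⟨i, hi⟩ := Function.ne_iff.1 hv
  funext j
  have h2 := congrFun (congrFun h1 i) j
  rw [vecMulVec_apply, vecMulVec_apply] at h2
  exact mul_left_cancel₀ hi h2

theorem mul_inv_val (g : SpecialLinearGroup ι F) : g.1 * (g⁻¹).1 = 1 :=
  congrArg Subtype.val (mul_inv_cancel g)

theorem inv_mul_val (g : SpecialLinearGroup ι F) : (g⁻¹).1 * g.1 = 1 :=
  congrArg Subtype.val (inv_mul_cancel g)

theorem conj_tau (g : SpecialLinearGroup ι F) {v a : ι → F} (ha : a ⬝ᵥ v = 0) (hg : g.1 *ᵥ v = v) :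
    g * tau v a * g⁻¹ = tau v (a ᵥ* (g⁻¹).1) := by
  have h0 : (a ᵥ* (g⁻¹).1) ⬝ᵥ v = 0 := by
    rw [← dotProduct_mulVec]
    conv_lhs => rw [← hg, inv_mulVec]
    rw [ha]
  refine Subtype.ext ?_
  show g.1 * (tau v a).1 * (g⁻¹).1 = _
  rw [tau_val ha, tau_val h0, tvMat, tvMat, Matrix.mul_add,
    Matrix.add_mul, Matrix.mul_one, mul_inv_val,
    Matrix.mul_vecMulVec, Matrix.vecMulVec_mul, hg]

theorem inT_map_toGL {P : Subgroup (SpecialLinearGroup ι F)} {v a : ι → F} :
    TVec.InT (P.map SpecialLinearGroup.toGL) v a ↔ a ⬝ᵥ v = 0 ∧ tau v a ∈ P := by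
  constructor
  · rintro ⟨h, s, hs, he⟩
    refine ⟨h, ?_⟩
    have : s = tau v a := Subtype.ext (by rw [tau_val h]; exact congrArg Units.val he)
    exact this ▸ hs
  · rintro ⟨h, hs⟩
    exact ⟨h, tau v a, hs, Units.ext (tau_val h)⟩

open scoped Classical in
theorem exists_notMem_span (hn : 3 ≤ Fintype.card ι) (x y : ι → F) :
    ∃ z, z ∉ Submodule.span F ({x, y} : Set (ι → F)) := by
  by_contra h
  push Not at h
  have h1 := finrank_span_le_card (R := F) ({x, y} : Set (ι → F))
  rw [(Submodule.eq_top_iff' (p := Submodule.span F ({x, y} : Set (ι → F)))).2 h, finrank_top,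
    Module.finrank_fintype_fun_eq_card] at h1
  have h2 : ({x, y} : Set (ι → F)).toFinset.card ≤ 2 := by
    rw [Set.toFinset_insert, Set.toFinset_singleton]; exact Finset.card_le_two
  omega

/-- The stabiliser of `v` moves a vector off the line of `v` to every such vector. -/
theorem exists_fix_move (hn : 3 ≤ Fintype.card ι) {v w w' : ι → F}
    (hw : w ∉ Submodule.span F {v}) (hw' : w' ∉ Submodule.span F {v}) :
    ∃ g : SpecialLinearGroup ι F, g.1 *ᵥ v = v ∧ g.1 *ᵥ w = w' := by
  have key : ∀ x y : ι → F, x ∉ Submodule.span F {v} ⊔ Submodule.span F {y - x} →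
      ∃ g : SpecialLinearGroup ι F, g.1 *ᵥ v = v ∧ g.1 *ᵥ x = y := by
    intro x y h
    obtain ⟨g, hg, hW, hgx, -⟩ := exists_transvection_mem_SL _ x (y - x) h
    exact ⟨⟨g.val, by simpa using congrArg Units.val hg⟩, hW v (Submodule.mem_span_singleton_self v),
      by simpa using hgx⟩
  by_cases h : w ∈ Submodule.span F {v} ⊔ Submodule.span F {w' - w}
  · obtain ⟨z, hz⟩ := exists_notMem_span hn v (w' - w)
    rw [Submodule.span_insert] at hz
    set S := Submodule.span F {v} ⊔ Submodule.span F {w' - w} with hS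
    have hdS : w' - w ∈ S := Submodule.mem_sup_right (Submodule.mem_span_singleton_self _)
    have hw'S : w' ∈ S := by simpa using add_mem hdS h
    have step : ∀ x, x ∈ S → x ∉ Submodule.span F {v} → x ∉ Submodule.span F {v} ⊔ Submodule.span F {z - x} := by
      intro x hx hxv hc
      obtain ⟨a, ha, b, hb, hab⟩ := Submodule.mem_sup.1 hc
      obtain ⟨c, rfl⟩ := Submodule.mem_span_singleton.1 hb
      rcases eq_or_ne c 0 with rfl | hc0
      · exact hxv (by rw [← hab, zero_smul, add_zero]; exact ha)
      · refine hz ?_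
        have h1 : c • (z - x) ∈ S := by
          rw [eq_sub_of_add_eq' hab]
          exact sub_mem hx (Submodule.mem_sup_left ha)
        have h2 := S.smul_mem c⁻¹ h1
        rw [smul_smul, inv_mul_cancel₀ hc0, one_smul] at h2
        simpa using add_mem h2 hx
    have hzv : z ∉ Submodule.span F {v} := fun hh => hz (Submodule.mem_sup_left hh)
    obtain ⟨g, hgv, hg⟩ := key w z (step w h hw)
    have hz2 : z ∉ Submodule.span F {v} ⊔ Submodule.span F {w' - z} := by
      intro hc
      obtain ⟨a, ha, b, hb, hab⟩ := Submodule.mem_sup.1 hc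
      obtain ⟨c, rfl⟩ := Submodule.mem_span_singleton.1 hb
      by_cases hc1 : (1 : F) + c = 0
      · have h1 : c • w' + a = (1 + c) • z := by
          rw [add_smul, one_smul]
          conv_rhs => lhs; rw [← hab]
          rw [smul_sub]; abel
        rw [hc1, zero_smul] at h1
        have hc0 : c ≠ 0 := fun e => by simp [e] at hc1
        refine hw' ?_
        have : w' = (-c⁻¹) • a := by
          have h2 := congrArg (c⁻¹ • ·) h1
          simp only [smul_add, smul_smul, inv_mul_cancel₀ hc0, one_smul, smul_zero] at h2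
          rw [neg_smul]; exact eq_neg_of_add_eq_zero_left h2
        rw [this]; exact Submodule.smul_mem _ _ ha
      · refine hz ?_
        have h1 : (1 + c) • z = a + c • w' := by
          rw [add_smul, one_smul]
          conv_lhs => lhs; rw [← hab]
          rw [smul_sub]; abel
        have h2 : (1 + c) • z ∈ S := by
          rw [h1]; exact add_mem (Submodule.mem_sup_left ha) (S.smul_mem _ hw'S)
        have h3 := S.smul_mem (1 + c)⁻¹ h2
        rwa [smul_smul, inv_mul_cancel₀ hc1, one_smul] at h3
    obtain ⟨g', hgv', hg'⟩ := key z w' hz2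
    exact ⟨g' * g, by show (g'.1 * g.1) *ᵥ v = v; rw [← mulVec_mulVec, hgv, hgv'],
      by show (g'.1 * g.1) *ᵥ w = w'; rw [← mulVec_mulVec, hg, hg']⟩
  · exact key w w' h

section Pairing

variable (p : ℕ) [Algebra (ZMod p) F]

/-- The trace of the dot product. -/
noncomputable def form : LinearMap.BilinForm (ZMod p) (ι → F) :=
  LinearMap.mk₂ (ZMod p) (fun a w => Algebra.trace (ZMod p) F (a ⬝ᵥ w))
    (fun a b w => by rw [add_dotProduct, map_add])
    (fun c a w => by rw [smul_dotProduct, map_smul])
    (fun a v w => by rw [dotProduct_add, map_add])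
    (fun c a w => by rw [dotProduct_smul, map_smul])

theorem form_apply (a w : ι → F) : form p a w = Algebra.trace (ZMod p) F (a ⬝ᵥ w) := rfl

theorem form_isRefl : (form p : LinearMap.BilinForm (ZMod p) (ι → F)).IsRefl := fun a w h => by
  rwa [form_apply, dotProduct_comm, ← form_apply]

variable [Fintype F] [Fact p.Prime]

theorem eq_zero_of_trace (x : F) (h : ∀ c, Algebra.trace (ZMod p) F (c * x) = 0) : x = 0 := by
  by_contra hx
  obtain ⟨y, hy⟩ := Algebra.trace_surjective (ZMod p) F 1
  have := h (y * x⁻¹)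
  rw [mul_assoc, inv_mul_cancel₀ hx, mul_one, hy] at this
  exact one_ne_zero this

theorem form_nondegenerate : (form p : LinearMap.BilinForm (ZMod p) (ι → F)).Nondegenerate := by
  have hl : ∀ a : ι → F, (∀ w, form p a w = 0) → a = 0 := fun a h => funext fun i => by
    refine eq_zero_of_trace p _ fun c => ?_
    have := h (Pi.single i c)
    rwa [form_apply, dotProduct_single, mul_comm] at this
  exact ⟨hl, fun a h => hl a fun w => form_isRefl p _ _ (h w)⟩

/-- The vectors orthogonal to a set of axes. -/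
noncomputable def perp (M : AddSubgroup (ι → F)) : Submodule (ZMod p) (ι → F) :=
  (form p).orthogonal (AddSubgroup.toZModSubmodule p M)

theorem mem_perp {M : AddSubgroup (ι → F)} {w : ι → F} :
    w ∈ perp p M ↔ ∀ a ∈ M, Algebra.trace (ZMod p) F (a ⬝ᵥ w) = 0 := by
  simp [perp, LinearMap.BilinForm.mem_orthogonal_iff, LinearMap.BilinForm.isOrtho_def, form_apply]

theorem card_perp_mul (M : AddSubgroup (ι → F)) :
    Nat.card (perp p M) * Nat.card M = Fintype.card F ^ Fintype.card ι := by
  have h1 : Nat.card M = Nat.card (AddSubgroup.toZModSubmodule p M) := rfl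
  have h2 := LinearMap.BilinForm.finrank_orthogonal (form_nondegenerate p (ι := ι) (F := F))
    (AddSubgroup.toZModSubmodule p M)
  rw [perp, h1, Module.natCard_eq_pow_finrank (K := ZMod p) (V := (form p).orthogonal _),
    Module.natCard_eq_pow_finrank (K := ZMod p) (V := AddSubgroup.toZModSubmodule p M), h2,
    ← pow_add, Nat.sub_add_cancel (Submodule.finrank_le _), ← Fintype.card_fun, ← Nat.card_eq_fintype_card (α := ι → F),
    Module.natCard_eq_pow_finrank (K := ZMod p) (V := ι → F)]

end Pairing

section Orbits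

variable [Fintype F] {P : Subgroup (SpecialLinearGroup ι F)} {v : ι → F}

local notation "G" => SpecialLinearGroup ι F
local notation "Ω" => SpecialLinearGroup ι F ⧸ P
local notation "Orb" => MulAction.orbitRel.Quotient (Tc v) (SpecialLinearGroup ι F ⧸ P)

variable (v) in
/-- The axes of the transvections with centre `v` fixing a coset. -/
noncomputable def axes (x : Ω) : AddSubgroup (ι → F) where
  carrier := {a | a ⬝ᵥ v = 0 ∧ tau v a • x = x}
  zero_mem' := ⟨zero_dotProduct v, by rw [tau_zero, one_smul]⟩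
  add_mem' := by
    rintro a b ⟨ha, ha'⟩ ⟨hb, hb'⟩
    exact ⟨by rw [add_dotProduct, ha, hb, add_zero], by rw [tau_add ha hb, mul_smul, hb', ha']⟩
  neg_mem' := by
    rintro a ⟨ha, ha'⟩
    have hna : (-a) ⬝ᵥ v = 0 := by rw [neg_dotProduct, ha, neg_zero]
    refine ⟨hna, ?_⟩
    conv_lhs => rw [← ha', ← mul_smul, ← tau_add hna ha, neg_add_cancel, tau_zero, one_smul]

theorem mem_axes {x : Ω} {a : ι → F} : a ∈ axes v x ↔ a ⬝ᵥ v = 0 ∧ tau v a • x = x := Iff.rfl

theorem axes_one_iff {a : ι → F} :
    a ∈ axes v ((1 : G) : Ω) ↔ TVec.InT (P.map SpecialLinearGroup.toGL) v a := by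
  rw [mem_axes, inT_map_toGL]
  refine and_congr_right fun _ => ?_
  show ((tau v a * 1 : G) : Ω) = _ ↔ _
  rw [mul_one, QuotientGroup.eq, mul_one, P.inv_mem_iff]

theorem axes_smul_mem (t : Tc v) (x : Ω) : axes v x ≤ axes v (t • x) := by
  rintro a ⟨ha, hx⟩
  refine ⟨ha, ?_⟩
  obtain ⟨t, b, hb, ht⟩ := t
  have htb : t = tau v b := Subtype.ext (by rw [tau_val hb]; exact ht)
  show tau v a • t • x = t • x
  rw [htb, ← mul_smul, ← tau_add ha hb, add_comm, tau_add hb ha, mul_smul, hx]

theorem axes_smul_eq (t : Tc v) (x : Ω) : axes v (t • x) = axes v x :=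
  le_antisymm (by simpa using axes_smul_mem t⁻¹ (t • x)) (axes_smul_mem t x)

variable (P v) in
/-- The axes attached to an orbit. -/
noncomputable def orbAxes : Orb → AddSubgroup (ι → F) :=
  Quotient.lift (axes v) fun x y (h : x ∈ MulAction.orbit (Tc v) y) => by
    obtain ⟨t, rfl⟩ := h
    exact axes_smul_eq t y

theorem card_axes_mul (hv : v ≠ 0) (x : Ω) :
    Nat.card (axes v x) * Nat.card (MulAction.orbit (Tc v) x) = Nat.card (Tc v) := by
  have e : Nat.card (axes v x) = Nat.card (MulAction.stabilizer (Tc v) x) := by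
    refine Nat.card_congr (Equiv.ofBijective (fun a => ⟨⟨tau v a.1, tau_mem_Tc a.2.1⟩, a.2.2⟩) ⟨?_, ?_⟩)
    · intro a b h
      exact Subtype.ext (tau_injective hv a.2.1 b.2.1 (congrArg (fun t => (t.1.1 : G)) h))
    · rintro ⟨⟨t, a, ha, ht⟩, htx⟩
      have hta : t = tau v a := Subtype.ext (by rw [tau_val ha]; exact ht)
      exact ⟨⟨a, ha, hta ▸ htx⟩, Subtype.ext (Subtype.ext hta.symm)⟩
  rw [e, mul_comm, ← Nat.card_prod]
  exact Nat.card_congr (MulAction.orbitProdStabilizerEquivGroup (Tc v) x)

theorem card_Tc (hv : v ≠ 0) : Nat.card (Tc v) * Fintype.card F = Fintype.card F ^ Fintype.card ι := by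
  have e : Nat.card (Tc v) = Nat.card (LinearMap.ker (dotProductBilin F F v)) := by
    refine (Nat.card_congr (Equiv.ofBijective (fun a => ⟨tau v a.1,
      tau_mem_Tc ((dotProduct_comm _ _).trans (LinearMap.mem_ker.1 a.2))⟩) ⟨?_, ?_⟩)).symm
    · intro a b h
      refine Subtype.ext (tau_injective hv ?_ ?_ (congrArg Subtype.val h))
      · exact (dotProduct_comm _ _).trans (LinearMap.mem_ker.1 a.2)
      · exact (dotProduct_comm _ _).trans (LinearMap.mem_ker.1 b.2)
    · rintro ⟨t, a, ha, ht⟩
      exact ⟨⟨a, LinearMap.mem_ker.2 (by simpa [dotProduct_comm] using ha)⟩,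
        Subtype.ext (Subtype.ext (by rw [tau_val ha]; exact ht.symm))⟩
  have hne : (dotProductBilin F F v) ≠ 0 := fun h => hv (dotProduct_eq_zero _ fun w => LinearMap.congr_fun h w)
  rw [e, Module.natCard_eq_pow_finrank (K := F), Nat.card_eq_fintype_card, ← pow_succ,
    Module.Dual.finrank_ker_add_one_of_ne_zero hne, Module.finrank_fintype_fun_eq_card]

variable (P v) in
/-- A vector fixing `v` acts on the orbits. -/
noncomputable def orbMap (g : G) (hg : g.1 *ᵥ v = v) : Orb → Orb :=
  Quotient.map (g • ·) fun x y (h : x ∈ MulAction.orbit (Tc v) y) => by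
    obtain ⟨⟨t, a, ha, ht⟩, rfl⟩ := h
    have hta : t = tau v a := Subtype.ext (by rw [tau_val ha]; exact ht)
    refine ⟨⟨g * t * g⁻¹, ?_⟩, ?_⟩
    · exact conj_mem_Tc ⟨1, by rw [hg, one_smul]⟩ ⟨a, ha, ht⟩
    · show (g * t * g⁻¹) • g • y = g • t • y
      rw [← mul_smul, inv_mul_cancel_right, mul_smul]

theorem axes_smul_conj (g : G) (hg : g.1 *ᵥ v = v) (x : Ω) {b : ι → F} (hb : b ∈ axes v (g • x)) :
    b ᵥ* g.1 ∈ axes v x := by
  obtain ⟨hb0, hb⟩ := hb
  have hgi : (g⁻¹).1 *ᵥ v = v := by conv_lhs => rw [← hg, inv_mulVec]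
  refine ⟨by rw [← dotProduct_mulVec, hg, hb0], ?_⟩
  have h1 := conj_tau g⁻¹ hb0 hgi
  rw [inv_inv] at h1
  rw [← h1, mul_smul, mul_smul, hb, inv_smul_smul]

variable (p : ℕ) [Fact p.Prime] [Algebra (ZMod p) F]

theorem mem_perp_orbMap (g : G) (hg : g.1 *ᵥ v = v) (O : Orb) {w : ι → F}
    (hw : w ∈ perp p (orbAxes P v O)) : g.1 *ᵥ w ∈ perp p (orbAxes P v (orbMap P v g hg O)) := by
  induction O using Quotient.inductionOn with
  | h x =>
    rw [mem_perp] at hw ⊢
    intro b hb
    rw [dotProduct_mulVec]
    exact hw _ (axes_smul_conj g hg x hb)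

theorem span_le_perp (O : Orb) {w : ι → F} (hw : w ∈ Submodule.span F {v}) : w ∈ perp p (orbAxes P v O) := by
  obtain ⟨c, rfl⟩ := Submodule.mem_span_singleton.1 hw
  induction O using Quotient.inductionOn with
  | h x =>
    rw [mem_perp]
    intro a ha
    rw [dotProduct_smul, (show a ∈ axes v x from ha).1, smul_zero, map_zero]

theorem card_perp_orb (hv : v ≠ 0) (x : Ω) :
    Nat.card (perp p (axes v x)) = Fintype.card F * Nat.card (MulAction.orbit (Tc v) x) := by
  have h1 := card_perp_mul p (axes v x)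
  rw [← card_Tc hv, ← card_axes_mul hv x] at h1
  exact mul_right_cancel₀ (Nat.card_pos (α := axes v x)).ne' (h1.trans (by ring))

set_option maxHeartbeats 1000000 in
include p in
theorem dichotomy (hn : 3 ≤ Fintype.card ι) (hv : v ≠ 0)
    (hNF : ∀ z : ι → F, z ≠ 0 → ¬ Full (P.map SpecialLinearGroup.toGL) z)
    (hlt : P.index * (Fintype.card F - 1) + 1 < Fintype.card F ^ Fintype.card ι) :
    (P.index * Fintype.card F = Fintype.card F ^ Fintype.card ι ∧
        ∀ a, TVec.InT (P.map SpecialLinearGroup.toGL) v a → a = 0) ∨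
      (P.index * (Fintype.card F - 1) + Fintype.card F = Fintype.card F ^ Fintype.card ι ∧
        ∃ w ∉ Submodule.span F {v}, ∀ a, TVec.InT (P.map SpecialLinearGroup.toGL) v a ↔ a ⬝ᵥ v = 0 ∧ a ⬝ᵥ w = 0) := by
  classical
  let : Fintype Orb := Fintype.ofFinite _
  set q := Fintype.card F with hq
  set Q := Nat.card (Tc v)
  have hQ : Q * q = q ^ Fintype.card ι := card_Tc hv
  have hq2 : 2 ≤ q := Fintype.one_lt_card
  have hQq : q ^ 2 ≤ Q := by
    refine Nat.le_of_mul_le_mul_right ?_ (show 0 < q by omega)
    rw [hQ, ← pow_succ]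
    exact Nat.pow_le_pow_right (by omega) hn
  let W : Orb → Submodule (ZMod p) (ι → F) := fun O => perp p (orbAxes P v O)
  let out : Finset (ι → F) := Finset.univ.filter fun w => w ∉ Submodule.span F {v}
  let sz : Orb → ℕ := fun O => Nat.card (MulAction.orbitRel.Quotient.orbit O)
  have hsz : ∀ x : Ω, sz (Quotient.mk'' x) = Nat.card (MulAction.orbit (Tc v) x) := fun x => by
    simp only [sz, MulAction.orbitRel.Quotient.orbit_mk]
  -- no coset is fixed
  have hnofix : ∀ O, 2 ≤ sz O := by
    intro O
    induction O using Quotient.inductionOn' with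
    | h x =>
      rw [hsz]
      by_contra hc
      have : Subsingleton (MulAction.orbit (Tc v) x) :=
        (Finite.card_le_one_iff_subsingleton).1 (by omega)
      obtain ⟨g, rfl⟩ := QuotientGroup.mk_surjective x
      refine hNF ((g⁻¹).1 *ᵥ v) (mulVec_ne_zero _ hv) fun a ha => ?_
      set b := a ᵥ* (g⁻¹).1 with hb
      have hb0 : b ⬝ᵥ v = 0 := by rw [hb, ← dotProduct_mulVec, ha]
      have h1 : tau v b • ((g : G) : Ω) = ((g : G) : Ω) := congrArg Subtype.val
        (Subsingleton.elim (⟨_, ⟨⟨tau v b, tau_mem_Tc hb0⟩, rfl⟩⟩ : MulAction.orbit (Tc v) ((g : G) : Ω))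
          ⟨_, MulAction.mem_orbit_self _⟩)
      rw [inT_map_toGL]
      refine ⟨ha, ?_⟩
      have h2 : (g⁻¹ * tau v b * g)⁻¹ ∈ P := by
        have h3 := QuotientGroup.eq.1 (show ((tau v b * g : G) : Ω) = _ from h1)
        simpa [mul_assoc] using h3
      have h4 : tau ((g⁻¹).1 *ᵥ v) a = g⁻¹ * tau v b * g := by
        refine Subtype.ext ?_
        show _ = (g⁻¹).1 * (tau v b).1 * g.1
        rw [tau_val ha, tau_val hb0, tvMat, tvMat,
          Matrix.mul_add, Matrix.add_mul, Matrix.mul_one, inv_mul_val, Matrix.mul_vecMulVec, Matrix.vecMulVec_mul, hb,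
          vecMul_vecMul, inv_mul_val, vecMul_one]
      rw [h4]
      exact inv_mem_iff.1 h2
  -- the counting
  have hcardW : ∀ O, Nat.card (W O) = q * sz O := by
    intro O
    induction O using Quotient.inductionOn' with
    | h x => rw [hsz]; exact card_perp_orb p hv x
  have hline : Nat.card (Submodule.span F {v}) = q := by
    rw [Module.natCard_eq_pow_finrank (K := F), finrank_span_singleton hv, pow_one, Nat.card_eq_fintype_card]
  have hfil : (Finset.univ.filter fun w => w ∈ Submodule.span F {v}).card = q :=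
    (Nat.subtype_card (p := fun w => w ∈ Submodule.span F {v}) _ (fun w => by simp)).symm.trans hline
  have hWout : ∀ O, (out.filter fun w => w ∈ W O).card + q = q * sz O := by
    intro O
    have e1 : Nat.card (W O) = (Finset.univ.filter fun w => w ∈ W O).card := Nat.subtype_card _ (fun w => by simp)
    rw [← hcardW O, e1, ← hfil, ← Finset.card_union_of_disjoint]
    · congr 1
      ext w
      simp only [out, Finset.mem_union, Finset.mem_filter, Finset.mem_univ, true_and]
      constructor
      · rintro (⟨-, h⟩ | h)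
        · exact h
        · exact span_le_perp p O h
      · intro h
        by_cases hw : w ∈ Submodule.span F {v}
        · exact Or.inr hw
        · exact Or.inl ⟨hw, h⟩
    · rw [Finset.disjoint_left]
      intro w hw hw'
      simp only [out, Finset.mem_filter, Finset.mem_univ, true_and] at hw hw'
      exact hw.1 hw'
  let S : (ι → F) → Finset Orb := fun w => Finset.univ.filter fun O => w ∈ W O
  have hle : ∀ w w' (g : G), g.1 *ᵥ v = v → g.1 *ᵥ w = w' → (S w).card ≤ (S w').card := by
    intro w w' g hg hgw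
    have hgi : (g⁻¹).1 *ᵥ v = v := by conv_lhs => rw [← hg, inv_mulVec]
    refine Finset.card_le_card_of_injOn (orbMap P v g hg) (fun O hO => ?_) ?_
    · simp only [S, Finset.coe_filter, Finset.mem_univ, true_and, Set.mem_setOf_eq] at hO ⊢
      exact hgw ▸ mem_perp_orbMap p g hg O hO
    · intro O _ O' _ h
      have hinv : ∀ O, orbMap P v g⁻¹ hgi (orbMap P v g hg O) = O := by
        intro O
        induction O using Quotient.inductionOn with
        | h x => exact congrArg _ (inv_smul_smul g x)
      rw [← hinv O, ← hinv O', h]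
  obtain ⟨w0, hw0⟩ := exists_notMem_span hn v v
  rw [Set.pair_eq_singleton] at hw0
  have hconst : ∀ w ∈ out, (S w).card = (S w0).card := by
    intro w hw
    simp only [out, Finset.mem_filter, Finset.mem_univ, true_and] at hw
    obtain ⟨g, hg, hgw⟩ := exists_fix_move hn hw hw0
    obtain ⟨g', hg', hgw'⟩ := exists_fix_move hn hw0 hw
    exact le_antisymm (hle _ _ g hg hgw) (hle _ _ g' hg' hgw')
  set b := (S w0).card
  set r := Fintype.card Orb
  have hQn0 : q ^ Fintype.card ι = Fintype.card (ι → F) := by rw [Fintype.card_fun]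
  have hout : out.card + q = Q * q := by
    rw [hQ, hQn0, ← hfil, ← Finset.card_univ, add_comm]
    exact Finset.card_filter_add_card_filter_not _
  have hN : P.index = ∑ O, sz O := by
    rw [Subgroup.index_eq_card, Nat.card_congr (MulAction.selfEquivSigmaOrbits' (Tc v) Ω), Nat.card_sigma]
  have hdc : ∑ O, (out.filter fun w => w ∈ W O).card = out.card * b := by
    simp only [Finset.card_filter]
    rw [Finset.sum_comm]
    simp only [← Finset.card_filter]
    rw [Finset.sum_congr rfl hconst, Finset.sum_const, smul_eq_mul]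
  have hkey : P.index + b = b * Q + r := by
    have h1 : ∑ O : Orb, ((out.filter fun w => w ∈ W O).card + q) = ∑ O, q * sz O :=
      Finset.sum_congr rfl fun O _ => hWout O
    rw [Finset.sum_add_distrib, hdc, Finset.sum_const, Finset.card_univ, smul_eq_mul, ← Finset.mul_sum, ← hN] at h1
    refine Nat.eq_of_mul_eq_mul_left (show 0 < q by omega) ?_
    calc q * (P.index + b) = out.card * b + r * q + q * b := by rw [mul_add, ← h1]
      _ = (out.card + q) * b + r * q := by ring
      _ = Q * q * b + r * q := by rw [hout]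
      _ = q * (b * Q + r) := by ring
  set N := P.index
  have hr : 0 < r := Fintype.card_pos_iff.2 ⟨Quotient.mk'' ((1 : G) : Ω)⟩
  have h2r : 2 * r ≤ N := by
    rw [hN, mul_comm, show r * 2 = ∑ _O : Orb, 2 by simp [r]]
    exact Finset.sum_le_sum fun O _ => hnofix O
  have hb : b = 1 := by
    rcases Nat.lt_trichotomy b 1 with hb | hb | hb
    · have : b = 0 := by omega
      rw [this] at hkey
      simp only [zero_mul, zero_add, add_zero] at hkey
      omega
    · exact hb
    · exfalso
      have : 0 < Q := Nat.card_pos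
      obtain ⟨d, hd⟩ : ∃ d, Q = d + 1 := ⟨Q - 1, by omega⟩
      have h1 : N = b * d + r := by rw [hd] at hkey; linarith [hkey]
      have h2 : (2 * d + 1) * (q - 1) + 1 ≤ N * (q - 1) + 1 := by
        gcongr; rw [h1]; nlinarith
      obtain ⟨e, he⟩ : ∃ e, q = e + 2 := ⟨q - 2, by omega⟩
      rw [← hQ, hd, he] at hlt
      rw [he] at h2
      simp only [show e + 2 - 1 = e + 1 from rfl] at hlt h2
      nlinarith
  -- each vector off the line belongs to exactly one orbit
  have huniq : ∀ w ∉ Submodule.span F {v}, ∀ O O', w ∈ W O → w ∈ W O' → O = O' := by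
    intro w hw O O' hO hO'
    refine Finset.card_le_one.1 (le_of_eq ((hconst w (by simp [out, hw])).trans hb)) O ?_ O' ?_ <;>
      simp [S, *]
  have hmove : ∀ O (g : G) (hg : g.1 *ᵥ v = v), ∀ w ∈ W O, w ∉ Submodule.span F {v} → g.1 *ᵥ w ∈ W O →
      orbMap P v g hg O = O := by
    intro O g hg w hw hwv hgw
    refine huniq (g.1 *ᵥ w) (fun h => hwv ?_) _ _ (mem_perp_orbMap p g hg O hw) hgw
    obtain ⟨c, hc⟩ := Submodule.mem_span_singleton.1 h
    refine Submodule.mem_span_singleton.2 ⟨c, ?_⟩
    rw [← inv_mulVec g w, ← hc, mulVec_smul]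
    conv_rhs => rw [← hg, inv_mulVec]
  have hout' : ∀ O, ∃ w ∈ W O, w ∉ Submodule.span F {v} := by
    intro O
    by_contra hc
    push Not at hc
    have h1 : (out.filter fun w => w ∈ W O).card = 0 :=
      Finset.card_eq_zero.2 (Finset.filter_eq_empty_iff.2 fun w hw h => by simp [out] at hw; exact hw (hc w h))
    have h2 := hWout O
    rw [h1, zero_add] at h2
    have := Nat.mul_le_mul_left q (hnofix O)
    omega
  have hsame : ∀ O O', sz O ≤ sz O' := by
    intro O O'
    obtain ⟨w, hw, hwv⟩ := hout' O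
    obtain ⟨w', hw', hwv'⟩ := hout' O'
    obtain ⟨g, hg, hgw⟩ := exists_fix_move hn hwv hwv'
    have hO' : orbMap P v g hg O = O' := huniq w' hwv' _ _ (hgw ▸ mem_perp_orbMap p g hg O hw) hw'
    refine Nat.le_of_mul_le_mul_left ?_ (show 0 < q by omega)
    rw [← hcardW, ← hcardW]
    refine Nat.card_le_card_of_injective (fun z => ⟨g.1 *ᵥ z.1, hO' ▸ mem_perp_orbMap p g hg O z.2⟩) fun z z' h => ?_
    refine Subtype.ext ?_
    have := congrArg (fun y => (g⁻¹).1 *ᵥ y) (congrArg Subtype.val h)
    simp only at this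
    rwa [inv_mulVec, inv_mulVec] at this
  set O₁ : Orb := Quotient.mk'' ((1 : G) : Ω)
  set s := sz O₁
  have hNs : N = r * s := by
    rw [hN, Finset.sum_congr rfl fun O _ => le_antisymm (hsame O O₁) (hsame O₁ O)]
    simp [r, s]
  obtain ⟨w, hw, hwv⟩ := hout' O₁
  -- either everything, or inside the plane of `v` and `w`
  have hdich : (∀ y, y ∈ W O₁) ∨ ∀ u ∈ W O₁, u ∈ Submodule.span F {v} ⊔ Submodule.span F {w} := by
    rw [or_iff_not_imp_right]
    intro h
    push Not at h
    obtain ⟨u, hu, hun⟩ := h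
    have huv : u ∉ Submodule.span F {v} := fun h => hun (Submodule.mem_sup_left h)
    have hshift : ∀ x z : ι → F, x ∈ W O₁ → x ∉ Submodule.span F {v} → z ∈ W O₁ →
        ∀ y, z ∉ (Submodule.span F {v} ⊔ Submodule.span F {x}) ⊔ Submodule.span F {y} → y ∈ W O₁ := by
      intro x z hx hxv hz y hy
      obtain ⟨g, hg, hgW, hgz, -⟩ := exists_transvection_mem_SL _ z y hy
      let g' : G := ⟨g.val, by simpa using congrArg Units.val hg⟩
      have hgv : g'.1 *ᵥ v = v := hgW v (Submodule.mem_sup_left (Submodule.mem_span_singleton_self v))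
      have hgx : g'.1 *ᵥ x = x := hgW x (Submodule.mem_sup_right (Submodule.mem_span_singleton_self x))
      have h1 := mem_perp_orbMap p g' hgv O₁ hz
      rw [hmove O₁ g' hgv x hx hxv (hgx.symm ▸ hx), show g'.1 *ᵥ z = z + y from hgz] at h1
      simpa using sub_mem h1 hz
    have hwu : w ∉ Submodule.span F {v} ⊔ Submodule.span F {u} := by
      intro hc
      obtain ⟨a, ha, c, hc', hac⟩ := Submodule.mem_sup.1 hc
      obtain ⟨c, rfl⟩ := Submodule.mem_span_singleton.1 hc'
      rcases eq_or_ne c 0 with rfl | hc0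
      · exact hwv (by rw [← hac, zero_smul, add_zero]; exact ha)
      · refine hun ?_
        have : u = c⁻¹ • (w - a) := by rw [← hac, add_sub_cancel_left, smul_smul, inv_mul_cancel₀ hc0, one_smul]
        rw [this]
        exact Submodule.smul_mem _ _ (sub_mem (Submodule.mem_sup_right (Submodule.mem_span_singleton_self _))
          (Submodule.mem_sup_left ha))
    have hA : ∀ y ∈ Submodule.span F {v} ⊔ Submodule.span F {w}, y ∈ W O₁ := fun y hy =>
      hshift w u hw hwv hu y (by rw [sup_eq_left.2 ((Submodule.span_singleton_le_iff_mem _ _).2 hy)]; exact hun)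
    have hB : ∀ y ∈ Submodule.span F {v} ⊔ Submodule.span F {u}, y ∈ W O₁ := fun y hy =>
      hshift u w hu huv hw y (by rw [sup_eq_left.2 ((Submodule.span_singleton_le_iff_mem _ _).2 hy)]; exact hwu)
    intro y
    by_cases hy : u ∈ (Submodule.span F {v} ⊔ Submodule.span F {w}) ⊔ Submodule.span F {y}
    · obtain ⟨a, ha, c, hc, hac⟩ := Submodule.mem_sup.1 hy
      obtain ⟨c, rfl⟩ := Submodule.mem_span_singleton.1 hc
      rcases eq_or_ne c 0 with rfl | hc0
      · exact absurd (by rw [← hac, zero_smul, add_zero]; exact ha) hun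
      · have : y = c⁻¹ • u + -(c⁻¹ • a) := by
          rw [← sub_eq_add_neg, ← smul_sub, ← hac, add_sub_cancel_left, smul_smul, inv_mul_cancel₀ hc0, one_smul]
        rw [this]
        exact add_mem (hB _ (Submodule.mem_sup_right (Submodule.smul_mem _ _ (Submodule.mem_span_singleton_self u))))
          (hA _ (neg_mem (Submodule.smul_mem _ _ ha)))
    · exact hshift w u hw hwv hu y hy
  have hcardO : Nat.card (W O₁) = q * s := hcardW O₁
  have hQn : q ^ Fintype.card ι = Nat.card (ι → F) := by rw [Nat.card_eq_fintype_card, Fintype.card_fun]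
  rcases hdich with hall | hpl
  · left
    have hs : s = Q := by
      have : Nat.card (W O₁) = Nat.card (ι → F) :=
        Nat.card_congr (Equiv.subtypeUnivEquiv hall)
      rw [hcardO, ← hQn, ← hQ, mul_comm] at this
      exact Nat.eq_of_mul_eq_mul_right (by omega) this
    have hr1 : r = 1 := by
      rw [hb, one_mul, hNs, hs] at hkey
      by_contra hne
      have : 2 * Q ≤ r * Q := Nat.mul_le_mul_right Q (by omega)
      nlinarith
    refine ⟨by rw [hNs, hr1, hs, one_mul, hQ], fun a ha => ?_⟩
    have ha' : a ∈ axes v ((1 : G) : Ω) := axes_one_iff.2 ha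
    refine funext fun i => eq_zero_of_trace p _ fun c => ?_
    have h1 := (mem_perp p).1 (hall (Pi.single i c)) a ha'
    rwa [dotProduct_single, mul_comm] at h1
  · right
    set T := Submodule.span F {v} ⊔ Submodule.span F {w}
    have hT : Nat.card T = q ^ 2 := by
      have hdim : Module.finrank F T = 2 := by
        have h := Submodule.finrank_sup_add_finrank_inf_eq (Submodule.span F {v}) (Submodule.span F {w})
        have hwne : w ≠ 0 := fun h => hwv (h ▸ zero_mem _)
        have hinf : Submodule.span F {v} ⊓ Submodule.span F {w} = ⊥ := by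
          rw [eq_bot_iff]
          rintro x ⟨hx, hx'⟩
          obtain ⟨c, rfl⟩ := Submodule.mem_span_singleton.1 hx'
          rcases eq_or_ne c 0 with rfl | hc
          · simp
          · refine absurd ?_ hwv
            have := Submodule.smul_mem _ c⁻¹ hx
            rwa [smul_smul, inv_mul_cancel₀ hc, one_smul] at this
        rw [hinf, finrank_bot, finrank_span_singleton hv, finrank_span_singleton hwne] at h
        omega
      rw [Module.natCard_eq_pow_finrank (K := F), hdim, Nat.card_eq_fintype_card]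
    have hsle : s ≤ q := by
      refine Nat.le_of_mul_le_mul_left ?_ (show 0 < q by omega)
      rw [← hcardO, ← sq, ← hT]
      exact Nat.card_le_card_of_injective (fun z => (⟨z.1, hpl _ z.2⟩ : T)) fun a b h => Subtype.ext (congrArg (fun x : T => x.1) h)
    rw [hb, one_mul, hNs] at hkey
    rcases lt_or_eq_of_le hsle with hsq | hsq
    · exfalso
      rw [hNs, ← hQ] at hlt
      obtain ⟨k, hk⟩ : ∃ k, s = k + 1 := ⟨s - 1, by have := hnofix O₁; omega⟩
      obtain ⟨e, he⟩ : ∃ e, q = k + 1 + (e + 1) := ⟨q - k - 2, by omega⟩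
      rw [hk] at hkey hlt
      rw [he] at hlt hQq
      simp only [show k + 1 + (e + 1) - 1 = k + 1 + e from rfl] at hlt
      have hQk : Q = r * k + 1 := by rw [Nat.mul_add, mul_one] at hkey; omega
      have hk1 : 1 ≤ k := by have := hnofix O₁; omega
      rw [hQk] at hlt hQq
      have hrbig : k + 2 + e ≤ r := by
        by_contra hc
        have : r * k ≤ (k + 1 + e) * k := Nat.mul_le_mul_right k (by omega)
        nlinarith
      have : r * 1 ≤ r * (e + 1) := Nat.mul_le_mul_left r (by omega)
      nlinarith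
    · refine ⟨?_, w, hwv, fun a => ?_⟩
      · rw [hNs, ← hQ, hsq]
        obtain ⟨e, he⟩ : ∃ e, q = e + 1 := ⟨q - 1, by omega⟩
        rw [hsq, he] at hkey
        rw [he, Nat.add_sub_cancel]
        nlinarith
      · have hWT : ∀ z ∈ T, z ∈ W O₁ := by
          have hc : Nat.card T ≤ Nat.card (W O₁) := by rw [hcardO, hsq, hT, sq]
          intro z hz
          obtain ⟨z', hz'⟩ := (Function.Injective.bijective_of_nat_card_le
            (f := fun z : W O₁ => (⟨z.1, hpl _ z.2⟩ : T)) (fun a b h => Subtype.ext (congrArg (fun x : T => x.1) h)) hc).2 ⟨z, hz⟩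
          exact (show z'.1 = z from congrArg Subtype.val hz') ▸ z'.2
        rw [← axes_one_iff]
        constructor
        · intro ha
          refine ⟨ha.1, eq_zero_of_trace p _ fun c => ?_⟩
          rw [← smul_eq_mul, ← dotProduct_smul]
          exact (mem_perp p).1 (hWT _ (Submodule.mem_sup_right (Submodule.smul_mem _ _
            (Submodule.mem_span_singleton_self w)))) a ha
        · rintro ⟨hav, haw⟩
          let M := AddSubgroup.toZModSubmodule p (axes v ((1 : G) : Ω))
          have h1 : a ∈ (form p).orthogonal ((form p).orthogonal M) := by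
            intro z hz
            obtain ⟨x, hx, y, hy, hxy⟩ := Submodule.mem_sup.1 (hpl z hz)
            obtain ⟨c, rfl⟩ := Submodule.mem_span_singleton.1 hx
            obtain ⟨d, rfl⟩ := Submodule.mem_span_singleton.1 hy
            show form p z a = 0
            rw [form_apply, dotProduct_comm, ← hxy, dotProduct_add, dotProduct_smul,
              dotProduct_smul, hav, haw, smul_zero, smul_zero, add_zero, map_zero]
          rw [LinearMap.BilinForm.orthogonal_orthogonal (form_nondegenerate p) (form_isRefl p)] at h1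
          exact h1

end Orbits

end Cfsg.Lib.Linear.MinIndex
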