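import Cfsg.Agent.Lib.Linear.OrthTrans
import Cfsg.Agent.Lib.Linear.OrthSimple

/-!
# Counting singular vectors and isometries by splitting off hyperbolic pairs
-/

set_option autoImplicit false

namespace Cfsg.Lib.Linear.Orth

open Module
open scoped Matrix

variable {ι : Type} [Fintype ι] [DecidableEq ι] {F : Type*} [Field F]
  {Q : (ι → F) → F} {B : LinearMap.BilinForm F (ι → F)}

/-- The isometries which fix everything perpendicular to `U`. -/
def relIso (Q : (ι → F) → F) (B : LinearMap.BilinForm F (ι → F)) (U : Submodule F (ι → F)) :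
    Subgroup (GL ι F) where
  carrier := {g | g ∈ isometryGroup F Q ∧ ∀ x, (∀ u ∈ U, B u x = 0) → g.val *ᵥ x = x}
  one_mem' := ⟨one_mem _, fun x _ => by simp⟩
  mul_mem' := fun {g h} hg hh => ⟨mul_mem hg.1 hh.1, fun x hx => by
    rw [mul_act, hh.2 x hx, hg.2 x hx]⟩
  inv_mem' := fun {g} hg => ⟨inv_mem hg.1, fun x hx => by
    nth_rewrite 1 [← hg.2 x hx]; exact inv_act g x⟩

theorem mem_relIso {U : Submodule F (ι → F)} {g : GL ι F} :
    g ∈ relIso Q B U ↔ g ∈ isometryGroup F Q ∧ ∀ x, (∀ u ∈ U, B u x = 0) → g.val *ᵥ x = x :=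
  Iff.rfl

theorem relIso_top (C : Space Q B) : relIso Q B ⊤ = isometryGroup F Q :=
  le_antisymm (fun _ hg => hg.1) fun g hg => ⟨hg, fun x hx => by
    have h0 : x = 0 := C.nondeg' fun u => by rw [C.symm]; exact hx u trivial
    rw [h0]; exact Matrix.mulVec_zero _⟩

variable [Finite F]

/-- The number of singular vectors of `U`, as an integer. -/
noncomputable def sgCount (Q : (ι → F) → F) (U : Submodule F (ι → F)) : ℤ :=
  (Nat.card {x : ι → F // x ∈ U ∧ Q x = 0} : ℕ)

section Step

variable (C : Space Q B) {U : Submodule F (ι → F)} {e f : ι → F}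

omit [Finite F] in
include C in
theorem relIso_act_mem (hU : NDeg B U) {g : GL ι F} (hg : g ∈ relIso Q B U) {x : ι → F}
    (hx : x ∈ U) : g.val *ᵥ x ∈ U := by
  have horth : U = B.orthogonal (B.orthogonal U) := by
    refine (LinearMap.BilinForm.orthogonal_orthogonal ⟨fun v hv => C.nondeg' hv,
      fun v hv => C.nondeg' fun u => by rw [C.symm]; exact hv u⟩
      (fun u v h => by rw [C.symm]; exact h) U).symm
  rw [horth]
  intro y hy
  show B y (g.val *ᵥ x) = 0
  rw [← hg.2 y (fun u hu => hy u hu), C.B_act hg.1]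
  rw [C.symm]
  exact hy x hx

omit [Finite F] in
include C in
theorem rGL_mem_relIso {v : ι → F} (hv : v ∈ U) (hQv : Q v ≠ 0) : rGL Q v ∈ relIso Q B U :=
  ⟨rGL_mem C hQv, fun _ hx => rGL_fix C hQv (hx v hv)⟩

/-- Coordinates with respect to a hyperbolic pair. -/
noncomputable def hypEquiv (H : Hyp Q B U e f) :
    U ≃ F × F × ↥(perp2 B U e f) where
  toFun x := (B f x.1, B e x.1, ⟨_, H.proj C x.2⟩)
  invFun p := ⟨p.2.2.1 + p.1 • e + p.2.1 • f, U.add_mem (U.add_mem (mem_perp2.mp p.2.2.2).1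
    (U.smul_mem _ H.memE)) (U.smul_mem _ H.memF)⟩
  left_inv x := Subtype.ext (by simp only; abel)
  right_inv p := by
    obtain ⟨a, b, w, hw⟩ := p
    obtain ⟨-, hew, hfw⟩ := mem_perp2.mp hw
    have h1 : B f (w + a • e + b • f) = a := by
      simp [hfw, H.pair' C, C.self_zero H.singF]
    have h2 : B e (w + a • e + b • f) = b := by
      simp [hew, H.pair, C.self_zero H.singE]
    refine Prod.ext h1 (Prod.ext h2 (Subtype.ext ?_))
    simp only [h1, h2]
    abel

include C in
theorem card_step (H : Hyp Q B U e f) :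
    (Nat.card U : ℤ) = (Nat.card F : ℤ) ^ 2 * Nat.card ↥(perp2 B U e f) := by
  rw [Nat.card_congr (hypEquiv C H), Nat.card_prod, Nat.card_prod]
  push_cast
  ring

omit [Finite F] in
include C in
theorem Q_hyp (H : Hyp Q B U e f) {w : ι → F} (hw : w ∈ perp2 B U e f) (a b : F) :
    Q (w + a • e + b • f) = Q w + a * b := by
  obtain ⟨-, hew, hfw⟩ := mem_perp2.mp hw
  rw [add_assoc, C.add, C.smul_add, H.singE, H.singF, H.pair, map_add, map_smul, map_smul,
    C.symm w e, C.symm w f, hew, hfw]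
  simp

theorem card_mul_eq (t : F) [DecidableEq F] :
    (Nat.card {p : F × F // p.1 * p.2 = t} : ℤ) =
      if t = 0 then 2 * (Nat.card F : ℤ) - 1 else (Nat.card F : ℤ) - 1 := by
  have := Fintype.ofFinite F
  rw [Nat.card_eq_fintype_card, Nat.card_eq_fintype_card]
  split_ifs with ht
  · subst ht
    rw [Fintype.card_of_subtype (({0} : Finset F) ×ˢ Finset.univ ∪ Finset.univ ×ˢ ({0} : Finset F))
      (fun p => by obtain ⟨a, b⟩ := p; simp [mul_eq_zero, eq_comm])]
    have h := Finset.card_union_add_card_inter (({0} : Finset F) ×ˢ (Finset.univ : Finset F))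
      ((Finset.univ : Finset F) ×ˢ ({0} : Finset F))
    have hi : (({0} : Finset F) ×ˢ (Finset.univ : Finset F)) ∩
        ((Finset.univ : Finset F) ×ˢ ({0} : Finset F)) = {((0 : F), (0 : F))} := by
      ext p; simp [Prod.ext_iff, eq_comm]
    rw [hi, Finset.card_singleton, Finset.card_product, Finset.card_product, Finset.card_singleton,
      Finset.card_univ, one_mul, mul_one] at h
    omega
  · have e : {p : F × F // p.1 * p.2 = t} ≃ Fˣ :=
      { toFun := fun p => Units.mk0 p.1.1 (left_ne_zero_of_mul (p.2 ▸ ht))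
        invFun := fun u => ⟨(u, u⁻¹ * t), by rw [← mul_assoc, Units.mul_inv, one_mul]⟩
        left_inv := fun p => Subtype.ext (Prod.ext rfl (by
          have h1 := p.2
          have h0 : p.1.1 ≠ 0 := left_ne_zero_of_mul (p.2 ▸ ht)
          simp only [Units.val_inv_eq_inv_val, Units.val_mk0]
          rw [inv_mul_eq_iff_eq_mul₀ h0]; exact h1.symm))
        right_inv := fun u => Units.ext rfl }
    rw [Fintype.card_congr e, Fintype.card_units]
    have := Fintype.one_lt_card (α := F)
    omega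

include C in
theorem sgCount_step (H : Hyp Q B U e f) :
    sgCount Q U = (Nat.card F : ℤ) * sgCount Q (perp2 B U e f) +
      ((Nat.card F : ℤ) - 1) * Nat.card ↥(perp2 B U e f) := by
  classical
  have := Fintype.ofFinite F
  set W := perp2 B U e f with hW
  have key : {x : ι → F // x ∈ U ∧ Q x = 0} ≃ Σ w : W, {p : F × F // p.1 * p.2 = -Q w.1} :=
    { toFun := fun x => ⟨⟨_, H.proj C x.2.1⟩, (B f x.1, B e x.1), by
        have h := Q_hyp C H (H.proj C x.2.1) (B f x.1) (B e x.1)
        rw [show x.1 - B f x.1 • e - B e x.1 • f + B f x.1 • e + B e x.1 • f = x.1 by abel,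
          x.2.2] at h
        linear_combination -h⟩
      invFun := fun p => ⟨p.1.1 + p.2.1.1 • e + p.2.1.2 • f,
        U.add_mem (U.add_mem (mem_perp2.mp p.1.2).1 (U.smul_mem _ H.memE)) (U.smul_mem _ H.memF),
        by rw [Q_hyp C H p.1.2, p.2.2, add_neg_cancel]⟩
      left_inv := fun x => Subtype.ext (by simp only; abel)
      right_inv := fun p => by
        obtain ⟨⟨w, hw⟩, ⟨⟨a, b⟩, hp⟩⟩ := p
        obtain ⟨-, hew, hfw⟩ := mem_perp2.mp hw
        have h1 : B f (w + a • e + b • f) = a := by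
          simp [hfw, H.pair' C, C.self_zero H.singF]
        have h2 : B e (w + a • e + b • f) = b := by
          simp [hew, H.pair, C.self_zero H.singE]
        have h3 : w + a • e + b • f - a • e - b • f = w := by abel
        refine Sigma.subtype_ext (Subtype.ext ?_) (Prod.ext h1 h2)
        simp only [h1, h2, h3] }
  rw [sgCount, Nat.card_congr key, Nat.card_sigma, Nat.cast_sum]
  simp only [card_mul_eq, neg_eq_zero]
  have h1 : ((Finset.univ.filter fun w : W => Q w.1 = 0).card : ℤ) = sgCount Q W := by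
    rw [sgCount, ← Fintype.card_subtype, ← Nat.card_eq_fintype_card]
    exact congrArg _ (Nat.card_congr
      (Equiv.subtypeSubtypeEquivSubtypeInter (fun x => x ∈ W) fun x => Q x = 0))
  rw [Finset.sum_ite, Finset.sum_const, Finset.sum_const, nsmul_eq_mul, nsmul_eq_mul, h1]
  have h2 := Finset.card_filter_add_card_filter_not (s := (Finset.univ : Finset W))
    (fun w : W => Q w.1 = 0)
  rw [Finset.card_univ] at h2
  rw [Nat.card_eq_fintype_card (α := W), ← h2]
  push_cast
  rw [h1]
  ring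

omit [Finite F] in
include C in
/-- Isometries of `U` are transitive on hyperbolic pairs. -/
theorem pair_trans (hU : NDeg B U) (H : Hyp Q B U e f) {e' f' : ι → F}
    (H' : Hyp Q B U e' f') : ∃ g ∈ relIso Q B U, g.val *ᵥ e = e' ∧ g.val *ᵥ f = f' := by
  have ne0 : ∀ {a b : ι → F}, Hyp Q B U a b → a ≠ 0 := fun h h0 => by
    have := h.pair; rw [h0, map_zero, LinearMap.zero_apply] at this; exact zero_ne_one this
  have refl_step : ∀ {x y : ι → F}, x ∈ U → y ∈ U → Q x = 0 → Q y = 0 → B x y ≠ 0 →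
      ∃ g ∈ relIso Q B U, g.val *ᵥ x = y := fun {x y} hx hy hQx hQy hB => by
    have hne : Q (x - y) ≠ 0 := by
      rw [sub_eq_add_neg, C.add, C.neg, hQx, hQy, map_neg]; simpa using hB
    refine ⟨_, rGL_mem_relIso C (U.sub_mem hx hy) hne, ?_⟩
    have h1 : B (x - y) x = Q (x - y) := by
      rw [sub_eq_add_neg, C.add, C.neg, hQx, hQy, map_add, LinearMap.add_apply, C.self, hQx,
        map_neg, map_neg, LinearMap.neg_apply, C.symm y x]
      ring
    rw [rGL_act C hne, h1, inv_mul_cancel₀ hne, one_smul, sub_sub_cancel]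
  obtain ⟨g, hg, hge⟩ : ∃ g ∈ relIso Q B U, g.val *ᵥ e = e' := by
    by_cases hB : B e e' ≠ 0
    · exact refl_step H.memE H'.memE H.singE H'.singE hB
    push Not at hB
    obtain ⟨z, hz, hzs, hze, hze'⟩ : ∃ z ∈ U, Q z = 0 ∧ B e z ≠ 0 ∧ B z e' ≠ 0 := by
      by_cases h1 : B f e' ≠ 0
      · exact ⟨f, H.memF, H.singF, by rw [H.pair]; exact one_ne_zero, h1⟩
      push Not at h1
      by_cases h2 : B e f' ≠ 0
      · exact ⟨f', H'.memF, H'.singF, h2, by rw [H'.pair' C]; exact one_ne_zero⟩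
      push Not at h2
      refine ⟨(f + f') - Q (f + f') • e, U.sub_mem (U.add_mem H.memF H'.memF)
        (U.smul_mem _ H.memE), ?_, ?_, ?_⟩
      · rw [sub_eq_add_neg, ← neg_smul, C.add, C.smul, H.singE, map_smul, C.symm _ e, map_add,
          H.pair, h2]
        simp
      · simp [H.pair, h2, C.self_zero H.singE]
      · simp [h1, H'.pair' C, hB]
    obtain ⟨g1, hg1, hg1e⟩ := refl_step H.memE hz H.singE hzs hze
    obtain ⟨g2, hg2, hg2e⟩ := refl_step hz H'.memE hzs H'.singE hze'
    exact ⟨g2 * g1, mul_mem hg2 hg1, by rw [mul_act, hg1e, hg2e]⟩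
  set f1 := g.val *ᵥ f with hf1
  have hf1U : f1 ∈ U := relIso_act_mem C hU hg H.memF
  have H1 : Hyp Q B U e' f1 := ⟨H'.memE, hf1U, H'.singE,
    by rw [hf1, mem_iso.mp hg.1, H.singF], by rw [← hge, hf1, C.B_act hg.1, H.pair]⟩
  set a := f' - B f1 f' • e' - B e' f' • f1 with ha
  obtain ⟨haU, hea, hfa⟩ := mem_perp2.mp (H1.proj C H'.memF)
  rw [← ha] at haU hea hfa
  have hQa : Q a + B f1 f' = 0 := by
    have h := Q_hyp C H1 (H1.proj C H'.memF) (B f1 f') (B e' f')
    rw [← ha, show a + B f1 f' • e' + B e' f' • f1 = f' by rw [ha]; abel, H'.singF, H'.pair] at h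
    linear_combination -h
  have hs : sGL Q B e' a ∈ relIso Q B U := ⟨sGL_mem C H'.singE hea, fun x hx => by
    rw [sGL_act C H'.singE hea, hx _ H'.memE, hx _ haU]; simp⟩
  refine ⟨sGL Q B e' a * g, mul_mem hs hg, ?_, ?_⟩
  · rw [mul_act, hge, sGL_act C H'.singE hea, C.symm a e', hea, C.self_zero H'.singE]; simp
  · rw [mul_act, ← hf1, sGL_act C H'.singE hea, H1.pair, C.symm a f1, hfa, one_smul, mul_one,
      zero_add, show Q a = -B f1 f' by linear_combination hQa, ha, H'.pair]
    module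

omit [Finite F] in
include C in
/-- The stabiliser of a hyperbolic pair. -/
theorem mem_relIso_perp2 (H : Hyp Q B U e f) (g : GL ι F) :
    g ∈ relIso Q B (perp2 B U e f) ↔
      g ∈ relIso Q B U ∧ g.val *ᵥ e = e ∧ g.val *ᵥ f = f := by
  constructor
  · intro hg
    refine ⟨⟨hg.1, fun x hx => hg.2 x fun u hu => hx u (mem_perp2.mp hu).1⟩,
      hg.2 e fun u hu => ?_, hg.2 f fun u hu => ?_⟩
    · rw [C.symm]; exact (mem_perp2.mp hu).2.1
    · rw [C.symm]; exact (mem_perp2.mp hu).2.2
  · rintro ⟨hg, he, hf⟩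
    refine ⟨hg.1, fun x hx => ?_⟩
    have h1 : g.val *ᵥ (x - B f x • e - B e x • f) = x - B f x • e - B e x • f := by
      refine hg.2 _ fun u hu => ?_
      have h2 := hx _ (H.proj C hu)
      simp only [map_sub, map_smul, LinearMap.sub_apply, LinearMap.smul_apply, smul_eq_mul]
        at h2 ⊢
      rw [C.symm u e, C.symm u f]
      linear_combination h2
    rw [Matrix.mulVec_sub, Matrix.mulVec_sub, Matrix.mulVec_smul, Matrix.mulVec_smul, he, hf] at h1
    exact sub_left_injective (sub_left_injective h1)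

include C in
theorem card_relIso_step (hU : NDeg B U) (H : Hyp Q B U e f) :
    (Nat.card ↥(relIso Q B U) : ℤ) =
      (sgCount Q U - 1) * Nat.card ↥(perp2 B U e f) * Nat.card ↥(relIso Q B (perp2 B U e f)) := by
  classical
  have := Fintype.ofFinite F
  let P := {p : (ι → F) × (ι → F) // Hyp Q B U p.1 p.2}
  have hs : ∀ p : P, ∃ g ∈ relIso Q B U, g.val *ᵥ e = p.1.1 ∧ g.val *ᵥ f = p.1.2 :=
    fun p => pair_trans C hU H p.2
  choose s hsm hse hsf using hs
  have himg : ∀ g : relIso Q B U, Hyp Q B U (g.1.val *ᵥ e) (g.1.val *ᵥ f) := fun g =>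
    ⟨relIso_act_mem C hU g.2 H.memE, relIso_act_mem C hU g.2 H.memF,
      by rw [mem_iso.mp g.2.1, H.singE], by rw [mem_iso.mp g.2.1, H.singF],
      by rw [C.B_act g.2.1, H.pair]⟩
  let tgt : relIso Q B U → P := fun g => ⟨(_, _), himg g⟩
  have hst : ∀ g : relIso Q B U, (s (tgt g))⁻¹ * g.1 ∈ relIso Q B (perp2 B U e f) := fun g =>
    (mem_relIso_perp2 C H _).mpr ⟨mul_mem (inv_mem (hsm _)) g.2,
      by rw [mul_act]; nth_rewrite 1 [show g.1.val *ᵥ e = (s (tgt g)).val *ᵥ e from (hse (tgt g)).symm]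
         rw [inv_act],
      by rw [mul_act]; nth_rewrite 1 [show g.1.val *ᵥ f = (s (tgt g)).val *ᵥ f from (hsf (tgt g)).symm]
         rw [inv_act]⟩
  have e1 : relIso Q B U ≃ P × relIso Q B (perp2 B U e f) :=
    { toFun := fun g => (tgt g, ⟨_, hst g⟩)
      invFun := fun p => ⟨s p.1 * p.2.1, mul_mem (hsm _) ((mem_relIso_perp2 C H _).mp p.2.2).1⟩
      left_inv := fun g => Subtype.ext (mul_inv_cancel_left _ _)
      right_inv := fun p => by
        obtain ⟨-, he', hf'⟩ := (mem_relIso_perp2 C H _).mp p.2.2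
        have ht : ∀ h, tgt ⟨s p.1 * p.2.1, h⟩ = p.1 := fun h => Subtype.ext (Prod.ext
          (by show (s p.1 * p.2.1).val *ᵥ e = _; rw [mul_act, he', hse])
          (by show (s p.1 * p.2.1).val *ᵥ f = _; rw [mul_act, hf', hsf]))
        refine Prod.ext (ht _) (Subtype.ext ?_)
        show (s (tgt ⟨s p.1 * p.2.1, _⟩))⁻¹ * (s p.1 * p.2.1) = p.2.1
        rw [ht, inv_mul_cancel_left] }
  -- the hyperbolic partners of a singular vector
  let S := {x : ι → F // x ∈ U ∧ Q x = 0 ∧ x ≠ 0}
  have e2 : P ≃ Σ x : S, {y : ι → F // Hyp Q B U x.1 y} :=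
    { toFun := fun p => ⟨⟨p.1.1, p.2.memE, p.2.singE, fun h0 => by
        have := p.2.pair; rw [h0, map_zero, LinearMap.zero_apply] at this
        exact zero_ne_one this⟩, ⟨p.1.2, p.2⟩⟩
      invFun := fun p => ⟨(p.1.1, p.2.1), p.2.2⟩
      left_inv := fun _ => rfl
      right_inv := fun _ => rfl }
  have hfib : ∀ x : S, (Nat.card {y : ι → F // Hyp Q B U x.1 y} : ℤ) =
      Nat.card ↥(perp2 B U e f) := by
    rintro ⟨x, hx, hQx, hx0⟩
    obtain ⟨y0, H0⟩ := exists_hyp C hU hx hx0 hQx
    have e3 : {y : ι → F // Hyp Q B U x y} ≃ ↥(perp2 B U x y0) :=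
      { toFun := fun y => ⟨_, H0.proj C y.2.memF⟩
        invFun := fun a => ⟨a.1 + (-Q a.1) • x + (1 : F) • y0, hx,
          U.add_mem (U.add_mem (mem_perp2.mp a.2).1 (U.smul_mem _ hx)) (U.smul_mem _ H0.memF),
          hQx, by rw [Q_hyp C H0 a.2, mul_one, add_neg_cancel],
          by simp [(mem_perp2.mp a.2).2.1, C.self_zero hQx, H0.pair]⟩
        left_inv := fun y => Subtype.ext (by
          have h := Q_hyp C H0 (H0.proj C y.2.memF) (B y0 y.1) (B x y.1)
          rw [show y.1 - B y0 y.1 • x - B x y.1 • y0 + B y0 y.1 • x + B x y.1 • y0 = y.1 by abel,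
            y.2.singF, y.2.pair, mul_one] at h
          have h' : -Q (y.1 - B y0 y.1 • x - (1 : F) • y0) = B y0 y.1 := by linear_combination h
          simp only
          rw [y.2.pair, h']
          abel)
        right_inv := fun a => Subtype.ext (by
          obtain ⟨-, hxa, hya⟩ := mem_perp2.mp a.2
          have h1 : B y0 (a.1 + (-Q a.1) • x + (1 : F) • y0) = -Q a.1 := by
            simp [hya, H0.pair' C, C.self_zero H0.singF]
          have h2 : B x (a.1 + (-Q a.1) • x + (1 : F) • y0) = 1 := by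
            simp [hxa, H0.pair, C.self_zero hQx]
          simp only [h1, h2]
          abel) }
    rw [Nat.card_congr e3]
    have h1 := card_step C H0
    rw [card_step C H] at h1
    have hq : (Nat.card F : ℤ) ≠ 0 := by exact_mod_cast Nat.card_pos.ne'
    exact (mul_left_cancel₀ (pow_ne_zero 2 hq) h1).symm
  have hS : (Nat.card S : ℤ) = sgCount Q U - 1 := by
    have e4 : {x : ι → F // x ∈ U ∧ Q x = 0} ≃ Option S :=
      { toFun := fun x => if h : x.1 = 0 then none else some ⟨x.1, x.2.1, x.2.2, h⟩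
        invFun := fun o => o.elim ⟨0, U.zero_mem, C.zero⟩ fun x => ⟨x.1, x.2.1, x.2.2.1⟩
        left_inv := fun x => by
          by_cases h : x.1 = 0
          · simp only [dif_pos h]; exact Subtype.ext h.symm
          · simp only [dif_neg h]; rfl
        right_inv := fun o => by
          cases o with
          | none => simp
          | some x => simp [x.2.2.2] }
    rw [sgCount, Nat.card_congr e4, Finite.card_option]
    push_cast
    ring
  rw [Nat.card_congr e1, Nat.card_prod, Nat.card_congr e2, Nat.card_sigma]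
  push_cast
  rw [Finset.sum_congr rfl fun x _ => hfib x, Finset.sum_const, Finset.card_univ, nsmul_eq_mul,
    ← Nat.card_eq_fintype_card, hS]

end Step

/-- The part perpendicular to the first `j` pairs of a hyperbolic family. -/
def restOf (B : LinearMap.BilinForm F (ι → F)) {m : ℕ} (e f : Fin m → ι → F) :
    ℕ → Submodule F (ι → F)
  | 0 => ⊤
  | j + 1 => if h : j < m then perp2 B (restOf B e f j) (e ⟨j, h⟩) (f ⟨j, h⟩) else restOf B e f j

omit [Finite F] in
theorem restOf_succ {m : ℕ} (e f : Fin m → ι → F) {j : ℕ} (h : j < m) :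
    restOf B e f (j + 1) = perp2 B (restOf B e f j) (e ⟨j, h⟩) (f ⟨j, h⟩) := dif_pos h

omit [Finite F] in
theorem mem_restOf {m : ℕ} (e f : Fin m → ι → F) : ∀ {j : ℕ}, j ≤ m → ∀ {x : ι → F},
    (x ∈ restOf B e f j ↔ ∀ i : Fin m, i.1 < j → B (e i) x = 0 ∧ B (f i) x = 0) := by
  intro j
  induction j with
  | zero => intro _ x; exact ⟨fun _ i hi => absurd hi (Nat.not_lt_zero _), fun _ => Submodule.mem_top⟩
  | succ j ih =>
    intro hj x
    rw [restOf_succ e f hj, mem_perp2, ih (Nat.le_of_lt hj)]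
    constructor
    · rintro ⟨h, h1, h2⟩ i hi
      rcases Nat.lt_succ_iff_lt_or_eq.mp hi with hi | hi
      · exact h i hi
      · rw [show i = ⟨j, hj⟩ from Fin.ext hi]; exact ⟨h1, h2⟩
    · intro h
      exact ⟨fun i hi => h i (by omega), h ⟨j, hj⟩ (Nat.lt_succ_self j)⟩

/-- A family of mutually perpendicular hyperbolic pairs. -/
structure HypFam (Q : (ι → F) → F) (B : LinearMap.BilinForm F (ι → F)) {m : ℕ}
    (e f : Fin m → ι → F) : Prop where
  singE : ∀ i, Q (e i) = 0
  singF : ∀ i, Q (f i) = 0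
  pair : ∀ i, B (e i) (f i) = 1
  ee : ∀ i j, i ≠ j → B (e i) (e j) = 0
  ff : ∀ i j, i ≠ j → B (f i) (f j) = 0
  ef : ∀ i j, i ≠ j → B (e i) (f j) = 0

/-- The three recursions along a hyperbolic family. -/
theorem hypFam_rec (C : Space Q B) {m : ℕ} {e f : Fin m → ι → F} (hf : HypFam Q B e f) :
    ∀ j (h : j < m), NDeg B (restOf B e f j) ∧
      (Nat.card ↥(restOf B e f j) : ℤ) = (Nat.card F : ℤ) ^ 2 * Nat.card ↥(restOf B e f (j + 1)) ∧
      sgCount Q (restOf B e f j) = (Nat.card F : ℤ) * sgCount Q (restOf B e f (j + 1)) +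
        ((Nat.card F : ℤ) - 1) * Nat.card ↥(restOf B e f (j + 1)) ∧
      (Nat.card ↥(relIso Q B (restOf B e f j)) : ℤ) =
        (sgCount Q (restOf B e f j) - 1) * Nat.card ↥(restOf B e f (j + 1)) *
          Nat.card ↥(relIso Q B (restOf B e f (j + 1))) := by
  have hyp : ∀ j (h : j < m), Hyp Q B (restOf B e f j) (e ⟨j, h⟩) (f ⟨j, h⟩) := fun j h =>
    ⟨(mem_restOf e f h.le).mpr fun i hi => by
        have hne : i ≠ ⟨j, h⟩ := fun he => by rw [he] at hi; exact lt_irrefl j hi
        exact ⟨hf.ee _ _ hne, by rw [C.symm]; exact hf.ef _ _ hne.symm⟩,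
      (mem_restOf e f h.le).mpr fun i hi => by
        have hne : i ≠ ⟨j, h⟩ := fun he => by rw [he] at hi; exact lt_irrefl j hi
        exact ⟨hf.ef _ _ hne, hf.ff _ _ hne⟩,
      hf.singE _, hf.singF _, hf.pair _⟩
  have hnd : ∀ j, j < m → NDeg B (restOf B e f j) := by
    intro j
    induction j with
    | zero => exact fun _ => C.ndeg_top
    | succ j ih =>
      intro h
      rw [restOf_succ e f (Nat.lt_of_succ_lt h)]
      exact (hyp j _).ndeg C (ih (Nat.lt_of_succ_lt h))
  intro j h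
  rw [restOf_succ e f h]
  exact ⟨hnd j h, card_step C (hyp j h), sgCount_step C (hyp j h),
    card_relIso_step C (hnd j h) (hyp j h)⟩

end Cfsg.Lib.Linear.Orth
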