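import Cfsg.Agent.Lib.Linear.MinIndexRegular
import Cfsg.Agent.Lib.Linear.AutPSL.Main

/-!
# The minimal index of a proper subgroup of `SL_n(q)`, `n ≥ 3`
-/

set_option autoImplicit false

namespace Cfsg.Lib.Linear.MinIndex

open Matrix MulAction Cfsg.Lib.Linear Cfsg.Lib.Linear.TVec Cfsg.Lib.Linear.AutPSL
open scoped MatrixGroups LinearAlgebra.Projectivization

variable {ι : Type} [Fintype ι] [DecidableEq ι] {F : Type*} [Field F]

theorem exists_separating {v w : ι → F} (hv : v ≠ 0) (hw : w ∉ Submodule.span F {v}) :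
    ∃ b : ι → F, b ⬝ᵥ v = 0 ∧ b ⬝ᵥ w ≠ 0 := by
  obtain ⟨i, hi : v i ≠ 0⟩ := Function.ne_iff.1 hv
  by_contra h
  push Not at h
  refine hw (Submodule.mem_span_singleton.2 ⟨w i / v i, funext fun k => ?_⟩)
  have := h (v i • Pi.single k 1 - v k • Pi.single i 1) (by
    simp [sub_dotProduct, smul_dotProduct, single_dotProduct]; ring)
  simp [sub_dotProduct, smul_dotProduct, single_dotProduct] at this
  rw [Pi.smul_apply, smul_eq_mul]
  field_simp
  linear_combination -this

theorem exists_prop {φ ψ : ι → F} (hφ : φ ≠ 0) (h : ∀ z, φ ⬝ᵥ z = 0 → ψ ⬝ᵥ z = 0) : ∃ c : F, ψ = c • φ := by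
  by_contra hne
  push Not at hne
  obtain ⟨b, hb, hb'⟩ := exists_separating (w := ψ) hφ (fun hm => by
    obtain ⟨c, hc⟩ := Submodule.mem_span_singleton.1 hm
    exact hne c hc.symm)
  exact hb' (by rw [dotProduct_comm]; exact h b (by rw [dotProduct_comm]; exact hb))

theorem inT_map_tinv {P : Subgroup (SpecialLinearGroup ι F)} {z a : ι → F} :
    TVec.InT ((P.map (tinv : SpecialLinearGroup ι F ≃* _).toMonoidHom).map SpecialLinearGroup.toGL) z a ↔
      TVec.InT (P.map SpecialLinearGroup.toGL) a (-z) := by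
  rw [inT_map_toGL, inT_map_toGL]
  have key : a ⬝ᵥ z = 0 → tinv (tau z a) = tau a (-z) := fun h => by
    have hna : (-a) ⬝ᵥ z = 0 := by rw [neg_dotProduct, h, neg_zero]
    refine Subtype.ext ?_
    rw [tinv_coe, inv_eq_of_mul_eq_one_left (a := tau z (-a)) (by rw [← tau_add hna h, neg_add_cancel, tau_zero]),
      tau_val hna, tau_val (by rw [neg_dotProduct, dotProduct_comm, h, neg_zero]), tvMat, tvMat,
      Matrix.transpose_add, Matrix.transpose_one, Matrix.transpose_vecMulVec, Matrix.neg_vecMulVec,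
      Matrix.vecMulVec_neg]
  constructor
  · rintro ⟨h, hm⟩
    refine ⟨by rw [neg_dotProduct, dotProduct_comm, h, neg_zero], ?_⟩
    obtain ⟨g, hg, hge⟩ := hm
    rw [← key h, ← hge]
    simpa [tinv_tinv] using hg
  · rintro ⟨h, hm⟩
    have h' : a ⬝ᵥ z = 0 := by rwa [neg_dotProduct, neg_eq_zero, dotProduct_comm] at h
    refine ⟨h', tau a (-z), hm, ?_⟩
    rw [← key h']
    exact tinv_tinv _

theorem inT_neg_iff {L : Subgroup (GL ι F)} {z a : ι → F} : TVec.InT L z (-a) ↔ TVec.InT L z a :=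
  ⟨fun h => neg_neg a ▸ inT_neg h, inT_neg⟩

theorem full_smul {L : Subgroup (GL ι F)} (c : F) {w : ι → F} (hw : Full L w) : Full L (c • w) := fun a ha => by
  rcases eq_or_ne c 0 with rfl | hc
  · rw [zero_smul]; exact inT_zero_left a
  · rw [dotProduct_smul, smul_eq_mul, mul_eq_zero] at ha
    exact inT_smul_left (hw _ (by rw [smul_dotProduct, ha.resolve_left hc, smul_zero]))

/-- The centres of the full groups of transvections in a subgroup form a subspace. -/
def fullSubmodule (L : Subgroup (GL ι F)) : Submodule F (ι → F) :=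
    { carrier := {w | Full L w}
      zero_mem' := full_zero
      add_mem' := by
        intro v w hv hw
        rcases eq_or_ne v 0 with rfl | hv0
        · simpa using hw
        by_cases hwv : w ∈ Submodule.span F {v}
        · obtain ⟨c, rfl⟩ := Submodule.mem_span_singleton.1 hwv
          have := full_smul (1 + c) hv
          rwa [add_smul, one_smul] at this
        intro a ha
        by_cases hav : a ⬝ᵥ v = 0
        · exact inT_add_left (hv a hav) (hw a (by rwa [dotProduct_add, hav, zero_add] at ha))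
        obtain ⟨b, hb, hbw⟩ := exists_separating hv0 hwv
        set b' := (b ⬝ᵥ w)⁻¹ • b
        have hb' : b' ⬝ᵥ v = 0 := by rw [smul_dotProduct, hb, smul_zero]
        have h1 := full_mulVec (hv b' hb').2 hw
        rw [coe_tv, tvMat_mulVec, smul_dotProduct, smul_eq_mul, inv_mul_cancel₀ hbw, one_smul, add_comm] at h1
        exact h1 a ha
      smul_mem' := fun _ w hw => full_smul _ hw }

theorem mem_fullSubmodule {L : Subgroup (GL ι F)} {w : ι → F} : w ∈ fullSubmodule L ↔ Full L w := Iff.rfl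

variable [Fintype F] {P : Subgroup (SpecialLinearGroup ι F)}

theorem le_index_of_full (p : ℕ) [Fact p.Prime] [CharP F p] (hn : 3 ≤ Fintype.card ι) (hP : P ≠ ⊤)
    {z : ι → F} (hz0 : z ≠ 0) (hz : Full (P.map SpecialLinearGroup.toGL) z) :
    Fintype.card F ^ Fintype.card ι ≤ P.index * (Fintype.card F - 1) + 1 := by
  set L := P.map SpecialLinearGroup.toGL
  let W : Submodule F (ι → F) := fullSubmodule L
  have hWP : ∀ g ∈ P, ∀ w ∈ W, g.1 *ᵥ w ∈ W := fun g hg w hw =>
    full_mulVec (g := SpecialLinearGroup.toGL g) (Subgroup.mem_map_of_mem _ hg) hw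
  have hWtop : W ≠ ⊤ := fun h => hP (eq_top_iff.2 fun x _ => by
    have hx : SpecialLinearGroup.toGL x ∈ L :=
      SL_le_of_full (fun w => (h ▸ Submodule.mem_top : w ∈ W)) (Units.ext (by simp))
    obtain ⟨y, hy, hxy⟩ := hx
    exact toGL_injective' hxy ▸ hy)
  have hk1 : 1 ≤ Module.finrank F W := Submodule.one_le_finrank_iff.2 fun h => hz0 (by
    have : z ∈ W := hz
    simpa [h] using this)
  have hk2 : Module.finrank F W < Fintype.card ι := by
    have := Submodule.finrank_lt hWtop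
    rwa [Module.finrank_fintype_fun_eq_card] at this
  have hpts : ∀ K : Subgroup (SpecialLinearGroup ι F), P ≤ K → K.index = Nat.card (ℙ F (ι → F)) →
      Fintype.card F ^ Fintype.card ι ≤ P.index * (Fintype.card F - 1) + 1 := fun K hK hK' => by
    rw [← card_points, ← hK']
    gcongr
  by_cases hk : Module.finrank F W = 1
  · refine hpts (St z) (fun g hg => ?_) (index_St hz0)
    have hWe : W = Submodule.span F {z} := (Submodule.eq_of_le_of_finrank_le
      ((Submodule.span_singleton_le_iff_mem _ _).2 hz) (by rw [hk, finrank_span_singleton hz0])).symm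
    obtain ⟨c, hc⟩ := Submodule.mem_span_singleton.1 (hWe ▸ hWP g hg z hz)
    exact ⟨c, hc.symm⟩
  by_cases hk' : Module.finrank F W + 1 = Fintype.card ι
  · obtain ⟨x, -, hx⟩ := SetLike.exists_of_lt (lt_top_iff_ne_top.2 hWtop)
    obtain ⟨f, hfx, hf⟩ := Submodule.exists_dual_map_eq_bot_of_notMem hx inferInstance
    let φ : ι → F := (dotProductEquiv F ι).symm f
    have hφ : ∀ w, φ ⬝ᵥ w = f w := fun w => LinearMap.congr_fun ((dotProductEquiv F ι).apply_symm_apply f) w
    have hφ0 : φ ≠ 0 := fun h => hfx (by rw [← hφ, h, zero_dotProduct])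
    have hWe : W = LinearMap.ker f := by
      have hfk := Module.Dual.finrank_ker_add_one_of_ne_zero (f := f) (fun h => hfx (by rw [h]; rfl))
      rw [Module.finrank_fintype_fun_eq_card] at hfk
      refine Submodule.eq_of_le_of_finrank_le (fun w hw => ?_) (by omega)
      have h1 : f w ∈ W.map f := ⟨w, hw, rfl⟩
      rwa [hf, Submodule.mem_bot] at h1
    refine hpts (Sf φ) (fun g hg => mem_Sf.2 ?_) (index_Sf hφ0)
    obtain ⟨c, hc⟩ := exists_prop (φ := φ) (ψ := (tinv g).1 *ᵥ φ) hφ0 fun w hw => by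
      rw [tinv_coe, Matrix.mulVec_transpose, ← Matrix.dotProduct_mulVec, hφ]
      have h1 := hWP _ (P.inv_mem hg) w (hWe ▸ LinearMap.mem_ker.2 (by rw [← hφ]; exact hw))
      rwa [hWe, LinearMap.mem_ker] at h1
    exact ⟨c, hc⟩
  · refine le_trans ?_ (Nat.le_add_right_of_le (Nat.le_mul_of_pos_right _
      (by have := Fintype.one_lt_card (α := F); omega)))
    refine le_trans (Nat.pow_le_pow_right Fintype.card_pos ?_) (pow_le_index W P hWP p)
    obtain ⟨a, ha⟩ : ∃ a, Module.finrank F W = a + 2 := ⟨_ - 2, (Nat.sub_add_cancel (by omega)).symm⟩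
    obtain ⟨b, hb⟩ : ∃ b, Fintype.card ι - Module.finrank F W = b + 2 := ⟨_ - 2, (Nat.sub_add_cancel (by omega)).symm⟩
    rw [hb, ha]
    have : Fintype.card ι = a + b + 4 := by omega
    nlinarith

/-- Every proper subgroup of `SL_n(q)` has index at least the number of points. -/
theorem le_index (p : ℕ) [Fact p.Prime] [CharP F p] (hn : 3 ≤ Fintype.card ι)
    (hexc : ¬ (Fintype.card ι = 4 ∧ Fintype.card F = 2)) (hP : P ≠ ⊤) :
    Fintype.card F ^ Fintype.card ι ≤ P.index * (Fintype.card F - 1) + 1 := by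
  by_contra hlt
  push Not at hlt
  let := ZMod.algebra F p
  set P' := P.map (tinv : SpecialLinearGroup ι F ≃* _).toMonoidHom
  have hidx : P'.index = P.index := Subgroup.index_map_of_bijective (tinv : SpecialLinearGroup ι F ≃* _).bijective P
  have hP' : P' ≠ ⊤ := fun h => hP (Subgroup.index_eq_one.1 (by rw [← hidx, h, Subgroup.index_top]))
  have hNF : ∀ z : ι → F, z ≠ 0 → ¬ Full (P.map SpecialLinearGroup.toGL) z := fun z hz h =>
    absurd (le_index_of_full p hn hP hz h) (not_le.2 hlt)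
  have hNF' : ∀ z : ι → F, z ≠ 0 → ¬ Full (P'.map SpecialLinearGroup.toGL) z := fun z hz h =>
    absurd (le_index_of_full p hn hP' hz h) (not_le.2 (by rwa [hidx]))
  set q := Fintype.card F
  have hq : 2 ≤ q := Fintype.one_lt_card
  by_cases hA : P.index * q = q ^ Fintype.card ι
  · refine false_of_regular hn hexc hA fun v hv a ha => ?_
    rcases dichotomy p hn hv hNF hlt with ⟨-, h⟩ | ⟨h, -⟩
    · exact h a ha
    · exfalso
      have hN : P.index = q := by
        change P.index * (q - 1) + q = q ^ _ at h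
        rw [← hA, Nat.mul_sub, mul_one] at h
        have := Nat.le_mul_of_pos_right P.index (show 0 < q by omega)
        omega
      have : q ^ 2 < q ^ Fintype.card ι := Nat.pow_lt_pow_right (by omega) (by omega)
      rw [← hA, hN, sq] at this
      exact lt_irrefl _ this
  have hB : ∀ v : ι → F, v ≠ 0 → ∃ w ∉ Submodule.span F {v},
      ∀ a, TVec.InT (P.map SpecialLinearGroup.toGL) v a ↔ a ⬝ᵥ v = 0 ∧ a ⬝ᵥ w = 0 := fun v hv => by
    rcases dichotomy p hn hv hNF hlt with ⟨h, -⟩ | ⟨-, h⟩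
    exacts [absurd h hA, h]
  have hB' : ∀ v : ι → F, v ≠ 0 → ∃ w ∉ Submodule.span F {v},
      ∀ a, TVec.InT (P'.map SpecialLinearGroup.toGL) v a ↔ a ⬝ᵥ v = 0 ∧ a ⬝ᵥ w = 0 := fun v hv => by
    rcases dichotomy p hn hv hNF' (by rwa [hidx]) with ⟨h, -⟩ | ⟨-, h⟩
    exacts [absurd (hidx ▸ h) hA, h]
  have hne : Nonempty ι := Fintype.card_pos_iff.1 (by omega)
  obtain ⟨i⟩ := hne
  set φ : ι → F := Pi.single i 1
  have hφ : φ ≠ 0 := Pi.single_ne_zero_iff.2 one_ne_zero
  obtain ⟨u, hu, hcen⟩ := hB' φ hφ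
  have hcen' : ∀ x, x ⬝ᵥ φ = 0 → x ⬝ᵥ u = 0 → TVec.InT (P.map SpecialLinearGroup.toGL) x φ := fun x h1 h2 => by
    have h3 := inT_map_tinv.1 ((hcen x).2 ⟨h1, h2⟩)
    exact inT_neg_iff.1 h3
  obtain ⟨y, hyφ, hyu⟩ := exists_separating hφ hu
  have hy0 : y ≠ 0 := fun h => hyu (by rw [h, zero_dotProduct])
  obtain ⟨w, hw, hax⟩ := hB y hy0
  obtain ⟨ψ, hψ0, hψy, hψw⟩ : ∃ ψ : ι → F, ψ ≠ 0 ∧ ψ ⬝ᵥ y = 0 ∧ ψ ⬝ᵥ w = 0 := by
    obtain ⟨ψ, hψ, hψ0⟩ := Submodule.exists_mem_ne_zero_of_ne_bot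
      (LinearMap.ker_ne_bot_of_finrank_lt (f := (dotProductBilin F F y).prod (dotProductBilin F F w))
        (by rw [Module.finrank_prod, Module.finrank_self, Module.finrank_fintype_fun_eq_card]; omega))
    rw [LinearMap.mem_ker, LinearMap.prod_apply, Prod.mk_eq_zero] at hψ
    exact ⟨ψ, hψ0, (dotProduct_comm _ _).trans hψ.1, (dotProduct_comm _ _).trans hψ.2⟩
  have hyψ := (hax ψ).2 ⟨hψy, hψw⟩
  have hnot : ∀ c : F, c ≠ 0 → ¬ TVec.InT (P.map SpecialLinearGroup.toGL) y (c • φ) := fun c hc h => by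
    obtain ⟨-, h2⟩ := (hax _).1 h
    rw [smul_dotProduct, smul_eq_zero] at h2
    have h3 := (hax φ).2 ⟨by rw [dotProduct_comm, hyφ], h2.resolve_left hc⟩
    have h4 := (hcen _).1 (inT_map_tinv.2 (inT_neg_iff.2 h3))
    exact hyu h4.2
  obtain ⟨c, hc⟩ := exists_prop (φ := φ) (ψ := ψ) hφ fun z hz => by
    set x := z - (z ⬝ᵥ u / y ⬝ᵥ u) • y with hx
    have hxφ : x ⬝ᵥ φ = 0 := by
      rw [hx, sub_dotProduct, smul_dotProduct, hyφ, smul_zero, sub_zero, dotProduct_comm, hz]
    have hxu : x ⬝ᵥ u = 0 := by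
      rw [hx, sub_dotProduct, smul_dotProduct, smul_eq_mul, div_mul_cancel₀ _ hyu, sub_self]
    have h1 := inT_comm hyψ (hcen' x hxφ hxu) (by rw [dotProduct_comm, hyφ])
    by_contra hne
    refine hnot _ (fun h => hne ?_) h1
    rwa [hx, dotProduct_sub, dotProduct_smul, hψy, smul_zero, sub_zero] at h
  exact hnot c (fun h => hψ0 (by rw [hc, h, zero_smul])) (hc ▸ hyψ)

end Cfsg.Lib.Linear.MinIndex
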