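import Cfsg.Agent.Lib.Linear.MinIndexOrbit

/-!
# A subgroup of index `q ^ (n - 1)` meeting every group of transvections trivially

Such a subgroup of `SL_n(q)`, `n ≥ 3`, exists only for `(n, q) = (4, 2)`: its intersection with the stabiliser
of a point would be a complement to the transvections with that centre, and this forces it to contain a
transvection.
-/

set_option autoImplicit false

namespace Cfsg.Lib.Linear.MinIndex

open Matrix MulAction Cfsg.Lib.Linear Cfsg.Lib.Linear.TVec Cfsg.Lib.Linear.AutPSL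
open scoped MatrixGroups

variable {ι : Type} [Fintype ι] [DecidableEq ι] {F : Type*} [Field F]

theorem vecMul_one_add_single (a : ι → F) (i j : ι) (c : F) (x : ι) :
    (a ᵥ* (1 + single i j c)) x = a x + if x = j then a i * c else 0 := by
  rw [vecMul_add, vecMul_one, Pi.add_apply]
  congr 1
  split_ifs with h
  · subst h
    simp [vecMul, dotProduct, single_apply]
  · simp [vecMul, dotProduct, Ne.symm h]

theorem vecMul_transvection (a : ι → F) {i j : ι} (h : i ≠ j) (c : F) (x : ι) :
    (a ᵥ* (SpecialLinearGroup.transvection h c).1) x = a x + if x = j then a i * c else 0 := by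
  rw [coe_transvection, vecMul_one_add_single]

theorem transvection_mulVec_single {i j l : ι} (h : i ≠ j) (hl : l ≠ j) (c : F) :
    (SpecialLinearGroup.transvection h c).1 *ᵥ Pi.single l 1 = Pi.single l 1 := by
  rw [coe_transvection, add_mulVec, one_mulVec, add_eq_left]
  funext x
  simp [mulVec_single, single_apply, Ne.symm hl]

theorem transvection_comm {i j k m : ι} (h : i ≠ j) (h' : k ≠ m) (hjk : j ≠ k) (hmi : m ≠ i) (c d : F) :
    SpecialLinearGroup.transvection h c * SpecialLinearGroup.transvection h' d =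
      SpecialLinearGroup.transvection h' d * SpecialLinearGroup.transvection h c := by
  refine Subtype.ext ?_
  show (SpecialLinearGroup.transvection h c).1 * (SpecialLinearGroup.transvection h' d).1 =
    (SpecialLinearGroup.transvection h' d).1 * (SpecialLinearGroup.transvection h c).1
  have e1 : single i j c * single k m d = 0 := single_mul_single_of_ne (h := hjk) ..
  have e2 : single k m d * single i j c = 0 := single_mul_single_of_ne (h := hmi) ..
  rw [coe_transvection, coe_transvection]
  simp only [Matrix.mul_add, Matrix.add_mul, Matrix.one_mul, Matrix.mul_one, e1, e2, add_zero]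
  abel

theorem dotProduct_vecMul_eq_zero {a e : ι → F} {g : SpecialLinearGroup ι F} {δ : F} (ha : a ⬝ᵥ e = 0)
    (hg : g.1 *ᵥ e = δ • e) : (a ᵥ* g.1) ⬝ᵥ e = 0 := by
  rw [← dotProduct_mulVec, hg, dotProduct_smul, ha, smul_zero]

/-- Moving a transvection past an element fixing its centre up to a scalar. -/
theorem tau_mul_of_smul {a e : ι → F} {g : SpecialLinearGroup ι F} {δ : F} (hδ : δ ≠ 0) (ha : a ⬝ᵥ e = 0)
    (hg : g.1 *ᵥ e = δ • e) : tau e a * g = g * tau e (δ⁻¹ • (a ᵥ* g.1)) := by
  refine Subtype.ext ?_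
  show (tau e a).1 * g.1 = g.1 * (tau e (δ⁻¹ • (a ᵥ* g.1))).1
  rw [tau_val ha, tau_val (by rw [smul_dotProduct, dotProduct_vecMul_eq_zero ha hg, smul_zero]), tvMat, tvMat,
    Matrix.add_mul, Matrix.mul_add, Matrix.one_mul, Matrix.mul_one, Matrix.vecMulVec_mul, Matrix.mul_vecMulVec, hg]
  congr 1
  ext x y
  simp only [vecMulVec_apply, Pi.smul_apply, smul_eq_mul]
  field_simp

/-- The product of two lifts. -/
theorem mul_tau {a b e : ι → F} {A B : SpecialLinearGroup ι F} {δ : F} (hδ : δ ≠ 0) (ha : a ⬝ᵥ e = 0)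
    (hb : b ⬝ᵥ e = 0) (hB : B.1 *ᵥ e = δ • e) :
    A * tau e a * (B * tau e b) = A * B * tau e (δ⁻¹ • (a ᵥ* B.1) + b) := by
  rw [tau_add (by rw [smul_dotProduct, dotProduct_vecMul_eq_zero ha hB, smul_zero]) hb, mul_assoc A,
    ← mul_assoc (tau e a), tau_mul_of_smul hδ ha hB]
  simp only [mul_assoc]

variable [Fintype F] {P : Subgroup (SpecialLinearGroup ι F)}

/-- Every element is the product of an element of `P` and a transvection with the given centre. -/
theorem exists_lift {e : ι → F} (he : e ≠ 0) (hN : P.index * Fintype.card F = Fintype.card F ^ Fintype.card ι)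
    (htriv : ∀ a, TVec.InT (P.map SpecialLinearGroup.toGL) e a → a = 0) (g : SpecialLinearGroup ι F) :
    ∃ a, a ⬝ᵥ e = 0 ∧ g * tau e a ∈ P := by
  let f : Tc e → SpecialLinearGroup ι F ⧸ P := fun t => ((t : SpecialLinearGroup ι F) : SpecialLinearGroup ι F ⧸ P)
  have hinj : Function.Injective f := by
    rintro ⟨s, a, ha, hs⟩ ⟨t, b, hb, ht⟩ h
    have hsa : s = tau e a := Subtype.ext (by rw [tau_val ha]; exact hs)
    have htb : t = tau e b := Subtype.ext (by rw [tau_val hb]; exact ht)
    have h1 : (tau e a)⁻¹ * tau e b ∈ P := by rw [← hsa, ← htb]; exact QuotientGroup.eq.1 h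
    have hna : (-a) ⬝ᵥ e = 0 := by rw [neg_dotProduct, ha, neg_zero]
    rw [inv_eq_of_mul_eq_one_left (a := tau e (-a)) (by rw [← tau_add hna ha, neg_add_cancel, tau_zero]),
      ← tau_add hna hb] at h1
    have h2 := htriv _ (inT_map_toGL.2 ⟨by rw [add_dotProduct, hna, hb, add_zero], h1⟩)
    rw [neg_add_eq_zero] at h2
    subst h2
    exact Subtype.ext (hsa.trans htb.symm)
  have hcard : Nat.card (SpecialLinearGroup ι F ⧸ P) ≤ Nat.card (Tc e) := by
    refine Nat.le_of_mul_le_mul_right (le_of_eq ?_) (Fintype.card_pos (α := F))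
    rw [← Subgroup.index_eq_card, hN, card_Tc he]
  obtain ⟨t, ht⟩ := (hinj.bijective_of_nat_card_le hcard).2 (g⁻¹ : SpecialLinearGroup ι F)
  obtain ⟨t, a, ha, hta⟩ := t
  refine ⟨a, ha, ?_⟩
  have htb : t = tau e a := Subtype.ext (by rw [tau_val ha]; exact hta)
  subst htb
  have h := P.inv_mem (QuotientGroup.eq.1 ht)
  simpa using h

variable {e : ι → F} (htriv : ∀ a, TVec.InT (P.map SpecialLinearGroup.toGL) e a → a = 0)

include htriv in
theorem eq_of_mem {A : SpecialLinearGroup ι F} {a b : ι → F} (ha : a ⬝ᵥ e = 0) (hb : b ⬝ᵥ e = 0)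
    (hA : A * tau e a ∈ P) (hB : A * tau e b ∈ P) : a = b := by
  have hna : (-a) ⬝ᵥ e = 0 := by rw [neg_dotProduct, ha, neg_zero]
  have h1 := P.mul_mem (P.inv_mem hA) hB
  rw [_root_.mul_inv_rev, mul_assoc, inv_mul_cancel_left,
    inv_eq_of_mul_eq_one_left (a := tau e (-a)) (by rw [← tau_add hna ha, neg_add_cancel, tau_zero]),
    ← tau_add hna hb] at h1
  have h2 := htriv _ (inT_map_toGL.2 ⟨by rw [add_dotProduct, hna, hb, add_zero], h1⟩)
  exact neg_add_eq_zero.1 h2

include htriv in
/-- Lifts of commuting elements commute. -/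
theorem step {X S : SpecialLinearGroup ι F} {r s : ι → F} {δ : F} (hδ : δ ≠ 0) (hX : X.1 *ᵥ e = e)
    (hXS : X * S = S * X) (hS : S.1 *ᵥ e = δ • e) (hr : r ⬝ᵥ e = 0) (hs : s ⬝ᵥ e = 0) (hXr : X * tau e r ∈ P)
    (hSs : S * tau e s ∈ P) : δ⁻¹ • (r ᵥ* S.1) + s = s ᵥ* X.1 + r := by
  have hX' : X.1 *ᵥ e = (1 : F) • e := by rw [one_smul, hX]
  have h1 := P.mul_mem hXr hSs
  have h2 := P.mul_mem hSs hXr
  rw [mul_tau hδ hr hs hS, hXS] at h1
  rw [mul_tau one_ne_zero hs hr hX', inv_one, one_smul] at h2
  refine eq_of_mem htriv ?_ ?_ h1 h2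
  · rw [add_dotProduct, smul_dotProduct, dotProduct_vecMul_eq_zero hr hS, hs, smul_zero, add_zero]
  · rw [add_dotProduct, dotProduct_vecMul_eq_zero hs hX', hr, add_zero]

include htriv in
/-- The lift of an involution. -/
theorem step_sq {X : SpecialLinearGroup ι F} {r : ι → F} (hX : X.1 *ᵥ e = e) (hXX : X * X = 1)
    (hr : r ⬝ᵥ e = 0) (hXr : X * tau e r ∈ P) : r ᵥ* X.1 + r = 0 := by
  have hX' : X.1 *ᵥ e = (1 : F) • e := by rw [one_smul, hX]
  have h1 := P.mul_mem hXr hXr
  rw [mul_tau one_ne_zero hr hr hX', hXX, inv_one, one_smul, one_mul] at h1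
  exact htriv _ (inT_map_toGL.2 ⟨by rw [add_dotProduct, dotProduct_vecMul_eq_zero hr hX', hr, add_zero], h1⟩)

omit e htriv in
/-- A diagonal element. -/
theorem exists_diag (d : ι → F) (hd : ∏ x, d x = 1) :
    ∃ S : SpecialLinearGroup ι F, S.1 = diagonal d := ⟨⟨diagonal d, by rw [det_diagonal, hd]⟩, rfl⟩

omit e htriv in
set_option maxHeartbeats 1600000 in
theorem false_of_regular (hn : 3 ≤ Fintype.card ι) (hexc : ¬ (Fintype.card ι = 4 ∧ Fintype.card F = 2))
    (hN : P.index * Fintype.card F = Fintype.card F ^ Fintype.card ι)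
    (htriv : ∀ v : ι → F, v ≠ 0 → ∀ a, TVec.InT (P.map SpecialLinearGroup.toGL) v a → a = 0) : False := by
  classical
  obtain ⟨i, j, l, hij, hil, hjl⟩ := Fintype.two_lt_card_iff.1 hn
  set e : ι → F := Pi.single l 1 with he
  have he0 : e ≠ 0 := Pi.single_ne_zero_iff.2 one_ne_zero
  have ht := htriv e he0
  have hdot : ∀ {a : ι → F}, a ⬝ᵥ e = 0 → a l = 0 := fun {a} h => by
    simpa [he, dotProduct_single] using h
  set X := SpecialLinearGroup.transvection hij (1 : F) with hX
  have hXe : X.1 *ᵥ e = e := transvection_mulVec_single hij hjl.symm 1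
  obtain ⟨r, hr, hXr⟩ := exists_lift he0 hN ht X
  suffices hsupp : ∀ k, k ≠ j → r k = 0 by
    set z : ι → F := Pi.single i 1 + r j • e with hz
    have hz0 : z ≠ 0 := fun h => by
      have := congrFun h i
      simp [hz, he, hil] at this
    have h1 : (X * tau e r).1 = tvMat z (Pi.single j 1) := by
      show X.1 * (tau e r).1 = _
      rw [tau_val hr, tvMat, tvMat, Matrix.mul_add, Matrix.mul_one, Matrix.mul_vecMulVec, hXe, hX, coe_transvection,
        hz, add_vecMulVec, ← add_assoc]
      congr 1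
      · congr 1
        ext x y
        simp [single_apply, vecMulVec_apply, Pi.single_apply, eq_comm]
        split_ifs <;> simp_all
      · ext x y
        rcases eq_or_ne y j with rfl | hy
        · simp [vecMulVec_apply, mul_comm]
        · simp [vecMulVec_apply, hsupp y hy, Pi.single_apply, hy]
    have hperp : (Pi.single j 1 : ι → F) ⬝ᵥ z = 0 := by
      simp [hz, he, hij.symm, hjl]
    have h2 := htriv z hz0 (Pi.single j 1) (inT_map_toGL.2 ⟨hperp, by
      convert hXr using 1
      exact Subtype.ext (by rw [tau_val hperp, h1])⟩)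
    exact one_ne_zero (α := F) (by simpa using congrFun h2 j)
  intro k hkj
  rcases eq_or_ne k l with rfl | hkl
  · exact hdot hr
  by_cases hm : ∃ m, m ≠ i ∧ m ≠ j ∧ m ≠ k ∧ m ≠ l
  · obtain ⟨m, hmi, hmj, hmk, hml⟩ := hm
    set S := SpecialLinearGroup.transvection hmk.symm (1 : F) with hS
    obtain ⟨s, hs, hSs⟩ := exists_lift he0 hN ht S
    have hSe : S.1 *ᵥ e = (1 : F) • e := by rw [one_smul]; exact transvection_mulVec_single hmk.symm hml.symm 1
    have := congrFun (step ht one_ne_zero hXe (transvection_comm hij hmk.symm hkj.symm hmi 1 1) hSe hr hs hXr hSs) m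
    simp only [inv_one, one_smul, Pi.add_apply, hX, hS, vecMul_transvection, if_true, if_neg hmj, mul_one] at this
    linear_combination this
  push Not at hm
  have hcases : ∀ x, x = i ∨ x = j ∨ x = k ∨ x = l := fun x => by
    by_contra h; push Not at h; exact h.2.2.2 (hm x h.1 h.2.1 h.2.2.1)
  have hll : e = Pi.single l 1 := he
  rcases eq_or_ne k i with rfl | hki
  · -- three dimensions
    by_cases h2 : (2 : F) = 0
    · have hXX : X * X = 1 := by
        rw [hX, ← inv_eq_iff_mul_eq_one, SpecialLinearGroup.transvection_inv, show (-1 : F) = 1 by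
          linear_combination (-1 : F) * h2]
      have := congrFun (step_sq ht hXe hXX hr hXr) j
      rw [Pi.add_apply, hX, vecMul_transvection, if_pos rfl, mul_one, Pi.zero_apply] at this
      linear_combination this - r j * h2
    · have hu : (Finset.univ : Finset ι) = {k, j, l} := by
        ext x; simp only [Finset.mem_univ, Finset.mem_insert, Finset.mem_singleton, true_iff]
        rcases hcases x with h | h | h | h <;> simp [h]
      obtain ⟨S, hS⟩ := exists_diag (fun x : ι => if x = l then (1 : F) else -1) (by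
        rw [hu]; simp [hkj, hil, hjl])
      obtain ⟨s, hs, hSs⟩ := exists_lift he0 hN ht S
      have hSe : S.1 *ᵥ e = (1 : F) • e := by
        rw [hS, hll]; funext x; rw [mulVec_diagonal]; rcases eq_or_ne x l with rfl | hx <;> simp [*]
      have hcomm : X * S = S * X := Subtype.ext (by
        show X.1 * S.1 = S.1 * X.1
        rw [hS, hX, coe_transvection, Matrix.add_mul, Matrix.mul_add, Matrix.one_mul, Matrix.mul_one]
        congr 1
        ext x y
        simp [Matrix.mul_diagonal, Matrix.diagonal_mul, single_apply]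
        split_ifs <;> simp_all)
      have := congrFun (step ht one_ne_zero hXe hcomm hSe hr hs hXr hSs) k
      rw [inv_one, one_smul, Pi.add_apply, Pi.add_apply, hX, hS, vecMul_transvection, vecMul_diagonal, if_neg hij,
        if_neg hil, mul_neg, mul_one, add_zero] at this
      exact (mul_eq_zero.1 (show (2 : F) * r k = 0 by linear_combination -this)).resolve_left h2
  -- four dimensions
  have hu : (Finset.univ : Finset ι) = {i, j, k, l} := by
    ext x; simp only [Finset.mem_univ, Finset.mem_insert, Finset.mem_singleton, true_iff]; exact hcases x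
  have hprod : ∀ d : ι → F, ∏ x, d x = d i * (d j * (d k * d l)) := fun d => by
    rw [hu]; simp [hij, hki.symm, hil, hkj.symm, hjl, hkl]
  by_cases hc : ∃ c : F, c ≠ 0 ∧ c * c ≠ 1
  · obtain ⟨c, hc0, hc1⟩ := hc
    obtain ⟨S, hS⟩ := exists_diag (fun x : ι => if x = k then c else if x = l then c⁻¹ else 1) (by
      rw [hprod]; simp [hki.symm, hil, hkj.symm, hjl, hkl.symm, hc0])
    obtain ⟨s, hs, hSs⟩ := exists_lift he0 hN ht S
    have hSe : S.1 *ᵥ e = c⁻¹ • e := by
      rw [hS, hll]; funext x; rw [mulVec_diagonal]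
      rcases eq_or_ne x l with rfl | hx
      · simp [hkl.symm]
      · simp [hx]
    have hcomm : X * S = S * X := Subtype.ext (by
      show X.1 * S.1 = S.1 * X.1
      rw [hS, hX, coe_transvection, Matrix.add_mul, Matrix.mul_add, Matrix.one_mul, Matrix.mul_one]
      congr 1
      ext x y
      simp [Matrix.mul_diagonal, Matrix.diagonal_mul, single_apply]
      split_ifs <;> simp_all)
    have := congrFun (step ht (inv_ne_zero hc0) hXe hcomm hSe hr hs hXr hSs) k
    rw [inv_inv, Pi.add_apply, Pi.add_apply, Pi.smul_apply, smul_eq_mul, hX, hS, vecMul_transvection, vecMul_diagonal,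
      if_neg hkj, if_pos rfl, add_zero] at this
    exact (mul_eq_zero.1 (show (c * c - 1) * r k = 0 by linear_combination this)).resolve_left (sub_ne_zero.2 hc1)
  -- the field with three elements
  push Not at hc
  have h2 : (2 : F) ≠ 0 := by
    intro h2
    have hall : ∀ x : F, x = 0 ∨ x = 1 := fun x => by
      rcases eq_or_ne x 0 with hx | hx
      · exact Or.inl hx
      · refine Or.inr ?_
        rcases mul_self_eq_one_iff.1 (hc x hx) with h | h
        · exact h
        · rw [h]; linear_combination (-1 : F) * h2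
    have h4 : Fintype.card ι = 4 := by
      rw [← Finset.card_univ, hu]; simp [hij, hki.symm, hil, hkj.symm, hjl, hkl]
    refine hexc ⟨h4, le_antisymm ?_ Fintype.one_lt_card⟩
    calc Fintype.card F = (Finset.univ : Finset F).card := rfl
      _ ≤ ({0, 1} : Finset F).card := Finset.card_le_card fun x _ => by simpa using hall x
      _ ≤ 2 := Finset.card_le_two
  obtain ⟨D1, hD1⟩ := exists_diag (fun x : ι => if x = i ∨ x = j then (-1 : F) else 1) (by
    rw [hprod]; simp [hki, hil.symm, hkj, hjl.symm])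
  obtain ⟨D2, hD2⟩ := exists_diag (fun x : ι => if x = j ∨ x = k then (-1 : F) else 1) (by
    rw [hprod]; simp [hki.symm, hij, hjl.symm, hkl.symm])
  have hDe : D1.1 *ᵥ e = (1 : F) • e ∧ D2.1 *ᵥ e = (1 : F) • e := by
    constructor <;>
    · simp only [hD1, hD2, hll]; funext x; rw [mulVec_diagonal]
      rcases eq_or_ne x l with rfl | hx
      · simp [hil.symm, hjl.symm, hkl.symm]
      · simp [hx]
  obtain ⟨s, hs, hs'⟩ := exists_lift he0 hN ht D1
  obtain ⟨u, hu', hu''⟩ := exists_lift he0 hN ht D2
  have hsq : ∀ {D : SpecialLinearGroup ι F}, (∃ d : ι → F, D.1 = diagonal d ∧ ∀ x, d x * d x = 1) → D * D = 1 := by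
    rintro D ⟨d, hd, hd'⟩
    refine Subtype.ext ?_
    show D.1 * D.1 = 1
    rw [hd, diagonal_mul_diagonal]
    simp [hd']
  have hD1sq := hsq ⟨_, hD1, fun x => by split <;> simp⟩
  have hD2sq := hsq ⟨_, hD2, fun x => by split <;> simp⟩
  have hs2 := congrFun (step_sq ht (by simpa using hDe.1) hD1sq hs hs') k
  have hu0 := congrFun (step_sq ht (by simpa using hDe.2) hD2sq hu' hu'') i
  rw [Pi.add_apply, hD1, vecMul_diagonal, if_neg (by simp [hki, hkj]), Pi.zero_apply] at hs2
  rw [Pi.add_apply, hD2, vecMul_diagonal, if_neg (by simp [hij, hki.symm]), Pi.zero_apply] at hu0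
  have hsk : s k = 0 := (mul_eq_zero.1 (show (2 : F) * s k = 0 by linear_combination hs2)).resolve_left h2
  have hui : u i = 0 := (mul_eq_zero.1 (show (2 : F) * u i = 0 by linear_combination hu0)).resolve_left h2
  have hDD : D1 * D2 = D2 * D1 := Subtype.ext (by
    show D1.1 * D2.1 = D2.1 * D1.1
    rw [hD1, hD2, diagonal_mul_diagonal, diagonal_mul_diagonal]
    simp [mul_comm])
  have hD12 : (D1.1 *ᵥ e) = e ∧ (D2.1 *ᵥ e) = e := by simpa using hDe
  have hsj := congrFun (step ht one_ne_zero hD12.1 hDD hDe.2 hs hu' hs' hu'') j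
  rw [inv_one, one_smul, Pi.add_apply, Pi.add_apply, hD1, hD2, vecMul_diagonal, vecMul_diagonal,
    if_pos (Or.inr rfl), if_pos (Or.inl rfl)] at hsj
  have husj : u j = s j := mul_left_cancel₀ h2 (by linear_combination hsj)
  -- the lift of the product
  set D3 := D1 * D2
  set w3 := s ᵥ* D2.1 + u
  have hw3 : w3 ⬝ᵥ e = 0 := by rw [add_dotProduct, dotProduct_vecMul_eq_zero hs hDe.2, hu', add_zero]
  have hD3m : D3 * tau e w3 ∈ P := by
    have := P.mul_mem hs' hu''
    rwa [mul_tau one_ne_zero hs hu' hDe.2, inv_one, one_smul] at this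
  have hD3 : D3.1 = diagonal fun x => (if x = i ∨ x = j then (-1 : F) else 1) * if x = j ∨ x = k then (-1 : F) else 1 := by
    show D1.1 * D2.1 = _
    rw [hD1, hD2, diagonal_mul_diagonal]
  have hD3e : D3.1 *ᵥ e = (1 : F) • e := by
    show (D1.1 * D2.1) *ᵥ e = _
    rw [← mulVec_mulVec, hD12.2, hD12.1, one_smul]
  have hik : i ≠ k := hki.symm
  set A := SpecialLinearGroup.transvection hik (1 : F) with hA
  set B := SpecialLinearGroup.transvection hkj (1 : F) with hB
  obtain ⟨a, ha, hAa⟩ := exists_lift he0 hN ht A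
  obtain ⟨b, hb, hBb⟩ := exists_lift he0 hN ht B
  have hAe : A.1 *ᵥ e = e := transvection_mulVec_single hik hkl.symm 1
  have hBe : B.1 *ᵥ e = e := transvection_mulVec_single hkj hjl.symm 1
  have hcommD : ∀ {x y : ι} (h : x ≠ y) {D : SpecialLinearGroup ι F} {d : ι → F}, D.1 = diagonal d → d x = d y →
      SpecialLinearGroup.transvection h (1 : F) * D = D * SpecialLinearGroup.transvection h (1 : F) := by
    intro x y h D d hd hxy
    refine Subtype.ext ?_
    show (SpecialLinearGroup.transvection h (1 : F)).1 * D.1 = D.1 * (SpecialLinearGroup.transvection h (1 : F)).1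
    rw [hd, coe_transvection, Matrix.add_mul, Matrix.mul_add, Matrix.one_mul, Matrix.mul_one]
    congr 1
    ext x' y'
    simp [Matrix.mul_diagonal, Matrix.diagonal_mul, single_apply]
    split_ifs <;> simp_all
  have e1 := step ht one_ne_zero hXe (hcommD hij hD1 (by simp)) hDe.1 hr hs hXr hs'
  have e2 := step ht one_ne_zero hAe (hcommD hik hD3 (by simp [hij, hki, hik, hkj])) hD3e ha hw3 hAa hD3m
  have e3 := step ht one_ne_zero hBe (hcommD hkj hD2 (by simp)) hDe.2 hb hu' hBb hu''
  have hrel : A * B = X * (B * A) := by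
    refine Subtype.ext ?_
    show A.1 * B.1 = X.1 * (B.1 * A.1)
    rw [hA, hB, hX, coe_transvection, coe_transvection, coe_transvection]
    simp [Matrix.mul_add, Matrix.add_mul, hij, hij.symm, hik, hki, hkj, hkj.symm]
    abel
  have hBe' : B.1 *ᵥ e = (1 : F) • e := by rw [one_smul, hBe]
  have hAe' : A.1 *ᵥ e = (1 : F) • e := by rw [one_smul, hAe]
  have hm1 := P.mul_mem hAa hBb
  rw [mul_tau one_ne_zero ha hb hBe', inv_one, one_smul, hrel] at hm1
  have hm2 := P.mul_mem hXr (P.mul_mem hBb hAa)
  have hba : (b ᵥ* A.1 + a) ⬝ᵥ e = 0 := by rw [add_dotProduct, dotProduct_vecMul_eq_zero hb hAe', ha, add_zero]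
  have hBAe : (B * A).1 *ᵥ e = (1 : F) • e := by
    show (B.1 * A.1) *ᵥ e = _
    rw [← mulVec_mulVec, hAe, hBe, one_smul]
  rw [mul_tau one_ne_zero hb ha hAe', inv_one, one_smul, mul_tau one_ne_zero hr hba hBAe, inv_one, one_smul] at hm2
  have heq := congrFun (eq_of_mem ht (by rw [add_dotProduct, dotProduct_vecMul_eq_zero ha hBe', hb, add_zero])
    (by rw [add_dotProduct, dotProduct_vecMul_eq_zero hr hBAe, hba, add_zero]) hm1 hm2) j
  have e1i := congrFun e1 i
  have e1j := congrFun e1 j
  have e2k := congrFun e2 k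
  have hw3i : w3 i = s i := by
    simp [w3, hD2, vecMul_diagonal, hij, hik, hui]
  simp only [inv_one, one_smul, Pi.add_apply, hX, hA, hB, hD1, hD3, vecMul_transvection, vecMul_diagonal] at e1i e1j e2k
  rw [show (B * A).1 = B.1 * A.1 from rfl] at heq
  simp only [Pi.add_apply, ← vecMul_vecMul, hA, hB, vecMul_transvection] at heq
  simp [hij, hij.symm, hik, hki, hkj, hkj.symm, hw3i] at e1i e1j e2k heq
  have hai : r i = 0 := (mul_eq_zero.1 (show (2 : F) * r i = 0 by linear_combination -e1i)).resolve_left h2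
  have hak : (2 : F) * a k = (2 : F) * r j := by linear_combination -e2k + e1j
  have := mul_left_cancel₀ h2 hak
  linear_combination -heq + this

end Cfsg.Lib.Linear.MinIndex
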