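import Cfsg.Agent.Lib.Linear.OrthSpinor
import Cfsg.Agent.Lib.Linear.OrthStdBasis
import Cfsg.Agent.Lib.Linear.AbsorbPSp
import Cfsg.Agent.S0752

/-!
# Exchanging orthogonal and symplectic forms along a semisimple isometry

If `g` is an isometry without eigenvalues `1` and `-1` of a symmetric form, then composing the form
with `g - g⁻¹` gives an alternating form with the same isometries commuting with `g`, and conversely.
-/

set_option autoImplicit false

namespace Cfsg.Lib.Linear.OrthSympTransfer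

open Module
open scoped Matrix

variable {F : Type*} [Field F] {V : Type*} [AddCommGroup V] [Module F V]

/-- An isometry of order prime to the characteristic splits the space orthogonally. -/
theorem split_of_pow (B : LinearMap.BilinForm F V) {g : Module.End F V} {r : ℕ} (hr : (r : F) ≠ 0)
    (hg : g ^ r = 1) (hgB : ∀ a b, B (g a) (g b) = B a b) :
    IsCompl (LinearMap.range (g - 1)) (LinearMap.ker (g - 1)) ∧
      ∀ a ∈ LinearMap.range (g - 1), ∀ w ∈ LinearMap.ker (g - 1), B a w = 0 ∧ B w a = 0 := by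
  set U := LinearMap.range (g - 1)
  set W := LinearMap.ker (g - 1) with hWdef
  have hWfix : ∀ w ∈ W, g w = w := fun w hw => by
    rw [hWdef, LinearMap.mem_ker, LinearMap.sub_apply, Module.End.one_apply, sub_eq_zero] at hw; exact hw
  have hsum : ∀ v, (∑ i ∈ Finset.range r, (g ^ i) v) ∈ W ∧ ((r : F) • v - ∑ i ∈ Finset.range r, (g ^ i) v) ∈ U := by
    intro v
    constructor
    · rw [hWdef, LinearMap.mem_ker, ← LinearMap.sum_apply, ← Module.End.mul_apply, mul_geom_sum, hg, sub_self,
        LinearMap.zero_apply]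
    · rw [show (r : F) • v = ∑ i ∈ Finset.range r, v by
          rw [Finset.sum_const, Finset.card_range, Nat.cast_smul_eq_nsmul], ← Finset.sum_sub_distrib]
      refine Submodule.sum_mem _ fun i _ => ?_
      refine ⟨-(∑ j ∈ Finset.range i, g ^ j) v, ?_⟩
      rw [map_neg, ← Module.End.mul_apply, mul_geom_sum, LinearMap.sub_apply, Module.End.one_apply, neg_sub]
  have hdisj : ∀ v, v ∈ U → v ∈ W → v = 0 := by
    rintro _ ⟨a, rfl⟩ hw
    have h1 : ∀ i : ℕ, (g ^ i) ((g - 1) a) = (g - 1) a := fun i => by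
      induction i with
      | zero => rfl
      | succ i ih => rw [pow_succ', Module.End.mul_apply, ih, hWfix _ hw]
    have h3 : (∑ i ∈ Finset.range r, g ^ i) ((g - 1) a) = 0 := by
      rw [← Module.End.mul_apply, geom_sum_mul, hg, sub_self, LinearMap.zero_apply]
    rw [LinearMap.sum_apply, Finset.sum_congr rfl (fun i _ => h1 i), Finset.sum_const, Finset.card_range,
      ← Nat.cast_smul_eq_nsmul F] at h3
    exact (smul_eq_zero.1 h3).resolve_left hr
  refine ⟨IsCompl.of_eq ((Submodule.eq_bot_iff _).2 fun v hv => hdisj v hv.1 hv.2) (eq_top_iff.2 fun v _ => ?_), ?_⟩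
  · have e : v = (r : F)⁻¹ • ((r : F) • v - ∑ i ∈ Finset.range r, (g ^ i) v) +
        (r : F)⁻¹ • ∑ i ∈ Finset.range r, (g ^ i) v := by
      rw [smul_sub, sub_add_cancel, inv_smul_smul₀ hr]
    exact e ▸ Submodule.add_mem_sup (U.smul_mem _ (hsum v).2) (W.smul_mem _ (hsum v).1)
  · rintro _ ⟨a, rfl⟩ w hw
    rw [LinearMap.sub_apply, Module.End.one_apply, map_sub, LinearMap.sub_apply, map_sub]
    constructor <;>
    · conv_lhs => arg 1; rw [← hWfix w hw]
      rw [hgB, sub_self]

/-- The twist of a form by `g - g⁻¹`. -/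
def twist (B : LinearMap.BilinForm F V) (g gi : Module.End F V) : LinearMap.BilinForm F V :=
  LinearMap.compl₁₂ B (g - gi) LinearMap.id

theorem twist_apply (B : LinearMap.BilinForm F V) (g gi : Module.End F V) (a b : V) :
    twist B g gi a b = B (g a) b - B (gi a) b := by
  simp [twist]

theorem twist_symm {B : LinearMap.BilinForm F V} {ε : F} (hB : ∀ a b, B b a = ε * B a b) {g gi : Module.End F V}
    (hgi : g * gi = 1) (hgi' : gi * g = 1) (hgB : ∀ a b, B (g a) (g b) = B a b) (a b : V) :
    twist B g gi b a = -ε * twist B g gi a b := by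
  have h1 : ∀ x y, B (g x) y = B x (gi y) := fun x y => by
    conv_lhs => rw [← Module.End.one_apply (R := F) y, ← hgi, Module.End.mul_apply, hgB]
  have h2 : ∀ x y, B (gi x) y = B x (g y) := fun x y => by
    conv_rhs => rw [← Module.End.one_apply (R := F) x, ← hgi, Module.End.mul_apply, hgB]
  rw [twist_apply, twist_apply, h1, h2, hB (gi a) b, hB (g a) b]
  ring

theorem twist_nondeg {B : LinearMap.BilinForm F V} [FiniteDimensional F V] {g gi : Module.End F V}
    (hD : ∀ a, (g - gi) a = 0 → a = 0) (hnd : ∀ a, (∀ b, B a b = 0) → a = 0) :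
    ∀ a, (∀ b, twist B g gi a b = 0) → a = 0 :=
  fun a ha => hD a (hnd _ fun b => ha b)

theorem twist_iso {B : LinearMap.BilinForm F V} {g gi : Module.End F V} {T : Module.End F V}
    (hT : Commute T g) (hTi : Commute T gi) (hTB : ∀ a b, B (T a) (T b) = B a b) (a b : V) :
    twist B g gi (T a) (T b) = twist B g gi a b := by
  rw [twist_apply, twist_apply, ← Module.End.mul_apply, ← hT.eq, Module.End.mul_apply, hTB,
    ← Module.End.mul_apply, ← hTi.eq, Module.End.mul_apply, hTB]

theorem twist_iso_conv {B : LinearMap.BilinForm F V} [FiniteDimensional F V] {g gi : Module.End F V}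
    (hD : ∀ a, (g - gi) a = 0 → a = 0) {T : Module.End F V}
    (hT : Commute T g) (hTi : Commute T gi) (hTB : ∀ a b, twist B g gi (T a) (T b) = twist B g gi a b) (a b : V) :
    B (T a) (T b) = B a b := by
  have hsurj : Function.Surjective (g - gi) :=
    LinearMap.injective_iff_surjective.1 ((injective_iff_map_eq_zero _).2 hD)
  obtain ⟨c, rfl⟩ := hsurj a
  have h : T ((g - gi) c) = (g - gi) (T c) := by
    rw [LinearMap.sub_apply, LinearMap.sub_apply, map_sub, ← Module.End.mul_apply, ← Module.End.mul_apply, hT.eq,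
      hTi.eq]
    rfl
  rw [h]
  exact hTB c b

/-- An isometry of odd order has the inverse of its twist defined away from its fixed points. -/
theorem twist_injective {k : ℕ} (hk : Odd k) {g gi : Module.End F V} (hg : g ^ k = 1) (hgi : g * gi = 1)
    (hfix : ∀ a, g a = a → a = 0) : ∀ a, (g - gi) a = 0 → a = 0 := by
  intro a ha
  refine hfix a ?_
  rw [LinearMap.sub_apply, sub_eq_zero] at ha
  have h2 : (g ^ 2) a = a := by
    rw [sq, Module.End.mul_apply, ha, ← Module.End.mul_apply, hgi, Module.End.one_apply]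
  have h3 : ∀ i, (g ^ (2 * i)) a = a := fun i => by
    induction i with
    | zero => rfl
    | succ i ih => rw [Nat.mul_succ, pow_add, Module.End.mul_apply, h2, ih]
  obtain ⟨j, rfl⟩ := hk
  conv_rhs => rw [← Module.End.one_apply (R := F) a, ← hg, pow_succ', Module.End.mul_apply, h3]

theorem even_finrank [FiniteDimensional F V] (ω : LinearMap.BilinForm F V) (hA : ω.IsAlt)
    (hnd : ∀ a, (∀ b, ω a b = 0) → a = 0) :
    ∃ (m : ℕ) (b : Module.Basis (Fin m ⊕ Fin m) F V), finrank F V = 2 * m ∧
      ∀ x y, Symp.spB m F (b.equivFun x) (b.equivFun y) = -ω x y := by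
  obtain ⟨m, k, b, h1, h2, h3, h4⟩ := Cfsg.Agent.S0752.result ω hA
  have hk : k = 0 := by
    by_contra hk
    exact b.ne_zero (Sum.inr ⟨0, Nat.pos_of_ne_zero hk⟩) (hnd _ (h4 _))
  subst hk
  let b' := b.reindex (Equiv.sumEmpty (Fin m ⊕ Fin m) (Fin 0))
  refine ⟨m, b', by rw [finrank_eq_card_basis b', Fintype.card_sum, Fintype.card_fin, two_mul], ?_⟩
  have key : ((Symp.spB m F).compl₁₂ b'.equivFun.toLinearMap b'.equivFun.toLinearMap) = -ω := by
    refine LinearMap.BilinForm.ext_basis b' fun i j => ?_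
    have hself : ∀ i, b'.equivFun (b' i) = Pi.single i (1 : F) := fun i => by
      ext j
      rw [Module.Basis.equivFun_self, Pi.single_apply]
      simp [eq_comm]
    have hb : ∀ i, b' i = b (Sum.inl i) := fun i => by simp [b']
    simp only [LinearMap.compl₁₂_apply, LinearEquiv.coe_coe, LinearMap.neg_apply, hself]
    rw [hb, hb, Symp.spB_apply, Cfsg.sympForm, Symp.J_mulVec]
    rcases i with i | i <;> rcases j with j | j
    · rw [h2]; simp [dotProduct, Pi.single_apply]
    · rw [h1]; simp [dotProduct, Pi.single_apply, apply_ite Neg.neg]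
    · rw [← LinearMap.IsAlt.neg hA (b (Sum.inl (Sum.inl j))) (b (Sum.inl (Sum.inr i))), h1]; simp [dotProduct, Pi.single_apply, eq_comm]
    · rw [h3]; simp [dotProduct, Pi.single_apply]
  exact fun x y => LinearMap.congr_fun₂ key x y

theorem det_eq_one [FiniteDimensional F V] (ω : LinearMap.BilinForm F V) (hA : ω.IsAlt)
    (hnd : ∀ a, (∀ b, ω a b = 0) → a = 0) {T : Module.End F V} (hT : ∀ a b, ω (T a) (T b) = ω a b) :
    LinearMap.det T = 1 := by
  classical
  obtain ⟨m, b, -, hb⟩ := even_finrank ω hA hnd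
  rw [← LinearMap.det_toMatrix b]
  refine SymplecticGroup.det_eq_one ((Symp.mem_symplecticGroup_iff _).2 fun u v => ?_)
  obtain ⟨x, rfl⟩ := b.equivFun.surjective u
  obtain ⟨z, rfl⟩ := b.equivFun.surjective v
  simp only [Module.Basis.equivFun_apply, LinearMap.toMatrix_mulVec_repr]
  rw [← Module.Basis.equivFun_apply, ← Module.Basis.equivFun_apply, ← Module.Basis.equivFun_apply,
    ← Module.Basis.equivFun_apply, hb, hb, hT]

section PSp

variable [FiniteDimensional F V]

/-- Commuting isometries of an alternating form give an element of `PSp` of product order. -/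
theorem psp_mem [Finite F] (h2 : (2 : F) ≠ 0) (ω : LinearMap.BilinForm F V) (hA : ω.IsAlt)
    (hnd : ∀ a, (∀ b, ω a b = 0) → a = 0) {n : ℕ} (hdim : finrank F V = 2 * n) {A : Module.End F V}
    {s : ℕ} (hA' : ∀ a b, ω (A a) (A b) = ω a b) (hs : Odd s) (hAo : orderOf A = s) {T : Module.End F V} {x : ℕ}
    (hT' : ∀ a b, ω (T a) (T b) = ω a b) (hAT : Commute A T) (hx : x.Prime) (hTx : T ^ x = 1 ∨ T ^ x = -1)
    (hT1 : T ≠ 1) (hT2 : T ≠ -1) (hxs : Nat.Coprime x s) :
    x * s ∈ Set.range (orderOf : Cfsg.PSp n F → ℕ) := by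
  classical
  obtain ⟨m, b, hm, hb⟩ := even_finrank ω hA hnd
  obtain rfl : m = n := by omega
  let f := LinearMap.toMatrixAlgEquiv b
  have hmem : ∀ S : Module.End F V, (∀ a b, ω (S a) (S b) = ω a b) → f S ∈ Matrix.symplecticGroup (Fin m) F := by
    intro S hS
    refine (Symp.mem_symplecticGroup_iff _).2 fun u v => ?_
    obtain ⟨x, rfl⟩ := b.equivFun.surjective u
    obtain ⟨z, rfl⟩ := b.equivFun.surjective v
    simp only [f, Module.Basis.equivFun_apply]
    rw [LinearMap.toMatrixAlgEquiv, AlgEquiv.ofLinearEquiv_apply, LinearMap.toMatrix_mulVec_repr,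
      LinearMap.toMatrix_mulVec_repr]
    rw [← Module.Basis.equivFun_apply, ← Module.Basis.equivFun_apply, ← Module.Basis.equivFun_apply,
      ← Module.Basis.equivFun_apply, hb, hb, hS]
  let gA : ↥(Matrix.symplecticGroup (Fin m) F) := ⟨f A, hmem A hA'⟩
  let gT : ↥(Matrix.symplecticGroup (Fin m) F) := ⟨f T, hmem T hT'⟩
  have hsA : orderOf (AbsorbPSp.cls gA) = s := by
    refine Nat.dvd_antisymm ?_ ?_
    · refine orderOf_dvd_of_pow_eq_one ((AbsorbPSp.cls_pow_eq_one_iff _ _).2 (Or.inl ?_))
      show f A ^ s = 1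
      rw [← map_pow, ← hAo, pow_orderOf_eq_one, map_one]
    · have h := pow_orderOf_eq_one (AbsorbPSp.cls gA)
      rcases (AbsorbPSp.cls_pow_eq_one_iff _ _).1 h with h | h
      · rw [← hAo]
        refine orderOf_dvd_of_pow_eq_one (f.injective ?_)
        rw [map_pow, map_one]; exact h
      · exfalso
        have h3 : A ^ orderOf (AbsorbPSp.cls gA) = -1 := f.injective (by rw [map_pow, map_neg, map_one]; exact h)
        have h4 : ((-1 : Module.End F V)) ^ s = 1 := by
          rw [← h3, ← pow_mul, mul_comm, pow_mul, ← hAo, pow_orderOf_eq_one, one_pow]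
        rw [hs.neg_one_pow] at h4
        rcases subsingleton_or_nontrivial V with hV | hV
        · exact hT1 (LinearMap.ext fun v => Subsingleton.elim _ _)
        · obtain ⟨v, hv⟩ := exists_ne (0 : V)
          have h5 := LinearMap.congr_fun h4 v
          rw [LinearMap.neg_apply, Module.End.one_apply, neg_eq_iff_add_eq_zero, ← two_smul F, smul_eq_zero] at h5
          exact hv (h5.resolve_left h2)
  have hxT : orderOf (AbsorbPSp.cls gT) = x := by
    haveI : Fact x.Prime := ⟨hx⟩
    refine orderOf_eq_prime ((AbsorbPSp.cls_pow_eq_one_iff _ _).2 ?_) fun h => ?_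
    · show f T ^ x = 1 ∨ f T ^ x = -1
      rw [← map_pow]
      rcases hTx with h | h <;> rw [h]
      · exact Or.inl (map_one f)
      · exact Or.inr (by rw [map_neg, map_one])
    · rw [← pow_one (AbsorbPSp.cls gT)] at h
      rcases (AbsorbPSp.cls_pow_eq_one_iff _ _).1 h with h | h <;> rw [pow_one] at h
      · exact hT1 (f.injective (h.trans (map_one f).symm))
      · exact hT2 (f.injective (h.trans (by rw [map_neg, map_one])))
  have hc : Commute (AbsorbPSp.cls gT) (AbsorbPSp.cls gA) := by
    have : Commute gT gA := Subtype.ext (hAT.symm.map f).eq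
    exact this.map (QuotientGroup.mk' _)
  exact ⟨_, (hc.orderOf_mul_eq_mul_orderOf_of_coprime (by rwa [hxT, hsA])).trans (by rw [hxT, hsA])⟩

/-- An isometry of odd order of an alternating form gives an element of `PSp` of the same order. -/
theorem psp_order [Finite F] (h2 : (2 : F) ≠ 0) (ω : LinearMap.BilinForm F V) (hA : ω.IsAlt)
    (hnd : ∀ a, (∀ b, ω a b = 0) → a = 0) {n : ℕ} (hn : 1 ≤ n) (hdim : finrank F V = 2 * n) {A : Module.End F V}
    (hA' : ∀ a b, ω (A a) (A b) = ω a b) (hs : Odd (orderOf A)) :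
    orderOf A ∈ Set.range (orderOf : Cfsg.PSp n F → ℕ) := by
  classical
  obtain ⟨m, b, hm, hb⟩ := even_finrank ω hA hnd
  obtain rfl : m = n := by omega
  let f := LinearMap.toMatrixAlgEquiv b
  have hmem : f A ∈ Matrix.symplecticGroup (Fin m) F := by
    refine (Symp.mem_symplecticGroup_iff _).2 fun u v => ?_
    obtain ⟨x, rfl⟩ := b.equivFun.surjective u
    obtain ⟨z, rfl⟩ := b.equivFun.surjective v
    simp only [f, Module.Basis.equivFun_apply]
    rw [LinearMap.toMatrixAlgEquiv, AlgEquiv.ofLinearEquiv_apply, LinearMap.toMatrix_mulVec_repr,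
      LinearMap.toMatrix_mulVec_repr]
    rw [← Module.Basis.equivFun_apply, ← Module.Basis.equivFun_apply, ← Module.Basis.equivFun_apply,
      ← Module.Basis.equivFun_apply, hb, hb, hA']
  refine ⟨AbsorbPSp.cls ⟨f A, hmem⟩, Nat.dvd_antisymm ?_ ?_⟩
  · refine orderOf_dvd_of_pow_eq_one ((AbsorbPSp.cls_pow_eq_one_iff _ _).2 (Or.inl ?_))
    show f A ^ orderOf A = 1
    rw [← map_pow, pow_orderOf_eq_one, map_one]
  · set k := orderOf (AbsorbPSp.cls ⟨f A, hmem⟩)
    rcases (AbsorbPSp.cls_pow_eq_one_iff _ _).1 (pow_orderOf_eq_one (AbsorbPSp.cls ⟨f A, hmem⟩)) with h | h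
    · exact orderOf_dvd_of_pow_eq_one (f.injective (by rw [map_pow, map_one]; exact h))
    · exfalso
      have h3 : A ^ k = -1 := f.injective (by rw [map_pow, map_neg, map_one]; exact h)
      have h4 : ((-1 : Module.End F V)) ^ orderOf A = 1 := by
        rw [← h3, ← pow_mul, mul_comm, pow_mul, pow_orderOf_eq_one, one_pow]
      rw [hs.neg_one_pow] at h4
      haveI : Nontrivial V := Module.finrank_pos_iff (R := F).1 (by omega)
      obtain ⟨v, hv⟩ := exists_ne (0 : V)
      have h5 := LinearMap.congr_fun h4 v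
      rw [LinearMap.neg_apply, Module.End.one_apply, neg_eq_iff_add_eq_zero, ← two_smul F, smul_eq_zero] at h5
      exact hv (h5.resolve_left h2)

end PSp

section Omega

open Cfsg.Lib.Linear.Orth

/-- Isometries of a symmetric form of odd dimension, as matrices for the standard form. -/
theorem exists_toOrth [Fintype F] (h2 : (2 : F) ≠ 0) [FiniteDimensional F V] (b : LinearMap.BilinForm F V)
    (hsymm : ∀ x y, b x y = b y x) (hnd : ∀ a, (∀ c, b a c = 0) → a = 0) {n : ℕ} (hdim : finrank F V = 2 * n + 1) :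
    ∃ e : V ≃ₗ[F] (Unit ⊕ (Fin n ⊕ Fin n) → F), ∃ c : F, ∀ v, Cfsg.quadFormOdd n F (e v) = c * b v v := by
  let Q : QuadraticForm F V := b.toQuadraticMap
  have hpol : ∀ u v, QuadraticMap.polar ⇑Q u v = 2 * b u v := fun u v => by
    show QuadraticMap.polar (fun x => b x x) u v = _
    simp only [QuadraticMap.polar, map_add, LinearMap.add_apply, hsymm v u]
    ring
  have hQ : (QuadraticMap.polarBilin Q).Nondegenerate := by
    have h : ∀ a, (∀ c, QuadraticMap.polarBilin Q a c = 0) → a = 0 := fun a ha => hnd a fun c => by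
      have := ha c
      rw [QuadraticMap.polarBilin_apply_apply, hpol, mul_eq_zero] at this
      exact this.resolve_left h2
    exact ⟨h, fun a ha => h a fun c => by
      rw [QuadraticMap.polarBilin_apply_apply, QuadraticMap.polar_comm]; exact ha c⟩
  obtain ⟨β, h0, h0x, hsing, hef, hee⟩ := std_basis_odd hdim Q hQ
  set a := Q (β (Sum.inl ())) with ha
  -- rescale the first half of the hyperbolic pairs
  let w : Unit ⊕ (Fin n ⊕ Fin n) → Fˣ := Sum.elim (fun _ => 1) (Sum.elim (fun _ => Units.mk0 a h0) (fun _ => 1))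
  let β' := β.unitsSMul w
  refine ⟨β'.equivFun, a⁻¹, fun v => ?_⟩
  obtain ⟨x, rfl⟩ := β'.equivFun.symm.surjective v
  rw [LinearEquiv.apply_symm_apply, Module.Basis.equivFun_symm_apply]
  have hβ : ∀ i, β' i = (w i : F) • β i := fun i => by simp [β', Module.Basis.unitsSMul_apply, Units.smul_def]
  simp only [hβ]
  have hb : ∀ i j, b (β i) (β j) = (2 : F)⁻¹ * QuadraticMap.polar ⇑Q (β i) (β j) := fun i j => by
    rw [hpol, inv_mul_cancel_left₀ h2]
  simp only [map_sum, map_add, LinearMap.add_apply, LinearMap.sum_apply, map_smul, LinearMap.smul_apply, smul_eq_mul, hb,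
    Fintype.sum_sum_type, Finset.univ_unique, Finset.sum_singleton, PUnit.default_eq_unit]
  have hself : ∀ i, QuadraticMap.polar ⇑Q (β i) (β i) = 2 * Q (β i) := fun i => by
    rw [QuadraticMap.polar_self, nsmul_eq_mul]; norm_num
  have c1 : ∀ i, QuadraticMap.polar ⇑Q (β (Sum.inr (Sum.inl i))) (β (Sum.inl ())) = 0 := fun i => by
    rw [QuadraticMap.polar_comm]; exact (h0x i).1
  have c2 : ∀ i, QuadraticMap.polar ⇑Q (β (Sum.inr (Sum.inr i))) (β (Sum.inl ())) = 0 := fun i => by
    rw [QuadraticMap.polar_comm]; exact (h0x i).2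
  have c3 : ∀ i j, QuadraticMap.polar ⇑Q (β (Sum.inr (Sum.inr j))) (β (Sum.inr (Sum.inl i))) = if i = j then 1 else 0 :=
    fun i j => by rw [QuadraticMap.polar_comm]; exact hef i j
  simp only [hself, (h0x _).1, (h0x _).2, c1, c2, hef, c3, (hee _ _).1, (hee _ _).2, w, Sum.elim_inl, Sum.elim_inr,
    Units.val_one, Units.val_mk0, mul_zero, Finset.sum_const_zero, add_zero, zero_add, one_mul, mul_one,
    mul_ite, Finset.sum_ite_eq, Finset.sum_ite_eq', Finset.mem_univ, if_true, ← ha, Cfsg.quadFormOdd,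
    Finset.mul_sum, Finset.sum_add_distrib, mul_add]
  rw [← Finset.sum_add_distrib]
  congr 1
  · field_simp
  · exact Finset.sum_congr rfl fun i _ => by field_simp; ring

/-- An isometry of odd order lies in `Ω`. -/
theorem mem_omega_of_odd [Fintype F] {ι : Type} [Fintype ι] [DecidableEq ι] {Q : (ι → F) → F}
    {B : LinearMap.BilinForm F (ι → F)} (C : Space Q B) (h2 : (2 : F) ≠ 0) (hι : 2 ≤ Fintype.card ι)
    {x : ↥(isometryGroup F Q)} {k : ℕ} (hk : Odd k) (hx : x ^ k = 1) : x ∈ commutator ↥(isometryGroup F Q) := by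
  rw [(omega_odd C h2 hι).1, MonoidHom.mem_ker]
  have h1 : detSpin Q x ^ k = 1 := by rw [← map_pow, hx, map_one]
  have hsq : detSpin Q x ^ 2 = 1 := by
    refine Prod.ext ?_ (Int.units_sq _)
    show (detSpin Q x).1 ^ 2 = 1
    rcases det_sq C x.2 with h | h
    · rw [show (detSpin Q x).1 = 1 from Units.ext h, one_pow]
    · rw [show (detSpin Q x).1 = -1 from Units.ext (h.trans (by simp)), neg_one_sq]
  obtain ⟨j, rfl⟩ := hk
  rwa [pow_succ, pow_mul, hsq, one_pow, one_mul] at h1

/-- Matrices of isometries. -/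
theorem exists_iso [Fintype F] {ι : Type} [Fintype ι] [DecidableEq ι] {Q : (ι → F) → F}
    {B : LinearMap.BilinForm F (ι → F)} (C : Space Q B) {T : Module.End F (ι → F)} (hT : ∀ v, Q (T v) = Q v) :
    ∃ x : ↥(isometryGroup F Q), Matrix.toLin' ((x : GL ι F).val) = T := by
  classical
  have hinj : Function.Injective T := by
    refine (injective_iff_map_eq_zero _).2 fun v hv => C.nondeg' fun u => ?_
    rw [← C.polar, QuadraticMap.polar, ← hT (v + u), ← hT v, ← hT u, map_add, hv, zero_add, C.zero]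
    ring
  have hu : IsUnit (LinearMap.toMatrix' T) := by
    rw [← Matrix.mulVec_injective_iff_isUnit]
    intro a b h
    refine hinj ?_
    rw [← Matrix.toLin'_toMatrix' T, Matrix.toLin'_apply, Matrix.toLin'_apply]
    exact h
  refine ⟨⟨hu.unit, mem_iso.2 fun v => ?_⟩, ?_⟩
  · rw [IsUnit.unit_spec, ← Matrix.toLin'_apply, Matrix.toLin'_toMatrix', hT]
  · show Matrix.toLin' hu.unit.val = T
    rw [IsUnit.unit_spec, Matrix.toLin'_toMatrix']

end Omega

end Cfsg.Lib.Linear.OrthSympTransfer
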