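import Cfsg.Agent.Lib.Linear.OrthSplitMax

/-!
# Orthogonal decompositions into several isometric blocks (odd characteristic)

`Blocks Q B D k`: the space is the orthogonal sum of the non-degenerate subspaces `D i`, all of
dimension `k` and pairwise isometric.  A subgroup of `Ω` containing the stabiliser of such a
decomposition and a root element with centre in a block that mixes blocks is all of `Ω`.
-/

set_option autoImplicit false

namespace Cfsg.Lib.Linear.Orth

open Module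
open scoped Matrix

variable {ι : Type} [Fintype ι] [DecidableEq ι] {F : Type*} [Field F]
  {Q : (ι → F) → F} {B : LinearMap.BilinForm F (ι → F)}
  {t : ℕ} {D : Fin t → Submodule F (ι → F)} {k : ℕ}

/-- An orthogonal decomposition into isometric non-degenerate blocks. -/
structure Blocks (Q : (ι → F) → F) (B : LinearMap.BilinForm F (ι → F))
    (D : Fin t → Submodule F (ι → F)) (k : ℕ) : Prop where
  space : Space Q B
  two : (2 : F) ≠ 0
  dim3 : 3 ≤ k
  nd : ∀ i, NDeg B (D i)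
  orth : ∀ i j, i ≠ j → ∀ u ∈ D i, ∀ w ∈ D j, B u w = 0
  top : iSup D = ⊤
  dim : ∀ i, finrank F (D i) = k
  two_le : 2 ≤ t
  isom : 3 ≤ t → ∀ i j, ∃ e : D i ≃ₗ[F] D j, ∀ w : D i, Q ((e w : D j) : ι → F) = Q (w : ι → F)

theorem Blocks.exists_comp (X : Blocks Q B D k) (l : Fin t) (x : ι → F) :
    ∃ z ∈ D l, ∀ y ∈ D l, B z y = B x y := by
  obtain ⟨u, hu, w, hw, rfl⟩ := (split_of_ndeg X.space (X.nd l)).parts X.space x
  exact ⟨w, hw, fun y hy => by
    rw [map_add, LinearMap.add_apply, X.space.symm u y, hu.2 y hy, zero_add]⟩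

theorem Blocks.uniq (X : Blocks Q B D k) {l : Fin t} {z z' : ι → F} (hz : z ∈ D l)
    (hz' : z' ∈ D l) (h : ∀ y ∈ D l, B z y = B z' y) : z = z' :=
  sub_eq_zero.mp (X.nd l _ ((D l).sub_mem hz hz') fun y hy => by
    rw [map_sub, LinearMap.sub_apply, h y hy, sub_self])

/-- The component of a vector in a block. -/
noncomputable def Blocks.comp (X : Blocks Q B D k) (l : Fin t) : (ι → F) →ₗ[F] (ι → F) where
  toFun x := (X.exists_comp l x).choose
  map_add' x y := X.uniq (X.exists_comp l _).choose_spec.1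
    ((D l).add_mem (X.exists_comp l _).choose_spec.1 (X.exists_comp l _).choose_spec.1) fun z hz => by
      rw [(X.exists_comp l _).choose_spec.2 z hz, map_add, map_add, LinearMap.add_apply,
        LinearMap.add_apply, (X.exists_comp l _).choose_spec.2 z hz,
        (X.exists_comp l _).choose_spec.2 z hz]
  map_smul' c x := X.uniq (X.exists_comp l _).choose_spec.1
    ((D l).smul_mem _ (X.exists_comp l _).choose_spec.1) fun z hz => by
      rw [(X.exists_comp l _).choose_spec.2 z hz, RingHom.id_apply, map_smul, map_smul,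
        LinearMap.smul_apply, LinearMap.smul_apply, (X.exists_comp l _).choose_spec.2 z hz]

section

variable (X : Blocks Q B D k)

include X

theorem Blocks.comp_mem (l : Fin t) (x : ι → F) : X.comp l x ∈ D l :=
  (X.exists_comp l x).choose_spec.1

theorem Blocks.comp_B (l : Fin t) (x : ι → F) {y : ι → F} (hy : y ∈ D l) :
    B (X.comp l x) y = B x y :=
  (X.exists_comp l x).choose_spec.2 y hy

theorem Blocks.comp_B' (l : Fin t) (x : ι → F) {y : ι → F} (hy : y ∈ D l) :
    B y (X.comp l x) = B y x := by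
  rw [X.space.symm, X.comp_B l x hy, X.space.symm]

theorem Blocks.comp_self {l : Fin t} {x : ι → F} (hx : x ∈ D l) : X.comp l x = x :=
  X.uniq (X.comp_mem l x) hx fun _ hy => X.comp_B l x hy

theorem Blocks.comp_other {l i : Fin t} (h : i ≠ l) {x : ι → F} (hx : x ∈ D i) :
    X.comp l x = 0 :=
  X.uniq (X.comp_mem l x) (D l).zero_mem fun y hy => by
    rw [X.comp_B l x hy, X.orth i l h x hx y hy, map_zero, LinearMap.zero_apply]

theorem Blocks.eq_zero {x : ι → F} (h : ∀ l, X.comp l x = 0) : x = 0 := by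
  refine X.space.nondeg' fun v => ?_
  have hle : iSup D ≤ LinearMap.ker (B x) := iSup_le fun l y hy => LinearMap.mem_ker.mpr (by
    rw [← X.comp_B l x hy, h l, map_zero, LinearMap.zero_apply])
  exact LinearMap.mem_ker.mp (hle (X.top ▸ Submodule.mem_top))

theorem Blocks.sum_comp (x : ι → F) : ∑ l, X.comp l x = x := by
  refine (sub_eq_zero.mp (X.eq_zero fun l => ?_)).symm
  rw [map_sub, map_sum, Finset.sum_eq_single l (fun i _ hi => X.comp_other hi (X.comp_mem i x))
    (fun h => absurd (Finset.mem_univ l) h), X.comp_self (X.comp_mem l x), sub_self]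

theorem Blocks.mem_of_comp {i : Fin t} {x : ι → F} (h : ∀ l, l ≠ i → X.comp l x = 0) :
    x ∈ D i := by
  rw [← X.sum_comp x, Finset.sum_eq_single i (fun l _ hl => h l hl)
    (fun h' => absurd (Finset.mem_univ i) h')]
  exact X.comp_mem i x

theorem Blocks.disj {i l : Fin t} (h : i ≠ l) {x : ι → F} (hi : x ∈ D i) (hl : x ∈ D l) :
    x = 0 := by
  rw [← X.comp_self hl, X.comp_other h hi]

theorem Blocks.B_sum (u v : ι → F) : B u v = ∑ l, B (X.comp l u) (X.comp l v) := by
  conv_lhs => rw [← X.sum_comp u]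
  rw [map_sum, LinearMap.sum_apply]
  exact Finset.sum_congr rfl fun l _ => (X.comp_B' l v (X.comp_mem l u)).symm

theorem Blocks.Q_sum (x : ι → F) : Q x = ∑ l, Q (X.comp l x) := by
  have h := X.B_sum x x
  simp only [X.space.self, ← Finset.mul_sum] at h
  exact mul_left_cancel₀ X.two h

theorem Blocks.five : 5 ≤ Fintype.card ι := by
  have h2 := X.two_le
  obtain ⟨i, j, hne⟩ : ∃ i j : Fin t, i ≠ j :=
    ⟨⟨0, by omega⟩, ⟨1, by omega⟩, by simp [Fin.ext_iff]⟩
  have h1 := Submodule.finrank_sup_add_finrank_inf_eq (D i) (D j)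
  have h3 : D i ⊓ D j = ⊥ :=
    eq_bot_iff.mpr fun x hx => (Submodule.mem_bot F).mpr (X.disj hne hx.1 hx.2)
  have h4 := Submodule.finrank_le (D i ⊔ D j)
  rw [h3, finrank_bot, X.dim, X.dim] at h1
  rw [finrank_fintype_fun_eq_card] at h4
  have := X.dim3
  omega

theorem Blocks.splitAt (l : Fin t) : Split Q B (D l) (perpIn B ⊤ (D l)) :=
  (split_of_ndeg X.space (X.nd l)).swap X.space

theorem Blocks.exists_hypIn [Finite F] (l : Fin t) : ∃ e f, Hyp Q B (D l) e f :=
  exists_hyp' X.space (X.nd l) (by rw [X.dim]; exact X.dim3)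

theorem Blocks.exists_sing_ne [Finite F] {l : Fin t} {x : ι → F} (hx : X.comp l x ≠ 0) :
    ∃ w ∈ D l, Q w = 0 ∧ B w x ≠ 0 := by
  by_contra hne
  push Not at hne
  obtain ⟨e, f, hH⟩ := X.exists_hypIn l
  refine hx (X.nd l _ (X.comp_mem l x) fun y hy => ?_)
  have hy' : y ∈ LinearMap.ker (B (X.comp l x)) :=
    (hH.span X.space).trans (Submodule.span_le.mpr fun w hw => LinearMap.mem_ker.mpr (by
      rw [X.comp_B l x hw.1, X.space.symm]; exact hne w hw.1 hw.2)) hy
  exact LinearMap.mem_ker.mp hy'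

theorem Blocks.exists_nonsing_perp {l : Fin t} {w : ι → F} (hw : w ∈ D l) (hw0 : w ≠ 0)
    (hQw : Q w = 0) : ∃ b ∈ D l, Q b ≠ 0 ∧ B w b = 0 := by
  obtain ⟨f, hf⟩ := exists_hyp X.space (X.nd l) hw hw0 hQw
  have h1 := hf.le_finrank X.space
  rw [X.dim] at h1
  obtain ⟨b, hb, hQb⟩ := exists_nonsing X.space (hf.ndeg X.space (X.nd l)) (fun h => by
    rw [h, finrank_bot] at h1
    have := X.dim3
    omega)
  exact ⟨b, (mem_perp2.mp hb).1, hQb, (mem_perp2.mp hb).2.1⟩

/-- An element mapping blocks into blocks stabilises the decomposition. -/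
theorem Blocks.mem_stab_of_perm {g : GL ι F} (σ : Equiv.Perm (Fin t))
    (h : ∀ i, ∀ y ∈ D i, g.val *ᵥ y ∈ D (σ i)) : g ∈ Cfsg.Geo.decompositionStabilizer D := by
  refine ⟨σ, fun i => Submodule.eq_of_le_of_finrank_eq ?_ ?_⟩
  · rintro _ ⟨y, hy, rfl⟩
    rw [Matrix.toLin'_apply]
    exact h i y hy
  · rw [← (Submodule.equivMapOfInjective _ (fun a b e => act_injective g (by
      simpa [Matrix.toLin'_apply] using e)) (D i)).finrank_eq, X.dim, X.dim]

theorem Blocks.refl_pres {j : Fin t} {p : ι → F} (hp : p ∈ D j) (hQp : Q p ≠ 0) (i : Fin t)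
    {y : ι → F} (hy : y ∈ D i) : (rGL Q p).val *ᵥ y ∈ D i := by
  by_cases h : i = j
  · subst h
    rw [rGL_act X.space hQp]
    exact (D i).sub_mem hy ((D i).smul_mem _ hp)
  · rwa [rGL_fix X.space hQp (X.orth j i (Ne.symm h) p hp y hy)]

theorem Blocks.sGL_pres {j : Fin t} {u b : ι → F} (hu : u ∈ D j) (hb : b ∈ D j) (hQu : Q u = 0)
    (hub : B u b = 0) (i : Fin t) {y : ι → F} (hy : y ∈ D i) :
    (sGL Q B u b).val *ᵥ y ∈ D i := by
  rw [sGL_act X.space hQu hub]
  by_cases h : i = j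
  · subst h
    exact (D i).sub_mem ((D i).add_mem hy ((D i).smul_mem _ hb)) ((D i).smul_mem _ hu)
  · rw [X.orth j i (Ne.symm h) u hu y hy, X.orth j i (Ne.symm h) b hb y hy]
    simpa using hy

end

/-- The subgroup generated by the reflections in vectors of `U`. -/
noncomputable def blockRefl (Q : (ι → F) → F) (U : Submodule F (ι → F)) : Subgroup (GL ι F) :=
  Subgroup.closure {g | ∃ c ∈ U, Q c ≠ 0 ∧ g = rGL Q c}

/-- A subgroup of `Ω` containing the stabiliser of a decomposition. -/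
structure BlocksCtx (Q : (ι → F) → F) (B : LinearMap.BilinForm F (ι → F))
    (D : Fin t → Submodule F (ι → F)) (k : ℕ) (H : Subgroup (GL ι F)) : Prop where
  blocks : Blocks Q B D k
  le_iso : H ≤ isometryGroup F Q
  le : Cfsg.Geo.decompositionStabilizer D ⊓ Cfsg.Geo.omegaGL Q ≤ H

theorem rootsAt_act (C : Space Q B) {H : Subgroup (GL ι F)} (hH : H ≤ isometryGroup F Q)
    {g : GL ι F} (hg : g ∈ H) {y y' a : ι → F} {hy : Q y = 0} {hy' : Q y' = 0}
    (e : g.val *ᵥ y = y') (ha : a ∈ rootsAt Q B C H y hy) :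
    g.val *ᵥ a ∈ rootsAt Q B C H y' hy' := by
  subst e
  refine ⟨by rw [C.B_act (hH hg), ha.1], fun c => ?_⟩
  rw [← Matrix.mulVec_smul, ← sGL_conj C hy (by rw [map_smul, ha.1, smul_zero]) (hH hg)]
  exact mul_mem (mul_mem hg (ha.2 c)) (inv_mem hg)

/-- Some root group with centre in a block leaves the block. -/
def BlockMixed (Q : (ι → F) → F) (B : LinearMap.BilinForm F (ι → F))
    (D : Fin t → Submodule F (ι → F)) (H : Subgroup (GL ι F)) : Prop :=
  ∃ (i : Fin t) (u v : ι → F), u ∈ D i ∧ u ≠ 0 ∧ Q u = 0 ∧ v ∉ D i ∧ B u v = 0 ∧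
    ∀ c : F, sGL Q B u (c • v) ∈ H

section Ctx

variable [Finite F] {H : Subgroup (GL ι F)} (T : BlocksCtx Q B D k H)

include T

omit [Finite F] in
theorem BlocksCtx.mem_of_pres {g : GL ι F} (hg : g ∈ Cfsg.Geo.omegaGL Q)
    (h : ∀ i, ∀ y ∈ D i, g.val *ᵥ y ∈ D i) : g ∈ H :=
  T.le ⟨T.blocks.mem_stab_of_perm 1 h, hg⟩

theorem BlocksCtx.sGL_mem_block {j : Fin t} {u b : ι → F} (hu : u ∈ D j) (hb : b ∈ D j)
    (hQu : Q u = 0) (hub : B u b = 0) : sGL Q B u b ∈ H :=
  T.mem_of_pres (by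
    rw [omegaGL_eq T.blocks.space T.blocks.five]
    exact sGL_mem_root trivial trivial hQu hub)
    fun i _ hy => T.blocks.sGL_pres hu hb hQu hub i hy

theorem BlocksCtx.rr_mem {j l : Fin t} {p r : ι → F} (hp : p ∈ D j) (hr : r ∈ D l)
    (hQp : Q p ≠ 0) (hpr : Q p = Q r) : rGL Q p * rGL Q r ∈ H :=
  T.mem_of_pres (by
    rw [omegaGL_eq T.blocks.space T.blocks.five, ← comm_eq_root T.blocks.space T.blocks.five]
    exact rGL_mul_rGL_mem T.blocks.space T.blocks.five hQp hpr)
    fun i y hy => by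
      rw [mul_act]
      exact T.blocks.refl_pres hp hQp i (T.blocks.refl_pres hr (hpr ▸ hQp) i hy)

theorem BlocksCtx.root_of_block {j : Fin t} {u b : ι → F} (hu : u ∈ D j) (hb : b ∈ D j)
    (hQu : Q u = 0) (hub : B u b = 0) : b ∈ rootsAt Q B T.blocks.space H u hQu :=
  ⟨hub, fun c => T.sGL_mem_block hu ((D j).smul_mem c hb) hQu (by rw [map_smul, hub, smul_zero])⟩

omit T in
/-- Every isometry is corrected into `Ω` by reflections of one block. -/
theorem Blocks.exists_correct (X : Blocks Q B D k) (l : Fin t) {g : GL ι F}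
    (hg : g ∈ isometryGroup F Q) :
    ∃ c ∈ blockRefl Q (D l), g * c ∈ Cfsg.Geo.omegaGL Q := by
  have C := X.space
  have h5 := X.five
  rw [omegaGL_eq C h5]
  have hconj : ∀ {g x}, g ∈ isometryGroup F Q → x ∈ Root Q B ⊤ → g * x * g⁻¹ ∈ Root Q B ⊤ :=
    fun hg hx => root_conj C hg hx
  have hKI : blockRefl Q (D l) ≤ isometryGroup F Q := (Subgroup.closure_le _).mpr (by
    rintro _ ⟨c, -, hQc, rfl⟩
    exact rGL_mem C hQc)
  rw [iso_eq_closure C] at hg
  refine Subgroup.closure_induction (p := fun g _ => ∃ c ∈ blockRefl Q (D l),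
    g * c ∈ Root Q B ⊤) ?_ ?_ ?_ ?_ hg
  · rintro x (⟨v, hv, rfl⟩ | ⟨u, v, hu, -, huv, rfl⟩)
    · obtain ⟨e, f, hH⟩ := X.exists_hypIn l
      have hQ : Q (e + Q v • f) = Q v := by
        rw [C.add, C.smul, hH.singE, hH.singF, map_smul, hH.pair]
        simp
      refine ⟨_, Subgroup.subset_closure
        ⟨_, (D l).add_mem hH.memE ((D l).smul_mem _ hH.memF), by rwa [hQ], rfl⟩, ?_⟩
      rw [← comm_eq_root C h5]
      exact rGL_mul_rGL_mem C h5 hv hQ.symm
    · exact ⟨1, one_mem _, by rw [mul_one]; exact sGL_mem_root trivial trivial hu huv⟩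
  · exact ⟨1, one_mem _, by rw [mul_one]; exact one_mem _⟩
  · rintro a b ha hb ⟨c1, hc1, h1⟩ ⟨c2, hc2, h2⟩
    refine ⟨c2 * c1, mul_mem hc2 hc1, ?_⟩
    rw [show a * b * (c2 * c1) = (a * (b * c2) * a⁻¹) * (a * c1) by group]
    exact mul_mem (hconj ((iso_eq_closure C).symm ▸ ha) h2) h1
  · rintro a ha ⟨c, hc, h⟩
    refine ⟨c⁻¹, inv_mem hc, ?_⟩
    have := inv_mem (hconj (hKI hc) h)
    rwa [show (c * (a * c) * c⁻¹)⁻¹ = a⁻¹ * c⁻¹ by group] at this

omit [Finite F] T in
theorem Blocks.blockRefl_props (X : Blocks Q B D k) {l : Fin t} {c : GL ι F}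
    (hc : c ∈ blockRefl Q (D l)) :
    (∀ i, ∀ y ∈ D i, c.val *ᵥ y ∈ D i) ∧ ∀ i, i ≠ l → ∀ y ∈ D i, c.val *ᵥ y = y := by
  refine Subgroup.closure_induction (p := fun c _ => (∀ i, ∀ y ∈ D i, c.val *ᵥ y ∈ D i) ∧
    ∀ i, i ≠ l → ∀ y ∈ D i, c.val *ᵥ y = y) ?_ ?_ ?_ ?_ hc
  · rintro _ ⟨p, hp, hQp, rfl⟩
    exact ⟨fun i y hy => X.refl_pres hp hQp i hy, fun i hi y hy =>
      rGL_fix X.space hQp (X.orth l i (Ne.symm hi) p hp y hy)⟩
  · exact ⟨fun i y hy => by simpa using hy, fun i _ y _ => by simp⟩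
  · rintro a b - - ⟨ha, ha'⟩ ⟨hb, hb'⟩
    exact ⟨fun i y hy => by rw [mul_act]; exact ha i _ (hb i y hy),
      fun i hi y hy => by rw [mul_act, hb' i hi y hy, ha' i hi y hy]⟩
  · rintro a - ⟨ha, ha'⟩
    exact ⟨fun i y hy => stab_mem (Subgroup.inv_mem _ (mem_stab_of_mapsTo (ha i))) hy,
      fun i hi y hy => act_injective a (by simp only [act_inv, ha' i hi y hy])⟩

/-- An element of `H` exchanging two blocks and fixing a third pointwise. -/
theorem BlocksCtx.exists_swap {i l j : Fin t} (hli : l ≠ i) (hji : j ≠ i) (hlj : l ≠ j) :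
    ∃ g ∈ H, (∀ y ∈ D i, g.val *ᵥ y = y) ∧ ∀ y ∈ D j, ∃ z ∈ D l, g.val *ᵥ z = y := by
  have X := T.blocks
  have C := X.space
  obtain ⟨e, he⟩ := X.isom (by
    have := Fin.val_ne_of_ne hli
    have := Fin.val_ne_of_ne hji
    have := Fin.val_ne_of_ne hlj
    omega) l j
  let el : (ι → F) →ₗ[F] (ι → F) := (D j).subtype ∘ₗ e.toLinearMap ∘ₗ
    LinearMap.codRestrict (D l) (X.comp l) (X.comp_mem l)
  let ej : (ι → F) →ₗ[F] (ι → F) := (D l).subtype ∘ₗ e.symm.toLinearMap ∘ₗ
    LinearMap.codRestrict (D j) (X.comp j) (X.comp_mem j)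
  have helm : ∀ x, el x ∈ D j := fun x => (e ⟨_, X.comp_mem l x⟩).2
  have hejm : ∀ x, ej x ∈ D l := fun x => (e.symm ⟨_, X.comp_mem j x⟩).2
  have helQ : ∀ x, Q (el x) = Q (X.comp l x) := fun x => he ⟨_, X.comp_mem l x⟩
  have hejQ : ∀ x, Q (ej x) = Q (X.comp j x) := fun x => by
    have h := he (e.symm ⟨_, X.comp_mem j x⟩)
    rw [e.apply_symm_apply] at h
    exact h.symm
  let S : (ι → F) →ₗ[F] (ι → F) := LinearMap.id - X.comp l - X.comp j + el + ej
  have hS : ∀ x, S x = (x - X.comp l x - X.comp j x) + el x + ej x := fun x => rfl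
  set R : (ι → F) → (ι → F) := fun x => x - X.comp l x - X.comp j x with hR
  have hRl : ∀ x, X.comp l (R x) = 0 := fun x => by
    simp only [hR, map_sub, X.comp_self (X.comp_mem l x),
      X.comp_other (Ne.symm hlj) (X.comp_mem j x), sub_self]
  have hRj : ∀ x, X.comp j (R x) = 0 := fun x => by
    simp only [hR, map_sub, X.comp_self (X.comp_mem j x),
      X.comp_other hlj (X.comp_mem l x), sub_zero, sub_self]
  have hCl : ∀ x, X.comp l (S x) = ej x := fun x => by
    rw [hS, map_add, map_add, X.comp_other (Ne.symm hlj) (helm x), X.comp_self (hejm x)]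
    simpa [hR] using hRl x
  have hCj : ∀ x, X.comp j (S x) = el x := fun x => by
    rw [hS, map_add, map_add, X.comp_other hlj (hejm x), X.comp_self (helm x)]
    simpa [hR] using hRj x
  have hinv : ∀ x, S (S x) = x := fun x => by
    have e1 : el (S x) = X.comp j x := by
      show ((e ⟨X.comp l (S x), _⟩ : D j) : ι → F) = _
      rw [show (⟨X.comp l (S x), X.comp_mem l _⟩ : D l) = e.symm ⟨_, X.comp_mem j x⟩ from
        Subtype.ext (hCl x), e.apply_symm_apply]
    have e2 : ej (S x) = X.comp l x := by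
      show ((e.symm ⟨X.comp j (S x), _⟩ : D l) : ι → F) = _
      rw [show (⟨X.comp j (S x), X.comp_mem j _⟩ : D j) = e ⟨_, X.comp_mem l x⟩ from
        Subtype.ext (hCj x), e.symm_apply_apply]
    rw [hS (S x), hCl, hCj, e1, e2, hS]
    abel
  have hQS : ∀ x, Q (S x) = Q x := fun x => by
    rw [X.Q_sum, X.Q_sum x]
    rw [← Finset.sum_erase_add _ _ (Finset.mem_univ l), ← Finset.sum_erase_add _ (fun m => Q (X.comp m x)) (Finset.mem_univ l)]
    rw [← Finset.sum_erase_add _ _ (Finset.mem_erase.mpr ⟨Ne.symm hlj, Finset.mem_univ j⟩),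
      ← Finset.sum_erase_add _ (fun m => Q (X.comp m x))
        (Finset.mem_erase.mpr ⟨Ne.symm hlj, Finset.mem_univ j⟩)]
    rw [hCl, hCj, helQ, hejQ, Finset.sum_congr rfl fun m hm => ?_]
    · ring
    · simp only [Finset.mem_erase] at hm
      rw [hS, map_add, map_add, map_sub, map_sub, X.comp_other (Ne.symm hm.2.1) (X.comp_mem l x),
        X.comp_other (Ne.symm hm.1) (X.comp_mem j x), X.comp_other (Ne.symm hm.1) (helm x),
        X.comp_other (Ne.symm hm.2.1) (hejm x)]
      simp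
  have hM : LinearMap.toMatrix' S * LinearMap.toMatrix' S = 1 := mat_ext fun x => by
    rw [← Matrix.mulVec_mulVec, LinearMap.toMatrix'_mulVec, LinearMap.toMatrix'_mulVec, hinv,
      Matrix.one_mulVec]
  set g0 := toGL (LinearMap.toMatrix' S) with hg0
  have hact : ∀ x, g0.val *ᵥ x = S x := fun x => by
    rw [hg0, toGL_val hM, LinearMap.toMatrix'_mulVec]
  have hg0I : g0 ∈ isometryGroup F Q := mem_iso.mpr fun x => by rw [hact, hQS]
  obtain ⟨c, hc, hΩ⟩ := X.exists_correct l hg0I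
  obtain ⟨hc1, hc2⟩ := X.blockRefl_props hc
  have hSl : ∀ y ∈ D l, S y ∈ D j := fun y hy => by
    rw [hS, X.comp_self hy, X.comp_other hlj hy, sub_self, zero_sub, neg_zero, zero_add,
      show ej y = ((e.symm ⟨_, X.comp_mem j y⟩ : D l) : ι → F) from rfl,
      show (⟨X.comp j y, X.comp_mem j y⟩ : D j) = 0 from Subtype.ext (X.comp_other hlj hy),
      map_zero, Submodule.coe_zero, add_zero]
    exact helm y
  have hSj : ∀ y ∈ D j, S y ∈ D l := fun y hy => by
    rw [hS, X.comp_self hy, X.comp_other (Ne.symm hlj) hy, sub_zero, sub_self, zero_add,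
      show el y = ((e ⟨_, X.comp_mem l y⟩ : D j) : ι → F) from rfl,
      show (⟨X.comp l y, X.comp_mem l y⟩ : D l) = 0 from
        Subtype.ext (X.comp_other (Ne.symm hlj) hy),
      map_zero, Submodule.coe_zero, zero_add]
    exact hejm y
  have hSo : ∀ m, m ≠ l → m ≠ j → ∀ y ∈ D m, S y = y := fun m h1 h2 y hy => by
    rw [hS, X.comp_other h1 hy, X.comp_other h2 hy,
      show el y = ((e ⟨_, X.comp_mem l y⟩ : D j) : ι → F) from rfl,
      show ej y = ((e.symm ⟨_, X.comp_mem j y⟩ : D l) : ι → F) from rfl,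
      show (⟨X.comp l y, X.comp_mem l y⟩ : D l) = 0 from Subtype.ext (X.comp_other h1 hy),
      show (⟨X.comp j y, X.comp_mem j y⟩ : D j) = 0 from Subtype.ext (X.comp_other h2 hy)]
    simp
  refine ⟨g0 * c, T.le ⟨X.mem_stab_of_perm (Equiv.swap l j) fun m y hy => ?_, hΩ⟩,
    fun y hy => ?_, fun y hy => ?_⟩
  · rw [mul_act, hact]
    have hy' := hc1 m y hy
    by_cases h1 : m = l
    · subst h1; rw [Equiv.swap_apply_left]; exact hSl _ hy'
    by_cases h2 : m = j
    · subst h2; rw [Equiv.swap_apply_right]; exact hSj _ hy'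
    rw [Equiv.swap_apply_of_ne_of_ne h1 h2, hSo m h1 h2 _ hy']
    exact hy'
  · rw [mul_act, hc2 i (Ne.symm hli) y hy, hact]
    exact hSo i (Ne.symm hli) (Ne.symm hji) y hy
  · have hz : (c⁻¹ : GL ι F).val *ᵥ S y ∈ D l :=
      (X.blockRefl_props (inv_mem hc)).1 l _ (hSj y hy)
    exact ⟨_, hz, by rw [mul_act, act_inv, hact, hinv]⟩

/-- The whole of a block lies in an invariant subspace not perpendicular to it. -/
theorem BlocksCtx.block_le {u : ι → F} (hu : Q u = 0) {i l : Fin t} (hui : u ∈ D i) (hli : l ≠ i)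
    {v : ι → F} (hv : v ∈ rootsAt Q B T.blocks.space H u hu) (hvl : T.blocks.comp l v ≠ 0) :
    D l ≤ rootsAt Q B T.blocks.space H u hu := by
  have X := T.blocks
  have C := X.space
  set M := rootsAt Q B C H u hu
  have step : ∀ w ∈ D l, Q w = 0 → w ≠ 0 → ∀ z ∈ M, B w z ≠ 0 →
      ∀ b ∈ D l, B w b = 0 → b ∈ M := by
    intro w hw hQw hw0 z hz hwz
    have hdiff : ∀ b ∈ D l, B w b = 0 → ∀ c : F,
        (c * B w z) • b - (c * B b z + c ^ 2 * Q b * B w z) • w ∈ M := by
      intro b hb hwb c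
      have hwcb : B w (c • b) = 0 := by rw [map_smul, hwb, smul_zero]
      have hg := T.sGL_mem_block hw ((D l).smul_mem c hb) hQw hwcb
      have hgu : (sGL Q B w (c • b)).val *ᵥ u = u := by
        rw [sGL_act C hQw hwcb, X.orth l i hli w hw u hui,
          X.orth l i hli _ ((D l).smul_mem c hb) u hui]
        simp
      have h1 := M.sub_mem (rootsAt_act C T.le_iso hg (hy' := hu) hgu hz) hz
      rw [sGL_act C hQw hwcb, C.smul, map_smul, LinearMap.smul_apply, smul_eq_mul] at h1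
      convert h1 using 1
      module
    obtain ⟨b0, hb0, hQb0, hwb0⟩ := X.exists_nonsing_perp hw hw0 hQw
    have hwM : w ∈ M := by
      have h1 := M.add_mem (hdiff b0 hb0 hwb0 1) (hdiff b0 hb0 hwb0 (-1))
      have h2 : (-(2 * Q b0 * B w z)) • w ∈ M := by
        convert h1 using 1
        module
      exact (M.smul_mem_iff (by simp [X.two, hQb0, hwz])).mp h2
    intro b hb hwb
    have h1 := M.add_mem (hdiff b hb hwb 1)
      (M.smul_mem (1 * B b z + 1 ^ 2 * Q b * B w z) hwM)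
    rw [sub_add_cancel, one_mul] at h1
    exact (M.smul_mem_iff hwz).mp h1
  obtain ⟨w, hw, hQw, hwv⟩ := X.exists_sing_ne hvl
  have hw0 : w ≠ 0 := fun h => hwv (by rw [h, map_zero, LinearMap.zero_apply])
  obtain ⟨f, hf⟩ := exists_hyp C (X.nd l) hw hw0 hQw
  have hwM : w ∈ M := step w hw hQw hw0 v hv hwv w hw (C.self_zero hQw)
  have hf0 : f ≠ 0 := fun h => by have := hf.pair; rw [h, map_zero] at this; exact zero_ne_one this
  have hfM : f ∈ M := step f hf.memF hf.singF hf0 w hwM (by rw [hf.pair' C]; exact one_ne_zero)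
    f hf.memF (C.self_zero hf.singF)
  intro y hy
  rw [show y = (y - B w y • f) + B w y • f by abel]
  exact M.add_mem (step w hw hQw hw0 v hv hwv _ ((D l).sub_mem hy ((D l).smul_mem _ hf.memF))
    (by rw [map_sub, map_smul, hf.pair]; simp)) (M.smul_mem _ hfM)

theorem BlocksCtx.centre_of_mixed {i : Fin t} {u v : ι → F} (hui : u ∈ D i) (hu : Q u = 0)
    (hv : v ∈ rootsAt Q B T.blocks.space H u hu) (hvi : v ∉ D i) : Centre Q B H u := by
  have X := T.blocks
  set M := rootsAt Q B X.space H u hu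
  obtain ⟨l, hli, hvl⟩ : ∃ l, l ≠ i ∧ X.comp l v ≠ 0 := by
    by_contra h
    push Not at h
    exact hvi (X.mem_of_comp h)
  have hl := T.block_le hu hui hli hv hvl
  have hall : ∀ j, j ≠ i → D j ≤ M := by
    intro j hji
    by_cases hlj : l = j
    · exact hlj ▸ hl
    obtain ⟨g, hg, hgi, hgj⟩ := T.exists_swap hli hji hlj
    intro y hy
    obtain ⟨z, hz, rfl⟩ := hgj y hy
    exact rootsAt_act X.space T.le_iso hg (hgi u hui) (hl hz)
  intro a ha
  have haM : a ∈ M := by
    rw [← X.sum_comp a]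
    refine Submodule.sum_mem _ fun j _ => ?_
    by_cases hji : j = i
    · subst hji
      exact T.root_of_block hui (X.comp_mem j a) hu (by rw [X.comp_B' j a hui, ha])
    · exact hall j hji (X.comp_mem j a)
  simpa using haM.2 1

theorem BlocksCtx.omega_le_of_mixed (h : BlockMixed Q B D H) : Cfsg.Geo.omegaGL Q ≤ H := by
  have X := T.blocks
  have C := X.space
  obtain ⟨i, u, v, hui, hu0, hQu, hvi, huv, hv⟩ := h
  have hC := T.centre_of_mixed hui hQu (v := v) ⟨huv, hv⟩ hvi
  obtain ⟨l, hli⟩ : ∃ l, l ≠ i := by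
    have : Nontrivial (Fin t) := Fin.nontrivial_iff_two_le.mpr X.two_le
    exact exists_ne i
  obtain ⟨e, f, hH⟩ := X.exists_hypIn l
  have key : ∀ w ∈ D l, Q w = 0 → Centre Q B H w := by
    intro w hw hQw
    have huw : B u w = 0 := X.orth i l (Ne.symm hli) u hui w hw
    have hp : RPair Q B H u w := ⟨hQu, hQw, huw, fun c => hC _ (by rw [map_smul, huw, smul_zero])⟩
    have hp' := RPair.symm C hp
    exact T.centre_of_mixed hw hQw (v := u) ⟨hp'.2.2.1, hp'.2.2.2⟩
      fun h' => hu0 (X.disj (Ne.symm hli) hui h')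
  exact omega_le_of_two C X.five T.le_iso hH.singE hH.singF (by rw [hH.pair]; exact one_ne_zero)
    (key e hH.memE hH.singE) (key f hH.memF hH.singF)

end Ctx

end Cfsg.Lib.Linear.Orth
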