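import Cfsg.Agent.Lib.Linear.OrthTrans

/-!
# Maximal subgroups of `Ω`: two opposite centres, singular subspaces, non-singular vectors

A subgroup containing all Siegel elements with centres at two non-orthogonal singular vectors
contains `Ω`.  From this the stabilisers of totally singular subspaces and of non-singular lines
are maximal.
-/

set_option autoImplicit false

namespace Cfsg.Lib.Linear.Orth

open Module
open scoped Matrix

variable {ι : Type} [Fintype ι] [DecidableEq ι] {F : Type*} [Field F]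
  {Q : (ι → F) → F} {B : LinearMap.BilinForm F (ι → F)}

/-- All Siegel elements with centre `u` lie in `H`. -/
def Centre (Q : (ι → F) → F) (B : LinearMap.BilinForm F (ι → F)) (H : Subgroup (GL ι F))
    (u : ι → F) : Prop := ∀ a, B u a = 0 → sGL Q B u a ∈ H

theorem Space.exists_dual (C : Space Q B) (φ : Module.Dual F (ι → F)) : ∃ v, B v = φ := by
  have hinj : Function.Injective B := by
    rw [injective_iff_map_eq_zero]
    exact fun a ha => C.nondeg' fun u => LinearMap.congr_fun ha u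
  exact (LinearMap.injective_iff_surjective_of_finrank_eq_finrank
    (f := B) (Subspace.dual_finrank_eq).symm).mp hinj φ

/-- A vector with given pairings against a subspace and a vector outside it. -/
theorem Space.exists_perp (C : Space Q B) {A : Submodule F (ι → F)} {x : ι → F} (hx : x ∉ A) :
    ∃ y, (∀ a ∈ A, B a y = 0) ∧ B x y = 1 := by
  obtain ⟨φ, hφx, hφ⟩ := Submodule.exists_dual_map_eq_bot_of_notMem hx inferInstance
  obtain ⟨v, hv⟩ := C.exists_dual ((φ x)⁻¹ • φ)
  refine ⟨v, fun a ha => ?_, ?_⟩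
  · have h : φ a ∈ A.map φ := ⟨a, ha, rfl⟩
    rw [hφ, Submodule.mem_bot] at h
    rw [C.symm, hv, LinearMap.smul_apply, h, smul_zero]
  · rw [C.symm, hv, LinearMap.smul_apply, smul_eq_mul, inv_mul_cancel₀ hφx]

/-- A totally isotropic subspace has at most half the dimension. -/
theorem iso_bound (C : Space Q B) {A : Submodule F (ι → F)}
    (hA : ∀ x ∈ A, ∀ y ∈ A, B x y = 0) : 2 * finrank F A ≤ Fintype.card ι := by
  let Φ : A →ₗ[F] Module.Dual F (ι → F) := B.domRestrict A
  have hinj : Function.Injective Φ := by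
    rw [injective_iff_map_eq_zero]
    intro a ha
    exact Subtype.ext (C.nondeg' fun u => LinearMap.congr_fun ha u)
  have hle : LinearMap.range Φ ≤ A.dualAnnihilator := by
    rintro _ ⟨a, rfl⟩
    rw [Submodule.mem_dualAnnihilator]
    exact fun x hx => hA _ a.2 x hx
  have h1 := Submodule.finrank_mono hle
  rw [LinearMap.finrank_range_of_inj hinj] at h1
  have h2 := Subspace.finrank_add_finrank_dualAnnihilator_eq A
  rw [finrank_fintype_fun_eq_card] at h2
  omega

theorem finrank_ker_prod_ge (x y : ι → F) :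
    Fintype.card ι ≤ finrank F (perp2 B ⊤ x y) + 2 := by
  have h1 := LinearMap.finrank_range_add_finrank_ker ((B x).prod (B y))
  have h2 := Submodule.finrank_le (LinearMap.range ((B x).prod (B y)))
  have h3 : LinearMap.ker ((B x).prod (B y)) = perp2 B ⊤ x y := by
    rw [LinearMap.ker_prod, perp2, top_inf_eq]
  rw [h3, finrank_fintype_fun_eq_card] at h1
  rw [Module.finrank_prod, Module.finrank_self] at h2
  omega

theorem mem_stab_of_mapsTo {W : Submodule F (ι → F)} {g : GL ι F}
    (h : ∀ w ∈ W, g.val *ᵥ w ∈ W) : g ∈ Cfsg.Geo.subspaceStabilizer W := by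
  intro v
  refine ⟨h v, fun hv => ?_⟩
  have hW : W.map (Matrix.mulVecLin g.val) = W := by
    refine Submodule.eq_of_le_of_finrank_eq (fun _ ⟨w, hw, e⟩ => e ▸ h w hw) ?_
    exact (Submodule.equivMapOfInjective _ (act_injective g) W).finrank_eq.symm
  obtain ⟨w, hw, e⟩ : (Cfsg.glToMat ι F g) *ᵥ v ∈ W.map (Matrix.mulVecLin g.val) := by
    rw [hW]; exact hv
  exact act_injective g e ▸ hw

theorem stab_mem {W : Submodule F (ι → F)} {g : GL ι F}
    (h : g ∈ Cfsg.Geo.subspaceStabilizer W) {w : ι → F} (hw : w ∈ W) : g.val *ᵥ w ∈ W :=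
  (h w).mp hw

section Two

variable [Finite F] (C : Space Q B) (h5 : 5 ≤ Fintype.card ι) {H : Subgroup (GL ι F)}
  (hH : H ≤ isometryGroup F Q)

include C

omit [Finite F] in
theorem centre_act (hH : H ≤ isometryGroup F Q) {u : ι → F} (hu : Q u = 0) {g : GL ι F}
    (hg : g ∈ H) (h : Centre Q B H u) : Centre Q B H (g.val *ᵥ u) := fun a ha => by
  have ha' : B u ((g⁻¹ : GL ι F).val *ᵥ a) = 0 := by
    rw [← C.B_act (hH hg), act_inv]; exact ha
  have hmem := mul_mem (mul_mem hg (h _ ha')) (inv_mem hg)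
  rwa [sGL_conj C hu ha' (hH hg), act_inv] at hmem

omit [Finite F] in
theorem centre_smul {u : ι → F} (hu : Q u = 0) (h : Centre Q B H u) {c : F} (hc : c ≠ 0) :
    Centre Q B H (c • u) := fun a ha => by
  have ha' : B u a = 0 := by simpa [hc] using ha
  rw [sGL_smul C hu ha']
  exact h _ (by rw [map_smul, ha', smul_zero])

include h5 hH

theorem omega_le_of_two {e f : ι → F} (he : Q e = 0) (hf : Q f = 0) (hef : B e f ≠ 0)
    (hCe : Centre Q B H e) (hCf : Centre Q B H f) : Cfsg.Geo.omegaGL Q ≤ H := by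
  rw [omegaGL_eq C h5]
  set f' := (B e f)⁻¹ • f with hf'
  have hCf' : Centre Q B H f' := centre_smul C hf hCf (inv_ne_zero hef)
  have hp : Hyp Q B ⊤ e f' :=
    ⟨trivial, trivial, he, by rw [hf', C.smul, hf, mul_zero],
      by rw [hf', map_smul, smul_eq_mul, inv_mul_cancel₀ hef]⟩
  set W := perp2 B ⊤ e f' with hW
  have hWn : NDeg B W := hp.ndeg C C.ndeg_top
  have hW3 : 3 ≤ finrank F W := by
    have := hp.le_finrank C
    rw [← hW, finrank_top, finrank_fintype_fun_eq_card] at this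
    omega
  have one : ∀ x, Q x = 0 → B e x ≠ 0 → Centre Q B H x := by
    intro x hx hex
    set y := (B e x)⁻¹ • x with hy
    have hey : B e y = 1 := by rw [hy, map_smul, smul_eq_mul, inv_mul_cancel₀ hex]
    have hy0 : Q y = 0 := by rw [hy, C.smul, hx, mul_zero]
    set a := -(y - B f' y • e - f') with hadef
    have haW : a ∈ W := by
      have := W.neg_mem (hp.proj C (x := y) trivial)
      rwa [hey, one_smul] at this
    obtain ⟨-, hea, hfa⟩ := mem_perp2.mp haW
    have hg := hCe a hea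
    have hgy : (sGL Q B e a).val *ᵥ y = f' := by
      have h1 : (sGL Q B e a).val *ᵥ y = (B f' y - (B a y + Q a)) • e + f' := by
        rw [sGL_act C he hea, hey, mul_one, one_smul]
        have ha' : y + a = B f' y • e + f' := by rw [hadef]; abel
        rw [ha']
        module
      have h2 := mem_iso.mp (sGL_mem C he hea) y
      rw [h1, hy0, C.add, C.smul, he, hp.singF] at h2
      simp only [LinearMap.map_smul₂, hp.pair, mul_zero, zero_add, smul_eq_mul, mul_one] at h2
      rw [h1, h2, zero_smul, zero_add]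
    have hy' := centre_act C hH hp.singF (inv_mem hg) hCf'
    rw [← hgy, inv_act] at hy'
    have := centre_smul C hy0 hy' hex
    rwa [hy, smul_smul, mul_inv_cancel₀ hex, one_smul] at this
  have all : ∀ x, Q x = 0 → Centre Q B H x := by
    intro x hx
    by_cases hex : B e x ≠ 0
    · exact one x hx hex
    push Not at hex
    by_cases hz : ∃ z ∈ W, B z x ≠ 0
    · obtain ⟨w, hwW, hQw, hwx⟩ := exists_sing_pair C hWn hW3 hz
      obtain ⟨-, hew, hfw⟩ := mem_perp2.mp hwW
      have hg := hCf' w hfw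
      have h1 : B e ((sGL Q B f' w).val *ᵥ x) ≠ 0 := by
        rw [sGL_act C hp.singF hfw]
        simp [hex, hew, hp.pair, hwx, hQw]
      have h2 : Q ((sGL Q B f' w).val *ᵥ x) = 0 := by
        rw [mem_iso.mp (sGL_mem C hp.singF hfw), hx]
      have h3 := centre_act C hH h2 (inv_mem hg) (one _ h2 h1)
      rwa [inv_act] at h3
    push Not at hz
    have hx' : x - B f' x • e = 0 := by
      refine hWn _ (by simpa [hex] using hp.proj C (x := x) trivial) fun y hy => ?_
      obtain ⟨-, hey, -⟩ := mem_perp2.mp hy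
      rw [C.symm, map_sub, map_smul, hz y hy, C.symm y e, hey]
      simp
    intro b hb
    by_cases hc : B f' x = 0
    · rw [hc, zero_smul, sub_zero] at hx'
      subst hx'
      have : sGL Q B 0 b = 1 := gl_ext fun y => by rw [sGL_act C hx hb]; simp
      exact this ▸ one_mem H
    · rw [sub_eq_zero.mp hx'] at hb ⊢
      exact centre_smul C he hCe hc b hb
  exact (Subgroup.closure_le _).mpr fun g ⟨u, a, _, _, hu, hua, hg⟩ => hg ▸ all u hu a hua

end Two

section Singular

variable [Finite F] (C : Space Q B) (h7 : 7 ≤ Fintype.card ι)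

include C h7

theorem singular_max {W : Submodule F (ι → F)} (hW0 : W ≠ ⊥) (hW : ∀ w ∈ W, Q w = 0)
    (hdim : ∀ M : Submodule F (ι → F), (∀ x ∈ M, Q x = 0) → W < M →
      2 * (finrank F W + 1) < Fintype.card ι) :
    Cfsg.Geo.IsMaximalIn (Cfsg.Geo.omegaGL Q)
      (Cfsg.Geo.subspaceStabilizer W ⊓ Cfsg.Geo.omegaGL Q) := by
  have hO : Cfsg.Geo.omegaGL Q = Root Q B ⊤ := omegaGL_eq C (by omega)
  have hWB : ∀ x ∈ W, ∀ y ∈ W, B x y = 0 := fun x hx y hy => by
    have := hW _ (W.add_mem hx hy)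
    rw [C.add, hW x hx, hW y hy] at this
    simpa using this
  refine ⟨lt_of_le_of_ne inf_le_right fun heq => ?_, fun H hLH hHΩ => ?_⟩
  · obtain ⟨w, hw, hw0⟩ := Submodule.exists_mem_ne_zero_of_ne_bot hW0
    obtain ⟨f, hf⟩ := exists_hyp C C.ndeg_top trivial hw0 (hW w hw)
    obtain ⟨a, ha, hQa⟩ : ∃ a ∈ perp2 B ⊤ w f, Q a ≠ 0 :=
      exists_nonsing_of_lt C (by
        have := finrank_ker_prod_ge (B := B) w f
        omega)
    obtain ⟨-, hwa, hfa⟩ := mem_perp2.mp ha
    have hmem : sGL Q B f a ∈ Cfsg.Geo.subspaceStabilizer W ⊓ Cfsg.Geo.omegaGL Q := by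
      rw [heq, hO]
      exact sGL_mem_root trivial trivial hf.singF hfa
    have h1 := hWB w hw _ (stab_mem hmem.1 hw)
    rw [sGL_act C hf.singF hfa] at h1
    simp [C.self_zero (hW w hw), hwa, hf.pair, hf.pair' C, C.symm a w, hQa] at h1
  by_cases hHL : H ≤ Cfsg.Geo.subspaceStabilizer W
  · exact Or.inl (le_antisymm (le_inf hHL hHΩ) hLH)
  refine Or.inr (le_antisymm hHΩ ?_)
  have hHI : H ≤ isometryGroup F Q := hHΩ.trans (hO ▸ root_le_iso C _)
  have hcentre : ∀ u ∈ W, Centre Q B H u := fun u hu a ha => hLH <| Subgroup.mem_inf.mpr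
    ⟨mem_stab_of_mapsTo fun w hw => by
        rw [sGL_act C (hW u hu) ha, hWB u hu w hw, zero_smul, add_zero]
        exact W.sub_mem hw (W.smul_mem _ hu),
      hO ▸ sGL_mem_root trivial trivial (hW u hu) ha⟩
  by_cases hex : ∃ g ∈ H, ∃ w ∈ W, ∃ w' ∈ W, B (g.val *ᵥ w) w' ≠ 0
  · obtain ⟨g, hg, w, hw, w', hw', hne⟩ := hex
    exact omega_le_of_two C (by omega) hHI (by rw [mem_iso.mp (hHI hg), hW w hw]) (hW w' hw') hne
      (centre_act C hHI (hW w hw) hg (hcentre w hw)) (hcentre w' hw')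
  push Not at hex
  exfalso
  set S : Set (ι → F) := {x | ∃ g ∈ H, ∃ w ∈ W, x = g.val *ᵥ w}
  set M := Submodule.span F S
  have hS : ∀ x ∈ S, ∀ y ∈ S, B x y = 0 := by
    rintro _ ⟨g, hg, w, hw, rfl⟩ _ ⟨h, hh, w', hw', rfl⟩
    rw [← C.B_act (inv_mem (hHI hh)), inv_act, ← mul_act]
    exact hex _ (mul_mem (inv_mem hh) hg) w hw w' hw'
  have hMB : ∀ x ∈ M, ∀ y ∈ M, B x y = 0 := fun x hx y hy => by
    have h1 : ∀ s ∈ S, B s y = 0 := fun s hs =>
      (Submodule.span_le (p := LinearMap.ker (B s))).mpr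
        (fun t ht => LinearMap.mem_ker.mpr (hS s hs t ht)) hy
    exact (Submodule.span_le (p := LinearMap.ker (B.flip y))).mpr
      (fun t ht => LinearMap.mem_ker.mpr (h1 t ht)) hx
  have hM : ∀ x ∈ M, Q x = 0 := fun x hx => by
    induction hx using Submodule.span_induction with
    | mem x hx =>
      obtain ⟨g, hg, w, hw, rfl⟩ := hx
      rw [mem_iso.mp (hHI hg), hW w hw]
    | zero => exact C.zero
    | add x y hx hy ihx ihy => rw [C.add, ihx, ihy, hMB x hx y hy]; simp
    | smul c x _ ih => rw [C.smul, ih, mul_zero]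
  have hWM : W ≤ M := fun w hw => Submodule.subset_span ⟨1, one_mem H, w, hw, by simp⟩
  have hinv : ∀ g ∈ H, ∀ x ∈ M, g.val *ᵥ x ∈ M := fun g hg x hx =>
    (Submodule.span_le (p := M.comap (Matrix.mulVecLin g.val))).mpr
      (show S ⊆ _ from fun _ ⟨k, hk, w, hw, e⟩ => Submodule.subset_span
        ⟨g * k, mul_mem hg hk, w, hw, by rw [mul_act, ← e]; rfl⟩) hx
  obtain ⟨x, hxM, hxW⟩ : ∃ x ∈ M, x ∉ W := by
    by_contra hne
    push Not at hne
    exact hHL fun g hg => mem_stab_of_mapsTo fun w hw => hne _ (hinv g hg w (hWM hw))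
  have hk := hdim M hM (lt_of_le_of_ne hWM fun h => hxW (h ▸ hxM))
  obtain ⟨y', hy'W, hxy'⟩ := C.exists_perp hxW
  set y := y' - Q y' • x with hy
  have hQx := hM x hxM
  have hyW : ∀ w ∈ W, B w y = 0 := fun w hw => by
    rw [hy, map_sub, map_smul, hy'W w hw, hMB w (hWM hw) x hxM]; simp
  have hxy : B x y = 1 := by rw [hy, map_sub, map_smul, hxy', C.self_zero hQx]; simp
  have hQy : Q y = 0 := by
    rw [hy, sub_eq_add_neg, ← neg_smul, C.add, C.smul, hQx, map_smul, C.symm y' x, hxy']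
    simp
  let Φ : (ι → F) →ₗ[F] Module.Dual F W :=
    { toFun := fun v => (B v).comp W.subtype
      map_add' := fun a b => by ext; simp
      map_smul' := fun c a => by ext; simp }
  set P := perp2 B (LinearMap.ker Φ) x y with hP
  have hmemΦ : ∀ {v}, v ∈ LinearMap.ker Φ → ∀ w ∈ W, B w v = 0 := fun {v} h w hw => by
    rw [C.symm]; exact LinearMap.congr_fun (LinearMap.mem_ker.mp h) ⟨w, hw⟩
  obtain ⟨a, ha, hQa⟩ : ∃ a ∈ P, Q a ≠ 0 := by
    by_contra hne
    push Not at hne
    have h1 : ∀ z ∈ P ⊔ Submodule.span F {x}, Q z = 0 := by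
      intro z hz
      obtain ⟨p, hp, q, hq, rfl⟩ := Submodule.mem_sup.mp hz
      obtain ⟨c, rfl⟩ := Submodule.mem_span_singleton.mp hq
      rw [C.add, hne p hp, C.smul, hQx, map_smul, C.symm p x, (mem_perp2.mp hp).2.1]
      simp
    have h2 := ts_bound C h1
    have hlt : P < P ⊔ Submodule.span F {x} := lt_of_le_of_ne le_sup_left fun h => by
      have hxP : x ∈ P := h ▸ Submodule.mem_sup_right (Submodule.mem_span_singleton_self x)
      rw [hP, mem_perp2, C.symm y x, hxy] at hxP
      exact one_ne_zero hxP.2.2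
    have h3 := Submodule.finrank_lt_finrank_of_lt hlt
    have h4 := LinearMap.finrank_range_add_finrank_ker Φ
    have h5 := Submodule.finrank_le (LinearMap.range Φ)
    have h6 := Submodule.finrank_sup_add_finrank_inf_eq (LinearMap.ker Φ) (perp2 B ⊤ x y)
    have h7 := Submodule.finrank_le (LinearMap.ker Φ ⊔ perp2 B ⊤ x y)
    have h8 := finrank_ker_prod_ge (B := B) x y
    have h9 : LinearMap.ker Φ ⊓ perp2 B ⊤ x y = P := by simp [hP, perp2]
    rw [h9] at h6
    rw [finrank_fintype_fun_eq_card] at h4 h7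
    rw [Subspace.dual_finrank_eq] at h5
    omega
  obtain ⟨haΦ, hxa, hya⟩ := mem_perp2.mp ha
  have hg : sGL Q B y a ∈ H := hLH <| Subgroup.mem_inf.mpr
    ⟨mem_stab_of_mapsTo fun w hw => by
        rw [sGL_act C hQy hya, C.symm y w, hyW w hw, C.symm a w, hmemΦ haΦ w hw]
        simpa using hw,
      hO ▸ sGL_mem_root trivial trivial hQy hya⟩
  have h := hMB x hxM _ (hinv _ hg x hxM)
  rw [sGL_act C hQy hya] at h
  simp [C.self_zero hQx, hxy, C.symm y x, hxa, C.symm a x, hQa] at h

/-- The stabiliser of a non-singular line is maximal when the line is not moved by a scalar. -/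
theorem nonsingular_line_max {v : ι → F} (hv : Q v ≠ 0) :
    Cfsg.Geo.IsMaximalIn (Cfsg.Geo.omegaGL Q)
      (Cfsg.Geo.subspaceStabilizer (Submodule.span F {v}) ⊓ Cfsg.Geo.omegaGL Q) := by
  have hO : Cfsg.Geo.omegaGL Q = Root Q B ⊤ := omegaGL_eq C (by omega)
  have hv0 : v ≠ 0 := fun h => hv (h ▸ C.zero)
  refine ⟨lt_of_le_of_ne inf_le_right fun heq => ?_, fun H hLH hHΩ => ?_⟩
  · obtain ⟨u, -, hQu, huv⟩ := exists_sing_pair C C.ndeg_top
      (by rw [finrank_top, finrank_fintype_fun_eq_card]; omega)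
      (x := v) (by
        obtain ⟨z, hz⟩ := C.exists_pair hv0
        exact ⟨z, trivial, by rw [C.symm, hz]; exact one_ne_zero⟩)
    obtain ⟨a, ha, hQa⟩ : ∃ a ∈ perp2 B ⊤ u v, Q a ≠ 0 :=
      exists_nonsing_of_lt C (by
        have := finrank_ker_prod_ge (B := B) u v
        omega)
    obtain ⟨-, hua, hva⟩ := mem_perp2.mp ha
    have hmem : sGL Q B u a ∈ Cfsg.Geo.subspaceStabilizer (Submodule.span F {v}) ⊓
        Cfsg.Geo.omegaGL Q := by
      rw [heq, hO]
      exact sGL_mem_root trivial trivial hQu hua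
    obtain ⟨c, hc⟩ := Submodule.mem_span_singleton.mp
      (stab_mem hmem.1 (Submodule.mem_span_singleton_self v))
    rw [sGL_act C hQu hua, C.symm a v, hva, huv] at hc
    have h1 := congrArg (B u) hc
    simp [huv, hua, C.self_zero hQu] at h1
    subst h1
    have h2 : a = Q a • u := by
      rw [one_smul] at hc
      have h3 := congrArg (· - v) hc
      simp only [one_smul, zero_add, mul_one, sub_self] at h3
      rw [show v + a - Q a • u - v = a - Q a • u by abel] at h3
      exact sub_eq_zero.mp h3.symm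
    exact hQa (by
      have h3 := congrArg Q h2
      rwa [C.smul, hQu, mul_zero] at h3)
  by_cases hHL : H ≤ Cfsg.Geo.subspaceStabilizer (Submodule.span F {v})
  · exact Or.inl (le_antisymm (le_inf hHL hHΩ) hLH)
  refine Or.inr (le_antisymm hHΩ ?_)
  have hHI : H ≤ isometryGroup F Q := hHΩ.trans (hO ▸ root_le_iso C _)
  obtain ⟨g, hg, hgv⟩ : ∃ g ∈ H, g.val *ᵥ v ∉ Submodule.span F {v} := by
    by_contra hne
    push Not at hne
    refine hHL fun g hg => mem_stab_of_mapsTo fun w hw => ?_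
    obtain ⟨c, rfl⟩ := Submodule.mem_span_singleton.mp hw
    rw [Matrix.mulVec_smul]
    exact Submodule.smul_mem _ _ (hne g hg)
  set v' := g.val *ᵥ v with hv'
  have hfix : ∀ u a, Q u = 0 → B v u = 0 → B u a = 0 → B v a = 0 → sGL Q B u a ∈ H :=
    fun u a hu hvu hua hva => hLH <| Subgroup.mem_inf.mpr
      ⟨mem_stab_of_mapsTo fun w hw => by
          obtain ⟨c, rfl⟩ := Submodule.mem_span_singleton.mp hw
          rw [sGL_act C hu hua]
          simpa [C.symm u v, hvu, C.symm a v, hva] using hw,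
        hO ▸ sGL_mem_root trivial trivial hu hua⟩
  have hcen : ∀ u, Q u = 0 → B v u = 0 → B v' u = 0 →
      v ∉ Submodule.span F {u, v'} → Centre Q B H u := by
    intro u hu hvu hv'u hnot a ha
    obtain ⟨z, hz, hvz⟩ := C.exists_perp hnot
    have huz := hz u (Submodule.subset_span (by simp))
    have hv'z := hz v' (Submodule.subset_span (by simp))
    have hua1 : B u (a - B v a • z) = 0 := by rw [map_sub, map_smul, ha, huz]; simp
    have hua2 : B u (B v a • z) = 0 := by rw [map_smul, huz, smul_zero]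
    rw [show a = (a - B v a • z) + B v a • z by abel, ← sGL_mul C hu hua1 hua2]
    refine mul_mem (hfix u _ hu hvu hua1 (by rw [map_sub, map_smul, hvz]; simp)) ?_
    have h1 : Q ((g⁻¹ : GL ι F).val *ᵥ u) = 0 := by rw [mem_iso.mp (inv_mem (hHI hg)), hu]
    have h2 : B v ((g⁻¹ : GL ι F).val *ᵥ u) = 0 := by
      rw [← C.B_act_left (hHI hg)]; exact hv'u
    have h3 : B v ((g⁻¹ : GL ι F).val *ᵥ (B v a • z)) = 0 := by
      rw [← C.B_act_left (hHI hg), map_smul, ← hv', hv'z, smul_zero]
    have h4 : B ((g⁻¹ : GL ι F).val *ᵥ u) ((g⁻¹ : GL ι F).val *ᵥ (B v a • z)) = 0 := by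
      rw [C.B_act (inv_mem (hHI hg))]; exact hua2
    have h5 := mul_mem (mul_mem hg (hfix _ _ h1 h2 h4 h3)) (inv_mem hg)
    rwa [sGL_conj C h1 h4 (hHI hg), act_inv, act_inv] at h5
  set P := perp2 B ⊤ v v' with hP
  have hPn := finrank_ker_prod_ge (B := B) v v'
  rw [← hP] at hPn
  obtain ⟨u, hu, u', hu', huu'⟩ : ∃ u, (u ∈ P ∧ Q u = 0) ∧ ∃ u', (u' ∈ P ∧ Q u' = 0) ∧
      B u u' ≠ 0 := by
    by_contra hne
    push Not at hne
    have hspan := Sing.singular_span C.smul C.polar C.nondeg P (by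
      rw [finrank_fintype_fun_eq_card]; omega)
    have hPB : ∀ x ∈ P, ∀ y ∈ P, B x y = 0 := fun x hx y hy =>
      (Submodule.span_le (p := LinearMap.ker (B.flip y))).mpr
        (fun s hs => LinearMap.mem_ker.mpr
          ((Submodule.span_le (p := LinearMap.ker (B s))).mpr
            (fun t ht => LinearMap.mem_ker.mpr (hne s hs t ht)) (hspan hy))) (hspan hx)
    have := iso_bound C hPB
    omega
  obtain ⟨-, hvu, hv'u⟩ := mem_perp2.mp hu.1
  obtain ⟨-, hvu', hv'u'⟩ := mem_perp2.mp hu'.1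
  have key : ∀ {u u'}, Q u = 0 → B v' u = 0 → B v' u' = 0 → B u u' ≠ 0 → B v u' = 0 →
      v ∉ Submodule.span F {u, v'} := by
    intro u u' hQu hvu hvu' huu' hvu2 hmem
    obtain ⟨α, β, hαβ⟩ := Submodule.mem_span_pair.mp hmem
    have h1 := congrArg (B u') hαβ
    rw [map_add, map_smul, map_smul, C.symm u' v', hvu', C.symm u' v, hvu2, C.symm u' u] at h1
    simp [huu'] at h1
    subst h1
    rw [zero_smul, zero_add] at hαβ
    refine hgv ?_
    have hβ : β ≠ 0 := fun h => hv0 (by rw [← hαβ, h, zero_smul])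
    exact Submodule.mem_span_singleton.mpr
      ⟨β⁻¹, by rw [← hαβ, smul_smul, inv_mul_cancel₀ hβ, one_smul]⟩
  exact omega_le_of_two C (by omega) hHI hu.2 hu'.2 huu'
    (hcen u hu.2 hvu hv'u (key hu.2 hv'u hv'u' huu' hvu'))
    (hcen u' hu'.2 hvu' hv'u' (key hu'.2 hv'u' hv'u (by rwa [C.symm]) hvu))

end Singular

end Cfsg.Lib.Linear.Orth
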