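import Cfsg.Agent.Lib.Linear.OrthBlocks

/-!
# The stabiliser of an orthogonal decomposition is maximal (odd characteristic, blocks of dim ≥ 3)

`MaxBlocks.maximal`: for blocks of dimension `k ≥ 3`, provided `5 ≤ k` or (`k = 3`, `5 ≤ q`).
-/

set_option autoImplicit false

namespace Cfsg.Lib.Linear.Orth

open Module
open scoped Matrix

variable {ι : Type} [Fintype ι] [DecidableEq ι] {F : Type*} [Field F]
  {Q : (ι → F) → F} {B : LinearMap.BilinForm F (ι → F)}
  {t : ℕ} {D : Fin t → Submodule F (ι → F)} {k : ℕ}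

section Planes

variable [Finite F] (X : Blocks Q B D k)

include X

/-- The vectors of a block perpendicular to a non-singular one represent everything. -/
theorem Blocks.exists_norm_perp {j : Fin t} {x : ι → F} (hx : x ∈ D j) (hQx : Q x ≠ 0) (c : F) :
    ∃ q ∈ D j, B x q = 0 ∧ Q q = c := by
  have C := X.space
  set P := perpIn B (D j) (Submodule.span F {x}) with hP
  have hxP : ∀ {v}, v ∈ P → B x v = 0 := fun hv => hv.2 x (Submodule.mem_span_singleton_self x)
  have hx2 : (2 : F) * Q x ≠ 0 := mul_ne_zero X.two hQx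
  have hnd : NDeg B P := fun v hv h => by
    refine X.nd j v hv.1 fun y hy => ?_
    have hy' : y - (B x y / (2 * Q x)) • x ∈ P := ⟨(D j).sub_mem hy ((D j).smul_mem _ hx),
      fun a ha => by
        obtain ⟨r, rfl⟩ := Submodule.mem_span_singleton.mp ha
        have h0 : B x (y - (B x y / (2 * Q x)) • x) = 0 := by
          rw [map_sub, map_smul, C.self, smul_eq_mul, div_mul_cancel₀ _ hx2, sub_self]
        rw [map_smul, LinearMap.smul_apply, h0, smul_zero]⟩
    have h1 := h _ hy'
    rw [map_sub, map_smul, C.symm v x, hxP hv, smul_zero, sub_zero] at h1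
    exact h1
  have hx0 : x ≠ 0 := fun h => hQx (h ▸ C.zero)
  have hdim := finrank_perpIn (B := B) (D j) (Submodule.span F {x})
  rw [finrank_span_singleton hx0, X.dim, ← hP] at hdim
  have hk := X.dim3
  obtain ⟨n1, hn1, hQ1⟩ := exists_nonsing C hnd (fun h => by rw [h, finrank_bot] at hdim; omega)
  have h12 : (2 : F) * Q n1 ≠ 0 := mul_ne_zero X.two hQ1
  set P' := perpIn B P (Submodule.span F {n1}) with hP'
  have hn1P : ∀ {v}, v ∈ P' → B n1 v = 0 := fun hv =>
    hv.2 n1 (Submodule.mem_span_singleton_self n1)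
  have hnd' : NDeg B P' := fun v hv h => by
    refine hnd v hv.1 fun y hy => ?_
    have hy' : y - (B n1 y / (2 * Q n1)) • n1 ∈ P' := ⟨P.sub_mem hy (P.smul_mem _ hn1),
      fun a ha => by
        obtain ⟨r, rfl⟩ := Submodule.mem_span_singleton.mp ha
        have h0 : B n1 (y - (B n1 y / (2 * Q n1)) • n1) = 0 := by
          rw [map_sub, map_smul, C.self, smul_eq_mul, div_mul_cancel₀ _ h12, sub_self]
        rw [map_smul, LinearMap.smul_apply, h0, smul_zero]⟩
    have h1 := h _ hy'
    rw [map_sub, map_smul, C.symm v n1, hn1P hv, smul_zero, sub_zero] at h1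
    exact h1
  have hdim' := finrank_perpIn (B := B) P (Submodule.span F {n1})
  rw [finrank_span_singleton (K := F) (fun h : n1 = 0 => hQ1 (by rw [h, C.zero])), ← hP'] at hdim'
  obtain ⟨n2, hn2, hQ2⟩ := exists_nonsing C hnd' (fun h => by rw [h, finrank_bot] at hdim'; omega)
  have := Fintype.ofFinite F
  have hodd : Fintype.card F % 2 = 1 := FiniteField.odd_card_of_char_ne_two fun h => X.two (by
    haveI := ringChar.charP F
    have := CharP.cast_eq_zero F (ringChar F)
    rw [h] at this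
    exact_mod_cast this)
  obtain ⟨a, b, hab⟩ := FiniteField.exists_root_sum_quadratic
    (f := Polynomial.C (Q n1) * Polynomial.X ^ 2)
    (g := Polynomial.C (Q n2) * Polynomial.X ^ 2 + Polynomial.C (-c))
    (Polynomial.degree_C_mul_X_pow 2 hQ1)
    (by
      rw [Polynomial.degree_add_eq_left_of_degree_lt] <;> rw [Polynomial.degree_C_mul_X_pow 2 hQ2]
      · rfl
      · exact lt_of_le_of_lt Polynomial.degree_C_le (by norm_num))
    hodd
  simp only [Polynomial.eval_mul, Polynomial.eval_C, Polynomial.eval_pow, Polynomial.eval_X,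
    Polynomial.eval_add] at hab
  refine ⟨a • n1 + b • n2, (D j).add_mem ((D j).smul_mem _ hn1.1) ((D j).smul_mem _ hn2.1.1), ?_, ?_⟩
  · rw [map_add, map_smul, map_smul, hxP hn1, hxP hn2.1]
    simp
  · rw [C.smul_add, hn1P hn2]
    linear_combination hab

/-- Vectors of the norm of a non-singular vector in a hyperbolic perp have hyperbolic perp. -/
theorem Blocks.hyp_of_norm {j : Fin t} {e f n v : ι → F} (hH : Hyp Q B (D j) e f)
    (hn : n ∈ D j) (hen : B e n = 0) (hfn : B f n = 0) (hQn : Q n ≠ 0) (hv : v ∈ D j)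
    (hvn : Q v = Q n) : ∃ w w' , Hyp Q B (D j) w w' ∧ B v w = 0 ∧ B v w' = 0 := by
  have C := X.space
  obtain ⟨σ, hσ, hne⟩ : ∃ σ : F, σ * σ = 1 ∧ Q (n - σ • v) ≠ 0 := by
    by_contra h
    push Not at h
    have h1 := h 1 (one_mul 1)
    have h2 := h (-1) (by ring)
    rw [sub_eq_add_neg, ← neg_smul, C.add, C.smul, map_smul, hvn, smul_eq_mul] at h1 h2
    have h3 : (2 : F) * (2 * Q n) = 0 := by linear_combination h1 + h2
    exact hQn ((mul_eq_zero.mp ((mul_eq_zero.mp h3).resolve_left X.two)).resolve_left X.two)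
  have hr := rGL_mem C hne
  set g := rGL Q (n - σ • v)
  have hd : n - σ • v ∈ D j := (D j).sub_mem hn ((D j).smul_mem _ hv)
  have hgn : g.val *ᵥ n = σ • v := by
    rw [rGL_act C hne]
    have h1 : B (n - σ • v) n = Q (n - σ • v) := by
      rw [show Q (n - σ • v) = Q (n + (-σ) • v) by rw [neg_smul, ← sub_eq_add_neg], C.add, C.smul,
        map_sub, LinearMap.sub_apply, map_smul, LinearMap.smul_apply, map_smul, C.self, hvn,
        C.symm v n, smul_eq_mul, smul_eq_mul]
      linear_combination (-Q n) * hσ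
    rw [h1, inv_mul_cancel₀ hne, one_smul, sub_sub_cancel]
  have key : ∀ y ∈ D j, B y n = 0 → g.val *ᵥ y ∈ D j ∧ B v (g.val *ᵥ y) = 0 := fun y hy hyn => by
    refine ⟨X.refl_pres hd hne j hy, ?_⟩
    have h1 := C.B_act hr n y
    rw [hgn, C.symm n y, hyn, map_smul, LinearMap.smul_apply, smul_eq_mul, mul_eq_zero] at h1
    exact h1.resolve_left fun h => by rw [h, zero_mul] at hσ; exact zero_ne_one hσ
  obtain ⟨h1, h2⟩ := key e hH.memE hen
  obtain ⟨h3, h4⟩ := key f hH.memF hfn
  exact ⟨_, _, ⟨h1, h3, by rw [mem_iso.mp hr, hH.singE], by rw [mem_iso.mp hr, hH.singF],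
    by rw [C.B_act hr, hH.pair]⟩, h2, h4⟩

/-- A hyperbolic pair and a non-singular vector perpendicular to it. -/
theorem Blocks.exists_triple (j : Fin t) :
    ∃ e f n, Hyp Q B (D j) e f ∧ n ∈ D j ∧ B e n = 0 ∧ B f n = 0 ∧ Q n ≠ 0 := by
  obtain ⟨e, f, hH⟩ := X.exists_hypIn j
  have h1 := hH.le_finrank X.space
  rw [X.dim] at h1
  have := X.dim3
  obtain ⟨n, hn, hQn⟩ := exists_nonsing X.space (hH.ndeg X.space (X.nd j))
    (fun h => by rw [h, finrank_bot] at h1; omega)
  obtain ⟨h2, h3, h4⟩ := mem_perp2.mp hn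
  exact ⟨e, f, n, hH, h2, h3, h4, hQn⟩

/-- A vector of the norm of `x` with prescribed pairing, by a given perpendicular part. -/
theorem Blocks.shift_vec {j : Fin t} {x p : ι → F} {e : F} (hx : x ∈ D j) (hp : p ∈ D j)
    (hQx : Q x ≠ 0) (hxp : B x p = 0) (hQp : Q p = (1 - (1 + e / (2 * Q x)) ^ 2) * Q x) :
    ∃ z, z = (1 + e / (2 * Q x)) • x + p ∧ z ∈ D j ∧ Q z = Q x ∧ B x z = 2 * Q x + e := by
  have C := X.space
  have h2 : (2 : F) * Q x ≠ 0 := mul_ne_zero X.two hQx
  refine ⟨_, rfl, (D j).add_mem ((D j).smul_mem _ hx) hp, ?_, ?_⟩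
  · rw [C.add, C.smul, map_smul, LinearMap.smul_apply, hxp, hQp]
    simp only [smul_zero, add_zero]
    ring
  · rw [map_add, map_smul, C.self, hxp, add_zero, smul_eq_mul, add_mul, one_mul,
      div_mul_cancel₀ _ h2]

end Planes

section Bad

variable [Finite F] {H : Subgroup (GL ι F)} (T : BlocksCtx Q B D k H)

include T

/-- Criterion: a conjugate root element moves `x` into a root group of a block. -/
theorem BlocksCtx.mixed_of_perp {x a w b : ι → F} {j : Fin t} (hQx : Q x = 0)
    (hxD : ∀ i, x ∉ D i) (hQa : Q a ≠ 0) (ha : a ∈ rootsAt Q B T.blocks.space H x hQx)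
    (hw : w ∈ D j) (hw0 : w ≠ 0) (hQw : Q w = 0) (hxw : B x w = 0) (haw : B a w = 0)
    (hb : b ∈ D j) (hwb : B w b = 0) (hne : B x b ≠ 0 ∨ B a b ≠ 0) :
    BlockMixed Q B D H := by
  have X := T.blocks
  have C := X.space
  set M := rootsAt Q B C H w hQw
  have hbM : b ∈ M := T.root_of_block hw hb hQw hwb
  have key : ∀ c : F, (c * B x b) • a - (c * B a b + c ^ 2 * Q a * B x b) • x ∈ M := by
    intro c
    have hxa : B x (c • a) = 0 := by rw [map_smul, ha.1, smul_zero]
    have hgw : (sGL Q B x (c • a)).val *ᵥ w = w := by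
      rw [sGL_act C hQx hxa, hxw, map_smul, LinearMap.smul_apply, haw]
      simp
    have h1 := M.sub_mem (rootsAt_act C T.le_iso (ha.2 c) (hy' := hQw) hgw hbM) hbM
    rw [sGL_act C hQx hxa, C.smul, map_smul, LinearMap.smul_apply, smul_eq_mul] at h1
    convert h1 using 1
    module
  have hxM : x ∈ M := by
    by_cases hxb : B x b = 0
    · have h1 := key 1
      rw [hxb] at h1
      have h2 : (-(B a b)) • x ∈ M := by
        convert h1 using 1
        module
      exact (M.smul_mem_iff (by simpa using hne.resolve_left (not_not.mpr hxb))).mp h2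
    · have h1 := M.add_mem (key 1) (key (-1))
      have h2 : (-(2 * Q a * B x b)) • x ∈ M := by
        convert h1 using 1
        module
      exact (M.smul_mem_iff (by simp [X.two, hQa, hxb])).mp h2
  exact ⟨j, w, x, hw, hw0, hQw, hxD j, hxM.1, hxM.2⟩

/-- Criterion: a singular block vector among the roots at `x`. -/
theorem BlocksCtx.mixed_of_mem {x w : ι → F} {j : Fin t} (hQx : Q x = 0)
    (hxD : ∀ i, x ∉ D i) (hw : w ∈ D j) (hw0 : w ≠ 0) (hQw : Q w = 0)
    (h : w ∈ rootsAt Q B T.blocks.space H x hQx) : BlockMixed Q B D H := by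
  have hp := RPair.symm T.blocks.space (⟨hQx, hQw, h.1, h.2⟩ : RPair Q B H x w)
  exact ⟨j, w, x, hw, hw0, hQw, hxD j, hp.2.2.1, hp.2.2.2⟩

/-- Criterion: a root element of a block fixing `x` and moving `a`. -/
theorem BlocksCtx.mixed_of_gain {x a w b : ι → F} {j : Fin t} (hQx : Q x = 0)
    (hxD : ∀ i, x ∉ D i) (ha : a ∈ rootsAt Q B T.blocks.space H x hQx)
    (hw : w ∈ D j) (hw0 : w ≠ 0) (hQw : Q w = 0) (hb : b ∈ D j) (hQb : Q b ≠ 0)
    (hwb : B w b = 0) (hwx : B w x = 0) (hbx : B b x = 0) (hwa : B w a ≠ 0) :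
    BlockMixed Q B D H := by
  have X := T.blocks
  have C := X.space
  set M := rootsAt Q B C H x hQx
  have key : ∀ c : F, (c * B w a) • b - (c * B b a + c ^ 2 * Q b * B w a) • w ∈ M := by
    intro c
    have hwcb : B w (c • b) = 0 := by rw [map_smul, hwb, smul_zero]
    have hgx : (sGL Q B w (c • b)).val *ᵥ x = x := by
      rw [sGL_act C hQw hwcb, hwx, map_smul, LinearMap.smul_apply, hbx]
      simp
    have h1 := M.sub_mem (rootsAt_act C T.le_iso
      (T.sGL_mem_block hw ((D j).smul_mem c hb) hQw hwcb) (hy' := hQx) hgx ha) ha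
    rw [sGL_act C hQw hwcb, C.smul, map_smul, LinearMap.smul_apply, smul_eq_mul] at h1
    convert h1 using 1
    module
  refine T.mixed_of_mem hQx hxD hw hw0 hQw ?_
  have h1 := M.add_mem (key 1) (key (-1))
  have h2 : (-(2 * Q b * B w a)) • w ∈ M := by
    convert h1 using 1
    module
  exact (M.smul_mem_iff (by simp [X.two, hQb, hwa])).mp h2

/-- A block where `x` vanishes and `a` does not. -/
theorem BlocksCtx.mixed_of_zero {x a : ι → F} {j : Fin t} (hQx : Q x = 0)
    (hxD : ∀ i, x ∉ D i) (ha : a ∈ rootsAt Q B T.blocks.space H x hQx)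
    (hxj : T.blocks.comp j x = 0) (haj : T.blocks.comp j a ≠ 0) : BlockMixed Q B D H := by
  have X := T.blocks
  have C := X.space
  obtain ⟨w, hw, hQw, hwa⟩ := X.exists_sing_ne haj
  have hw0 : w ≠ 0 := fun h => hwa (by rw [h, map_zero, LinearMap.zero_apply])
  obtain ⟨b, hb, hQb, hwb⟩ := X.exists_nonsing_perp hw hw0 hQw
  have hx0 : ∀ y ∈ D j, B y x = 0 := fun y hy => by
    rw [← X.comp_B' j x hy, hxj, map_zero]
  exact T.mixed_of_gain hQx hxD ha hw hw0 hQw hb hQb hwb (hx0 w hw) (hx0 b hb) hwa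

/-- A block where the component of `x` is singular and that of `a` is not proportional to it. -/
theorem BlocksCtx.mixed_of_sing {x a : ι → F} {j : Fin t} (hQx : Q x = 0)
    (hxD : ∀ i, x ∉ D i) (hQa : Q a ≠ 0) (ha : a ∈ rootsAt Q B T.blocks.space H x hQx)
    (hxj : T.blocks.comp j x ≠ 0) (hQxj : Q (T.blocks.comp j x) = 0)
    (haj : T.blocks.comp j a ∉ Submodule.span F {T.blocks.comp j x}) : BlockMixed Q B D H := by
  have X := T.blocks
  have C := X.space
  have hxm := X.comp_mem j x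
  have hxw : B x (X.comp j x) = 0 := by rw [← X.comp_B j x hxm, C.self_zero hQxj]
  by_cases haw : B a (X.comp j x) = 0
  · obtain ⟨z, hz, haz⟩ := exists_perpIn C (X.splitAt j)
      ((Submodule.span_singleton_le_iff_mem _ _).mpr hxm) (X.comp_mem j a) haj
    rw [X.comp_B j a hz.1] at haz
    exact T.mixed_of_perp hQx hxD hQa ha hxm hxj hQxj hxw haw hz.1
      (hz.2 _ (Submodule.mem_span_singleton_self _)) (Or.inr (by rw [haz]; exact one_ne_zero))
  · obtain ⟨b, hb, hQb, hwb⟩ := X.exists_nonsing_perp hxm hxj hQxj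
    refine T.mixed_of_gain hQx hxD ha hxm hxj hQxj hb hQb hwb (by rw [C.symm, hxw]) ?_
      (by rwa [C.symm])
    rw [← X.comp_B' j x hb, C.symm, hwb]

/-- Blocks of dimension at least five. -/
theorem BlocksCtx.mixed_of_large {x a : ι → F} (h5 : 5 ≤ k) (hQx : Q x = 0)
    (hxD : ∀ i, x ∉ D i) (hQa : Q a ≠ 0) (ha : a ∈ rootsAt Q B T.blocks.space H x hQx) :
    BlockMixed Q B D H := by
  have X := T.blocks
  have C := X.space
  obtain ⟨j, hxj⟩ : ∃ j, X.comp j x ≠ 0 := by
    by_contra h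
    push Not at h
    have i0 : Fin t := ⟨0, by have := X.two_le; omega⟩
    exact hxD i0 (by rw [X.eq_zero h]; exact (D i0).zero_mem)
  have hxm := X.comp_mem j x
  by_cases hQxj : Q (X.comp j x) = 0
  · by_cases haj : X.comp j a ∈ Submodule.span F {X.comp j x}
    · obtain ⟨γ, hγ⟩ := Submodule.mem_span_singleton.mp haj
      obtain ⟨e, f, hH, heA, -⟩ := exists_hyp_perpIn C (X.splitAt j)
        (A := Submodule.span F {X.comp j x})
        ((Submodule.span_singleton_le_iff_mem _ _).mpr hxm)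
        (by rw [finrank_span_singleton hxj, X.dim]; omega)
      have hxe : B x e = 0 := by
        rw [← X.comp_B j x hH.memE.1]
        exact hH.memE.2 _ (Submodule.mem_span_singleton_self _)
      have hae : B a e = 0 := by
        rw [← X.comp_B j a hH.memE.1, ← hγ, map_smul, LinearMap.smul_apply,
          X.comp_B j x hH.memE.1, hxe, smul_zero]
      have he0 : e ≠ 0 := fun h => heA (h ▸ Submodule.zero_mem _)
      obtain ⟨z, hz, hxz⟩ := exists_perpIn C (X.splitAt j)
        ((Submodule.span_singleton_le_iff_mem _ _).mpr hH.memE.1) hxm fun h => by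
          obtain ⟨c, hc⟩ := Submodule.mem_span_singleton.mp h
          have hc0 : c ≠ 0 := fun h0 => hxj (by rw [← hc, h0, zero_smul])
          exact heA (Submodule.mem_span_singleton.mpr
            ⟨c⁻¹, by rw [← hc, smul_smul, inv_mul_cancel₀ hc0, one_smul]⟩)
      rw [X.comp_B j x hz.1] at hxz
      exact T.mixed_of_perp hQx hxD hQa ha hH.memE.1 he0 hH.singE hxe hae hz.1
        (hz.2 _ (Submodule.mem_span_singleton_self _)) (Or.inl (by rw [hxz]; exact one_ne_zero))
    · exact T.mixed_of_sing hQx hxD hQa ha hxj hQxj haj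
  · obtain ⟨w, hw, hw0, hQw⟩ := Sing.exists_singular C.smul C.polar
      (perpIn B (D j) (Submodule.span F {X.comp j x, X.comp j a})) (by
        have h1 := finrank_perpIn (B := B) (D j) (Submodule.span F {X.comp j x, X.comp j a})
        have h2 := finrank_span_pair_le (F := F) (X.comp j x) (X.comp j a)
        rw [X.dim] at h1
        omega)
    have hxw : B x w = 0 := by
      rw [← X.comp_B j x hw.1]; exact hw.2 _ (Submodule.subset_span (by simp))
    have haw : B a w = 0 := by
      rw [← X.comp_B j a hw.1]; exact hw.2 _ (Submodule.subset_span (by simp))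
    exact T.mixed_of_perp hQx hxD hQa ha hw.1 hw0 hQw hxw haw hxm
      (by rw [X.comp_B' j x hw.1, C.symm, hxw])
      (Or.inl (by rw [← X.comp_B j x hxm, C.self]; exact mul_ne_zero X.two hQxj))

/-- A non-singular component with hyperbolic perp. -/
theorem BlocksCtx.mixed_of_hyp {x a w w' : ι → F} {j : Fin t} (hq : ∃ μ : F, μ ≠ 0 ∧ μ ^ 2 ≠ 1)
    (hQx : Q x = 0) (hxD : ∀ i, x ∉ D i) (hQa : Q a ≠ 0)
    (ha : a ∈ rootsAt Q B T.blocks.space H x hQx) (hQxj : Q (T.blocks.comp j x) ≠ 0)
    (hH : Hyp Q B (D j) w w') (hxw : B (T.blocks.comp j x) w = 0)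
    (hxw' : B (T.blocks.comp j x) w' = 0) : BlockMixed Q B D H := by
  have X := T.blocks
  have C := X.space
  have hxm := X.comp_mem j x
  have hxb : B x (X.comp j x) ≠ 0 := by
    rw [← X.comp_B j x hxm, C.self]; exact mul_ne_zero X.two hQxj
  have hw0 : w ≠ 0 := fun h => by
    have := hH.pair; rw [h, map_zero, LinearMap.zero_apply] at this; exact zero_ne_one this
  have hw'0 : w' ≠ 0 := fun h => by
    have := hH.pair; rw [h, map_zero] at this; exact zero_ne_one this
  by_cases hb : B a w = 0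
  · exact T.mixed_of_perp hQx hxD hQa ha hH.memE hw0 hH.singE
      (by rw [← X.comp_B j x hH.memE, hxw]) hb hxm (by rw [C.symm, hxw]) (Or.inl hxb)
  by_cases ha' : B a w' = 0
  · exact T.mixed_of_perp hQx hxD hQa ha hH.memF hw'0 hH.singF
      (by rw [← X.comp_B j x hH.memF, hxw']) ha' hxm (by rw [C.symm, hxw']) (Or.inl hxb)
  obtain ⟨l, hlj, hQxl⟩ : ∃ l, l ≠ j ∧ Q (X.comp l x) ≠ 0 := by
    by_contra h
    push Not at h
    have := X.Q_sum x
    rw [hQx, Finset.sum_eq_single j (fun l _ hl => h l hl)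
      (fun h' => absurd (Finset.mem_univ j) h')] at this
    exact hQxj this.symm
  set M := rootsAt Q B C H x hQx
  -- differences of products of two reflections
  have key : ∀ c ν : F, c ≠ 0 → ν ≠ 0 →
      (B a w + c * B a w') • (w + c • w') -
        (ν * B a w + c * ν⁻¹ * B a w') • (ν • w + (c * ν⁻¹) • w') ∈ M := by
    intro c ν hc hν
    obtain ⟨q, hq, hxq, hQq⟩ := X.exists_norm_perp (X.comp_mem l x) hQxl c
    have hqx : B q x = 0 := by rw [C.symm, ← X.comp_B l x hq, hxq]
    have hp : ∀ r s : F, r * s = c → r • w + s • w' ∈ D j ∧ Q (r • w + s • w') = c ∧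
        B (r • w + s • w') x = 0 := by
      intro r s hrs
      refine ⟨(D j).add_mem ((D j).smul_mem _ hH.memE) ((D j).smul_mem _ hH.memF), ?_, ?_⟩
      · rw [C.smul_add, hH.singE, hH.singF, hH.pair]
        linear_combination hrs
      · rw [map_add, LinearMap.add_apply, map_smul, map_smul, LinearMap.smul_apply,
          LinearMap.smul_apply, C.symm w x, C.symm w' x, ← X.comp_B j x hH.memE, hxw,
          ← X.comp_B j x hH.memF, hxw']
        simp
    have act : ∀ r s : F, r * s = c →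
        (c⁻¹ * (r * B a w + s * B a w')) • (r • w + s • w') + (c⁻¹ * B q a) • q ∈ M := by
      intro r s hrs
      obtain ⟨hpD, hQp, hpx⟩ := hp r s hrs
      have hQp0 : Q (r • w + s • w') ≠ 0 := by rwa [hQp]
      have hg := T.rr_mem hpD hq hQp0 (by rw [hQp, hQq])
      have hQq0 : Q q ≠ 0 := by rwa [hQq]
      have hgx : (rGL Q (r • w + s • w') * rGL Q q).val *ᵥ x = x := by
        rw [mul_act, rGL_fix C hQq0 hqx, rGL_fix C hQp0 hpx]
      have h1 := M.sub_mem ha (rootsAt_act C T.le_iso hg (hy' := hQx) hgx ha)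
      rw [mul_act, rGL_act C hQq0 a, rGL_act C hQp0, hQp, hQq, map_sub, map_smul,
        X.orth j l (Ne.symm hlj) _ hpD q hq, smul_zero, sub_zero] at h1
      convert h1 using 1
      simp only [map_add, map_smul, LinearMap.add_apply, LinearMap.smul_apply, smul_eq_mul,
        C.symm w a, C.symm w' a]
      module
    have h1 := M.smul_mem c (M.sub_mem (act 1 c (one_mul c))
      (act ν (c * ν⁻¹) (by field_simp)))
    convert h1 using 1
    match_scalars <;> field_simp <;> ring
  obtain ⟨μ, hμ0, hμ1⟩ := hq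
  have k1 := key 1 μ one_ne_zero hμ0
  have k2 := key μ μ hμ0 hμ0
  have hw'M : w' ∈ M := by
    have h1 := M.sub_mem k1 k2
    have h2 : (-(1 - μ ^ 2) * (1 - μ ^ 2) * (μ ^ 2)⁻¹ * B a w') • w' ∈ M := by
      convert h1 using 1
      match_scalars <;> field_simp <;> ring
    refine (M.smul_mem_iff ?_).mp h2
    have : (1 : F) - μ ^ 2 ≠ 0 := sub_ne_zero.mpr (Ne.symm hμ1)
    exact mul_ne_zero (mul_ne_zero (mul_ne_zero (neg_ne_zero.mpr this) this)
      (inv_ne_zero (pow_ne_zero 2 hμ0))) ha'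
  exact T.mixed_of_mem hQx hxD hH.memF hw'0 hH.singF hw'M

/-- The image of `x` under a move changing two components. -/
theorem BlocksCtx.exists_move {x a zj zl : ι → F} {j l : Fin t} {Y : F} (hjl : j ≠ l)
    (hQx : Q x = 0) (ha : a ∈ rootsAt Q B T.blocks.space H x hQx) (hY : Y ≠ 0)
    (hzj : zj ∈ D j) (hQzj : Q zj = Q (T.blocks.comp j x))
    (hBj : B (T.blocks.comp j x) zj = 2 * Q (T.blocks.comp j x) - Y)
    (hzl : zl ∈ D l) (hQzl : Q zl = Q (T.blocks.comp l x))
    (hBl : B (T.blocks.comp l x) zl = 2 * Q (T.blocks.comp l x) + Y)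
    (hQj : Q zj ≠ 0) (hQl : Q zl ≠ 0)
    (hS : B a (zj - T.blocks.comp j x) + B a (zl - T.blocks.comp l x) ≠ 0) :
    ∃ g ∈ H, g.val *ᵥ x = (zj - T.blocks.comp j x) + (zl - T.blocks.comp l x) := by
  have X := T.blocks
  have C := X.space
  have single : ∀ (i : Fin t) (z : ι → F) (e : F), e ≠ 0 → z ∈ D i → Q z = Q (X.comp i x) →
      B (X.comp i x) z = 2 * Q (X.comp i x) - e → Q z ≠ 0 →
      ∃ h ∈ H, (∀ y, X.comp i y = X.comp i x → h.val *ᵥ y = y + (z - X.comp i x)) := by
    intro i z e he hz hQz hBz hQz0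
    have hm := X.comp_mem i x
    have hd : X.comp i x - z ∈ D i := (D i).sub_mem hm hz
    have hQd : Q (X.comp i x - z) = e := by
      rw [sub_eq_add_neg, C.add, C.neg, map_neg, hBz, hQz]; ring
    obtain ⟨q, hq, hzq, hQq⟩ := X.exists_norm_perp hz hQz0 e
    refine ⟨rGL Q q * rGL Q (X.comp i x - z), T.rr_mem hq hd (by rwa [hQq]) (by rw [hQq, hQd]),
      fun y hy => ?_⟩
    have h1 : (rGL Q (X.comp i x - z)).val *ᵥ y = y + (z - X.comp i x) := by
      rw [rGL_act C (by rwa [hQd])]
      have h2 : B (X.comp i x - z) y = e := by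
        rw [← X.comp_B' i y hd, hy, map_sub, LinearMap.sub_apply, C.self, C.symm z, hBz]; ring
      rw [h2, hQd, inv_mul_cancel₀ he, one_smul]
      abel
    rw [mul_act, h1, rGL_fix C (by rwa [hQq])]
    rw [map_add, ← X.comp_B' i y hq, hy, ← map_add, add_sub_cancel, C.symm, hzq]
  obtain ⟨h1, h1H, h1a⟩ := single j zj Y hY hzj hQzj hBj hQj
  obtain ⟨h2, h2H, h2a⟩ := single l zl (-Y) (neg_ne_zero.mpr hY) hzl hQzl
    (by rw [hBl]; ring) hQl
  set u := zj - X.comp j x with hu
  set v := zl - X.comp l x with hv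
  have huD : u ∈ D j := (D j).sub_mem hzj (X.comp_mem j x)
  have hx' : (h2 * h1).val *ᵥ x = x + u + v := by
    rw [mul_act, h1a x rfl, h2a (x + u)]
    rw [map_add, X.comp_other hjl huD, add_zero]
  have hxu : B x u = -Y := by
    rw [hu, map_sub, ← X.comp_B j x hzj, hBj, ← X.comp_B j x (X.comp_mem j x), C.self]; ring
  have hxv : B x v = Y := by
    rw [hv, map_sub, ← X.comp_B l x hzl, hBl, ← X.comp_B l x (X.comp_mem l x), C.self]; ring
  set c := (B a u + B a v)⁻¹
  have hxa : B x (c • a) = 0 := by rw [map_smul, ha.1, smul_zero]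
  refine ⟨sGL Q B x (c • a) * (h2 * h1), mul_mem (ha.2 c) (mul_mem h2H h1H), ?_⟩
  rw [mul_act, hx', sGL_act C hQx hxa]
  have e1 : B x (x + u + v) = 0 := by
    rw [map_add, map_add, C.self, hQx, hxu, hxv]; ring
  have e2 : B (c • a) (x + u + v) = 1 := by
    rw [map_smul, LinearMap.smul_apply, map_add, map_add, C.symm a x, ha.1, zero_add, smul_eq_mul]
    exact inv_mul_cancel₀ hS
  rw [e1, e2, zero_smul, mul_zero, add_zero, add_zero, one_smul]
  abel

/-- Blocks of dimension three. -/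
theorem BlocksCtx.mixed_of_small {x a : ι → F} (hq : ∃ μ : F, μ ≠ 0 ∧ μ ^ 2 ≠ 1)
    (hQx : Q x = 0) (hxD : ∀ i, x ∉ D i) (hQa : Q a ≠ 0)
    (ha : a ∈ rootsAt Q B T.blocks.space H x hQx) : BlockMixed Q B D H := by
  have X := T.blocks
  have C := X.space
  by_contra hnot
  have hz : ∀ j, X.comp j x = 0 → X.comp j a = 0 := fun j h => by
    by_contra h'
    exact hnot (T.mixed_of_zero hQx hxD ha h h')
  have hs : ∀ j, Q (X.comp j x) = 0 → X.comp j a ∈ Submodule.span F {X.comp j x} := fun j h => by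
    by_contra h'
    by_cases h0 : X.comp j x = 0
    · exact h' (by rw [hz j h0]; exact Submodule.zero_mem _)
    · exact hnot (T.mixed_of_sing hQx hxD hQa ha h0 h h')
  -- in a non-singular component no vector of the reference norm is proportional to `x`
  have hy : ∀ j, Q (X.comp j x) ≠ 0 → ∀ e f n, Hyp Q B (D j) e f → n ∈ D j → B e n = 0 →
      B f n = 0 → Q n ≠ 0 → ∀ r : F, Q (r • X.comp j x) ≠ Q n := by
    intro j hQj e f n hH hn hen hfn hQn r hr
    obtain ⟨w, w', hH', h1, h2⟩ := X.hyp_of_norm hH hn hen hfn hQn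
      ((D j).smul_mem r (X.comp_mem j x)) hr
    have hr0 : r ≠ 0 := fun h => hQn (by rw [← hr, h, zero_smul, C.zero])
    rw [map_smul, LinearMap.smul_apply, smul_eq_mul, mul_eq_zero] at h1 h2
    exact hnot (T.mixed_of_hyp hq hQx hxD hQa ha hQj hH' (h1.resolve_left hr0)
      (h2.resolve_left hr0))
  obtain ⟨j, l, hjl, hQj, hQl, hcase⟩ : ∃ j l, j ≠ l ∧ Q (X.comp j x) ≠ 0 ∧ Q (X.comp l x) ≠ 0 ∧
      (X.comp j a ∉ Submodule.span F {X.comp j x} ∨ ∃ γ γ' : F, γ ≠ γ' ∧
        γ • X.comp j x = X.comp j a ∧ γ' • X.comp l x = X.comp l a) := by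
    have other : ∀ j, Q (X.comp j x) ≠ 0 → ∃ l, j ≠ l ∧ Q (X.comp l x) ≠ 0 := fun j hj => by
      by_contra h
      push Not at h
      have := X.Q_sum x
      rw [hQx, Finset.sum_eq_single j (fun l _ hl => h l (Ne.symm hl))
        (fun h' => absurd (Finset.mem_univ j) h')] at this
      exact hj this.symm
    by_cases hex : ∃ j, Q (X.comp j x) ≠ 0 ∧ X.comp j a ∉ Submodule.span F {X.comp j x}
    · obtain ⟨j, hj, hja⟩ := hex
      obtain ⟨l, hl, hQl⟩ := other j hj
      exact ⟨j, l, hl, hj, hQl, Or.inl hja⟩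
    push Not at hex
    have hγ : ∀ j, ∃ γ : F, γ • X.comp j x = X.comp j a := fun j =>
      Submodule.mem_span_singleton.mp ((em (Q (X.comp j x) = 0)).elim (hs j) (hex j))
    choose γ hγ using hγ
    have hQa' : Q a = ∑ i, γ i ^ 2 * Q (X.comp i x) := by
      rw [X.Q_sum a]
      exact Finset.sum_congr rfl fun i _ => by rw [← hγ i, C.smul]
    obtain ⟨i, hi⟩ : ∃ i, Q (X.comp i x) ≠ 0 := by
      by_contra h
      push Not at h
      exact hQa (by simp [hQa', h])
    obtain ⟨l, hl, hne⟩ : ∃ l, Q (X.comp l x) ≠ 0 ∧ γ i ≠ γ l := by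
      by_contra h
      push Not at h
      refine hQa ?_
      rw [hQa', Finset.sum_congr rfl (g := fun m => γ i ^ 2 * Q (X.comp m x)) fun m _ => ?_,
        ← Finset.mul_sum, ← X.Q_sum, hQx, mul_zero]
      by_cases hm : Q (X.comp m x) = 0
      · simp [hm]
      · rw [h m hm]
    exact ⟨i, l, fun h => hne (by rw [h]), hi, hl, Or.inr ⟨_, _, hne, hγ i, hγ l⟩⟩
  obtain ⟨e, f, n, hH, hn, hen, hfn, hQn⟩ := X.exists_triple j
  set Y := Q n
  set xj := X.comp j x with hxj
  set xl := X.comp l x with hxl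
  have hxjm := X.comp_mem j x
  have hxlm := X.comp_mem l x
  have h2j : (2 : F) * Q xj ≠ 0 := mul_ne_zero X.two hQj
  set ρ := 1 + -Y / (2 * Q xj) with hρ
  obtain ⟨p', hp', hxlp', hQp'⟩ :=
    X.exists_norm_perp hxlm hQl ((1 - (1 + Y / (2 * Q xl)) ^ 2) * Q xl)
  obtain ⟨zl, hzl_eq, hzl, hQzl, hBzl⟩ := X.shift_vec hxlm hp' hQl hxlp' hQp'
  have hr0 : (1 - ρ ^ 2) * Q xj ≠ 0 := by
    refine mul_ne_zero (fun h => ?_) hQj
    rcases sq_eq_one_iff.mp (sub_eq_zero.mp h).symm with h1 | h1
    · rw [hρ, add_eq_left, div_eq_zero_iff] at h1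
      exact h1.elim (fun h => hQn (neg_eq_zero.mp h)) h2j
    · refine hy j hQj e f n hH hn hen hfn hQn 2 ?_
      rw [hρ] at h1
      have h3 : -Y = -2 * (2 * Q xj) := (div_eq_iff h2j).mp (by linear_combination h1)
      rw [C.smul]
      linear_combination h3
  obtain ⟨zj, hzj, hQzj, hBzj, hS⟩ : ∃ zj ∈ D j, Q zj = Q xj ∧ B xj zj = 2 * Q xj - Y ∧
      B a (zj - xj) + B a (zl - xl) ≠ 0 := by
    rcases hcase with hja | ⟨γ, γ', hne, hγ, hγ'⟩
    · obtain ⟨p, hp, hxp, hQp, hap⟩ : ∃ p ∈ D j, B xj p = 0 ∧ Q p = (1 - ρ ^ 2) * Q xj ∧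
          B a p ≠ 0 := by
        obtain ⟨p0, hp0, hxp0, hQp0⟩ := X.exists_norm_perp hxjm hQj ((1 - ρ ^ 2) * Q xj)
        by_cases hap0 : B a p0 = 0
        swap
        · exact ⟨p0, hp0, hxp0, hQp0, hap0⟩
        -- reflect `p0` in a vector of the plane
        set a' := X.comp j a - (B a xj / (2 * Q xj)) • xj with ha'
        have ha'm : a' ∈ D j := (D j).sub_mem (X.comp_mem j a) ((D j).smul_mem _ hxjm)
        have hxa' : B xj a' = 0 := by
          rw [ha', map_sub, map_smul, C.self, X.comp_B' j a hxjm, C.symm a xj, smul_eq_mul,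
            div_mul_cancel₀ _ h2j, sub_self]
        have hpa' : B p0 a' = 0 := by
          rw [ha', map_sub, map_smul, X.comp_B' j a hp0, C.symm p0 a, hap0, C.symm p0 xj, hxp0]
          simp
        have hQs : ∀ v ∈ D j, v ≠ 0 → B xj v = 0 → Q v ≠ 0 := by
          intro v hv hv0 hxv hQv
          obtain ⟨f', hf'⟩ := exists_hyp C (X.nd j) hv hv0 hQv
          -- the part of `f'` perpendicular to `xj`
          set f'' := f' - (B xj f' / (2 * Q xj)) • xj
          have hf''m : f'' ∈ D j := (D j).sub_mem hf'.memF ((D j).smul_mem _ hxjm)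
          have hxf : B xj f'' = 0 := by
            simp only [f'', map_sub, map_smul, C.self, smul_eq_mul, div_mul_cancel₀ _ h2j, sub_self]
          have hvf : B v f'' = 1 := by
            simp only [f'', map_sub, map_smul, hf'.pair, C.symm v xj, hxv, smul_zero, sub_zero]
          refine hnot (T.mixed_of_hyp hq hQx hxD hQa ha hQj
            (w := v) (w' := f'' - Q f'' • v) ⟨hv, (D j).sub_mem hf''m ((D j).smul_mem _ hv), hQv,
              ?_, ?_⟩ hxv ?_)
          · rw [sub_eq_add_neg, ← neg_smul, C.add, C.smul, hQv, map_smul, C.symm f'' v, hvf]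
            simp
          · rw [map_sub, map_smul, hvf, C.self_zero hQv]
            simp
          · rw [map_sub, map_smul, hxf, hxv]
            simp
        have ha'0 : a' ≠ 0 := fun h => hja (Submodule.mem_span_singleton.mpr
          ⟨B a xj / (2 * Q xj), by rw [ha'] at h; exact (sub_eq_zero.mp h).symm⟩)
        have hQa'0 : Q a' ≠ 0 := hQs a' ha'm ha'0 hxa'
        have hsum : a' + p0 ≠ 0 := fun h => ha'0 (by
          have h1 := congrArg (B a') h
          rw [map_add, C.self, C.symm a' p0, hpa', add_zero, map_zero] at h1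
          exact absurd h1 (mul_ne_zero X.two hQa'0))
        have hsm : a' + p0 ∈ D j := (D j).add_mem ha'm hp0
        have hxs : B xj (a' + p0) = 0 := by rw [map_add, hxa', hxp0, add_zero]
        have hQs0 : Q (a' + p0) ≠ 0 := hQs _ hsm hsum hxs
        refine ⟨(rGL Q (a' + p0)).val *ᵥ p0, X.refl_pres hsm hQs0 j hp0, ?_,
          by rw [mem_iso.mp (rGL_mem C hQs0), hQp0], ?_⟩
        · rw [rGL_act C hQs0, map_sub, map_smul, hxs, hxp0]
          simp
        · have h1 : B (a' + p0) p0 = 2 * Q p0 := by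
            rw [map_add, LinearMap.add_apply, C.symm a' p0, hpa', C.self, zero_add]
          have h2 : B a (a' + p0) = 2 * Q a' := by
            rw [map_add, hap0, add_zero, ← X.comp_B j a ha'm,
              show X.comp j a = a' + (B a xj / (2 * Q xj)) • xj by rw [ha']; abel,
              map_add, LinearMap.add_apply, C.self, map_smul, LinearMap.smul_apply, hxa',
              smul_zero, add_zero]
          rw [rGL_act C hQs0, map_sub, map_smul, hap0, h1, h2, zero_sub, neg_ne_zero, smul_eq_mul,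
            hQp0]
          exact mul_ne_zero (mul_ne_zero (inv_ne_zero hQs0) (mul_ne_zero X.two hr0))
            (mul_ne_zero X.two hQa'0)
      -- one of `± p` works
      have shift : ∀ σ : F, σ * σ = 1 → ∃ z ∈ D j, Q z = Q xj ∧ B xj z = 2 * Q xj - Y ∧
          B a (z - xj) = (ρ - 1) * B a xj + σ * B a p := by
        intro σ hσ
        obtain ⟨z, rfl, hz, hQz, hBz⟩ := X.shift_vec hxjm ((D j).smul_mem σ hp) hQj
          (e := -Y) (by rw [map_smul, hxp, smul_zero])
          (by rw [C.smul, hQp, sq, hσ, one_mul, hρ])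
        refine ⟨_, hz, hQz, by rw [hBz]; ring, ?_⟩
        rw [map_sub, map_add, map_smul, map_smul, ← hρ]
        simp only [smul_eq_mul]
        ring
      obtain ⟨z1, hz1, hQz1, hBz1, hS1⟩ := shift 1 (one_mul 1)
      obtain ⟨z2, hz2, hQz2, hBz2, hS2⟩ := shift (-1) (by ring)
      by_cases h1 : B a (z1 - xj) + B a (zl - xl) = 0
      · refine ⟨z2, hz2, hQz2, hBz2, fun h2 => hap ?_⟩
        rw [hS1] at h1
        rw [hS2] at h2
        have h3 : (2 : F) * B a p = 0 := by linear_combination h1 - h2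
        exact (mul_eq_zero.mp h3).resolve_left X.two
      · exact ⟨z1, hz1, hQz1, hBz1, h1⟩
    · obtain ⟨p, hp, hxp, hQp⟩ := X.exists_norm_perp hxjm hQj ((1 - ρ ^ 2) * Q xj)
      obtain ⟨z, -, hz, hQz, hBz⟩ := X.shift_vec hxjm hp hQj (e := -Y) hxp (by rw [hQp, hρ])
      refine ⟨z, hz, hQz, by rw [hBz]; ring, ?_⟩
      rw [← X.comp_B j a ((D j).sub_mem hz hxjm), ← X.comp_B l a ((D l).sub_mem hzl hxlm), ← hγ,
        ← hγ', map_smul, map_smul, LinearMap.smul_apply, LinearMap.smul_apply, ← hxj, ← hxl,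
        map_sub, map_sub, hBz, hBzl, C.self, C.self, smul_eq_mul, smul_eq_mul,
        show γ * (2 * Q xj + -Y - 2 * Q xj) + γ' * (2 * Q xl + Y - 2 * Q xl)
          = (γ' - γ) * Y by ring]
      exact mul_ne_zero (sub_ne_zero.mpr (Ne.symm hne)) hQn
  obtain ⟨g, hg, hgx⟩ := T.exists_move hjl hQx ha hQn hzj hQzj hBzj hzl hQzl hBzl
    (by rwa [hQzj]) (by rwa [hQzl]) hS
  set x' := (zj - xj) + (zl - xl) with hx'
  have hu : zj - xj ∈ D j := (D j).sub_mem hzj hxjm
  have hv : zl - xl ∈ D l := (D l).sub_mem hzl hxlm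
  have hcj : X.comp j x' = zj - xj := by
    rw [hx', map_add, X.comp_self hu, X.comp_other (Ne.symm hjl) hv, add_zero]
  have hcl : X.comp l x' = zl - xl := by
    rw [hx', map_add, X.comp_other hjl hu, X.comp_self hv, zero_add]
  have hQu : Q (zj - xj) = Y := by
    rw [sub_eq_add_neg, C.add, C.neg, map_neg, C.symm zj xj, hBzj, hQzj]; ring
  have hQv : Q (zl - xl) = -Y := by
    rw [sub_eq_add_neg, C.add, C.neg, map_neg, C.symm zl xl, hBzl, hQzl]; ring
  have hQx' : Q x' = 0 := by rw [← hgx, mem_iso.mp (T.le_iso hg), hQx]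
  have hxD' : ∀ i, x' ∉ D i := fun i hi => by
    by_cases h : i = j
    · subst h
      exact hQn (neg_eq_zero.mp (by rw [← hQv, ← hcl, X.comp_other hjl hi, C.zero]))
    · exact hQn (by rw [← hQu, ← hcj, X.comp_other h hi, C.zero])
  have ha' : g.val *ᵥ a ∈ rootsAt Q B C H x' hQx' := rootsAt_act C T.le_iso hg hgx ha
  obtain ⟨w, w', hH', h1, h2⟩ := X.hyp_of_norm hH hn hen hfn hQn hu hQu
  exact hnot (T.mixed_of_hyp hq hQx' hxD' (by rwa [mem_iso.mp (T.le_iso hg)]) ha'
    (by rwa [hcj, hQu]) hH' (by rwa [hcj]) (by rwa [hcj]))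

/-- A subgroup containing the stabiliser permutes the blocks, or is everything. -/
theorem BlocksCtx.perm_or_top (hq : 5 ≤ k ∨ ∃ μ : F, μ ≠ 0 ∧ μ ^ 2 ≠ 1) :
    (∀ g ∈ H, g ∈ Cfsg.Geo.decompositionStabilizer D) ∨ Cfsg.Geo.omegaGL Q ≤ H := by
  have X := T.blocks
  have C := X.space
  by_cases hM : BlockMixed Q B D H
  · exact Or.inr (T.omega_le_of_mixed hM)
  left
  intro g hg
  have hgI := T.le_iso hg
  have blk : ∀ i, ∀ u ∈ D i, u ≠ 0 → Q u = 0 → ∃ l, g.val *ᵥ u ∈ D l := by
    intro i u hu hu0 hQu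
    by_contra h
    push Not at h
    obtain ⟨b, hb, hQb, hub⟩ := X.exists_nonsing_perp hu hu0 hQu
    have hQgu : Q (g.val *ᵥ u) = 0 := by rw [mem_iso.mp hgI, hQu]
    have ha : g.val *ᵥ b ∈ rootsAt Q B C H (g.val *ᵥ u) hQgu :=
      rootsAt_act C T.le_iso hg rfl (T.root_of_block hu hb hQu hub)
    have hQgb : Q (g.val *ᵥ b) ≠ 0 := by rwa [mem_iso.mp hgI]
    rcases hq with h5 | hq
    · exact hM (T.mixed_of_large h5 hQgu h hQgb ha)
    · exact hM (T.mixed_of_small hq hQgu h hQgb ha)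
  have maps : ∀ i, ∃ l, ∀ y ∈ D i, g.val *ᵥ y ∈ D l := by
    intro i
    obtain ⟨e, f, hH⟩ := X.exists_hypIn i
    have he0 : e ≠ 0 := fun h => by
      have := hH.pair; rw [h, map_zero, LinearMap.zero_apply] at this; exact zero_ne_one this
    obtain ⟨l, hl⟩ := blk i e hH.memE he0 hH.singE
    have same : ∀ w ∈ D i, Q w = 0 → g.val *ᵥ w ∈ D l := by
      intro w hw hQw
      by_cases hw0 : w = 0
      · rw [hw0, Matrix.mulVec_zero]; exact (D l).zero_mem
      obtain ⟨l', hl'⟩ := blk i w hw hw0 hQw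
      by_contra hne
      have hll : l ≠ l' := fun h => hne (h ▸ hl')
      have hew : B e w = 0 := by
        rw [← C.B_act hgI]; exact X.orth l l' hll _ hl _ hl'
      have hsum : Q (e + w) = 0 := by rw [C.add, hH.singE, hQw, hew]; simp
      have hsum0 : e + w ≠ 0 := fun h => act_ne_zero (g := g) he0 (X.disj hll hl (by
        rw [eq_neg_of_add_eq_zero_left h, Matrix.mulVec_neg]; exact (D l').neg_mem hl'))
      obtain ⟨l'', hl''⟩ := blk i _ ((D i).add_mem hH.memE hw) hsum0 hsum
      rw [Matrix.mulVec_add] at hl''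
      by_cases h : l'' = l
      · subst h
        exact hne (by simpa using (D l'').sub_mem hl'' hl)
      · have h1 := X.comp_other h hl''
        rw [map_add, X.comp_self hl, X.comp_other (Ne.symm hll) hl', add_zero] at h1
        exact act_ne_zero he0 h1
    exact ⟨l, fun y hy => (Submodule.span_le (p := (D l).comap (Matrix.mulVecLin g.val))).mpr
      (fun w hw => same w hw.1 hw.2) (hH.span C hy)⟩
  choose σ hσ using maps
  have himg : ∀ i, (D i).map (Matrix.mulVecLin g.val) = D (σ i) := fun i =>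
    Submodule.eq_of_le_of_finrank_eq (fun _ ⟨y, hy, e⟩ => e ▸ hσ i y hy) (by
      rw [← (Submodule.equivMapOfInjective _ (act_injective g) (D i)).finrank_eq, X.dim, X.dim])
  have hinj : Function.Injective σ := fun i i' h => by
    by_contra hne
    obtain ⟨e, f, hH⟩ := X.exists_hypIn i
    obtain ⟨y, hy, hye⟩ : g.val *ᵥ e ∈ (D i').map (Matrix.mulVecLin g.val) := by
      rw [himg i', ← h]; exact hσ i e hH.memE
    have hei : e ∈ D i' := act_injective g hye ▸ hy
    have := hH.pair
    rw [X.disj hne hH.memE hei, map_zero, LinearMap.zero_apply] at this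
    exact zero_ne_one this
  exact X.mem_stab_of_perm (Equiv.ofBijective σ (Finite.injective_iff_bijective.mp hinj)) hσ

end Bad

/-- The stabiliser of an orthogonal decomposition is maximal in `Ω`. -/
theorem Blocks.maximal [Finite F] (X : Blocks Q B D k)
    (hq : 5 ≤ k ∨ ∃ μ : F, μ ≠ 0 ∧ μ ^ 2 ≠ 1) :
    Cfsg.Geo.IsMaximalIn (Cfsg.Geo.omegaGL Q)
      (Cfsg.Geo.decompositionStabilizer D ⊓ Cfsg.Geo.omegaGL Q) := by
  have C := X.space
  have hO := omegaGL_eq C X.five
  refine ⟨lt_of_le_of_ne inf_le_right fun heq => ?_, fun H hLH hHΩ => ?_⟩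
  · have h2 := X.two_le
    obtain ⟨i, l, hne⟩ : ∃ i l : Fin t, i ≠ l :=
      ⟨⟨0, by omega⟩, ⟨1, by omega⟩, by simp [Fin.ext_iff]⟩
    obtain ⟨e, f, hH⟩ := X.exists_hypIn i
    obtain ⟨e', f', hH'⟩ := X.exists_hypIn l
    have he0 : e ≠ 0 := fun h => by
      have := hH.pair; rw [h, map_zero, LinearMap.zero_apply] at this; exact zero_ne_one this
    have he'0 : e' ≠ 0 := fun h => by
      have := hH'.pair; rw [h, map_zero, LinearMap.zero_apply] at this; exact zero_ne_one this
    have hs0 : e + e' ≠ 0 := fun h => he0 (X.disj hne hH.memE (by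
      rw [eq_neg_of_add_eq_zero_left h]; exact (D l).neg_mem hH'.memE))
    have hQs : Q e = Q (e + e') := by
      rw [C.add, hH.singE, hH'.singE, X.orth i l hne e hH.memE e' hH'.memE]; simp
    obtain ⟨g, hg, hge⟩ := trans_top C X.five he0 hs0 hQs
    rw [← hO, ← heq] at hg
    obtain ⟨σ, hσ⟩ := hg.1
    have hm : e + e' ∈ D (σ i) := by
      rw [← hσ i, ← hge]
      exact ⟨e, hH.memE, by rw [Matrix.toLin'_apply]⟩
    by_cases h : σ i = i
    · rw [h] at hm
      exact he'0 (X.disj hne (by simpa using (D i).sub_mem hm hH.memE) hH'.memE)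
    · have h1 := X.comp_other h hm
      rw [map_add, X.comp_self hH.memE, X.comp_other (Ne.symm hne) hH'.memE, add_zero] at h1
      exact he0 h1
  have hHI : H ≤ isometryGroup F Q := hHΩ.trans (hO ▸ root_le_iso C _)
  rcases (BlocksCtx.mk X hHI hLH : BlocksCtx Q B D k H).perm_or_top hq with h | h
  · exact Or.inl (le_antisymm (fun g hg => ⟨h g hg, hHΩ hg⟩) hLH)
  · exact Or.inr (le_antisymm hHΩ h)

end Cfsg.Lib.Linear.Orth
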