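import Cfsg.Agent.Lib.Linear.OrthTorusSign
import Cfsg.Agent.Lib.Linear.OrthSpinor

/-!
# Centralisers of semisimple isometries are not contained in `Ω`

An isometry of prime order without fixed vectors either leaves a nondegenerate proper subspace
invariant, or its centraliser contains a cyclic torus with an odd number of orbits on a level set.
-/

set_option autoImplicit false

namespace Cfsg.Lib.Linear.CentralizerSpin

open Module
open scoped Matrix

section Concrete

open Cfsg.Lib.Linear.Orth

variable {ι : Type} [Fintype ι] [DecidableEq ι] {F : Type*} [Field F] [Fintype F]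
  {Q : (ι → F) → F} {B : LinearMap.BilinForm F (ι → F)}

/-- An isometry permuting the moved vectors of norm one freely in an odd number of even cycles. -/
theorem spin_eq_neg_one (C : Space Q B) {U W : Submodule F (ι → F)} (hUW : IsCompl U W)
    (horth : ∀ a ∈ U, ∀ w ∈ W, B a w = 0) (x : ↥(isometryGroup F Q)) (SU : Module.End F U)
    (hxU : ∀ a : U, (x : GL ι F).val *ᵥ (a : ι → F) = SU a) (hxW : ∀ w ∈ W, (x : GL ι F).val *ᵥ w = w)
    {N P : ℕ} (hN : Even N) (hN0 : 0 < N) (hSU : SU ^ N = 1)
    (hfree : ∀ (j : ℕ) (a : U), a ≠ 0 → (SU ^ j) a = a → N ∣ j) (hP : Odd P)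
    (hcount : Nat.card {y : U × W // y.1 ≠ 0 ∧ Q y.1 + Q y.2 = 1} = N * P) : spin Q x = -1 := by
  classical
  set σ := levelPerm Q 1 x with hσ
  have hsplit : ∀ v, ∃ a : U, ∃ b : W, v = (a : ι → F) + (b : ι → F) := fun v => by
    obtain ⟨v1, hv1, v2, hv2, rfl⟩ := Submodule.mem_sup.1 (hUW.sup_eq_top ▸ Submodule.mem_top : v ∈ U ⊔ W)
    exact ⟨⟨v1, hv1⟩, ⟨v2, hv2⟩, rfl⟩
  have hσS : ∀ (j : ℕ) (v : {v // Q v = 1}) (a : U) (b : W), v.1 = (a : ι → F) + b →
      ((σ ^ j) v).1 = ((SU ^ j) a : ι → F) + b := by
    intro j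
    induction j with
    | zero => intro v a b h; exact h
    | succ j ih =>
      intro v a b h
      rw [pow_succ', pow_succ', Equiv.Perm.mul_apply, Module.End.mul_apply]
      show (x : GL ι F).val *ᵥ ((σ ^ j) v).1 = _
      rw [ih v a b h, Matrix.mulVec_add, hxU, hxW _ b.2]
  have hQadd : ∀ (a : U) (b : W), Q ((a : ι → F) + b) = Q a + Q b := fun a b => by
    rw [C.add, horth a.1 a.2 b.1 b.2, add_zero]
  have hmove : ∀ (a : U) (b : W) (h : Q ((a : ι → F) + b) = 1), 1 < N →
      (σ ⟨_, h⟩ ≠ ⟨_, h⟩ ↔ a ≠ 0) := fun a b h hN1 => by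
    rw [ne_eq, ne_eq, not_iff_not, Subtype.ext_iff, ← pow_one σ, hσS 1 ⟨_, h⟩ a b rfl]
    show _ = (a : ι → F) + b ↔ a = 0
    rw [add_left_inj, pow_one, ← Subtype.ext_iff]
    refine ⟨fun h => ?_, fun h => by rw [h, map_zero]⟩
    by_contra ha
    exact absurd (Nat.le_of_dvd one_pos (hfree 1 a ha (by rw [pow_one, h]))) (by omega)
  have hN1 : 1 < N := by
    obtain ⟨c, hc⟩ := hN
    omega
  show Equiv.Perm.sign _ = -1
  refine TorusSign.sign_eq_neg_one hN hN0 (Equiv.ext fun v => Subtype.ext ?_) (fun v hv j hj => ?_) hP ?_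
  · obtain ⟨a, b, hab⟩ := hsplit v.1
    rw [hσS N v a b hab, hSU, Module.End.one_apply, Equiv.Perm.one_apply]
    exact hab.symm
  · obtain ⟨a, b, hab⟩ := hsplit v.1
    obtain ⟨v, hvQ⟩ := v
    simp only at hab
    subst hab
    refine hfree j a ((hmove a b hvQ hN1).1 hv) (Subtype.ext ?_)
    have h := congrArg Subtype.val hj
    rw [hσS j ⟨_, hvQ⟩ a b rfl] at h
    exact add_right_cancel h
  · rw [← hcount]
    let e := Submodule.prodEquivOfIsCompl U W hUW
    refine Nat.card_congr
      { toFun := fun v => ⟨e.symm v.1.1, ?_⟩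
        invFun := fun y => ⟨⟨(y.1.1 : ι → F) + y.1.2, (hQadd _ _).trans y.2.2⟩, (hmove _ _ _ hN1).2 y.2.1⟩
        left_inv := fun v => Subtype.ext (Subtype.ext (e.apply_symm_apply v.1.1))
        right_inv := fun y => Subtype.ext (e.symm_apply_apply y.1) }
    obtain ⟨⟨v, hv⟩, hx⟩ := v
    obtain ⟨⟨a, b⟩, rfl⟩ := e.surjective v
    rw [LinearEquiv.symm_apply_apply]
    exact ⟨(hmove a b hv hN1).1 hx, (hQadd a b).symm.trans hv⟩

end Concrete

variable {F : Type*} [Field F] [Fintype F] {V : Type*} [AddCommGroup V] [Module F V] [Finite V]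

theorem order_dvd_finrank {r : ℕ} [Fact r.Prime] (y : Module.End F V) (hyr : y ^ r = 1)
    (hfix : ∀ v, y v = v → v = 0) (U : Submodule F V) (hU : ∀ a ∈ U, y a ∈ U) :
    orderOf ((Fintype.card F : ℕ) : ZMod r) ∣ finrank F U := by
  classical
  haveI := Fintype.ofFinite U
  let f : Function.End U := fun a => ⟨y a.1, hU a.1 a.2⟩
  have hf : ∀ j, ∀ a : U, ((f ^ j) a : U).1 = (y ^ j) a.1 := by
    intro j
    induction j with
    | zero => intro a; rfl
    | succ j ih =>
      intro a
      rw [pow_succ', pow_succ']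
      show y ((f ^ j) a).1 = y ((y ^ j) a.1)
      rw [ih]
  have hfr : f ^ r ^ 1 = 1 := by
    funext a
    refine Subtype.ext ?_
    rw [pow_one, hf, hyr]
    rfl
  have h := Equiv.Perm.card_fixedPoints_modEq (p := r) (n := 1) hfr
  have h1 : Fintype.card (Function.fixedPoints f) = 1 := by
    refine Fintype.card_eq_one_iff.2 ⟨⟨0, Subtype.ext (map_zero y)⟩, fun x => Subtype.ext (Subtype.ext ?_)⟩
    exact hfix _ (congrArg Subtype.val x.2)
  rw [h1, Module.card_eq_pow_finrank (K := F), ← ZMod.natCast_eq_natCast_iff, Nat.cast_pow, Nat.cast_one] at h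
  exact orderOf_dvd_of_pow_eq_one h

/-- A prime order isometry without invariant subspaces divides `q ^ m + 1`. -/
theorem pow_eq_one_of_simple (p : ℕ) [Fact p.Prime] [CharP F p] {r : ℕ} [Fact r.Prime] (y : Module.End F V)
    (hyr : y ^ r = 1) (hfix : ∀ v, y v = v → v = 0)
    (hsimple : ∀ U : Submodule F V, (∀ a ∈ U, y a ∈ U) → U = ⊥ ∨ U = ⊤) {m : ℕ} (hm : m ≠ 0)
    (hdim : finrank F V = 2 * m) : y ^ (Fintype.card F ^ m + 1) = 1 := by
  classical
  haveI : Nontrivial V := Module.finrank_pos_iff (R := F).1 (by omega)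
  set q := Fintype.card F
  have hq1 : 1 < q := Fintype.one_lt_card
  set d := orderOf ((q : ℕ) : ZMod r) with hd
  have hd2 : d ∣ 2 * m := by
    have h := order_dvd_finrank y hyr hfix ⊤ (fun _ _ => Submodule.mem_top)
    rwa [finrank_top, hdim] at h
  have hd0 : 0 < d := Nat.pos_of_dvd_of_pos hd2 (by omega)
  have hqd : ((q ^ d : ℕ) : ZMod r) = ((1 : ℕ) : ZMod r) := by
    rw [Nat.cast_pow, Nat.cast_one, hd, pow_orderOf_eq_one]
  have hmod : ∀ a b : ℕ, (a : ZMod r) = (b : ZMod r) → y ^ a = y ^ b := fun a b h => by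
    have h' : a % r = b % r := (ZMod.natCast_eq_natCast_iff a b r).1 h
    rw [← Nat.mod_add_div a r, ← Nat.mod_add_div b r, pow_add, pow_add, pow_mul, pow_mul, hyr, h', one_pow, one_pow]
  have hle : 2 * m ≤ d := by
    set A := Algebra.adjoin F ({y} : Set (Module.End F V)) with hA
    haveI : Finite (Module.End F V) := Finite.of_injective (fun g => (g : V → V)) DFunLike.coe_injective
    letI : Field A := (TorusSign.adjoin_isField hsimple).toField
    obtain ⟨v₀, hv₀⟩ := exists_ne (0 : V)
    have hcard : Nat.card A = q ^ (2 * m) := by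
      haveI := Fintype.ofFinite V
      rw [Nat.card_congr (Equiv.ofBijective _ (TorusSign.adjoin_bijective hsimple hv₀)), Nat.card_eq_fintype_card,
        Module.card_eq_pow_finrank (K := F), hdim]
    obtain ⟨ω, hω⟩ := IsCyclic.exists_ofOrder_eq_natCard (α := Aˣ)
    rw [Nat.card_units, hcard] at hω
    have h1 : (ω : A) ^ q ^ d = ω := Subtype.ext (by
      rw [SubmonoidClass.coe_pow]
      exact TorusSign.pow_fix_adjoin p (by rw [hmod _ _ hqd, pow_one]) (ω : A).2)
    have h2 : ω ^ (q ^ d - 1) = 1 := by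
      refine Units.ext (mul_right_cancel₀ ω.ne_zero ?_)
      rw [Units.val_pow_eq_pow_val, ← pow_succ, Nat.sub_add_cancel (Nat.one_le_pow _ _ (by omega)), h1,
        Units.val_one, one_mul]
    have h3 := Nat.le_of_dvd (by have := Nat.one_lt_pow hd0.ne' hq1; omega) (hω ▸ orderOf_dvd_of_pow_eq_one h2)
    have h4 : q ^ (2 * m) ≤ q ^ d := by have := Nat.one_le_pow d q (by omega); omega
    exact (Nat.pow_le_pow_iff_right hq1).1 h4
  have hdeq : d = 2 * m := le_antisymm (Nat.le_of_dvd (by omega) hd2) hle
  have hsq : (((q : ℕ) : ZMod r) ^ m) * (((q : ℕ) : ZMod r) ^ m) = 1 := by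
    rw [← pow_add, ← two_mul, ← hdeq, hd, pow_orderOf_eq_one]
  rw [hmod _ 0 ?_, pow_zero]
  rcases mul_self_eq_one_iff.1 hsq with h | h
  · exact absurd (Nat.le_of_dvd (by omega) (hd ▸ orderOf_dvd_of_pow_eq_one h)) (by omega)
  · rw [Nat.cast_add, Nat.cast_pow, h, Nat.cast_one, Nat.cast_zero, neg_add_cancel]

omit [Fintype F] [Finite V] in
theorem aeval_adjoint (B : LinearMap.BilinForm F V) {y yi : Module.End F V} (h : ∀ a b, B (y a) b = B a (yi b))
    (f : Polynomial F) : ∀ a b, B (Polynomial.aeval y f a) b = B a (Polynomial.aeval yi f b) := by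
  induction f using Polynomial.induction_on' with
  | add f g hf hg =>
    intro a b
    simp only [map_add, LinearMap.add_apply, hf, hg]
  | monomial k c =>
    have hk : ∀ k a b, B ((y ^ k) a) b = B a ((yi ^ k) b) := by
      intro k
      induction k with
      | zero => intro a b; rfl
      | succ k ih => intro a b; rw [pow_succ', Module.End.mul_apply, h, ih, ← Module.End.mul_apply, ← pow_succ]
    intro a b
    simp only [Polynomial.aeval_monomial, Module.End.mul_apply, Module.algebraMap_end_apply, map_smul,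
      LinearMap.smul_apply, hk]

omit [Fintype F] [Finite V] in
theorem aeval_restrict {y : Module.End F V} {P : Submodule F V} (hP : ∀ a ∈ P, y a ∈ P) (f : Polynomial F) (a : P) :
    ((Polynomial.aeval (y.restrict hP) f a : P) : V) = Polynomial.aeval y f (a : V) := by
  induction f using Polynomial.induction_on' with
  | add f g hf hg => simp only [map_add, LinearMap.add_apply, Submodule.coe_add, hf, hg]
  | monomial k c =>
    simp only [Polynomial.aeval_monomial, Module.End.mul_apply, Module.algebraMap_end_apply, Submodule.coe_smul]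
    congr 1
    induction k with
    | zero => rfl
    | succ k ih => rw [pow_succ', pow_succ', Module.End.mul_apply, Module.End.mul_apply, LinearMap.restrict_coe_apply, ih]

universe w

/-- The torus of two paired isotropic invariant subspaces. -/
theorem paired_torus (h2 : (2 : F) ≠ 0) (B : LinearMap.BilinForm F V) (hsymm : ∀ a b, B a b = B b a)
    (hnd : ∀ a, (∀ b, B a b = 0) → a = 0) {y yi : Module.End F V} (hy : y * yi = 1) (hyi : yi * y = 1)
    (hyB : ∀ a b, B (y a) (y b) = B a b) {P D : Submodule F V} (hPD : IsCompl P D)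
    (hP : ∀ a ∈ P, y a ∈ P) (hD : ∀ a ∈ D, y a ∈ D) (hD' : ∀ a ∈ D, yi a ∈ D)
    (hPiso : ∀ a ∈ P, ∀ b ∈ P, B a b = 0) (hDiso : ∀ a ∈ D, ∀ b ∈ D, B a b = 0) (hP0 : P ≠ ⊥)
    (hsimple : ∀ R : Submodule F P, (∀ a ∈ R, y.restrict hP a ∈ R) → R = ⊥ ∨ R = ⊤) :
    ∃ (N : ℕ) (σ : Module.End F V), Even N ∧ 0 < N ∧ Commute σ y ∧ (∀ a b, B (σ a) (σ b) = B a b) ∧ σ ^ N = 1 ∧
      (∀ (j : ℕ) (v : V), v ≠ 0 → (σ ^ j) v = v → N ∣ j) ∧
      ∀ (W : Type w) [AddCommGroup W] [Finite W] (f : W → F), f 0 = 0 → (∀ w, f (-w) = f w) →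
        (∀ w : W, w + w = 0 → w = 0) → Odd (Nat.card W) →
        ∃ K, Odd K ∧ Nat.card {x : V × W // x.1 ≠ 0 ∧ (2 : F)⁻¹ * B x.1 x.1 + f x.2 = 1} = N * K := by
  classical
  haveI := Fintype.ofFinite V
  haveI : Nontrivial P := Submodule.nontrivial_iff_ne_bot.2 hP0
  set q := Fintype.card F
  set d := finrank F P with hd
  have hd0 : 0 < d := Module.finrank_pos
  have hqodd : Odd q := by
    rw [← Nat.not_even_iff_odd, Nat.even_iff]
    intro h
    exact h2 (by
      have := FiniteField.even_card_iff_char_two.2 h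
      have hc := ringChar.charP F
      have h := CharP.cast_eq_zero F (ringChar F)
      rwa [this, Nat.cast_ofNat] at h)
  set yP := y.restrict hP with hyP
  set yD := yi.restrict hD' with hyD
  set A := Algebra.adjoin F ({yP} : Set (Module.End F P)) with hA
  haveI : Finite (Module.End F P) := Finite.of_injective (fun g => (g : P → P)) DFunLike.coe_injective
  letI : Field A := (TorusSign.adjoin_isField hsimple).toField
  obtain ⟨v₀, hv₀⟩ := exists_ne (0 : P)
  have hcard : Nat.card A = q ^ d := by
    rw [Nat.card_congr (Equiv.ofBijective _ (TorusSign.adjoin_bijective hsimple hv₀)), Nat.card_eq_fintype_card,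
      Module.card_eq_pow_finrank (K := F)]
  obtain ⟨ω, hω⟩ := IsCyclic.exists_ofOrder_eq_natCard (α := Aˣ)
  rw [Nat.card_units, hcard] at hω
  set N := q ^ d - 1 with hN
  have hN0 : 0 < N := by have := Nat.one_lt_pow hd0.ne' (show 1 < q from Fintype.one_lt_card); omega
  have hNe : Even N := by
    rw [hN, Nat.even_iff]
    have := (hqodd.pow (n := d))
    rw [Nat.odd_iff] at this
    omega
  have hmem : ∀ a : A, ∃ f : Polynomial F, Polynomial.aeval yP f = a.1 := fun a => by
    have h : (a.1 : Module.End F P) ∈ Algebra.adjoin F ({yP} : Set (Module.End F P)) := a.2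
    rw [Algebra.adjoin_singleton_eq_range_aeval] at h
    exact h
  obtain ⟨f, hf⟩ := hmem (ω : A)
  obtain ⟨f', hf'⟩ := hmem ((ω⁻¹ : Aˣ) : A)
  set z := Polynomial.aeval yP f with hz
  set z' := Polynomial.aeval yD f' with hz'
  set zi := Polynomial.aeval yP f' with hzi
  have hzz : zi * z = 1 := by
    rw [hf, hf', ← MulMemClass.coe_mul, ← Units.val_mul, inv_mul_cancel]; rfl
  have hzj : ∀ j : ℕ, z ^ j = (((ω ^ j : Aˣ) : A) : Module.End F P) := fun j => by
    rw [hf, ← SubmonoidClass.coe_pow, ← Units.val_pow_eq_pow_val]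
  have hzN : z ^ N = 1 := by rw [hzj, ← hω, pow_orderOf_eq_one]; rfl
  have hzfree : ∀ (j : ℕ) (a : P), a ≠ 0 → (z ^ j) a = a → N ∣ j := fun j a ha h => by
    rw [← hω]
    refine orderOf_dvd_of_pow_eq_one (Units.ext (Subtype.ext (sub_eq_zero.1 ?_)))
    by_contra hne
    refine ha (TorusSign.eq_zero_of_commute hsimple
      (((TorusSign.commute_adjoin ((ω ^ j : Aˣ) : A).2 (Commute.refl yP)).symm).sub_left (Commute.one_left yP)) hne ?_)
    show ((((ω ^ j : Aˣ) : A) : Module.End F P) - 1) a = 0
    rw [← hzj, LinearMap.sub_apply, h, Module.End.one_apply, sub_self]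
  -- adjoints across the pairing
  have hadj : ∀ (g : Polynomial F) (a : P) (x : D),
      B ((Polynomial.aeval yP g a : P) : V) x = B (a : V) ((Polynomial.aeval yD g x : D) : V) := fun g a x => by
    rw [hyP, hyD, aeval_restrict, aeval_restrict]
    refine aeval_adjoint B (fun a b => ?_) g a x
    conv_lhs => rw [show b = y (yi b) by rw [← Module.End.mul_apply, hy, Module.End.one_apply]]
    rw [hyB]
  have hcross : ∀ (a : P) (x : D), B ((z a : P) : V) ((z' x : D) : V) = B (a : V) x := fun a x => by
    rw [← hadj f' (z a) x, ← Module.End.mul_apply (f := Polynomial.aeval yP f'), hzz]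
    rfl
  have hperpD : ∀ x : D, (∀ a : P, B (a : V) x = 0) → x = 0 := fun x h => Subtype.ext (hnd _ fun b => by
    obtain ⟨b1, hb1, b2, hb2, rfl⟩ := Submodule.mem_sup.1 (hPD.sup_eq_top ▸ Submodule.mem_top : b ∈ P ⊔ D)
    rw [map_add, hsymm _ b1, h ⟨b1, hb1⟩, hDiso _ x.2 _ hb2, add_zero])
  have hperpP : ∀ a : P, (∀ x : D, B (a : V) x = 0) → a = 0 := fun a h => Subtype.ext (hnd _ fun b => by
    obtain ⟨b1, hb1, b2, hb2, rfl⟩ := Submodule.mem_sup.1 (hPD.sup_eq_top ▸ Submodule.mem_top : b ∈ P ⊔ D)
    rw [map_add, hPiso _ a.2 _ hb1, h ⟨b2, hb2⟩, add_zero])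
  have hcrossj : ∀ (j : ℕ) (a : P) (x : D), B (((z ^ j) a : P) : V) (((z' ^ j) x : D) : V) = B (a : V) x := by
    intro j
    induction j with
    | zero => intro a x; rfl
    | succ j ih => intro a x; rw [pow_succ', pow_succ', Module.End.mul_apply, Module.End.mul_apply, hcross, ih]
  let e := Submodule.prodEquivOfIsCompl P D hPD
  have he : ∀ x : P × D, e x = (x.1 : V) + x.2 := fun x => rfl
  set σ : Module.End F V := e.toLinearMap ∘ₗ (LinearMap.prodMap z z') ∘ₗ e.symm.toLinearMap with hσ
  have hσe : ∀ x : P × D, σ (e x) = e (z x.1, z' x.2) := fun x => by simp [hσ]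
  have hσj : ∀ (j : ℕ) (x : P × D), (σ ^ j) (e x) = e ((z ^ j) x.1, (z' ^ j) x.2) := by
    intro j
    induction j with
    | zero => intro x; rfl
    | succ j ih =>
      intro x
      rw [pow_succ', pow_succ', pow_succ', Module.End.mul_apply, ih, hσe, Module.End.mul_apply, Module.End.mul_apply]
  have hform : ∀ x x' : P × D, B (e x) (e x') = B (x.1 : V) x'.2 + B (x'.1 : V) x.2 := fun x x' => by
    simp only [he, map_add, LinearMap.add_apply, hPiso _ x.1.2 _ x'.1.2, hDiso _ x.2.2 _ x'.2.2,
      hsymm (x.2 : V) x'.1, zero_add, add_zero]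
    ring
  refine ⟨N, σ, hNe, hN0, LinearMap.ext fun v => ?_, fun a b => ?_, LinearMap.ext fun v => ?_, fun j v hv h => ?_, ?_⟩
  · obtain ⟨x, rfl⟩ := e.surjective v
    have hye : y (e x) = e (yP x.1, (y.restrict hD) x.2) := by
      rw [he, he, map_add]; rfl
    rw [Module.End.mul_apply, Module.End.mul_apply, hσe, hye, hσe, he, he, map_add]
    have c1 : ∀ a : P, z (yP a) = yP (z a) := fun a => by
      rw [hz, ← Module.End.mul_apply, ← Module.End.mul_apply]
      refine LinearMap.congr_fun (Commute.eq ?_) a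
      simpa using (Polynomial.commute_X f).symm.map (Polynomial.aeval yP)
    have hcy : ∀ g : Polynomial F, Commute (Polynomial.aeval yi g) y := fun g => by
      induction g using Polynomial.induction_on' with
      | add g h hg hh => rw [map_add]; exact hg.add_left hh
      | monomial k c =>
        rw [Polynomial.aeval_monomial]
        exact (Commute.mul_left (Algebra.commutes c y) ((show Commute yi y from hyi.trans hy.symm).pow_left k))
    have c2 : ∀ a : D, z' (y.restrict hD a) = y.restrict hD (z' a) := fun a => by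
      refine Subtype.ext ?_
      rw [hz', hyD, aeval_restrict, LinearMap.restrict_coe_apply, LinearMap.restrict_coe_apply, aeval_restrict]
      exact LinearMap.congr_fun (hcy f').eq (a : V)
    exact congrArg₂ (fun (s : P) (t : D) => (s : V) + t) (c1 x.1) (c2 x.2)
  · obtain ⟨x, rfl⟩ := e.surjective a
    obtain ⟨x', rfl⟩ := e.surjective b
    rw [hσe, hσe, hform, hform, hcross, hcross]
  · obtain ⟨x, rfl⟩ := e.surjective v
    rw [hσj, hzN, Module.End.one_apply, Module.End.one_apply]
    refine congrArg (fun t => e (x.1, t)) (sub_eq_zero.1 (hperpD _ fun a => ?_))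
    have h := hcrossj N a x.2
    rw [hzN, Module.End.one_apply] at h
    rw [AddSubgroupClass.coe_sub, map_sub, h, sub_self]
  · obtain ⟨x, rfl⟩ := e.surjective v
    rw [hσj] at h
    obtain ⟨h1, h1'⟩ := Prod.mk.inj (e.injective h)
    by_cases hx : x.1 = 0
    · by_contra hndvd
      have hsurj : Function.Surjective (z ^ j - 1 : Module.End F P) := by
        refine LinearMap.injective_iff_surjective.1 ((injective_iff_map_eq_zero _).2 fun a ha => ?_)
        by_contra ha0
        rw [LinearMap.sub_apply, Module.End.one_apply, sub_eq_zero] at ha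
        exact hndvd (hzfree j a ha0 ha)
      refine hv ?_
      have hx2 : x.2 = 0 := hperpD _ fun a => by
        obtain ⟨c, rfl⟩ := hsurj a
        have h2' := hcrossj j c x.2
        rw [h1'] at h2'
        rw [LinearMap.sub_apply, Module.End.one_apply, AddSubgroupClass.coe_sub, map_sub, LinearMap.sub_apply, h2',
          sub_self]
      rw [show x = (0, 0) from Prod.ext hx hx2]
      exact map_zero e
    · exact hzfree j x.1 hx h1
  · intro W _ _ g hg0 hg hW2 hWodd
    haveI := Fintype.ofFinite W
    -- the affine fibres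
    have hfib : ∀ (a : P), a ≠ 0 → ∀ c : F, Nat.card {x : D // B (a : V) x = c} = q ^ (d - 1) := by
      intro a ha c
      let φ : D →ₗ[F] F := (B (a : V)).comp D.subtype
      have hφ : φ ≠ 0 := fun h => ha (hperpP a fun x => LinearMap.congr_fun h x)
      have hr : LinearMap.range φ = ⊤ := by
        rw [LinearMap.range_eq_top]
        exact LinearMap.surjective hφ
      obtain ⟨x₀, hx₀⟩ := (LinearMap.range_eq_top.1 hr) c
      have hker : finrank F (LinearMap.ker φ) = d - 1 := by
        have h := LinearMap.finrank_range_add_finrank_ker φ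
        rw [hr, finrank_top, Module.finrank_self] at h
        have hPD' : d = finrank F D := by
          refine le_antisymm ?_ ?_
          · have hinj : Function.Injective ((B.compl₁₂ P.subtype D.subtype) : P → D →ₗ[F] F) :=
              (injective_iff_map_eq_zero _).2 fun b hb => hperpP b fun x => LinearMap.congr_fun hb x
            exact (LinearMap.finrank_le_finrank_of_injective hinj).trans (Subspace.dual_finrank_eq).le
          · have hinj : Function.Injective ((B.compl₁₂ P.subtype D.subtype).flip : D → P →ₗ[F] F) :=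
              (injective_iff_map_eq_zero _).2 fun b hb => hperpD b fun x => LinearMap.congr_fun hb x
            exact (LinearMap.finrank_le_finrank_of_injective hinj).trans (Subspace.dual_finrank_eq).le
        omega
      rw [← hker, ← Module.card_eq_pow_finrank (K := F) (V := LinearMap.ker φ), ← Nat.card_eq_fintype_card]
      refine Nat.card_congr ((Equiv.subRight x₀).subtypeEquiv fun x => ?_)
      show B (a : V) x = c ↔ φ (x - x₀) = 0
      rw [map_sub, hx₀, sub_eq_zero]
      rfl
    set K₀ := Nat.card {w : W // g w = 1} with hK₀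
    refine ⟨Nat.card W * q ^ (d - 1) + K₀, ?_, ?_⟩
    · have hK : Even K₀ := by
        let τ : Function.End {w : W // g w = 1} := fun w => ⟨-w.1, (hg _).trans w.2⟩
        have hτ : τ ^ 2 ^ 1 = 1 := funext fun w => Subtype.ext (neg_neg w.1)
        have h := Equiv.Perm.card_fixedPoints_modEq (p := 2) (n := 1) (f := τ) hτ
        have h0 : IsEmpty (Function.fixedPoints τ) := ⟨fun w => by
          have hw : w.1.1 = 0 := hW2 _ (eq_neg_iff_add_eq_zero.1 (congrArg Subtype.val w.2).symm)
          have := w.1.2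
          rw [hw, hg0] at this
          exact zero_ne_one this⟩
        rw [Fintype.card_eq_zero (α := Function.fixedPoints τ), ← Nat.card_eq_fintype_card] at h
        rw [Nat.even_iff]
        exact h
      exact (hWodd.mul hqodd.pow).add_even hK
    · have key : Nat.card {x : V × W // x.1 ≠ 0 ∧ (2 : F)⁻¹ * B x.1 x.1 + g x.2 = 1} =
          Nat.card (Σ pw : P × W, {x : D // (pw.1, x) ≠ (0, 0) ∧ B (pw.1 : V) x + g pw.2 = 1}) := by
        have hq : ∀ x : P × D, (2 : F)⁻¹ * B (e x) (e x) = B (x.1 : V) x.2 := fun x => by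
          rw [hform, ← two_mul, inv_mul_cancel_left₀ h2]
        refine Nat.card_congr
          { toFun := fun x => ⟨((e.symm x.1.1).1, x.1.2), (e.symm x.1.1).2, ?_, ?_⟩
            invFun := fun s => ⟨(e (s.1.1, s.2.1), s.1.2), ?_, ?_⟩
            left_inv := fun x => Subtype.ext (Prod.ext (e.apply_symm_apply x.1.1) rfl)
            right_inv := fun s => ?_ }
        · exact fun h => x.2.1 ((e.symm.map_eq_zero_iff).1 h)
        · rw [← hq, e.apply_symm_apply]; exact x.2.2
        · exact fun h => s.2.2.1 ((e.map_eq_zero_iff).1 h)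
        · show (2 : F)⁻¹ * B (e _) (e _) + _ = 1
          rw [hq]; exact s.2.2.2
        · obtain ⟨⟨a, w⟩, x, hx⟩ := s
          exact Sigma.subtype_ext (by simp only [LinearEquiv.symm_apply_apply]) (by simp only [LinearEquiv.symm_apply_apply])
      rw [key, Nat.card_sigma, Fintype.sum_prod_type, ← Finset.add_sum_erase _ _ (Finset.mem_univ (0 : P))]
      have hzero : ∑ w : W, Nat.card {x : D // ((0 : P), x) ≠ (0, 0) ∧ B ((0 : P) : V) x + g w = 1} = K₀ * N := by
        have h1 : ∀ w : W, Nat.card {x : D // ((0 : P), x) ≠ (0, 0) ∧ B ((0 : P) : V) x + g w = 1} =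
            if g w = 1 then N else 0 := fun w => by
          split_ifs with hw
          · have hc : Nat.card {x : D // x ≠ 0} = N := by
              rw [Nat.card_eq_fintype_card, Fintype.card_subtype_compl, Fintype.card_subtype_eq,
                Module.card_eq_pow_finrank (K := F)]
              have hPD' : d = finrank F D := by
                obtain ⟨a, ha⟩ := exists_ne (0 : P)
                refine le_antisymm ?_ ?_
                · have hinj : Function.Injective ((B.compl₁₂ P.subtype D.subtype) : P → D →ₗ[F] F) :=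
                    (injective_iff_map_eq_zero _).2 fun b hb => hperpP b fun x => LinearMap.congr_fun hb x
                  exact (LinearMap.finrank_le_finrank_of_injective hinj).trans (Subspace.dual_finrank_eq).le
                · have hinj : Function.Injective ((B.compl₁₂ P.subtype D.subtype).flip : D → P →ₗ[F] F) :=
                    (injective_iff_map_eq_zero _).2 fun b hb => hperpD b fun x => LinearMap.congr_fun hb x
                  exact (LinearMap.finrank_le_finrank_of_injective hinj).trans (Subspace.dual_finrank_eq).le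
              rw [← hPD']
            rw [← hc]
            exact Nat.card_congr (Equiv.subtypeEquivRight fun x => by simp [hw])
          · refine Nat.card_eq_zero.2 (Or.inl ⟨fun x => hw ?_⟩)
            simpa using x.2.2
        rw [Finset.sum_congr rfl fun w _ => h1 w, Finset.sum_ite, Finset.sum_const_zero, add_zero, Finset.sum_const,
          smul_eq_mul, hK₀, Nat.card_eq_fintype_card, Fintype.card_subtype]
      rw [hzero]
      have h1 : ∀ a ∈ Finset.univ.erase (0 : P),
          ∑ w : W, Nat.card {x : D // (a, x) ≠ (0, 0) ∧ B (a : V) x + g w = 1} = Nat.card W * q ^ (d - 1) := by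
        intro a ha
        have ha0 := (Finset.mem_erase.1 ha).1
        rw [Finset.sum_congr rfl fun w _ => (show _ = q ^ (d - 1) from ?_), Finset.sum_const, Finset.card_univ,
          smul_eq_mul, Nat.card_eq_fintype_card]
        rw [← hfib a ha0 (1 - g w)]
        exact Nat.card_congr (Equiv.subtypeEquivRight fun x => by simp [ha0, eq_sub_iff_add_eq])
      rw [Finset.sum_congr rfl h1, Finset.sum_const, Finset.card_erase_of_mem (Finset.mem_univ _), Finset.card_univ,
        Module.card_eq_pow_finrank (K := F), smul_eq_mul, ← hd, ← hN]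
      ring

end Cfsg.Lib.Linear.CentralizerSpin
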