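import Cfsg.Agent.Lib.Linear.OrthCocycleTwo

/-!
Crossed homomorphisms of the commutator subgroup of the minus type group in dimension four over two elements.
-/

set_option autoImplicit false
set_option maxRecDepth 10000

namespace Cfsg.Lib.OrthCocycle

open Cfsg Matrix Cfsg.Lib.Linear.Orth
open scoped commutatorElement

/-- The coordinates in dimension four. -/
abbrev FourIdx : Type := (Fin 1 ⊕ Fin 1) ⊕ Fin 2

/-- Bit positions. -/
def fourIdx : FourIdx → ℕ
  | .inl (.inl _) => 0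
  | .inl (.inr _) => 1
  | .inr j => 2 + j.val

/-- The matrix with the coded columns. -/
def colMat (c : List ℕ) : Matrix FourIdx FourIdx (ZMod 2) := Matrix.of fun i j => bitVec fourIdx (c.getD (fourIdx j) 0) i

/-- The code of a column. -/
def fourCode (v : FourIdx → ZMod 2) : ℕ :=
  ([Sum.inl (.inl 0), .inl (.inr 0), .inr 0, .inr 1] : List FourIdx).foldr
    (fun i a => (if v i = 1 then 1 <<< fourIdx i else 0) ||| a) 0

theorem fourSurj : ∀ v : FourIdx → ZMod 2, fourCode v < 16 ∧ bitVec fourIdx (fourCode v) = v := by decide +kernel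

def ellFourQT : ℕ := 30584

def ellFourW : List ℕ := [7, 1, 13, 9]

def ellFourS : List ℕ := [7, 2, 4, 10]

def ellFourT : List ℕ := [1, 2, 4, 12]

def ellFourWA : List ℕ := [1, 2, 8, 12]

def ellFourWB : List ℕ := [7, 11, 3, 13]

def ellFourSA : List ℕ := [1, 2, 4, 12]

def ellFourSB : List ℕ := [2, 11, 6, 8]

def ellFourWAI : List ℕ := [1, 2, 12, 4]

def ellFourWBI : List ℕ := [11, 15, 5, 6]

def ellFourSAI : List ℕ := [1, 2, 4, 12]

def ellFourSBI : List ℕ := [11, 1, 5, 8]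

def ellFourTree : List (List ℕ × ℕ × ℕ) := [
  ([1, 2, 4, 8], 0, 0),
  ([1, 2, 4, 12], 0, 0),
  ([7, 1, 13, 9], 0, 0),
  ([7, 2, 4, 10], 0, 1),
  ([7, 1, 13, 4], 1, 0),
  ([7, 2, 4, 14], 1, 1),
  ([11, 7, 3, 14], 2, 0),
  ([1, 7, 9, 13], 2, 1),
  ([11, 1, 13, 8], 3, 0),
  ([11, 7, 3, 13], 4, 0),
  ([1, 7, 9, 4], 4, 1),
  ([11, 1, 13, 5], 5, 0),
  ([15, 11, 6, 5], 6, 0),
  ([15, 1, 5, 12], 6, 1),
  ([7, 11, 14, 3], 7, 0),
  ([15, 7, 3, 9], 8, 0),
  ([15, 7, 9, 10], 8, 1),
  ([15, 11, 6, 3], 9, 0),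
  ([15, 1, 5, 9], 9, 1),
  ([7, 11, 14, 13], 10, 0),
  ([15, 7, 3, 10], 11, 0),
  ([15, 7, 9, 3], 11, 1),
  ([2, 15, 12, 10], 12, 0),
  ([11, 15, 6, 3], 12, 1),
  ([2, 7, 10, 4], 13, 0),
  ([11, 15, 5, 6], 14, 0),
  ([1, 15, 12, 5], 14, 1),
  ([2, 11, 6, 14], 15, 0),
  ([11, 1, 5, 13], 15, 1),
  ([2, 11, 14, 8], 16, 0),
  ([2, 15, 12, 6], 17, 0),
  ([11, 15, 6, 5], 17, 1),
  ([2, 7, 10, 14], 18, 0),
  ([11, 15, 5, 3], 19, 0),
  ([1, 15, 12, 9], 19, 1),
  ([2, 11, 6, 8], 20, 0),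
  ([11, 1, 5, 8], 20, 1),
  ([2, 11, 14, 6], 21, 0),
  ([15, 2, 12, 6], 23, 0),
  ([1, 11, 8, 13], 24, 0),
  ([2, 1, 8, 4], 24, 1),
  ([15, 2, 10, 12], 25, 0),
  ([15, 11, 3, 6], 25, 1),
  ([2, 15, 6, 12], 27, 1),
  ([15, 7, 10, 3], 28, 0),
  ([1, 15, 5, 9], 29, 0),
  ([15, 2, 12, 10], 31, 0),
  ([1, 11, 8, 5], 32, 0),
  ([2, 1, 8, 12], 32, 1),
  ([15, 2, 10, 6], 33, 0),
  ([15, 11, 3, 5], 33, 1),
  ([2, 15, 6, 10], 35, 1),
  ([15, 7, 10, 9], 36, 0),
  ([1, 15, 5, 12], 37, 0),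
  ([2, 1, 4, 12], 38, 0),
  ([11, 2, 14, 6], 38, 1),
  ([7, 15, 9, 3], 39, 0),
  ([7, 15, 10, 9], 39, 1),
  ([11, 2, 8, 14], 41, 1),
  ([1, 2, 12, 4], 43, 0),
  ([2, 11, 8, 6], 44, 0),
  ([11, 1, 8, 5], 44, 1),
  ([7, 2, 10, 14], 45, 0),
  ([7, 11, 3, 13], 45, 1),
  ([2, 1, 4, 8], 46, 0),
  ([11, 2, 14, 8], 46, 1),
  ([7, 15, 9, 10], 47, 0),
  ([7, 15, 10, 3], 47, 1),
  ([11, 2, 8, 6], 49, 1),
  ([1, 2, 12, 8], 51, 0),
  ([2, 11, 8, 14], 52, 0),
  ([11, 1, 8, 13], 52, 1),
  ([7, 2, 10, 4], 53, 0),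
  ([7, 11, 3, 14], 53, 1),
  ([1, 7, 13, 4], 54, 0),
  ([2, 7, 4, 14], 54, 1),
  ([1, 11, 13, 5], 56, 1),
  ([15, 1, 9, 5], 58, 0),
  ([7, 1, 4, 13], 59, 0),
  ([7, 2, 14, 4], 59, 1),
  ([1, 15, 9, 12], 60, 0),
  ([2, 15, 10, 6], 60, 1),
  ([1, 2, 8, 12], 62, 1),
  ([1, 7, 13, 9], 64, 0),
  ([2, 7, 4, 10], 64, 1),
  ([1, 11, 13, 8], 66, 1),
  ([15, 1, 9, 12], 68, 0),
  ([7, 1, 4, 9], 69, 0),
  ([7, 2, 14, 10], 69, 1),
  ([1, 15, 9, 5], 70, 0),
  ([2, 15, 10, 12], 70, 1),
  ([1, 2, 8, 4], 72, 1),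
  ([7, 1, 9, 4], 74, 1),
  ([7, 15, 3, 10], 76, 0),
  ([2, 7, 14, 10], 77, 0),
  ([11, 7, 13, 3], 77, 1),
  ([1, 7, 4, 9], 78, 1),
  ([7, 11, 13, 14], 80, 1),
  ([7, 1, 9, 13], 83, 1),
  ([7, 15, 3, 9], 85, 0),
  ([2, 7, 14, 4], 86, 0),
  ([11, 7, 13, 14], 86, 1),
  ([1, 7, 4, 13], 87, 1),
  ([7, 11, 13, 3], 89, 1),
  ([11, 7, 14, 13], 92, 0),
  ([11, 2, 6, 8], 93, 0),
  ([1, 11, 5, 8], 93, 1),
  ([2, 1, 12, 8], 94, 1),
  ([11, 15, 3, 5], 97, 0),
  ([11, 7, 14, 3], 98, 0),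
  ([11, 2, 6, 14], 99, 0),
  ([1, 11, 5, 13], 99, 1),
  ([2, 1, 12, 4], 100, 1),
  ([11, 15, 3, 6], 103, 0),
  ([15, 11, 5, 3], 104, 0),
  ([15, 1, 12, 9], 104, 1),
  ([15, 2, 6, 10], 105, 1),
  ([15, 11, 5, 6], 109, 0),
  ([15, 1, 12, 5], 109, 1),
  ([15, 2, 6, 12], 110, 1)]

/-- The form on codes. -/
def fourQ (x : ℕ) : Bool := ellFourQT.testBit x

theorem fourVal : ∀ x < 16, quadFormMinus 1 (ZMod 2) 1 1 (bitVec fourIdx x) = bif fourQ x then 1 else 0 := by
  decide +kernel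

/-- The polar form on codes. -/
def fourB (x y : ℕ) : Bool := fourQ (x ^^^ y) != (fourQ x != fourQ y)

/-- All isometries are listed. -/
def fourAllListed : Bool :=
  (List.range 16).all fun a => bif fourQ a == fourQ 1 then
    (List.range 16).all fun b => bif (fourQ b == fourQ 2) && (fourB a b == fourB 1 2) then
      (List.range 16).all fun c => bif (fourQ c == fourQ 4) && (fourB a c == fourB 1 4) && (fourB b c == fourB 2 4) then
        (List.range 16).all fun d =>
          bif (fourQ d == fourQ 8) && (fourB a d == fourB 1 8) && (fourB b d == fourB 2 8) && (fourB c d == fourB 4 8) then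
            (ellFourTree.map Prod.fst).contains [a, b, c, d]
          else true
      else true
    else true
  else true

theorem fourAllListed_ok : fourAllListed = true := by decide +kernel

/-- The tree identities. -/
theorem fourTree_ok : ∀ i : Fin 120, 2 ≤ i.val →
    (ellFourTree.getD i.val ([], 0, 0)).2.1 < i.val ∧
    colMat (ellFourTree.getD i.val ([], 0, 0)).1 =
      colMat (if (ellFourTree.getD i.val ([], 0, 0)).2.2 = 0 then ellFourW else ellFourS) *
        colMat (ellFourTree.getD (ellFourTree.getD i.val ([], 0, 0)).2.1 ([], 0, 0)).1 := by decide +kernel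

theorem fourTree_base : ellFourTree.length = 120 ∧ colMat (ellFourTree.getD 0 ([], 0, 0)).1 = 1 ∧
    (ellFourTree.getD 1 ([], 0, 0)).1 = ellFourT := by decide +kernel

theorem four_inverses : colMat ellFourWA * colMat ellFourWAI = 1 ∧ colMat ellFourWB * colMat ellFourWBI = 1 ∧
    colMat ellFourSA * colMat ellFourSAI = 1 ∧ colMat ellFourSB * colMat ellFourSBI = 1 ∧
    colMat ellFourWAI * colMat ellFourWA = 1 ∧ colMat ellFourWBI * colMat ellFourWB = 1 ∧
    colMat ellFourSAI * colMat ellFourSA = 1 ∧ colMat ellFourSBI * colMat ellFourSB = 1 ∧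
    colMat ellFourW = colMat ellFourWA * colMat ellFourWB * colMat ellFourWAI * colMat ellFourWBI ∧
    colMat ellFourS = colMat ellFourSA * colMat ellFourSB * colMat ellFourSAI * colMat ellFourSBI := by
  refine ⟨?_, ?_, ?_, ?_, ?_, ?_, ?_, ?_, ?_, ?_⟩ <;> decide +kernel

theorem four_isom : ∀ c ∈ [ellFourWA, ellFourWB, ellFourSA, ellFourSB], ∀ v : FourIdx → ZMod 2,
    quadFormMinus 1 (ZMod 2) 1 1 (colMat c *ᵥ v) = quadFormMinus 1 (ZMod 2) 1 1 v := by decide +kernel

theorem four_relations :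
    colMat ellFourS * colMat ellFourS = 1 ∧
    (colMat ellFourW * colMat ellFourS) * (colMat ellFourW * colMat ellFourS) * (colMat ellFourW * colMat ellFourS) = 1 ∧
    (∀ v : FourIdx → ZMod 2, colMat ellFourW *ᵥ v = v → v = 0) ∧
    ∀ x : FourIdx → ZMod 2, x + colMat ellFourS *ᵥ x = 0 →
      colMat ellFourW *ᵥ x + (colMat ellFourW * colMat ellFourS) *ᵥ (colMat ellFourW *ᵥ x) +
        ((colMat ellFourW * colMat ellFourS) * (colMat ellFourW * colMat ellFourS)) *ᵥ (colMat ellFourW *ᵥ x) = 0 →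
      x = 0 := by
  refine ⟨?_, ?_, ?_, ?_⟩ <;> decide +kernel

theorem four_code_units : ∀ k : FourIdx, bitVec fourIdx (1 <<< fourIdx k) = Pi.single k 1 := by decide +kernel

theorem unit_lt : ∀ j : FourIdx, 1 <<< fourIdx j < 16 := by decide

local notation "G4" => isometryGroup (ZMod 2) (quadFormMinus 1 (ZMod 2) 1 1)

/-- An isometry of the four-dimensional form with the given matrix, as a group element. -/
theorem exists_iso_of_mats {A A' : Matrix FourIdx FourIdx (ZMod 2)} (h : A * A' = 1) (h' : A' * A = 1)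
    (hQ : ∀ v, quadFormMinus 1 (ZMod 2) 1 1 (A *ᵥ v) = quadFormMinus 1 (ZMod 2) 1 1 v) :
    ∃ a : isometryGroup (ZMod 2) (quadFormMinus 1 (ZMod 2) 1 1),
      (a : GL FourIdx (ZMod 2)).val = A ∧ ((a : GL FourIdx (ZMod 2))⁻¹).val = A' :=
  ⟨⟨⟨A, A', h, h'⟩, mem_iso.2 hQ⟩, rfl, rfl⟩

theorem omegaFour_principal (f : ↥(Omega (ZMod 2) (quadFormMinus 1 (ZMod 2) 1 1)) → (FourIdx → ZMod 2))
    (hf : ∀ g h : ↥(Omega (ZMod 2) (quadFormMinus 1 (ZMod 2) 1 1)), f (g * h) = f g +
      (((g : ↥(isometryGroup (ZMod 2) (quadFormMinus 1 (ZMod 2) 1 1))) : GL FourIdx (ZMod 2)) :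
      Matrix FourIdx FourIdx (ZMod 2)) *ᵥ f h) :
    ∃ v, ∀ g : ↥(Omega (ZMod 2) (quadFormMinus 1 (ZMod 2) 1 1)), f g =
      (((g : ↥(isometryGroup (ZMod 2) (quadFormMinus 1 (ZMod 2) 1 1))) : GL FourIdx (ZMod 2)) :
      Matrix FourIdx FourIdx (ZMod 2)) *ᵥ v - v := by
  classical
  obtain ⟨i1, i2, i3, i4, j1, j2, j3, j4, eW, eS⟩ := four_inverses
  obtain ⟨a, ha, ha'⟩ := exists_iso_of_mats i1 j1 (four_isom _ (by simp))
  obtain ⟨b, hb, hb'⟩ := exists_iso_of_mats i2 j2 (four_isom _ (by simp))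
  obtain ⟨c, hc, hc'⟩ := exists_iso_of_mats i3 j3 (four_isom _ (by simp))
  obtain ⟨d, hd, hd'⟩ := exists_iso_of_mats i4 j4 (four_isom _ (by simp))
  let wI : G4 := ⁅a, b⁆
  let sI : G4 := ⁅c, d⁆
  have mv : ∀ x : G4, ((x⁻¹ : G4) : GL FourIdx (ZMod 2)).val = ((x : GL FourIdx (ZMod 2))⁻¹).val := fun x => rfl
  have hwM : (wI : GL FourIdx (ZMod 2)).val = colMat ellFourW := by
    simp only [wI, commutatorElement_def, Subgroup.coe_mul, Units.val_mul, ha, hb, mv, ha', hb', eW]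
  have hsM : (sI : GL FourIdx (ZMod 2)).val = colMat ellFourS := by
    simp only [sI, commutatorElement_def, Subgroup.coe_mul, Units.val_mul, hc, hd, mv, hc', hd', eS]
  have hwO : wI ∈ Omega (ZMod 2) (quadFormMinus 1 (ZMod 2) 1 1) :=
    Subgroup.commutator_mem_commutator (Subgroup.mem_top a) (Subgroup.mem_top b)
  have hsO : sI ∈ Omega (ZMod 2) (quadFormMinus 1 (ZMod 2) 1 1) :=
    Subgroup.commutator_mem_commutator (Subgroup.mem_top c) (Subgroup.mem_top d)
  let K : Subgroup G4 := Subgroup.closure {wI, sI}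
  -- every isometry is in `K` or in a coset of `K`
  obtain ⟨hlen, hone, htee⟩ := fourTree_base
  have htree : ∀ i, i < 120 → ∃ k ∈ K, colMat (ellFourTree.getD i ([], 0, 0)).1 = (k : GL FourIdx (ZMod 2)).val ∨
      colMat (ellFourTree.getD i ([], 0, 0)).1 = (k : GL FourIdx (ZMod 2)).val * colMat ellFourT := by
    intro i
    induction i using Nat.strong_induction_on with
    | _ i ih =>
      intro hi
      rcases lt_or_ge i 2 with h2 | h2
      · refine ⟨1, one_mem _, ?_⟩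
        interval_cases i
        · exact Or.inl hone
        · right; rw [htee]; simp
      obtain ⟨hp, he⟩ := fourTree_ok ⟨i, hi⟩ h2
      simp only at hp he
      obtain ⟨k, hk, hk'⟩ := ih _ hp (hp.trans hi)
      by_cases ho : (ellFourTree.getD i ([], 0, 0)).2.2 = 0
      · rw [if_pos ho, ← hwM] at he
        refine ⟨wI * k, mul_mem (Subgroup.subset_closure (by simp)) hk, ?_⟩
        rcases hk' with e | e <;> rw [e] at he
        · exact Or.inl he
        · right; rw [he, ← mul_assoc]; rfl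
      · rw [if_neg ho, ← hsM] at he
        refine ⟨sI * k, mul_mem (Subgroup.subset_closure (by simp)) hk, ?_⟩
        rcases hk' with e | e <;> rw [e] at he
        · exact Or.inl he
        · right; rw [he, ← mul_assoc]; rfl
  have hcover : ∀ g : G4, ∃ k ∈ K, (g : GL FourIdx (ZMod 2)).val = (k : GL FourIdx (ZMod 2)).val ∨
      (g : GL FourIdx (ZMod 2)).val = (k : GL FourIdx (ZMod 2)).val * colMat ellFourT := by
    intro g
    have hQ := mem_iso.1 g.2
    let col : FourIdx → ℕ := fun j => fourCode ((g : GL FourIdx (ZMod 2)).val *ᵥ Pi.single j 1)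
    have hcol : ∀ j, bitVec fourIdx (col j) = (g : GL FourIdx (ZMod 2)).val *ᵥ Pi.single j 1 := fun j => (fourSurj _).2
    have hlt : ∀ j, col j < 16 := fun j => (fourSurj _).1
    have hq : ∀ j, fourQ (col j) = fourQ (1 <<< fourIdx j) := fun j => by
      have h1 := fourVal _ (hlt j)
      have h2 := fourVal (1 <<< fourIdx j) (unit_lt j)
      rw [hcol, hQ] at h1
      rw [four_code_units] at h2
      have h3 := h1.symm.trans h2
      cases hx : fourQ (col j) <;> cases hy : fourQ (1 <<< fourIdx j) <;> rw [hx, hy] at h3 <;>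
        first | rfl | exact absurd h3 (by decide)
    have hb : ∀ i j, fourB (col i) (col j) = fourB (1 <<< fourIdx i) (1 <<< fourIdx j) := fun i j => by
      have hq' : fourQ (col i ^^^ col j) = fourQ ((1 <<< fourIdx i) ^^^ (1 <<< fourIdx j)) := by
        have h1 := fourVal (col i ^^^ col j) (Nat.xor_lt_two_pow (n := 4) (hlt i) (hlt j))
        have h2 := fourVal ((1 <<< fourIdx i) ^^^ (1 <<< fourIdx j))
          (Nat.xor_lt_two_pow (n := 4) (unit_lt i) (unit_lt j))
        rw [bitVec_xor, hcol, hcol, ← Matrix.mulVec_add, hQ] at h1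
        rw [bitVec_xor, four_code_units, four_code_units] at h2
        have h3 := h1.symm.trans h2
        cases hx : fourQ (col i ^^^ col j) <;> cases hy : fourQ ((1 <<< fourIdx i) ^^^ (1 <<< fourIdx j)) <;>
          rw [hx, hy] at h3 <;> first | rfl | exact absurd h3 (by decide)
      simp only [fourB, hq, hq']
    let cs : List ℕ := [col (.inl (.inl 0)), col (.inl (.inr 0)), col (.inr 0), col (.inr 1)]
    have hmat : (g : GL FourIdx (ZMod 2)).val = colMat cs := by
      have hget : ∀ j : FourIdx, cs.getD (fourIdx j) 0 = col j := by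
        rintro ((i | i) | j)
        · obtain rfl := Subsingleton.elim i 0; rfl
        · obtain rfl := Subsingleton.elim i 0; rfl
        · fin_cases j <;> rfl
      ext i j
      simp only [colMat, Matrix.of_apply, hget, hcol]
      simp
    have hl := List.all_eq_true.1 fourAllListed_ok _ (List.mem_range.2 (hlt (.inl (.inl 0))))
    rw [show fourQ 1 = fourQ (1 <<< fourIdx (.inl (.inl 0))) from rfl, hq, beq_self_eq_true, cond_true] at hl
    have hl := List.all_eq_true.1 hl _ (List.mem_range.2 (hlt (.inl (.inr 0))))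
    rw [show fourQ 2 = fourQ (1 <<< fourIdx (.inl (.inr 0))) from rfl, hq, beq_self_eq_true,
      show fourB 1 2 = fourB (1 <<< fourIdx (.inl (.inl 0))) (1 <<< fourIdx (.inl (.inr 0))) from rfl, hb,
      beq_self_eq_true, Bool.and_true, cond_true] at hl
    have hl := List.all_eq_true.1 hl _ (List.mem_range.2 (hlt (.inr 0)))
    rw [show fourQ 4 = fourQ (1 <<< fourIdx (.inr 0)) from rfl, hq, beq_self_eq_true,
      show fourB 1 4 = fourB (1 <<< fourIdx (.inl (.inl 0))) (1 <<< fourIdx (.inr 0)) from rfl, hb, beq_self_eq_true,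
      show fourB 2 4 = fourB (1 <<< fourIdx (.inl (.inr 0))) (1 <<< fourIdx (.inr 0)) from rfl, hb, beq_self_eq_true,
      Bool.and_true, Bool.and_true, cond_true] at hl
    have hl := List.all_eq_true.1 hl _ (List.mem_range.2 (hlt (.inr 1)))
    rw [show fourQ 8 = fourQ (1 <<< fourIdx (.inr 1)) from rfl, hq, beq_self_eq_true,
      show fourB 1 8 = fourB (1 <<< fourIdx (.inl (.inl 0))) (1 <<< fourIdx (.inr 1)) from rfl, hb, beq_self_eq_true,
      show fourB 2 8 = fourB (1 <<< fourIdx (.inl (.inr 0))) (1 <<< fourIdx (.inr 1)) from rfl, hb, beq_self_eq_true,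
      show fourB 4 8 = fourB (1 <<< fourIdx (.inr 0)) (1 <<< fourIdx (.inr 1)) from rfl, hb, beq_self_eq_true,
      Bool.and_true, Bool.and_true, Bool.and_true, cond_true, List.contains_iff_mem, List.mem_map] at hl
    obtain ⟨e, he, ee⟩ := hl
    obtain ⟨n, hn, rfl⟩ := List.getElem_of_mem he
    obtain ⟨k, hk, hk'⟩ := htree n (hlen ▸ hn)
    refine ⟨k, hk, ?_⟩
    rw [hmat, show cs = (ellFourTree.getD n ([], 0, 0)).1 by rw [List.getD_eq_getElem _ _ hn]; exact ee.symm]
    exact hk'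
  -- the commutator subgroup lies in `K`
  have hle : commutator G4 ≤ K := by
    have hind : K.index ≤ 2 := by
      have hsurj : ∀ x y : G4, x ∉ K → y ∉ K → x * y⁻¹ ∈ K := fun x y hx hy => by
        obtain ⟨k, hk, e | e⟩ := hcover x
        · exact absurd ((Subtype.ext (Units.ext e) : x = k) ▸ hk) hx
        obtain ⟨k', hk', e' | e'⟩ := hcover y
        · exact absurd ((Subtype.ext (Units.ext e') : y = k') ▸ hk') hy
        have : x = k * k'⁻¹ * y := Subtype.ext (Units.ext (by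
          simp only [Subgroup.coe_mul, Units.val_mul, mv, e, e']
          rw [mul_assoc (k : GL FourIdx (ZMod 2)).val, ← mul_assoc _ (k' : GL FourIdx (ZMod 2)).val,
            Units.inv_mul, one_mul]))
        rw [this, mul_inv_cancel_right]
        exact mul_mem hk (inv_mem hk')
      by_cases htop : K = ⊤
      · rw [htop, Subgroup.index_top]; norm_num
      obtain ⟨y, hy⟩ := SetLike.exists_not_mem_of_ne_top K htop rfl
      rw [Subgroup.index_eq_card]
      refine (Nat.card_le_card_of_surjective (fun bb : Bool => ((cond bb 1 y⁻¹ : G4) : G4 ⧸ K)) ?_).trans (by simp)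
      intro q
      obtain ⟨x, rfl⟩ := QuotientGroup.mk_surjective q
      by_cases hx : x ∈ K
      · exact ⟨true, QuotientGroup.eq.2 (by simpa using hx)⟩
      · refine ⟨false, QuotientGroup.eq.2 ?_⟩
        simp only [cond_false, inv_inv]
        have h1 := hsurj y x⁻¹ hy (fun h => hx (by simpa using inv_mem h))
        simpa using h1
    have hne : K.index ≠ 0 := Subgroup.index_ne_zero_of_finite
    rcases (show K.index = 1 ∨ K.index = 2 by omega) with h | h
    · rw [Subgroup.index_eq_one.1 h]; exact le_top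
    · haveI := Subgroup.normal_of_index_eq_two h
      rw [commutator_def, Subgroup.commutator_le]
      intro x _ y _
      haveI : Fact (Nat.Prime 2) := ⟨Nat.prime_two⟩
      have hcard : Nat.card (G4 ⧸ K) = 2 := by rw [← Subgroup.index_eq_card, h]
      have hsq : ∀ z : G4 ⧸ K, z * z = 1 := fun z => by
        have h2 := pow_card_eq_one' (G := G4 ⧸ K) (x := z)
        rwa [hcard, pow_two] at h2
      have hcomm : ∀ p q : G4 ⧸ K, p * q = q * p := fun p q => by
        have hinv : ∀ z : G4 ⧸ K, z⁻¹ = z := fun z => inv_eq_of_mul_eq_one_right (hsq z)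
        calc p * q = (p * q)⁻¹ := (hinv _).symm
          _ = q * p := by rw [_root_.mul_inv_rev, hinv, hinv]
      rw [← QuotientGroup.eq_one_iff, commutatorElement_def, QuotientGroup.mk_mul, QuotientGroup.mk_mul,
        QuotientGroup.mk_mul, QuotientGroup.mk_inv, QuotientGroup.mk_inv]
      rw [hcomm (x : G4 ⧸ K) (y : G4 ⧸ K), mul_inv_cancel_right, mul_inv_cancel]
  obtain ⟨hs2, hws, hfix, hkill⟩ := four_relations
  obtain ⟨v₀, hv₀⟩ : ∃ v, colMat ellFourW *ᵥ v - v = f ⟨wI, hwO⟩ := by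
    have hi : Function.Injective fun v : FourIdx → ZMod 2 => colMat ellFourW *ᵥ v - v := fun p q h => by
      refine sub_eq_zero.1 (hfix _ ?_)
      rw [Matrix.mulVec_sub, sub_eq_sub_iff_sub_eq_sub.1 h]
    exact Finite.surjective_of_injective hi _
  refine ⟨v₀, ?_⟩
  let O := ↥(Omega (ZMod 2) (quadFormMinus 1 (ZMod 2) 1 1))
  let cg : O → Matrix FourIdx FourIdx (ZMod 2) := fun x => ((x : G4) : GL FourIdx (ZMod 2)).val
  let F : O → (FourIdx → ZMod 2) := fun x => f x - (cg x *ᵥ v₀ - v₀)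
  suffices hmain : ∀ x, F x = 0 from fun g => sub_eq_zero.1 (hmain g)
  have hFm : ∀ x y : O, F (x * y) = F x + cg x *ᵥ F y := fun x y => by
    simp only [F, Matrix.mulVec_sub]
    rw [show cg (x * y) = cg x * cg y from rfl, hf, ← Matrix.mulVec_mulVec]
    abel
  have hF1 : F 1 = 0 := by
    have h := hFm 1 1
    rw [mul_one, show cg 1 = 1 from rfl, Matrix.one_mulVec] at h
    exact left_eq_add.1 h
  let w : O := ⟨wI, hwO⟩
  let s : O := ⟨sI, hsO⟩
  have hw0 : F w = 0 := by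
    show f w - (cg w *ᵥ v₀ - v₀) = 0
    rw [show cg w = colMat ellFourW from hwM, hv₀, sub_self]
  have hs0 : F s = 0 := by
    have e1 : s * s = 1 := Subtype.ext (Subtype.ext (Units.ext (by
      show (sI : GL FourIdx (ZMod 2)).val * (sI : GL FourIdx (ZMod 2)).val = 1
      rw [hsM, hs2])))
    have e2 : (s * w) * (s * w) * (s * w) = 1 ∧ (w * s) * (w * s) * (w * s) = 1 := by
      have h : (w * s) * (w * s) * (w * s) = 1 := Subtype.ext (Subtype.ext (Units.ext (by
        show (wI : GL FourIdx (ZMod 2)).val * (sI : GL FourIdx (ZMod 2)).val *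
          ((wI : GL FourIdx (ZMod 2)).val * (sI : GL FourIdx (ZMod 2)).val) *
          ((wI : GL FourIdx (ZMod 2)).val * (sI : GL FourIdx (ZMod 2)).val) = 1
        rw [hwM, hsM, hws])))
      refine ⟨?_, h⟩
      have h' := congrArg (fun z => w⁻¹ * z * w) h
      simpa [mul_assoc] using h'
    have h1 := hFm s s
    rw [e1, hF1, show cg s = colMat ellFourS from hsM] at h1
    have hws0 : F (w * s) = colMat ellFourW *ᵥ F s := by
      rw [hFm, hw0, zero_add, show cg w = colMat ellFourW from hwM]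
    have h3 := hFm ((w * s) * (w * s)) (w * s)
    rw [e2.2, hF1, hFm (w * s) (w * s), hws0,
      show cg (w * s * (w * s)) = (colMat ellFourW * colMat ellFourS) * (colMat ellFourW * colMat ellFourS) by
        show (wI : GL FourIdx (ZMod 2)).val * (sI : GL FourIdx (ZMod 2)).val * (_ * _) = _
        rw [hwM, hsM],
      show cg (w * s) = colMat ellFourW * colMat ellFourS by
        show (wI : GL FourIdx (ZMod 2)).val * (sI : GL FourIdx (ZMod 2)).val = _
        rw [hwM, hsM]] at h3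
    exact hkill _ h1.symm h3.symm
  have hKill : ∀ x ∈ K, ∃ y : O, (y : G4) = x ∧ F y = 0 := by
    intro x hx
    induction hx using Subgroup.closure_induction with
    | mem z hz =>
      rcases hz with rfl | rfl
      · exact ⟨w, rfl, hw0⟩
      · exact ⟨s, rfl, hs0⟩
    | one => exact ⟨1, rfl, hF1⟩
    | mul p q _ _ ihp ihq =>
      obtain ⟨p', rfl, fp⟩ := ihp
      obtain ⟨q', rfl, fq⟩ := ihq
      exact ⟨p' * q', rfl, by rw [hFm, fp, fq, Matrix.mulVec_zero, add_zero]⟩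
    | inv p _ ihp =>
      obtain ⟨p', rfl, fp⟩ := ihp
      have h := hFm p'⁻¹ p'
      rw [inv_mul_cancel, hF1, fp, Matrix.mulVec_zero, add_zero] at h
      exact ⟨p'⁻¹, rfl, h.symm⟩
  intro x
  obtain ⟨y, hy, fy⟩ := hKill _ (hle x.2)
  rwa [← show y = x from Subtype.ext hy]

end Cfsg.Lib.OrthCocycle
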