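import Cfsg.Agent.Lib.Linear.OrthTrans
import Mathlib.Algebra.CharP.Two

/-!
# Crossed homomorphisms on the natural module of a small orthogonal group over the field of two elements

A computable criterion: if some fixed-point-free elements commute with a fixed one and the Siegel elements
commuting with them reach, by conjugation, all singular orthogonal pairs, then every crossed homomorphism of `Ω`
into the natural module is principal.  Vectors are coded by natural numbers through their bits.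
-/

set_option autoImplicit false

namespace Cfsg.Lib.OrthCocycle

open Cfsg Matrix Cfsg.Lib.Linear.Orth

variable {ι : Type} [Fintype ι] [DecidableEq ι]

/-- The vector with the given bits. -/
def bitVec (idx : ι → ℕ) (x : ℕ) : ι → ZMod 2 := fun i => if x.testBit (idx i) then 1 else 0

omit [Fintype ι] [DecidableEq ι] in
theorem bitVec_xor (idx : ι → ℕ) (x y : ℕ) : bitVec idx (x ^^^ y) = bitVec idx x + bitVec idx y := by
  funext i
  simp only [bitVec, Pi.add_apply, Nat.testBit_xor]
  cases x.testBit (idx i) <;> cases y.testBit (idx i) <;> decide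

omit [Fintype ι] [DecidableEq ι] in
theorem bitVec_zero (idx : ι → ℕ) : bitVec idx 0 = 0 := by
  funext i; simp [bitVec]

omit [Fintype ι] [DecidableEq ι] in
theorem vec_sub (a b : ι → ZMod 2) : a - b = a + b := funext fun i => CharTwo.sub_eq_add (a i) (b i)

/-- The polar form on codes. -/
def nB (qT x y : ℕ) : Bool := (qT.testBit (x ^^^ y)) != (qT.testBit x != qT.testBit y)

/-- The Siegel element of a singular orthogonal pair on codes. -/
def nAct (qT : ℕ) (p : ℕ × ℕ) (x : ℕ) : ℕ :=
  (x ^^^ bif nB qT p.1 x then p.2 else 0) ^^^ bif nB qT p.2 x then p.1 else 0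

/-- The action of a word of pairs on codes. -/
def nWord (qT : ℕ) (w : List (ℕ × ℕ)) (x : ℕ) : ℕ := w.foldr (nAct qT) x

/-- A coded singular orthogonal pair. -/
def okPair (n qT : ℕ) (p : ℕ × ℕ) : Bool :=
  decide (p.1 < 2 ^ n) && decide (p.2 < 2 ^ n) && !qT.testBit p.1 && !qT.testBit p.2 && !nB qT p.1 p.2

/-- Two words commute on all codes. -/
def commOk (n qT : ℕ) (a b : List (ℕ × ℕ)) : Bool :=
  (List.range (2 ^ n)).all fun x => nWord qT a (nWord qT b x) == nWord qT b (nWord qT a x)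

/-- The covering table: entries `(v, depth, pu, pv, g)` in the list of `u`. -/
def tableOk (n qT : ℕ) (gens : List (ℕ × ℕ)) (tab : List (List (ℕ × ℕ × ℕ × ℕ × ℕ))) : Bool :=
  (List.range (2 ^ n)).all fun u => (tab.getD u []).all fun e =>
    match e with
    | (v, d, pu, pv, g) => decide (g < gens.length) &&
      bif d == 0 then gens.getD g (0, 0) == (u, v) else
        decide (pu < 2 ^ n) && (nAct qT (gens.getD g (0, 0)) pu == u) && (nAct qT (gens.getD g (0, 0)) pv == v) &&
          (tab.getD pu []).any fun e' => (e'.1 == pv) && decide (e'.2.1 < d)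

/-- Every proper pair is in the table. -/
def coverOk (n qT : ℕ) (tab : List (List (ℕ × ℕ × ℕ × ℕ × ℕ))) : Bool :=
  (List.range (2 ^ n)).all fun u => bif (u == 0 || qT.testBit u) then true else
    (List.range (2 ^ n)).all fun v =>
      bif (v == 0 || u == v || qT.testBit v || nB qT u v) then true else (tab.getD u []).any fun e => e.1 == v

variable {Q : (ι → ZMod 2) → ZMod 2} {B : LinearMap.BilinForm (ZMod 2) (ι → ZMod 2)}

/-- A coding of the form. -/
structure Coded (Q : (ι → ZMod 2) → ZMod 2) (B : LinearMap.BilinForm (ZMod 2) (ι → ZMod 2)) (idx : ι → ℕ)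
    (n qT : ℕ) : Prop where
  space : Space Q B
  val : ∀ x < 2 ^ n, Q (bitVec idx x) = bif qT.testBit x then 1 else 0
  surj : ∀ v, ∃ x, x < 2 ^ n ∧ bitVec idx x = v

variable {idx : ι → ℕ} {n qT : ℕ}

theorem Coded.polar (K : Coded Q B idx n qT) {x y : ℕ} (hx : x < 2 ^ n) (hy : y < 2 ^ n) :
    B (bitVec idx x) (bitVec idx y) = bif nB qT x y then 1 else 0 := by
  rw [← K.space.polar, QuadraticMap.polar, ← bitVec_xor, K.val _ (Nat.xor_lt_two_pow hx hy), K.val _ hx, K.val _ hy,
    nB]
  cases qT.testBit (x ^^^ y) <;> cases qT.testBit x <;> cases qT.testBit y <;> decide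

theorem Coded.pair (K : Coded Q B idx n qT) {p : ℕ × ℕ} (h : okPair n qT p = true) :
    (p.1 < 2 ^ n ∧ p.2 < 2 ^ n) ∧ Q (bitVec idx p.1) = 0 ∧ Q (bitVec idx p.2) = 0 ∧
      B (bitVec idx p.1) (bitVec idx p.2) = 0 := by
  simp only [okPair, Bool.and_eq_true, decide_eq_true_eq, Bool.not_eq_true'] at h
  obtain ⟨⟨⟨⟨h1, h2⟩, h3⟩, h4⟩, h5⟩ := h
  refine ⟨⟨h1, h2⟩, ?_, ?_, ?_⟩
  · rw [K.val _ h1, h3]; rfl
  · rw [K.val _ h2, h4]; rfl
  · rw [K.polar h1 h2, h5]; rfl

/-- The element of a coded pair. -/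
noncomputable def sElt (Q : (ι → ZMod 2) → ZMod 2) (B : LinearMap.BilinForm (ZMod 2) (ι → ZMod 2)) (idx : ι → ℕ)
    (p : ℕ × ℕ) : GL ι (ZMod 2) := sGL Q B (bitVec idx p.1) (bitVec idx p.2)

/-- The element of a word. -/
noncomputable def wElt (Q : (ι → ZMod 2) → ZMod 2) (B : LinearMap.BilinForm (ZMod 2) (ι → ZMod 2)) (idx : ι → ℕ)
    (w : List (ℕ × ℕ)) : GL ι (ZMod 2) := (w.map (sElt Q B idx)).prod

theorem nAct_lt {p : ℕ × ℕ} (hp : p.1 < 2 ^ n ∧ p.2 < 2 ^ n) {x : ℕ} (hx : x < 2 ^ n) : nAct qT p x < 2 ^ n := by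
  unfold nAct
  refine Nat.xor_lt_two_pow (Nat.xor_lt_two_pow hx ?_) ?_
  · cases nB qT p.1 x
    · exact Nat.two_pow_pos n
    · exact hp.2
  · cases nB qT p.2 x
    · exact Nat.two_pow_pos n
    · exact hp.1

theorem Coded.act (K : Coded Q B idx n qT) {p : ℕ × ℕ} (h : okPair n qT p = true) {x : ℕ} (hx : x < 2 ^ n) :
    (sElt Q B idx p).val *ᵥ bitVec idx x = bitVec idx (nAct qT p x) := by
  obtain ⟨⟨h1, h2⟩, q1, q2, b⟩ := K.pair h
  rw [sElt, sGL_act K.space q1 b, q2, zero_mul, add_zero, nAct, bitVec_xor, bitVec_xor, vec_sub,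
    K.polar h1 hx, K.polar h2 hx]
  cases nB qT p.1 x <;> cases nB qT p.2 x <;> simp [bitVec_zero]

theorem Coded.word (K : Coded Q B idx n qT) : ∀ {w : List (ℕ × ℕ)}, w.all (okPair n qT) = true →
    ∀ {x : ℕ}, x < 2 ^ n → nWord qT w x < 2 ^ n ∧ (wElt Q B idx w).val *ᵥ bitVec idx x = bitVec idx (nWord qT w x)
  | [], _, x, hx => ⟨hx, by simp [wElt, nWord]⟩
  | p :: w, h, x, hx => by
    rw [List.all_cons, Bool.and_eq_true] at h
    obtain ⟨h3, h4⟩ := K.word h.2 hx
    refine ⟨nAct_lt (K.pair h.1).1 h3, ?_⟩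
    rw [show wElt Q B idx (p :: w) = sElt Q B idx p * wElt Q B idx w from List.prod_cons, mul_act, h4,
      K.act h.1 h3]
    rfl

theorem Coded.sElt_mem (K : Coded Q B idx n qT) {p : ℕ × ℕ} (h : okPair n qT p = true) :
    sElt Q B idx p ∈ Root Q B ⊤ := by
  obtain ⟨-, q1, -, b⟩ := K.pair h
  exact sGL_mem_root trivial trivial q1 b

theorem Coded.wElt_mem (K : Coded Q B idx n qT) {w : List (ℕ × ℕ)} (h : w.all (okPair n qT) = true) :
    wElt Q B idx w ∈ Root Q B ⊤ :=
  list_prod_mem fun g hg => by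
    obtain ⟨p, hp, rfl⟩ := List.mem_map.1 hg
    exact K.sElt_mem (List.all_eq_true.1 h p hp)

theorem Coded.comm (K : Coded Q B idx n qT) {a b : List (ℕ × ℕ)} (ha : a.all (okPair n qT) = true)
    (hb : b.all (okPair n qT) = true) (h : commOk n qT a b = true) :
    wElt Q B idx a * wElt Q B idx b = wElt Q B idx b * wElt Q B idx a := by
  refine gl_ext fun v => ?_
  obtain ⟨x, hx, rfl⟩ := K.surj v
  rw [mul_act, mul_act, (K.word hb hx).2, (K.word ha hx).2, (K.word ha (K.word hb hx).1).2,
    (K.word hb (K.word ha hx).1).2, beq_iff_eq.1 (List.all_eq_true.1 h x (List.mem_range.2 hx))]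

theorem Coded.sElt_trivial (K : Coded Q B idx n qT) {p : ℕ × ℕ} (h : okPair n qT p = true)
    (hd : p.1 = 0 ∨ p.2 = 0 ∨ p.1 = p.2) : sElt Q B idx p = 1 := by
  refine gl_ext fun v => ?_
  obtain ⟨⟨-, -⟩, q1, q2, b⟩ := K.pair h
  rw [sElt, sGL_act K.space q1 b, q2, zero_mul, add_zero, Units.val_one, Matrix.one_mulVec, vec_sub]
  rcases hd with hd | hd | hd <;> rw [hd]
  · simp [bitVec_zero]
  · simp [bitVec_zero]
  · rw [add_assoc, ← add_smul, CharTwo.add_self_eq_zero, zero_smul, add_zero]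

/-- The criterion. -/
theorem cocycle_principal (K : Coded Q B idx n qT) (h5 : 5 ≤ Fintype.card ι) (z : List (ℕ × ℕ))
    (zs : List (List (ℕ × ℕ))) (gens : List (ℕ × ℕ)) (tab : List (List (ℕ × ℕ × ℕ × ℕ × ℕ)))
    (hwords : (z :: zs).all (fun w => w.all (okPair n qT)) = true)
    (hfix : ∀ w ∈ z :: zs, ∀ x < 2 ^ n, bitVec idx (nWord qT w x) = bitVec idx x → bitVec idx x = 0)
    (hzs : zs.all (fun w => commOk n qT z w) = true)
    (hgens : gens.all (fun p => okPair n qT p && (z :: zs).any fun w => commOk n qT w [p]) = true)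
    (htab : tableOk n qT gens tab = true) (hcov : coverOk n qT tab = true)
    (f : ↥(Omega (ZMod 2) Q) → (ι → ZMod 2))
    (hf : ∀ g h : ↥(Omega (ZMod 2) Q), f (g * h) = f g + (((g : ↥(isometryGroup (ZMod 2) Q)) : GL ι (ZMod 2)) :
      Matrix ι ι (ZMod 2)) *ᵥ f h) :
    ∃ v, ∀ g : ↥(Omega (ZMod 2) Q), f g = (((g : ↥(isometryGroup (ZMod 2) Q)) : GL ι (ZMod 2)) :
      Matrix ι ι (ZMod 2)) *ᵥ v - v := by
  classical
  set cg : ↥(Omega (ZMod 2) Q) → GL ι (ZMod 2) := fun a => ((a : ↥(isometryGroup (ZMod 2) Q)) : GL ι (ZMod 2))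
    with hcg
  have hroot : ∀ a, cg a ∈ Root Q B ⊤ := fun a => by
    rw [← omegaGL_eq K.space h5, Cfsg.Geo.omegaGL]
    exact ⟨(a : ↥(isometryGroup (ZMod 2) Q)), a.2, rfl⟩
  have hlift : ∀ g ∈ Root Q B ⊤, ∃ a, cg a = g := fun g hg => by
    rw [← omegaGL_eq K.space h5, Cfsg.Geo.omegaGL] at hg
    obtain ⟨b, hb, rfl⟩ := hg
    exact ⟨⟨b, hb⟩, rfl⟩
  have hinj : Function.Injective cg := fun a b h => Subtype.ext (Subtype.ext h)
  simp only [List.all_eq_true] at hwords
  have hz := hwords z (List.mem_cons_self ..)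
  have hzinj : ∀ w ∈ z :: zs, ∀ v, (wElt Q B idx w).val *ᵥ v = v → v = 0 := fun w hw v hv => by
    obtain ⟨x, hx, rfl⟩ := K.surj v
    rw [(K.word (List.all_eq_true.2 (hwords w hw)) hx).2] at hv
    exact hfix w hw x hx hv
  obtain ⟨a₀, ha₀⟩ := hlift _ (K.wElt_mem (List.all_eq_true.2 hz))
  obtain ⟨v₀, hv₀⟩ : ∃ v, (wElt Q B idx z).val *ᵥ v - v = f a₀ := by
    have hi : Function.Injective fun v : ι → ZMod 2 => (wElt Q B idx z).val *ᵥ v - v := fun a b h => by
      refine sub_eq_zero.1 (hzinj z (List.mem_cons_self ..) _ ?_)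
      rw [Matrix.mulVec_sub, sub_eq_sub_iff_sub_eq_sub.1 h]
    exact Finite.surjective_of_injective hi (f a₀)
  refine ⟨v₀, ?_⟩
  set F : ↥(Omega (ZMod 2) Q) → (ι → ZMod 2) := fun a => f a - ((cg a).val *ᵥ v₀ - v₀) with hF
  suffices hmain : ∀ a, F a = 0 from fun g => sub_eq_zero.1 (hmain g)
  have hFm : ∀ a b, F (a * b) = F a + (cg a).val *ᵥ F b := fun a b => by
    simp only [hF, Matrix.mulVec_sub]
    rw [show cg (a * b) = cg a * cg b from rfl, hf, mul_act]
    abel
  have hF1 : F 1 = 0 := by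
    have h := hFm 1 1
    rw [mul_one, show cg 1 = 1 from rfl, Units.val_one, Matrix.one_mulVec] at h
    exact left_eq_add.1 h
  let H : Subgroup (GL ι (ZMod 2)) :=
    { carrier := {g | ∃ a, cg a = g ∧ F a = 0}
      mul_mem' := fun ⟨a, ha, fa⟩ ⟨b, hb, fb⟩ =>
        ⟨a * b, by rw [← ha, ← hb]; rfl, by rw [hFm, fa, fb, Matrix.mulVec_zero, add_zero]⟩
      one_mem' := ⟨1, rfl, hF1⟩
      inv_mem' := fun ⟨a, ha, fa⟩ => ⟨a⁻¹, by rw [← ha]; rfl, by
        have h := hFm a⁻¹ a
        rwa [inv_mul_cancel, hF1, fa, Matrix.mulVec_zero, add_zero, eq_comm] at h⟩ }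
  have kill : ∀ w ∈ z :: zs, wElt Q B idx w ∈ H → ∀ g ∈ Root Q B ⊤,
      wElt Q B idx w * g = g * wElt Q B idx w → g ∈ H := by
    rintro w hw ⟨a, ha, fa⟩ g hg hcomm
    obtain ⟨b, hb⟩ := hlift g hg
    refine ⟨b, hb, hzinj w hw _ ?_⟩
    have e : a * b = b * a := hinj (by
      show cg a * cg b = cg b * cg a
      rw [ha, hb, hcomm])
    have h1 := hFm a b
    rw [e, hFm b a, fa, Matrix.mulVec_zero, add_zero, zero_add, ha] at h1
    exact h1.symm
  have hzH : wElt Q B idx z ∈ H := ⟨a₀, ha₀, by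
    show f a₀ - ((cg a₀).val *ᵥ v₀ - v₀) = 0
    rw [ha₀, hv₀, sub_self]⟩
  have hallz : ∀ w ∈ z :: zs, wElt Q B idx w ∈ H := by
    intro w hw
    rcases List.mem_cons.1 hw with rfl | hw'
    · exact hzH
    · exact kill z (List.mem_cons_self ..) hzH _ (K.wElt_mem (List.all_eq_true.2 (hwords w hw)))
        (K.comm (List.all_eq_true.2 hz) (List.all_eq_true.2 (hwords w hw)) (List.all_eq_true.1 hzs w hw'))
  simp only [List.all_eq_true, Bool.and_eq_true, List.any_eq_true] at hgens
  have hgH : ∀ p ∈ gens, sElt Q B idx p ∈ H := by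
    intro p hp
    obtain ⟨hok, w, hw, hc⟩ := hgens p hp
    have h1 : [p].all (okPair n qT) = true := by simp [hok]
    have := kill w hw (hallz w hw) _ (K.wElt_mem h1) (K.comm (List.all_eq_true.2 (hwords w hw)) h1 hc)
    simpa [wElt] using this
  simp only [tableOk, List.all_eq_true, List.mem_range] at htab
  have hreach : ∀ d u v, u < 2 ^ n → ∀ e ∈ tab.getD u [], e.2.1 = d → e.1 = v → okPair n qT (u, v) = true →
      sElt Q B idx (u, v) ∈ H := by
    intro d
    induction d using Nat.strong_induction_on with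
    | _ d ih =>
      intro u v hu e he hd hv hok
      obtain ⟨v', d', pu, pv, g⟩ := e
      simp only at hd hv
      subst hd hv
      have h := htab u hu _ he
      simp only [Bool.and_eq_true, decide_eq_true_eq] at h
      obtain ⟨hg, h⟩ := h
      have hgm : gens.getD g (0, 0) ∈ gens := by
        rw [List.getD_eq_getElem _ _ hg]; exact List.getElem_mem hg
      by_cases h0 : d' = 0
      · subst h0
        simp only [beq_self_eq_true, cond_true, beq_iff_eq] at h
        exact h ▸ hgH _ hgm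
      simp only [beq_eq_false_iff_ne.2 h0, cond_false, Bool.and_eq_true, decide_eq_true_eq, beq_iff_eq,
        List.any_eq_true] at h
      obtain ⟨⟨⟨hpu, e1⟩, e2⟩, e', he', epv, hlt⟩ := h
      obtain ⟨hgok, -⟩ := hgens _ hgm
      obtain ⟨⟨-, hvlt⟩, q1, q2, b⟩ := K.pair hok
      have hsm := K.sElt_mem hgok
      have hiso := root_le_iso K.space _ hsm
      -- the parent is again a singular orthogonal pair
      have hpv : pv < 2 ^ n := by
        by_contra hge
        obtain ⟨i, hi, hbit⟩ := Nat.exists_ge_and_testBit_of_ge_two_pow (not_lt.1 hge)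
        obtain ⟨⟨g1, g2⟩, -⟩ := K.pair hgok
        have hb1 : (nAct qT (gens.getD g (0, 0)) pv).testBit i = false := by
          rw [e2]; exact Nat.testBit_lt_two_pow (hvlt.trans_le (Nat.pow_le_pow_right (by norm_num) hi))
        have hg1 := Nat.testBit_lt_two_pow (g1.trans_le (Nat.pow_le_pow_right (by norm_num) hi))
        have hg2 := Nat.testBit_lt_two_pow (g2.trans_le (Nat.pow_le_pow_right (by norm_num) hi))
        generalize gens.getD g (0, 0) = pg at hb1 hg1 hg2
        simp only [nAct, Nat.testBit_xor, hbit] at hb1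
        cases h1 : nB qT pg.1 pv <;> cases h2 : nB qT pg.2 pv <;> simp [h1, h2, hg1, hg2] at hb1
      have a1 := K.act hgok hpu
      have a2 := K.act hgok hpv
      rw [e1] at a1
      rw [e2] at a2
      have hQ := mem_iso.1 hiso
      have pu0 : Q (bitVec idx pu) = 0 := by rw [← hQ, a1]; exact q1
      have pv0 : Q (bitVec idx pv) = 0 := by rw [← hQ, a2]; exact q2
      have pb : B (bitVec idx pu) (bitVec idx pv) = 0 := by
        rw [← K.space.B_act hiso, a1, a2]; exact b
      have hokp : okPair n qT (pu, pv) = true := by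
        rw [K.val _ hpu] at pu0
        rw [K.val _ hpv] at pv0
        rw [K.polar hpu hpv] at pb
        simp only [okPair, hpu, hpv, decide_true, Bool.true_and]
        cases hA : qT.testBit pu
        · cases hB : qT.testBit pv
          · cases hC : nB qT pu pv
            · rfl
            · rw [hC] at pb; exact absurd pb (by decide)
          · rw [hB] at pv0; exact absurd pv0 (by decide)
        · rw [hA] at pu0; exact absurd pu0 (by decide)
      have hp := ih _ hlt pu pv hpu e' he' rfl epv hokp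
      have hconj := sGL_conj K.space pu0 pb hiso
      have := mul_mem (mul_mem (hgH _ hgm) hp) (inv_mem (hgH _ hgm))
      rw [sElt] at this ⊢
      show sGL Q B (bitVec idx u) (bitVec idx v') ∈ H
      rw [← a1, ← a2, ← hconj]
      exact this
  have hroots : Root Q B ⊤ ≤ H := by
    refine root_le_of_pairs K.space h5 H fun u v hu hv huv => ?_
    obtain ⟨x, hx, rfl⟩ := K.surj u
    obtain ⟨y, hy, rfl⟩ := K.surj v
    have hok : okPair n qT (x, y) = true := by
      rw [K.val _ hx] at hu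
      rw [K.val _ hy] at hv
      rw [K.polar hx hy] at huv
      simp only [okPair, hx, hy, decide_true, Bool.true_and]
      cases hA : qT.testBit x
      · cases hB : qT.testBit y
        · cases hC : nB qT x y
          · rfl
          · rw [hC] at huv; exact absurd huv (by decide)
        · rw [hB] at hv; exact absurd hv (by decide)
      · rw [hA] at hu; exact absurd hu (by decide)
    show sElt Q B idx (x, y) ∈ H
    by_cases hdeg : x = 0 ∨ y = 0 ∨ x = y
    · rw [K.sElt_trivial hok hdeg]; exact one_mem H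
    simp only [not_or] at hdeg
    simp only [okPair, Bool.and_eq_true, Bool.not_eq_true'] at hok
    simp only [coverOk, List.all_eq_true, List.mem_range] at hcov
    have hc := hcov x hx
    simp only [beq_eq_false_iff_ne.2 hdeg.1, hok.1.1.2, Bool.or_self, cond_false, List.all_eq_true,
      List.mem_range] at hc
    have hc := hc y hy
    simp only [beq_eq_false_iff_ne.2 hdeg.2.1, beq_eq_false_iff_ne.2 hdeg.2.2, hok.1.2, hok.2, Bool.or_self,
      cond_false, List.any_eq_true, beq_iff_eq] at hc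
    obtain ⟨e, he, e1⟩ := hc
    exact hreach _ x y hx e he rfl e1 (by simp [okPair, hx, hy, hok.1.1.2, hok.1.2, hok.2])
  intro a
  obtain ⟨b, hb, fb⟩ := hroots (hroot a)
  rwa [← hinj hb]

end Cfsg.Lib.OrthCocycle
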