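import Cfsg.Agent.Lib.Linear.OrthSubfield

/-!
# An irrational root element with rational centres generates `Ω`
-/

set_option autoImplicit false

namespace Cfsg.Lib.Linear.OrthSub

open Module
open scoped Matrix
open Cfsg.Lib.Linear.Orth Cfsg.Lib.Linear.Rat0

variable {ι : Type} [Fintype ι] [DecidableEq ι] {F : Type*} [Field F] {F₀ : Subfield F}
  {Q : (ι → F) → F} {B : LinearMap.BilinForm F (ι → F)} {H : Subgroup (GL ι F)}

/-- The commutator rule with coefficients. -/
theorem rule_coeff (C : Space Q B) (hH : H ≤ isometryGroup F Q) {x y u v : ι → F} (hx : Q x = 0)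
    (hy : Q y = 0) (hu : Q u = 0) (hv : Q v = 0) (hxy : B x y = 0) (huv : B u v = 0)
    (hyu : B y u = 0) (hyv : B y v = 0) (hxv : B x v = 0) (hxu : B x u = 1) {a b : F}
    (ha : sGL Q B x (a • y) ∈ H) (hb : sGL Q B u (b • v) ∈ H) :
    sGL Q B y ((a * b) • v) ∈ H := by
  have hxy' : B x (a • y) = 0 := by rw [map_smul, hxy, smul_zero]
  have huv' : B u (b • v) = 0 := by rw [map_smul, huv, smul_zero]
  have hvy : B v y = 0 := by rw [C.symm, hyv]
  have h := mul_mem (mul_mem ha hb) (inv_mem ha)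
  rw [sGL_conj C hu huv' (hH ha), Matrix.mulVec_smul, sGL_act C hx hxy', sGL_act C hx hxy',
    hxu, hxv, C.smul, hy] at h
  simp only [map_smul, LinearMap.smul_apply, hyu, hyv, smul_zero, zero_smul, mul_zero, zero_mul,
    add_zero, sub_zero, one_smul] at h
  have hQuy : Q (u + a • y) = 0 := by
    rw [C.add, hu, C.smul, hy, map_smul, C.symm u y, hyu]; simp
  have hBuy : B (u + a • y) (b • v) = 0 := by simp [huv, hyv]
  have hQbv : Q (b • v) = 0 := by rw [C.smul, hv, mul_zero]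
  rw [sGL_swap C hQuy hQbv hBuy, neg_add,
    ← sGL_mul C hQbv (by simp [C.symm v u, huv]) (by simp [hvy]),
    ← sGL_swap C hu hQbv huv'] at h
  have h' := (H.mul_mem_cancel_left hb).mp h
  rw [sGL_smul C hv (by simp [hvy]),
    sGL_swap C hv (by rw [C.smul, C.neg, C.smul, hy]; ring) (by simp [hvy])] at h'
  rw [show b • -(a • y) = (-(a * b)) • y by module, sGL_smul C hy (by simp [hyv])] at h'
  rwa [smul_neg, neg_smul, neg_neg] at h'

/-- An independent perpendicular pair of rational singular vectors. -/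
structure GP (Q₀ : (ι → F₀) → F₀) (B₀ : LinearMap.BilinForm F₀ (ι → F₀)) (x y : ι → F₀) :
    Prop where
  singX : Q₀ x = 0
  singY : Q₀ y = 0
  perp : B₀ x y = 0
  indep : x ∉ Submodule.span F₀ {y}
  neY : y ≠ 0

variable {Q₀ : (ι → F₀) → F₀} {B₀ : LinearMap.BilinForm F₀ (ι → F₀)}

/-- A coefficient occurring on all rational pairs. -/
def Good (Q : (ι → F) → F) (B : LinearMap.BilinForm F (ι → F)) (Q₀ : (ι → F₀) → F₀)
    (B₀ : LinearMap.BilinForm F₀ (ι → F₀)) (H : Subgroup (GL ι F)) (c : F) : Prop :=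
  ∀ x y : ι → F₀, GP Q₀ B₀ x y → sGL Q B (rv F₀ x) (c • rv F₀ y) ∈ H

variable [Finite F] (X : RatCtx Q B Q₀ B₀ H)

include X

theorem RatCtx.rule_rv {x y u v : ι → F₀} (h1 : GP Q₀ B₀ x y) (h2 : GP Q₀ B₀ u v)
    (hyu : B₀ y u = 0) (hyv : B₀ y v = 0) (hxv : B₀ x v = 0) (hxu : B₀ x u = 1) {a b : F}
    (ha : sGL Q B (rv F₀ x) (a • rv F₀ y) ∈ H) (hb : sGL Q B (rv F₀ u) (b • rv F₀ v) ∈ H) :
    sGL Q B (rv F₀ y) ((a * b) • rv F₀ v) ∈ H := by
  have hq : ∀ {z : ι → F₀}, Q₀ z = 0 → Q (rv F₀ z) = 0 := fun h => by rw [X.compat, h]; rfl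
  have hb0 : ∀ {z z' : ι → F₀}, B₀ z z' = 0 → B (rv F₀ z) (rv F₀ z') = 0 := fun h => by
    rw [X.B_rv, h]; rfl
  exact rule_coeff X.space X.le_iso (hq h1.singX) (hq h1.singY) (hq h2.singX) (hq h2.singY)
    (hb0 h1.perp) (hb0 h2.perp) (hb0 hyu) (hb0 hyv) (hb0 hxv) (by rw [X.B_rv, hxu]; rfl) ha hb

theorem RatCtx.gp_next {x y v : ι → F₀} (h : GP Q₀ B₀ x y) (hv : Q₀ v = 0) (hxv : B₀ x v = 0)
    (hyv : B₀ y v = 0) (hind : v ∉ Submodule.span F₀ {x, y}) :
    GP Q₀ B₀ y v ∧ ∃ u, GP Q₀ B₀ u v ∧ B₀ y u = 0 ∧ B₀ x u = 1 := by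
  classical
  have hv0 : v ≠ 0 := fun h0 => hind (h0 ▸ Submodule.zero_mem _)
  have hyspan : y ∉ Submodule.span F₀ {v} := fun hm => by
    obtain ⟨c, hc⟩ := Submodule.mem_span_singleton.mp hm
    have hc0 : c ≠ 0 := fun h0 => h.neY (by rw [← hc, h0, zero_smul])
    refine hind ((Submodule.smul_mem_iff _ hc0).mp ?_)
    rw [hc]
    exact Submodule.subset_span (by simp)
  have hx : x ∉ Submodule.span F₀ (({y, v} : Finset (ι → F₀)) : Set (ι → F₀)) := fun hm => by
    rw [Finset.coe_insert, Finset.coe_singleton] at hm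
    obtain ⟨s, t, hst⟩ := Submodule.mem_span_pair.mp hm
    by_cases ht : t = 0
    · exact h.indep (Submodule.mem_span_singleton.mpr ⟨s, by rw [← hst, ht, zero_smul, add_zero]⟩)
    · refine hind ((Submodule.smul_mem_iff _ ht).mp ?_)
      rw [show t • v = x - s • y by rw [← hst]; abel]
      exact Submodule.sub_mem _ (Submodule.subset_span (by simp))
        (Submodule.smul_mem _ _ (Submodule.subset_span (by simp)))
  obtain ⟨u, hu, hxu, huS⟩ := X.exists_sing_list {y, v}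
    (Finset.card_le_two.trans (by norm_num)) hx
  refine ⟨⟨h.singY, hv, hyv, hyspan, hv0⟩, u,
    ⟨hu, hv, by rw [X.space₀.symm]; exact huS v (by simp), fun hm => ?_, hv0⟩,
    huS y (by simp), hxu⟩
  obtain ⟨c, rfl⟩ := Submodule.mem_span_singleton.mp hm
  rw [map_smul, hxv, smul_zero] at hxu
  exact zero_ne_one hxu

theorem RatCtx.one_good : Good Q B Q₀ B₀ H 1 := fun x y h => by
  rw [one_smul]; exact X.sGL_rv h.singX h.perp

theorem RatCtx.move {x y v : ι → F₀} {a : F} (h : GP Q₀ B₀ x y) (hv : Q₀ v = 0)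
    (hxv : B₀ x v = 0) (hyv : B₀ y v = 0) (hind : v ∉ Submodule.span F₀ {x, y})
    (ha : sGL Q B (rv F₀ x) (a • rv F₀ y) ∈ H) :
    GP Q₀ B₀ y v ∧ sGL Q B (rv F₀ y) (a • rv F₀ v) ∈ H := by
  obtain ⟨hp, u, hu, hyu, hxu⟩ := X.gp_next h hv hxv hyv hind
  refine ⟨hp, ?_⟩
  have := X.rule_rv h hu hyu hyv hxv hxu ha (X.one_good u v hu)
  rwa [mul_one] at this

theorem RatCtx.good_of_one {x y : ι → F₀} {a : F} (h : GP Q₀ B₀ x y)
    (ha : sGL Q B (rv F₀ x) (a • rv F₀ y) ∈ H) : Good Q B Q₀ B₀ H a := by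
  classical
  intro x' y' h'
  have hx'0 : x' ≠ 0 := fun e => h'.indep (e ▸ Submodule.zero_mem _)
  have hperp : ∀ {s : Finset (ι → F₀)} {v : ι → F₀},
      v ∈ perpIn B₀ ⊤ (Submodule.span F₀ (s : Set (ι → F₀))) → ∀ z ∈ s, B₀ z v = 0 :=
    fun hv z hz => hv.2 _ (Submodule.subset_span hz)
  have hout : ∀ {s : Finset (ι → F₀)} {v : ι → F₀},
      v ∉ Submodule.span F₀ (s : Set (ι → F₀)) → ∀ {t : Set (ι → F₀)}, t ⊆ ↑s →
      v ∉ Submodule.span F₀ t := fun hv _ ht hm => hv (Submodule.span_mono ht hm)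
  -- moving on to a vector independent of the last centre
  have last : ∀ {p q t : ι → F₀}, GP Q₀ B₀ p q → sGL Q B (rv F₀ p) (a • rv F₀ q) ∈ H →
      Q₀ t = 0 → B₀ p t = 0 → B₀ q t = 0 → t ∉ Submodule.span F₀ {p} →
      q ∉ Submodule.span F₀ {t, p} →
      GP Q₀ B₀ q t ∧ sGL Q B (rv F₀ q) (a • rv F₀ t) ∈ H := by
    intro p q t hpq hmem ht hpt hqt htp hq
    refine X.move hpq ht hpt hqt (fun hm => ?_) hmem
    obtain ⟨c, d, hcd⟩ := Submodule.mem_span_pair.mp hm
    by_cases hd : d = 0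
    · exact htp (Submodule.mem_span_singleton.mpr ⟨c, by rw [← hcd, hd, zero_smul, add_zero]⟩)
    · refine hq ((Submodule.smul_mem_iff _ hd).mp ?_)
      rw [show d • q = t - c • p by rw [← hcd]; abel]
      exact Submodule.sub_mem _ (Submodule.subset_span (by simp))
        (Submodule.smul_mem _ _ (Submodule.subset_span (by simp)))
  have flip : ∀ {u z : ι → F₀}, z ≠ 0 → u ∉ Submodule.span F₀ {z} →
      z ∉ Submodule.span F₀ {u} := by
    intro u z hz hu hm
    obtain ⟨c, hc⟩ := Submodule.mem_span_singleton.mp hm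
    have hc0 : c ≠ 0 := fun e => hz (by rw [← hc, e, zero_smul])
    exact hu (Submodule.mem_span_singleton.mpr
      ⟨c⁻¹, by rw [← hc, smul_smul, inv_mul_cancel₀ hc0, one_smul]⟩)
  obtain ⟨v, v', hV, hvA, -⟩ := X.exists_hyp_list {x, y, x'} Finset.card_le_three
  obtain ⟨p1, a1⟩ := X.move h hV.singE (hperp hV.memE x (by simp)) (hperp hV.memE y (by simp))
    (hout hvA (by intro z hz; simp at hz ⊢; tauto)) ha
  obtain ⟨w, w', hW, hwA, -⟩ := X.exists_hyp_list {y, v, x'} Finset.card_le_three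
  obtain ⟨p2, a2⟩ := X.move p1 hW.singE (hperp hW.memE y (by simp)) (hperp hW.memE v (by simp))
    (hout hwA (by intro z hz; simp at hz ⊢; tauto)) a1
  obtain ⟨p3, a3⟩ := last p2 a2 h'.singX (by rw [X.space₀.symm]; exact hperp hV.memE x' (by simp))
    (by rw [X.space₀.symm]; exact hperp hW.memE x' (by simp))
    (flip hx'0 (hout hvA (by intro z hz; simp at hz ⊢; tauto)))
    (hout hwA (by intro z hz; simp at hz ⊢; tauto))
  obtain ⟨s, s', hS, hsA, -⟩ := X.exists_hyp_list {w, x', y'} Finset.card_le_three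
  obtain ⟨p4, a4⟩ := X.move p3 hS.singE (hperp hS.memE w (by simp)) (hperp hS.memE x' (by simp))
    (hout hsA (by intro z hz; simp at hz ⊢; tauto)) a3
  obtain ⟨r, r', hR, hrA, -⟩ := X.exists_hyp_list {x', s, y'} Finset.card_le_three
  obtain ⟨p5, a5⟩ := X.move p4 hR.singE (hperp hR.memE x' (by simp)) (hperp hR.memE s (by simp))
    (hout hrA (by intro z hz; simp at hz ⊢; tauto)) a4
  obtain ⟨p6, a6⟩ := last p5 a5 h'.singX (by rw [X.space₀.symm]; exact hperp hS.memE x' (by simp))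
    (by rw [X.space₀.symm]; exact hperp hR.memE x' (by simp))
    (flip hx'0 (hout hsA (by intro z hz; simp at hz ⊢; tauto)))
    (hout hrA (by intro z hz; simp at hz ⊢; tauto))
  exact (X.move p6 h'.singY (by rw [X.space₀.symm]; exact hperp hR.memE y' (by simp)) h'.perp
    (fun hm => by
      obtain ⟨c, d, hcd⟩ := Submodule.mem_span_pair.mp hm
      by_cases hc : c = 0
      · rw [hc, zero_smul, zero_add] at hcd
        exact flip h'.neY h'.indep (Submodule.mem_span_singleton.mpr ⟨d, hcd⟩)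
      · refine hout hrA (t := {x', y'}) (by intro z hz; simp at hz ⊢; tauto)
          ((Submodule.smul_mem_iff _ hc).mp ?_)
        rw [show c • r = y' - d • x' by rw [← hcd]; abel]
        exact Submodule.sub_mem _ (Submodule.subset_span (by simp))
          (Submodule.smul_mem _ _ (Submodule.subset_span (by simp)))) a6).2

theorem RatCtx.good_mul {a b : F} (ha : Good Q B Q₀ B₀ H a) (hb : Good Q B Q₀ B₀ H b)
    {x y : ι → F₀} (h : GP Q₀ B₀ x y) : Good Q B Q₀ B₀ H (a * b) := by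
  classical
  obtain ⟨v, v', hV, hvA, -⟩ := X.exists_hyp_list {x, y} (Finset.card_le_two.trans (by norm_num))
  have hin : ∀ {z : ι → F₀}, z ∈ ({x, y} : Finset (ι → F₀)) → B₀ z v = 0 := fun hz =>
    hV.memE.2 _ (Submodule.subset_span hz)
  obtain ⟨hp, u, hu, hyu, hxu⟩ := X.gp_next h hV.singE (hin (by simp)) (hin (by simp))
    (by simpa using hvA)
  exact X.good_of_one hp (X.rule_rv h hu hyu (hin (by simp)) (hin (by simp)) hxu (ha x y h)
    (hb u v hu))

theorem RatCtx.good_all {r : ℕ} (hr : r.Prime) (hcard : Nat.card F = Nat.card F₀ ^ r)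
    (hA : CaseA Q B Q₀ B₀ H) (c : F) : Good Q B Q₀ B₀ H c := by
  obtain ⟨x, y, β, hx, hy, hxy, hind, hy0, hβ, hmem⟩ := hA
  have hp : GP Q₀ B₀ x y := ⟨hx, hy, hxy, hind, hy0⟩
  let S : Subalgebra F₀ F :=
    { carrier := {c | Good Q B Q₀ B₀ H c}
      mul_mem' := fun {a b} ha hb => X.good_mul ha hb hp
      add_mem' := by
        intro s t hs ht p q h
        have hq : Q (rv F₀ p) = 0 := by rw [X.compat, h.singX]; rfl
        have hb : B (rv F₀ p) (rv F₀ q) = 0 := by rw [X.B_rv, h.perp]; rfl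
        rw [add_smul, ← sGL_mul X.space hq (by rw [map_smul, hb, smul_zero])
          (by rw [map_smul, hb, smul_zero])]
        exact mul_mem (hs p q h) (ht p q h)
      algebraMap_mem' := by
        intro t p q h
        show sGL Q B (rv F₀ p) ((t : F) • rv F₀ q) ∈ H
        rw [← rv_smul]
        exact X.sGL_rv h.singX (by rw [map_smul, h.perp, smul_zero]) }
  have hfr : (Module.finrank F₀ F).Prime := by
    have h1 := Module.natCard_eq_pow_finrank (K := F₀) (V := F)
    rw [hcard] at h1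
    rwa [← Nat.pow_right_injective Finite.one_lt_card h1]
  haveI := Subalgebra.isSimpleOrder_of_finrank_prime F₀ F hfr
  have htop : S = ⊤ := by
    refine (eq_bot_or_eq_top S).resolve_left fun hb => hβ ?_
    have hcS : β ∈ S := X.good_of_one hp hmem
    rw [hb, Algebra.mem_bot] at hcS
    obtain ⟨t, ht⟩ := hcS
    exact ht ▸ t.2
  exact show c ∈ S by rw [htop]; exact Algebra.mem_top

/-- Every vector perpendicular to a rational singular vector is spanned by rational singular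
vectors perpendicular to it. -/
theorem RatCtx.perp_le_span {e : ι → F₀} (he : Q₀ e = 0) (he0 : e ≠ 0) {a : ι → F}
    (ha : B (rv F₀ e) a = 0) :
    a ∈ Submodule.span F (rv F₀ '' {w : ι → F₀ | Q₀ w = 0 ∧ B₀ e w = 0}) := by
  classical
  set M := Submodule.span F (rv F₀ '' {w : ι → F₀ | Q₀ w = 0 ∧ B₀ e w = 0})
  obtain ⟨f, hf⟩ := exists_hyp X.space₀ X.space₀.ndeg_top (e := e) trivial he0 he
  obtain ⟨p, p', hP, -⟩ := X.exists_hyp_list {e} (by simp)
  have hz : ∀ z : ι → F₀, B₀ e z = 0 → rv F₀ z ∈ M := fun z hz => by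
    have hzP : z ∈ perpIn B₀ ⊤ (Submodule.span F₀ (({e} : Finset (ι → F₀)) : Set (ι → F₀))) :=
      ⟨trivial, fun b hb => by
        rw [Finset.coe_singleton] at hb
        obtain ⟨c, rfl⟩ := Submodule.mem_span_singleton.mp hb
        rw [map_smul, LinearMap.smul_apply, hz, smul_zero]⟩
    have hsp := hP.span X.space₀ hzP
    clear hz hzP
    induction hsp using Submodule.span_induction with
    | mem w hw => exact Submodule.subset_span ⟨w, ⟨hw.2, hw.1.2 e (Submodule.subset_span (by simp))⟩, rfl⟩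
    | zero => rw [rv_zero']; exact M.zero_mem
    | add s t _ _ hs ht => rw [rv_add]; exact M.add_mem hs ht
    | smul c s _ hs => rw [rv_smul]; exact M.smul_mem _ hs
  have key : ∀ a : ι → F, a - B (rv F₀ e) a • rv F₀ f ∈ M := fun a => by
    let Φ : (ι → F) →ₗ[F] (ι → F) := LinearMap.id - (B (rv F₀ e)).smulRight (rv F₀ f)
    show Φ a ∈ M
    rw [pi_eq_sum_univ' a, map_sum]
    refine M.sum_mem fun i _ => ?_
    rw [map_smul]
    refine M.smul_mem _ ?_
    show Pi.single i 1 - B (rv F₀ e) (Pi.single i 1) • rv F₀ f ∈ M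
    rw [← rv_single_mem (F₀ := F₀), X.B_rv, ← rv_smul, ← rv_sub']
    exact hz _ (by rw [map_sub, map_smul, hf.pair]; simp)
  simpa [ha] using key a

theorem RatCtx.centre {r : ℕ} (hr : r.Prime) (hcard : Nat.card F = Nat.card F₀ ^ r)
    (hA : CaseA Q B Q₀ B₀ H) {e : ι → F₀} (he : Q₀ e = 0) (he0 : e ≠ 0) :
    Centre Q B H (rv F₀ e) := by
  have hQe : Q (rv F₀ e) = 0 := by rw [X.compat, he]; rfl
  intro a ha
  have hle : Submodule.span F (rv F₀ '' {w : ι → F₀ | Q₀ w = 0 ∧ B₀ e w = 0}) ≤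
      rootsAt Q B X.space H (rv F₀ e) hQe := by
    rw [Submodule.span_le]
    rintro _ ⟨w, ⟨hw, hew⟩, rfl⟩
    have hew' : B (rv F₀ e) (rv F₀ w) = 0 := by rw [X.B_rv, hew]; rfl
    refine ⟨hew', fun c => ?_⟩
    by_cases hs : w ∈ Submodule.span F₀ {e}
    · obtain ⟨t, rfl⟩ := Submodule.mem_span_singleton.mp hs
      rw [rv_smul, smul_smul, ← zero_add ((c * (t : F)) • rv F₀ e),
        sGL_add_self X.space hQe (map_zero _)]
      have : sGL Q B (rv F₀ e) 0 = 1 := gl_ext fun x => by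
        rw [sGL_act X.space hQe (map_zero _), X.space.zero]; simp
      rw [this]
      exact one_mem H
    · have hw0 : w ≠ 0 := fun h => hs (h ▸ Submodule.zero_mem _)
      refine X.good_all hr hcard hA c e w ⟨he, hw, hew, fun hm => ?_, hw0⟩
      obtain ⟨t, ht⟩ := Submodule.mem_span_singleton.mp hm
      have ht0 : t ≠ 0 := fun h => he0 (by rw [← ht, h, zero_smul])
      exact hs (Submodule.mem_span_singleton.mpr
        ⟨t⁻¹, by rw [← ht, smul_smul, inv_mul_cancel₀ ht0, one_smul]⟩)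
  have := (hle (X.perp_le_span he he0 ha)).2 1
  rwa [one_smul] at this

/-- An irrational root element with rational centres generates `Ω`. -/
theorem RatCtx.omega_le_of_caseA {r : ℕ} (hr : r.Prime) (hcard : Nat.card F = Nat.card F₀ ^ r)
    (hA : CaseA Q B Q₀ B₀ H) : Cfsg.Geo.omegaGL Q ≤ H := by
  obtain ⟨e, f, hef⟩ := exists_hyp' X.space₀ X.space₀.ndeg_top
    (by rw [finrank_top, finrank_fintype_fun_eq_card]; have := X.card; omega)
  have he0 : e ≠ 0 := fun h => by simpa [h] using hef.pair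
  have hf0 : f ≠ 0 := fun h => by simpa [h] using hef.pair
  refine omega_le_of_two X.space X.five X.le_iso (e := rv F₀ e) (f := rv F₀ f)
    (by rw [X.compat, hef.singE]; rfl) (by rw [X.compat, hef.singF]; rfl)
    (by rw [X.B_rv, hef.pair]; simp) (X.centre hr hcard hA hef.singE he0)
    (X.centre hr hcard hA hef.singF hf0)

end Cfsg.Lib.Linear.OrthSub
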