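import Cfsg.Agent.Lib.Linear.OrthSubfieldFail
import Cfsg.Agent.Lib.Linear.OrthSubfieldTop

/-!
# Subfield groups of orthogonal groups are maximal in `Ω`
-/

set_option autoImplicit false

namespace Cfsg.Lib.Linear.OrthSub

open Module
open scoped Matrix commutatorElement
open Cfsg.Lib.Linear.Orth Cfsg.Lib.Linear.Rat0

variable {ι : Type} [Fintype ι] [DecidableEq ι] {F : Type*} [Field F] {F₀ : Subfield F}
  {Q : (ι → F) → F} {B : LinearMap.BilinForm F (ι → F)}

/-- A matrix mapping rational vectors to rational vectors has rational entries. -/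
theorem entries_of_ratv {g : GL ι F} (h : ∀ z : ι → F₀, Ratv F₀ (g.val *ᵥ rv F₀ z)) :
    ∀ a b, (g : Matrix ι ι F) a b ∈ F₀ := fun a b => by
  obtain ⟨r, hr⟩ := h (Pi.single b 1)
  have := congrFun hr a
  rw [rv_single_mem, Matrix.mulVec_single_one, Matrix.col_apply] at this
  exact this ▸ (r a).2

/-- The commutator subgroup as a commutator of subgroups. -/
theorem omegaGL_comm (Q : (ι → F) → F) :
    Cfsg.Geo.omegaGL Q = ⁅isometryGroup F Q, isometryGroup F Q⁆ := by
  rw [Cfsg.Geo.omegaGL, Subgroup.map_subtype_commutator]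

/-- A product of reflections in perpendicular vectors of norm one. -/
theorem rGL_pair_act (C : Space Q B) {a b : ι → F} (ha : Q a = 1) (hb : Q b = 1) (hab : B a b = 0)
    (x : ι → F) : (rGL Q a * rGL Q b).val *ᵥ x = x - B a x • a - B b x • b := by
  have ha0 : Q a ≠ 0 := by rw [ha]; exact one_ne_zero
  have hb0 : Q b ≠ 0 := by rw [hb]; exact one_ne_zero
  rw [mul_act, rGL_act C hb0, rGL_act C ha0, ha, hb, map_sub, map_smul, hab]
  simp only [inv_one, one_mul, smul_zero, sub_zero]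
  abel

/-- Elements of `Ω` have determinant one. -/
theorem omega_det' {g : GL ι F} (hg : g ∈ Cfsg.Geo.omegaGL Q) : g.val.det = 1 := by
  obtain ⟨x, hx, rfl⟩ := hg
  have h := Abelianization.commutator_subset_ker
    ((Matrix.GeneralLinearGroup.det (n := ι) (R := F)).comp (isometryGroup F Q).subtype) hx
  exact congrArg Units.val (MonoidHom.mem_ker.1 h)

variable [Finite F] {Q₀ : (ι → F₀) → F₀} {B₀ : LinearMap.BilinForm F₀ (ι → F₀)}
  {H : Subgroup (GL ι F)} (X : RatCtx Q B Q₀ B₀ H)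

include X

/-- Four perpendicular hyperbolic pairs of rational vectors. -/
theorem RatCtx.exists_four : ∃ e f : Fin 4 → (ι → F₀), (∀ i, Q₀ (e i) = 0 ∧ Q₀ (f i) = 0) ∧
    ∀ i j, B₀ (e i) (e j) = 0 ∧ B₀ (f i) (f j) = 0 ∧ B₀ (e i) (f j) = if i = j then 1 else 0 := by
  have S := X.space₀
  have hn : 10 ≤ finrank F₀ (⊤ : Submodule F₀ (ι → F₀)) := by
    rw [finrank_top, finrank_fintype_fun_eq_card]; exact X.card
  obtain ⟨e1, f1, h1⟩ := exists_hyp' S S.ndeg_top (by omega)
  have d1 := h1.le_finrank S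
  obtain ⟨e2, f2, h2⟩ := exists_hyp' S (h1.ndeg S S.ndeg_top) (by omega)
  have d2 := h2.le_finrank S
  obtain ⟨e3, f3, h3⟩ := exists_hyp' S (h2.ndeg S (h1.ndeg S S.ndeg_top)) (by omega)
  have d3 := h3.le_finrank S
  obtain ⟨e4, f4, h4⟩ := exists_hyp' S (h3.ndeg S (h2.ndeg S (h1.ndeg S S.ndeg_top))) (by omega)
  obtain ⟨-, a1, a2⟩ := mem_perp2.mp h2.memE
  obtain ⟨-, a3, a4⟩ := mem_perp2.mp h2.memF
  obtain ⟨m3e, b1, b2⟩ := mem_perp2.mp h3.memE
  obtain ⟨m3f, b3, b4⟩ := mem_perp2.mp h3.memF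
  obtain ⟨-, b5, b6⟩ := mem_perp2.mp m3e
  obtain ⟨-, b7, b8⟩ := mem_perp2.mp m3f
  obtain ⟨m4e, c1, c2⟩ := mem_perp2.mp h4.memE
  obtain ⟨m4f, c3, c4⟩ := mem_perp2.mp h4.memF
  obtain ⟨m4e', c5, c6⟩ := mem_perp2.mp m4e
  obtain ⟨m4f', c7, c8⟩ := mem_perp2.mp m4f
  obtain ⟨-, c9, c10⟩ := mem_perp2.mp m4e'
  obtain ⟨-, c11, c12⟩ := mem_perp2.mp m4f'
  refine ⟨![e1, e2, e3, e4], ![f1, f2, f3, f4], fun i => ?_, fun i j => ?_⟩
  · fin_cases i <;> simp [h1.singE, h1.singF, h2.singE, h2.singF, h3.singE, h3.singF, h4.singE,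
      h4.singF]
  · fin_cases i <;> fin_cases j <;>
      simp [S.self_zero, h1.singE, h1.singF, h2.singE, h2.singF, h3.singE, h3.singF, h4.singE,
        h4.singF, h1.pair, h2.pair, h3.pair, h4.pair, a1, a2, a3, a4, b1, b2, b3, b4, b5, b6, b7,
        b8, c1, c2, c3, c4, c5, c6, c7, c8, c9, c10, c11, c12, S.symm e2 e1, S.symm e3 e1,
        S.symm e3 e2, S.symm e4 e1, S.symm e4 e2, S.symm e4 e3, S.symm f2 f1, S.symm f3 f1,
        S.symm f3 f2, S.symm f4 f1, S.symm f4 f2, S.symm f4 f3, S.symm e2 f1, S.symm e3 f1,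
        S.symm e3 f2, S.symm e4 f1, S.symm e4 f2, S.symm e4 f3]

/-- Intertwined involutions moving at most six dimensions, in odd characteristic. -/
theorem RatCtx.ratG_of_six (hA : ¬ CaseA Q B Q₀ B₀ H) (h2 : (2 : F) ≠ 0) {g x y : GL ι F}
    (hg : g ∈ H) (hx : x ∈ isometryGroup F Q) (hy : y ∈ isometryGroup F Q)
    (hx' : RatInvol F₀ x (2 + 4)) (hy' : RatInvol F₀ y (2 + 4)) (hxy : g * x = y * g) :
    RatG F₀ g := by
  have hn := X.card
  by_cases h11 : 11 ≤ Fintype.card ι
  · exact X.ratG_of_intertwine hA hg hx hy (fun h => absurd h h2) hx' hy' hxy (by omega)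
      (fun h => absurd h h2)
  have hmap : ∀ {a b : GL ι F}, g * a = b * g →
      finrank F (fixedSp a) ≤ finrank F (fixedSp b) := fun {a b} hab => by
    have hle : (fixedSp a).map (Matrix.mulVecLin g.val) ≤ fixedSp b := by
      rintro _ ⟨v, hv, rfl⟩
      rw [mem_fixedSp]
      show b.val *ᵥ (g.val *ᵥ v) = g.val *ᵥ v
      rw [← mul_act, ← hab, mul_act, (mem_fixedSp a v).mp hv]
    have h := Submodule.finrank_mono hle
    rwa [(Submodule.equivMapOfInjective _ (act_injective g) (fixedSp a)).finrank_eq.symm] at h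
  by_cases h5 : 5 ≤ finrank F (fixedSp x)
  · have := hmap hxy
    exact X.ratG_of_intertwine hA hg hx hy (fun h => absurd h h2) (d := 5)
      ⟨hx'.1, hx'.2.1, hx'.2.2.1, by omega⟩ ⟨hy'.1, hy'.2.1, hy'.2.2.1, by omega⟩ hxy (by omega)
      (fun h => absurd h h2)
  have hnI : ∀ {a : GL ι F}, a ∈ isometryGroup F Q → -a ∈ isometryGroup F Q := fun {a} ha =>
    mem_iso.mpr fun v => by
      rw [Units.val_neg, Matrix.neg_mulVec, X.space.neg, mem_iso.mp ha]
  have hnE : ∀ {a : GL ι F}, (∀ i j, (a : Matrix ι ι F) i j ∈ F₀) →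
      ∀ i j, ((-a : GL ι F) : Matrix ι ι F) i j ∈ F₀ := fun {a} ha i j => by
    rw [Units.val_neg, Matrix.neg_apply]; exact F₀.neg_mem (ha i j)
  have hne : ∀ {a : GL ι F}, 4 ≤ finrank F (fixedSp a) → -a ≠ 1 := fun {a} ha h => by
    have hb : fixedSp a = ⊥ := by
      rw [eq_bot_iff]
      intro v hv
      have h1 := (mem_fixedSp a v).mp hv
      rw [show a = -1 by rw [← h, neg_neg], Units.val_neg, Units.val_one, Matrix.neg_mulVec,
        Matrix.one_mulVec] at h1
      have h3 : (2 : F) • v = 0 := by linear_combination (norm := module) -h1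
      exact (Submodule.mem_bot F).mpr ((smul_eq_zero.mp h3).resolve_left h2)
    rw [hb, finrank_bot] at ha
    omega
  have h6 := finrank_fixedSp_neg h2 hx'.2.1
  have hxy' : g * -x = -y * g := by rw [mul_neg, hxy, neg_mul]
  have := hmap hxy'
  have hx4 := hx'.2.2.2
  have hy4 := hy'.2.2.2
  exact X.ratG_of_intertwine hA hg (hnI hx) (hnI hy) (fun h => absurd h h2) (d := 5)
    ⟨hnE hx'.1, by rw [neg_mul_neg, hx'.2.1], hne (by omega), by omega⟩
    ⟨hnE hy'.1, by rw [neg_mul_neg, hy'.2.1], hne (by omega), by omega⟩ hxy' (by omega)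
    (fun h => absurd h h2)

/-- Either every element of `H` is rational up to a scalar, or `H` is everything. -/
theorem RatCtx.ratG_or_top {r : ℕ} (hr : r.Prime) (hcard : Nat.card F = Nat.card F₀ ^ r)
    (hbig : (12 ≤ Fintype.card ι ∨ Fintype.card ι = 10) ∨ ((2 : F) ≠ 0 ∧ Odd (Fintype.card ι))) :
    (∀ h ∈ H, RatG F₀ h) ∨ Cfsg.Geo.omegaGL Q ≤ H := by
  classical
  by_cases hA : CaseA Q B Q₀ B₀ H
  · exact Or.inr (X.omega_le_of_caseA hr hcard hA)
  left
  have C := X.space
  have hn := X.card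
  obtain ⟨e, f, hs, hp⟩ := X.exists_four
  set a : Fin 4 → (ι → F) := fun i => rv F₀ (e i + f i) with ha
  have hQa : ∀ i, Q (a i) = 1 := fun i => by
    rw [ha]
    show Q (rv F₀ (e i + f i)) = 1
    rw [X.compat, X.space₀.add, (hs i).1, (hs i).2, (hp i i).2.2, if_pos rfl]
    simp
  have hBa : ∀ i j, i ≠ j → B (a i) (a j) = 0 := fun i j hij => by
    show B (rv F₀ (e i + f i)) (rv F₀ (e j + f j)) = 0
    rw [X.B_rv]
    simp [(hp i j).1, (hp i j).2.1, (hp i j).2.2, X.space₀.symm (f i) (e j), (hp j i).2.2, hij,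
      Ne.symm hij]
  have hae : ∀ i j, B (a i) (rv F₀ (e j)) = if j = i then 1 else 0 := fun i j => by
    show B (rv F₀ (e i + f i)) (rv F₀ (e j)) = _
    rw [X.B_rv]
    split_ifs with h
    · subst h; simp [(hp j j).1, X.space₀.symm (f j) (e j), (hp j j).2.2]
    · simp [(hp i j).1, X.space₀.symm (f i) (e j), (hp j i).2.2, h]
  have hQ0 : ∀ i, Q (a i) ≠ 0 := fun i => by rw [hQa]; exact one_ne_zero
  -- a product of two of the reflections
  have pair : ∀ i j, i ≠ j → rGL Q (a i) * rGL Q (a j) ∈ H ∧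
      (∀ z : ι → F₀, Ratv F₀ ((rGL Q (a i) * rGL Q (a j)).val *ᵥ rv F₀ z)) := fun i j hij => by
    have hr' : ∀ z : ι → F₀, Ratv F₀ ((rGL Q (a i) * rGL Q (a j)).val *ᵥ rv F₀ z) := fun z => by
      rw [rGL_pair_act C (hQa i) (hQa j) (hBa i j hij)]
      refine ((ratv_rv z).sub ((ratv_rv (e i + f i)).smul ?_)).sub
        ((ratv_rv (e j + f j)).smul ?_) <;>
      · show B (rv F₀ _) (rv F₀ z) ∈ F₀
        rw [X.B_rv]
        exact SetLike.coe_mem _
    refine ⟨X.rat _ ?_ ⟨1, one_ne_zero, fun p q => by rw [one_mul]; exact entries_of_ratv hr' p q⟩,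
      hr'⟩
    rw [omegaGL_comm]
    exact rGL_mul_rGL_mem C X.five (hQ0 i) (by rw [hQa, hQa])
  set j := rGL Q (a 0) * rGL Q (a 1) with hj
  have hjact : ∀ x, j.val *ᵥ x = x - B (a 0) x • a 0 - B (a 1) x • a 1 :=
    rGL_pair_act C (hQa 0) (hQa 1) (hBa 0 1 (by decide))
  have hjj : j * j = 1 := gl_ext fun x => by
    rw [mul_act, hjact x, hjact, Units.val_one, Matrix.one_mulVec]
    simp only [map_sub, map_smul, C.self, hQa, hBa 0 1 (by decide), hBa 1 0 (by decide),
      smul_eq_mul, mul_one, mul_zero]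
    module
  have he1 : j.val *ᵥ rv F₀ (e 0) = -rv F₀ (f 0) := by
    rw [hjact, hae, hae, if_pos rfl, if_neg (by decide), ha]
    simp [rv_add]
  have hje : B (j.val *ᵥ rv F₀ (e 0)) (rv F₀ (e 0)) = -1 := by
    rw [he1, map_neg, LinearMap.neg_apply, X.B_rv, X.space₀.symm, (hp 0 0).2.2]
    simp
  have hjinv : RatInvol F₀ j 2 := by
    refine ⟨entries_of_ratv (pair 0 1 (by decide)).2, hjj, fun h => ?_, ?_⟩
    · rw [h, Units.val_one, Matrix.one_mulVec, X.B_rv, X.space₀.self_zero (hs 0).1] at hje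
      simp at hje
    · refine (finrank_ker_prod_ge (B := B) (a 0) (a 1)).trans (Nat.add_le_add_right
        (Submodule.finrank_mono fun x hx => ?_) 2)
      obtain ⟨-, h0, h1⟩ := mem_perp2.mp hx
      rw [mem_fixedSp, hjact, h0, h1]
      simp
  intro h hh
  by_cases h2 : (2 : F) = 0
  · -- characteristic two: a root element
    have hn' := hbig.resolve_right fun h => h.1 h2
    have h01 : B₀ (e 0) (e 1) = 0 := (hp 0 1).1
    set k := sGL Q B (rv F₀ (e 0)) (rv F₀ (e 1)) with hk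
    have hkact : ∀ x, k.val *ᵥ x =
        x + B (rv F₀ (e 0)) x • rv F₀ (e 1) - B (rv F₀ (e 1)) x • rv F₀ (e 0) := fun x => by
      rw [hk, sGL_act C (X.q_rv (hs 0).1) (X.b_rv h01), X.q_rv (hs 1).1]
      module
    have hkk : k * k = 1 := gl_ext fun x => by
      rw [mul_act, hkact x, hkact, Units.val_one, Matrix.one_mulVec]
      simp only [map_add, map_sub, map_smul, smul_eq_mul, X.b_rv h01,
        C.symm (rv F₀ (e 1)) (rv F₀ (e 0)), C.self_zero (X.q_rv (hs 0).1),
        C.self_zero (X.q_rv (hs 1).1), mul_zero, add_zero, sub_zero]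
      linear_combination (norm := module)
        congrArg (fun c => c • (B (rv F₀ (e 0)) x • rv F₀ (e 1) -
          B (rv F₀ (e 1)) x • rv F₀ (e 0))) h2
    have hkv : ∀ x, B (k.val *ᵥ x) x = 0 := fun x => by
      rw [hkact]
      simp only [map_add, map_sub, map_smul, LinearMap.add_apply, LinearMap.sub_apply,
        LinearMap.smul_apply, smul_eq_mul, C.self x]
      linear_combination Q x * h2
    have hkinv : RatInvol F₀ k 2 := by
      refine ⟨entries_of_ratv fun z => ?_, hkk, fun h1 => ?_, ?_⟩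
      · rw [hkact]
        refine ((ratv_rv z).add ((ratv_rv (e 1)).smul ?_)).sub ((ratv_rv (e 0)).smul ?_) <;>
        · rw [X.B_rv]; exact SetLike.coe_mem _
      · have h3 := hkact (rv F₀ (f 0))
        rw [h1, Units.val_one, Matrix.one_mulVec, X.B_rv, X.B_rv, (hp 0 0).2.2, (hp 1 0).2.2,
          if_pos rfl, if_neg (by decide)] at h3
        have h4 : rv F₀ (e 1) = 0 := by simpa using h3
        have h5 := (hp 1 1).2.2
        rw [X.rv_eq_zero h4] at h5
        simp at h5
      · refine (finrank_ker_prod_ge (B := B) (rv F₀ (e 0)) (rv F₀ (e 1))).trans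
          (Nat.add_le_add_right (Submodule.finrank_mono fun x hx => ?_) 2)
        obtain ⟨-, h0, h1⟩ := mem_perp2.mp hx
        rw [mem_fixedSp, hkact, h0, h1]
        simp
    refine ratG_of_involutions''' (dj := 2) (dk := 2) (Or.inl (by omega)) (pair 0 1 (by decide)).1
      (X.sGL_rv (hs 0).1 h01) hjinv hkinv (fun c hc heq => ?_)
      (fun g hg x hx y hy hx' hy' hxy info =>
        X.ratG_of_intertwine hA hg (X.le_iso hx) (X.le_iso hy) (fun _ => hy) hx' hy' hxy (by omega)
          (fun _ => Or.inr ⟨by omega, ?_⟩)) hh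
    swap
    · rcases info with (hlt | hfix) | ⟨d, hd, -, -, -, hd4⟩
      · exact Or.inl hlt
      swap
      · left
        rcases hd with rfl | rfl <;> omega
      -- the fixed space of `x` is perpendicular to a vector of norm one, so `x` moves one
      right
      set v₀ := (g⁻¹ : GL ι F).val *ᵥ a 0 with hv₀
      have hgI := X.le_iso hg
      have hQv : Q v₀ = 1 := by rw [hv₀, mem_iso.mp (inv_mem hgI), hQa]
      have hker : LinearMap.ker (Matrix.toLin' x.val - LinearMap.id) ≤ LinearMap.ker (B v₀) := by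
        intro v hv
        rw [LinearMap.mem_ker, LinearMap.sub_apply, LinearMap.id_apply, Matrix.toLin'_apply,
          sub_eq_zero] at hv
        have h3 := congrArg (B (rv F₀ (e 0))) (hfix v hv)
        rw [hjact, map_sub, map_sub, map_smul, map_smul, C.symm (rv F₀ (e 0)) (a 0),
          C.symm (rv F₀ (e 0)) (a 1), hae, hae, if_pos rfl, if_neg (by decide)] at h3
        rw [LinearMap.mem_ker, ← C.B_act hgI, hv₀, act_inv]
        simp only [smul_eq_mul, mul_one, mul_zero, sub_zero] at h3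
        linear_combination -h3
      obtain ⟨φ, hφ⟩ : B v₀ ∈ LinearMap.range (Matrix.toLin' x.val - LinearMap.id).dualMap := by
        rw [LinearMap.range_dualMap_eq_dualAnnihilator_ker, Submodule.mem_dualAnnihilator]
        exact fun v hv => LinearMap.mem_ker.mp (hker hv)
      obtain ⟨w, hw⟩ : ∃ w, B w = φ :=
        (LinearMap.injective_iff_surjective_of_finrank_eq_finrank
          Subspace.dual_finrank_eq.symm).mp
          ((injective_iff_map_eq_zero B).mpr fun u hu => C.nondeg' fun z => LinearMap.congr_fun hu z) φ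
      refine ⟨w, ?_⟩
      have hxI := X.le_iso hx
      have hxx : ∀ u, x.val *ᵥ (x.val *ᵥ u) = u := fun u => by rw [← mul_act, hx'.2.1]; simp
      suffices h : x.val *ᵥ w - w = v₀ by rw [h, hQv]; exact one_ne_zero
      refine sub_eq_zero.mp (C.nondeg' fun u => ?_)
      have h1 : B (x.val *ᵥ w) u = B w (x.val *ᵥ u) := by
        conv_lhs => rw [← hxx u, C.B_act hxI]
      rw [map_sub, map_sub, LinearMap.sub_apply, LinearMap.sub_apply, h1, ← LinearMap.congr_fun hφ u,
        LinearMap.dualMap_apply, LinearMap.sub_apply, LinearMap.id_apply, Matrix.toLin'_apply,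
        ← hw, map_sub]
      ring
    have h3 := hkv (c.val *ᵥ rv F₀ (e 0))
    change B ((sGL Q B (rv F₀ (e 0)) (rv F₀ (e 1))).val *ᵥ (c.val *ᵥ rv F₀ (e 0))) _ = 0 at h3
    rw [heq, mul_act, inv_act, mul_act, C.B_act (X.le_iso hc), hje] at h3
    simp at h3
  · -- four reflections
    set k := j * (rGL Q (a 2) * rGL Q (a 3)) with hk
    have hkact : ∀ x, k.val *ᵥ x = x - B (a 0) x • a 0 - B (a 1) x • a 1 - B (a 2) x • a 2 -
        B (a 3) x • a 3 := fun x => by
      rw [hk, mul_act, rGL_pair_act C (hQa 2) (hQa 3) (hBa 2 3 (by decide)), hjact]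
      simp only [map_sub, map_smul, smul_eq_mul, hBa 0 2 (by decide), hBa 0 3 (by decide),
        hBa 1 2 (by decide), hBa 1 3 (by decide), mul_zero, sub_zero]
      abel
    have hkk : k * k = 1 := gl_ext fun x => by
      rw [mul_act, hkact x, hkact, Units.val_one, Matrix.one_mulVec]
      simp only [map_sub, map_smul, C.self, hQa, smul_eq_mul, hBa 0 1 (by decide),
        hBa 0 2 (by decide), hBa 0 3 (by decide), hBa 1 0 (by decide), hBa 1 2 (by decide),
        hBa 1 3 (by decide), hBa 2 0 (by decide), hBa 2 1 (by decide), hBa 2 3 (by decide),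
        hBa 3 0 (by decide), hBa 3 1 (by decide), hBa 3 2 (by decide), mul_one, mul_zero]
      module
    let Ψ : (ι → F) →ₗ[F] (Fin 4 → F) := LinearMap.pi fun i => B (a i)
    have hΨ : finrank F (LinearMap.ker Ψ) + 4 = Fintype.card ι := by
      have hsurj : Function.Surjective Ψ := fun c =>
        ⟨∑ i, c i • rv F₀ (e i), funext fun i => by simp [Ψ, hae]⟩
      have h1 := LinearMap.finrank_range_add_finrank_ker Ψ
      rw [LinearMap.range_eq_top.mpr hsurj, finrank_top, finrank_fintype_fun_eq_card,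
        finrank_fintype_fun_eq_card, Fintype.card_fin] at h1
      omega
    have hkinv : RatInvol F₀ k 4 := by
      refine ⟨entries_of_ratv fun z => ?_, hkk, fun h1 => ?_, ?_⟩
      · rw [hk, mul_act]
        obtain ⟨r, hr⟩ := (pair 2 3 (by decide)).2 z
        rw [hr]
        exact (pair 0 1 (by decide)).2 r
      · have h3 := congrArg (fun g : GL ι F => B (g.val *ᵥ rv F₀ (e 0)) (rv F₀ (e 0))) h1
        simp only [Units.val_one, Matrix.one_mulVec] at h3
        rw [hkact, hae, hae, hae, hae, X.B_rv, X.space₀.self_zero (hs 0).1] at h3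
        simp [C.self_zero (X.q_rv (hs 0).1), hae] at h3
      · refine le_trans hΨ.ge (Nat.add_le_add_right (Submodule.finrank_mono fun x hx => ?_) 4)
        have h0 : ∀ i, B (a i) x = 0 := fun i => congrFun (LinearMap.mem_ker.mp hx) i
        rw [mem_fixedSp, hkact, h0, h0, h0, h0]
        simp
    refine ratG_of_involutions''' (dj := 2) (dk := 4) ?_ (pair 0 1 (by decide)).1
      (mul_mem (pair 0 1 (by decide)).1 (pair 2 3 (by decide)).1) hjinv hkinv (fun c _ heq => ?_)
      (fun g hg x hx y hy hx' hy' hxy _ => X.ratG_of_six hA h2 hg (X.le_iso hx) (X.le_iso hy)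
        hx' hy' hxy) hh
    · rcases hbig with (hb | hb) | hb
      rotate_left
      · -- the moved space of an involution of determinant one is even-dimensional
        refine Or.inr (Or.inr (Or.inr (Or.inl ⟨h2, fun w hw hw2 heq => ?_⟩)))
        have hev := even_moved h2 hw2 (omega_det' (X.le hw))
        obtain ⟨m, hm⟩ := hev
        omega
      rotate_left
      · refine Or.inr (Or.inr (Or.inl ⟨by omega, h2, e 0 + f 0, e 2 + f 2, ?_, ?_, ?_, ?_⟩))
        · exact fun h0 => one_ne_zero (α := F) (by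
            rw [← hQa 0, show a 0 = rv F₀ (e 0 + f 0) from rfl, h0, rv_zero', C.zero])
        · exact fun h0 => one_ne_zero (α := F) (by
            rw [← hQa 2, show a 2 = rv F₀ (e 2 + f 2) from rfl, h0, rv_zero', C.zero])
        · show j.val *ᵥ a 0 = -a 0
          rw [hjact, C.self, hQa, hBa 1 0 (by decide)]
          module
        · show k.val *ᵥ a 2 = -a 2
          rw [hkact, C.self, hQa, hBa 0 2 (by decide), hBa 1 2 (by decide), hBa 3 2 (by decide)]
          module
      · exact Or.inr (Or.inl hb.2)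
    have hle : (fixedSp j).map (Matrix.mulVecLin c.val) ≤ LinearMap.ker Ψ := by
      rintro _ ⟨v, hv, rfl⟩
      have hfix : k.val *ᵥ (c.val *ᵥ v) = c.val *ᵥ v := by
        show (j * (rGL Q (a 2) * rGL Q (a 3))).val *ᵥ _ = _
        rw [heq, mul_act, inv_act, mul_act, (mem_fixedSp j v).mp hv]
      refine LinearMap.mem_ker.mpr (funext fun i => ?_)
      show B (a i) (c.val *ᵥ v) = 0
      have h3 := congrArg (B (a i)) hfix
      rw [hkact] at h3
      fin_cases i <;>
      · simp [C.self, hQa, hBa] at h3 ⊢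
        exact h3.resolve_right h2
    have h1 := Submodule.finrank_mono hle
    rw [(Submodule.equivMapOfInjective _ (act_injective c) (fixedSp j)).finrank_eq.symm] at h1
    have h3 := hjinv.2.2.2
    omega

omit X

/-- The rational part of `Ω` is maximal. -/
theorem subfield_one_max (C : Space Q B) (hn : 10 ≤ Fintype.card ι)
    (hbig : (12 ≤ Fintype.card ι ∨ Fintype.card ι = 10) ∨ ((2 : F) ≠ 0 ∧ Odd (Fintype.card ι)))
    (hrat : ∀ u : ι → F, (∀ i, u i ∈ F₀) → Q u ∈ F₀) {r : ℕ} (hr : r.Prime)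
    (hcard : Nat.card F = Nat.card F₀ ^ r) :
    Cfsg.Geo.IsMaximalIn (Cfsg.Geo.omegaGL Q)
      (Cfsg.Geo.subfieldSubgroup F₀ 1 ⊓ Cfsg.Geo.omegaGL Q) := by
  classical
  let Q₀ : (ι → F₀) → F₀ := fun x => ⟨Q (rv F₀ x), hrat _ fun i => (x i).2⟩
  have hpol : ∀ x y, B (rv F₀ x) (rv F₀ y) = ((QuadraticMap.polar Q₀ x y : F₀) : F) := fun x y => by
    rw [← C.polar]
    simp only [QuadraticMap.polar, Q₀, AddSubgroupClass.coe_sub, rv_add]
  let B₀ : LinearMap.BilinForm F₀ (ι → F₀) := LinearMap.mk₂ F₀ (fun x y => QuadraticMap.polar Q₀ x y)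
    (fun a b c => Subtype.ext (by push_cast; rw [← hpol, ← hpol, ← hpol, rv_add]; simp))
    (fun k a b => Subtype.ext (by
      rw [← hpol, rv_smul, map_smul, LinearMap.smul_apply, hpol]; rfl))
    (fun a b c => Subtype.ext (by push_cast; rw [← hpol, ← hpol, ← hpol, rv_add]; simp))
    (fun k a b => Subtype.ext (by rw [← hpol, rv_smul, map_smul, hpol]; rfl))
  have C₀ : Space Q₀ B₀ := by
    refine ⟨fun c x => Subtype.ext ?_, fun _ _ => rfl, fun v hv => ?_⟩
    · push_cast
      show Q (rv F₀ (c • x)) = _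
      rw [rv_smul, C.smul]
    · have h := C.nondeg (rv F₀ v) fun u => by
        have := eq_zero_of_rv (F₀ := F₀) (B.flip (rv F₀ v)) (fun x => by
          show B (rv F₀ x) (rv F₀ v) = 0
          rw [hpol]
          show ((B₀ x v : F₀) : F) = 0
          rw [hv x]
          rfl) u
        exact this
      exact rv_injective F₀ (h.trans rv_zero'.symm)
  have mk : ∀ H : Subgroup (GL ι F), H ≤ Cfsg.Geo.omegaGL Q →
      Cfsg.Geo.subfieldSubgroup F₀ 1 ⊓ Cfsg.Geo.omegaGL Q ≤ H → RatCtx Q B Q₀ B₀ H :=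
    fun H h1 h2 => ⟨C, C₀, fun _ => rfl, hn, h1, fun g hg hgR =>
      h2 ⟨(mem_subfieldSubgroup_one F₀ g).mpr hgR, hg⟩⟩
  refine ⟨lt_of_le_of_ne inf_le_right fun heq => ?_, fun M hLM hMK => ?_⟩
  · have X := mk _ le_rfl inf_le_right
    obtain ⟨s, hs⟩ : ∃ s : F, s ∉ F₀ := by
      by_contra hc
      push Not at hc
      have : Nat.card F₀ = Nat.card F := Nat.card_congr (Equiv.subtypeUnivEquiv hc)
      rw [this] at hcard
      exact hr.ne_one (Nat.pow_right_injective (Finite.one_lt_card (α := F)) (a₁ := 1) (a₂ := r)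
        (by simpa using hcard)).symm
    obtain ⟨e, f, hz, hp⟩ := X.exists_four
    have h1 : Q (rv F₀ (e 0)) = 0 := X.q_rv (hz 0).1
    have h01 : B (rv F₀ (e 0)) (s • rv F₀ (e 1)) = 0 := by
      rw [map_smul, X.b_rv (hp 0 1).1, smul_zero]
    have hmem : sGL Q B (rv F₀ (e 0)) (s • rv F₀ (e 1)) ∈ Cfsg.Geo.subfieldSubgroup F₀ 1 ⊓
        Cfsg.Geo.omegaGL Q := by
      rw [heq, omegaGL_eq C (by omega)]
      exact sGL_mem_root trivial trivial h1 h01
    obtain ⟨c, hc, hrat'⟩ := (mem_subfieldSubgroup_one F₀ _).mp hmem.1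
    have himg : ∀ z : ι → F₀, Ratv F₀
        (c • (sGL Q B (rv F₀ (e 0)) (s • rv F₀ (e 1))).val *ᵥ rv F₀ z) := fun z => by
      refine ⟨Matrix.of (fun i j => (⟨_, hrat' i j⟩ : F₀)) *ᵥ z, funext fun i => ?_⟩
      simp [rv, Matrix.mulVec, dotProduct, Finset.mul_sum, mul_assoc]
    have hne : ∀ i, e i ≠ 0 ∧ f i ≠ 0 := fun i =>
      ⟨fun h => by simpa [h] using (hp i i).2.2, fun h => by simpa [h] using (hp i i).2.2⟩
    have hcm : c ∈ F₀ := by
      have h := himg (f 2)
      rw [sGL_act C h1 h01, C.smul, X.q_rv (hz 1).1, map_smul, LinearMap.smul_apply, X.B_rv,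
        X.B_rv, (hp 0 2).2.2, (hp 1 2).2.2, if_neg (by decide), if_neg (by decide)] at h
      simp only [ZeroMemClass.coe_zero, smul_eq_mul, mul_zero, zero_smul, add_zero, sub_zero] at h
      refine coeff_mem (x := f 2) (y := 0) (b := 0) ?_ (by simpa [rv_zero'] using h)
      simpa using (hne 2).2
    have h := himg (f 0)
    rw [sGL_act C h1 h01, C.smul, X.q_rv (hz 1).1, map_smul, LinearMap.smul_apply, X.B_rv, X.B_rv,
      (hp 0 0).2.2, (hp 1 0).2.2, if_pos rfl, if_neg (by decide)] at h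
    simp only [ZeroMemClass.coe_zero, OneMemClass.coe_one, smul_eq_mul, mul_zero, zero_mul,
      zero_smul, one_smul, add_zero, sub_zero, smul_add, smul_smul] at h
    have hind : e 1 ∉ Submodule.span F₀ {f 0} := fun hm => by
      obtain ⟨t, ht⟩ := Submodule.mem_span_singleton.mp hm
      have h3 := congrArg (B₀ (e 0)) ht
      rw [map_smul, (hp 0 0).2.2, (hp 0 1).1, if_pos rfl, smul_eq_mul, mul_one] at h3
      exact (hne 1).1 (by rw [← ht, h3, zero_smul])
    rw [add_comm] at h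
    have h4 := F₀.mul_mem (F₀.inv_mem hcm) (coeff_mem hind h)
    rw [← mul_assoc, inv_mul_cancel₀ hc, one_mul] at h4
    rw [one_mul] at h4
    exact hs h4
  · rcases (mk M hMK hLM).ratG_or_top hr hcard hbig with h | h
    · exact Or.inl (le_antisymm
        (fun g hg => ⟨(mem_subfieldSubgroup_one F₀ g).mpr (h g hg), hMK hg⟩) hLM)
    · exact Or.inr (le_antisymm hMK h)

omit [Finite F] in
theorem iso_transfer (P : GL ι F) {ζ : F} (hζ : ζ ≠ 0) :
    (isometryGroup F fun v => ζ * Q (P.val *ᵥ v)).map (MulAut.conj P).toMonoidHom =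
      isometryGroup F Q := by
  ext g
  simp only [Subgroup.mem_map, MulEquiv.coe_toMonoidHom, MulAut.conj_apply]
  constructor
  · rintro ⟨h, hh, rfl⟩
    refine mem_iso.mpr fun v => ?_
    have := mem_iso.mp hh ((P⁻¹ : GL ι F).val *ᵥ v)
    rw [mul_right_inj' hζ, act_inv] at this
    rwa [mul_act, mul_act]
  · intro hg
    refine ⟨P⁻¹ * g * P, mem_iso.mpr fun v => ?_, by group⟩
    show ζ * _ = ζ * _
    rw [mul_act, mul_act, act_inv, mem_iso.mp hg]

omit [Finite F] in
theorem omega_transfer (P : GL ι F) {ζ : F} (hζ : ζ ≠ 0) :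
    (Cfsg.Geo.omegaGL fun v => ζ * Q (P.val *ᵥ v)).map (MulAut.conj P).toMonoidHom =
      Cfsg.Geo.omegaGL Q := by
  rw [omegaGL_comm, omegaGL_comm, Subgroup.map_commutator, iso_transfer P hζ]

/-- The subfield groups of `Ω` are maximal, also in dimension ten, and eleven for odd characteristic. -/
theorem subfield_max' (hQ : Cfsg.Geo.IsNondegenerateQuadraticForm Q) (hn : 10 ≤ Fintype.card ι)
    (hbig : (12 ≤ Fintype.card ι ∨ Fintype.card ι = 10) ∨ ((2 : F) ≠ 0 ∧ Odd (Fintype.card ι)))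
    {r : ℕ} (hr : r.Prime) (hcard : Nat.card F = Nat.card F₀ ^ r) (P : GL ι F) {ζ : F}
    (hζ : ζ ≠ 0) (hP : Cfsg.Geo.IsQuadFormRationalStructure (fun v => ζ * Q v) F₀ P) :
    Cfsg.Geo.IsMaximalIn (Cfsg.Geo.omegaGL Q)
      (Cfsg.Geo.subfieldSubgroup F₀ P ⊓ Cfsg.Geo.omegaGL Q) := by
  obtain ⟨B, C⟩ := exists_space hQ
  let T := Matrix.mulVecLin P.val
  have C' : Space (fun v => ζ * Q (P.val *ᵥ v)) (ζ • B.compl₁₂ T T) := by
    refine ⟨fun c v => ?_, fun u v => ?_, fun v hv => ?_⟩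
    · show ζ * Q _ = _
      rw [Matrix.mulVec_smul, C.smul]; ring
    · simp only [QuadraticMap.polar, Matrix.mulVec_add, C.add]
      simp [T]
      ring
    · refine act_injective P ?_
      show P.val *ᵥ v = P.val *ᵥ 0
      rw [Matrix.mulVec_zero]
      refine C.nondeg _ fun u => ?_
      have := hv ((P⁻¹ : GL ι F).val *ᵥ u)
      simpa [T, hζ, act_inv] using this
  have h1 := subfield_one_max (F₀ := F₀) C' hn hbig hP hr hcard
  set φ := MulAut.conj P with hφ
  have hinj : Function.Injective φ.toMonoidHom := φ.injective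
  have hmap : (Cfsg.Geo.subfieldSubgroup F₀ 1 ⊓
      Cfsg.Geo.omegaGL fun v => ζ * Q (P.val *ᵥ v)).map φ.toMonoidHom =
      Cfsg.Geo.subfieldSubgroup F₀ P ⊓ Cfsg.Geo.omegaGL Q := by
    rw [Subgroup.map_inf _ _ _ hinj, omega_transfer P hζ]
    congr 1
    rw [Cfsg.Geo.subfieldSubgroup, Cfsg.Geo.subfieldSubgroup, Subgroup.map_map]
    congr 1
    ext g
    simp [hφ]
  refine ⟨?_, fun M hLM hMK => ?_⟩
  · rw [← hmap, ← omega_transfer (Q := Q) P hζ]
    exact (Subgroup.map_lt_map_iff_of_injective hinj).mpr h1.1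
  · have hM : (M.comap φ.toMonoidHom).map φ.toMonoidHom = M :=
      Subgroup.map_comap_eq_self_of_surjective φ.surjective M
    rcases h1.2 (M.comap φ.toMonoidHom)
        (Subgroup.map_le_iff_le_comap.mp (hmap ▸ hLM))
        ((Subgroup.map_le_map_iff_of_injective hinj).mp
          (by rw [hM, omega_transfer P hζ]; exact hMK)) with h | h
    · left; rw [← hM, h, hmap]
    · right; rw [← hM, h, omega_transfer P hζ]

/-- The subfield groups of `Ω` are maximal. -/
theorem subfield_max (hQ : Cfsg.Geo.IsNondegenerateQuadraticForm Q) (hn : 13 ≤ Fintype.card ι)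
    {r : ℕ} (hr : r.Prime) (hcard : Nat.card F = Nat.card F₀ ^ r) (P : GL ι F) {ζ : F}
    (hζ : ζ ≠ 0) (hP : Cfsg.Geo.IsQuadFormRationalStructure (fun v => ζ * Q v) F₀ P) :
    Cfsg.Geo.IsMaximalIn (Cfsg.Geo.omegaGL Q)
      (Cfsg.Geo.subfieldSubgroup F₀ P ⊓ Cfsg.Geo.omegaGL Q) :=
  subfield_max' hQ (by omega) (Or.inl (Or.inl (by omega))) hr hcard P hζ hP

end Cfsg.Lib.Linear.OrthSub
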