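import Cfsg.Agent.Lib.Linear.OrthSplitSix
import Cfsg.Agent.Lib.Linear.OrthBlocksOf

/-!
# Helpers for the geometric subgroups of ten-dimensional orthogonal groups
-/

set_option autoImplicit false

namespace Cfsg.Lib.Linear.OrthTen

open Module Cfsg.Lib.Linear.Orth
open scoped Matrix

variable {ι : Type} [Fintype ι] [DecidableEq ι] {F : Type*} [Field F]
  {Q : (ι → F) → F} {B : LinearMap.BilinForm F (ι → F)}

/-- A non-degenerate plane that is not of plus type is anisotropic. -/
theorem aniso_of_not_plus (C : Space Q B) {W : Submodule F (ι → F)} (h2 : finrank F W = 2)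
    (hnp : ¬ Cfsg.Geo.IsPlusTypeOn Q W) : ∀ x ∈ W, Q x = 0 → x = 0 := fun x hx hQx => by
  by_contra hx0
  refine hnp ⟨Submodule.span F {x}, (Submodule.span_singleton_le_iff_mem x W).mpr hx,
    fun w hw => ?_, ?_⟩
  · obtain ⟨c, rfl⟩ := Submodule.mem_span_singleton.mp hw
    rw [C.smul, hQx, mul_zero]
  · rw [finrank_span_singleton hx0, h2]

/-- A non-degenerate line is anisotropic. -/
theorem aniso_of_line (C : Space Q B) {W : Submodule F (ι → F)} (hW : NDeg B W)
    (h1 : finrank F W = 1) : ∀ x ∈ W, Q x = 0 → x = 0 := fun x hx hQx => by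
  by_contra hx0
  have hle : Submodule.span F {x} ≤ W := (Submodule.span_singleton_le_iff_mem x W).mpr hx
  have heq := Submodule.eq_of_le_of_finrank_eq hle (by rw [finrank_span_singleton hx0, h1])
  refine hx0 (hW x hx fun y hy => ?_)
  rw [← heq] at hy
  obtain ⟨c, rfl⟩ := Submodule.mem_span_singleton.mp hy
  rw [map_smul, C.self_zero hQx, smul_zero]

/-- The stabiliser of a non-degenerate subspace with a part of dimension at most four. -/
theorem nondeg_max_ten [Finite F] (C : Space Q B) (hn : Fintype.card ι = 10)
    {W : Submodule F (ι → F)} (hW : NDeg B W) (h0 : finrank F W ≠ 0) (h10 : finrank F W < 10)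
    (h5 : finrank F W ≠ 5) (h8 : finrank F W ≠ 8)
    (hex : finrank F W = 2 → (∀ x ∈ W, Q x = 0 → x = 0) ∨ 4 ≤ Nat.card F) :
    Cfsg.Geo.IsMaximalIn (Cfsg.Geo.omegaGL Q)
      (Cfsg.Geo.subspaceStabilizer W ⊓ Cfsg.Geo.omegaGL Q) := by
  have S := split_of_ndeg C hW
  have hadd := S.finrank_add C
  by_cases hbig : finrank F W < finrank F (perpIn B ⊤ W)
  · refine split_max_six C S (by omega) (fun h => h0 (by rw [h, finrank_bot])) hbig ?_
    by_cases h1 : finrank F W = 1
    · exact Or.inl (aniso_of_line C hW h1)
    by_cases h2 : finrank F W = 2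
    · exact (hex h2).imp id Or.inr
    · exact Or.inr (Or.inl (by omega))
  · rw [S.stab_eq C]
    refine split_max_six C (S.swap C) (by omega) (fun h => ?_) (by omega) ?_
    · rw [h, finrank_bot] at hadd
      omega
    by_cases h1 : finrank F (perpIn B ⊤ W) = 1
    · exact Or.inl (aniso_of_line C S.ndU h1)
    · exact Or.inr (Or.inl (by omega))

/-- An orthogonal decomposition into plus type parts gives plus type. -/
theorem plus_of_all_plus (C : Space Q B) {t k : ℕ} {D : Fin t → Submodule F (ι → F)}
    (hD : Cfsg.Geo.IsNondegenerateMDecomposition (QuadraticMap.polar Q) k D)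
    (hp : ∀ i, Cfsg.Geo.IsPlusTypeOn Q (D i)) : Cfsg.Geo.IsPlusTypeOn Q ⊤ := by
  classical
  choose U hU hts hdim using hp
  refine ⟨iSup U, le_top, fun w hw => ?_, ?_⟩
  · have horth : ∀ i, ∀ x ∈ U i, ∀ y ∈ iSup U, B x y = 0 := fun i x hx y hy => by
      refine Submodule.iSup_induction (p := U) (motive := fun y => B x y = 0) hy ?_ (map_zero _) ?_
      · intro j z hz
        by_cases hij : i = j
        · subst hij
          have h := hts i _ ((U i).add_mem hx hz)
          rw [C.add, hts i _ hx, hts i _ hz] at h
          simpa using h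
        · rw [← C.polar]; exact hD.orthogonal i j hij x (hU i hx) z (hU j hz)
      · intro a b ha hb
        rw [map_add, ha, hb, add_zero]
    suffices h : w ∈ iSup U ∧ Q w = 0 from h.2
    refine Submodule.iSup_induction (p := U) (motive := fun y => y ∈ iSup U ∧ Q y = 0) hw ?_
      ⟨Submodule.zero_mem _, C.zero⟩ ?_
    · exact fun j z hz => ⟨Submodule.mem_iSup_of_mem j hz, hts j _ hz⟩
    · rintro a b ⟨ha, hQa⟩ ⟨hb, hQb⟩
      refine ⟨Submodule.add_mem _ ha hb, ?_⟩
      have hab : B a b = 0 := by
        refine Submodule.iSup_induction (p := U) (motive := fun y => B y b = 0) ha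
          (fun j z hz => horth j z hz b hb) (by simp) ?_
        intro c d hc hd
        rw [map_add, LinearMap.add_apply, hc, hd, add_zero]
      rw [C.add, hQa, hQb, hab]
      simp
  · have hind : iSupIndep U := hD.decomp.indep.mono fun i => hU i
    have hint := DirectSum.isInternal_submodule_of_iSupIndep_of_iSup_eq_top hD.decomp.indep
      hD.decomp.iSup_eq_top
    have h1 := finrank_eq_card_basis (hint.collectedBasis fun i => Module.finBasis F (D i))
    simp only [Fintype.card_sigma, Fintype.card_fin] at h1
    have hinj : Function.Injective (DirectSum.coeLinearMap U) := hind.dfinsupp_lsum_injective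
    have h2 := LinearMap.finrank_range_of_inj hinj
    rw [DirectSum.range_coeLinearMap, Module.finrank_directSum] at h2
    rw [h2, Finset.mul_sum, finrank_top, h1]
    refine Finset.sum_congr rfl fun i _ => ?_
    exact hdim i

end Cfsg.Lib.Linear.OrthTen
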