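import Cfsg.Agent.Lib.Linear.OrthSplitFlex
import Cfsg.Agent.Lib.Linear.OrthSplitMax
import Cfsg.Agent.Lib.Linear.OrthStdBasis

/-!
# Stabilisers of a four-space facing a three-space in odd characteristic

The conjugates of the root elements of the four-space `U` with one centre form a three-space `A`.
If the centre `x` of the conjugate lies in neither part, moving `A` by the root elements of both
parts fixing `x` produces a singular vector of a part with a mixed root element, unless `A` contains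
the perpendicular in the three-space of the part of `x`.
-/

set_option autoImplicit false

namespace Cfsg.Lib.Linear.OrthLow

open Module Cfsg.Lib.Linear.Orth
open scoped Matrix

variable {ι : Type} [Fintype ι] [DecidableEq ι] {F : Type*} [Field F]
  {Q : (ι → F) → F} {B : LinearMap.BilinForm F (ι → F)}

/-- A non-degenerate subspace of dimension at least two represents every value. -/
theorem exists_val [Finite F] (C : Space Q B) (h2 : (2 : F) ≠ 0) {P : Submodule F (ι → F)}
    (hP : NDeg B P) (hd : 2 ≤ finrank F P) {d : F} (hd0 : d ≠ 0) : ∃ v ∈ P, Q v = d := by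
  haveI := Fintype.ofFinite F
  by_cases hz : ∃ z ∈ P, z ≠ 0 ∧ Q z = 0
  · obtain ⟨z, hzP, hz0, hQz⟩ := hz
    obtain ⟨f, hf⟩ := exists_hyp C hP hzP hz0 hQz
    exact ⟨d • z + f, P.add_mem (P.smul_mem d hzP) hf.memF, by
      rw [C.add, C.smul, hQz, hf.singF, map_smul, LinearMap.smul_apply, hf.pair]; simp⟩
  push Not at hz
  have h3 : finrank F P ≤ 2 := by
    by_contra h
    obtain ⟨z, hzP, hz0, hQz⟩ := Sing.exists_singular C.smul C.polar P (by omega)
    exact hz z hzP hz0 hQz
  exact plane_value C hP (by omega) hd0 fun w hw hQw => by_contra fun h0 => hz w hw h0 hQw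

/-- The action of a Siegel element minus the identity, in two opposite directions. -/
theorem move_pm (C : Space Q B) {s a : ι → F} (hs : Q s = 0) (hsa : B s a = 0) (r : ι → F) :
    ((sGL Q B s a).val *ᵥ r - r) + ((sGL Q B s (-a)).val *ᵥ r - r) =
      (-(2 * Q a * B s r)) • s := by
  rw [sGL_act C hs hsa, sGL_act C hs (by rw [map_neg, hsa, neg_zero]), C.neg]
  simp only [map_neg, LinearMap.neg_apply]
  module

/-- The hypotheses. -/
structure LowCtx (Q : (ι → F) → F) (B : LinearMap.BilinForm F (ι → F))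
    (H : Subgroup (GL ι F)) (U W : Submodule F (ι → F)) : Prop where
  space : Space Q B
  split : Split Q B U W
  dimU : finrank F U = 4
  dimW : finrank F W = 3
  two : (2 : F) ≠ 0
  le_iso : H ≤ isometryGroup F Q
  rootU : Root Q B U ≤ H
  rootW : Root Q B W ≤ H
  lift : ∀ v ∈ W, Q v ≠ 0 → ∃ h ∈ H, (∀ u ∈ U, h.val *ᵥ u ∈ U) ∧
    ∀ x ∈ W, h.val *ᵥ x = (rGL Q v).val *ᵥ x

section Ctx

variable [Finite F] {H : Subgroup (GL ι F)} {U W : Submodule F (ι → F)}
  (X : LowCtx Q B H U W)

include X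

/-- A hyperbolic vector goes to every multiple of its partner. -/
theorem LowCtx.to_partner {e f : ι → F} (h : Hyp Q B U e f) {c : F} (hc : c ≠ 0) :
    ∃ k ∈ Root Q B U, k.val *ᵥ e = c • f := by
  have C := X.space
  obtain ⟨a, ha, hQa⟩ := exists_val C X.two (h.ndeg C X.split.ndU)
    (by have := h.le_finrank C; have := X.dimU; omega) (neg_ne_zero.mpr hc)
  obtain ⟨haU, hea, hfa⟩ := mem_perp2.mp ha
  have hb : B e ((-c⁻¹) • a) = 0 := by rw [map_smul, hea, smul_zero]
  refine ⟨sGL Q B e ((-c⁻¹) • a) * sGL Q B f a, mul_mem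
    (sGL_mem_root h.memE (U.smul_mem _ haU) h.singE hb) (sGL_mem_root h.memF haU h.singF hfa), ?_⟩
  have h1 : (sGL Q B f a).val *ᵥ e = e + a + c • f := by
    rw [sGL_act C h.singF hfa, C.symm f e, h.pair, C.symm a e, hea, hQa]
    module
  have h3 : B e (e + a + c • f) = c := by
    rw [map_add, map_add, map_smul, C.self_zero h.singE, hea, h.pair]; simp
  have h4 : B ((-c⁻¹) • a) (e + a + c • f) = 2 := by
    rw [map_smul, LinearMap.smul_apply, map_add, map_add, map_smul, C.symm a e, hea, C.symm a f,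
      hfa, C.self, hQa, smul_zero, add_zero, zero_add, smul_eq_mul]
    field_simp
  have h5 : Q ((-c⁻¹) • a) * c = -1 := by
    rw [C.smul, hQa]; field_simp
  rw [mul_act, h1, sGL_act C h.singE hb, h3, h4, h5]
  match_scalars <;> field_simp <;> ring

/-- Transitivity on the non-zero singular vectors of `U`. -/
theorem LowCtx.trans {x y : ι → F} (hx : x ∈ U) (hy : y ∈ U) (hx0 : x ≠ 0) (hy0 : y ≠ 0)
    (hQx : Q x = 0) (hQy : Q y = 0) : ∃ k ∈ Root Q B U, k.val *ᵥ x = y := by
  have C := X.space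
  have direct : ∀ {x y : ι → F}, x ∈ U → y ∈ U → Q x = 0 → Q y = 0 → B x y ≠ 0 →
      ∃ k ∈ Root Q B U, k.val *ᵥ x = y := by
    intro x y hx hy hQx hQy hxy
    obtain ⟨k, hk, hke⟩ := X.to_partner (e := x) (f := (B x y)⁻¹ • y) ⟨hx, U.smul_mem _ hy, hQx,
      by rw [C.smul, hQy, mul_zero], by rw [map_smul, smul_eq_mul, inv_mul_cancel₀ hxy]⟩ hxy
    exact ⟨k, hk, by rw [hke, smul_smul, mul_inv_cancel₀ hxy, one_smul]⟩
  by_cases hxy : B x y = 0
  swap
  · exact direct hx hy hQx hQy hxy
  obtain ⟨f, hf⟩ := exists_hyp C X.split.ndU hx hx0 hQx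
  obtain ⟨z, hz, hQz, hxz, hyz⟩ : ∃ z ∈ U, Q z = 0 ∧ B x z ≠ 0 ∧ B z y ≠ 0 := by
    by_cases hyf : B f y = 0
    swap
    · exact ⟨f, hf.memF, hf.singF, by rw [hf.pair]; exact one_ne_zero, hyf⟩
    have hyP : y ∈ perp2 B U x f := mem_perp2.mpr ⟨hy, hxy, hyf⟩
    obtain ⟨a, ha, hya⟩ : ∃ a ∈ perp2 B U x f, B y a ≠ 0 := by
      by_contra h
      push Not at h
      exact hy0 (hf.ndeg C X.split.ndU y hyP h)
    obtain ⟨haU, hxa, hfa⟩ := mem_perp2.mp ha
    refine ⟨f + a - Q a • x, U.sub_mem (U.add_mem hf.memF haU) (U.smul_mem _ hx), ?_, ?_, ?_⟩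
    · have h := mem_iso.mp (sGL_mem C hQx hxa) f
      rw [sGL_act C hQx hxa, hf.pair, C.symm a f, hfa, hf.singF] at h
      simpa using h
    · rw [map_sub, map_add, map_smul, hf.pair, hxa, C.self_zero hQx]; simp
    · rw [C.symm, map_sub, map_add, map_smul, C.symm y f, hyf, C.symm y x, hxy]
      simpa using hya
  obtain ⟨k, hk, hkx⟩ := direct hx hz hQx hQz hxz
  obtain ⟨l, hl, hlz⟩ := direct hz hy hQz hQy hyz
  exact ⟨l * k, mul_mem hl hk, by rw [mul_act, hkx, hlz]⟩

theorem LowCtx.roots_conj {v a : ι → F} (hv : Q v = 0) (ha : a ∈ rootsAt Q B X.space H v hv)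
    {g : GL ι F} (hg : g ∈ H) (hgv : g.val *ᵥ v = v) :
    g.val *ᵥ a ∈ rootsAt Q B X.space H v hv := by
  have C := X.space
  refine ⟨?_, fun c => ?_⟩
  · have := C.B_act (X.le_iso hg) v a
    rw [hgv, ha.1] at this
    exact this
  · have h := sGL_conj C hv (show B v (c • a) = 0 by rw [map_smul, ha.1, smul_zero]) (X.le_iso hg)
    rw [hgv, Matrix.mulVec_smul] at h
    rw [← h]
    exact mul_mem (mul_mem hg (ha.2 c)) (inv_mem hg)

/-- A singular vector of `U` whose root elements in `H` reach into `W` has all of them in `H`. -/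
theorem LowCtx.centre_of_mixed {v w : ι → F} (hvU : v ∈ U) (hv : Q v = 0) (hv0 : v ≠ 0)
    (hwW : w ∈ W) (hw0 : w ≠ 0) (hw : w ∈ rootsAt Q B X.space H v hv) : Centre Q B H v := by
  have C := X.space
  have S := X.split
  set R := rootsAt Q B C H v hv with hR
  have hM : R ⊓ W = W := by
    refine invariant_eq C S (Or.inr (Or.inl X.dimW.ge)) inf_le_right
      (Submodule.mem_inf.mpr ⟨hw, hwW⟩) hw0
      (fun z hz hQz x hx => ?_) (fun u hu a ha hQu hua x hx => ?_)
    · obtain ⟨hxR, hxW⟩ := Submodule.mem_inf.mp hx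
      obtain ⟨h, hh, hhU, hhW⟩ := X.lift z hz hQz
      obtain ⟨k, hk, hkv⟩ := X.trans (hhU v hvU) hvU (act_ne_zero hv0) hv0
        (by rw [mem_iso.mp (X.le_iso hh), hv]) hv
      have hrW : (rGL Q z).val *ᵥ x ∈ W := by
        rw [rGL_act C hQz]
        exact W.sub_mem hxW (W.smul_mem _ hz)
      have h1 := X.roots_conj hv hxR (mul_mem (X.rootU hk) hh) (by rw [mul_act, hkv])
      rw [mul_act, hhW x hxW, (root_act C hk _).2 fun z hz => S.orth z hz _ hrW] at h1
      exact Submodule.mem_inf.mpr ⟨h1, hrW⟩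
    · obtain ⟨hxR, hxW⟩ := Submodule.mem_inf.mp hx
      have hg := sGL_mem_root hu ha hQu hua
      refine Submodule.mem_inf.mpr ⟨X.roots_conj hv hxR (X.rootW hg) ?_, root_mem_U C hg hxW⟩
      exact (root_act C hg v).2 fun w hw => by rw [C.symm]; exact S.orth v hvU w hw
  intro a ha
  obtain ⟨p, hp, q, hq, rfl⟩ := S.parts C a
  rw [map_add, S.orth v hvU q hq, add_zero] at ha
  have hqR : q ∈ R := (Submodule.mem_inf.mp (hM.symm ▸ hq : q ∈ R ⊓ W)).1
  have hpR : p ∈ R := ⟨ha, fun c => X.rootU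
    (sGL_mem_root hvU (U.smul_mem c hp) hv (by rw [map_smul, ha, smul_zero]))⟩
  simpa using (R.add_mem hpR hqR).2 1

theorem LowCtx.omega_le_of_mixed {v w : ι → F} (hvU : v ∈ U) (hv : Q v = 0) (hv0 : v ≠ 0)
    (hwW : w ∈ W) (hw0 : w ≠ 0) (hw : w ∈ rootsAt Q B X.space H v hv) :
    Cfsg.Geo.omegaGL Q ≤ H := by
  have C := X.space
  have S := X.split
  obtain ⟨f, hf⟩ := exists_hyp C S.ndU hvU hv0 hv
  have hf0 : f ≠ 0 := fun h => by
    have := hf.pair; rw [h, map_zero] at this; exact zero_ne_one this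
  obtain ⟨k, hk, hkv⟩ := X.trans hvU hf.memF hv0 hf0 hv hf.singF
  have hkw : k.val *ᵥ w = w := (root_act C hk w).2 fun z hz => S.orth z hz w hwW
  have hwf : w ∈ rootsAt Q B C H f hf.singF := by
    refine ⟨?_, fun c => ?_⟩
    · rw [← hkv, ← hkw, C.B_act (X.le_iso (X.rootU hk)), hw.1]
    · have h := sGL_conj C hv (show B v (c • w) = 0 by rw [map_smul, hw.1, smul_zero])
        (X.le_iso (X.rootU hk))
      rw [hkv, Matrix.mulVec_smul, hkw] at h
      rw [← h]
      exact mul_mem (mul_mem (X.rootU hk) (hw.2 c)) (inv_mem (X.rootU hk))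
  refine omega_le_of_two C ?_ X.le_iso hv hf.singF (by rw [hf.pair]; exact one_ne_zero)
    (X.centre_of_mixed hvU hv hv0 hwW hw0 hw) (X.centre_of_mixed hf.memF hf.singF hf0 hwW hw0 hwf)
  have := S.finrank_add C
  have := X.dimU
  have := X.dimW
  omega

/-- A singular vector of `W` whose root elements in `H` reach into `U` gives `Ω`. -/
theorem LowCtx.omega_le_of_wpoint {w n : ι → F} (hwW : w ∈ W) (hw : Q w = 0) (hw0 : w ≠ 0)
    (hnU : n ∈ U) (hn0 : n ≠ 0) (hn : n ∈ rootsAt Q B X.space H w hw) :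
    Cfsg.Geo.omegaGL Q ≤ H := by
  have C := X.space
  have S := X.split
  obtain ⟨u, hu, hu0, hQu, huR⟩ : ∃ u ∈ U, u ≠ 0 ∧ Q u = 0 ∧ u ∈ rootsAt Q B C H w hw := by
    by_cases hQn : Q n = 0
    · exact ⟨n, hnU, hn0, hQn, hn⟩
    obtain ⟨u, hu, hu0, hQu⟩ := Sing.exists_singular C.smul C.polar
      (perpIn B U (Submodule.span F {n})) (by
        have := finrank_perpIn (B := B) U (Submodule.span F {n})
        have := finrank_span_one_le n
        have := X.dimU
        omega)
    refine ⟨u, hu.1, hu0, hQu, slide C X.le_iso S X.rootU hw hn U.zero_mem hwW (zero_add w).symm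
      hnU W.zero_mem (add_zero n).symm hu.1 hQu (map_zero _) ?_ fun h => hQn ?_⟩
    · rw [C.symm]; exact hu.2 n (Submodule.mem_span_singleton_self n)
    · obtain ⟨a, b, rfl⟩ := Submodule.mem_span_pair.mp h
      simp [C.smul, hQu]
  have hp : RPair Q B H u w := RPair.symm C ⟨hw, hQu, huR.1, huR.2⟩
  exact X.omega_le_of_mixed hu hQu hu0 hwW hw0 ⟨hp.2.2.1, hp.2.2.2⟩

/-- Root elements with centre `x` along a singular vector of `U` perpendicular to `x`. -/
theorem LowCtx.omega_le_of_upart {x xU xW s : ι → F} (hx : Q x = 0) (hxU : xU ∈ U) (hxW : xW ∈ W)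
    (hxe : x = xU + xW) (hxW0 : xW ≠ 0) (hs : s ∈ U) (hQs : Q s = 0) (hs0 : s ≠ 0)
    (hsR : s ∈ rootsAt Q B X.space H x hx) : Cfsg.Geo.omegaGL Q ≤ H := by
  have C := X.space
  have S := X.split
  have hp : RPair Q B H s x := RPair.symm C ⟨hx, hQs, hsR.1, hsR.2⟩
  have hxR : x ∈ rootsAt Q B C H s hQs := ⟨hp.2.2.1, hp.2.2.2⟩
  have hsx : B s xU = 0 := by rw [← S.B_left C hs hxW, ← hxe]; exact hp.2.2.1
  have hxUR : xU ∈ rootsAt Q B C H s hQs := ⟨hsx, fun c => X.rootU
    (sGL_mem_root hs (U.smul_mem c hxU) hQs (by rw [map_smul, hsx, smul_zero]))⟩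
  refine X.omega_le_of_mixed hs hQs hs0 hxW hxW0 ?_
  have := Submodule.sub_mem _ hxR hxUR
  rwa [hxe, add_sub_cancel_left] at this

/-- The move of a root vector at `x` by a root element of a part fixing `x`. -/
theorem LowCtx.move_mem {x s a r : ι → F} (hx : Q x = 0) (hr : r ∈ rootsAt Q B X.space H x hx)
    (hs : Q s = 0) (hsa : B s a = 0) (hg : sGL Q B s a ∈ H) (hsx : B s x = 0) (hax : B a x = 0) :
    (sGL Q B s a).val *ᵥ r - r ∈ rootsAt Q B X.space H x hx := by
  refine Submodule.sub_mem _ (X.roots_conj hx hr hg ?_) hr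
  rw [sGL_act X.space hs hsa, hsx, hax]
  simp

/-- The image of a singular vector of `U` lies in `U`, or gives `Ω`, or has its perpendicular in
`W` inside the image of `U`. -/
theorem LowCtx.point {g : GL ι F} (hg : g ∈ H) {v : ι → F} (hv : v ∈ U) (hQv : Q v = 0)
    (hv0 : v ≠ 0) {xU xW : ι → F} (hxU : xU ∈ U) (hxW : xW ∈ W) (hxe : g.val *ᵥ v = xU + xW) :
    Cfsg.Geo.omegaGL Q ≤ H ∨ xW = 0 ∨
      (Q xW ≠ 0 ∧ perpIn B W (Submodule.span F {xW}) ≤ U.map (Matrix.mulVecLin g.val)) := by
  by_cases hΩ : Cfsg.Geo.omegaGL Q ≤ H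
  · exact Or.inl hΩ
  by_cases hxW0 : xW = 0
  · exact Or.inr (Or.inl hxW0)
  right; right
  have C := X.space
  have S := X.split
  have hI := X.le_iso hg
  set x := g.val *ᵥ v with hxdef
  have hx : Q x = 0 := by rw [hxdef, mem_iso.mp hI, hQv]
  set R := rootsAt Q B C H x hx with hR
  set A := (perpIn B U (Submodule.span F {v})).map (Matrix.mulVecLin g.val) with hA
  have hAd : 3 ≤ finrank F A := by
    rw [hA, ← (Submodule.equivMapOfInjective _ (act_injective g) _).finrank_eq]
    have := finrank_perpIn (B := B) U (Submodule.span F {v})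
    rw [finrank_span_singleton hv0] at this
    have := X.dimU
    omega
  have hAR : A ≤ R := by
    rintro _ ⟨q, hq, rfl⟩
    have hvq : B v q = 0 := hq.2 v (Submodule.mem_span_singleton_self v)
    refine ⟨by show B x (g.val *ᵥ q) = 0; rw [hxdef, C.B_act hI, hvq], fun c => ?_⟩
    have hvc : B v (c • q) = 0 := by rw [map_smul, hvq, smul_zero]
    have h := sGL_conj C hQv hvc hI
    show sGL Q B x (c • g.val *ᵥ q) ∈ H
    rw [hxdef, ← Matrix.mulVec_smul, ← h]
    exact mul_mem (mul_mem hg (X.rootU (sGL_mem_root hv (U.smul_mem c hq.1) hQv hvc))) (inv_mem hg)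
  have hxA : x ∈ A := ⟨v, ⟨hv, fun w hw => by
    obtain ⟨c, rfl⟩ := Submodule.mem_span_singleton.mp hw
    rw [map_smul, LinearMap.smul_apply, C.self_zero hQv, smul_zero]⟩, rfl⟩
  have hxR : x ∈ R := hAR hxA
  have hpart : ∀ r ∈ R, ∀ {p q : ι → F}, p ∈ U → q ∈ W → r = p + q →
      B xU p + B xW q = 0 := by
    intro r hr p q hp hq he
    have h : B (xU + xW) (p + q) = 0 := by rw [← hxe, ← he]; exact hr.1
    simp only [map_add, LinearMap.add_apply, S.orth xU hxU q hq,
      show B xW p = 0 by rw [C.symm]; exact S.orth p hp xW hxW, add_zero, zero_add] at h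
    exact h
  have hsum : Q xU + Q xW = 0 := by
    have h := hx
    rwa [hxe, C.add, S.orth xU hxU xW hxW, add_zero] at h
  have hBU : ∀ s ∈ U, B s x = B s xU := fun s hs => by rw [hxe, S.B_left C hs hxW]
  have hBW : ∀ s ∈ W, B s x = B s xW := fun s hs => by
    rw [hxe, add_comm, (S.swap C).B_left C hs hxU]
  by_cases hxU0 : xU = 0
  · exfalso
    have hxW' : x = xW := by rw [hxe, hxU0, zero_add]
    have hQW : Q xW = 0 := hxW' ▸ hx
    have hsub : A ≤ perpIn B W (Submodule.span F {xW}) := fun r hr => by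
      obtain ⟨p, hp, q, hq, rfl⟩ := S.parts C r
      have h0 := hpart _ (hAR hr) hp hq rfl
      rw [hxU0, map_zero, LinearMap.zero_apply, zero_add] at h0
      have hqR : q ∈ R := ⟨by rw [hxW']; exact h0, fun c => by
        rw [hxW']
        exact X.rootW (sGL_mem_root hxW (W.smul_mem c hq) hQW (by rw [map_smul, h0, smul_zero]))⟩
      have hpR : p ∈ R := by
        have := R.sub_mem (hAR hr) hqR
        rwa [add_sub_cancel_right] at this
      have hp0 : p = 0 := by
        by_contra hp0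
        exact hΩ (X.omega_le_of_wpoint hxW hQW hxW0 hp hp0
          ⟨by rw [← hxW']; exact hpR.1, fun c => by rw [← hxW']; exact hpR.2 c⟩)
      rw [hp0, zero_add]
      exact ⟨hq, fun z hz => by
        obtain ⟨c, rfl⟩ := Submodule.mem_span_singleton.mp hz
        rw [map_smul, LinearMap.smul_apply, h0, smul_zero]⟩
    obtain ⟨f, hf⟩ := exists_hyp C S.ndW hxW hxW0 hQW
    have hlt : perpIn B W (Submodule.span F {xW}) < W := lt_of_le_of_ne (fun z hz => hz.1) fun h => by
      have h1 : f ∈ perpIn B W (Submodule.span F {xW}) := by rw [h]; exact hf.memF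
      have := h1.2 xW (Submodule.mem_span_singleton_self xW)
      rw [hf.pair] at this
      exact one_ne_zero this
    have := Submodule.finrank_lt_finrank_of_lt hlt
    have := Submodule.finrank_mono hsub
    have := X.dimW
    omega
  by_cases hQW : Q xW = 0
  · exfalso
    have hQU : Q xU = 0 := by rwa [hQW, add_zero] at hsum
    have done : xU ∈ R → False := fun h =>
      hΩ (X.omega_le_of_upart hx hxU hxW hxe hxW0 hxU hQU hxU0 h)
    have doneW : xW ∈ R → False := fun h => done (by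
      have := R.sub_mem hxR h
      rwa [hxe, add_sub_cancel_right] at this)
    obtain ⟨fU, hfU⟩ := exists_hyp C S.ndU hxU hxU0 hQU
    obtain ⟨fW, hfW⟩ := exists_hyp C S.ndW hxW hxW0 hQW
    have hsub : A ≤ Submodule.span F {xU, xW} := fun r hr => by
      obtain ⟨p, hp, q, hq, rfl⟩ := S.parts C r
      have h0 := hpart _ (hAR hr) hp hq rfl
      have hg' : ∀ a ∈ U, B xU a = 0 → (sGL Q B xU a).val *ᵥ (p + q) - (p + q) ∈ R :=
        fun a ha hxa => X.move_mem hx (hAR hr) hQU hxa (X.rootU (sGL_mem_root hxU ha hQU hxa))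
          (by rw [hBU xU hxU, C.self_zero hQU]) (by rw [hBU a ha, C.symm, hxa])
      have hp1 : B xU p = 0 := by
        by_contra hne
        obtain ⟨a, ha, hQa⟩ := exists_nonsing C (hfU.ndeg C S.ndU) (fun h => by
          have := hfU.le_finrank C
          rw [h, finrank_bot] at this
          have := X.dimU
          omega)
        obtain ⟨haU, hxa, -⟩ := mem_perp2.mp ha
        have h := R.add_mem (hg' a haU hxa) (hg' (-a) (U.neg_mem haU) (by rw [map_neg, hxa, neg_zero]))
        rw [move_pm C hQU hxa, S.B_left C hxU hq] at h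
        exact done ((Submodule.smul_mem_iff R
          (neg_ne_zero.mpr (mul_ne_zero (mul_ne_zero X.two hQa) hne))).mp h)
      have hq1 : B xW q = 0 := by rwa [hp1, zero_add] at h0
      have hd : ∀ a ∈ perp2 B U xU fU, B a p = 0 := fun a ha => by
        by_contra hne
        obtain ⟨haU, hxa, -⟩ := mem_perp2.mp ha
        have h := hg' a haU hxa
        rw [sGL_act C hQU hxa, S.B_left C hxU hq, hp1, S.B_left C haU hq] at h
        simp only [zero_smul, add_zero, mul_zero, sub_sub_cancel_left] at h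
        exact done ((Submodule.smul_mem_iff R hne).mp (by simpa using R.neg_mem h))
      have hd' : ∀ a ∈ perp2 B W xW fW, B a q = 0 := fun a ha => by
        by_contra hne
        obtain ⟨haW, hxa, -⟩ := mem_perp2.mp ha
        have h := X.move_mem hx (hAR hr) hQW hxa (X.rootW (sGL_mem_root hxW haW hQW hxa))
          (by rw [hBW xW hxW, C.self_zero hQW]) (by rw [hBW a haW, C.symm, hxa])
        rw [sGL_act C hQW hxa, add_comm p q, (S.swap C).B_left C hxW hp, hq1,
          (S.swap C).B_left C haW hp] at h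
        simp only [zero_smul, add_zero, mul_zero, sub_sub_cancel_left] at h
        exact doneW ((Submodule.smul_mem_iff R hne).mp (by simpa using R.neg_mem h))
      have line : ∀ {P : Submodule F (ι → F)}, NDeg B P → ∀ {e f z : ι → F}, Hyp Q B P e f →
          z ∈ P → B e z = 0 → (∀ a ∈ perp2 B P e f, B a z = 0) → z = B f z • e := by
        intro P hP e f z h hz hez hall
        have hzp := h.proj C hz
        rw [hez, zero_smul, sub_zero] at hzp
        refine sub_eq_zero.mp (h.ndeg C hP _ hzp fun a ha => ?_)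
        rw [C.symm, map_sub, hall a ha, map_smul, C.symm a e, (mem_perp2.mp ha).2.1]
        simp
      rw [line S.ndU hfU hp hp1 hd, line S.ndW hfW hq hq1 hd']
      exact Submodule.mem_span_pair.mpr ⟨_, _, rfl⟩
    have := Submodule.finrank_mono hsub
    have := finrank_span_pair_le xU xW
    omega
  refine ⟨hQW, ?_⟩
  have hQU : Q xU ≠ 0 := fun h => hQW (by rwa [h, zero_add] at hsum)
  set U' := perpIn B U (Submodule.span F {xU}) with hU'
  set W' := perpIn B W (Submodule.span F {xW}) with hW'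
  have h2U : (2 : F) * Q xU ≠ 0 := mul_ne_zero X.two hQU
  have memU' : ∀ z ∈ U, z - ((2 * Q xU)⁻¹ * B xU z) • xU ∈ U' := fun z hz => by
    refine ⟨U.sub_mem hz (U.smul_mem _ hxU), fun w hw => ?_⟩
    obtain ⟨c, rfl⟩ := Submodule.mem_span_singleton.mp hw
    rw [map_smul, LinearMap.smul_apply, map_sub, map_smul, C.self, smul_eq_mul, smul_eq_mul,
      mul_comm (2 * Q xU)⁻¹, mul_assoc, inv_mul_cancel₀ h2U, mul_one, sub_self, mul_zero]
  have hU'x : ∀ z ∈ U', B xU z = 0 := fun z hz => hz.2 xU (Submodule.mem_span_singleton_self xU)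
  have hU'n : NDeg B U' := fun z hz hzz => S.ndU z hz.1 fun y hy => by
    have h := hzz _ (memU' y hy)
    rwa [map_sub, map_smul, C.symm z xU, hU'x z hz, smul_zero, sub_zero] at h
  have hU'3 : 3 ≤ finrank F U' := by
    have := finrank_perpIn (B := B) U (Submodule.span F {xU})
    have := finrank_span_one_le xU
    have := X.dimU
    rw [hU']
    omega
  obtain ⟨e, f, hef⟩ := exists_hyp' C hU'n hU'3
  have hsub : A ≤ Submodule.span F {x} ⊔ W' := fun r hr => by
    obtain ⟨p, hp, q, hq, rfl⟩ := S.parts C r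
    set c := (2 * Q xU)⁻¹ * B xU p with hc
    have hu' := memU' p hp
    rw [← hc] at hu'
    by_cases hu0 : p - c • xU = 0
    · have hpc : p = c • xU := sub_eq_zero.mp hu0
      rw [show p + q = c • x + (q - c • xW) by rw [hxe, hpc]; module]
      refine Submodule.add_mem_sup (Submodule.smul_mem _ c (Submodule.mem_span_singleton_self x))
        ⟨W.sub_mem hq (W.smul_mem c hxW), fun w hw => ?_⟩
      obtain ⟨d, rfl⟩ := Submodule.mem_span_singleton.mp hw
      have h0 := hpart _ (hAR hr) hp hq rfl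
      rw [hpc, map_smul, C.self, smul_eq_mul] at h0
      rw [map_smul, LinearMap.smul_apply, map_sub, map_smul, C.self, smul_eq_mul, smul_eq_mul]
      linear_combination d * h0 - 2 * d * c * hsum
    exfalso
    obtain ⟨z, hz, hzu⟩ : ∃ z ∈ U', B z (p - c • xU) ≠ 0 := by
      by_contra h
      push Not at h
      exact hu0 (hU'n _ hu' fun z hz => by rw [C.symm]; exact h z hz)
    obtain ⟨s, hs, hQs, hsu⟩ := exists_pair_of_hyp C hef ⟨z, hz, hzu⟩
    have hs0 : s ≠ 0 := fun h => by simp [h] at hsu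
    obtain ⟨fs, hfs⟩ := exists_hyp C hU'n hs hs0 hQs
    obtain ⟨a, ha, hQa⟩ := exists_nonsing C (hfs.ndeg C hU'n) (fun h => by
      have := hfs.le_finrank C
      rw [h, finrank_bot] at this
      omega)
    obtain ⟨haU', hsa, -⟩ := mem_perp2.mp ha
    have hsx : B s x = 0 := by rw [hBU s hs.1, C.symm, hU'x s hs]
    have hax : ∀ a ∈ U', B a x = 0 := fun a ha => by rw [hBU a ha.1, C.symm, hU'x a ha]
    have h := R.add_mem
      (X.move_mem hx (hAR hr) hQs hsa (X.rootU (sGL_mem_root hs.1 haU'.1 hQs hsa)) hsx (hax a haU'))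
      (X.move_mem hx (hAR hr) hQs (a := -a) (by rw [map_neg, hsa, neg_zero])
        (X.rootU (sGL_mem_root hs.1 (U.neg_mem haU'.1) hQs (by rw [map_neg, hsa, neg_zero]))) hsx
        (hax (-a) (U'.neg_mem haU')))
    have hsp : B s p = 1 := by
      rw [show p = (p - c • xU) + c • xU by abel, map_add, map_smul, hsu, C.symm s xU, hU'x s hs]
      simp
    rw [move_pm C hQs hsa, S.B_left C hs.1 hq, hsp, mul_one] at h
    exact hΩ (X.omega_le_of_upart hx hxU hxW hxe hxW0 hs.1 hQs hs0
      ((Submodule.smul_mem_iff R (neg_ne_zero.mpr (mul_ne_zero X.two hQa))).mp h))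
  have hW'2 : finrank F W' < 3 := by
    refine lt_of_lt_of_le (Submodule.finrank_lt_finrank_of_lt
      (lt_of_le_of_ne (fun z hz => hz.1) fun h => ?_)) X.dimW.le
    have h1 : xW ∈ W' := by rw [h]; exact hxW
    have := h1.2 xW (Submodule.mem_span_singleton_self xW)
    rw [C.self] at this
    exact hQW ((mul_eq_zero.mp this).resolve_left X.two)
  have heq : A = Submodule.span F {x} ⊔ W' := Submodule.eq_of_le_of_finrank_le hsub (by
    have := Submodule.finrank_add_le_finrank_add_finrank (Submodule.span F {x}) W'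
    have := finrank_span_one_le x
    omega)
  exact le_sup_right.trans (heq.ge.trans (Submodule.map_mono fun z hz => hz.1))

/-- A subgroup containing the stabiliser keeps `U` or contains `Ω`. -/
theorem LowCtx.stab_or_top :
    (∀ g ∈ H, ∀ u ∈ U, g.val *ᵥ u ∈ U) ∨ Cfsg.Geo.omegaGL Q ≤ H := by
  by_cases hΩ : Cfsg.Geo.omegaGL Q ≤ H
  · exact Or.inr hΩ
  refine Or.inl fun g hg => ?_
  have C := X.space
  have S := X.split
  have hI := X.le_iso hg
  set P := U.map (Matrix.mulVecLin g.val) with hP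
  obtain ⟨e, f, hef⟩ := exists_hyp' C S.ndU (by have := X.dimU; omega)
  by_cases hall : ∀ v ∈ U, Q v = 0 → g.val *ᵥ v ∈ U
  · intro u hu
    exact (Submodule.span_le (p := U.comap (Matrix.mulVecLin g.val))).mpr
      (fun v hv => hall v hv.1 hv.2) (hef.span C hu)
  exfalso
  push Not at hall
  obtain ⟨v0, hv0, hQv0, hn0⟩ := hall
  obtain ⟨aU, haU, aW, haW, hae⟩ := S.parts C (g.val *ᵥ v0)
  have haW0 : aW ≠ 0 := fun h => hn0 (by rw [hae, h, add_zero]; exact haU)
  obtain ⟨hQa, hAP⟩ := ((X.point hg hv0 hQv0 (fun h => hn0 (by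
    rw [h, Matrix.mulVec_zero]; exact U.zero_mem)) haU haW hae).resolve_left hΩ).resolve_left haW0
  set W0 := perpIn B W (Submodule.span F {aW}) with hW0def
  have hnot : ¬ W ≤ P := fun hWP => by
    obtain ⟨w, hw, hw0, hQw⟩ := Sing.exists_singular C.smul C.polar W X.dimW.ge
    obtain ⟨q, hq, hqw⟩ := hWP hw
    have hqw' : g.val *ᵥ q = 0 + w := by rw [zero_add]; exact hqw
    have hQq : Q q = 0 := by
      rw [← mem_iso.mp hI q, hqw', zero_add, hQw]
    exact (((X.point hg hq hQq (fun h => hw0 (by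
      rw [← hqw, h, map_zero])) U.zero_mem hw hqw').resolve_left hΩ).resolve_left hw0).1 hQw
  have hperp : ∀ v ∈ U, Q v = 0 → ∀ w ∈ W0, B (g.val *ᵥ v) w = 0 := by
    intro v hv hQv w hw
    obtain ⟨bU, hbU, bW, hbW, hbe⟩ := S.parts C (g.val *ᵥ v)
    rw [hbe, map_add, LinearMap.add_apply, S.orth bU hbU w hw.1, zero_add]
    by_cases hbW0 : bW = 0
    · simp [hbW0]
    have hv' : v ≠ 0 := fun h => hbW0 (by
      rw [h, Matrix.mulVec_zero] at hbe
      exact (S.eq_parts C hbU U.zero_mem hbW W.zero_mem (by rw [← hbe, add_zero])).2)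
    obtain ⟨hQb, hBP⟩ := ((X.point hg hv hQv hv' hbU hbW hbe).resolve_left hΩ).resolve_left hbW0
    set W1 := perpIn B W (Submodule.span F {bW}) with hW1def
    have hd : ∀ z : ι → F, 2 ≤ finrank F (perpIn B W (Submodule.span F {z})) := fun z => by
      have := finrank_perpIn (B := B) W (Submodule.span F {z})
      have := finrank_span_one_le z
      have := X.dimW
      omega
    have hle : W0 ≤ W1 := by
      by_contra hnle
      refine hnot ?_
      have h2 : W1 < W0 ⊔ W1 := lt_of_le_of_ne le_sup_right fun h => hnle (h ▸ le_sup_left)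
      have h3 := Submodule.finrank_lt_finrank_of_lt h2
      have h4 := hd bW
      rw [← hW1def] at h4
      have h5 : W0 ⊔ W1 = W := Submodule.eq_of_le_of_finrank_le
        (sup_le (fun z hz => hz.1) fun z hz => hz.1) (by have := X.dimW; omega)
      exact h5 ▸ sup_le hAP hBP
    exact (hle hw).2 bW (Submodule.mem_span_singleton_self bW)
  have hbot : W0 = ⊥ := eq_bot_iff.mpr fun w hw => by
    obtain ⟨q, hq, rfl⟩ := hAP hw
    rw [Submodule.mem_bot]
    suffices h : q = 0 by rw [h, map_zero]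
    refine S.ndU q hq fun u hu => ?_
    rw [C.symm, ← C.B_act hI u q]
    exact LinearMap.mem_ker.mp ((Submodule.span_le
      (p := LinearMap.ker ((B.flip (g.val *ᵥ q)).comp (Matrix.mulVecLin g.val)))).mpr
      (fun v hv => LinearMap.mem_ker.mpr (hperp v hv.1 hv.2 _ hw)) (hef.span C hu))
  have h6 := finrank_perpIn (B := B) W (Submodule.span F {aW})
  rw [← hW0def, hbot, finrank_bot] at h6
  have := finrank_span_one_le aW
  have := X.dimW
  omega

end Ctx

section

variable [Finite F] (C : Space Q B) {U W : Submodule F (ι → F)} (S : Split Q B U W)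
  (h4 : finrank F U = 4) (h3 : finrank F W = 3) (h2 : (2 : F) ≠ 0)

include C S h4 h3 h2

theorem lowCtx_of_stab {H : Subgroup (GL ι F)} (hHI : H ≤ isometryGroup F Q)
    (hLH : Cfsg.Geo.subspaceStabilizer W ⊓ Cfsg.Geo.omegaGL Q ≤ H) : LowCtx Q B H U W := by
  have h5 : 5 ≤ Fintype.card ι := by have := S.finrank_add C; omega
  have hO := omegaGL_eq C h5
  refine ⟨C, S, h4, h3, h2, hHI, fun g hg => hLH ⟨?_, ?_⟩, fun g hg => hLH ⟨?_, ?_⟩,
    fun v hv hQv => ?_⟩
  · refine mem_stab_of_mapsTo fun w hw => ?_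
    rw [(root_act C hg w).2 fun z hz => S.orth z hz w hw]
    exact hw
  · exact hO ▸ root_mono le_top hg
  · exact mem_stab_of_mapsTo fun w hw => root_mem_U C hg hw
  · exact hO ▸ root_mono le_top hg
  obtain ⟨e, f, hH⟩ := exists_hyp' C S.ndU (by omega)
  set u := Q v • e + f with hu'
  have hu : u ∈ U := U.add_mem (U.smul_mem _ hH.memE) hH.memF
  have hQu : Q u = Q v := by
    rw [hu', C.add, C.smul, hH.singE, hH.singF, map_smul, LinearMap.smul_apply, hH.pair]
    simp
  have hQu0 : Q u ≠ 0 := by rwa [hQu]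
  have hW : ∀ z ∈ W, (rGL Q v * rGL Q u).val *ᵥ z = (rGL Q v).val *ᵥ z := fun z hz => by
    rw [mul_act, rGL_fix C hQu0 (S.orth u hu z hz)]
  refine ⟨rGL Q v * rGL Q u, hLH ⟨mem_stab_of_mapsTo fun z hz => ?_, ?_⟩, fun z hz => ?_, hW⟩
  · rw [hW z hz, rGL_act C hQv]
    exact W.sub_mem hz (W.smul_mem _ hv)
  · rw [hO, ← comm_eq_root C h5]
    exact rGL_mul_rGL_mem C h5 hQv hQu.symm
  · rw [mul_act, rGL_act C hQu0]
    have h : z - ((Q u)⁻¹ * B u z) • u ∈ U := U.sub_mem hz (U.smul_mem _ hu)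
    rwa [rGL_fix C hQv (by rw [C.symm]; exact S.orth _ h v hv)]

/-- The stabiliser of a three-space facing a four-space is maximal. -/
theorem split_max_low : Cfsg.Geo.IsMaximalIn (Cfsg.Geo.omegaGL Q)
    (Cfsg.Geo.subspaceStabilizer W ⊓ Cfsg.Geo.omegaGL Q) := by
  have h5 : 5 ≤ Fintype.card ι := by have := S.finrank_add C; omega
  have hO := omegaGL_eq C h5
  refine ⟨lt_of_le_of_ne inf_le_right fun heq => ?_, fun H hLH hHΩ => ?_⟩
  · obtain ⟨w, hw, hQw⟩ := exists_nonsing C S.ndW (fun h => by rw [h, finrank_bot] at h3; omega)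
    obtain ⟨e, f, hH⟩ := exists_hyp' C S.ndU (by omega)
    have hew := S.orth e hH.memE w hw
    have hmem : sGL Q B e w ∈ Cfsg.Geo.subspaceStabilizer U ⊓ Cfsg.Geo.omegaGL Q := by
      rw [← S.stab_eq C, heq, hO]
      exact sGL_mem_root trivial trivial hH.singE hew
    have h1 := stab_mem hmem.1 hH.memF
    rw [sGL_act C hH.singE hew, hH.pair, one_smul, C.symm w f, S.orth f hH.memF w hw] at h1
    have h6 : w ∈ U := by
      have := U.add_mem (U.sub_mem h1 hH.memF) (U.smul_mem (0 + Q w * 1) hH.memE)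
      rwa [show f + w - (0 + Q w * 1) • e - f + (0 + Q w * 1) • e = w by abel] at this
    exact hQw (by rw [S.disj C h6 hw, C.zero])
  have hHI : H ≤ isometryGroup F Q := hHΩ.trans (hO ▸ root_le_iso C _)
  rcases (lowCtx_of_stab C S h4 h3 h2 hHI hLH).stab_or_top with h | h
  · refine Or.inl (le_antisymm (fun g hg => ?_) hLH)
    rw [S.stab_eq C]
    exact ⟨mem_stab_of_mapsTo (h g hg), hHΩ hg⟩
  · exact Or.inr (le_antisymm hHΩ h)

end

end Cfsg.Lib.Linear.OrthLow
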