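import Cfsg.Agent.Lib.Linear.AschOrth.EvenSubfield
import Cfsg.Agent.Lib.Linear.OrthSplit
import Cfsg.Agent.Lib.Linear.OrthSplitLow

/-!
# Isometric halves of a quadratic space over a finite field

A space which is the orthogonal sum of two isometric spaces of even dimension is of plus type.
-/

set_option autoImplicit false
set_option linter.unusedSectionVars false
set_option linter.unusedSimpArgs false

namespace Cfsg.Lib.Linear.OrthHalves

open Module Cfsg.Lib.Linear.Orth
open Cfsg.Lib.Linear.AschOrth (plus_of_pairs)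
open scoped Matrix

variable {ι : Type} [Fintype ι] [DecidableEq ι] {F : Type*} [Field F]
  {Q : (ι → F) → F} {B : LinearMap.BilinForm F (ι → F)}

/-- An anisotropic binary form over a finite field represents minus one. -/
theorem exists_neg_one [Fintype F] (a : F)
    (ha : ∀ z₁ z₂ : F, z₁ ^ 2 + 1 * z₁ * z₂ + a * z₂ ^ 2 = 0 → z₁ = 0 ∧ z₂ = 0) :
    ∃ s t : F, s ^ 2 + s * t + a * t ^ 2 = -1 := by
  classical
  by_cases h2 : (2 : F) = 0
  · exact ⟨1, 0, by linear_combination h2⟩
  have h4 : 4 * a - 1 ≠ 0 := fun h => by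
    have := ha 1 (-2) (by linear_combination h)
    exact h2 (neg_eq_zero.1 this.2)
  obtain ⟨u, t, hut⟩ := FiniteField.exists_root_sum_quadratic
    (f := Polynomial.X ^ 2 + Polynomial.C 4)
    (g := Polynomial.C (4 * a - 1) * Polynomial.X ^ 2)
    (Polynomial.degree_X_pow_add_C (by norm_num) _)
    (by rw [Polynomial.degree_C_mul_X_pow 2 h4]; rfl)
    (FiniteField.odd_card_of_char_ne_two fun hc => h2 (by
      haveI := ringChar.of_eq hc
      exact CharTwo.two_eq_zero))
  simp at hut
  refine ⟨(u - t) / 2, t, ?_⟩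
  field_simp
  linear_combination hut

/-- In a space of minus type no isometry maps a part onto its perpendicular part. -/
theorem no_swap_minus [Fintype F] (C : Space Q B)
    (hminus : ¬ Cfsg.Geo.IsPlusTypeOn Q ⊤) {U W : Submodule F (ι → F)} (S : Split Q B U W) {k : ℕ}
    (hk : 1 ≤ k) (hU : finrank F U = 2 * k) (hW : finrank F W = 2 * k) :
    ¬ ∃ g ∈ isometryGroup F Q, ∀ u ∈ U, g.val *ᵥ u ∈ W := by
  classical
  rintro ⟨g, hg, hgU⟩
  have hcard : Fintype.card ι = 2 * (2 * k) := by rw [← S.finrank_add C, hU, hW]; ring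
  have hgQ : ∀ v, Q (g.val *ᵥ v) = Q v := mem_iso.1 hg
  have hortho : ∀ {u v : ι → F}, u ∈ U → v ∈ U → B u (g.val *ᵥ v) = 0 := fun hu hv =>
    S.orth _ hu _ (hgU _ hv)
  rcases NondegFix.exists_std C hk hU S.ndU with ⟨E, hE, hr⟩ | ⟨a, ha, E, hE, hr⟩
  · have hm : ∀ v, E v ∈ U := fun v => hr ▸ LinearMap.mem_range_self E v
    have hB : ∀ u v, B (E u) (E v) = Cfsg.quadFormPlus k F (u + v) - Cfsg.quadFormPlus k F u -
        Cfsg.quadFormPlus k F v := fun u v => by
      rw [← hE, ← hE u, ← hE v, map_add, C.add]; ring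
    let e : Fin k → ι → F := fun i => E (Pi.single (.inl i) 1)
    let f : Fin k → ι → F := fun i => E (Pi.single (.inr i) 1)
    have hQe : ∀ i, Q (e i) = 0 := fun i => by rw [hE]; simp [Cfsg.quadFormPlus]
    have hee : ∀ i j, B (e i) (e j) = 0 := fun i j => by rw [hB]; simp [Cfsg.quadFormPlus]
    have hef : ∀ i j, B (e i) (f j) = if i = j then 1 else 0 := fun i j => by
      rw [hB]
      rcases eq_or_ne i j with rfl | h
      · simp [Cfsg.quadFormPlus, Pi.single_apply]
      · simp [Cfsg.quadFormPlus, Pi.single_apply, h, h.symm]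
    refine hminus (plus_of_pairs C (κ := Fin k ⊕ Fin k)
      (by rw [Fintype.card_sum, Fintype.card_fin, hcard]; ring)
      (Sum.elim e fun i => g.val *ᵥ e i) (Sum.elim f fun i => g.val *ᵥ f i) ?_ ?_
      (c := fun _ => 1) (fun _ => one_ne_zero) ?_)
    · rintro (i | i)
      · exact hQe i
      · exact (hgQ _).trans (hQe i)
    · rintro (i | i) (j | j)
      · exact hee i j
      · exact hortho (hm _) (hm _)
      · exact (C.symm _ _).trans (hortho (hm _) (hm _))
      · exact (C.B_act hg _ _).trans (hee i j)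
    · rintro (i | i) (j | j)
      · simpa using hef i j
      · simpa using hortho (hm _) (hm _)
      · simpa [C.symm] using hortho (hm _) (hm _)
      · simpa [C.B_act hg] using hef i j
  · have hm : ∀ v, E v ∈ U := fun v => hr ▸ LinearMap.mem_range_self E v
    have hB : ∀ u v, B (E u) (E v) = Cfsg.quadFormMinus (k - 1) F 1 a (u + v) -
        Cfsg.quadFormMinus (k - 1) F 1 a u - Cfsg.quadFormMinus (k - 1) F 1 a v := fun u v => by
      rw [← hE, ← hE u, ← hE v, map_add, C.add]; ring
    obtain ⟨s, t, hst⟩ := exists_neg_one a ha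
    let p : Fin (k - 1) → ι → F := fun i => E (Pi.single (.inl (.inl i)) 1)
    let r : Fin (k - 1) → ι → F := fun i => E (Pi.single (.inl (.inr i)) 1)
    let y := E (Pi.single (.inr 0) 1)
    let z := E (Pi.single (.inr 1) 1)
    have hQp : ∀ i, Q (p i) = 0 := fun i => by rw [hE]; simp [Cfsg.quadFormMinus]
    have hQy : Q y = 1 := by rw [hE]; simp [Cfsg.quadFormMinus]
    have hQz : Q z = a := by rw [hE]; simp [Cfsg.quadFormMinus]
    have hyz : B y z = 1 := by rw [hB]; simp [Cfsg.quadFormMinus]; ring
    have hpp : ∀ i j, B (p i) (p j) = 0 := fun i j => by rw [hB]; simp [Cfsg.quadFormMinus]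
    have hpy : ∀ i, B (p i) y = 0 := fun i => by rw [hB]; simp [Cfsg.quadFormMinus]
    have hpz : ∀ i, B (p i) z = 0 := fun i => by rw [hB]; simp [Cfsg.quadFormMinus]
    have hry : ∀ i, B (r i) y = 0 := fun i => by rw [hB]; simp [Cfsg.quadFormMinus]
    have hrz : ∀ i, B (r i) z = 0 := fun i => by rw [hB]; simp [Cfsg.quadFormMinus]
    have hpr : ∀ i j, B (p i) (r j) = if i = j then 1 else 0 := fun i j => by
      rw [hB]
      rcases eq_or_ne i j with rfl | h
      · simp [Cfsg.quadFormMinus, Pi.single_apply]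
      · simp [Cfsg.quadFormMinus, Pi.single_apply, h, h.symm]
    have h4 : 4 * a - 1 ≠ 0 := fun h => by
      by_cases h2 : (2 : F) = 0
      · exact one_ne_zero (α := F) (by linear_combination -h + 2 * a * h2)
      · exact h2 (neg_eq_zero.1 (ha 1 (-2) (by linear_combination h)).2)
    let w : Fin 2 → ι → F := ![s • y + t • z, (-(a * t)) • y + (s + t) • z]
    let v : Fin 2 → ι → F := ![y, z]
    have hwm : ∀ i, w i ∈ U := fun i => by
      fin_cases i <;> exact add_mem (Submodule.smul_mem _ _ (hm _)) (Submodule.smul_mem _ _ (hm _))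
    have hvm : ∀ i, v i ∈ U := fun i => by fin_cases i <;> exact hm _
    have hyy : B y y = 2 := by rw [C.self, hQy, mul_one]
    have hzz : B z z = 2 * a := by rw [C.self, hQz]
    have hww : ∀ i j, B (w i) (w j) = -B (v i) (v j) := fun i j => by
      fin_cases i <;> fin_cases j <;>
        simp [w, v, hyy, hzz, hyz, C.symm z y]
      · linear_combination 2 * hst
      · linear_combination hst
      · linear_combination hst
      · linear_combination 2 * a * hst
    refine hminus (plus_of_pairs C (κ := (Fin (k - 1) ⊕ Fin (k - 1)) ⊕ Fin 2)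
      (by simp only [Fintype.card_sum, Fintype.card_fin, hcard]; omega)
      (Sum.elim (Sum.elim p fun i => g.val *ᵥ p i) fun i => v i + g.val *ᵥ w i)
      (Sum.elim (Sum.elim r fun i => g.val *ᵥ r i) ![(2 * a) • y - z, (2 : F) • z - y])
      ?_ ?_ (c := Sum.elim (fun _ => 1) fun _ => 4 * a - 1) ?_ ?_)
    · rintro ((i | i) | i)
      · exact hQp i
      · exact (hgQ _).trans (hQp i)
      · show Q (v i + g.val *ᵥ w i) = 0
        rw [C.add, hgQ, hortho (hvm i) (hwm i)]
        have hQw : ∀ c d : F, Q (c • y + d • z) = c ^ 2 + d ^ 2 * a + c * d := fun c d => by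
          rw [C.add, C.smul, C.smul, map_smul, map_smul, LinearMap.smul_apply, hQy, hQz, hyz,
            smul_eq_mul, smul_eq_mul]
          ring
        fin_cases i
        · show Q y + Q (s • y + t • z) + 0 = 0
          rw [hQw, hQy]
          linear_combination hst
        · show Q z + Q ((-(a * t)) • y + (s + t) • z) + 0 = 0
          rw [hQw, hQz]
          linear_combination a * hst
    · have hpv : ∀ i j, B (p i) (v j) = 0 := fun i j => by fin_cases j <;> simp [v, hpy, hpz]
      have hpw : ∀ i j, B (p i) (w j) = 0 := fun i j => by fin_cases j <;> simp [w, hpy, hpz]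
      rintro ((i | i) | i) ((j | j) | j)
      · exact hpp i j
      · exact hortho (hm _) (hm _)
      · show B (p i) (v j + g.val *ᵥ w j) = 0
        rw [map_add, hpv, hortho (hm _) (hwm j), add_zero]
      · exact (C.symm _ _).trans (hortho (hm _) (hm _))
      · exact (C.B_act hg _ _).trans (hpp i j)
      · show B (g.val *ᵥ p i) (v j + g.val *ᵥ w j) = 0
        rw [map_add, C.symm _ (v j), hortho (hvm j) (hm _), C.B_act hg, hpw, add_zero]
      · show B (v i + g.val *ᵥ w i) (p j) = 0
        rw [C.symm, map_add, hpv, hortho (hm _) (hwm i), add_zero]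
      · show B (v i + g.val *ᵥ w i) (g.val *ᵥ p j) = 0
        rw [map_add, LinearMap.add_apply, hortho (hvm i) (hm _), C.B_act hg, C.symm, hpw, add_zero]
      · show B (v i + g.val *ᵥ w i) (v j + g.val *ᵥ w j) = 0
        rw [map_add, map_add, LinearMap.add_apply, LinearMap.add_apply, C.B_act hg, hww,
          hortho (hvm i) (hwm j), C.symm (g.val *ᵥ w i), hortho (hvm j) (hwm i)]
        ring
    · rintro ((i | i) | i)
      · exact one_ne_zero
      · exact one_ne_zero
      · exact h4
    · have hpf : ∀ i (j : Fin 2), B (p i) ((![(2 * a) • y - z, (2 : F) • z - y] : Fin 2 → ι → F) j) = 0 :=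
        fun i j => by fin_cases j <;> simp [hpy, hpz]
      have hvr : ∀ (i : Fin 2) j, B (v i) (r j) = 0 := fun i j => by
        rw [C.symm]; fin_cases i <;> simp [v, hry, hrz]
      have hwr : ∀ (i : Fin 2) j, B (w i) (r j) = 0 := fun i j => by
        rw [C.symm]; fin_cases i <;> simp [w, hry, hrz]
      have hfm : ∀ j, (![(2 * a) • y - z, (2 : F) • z - y] : Fin 2 → ι → F) j ∈ U := fun j => by
        fin_cases j <;>
          exact sub_mem (Submodule.smul_mem _ _ (hm _)) (hm _)
      rintro ((i | i) | i) ((j | j) | j)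
      · simpa using hpr i j
      · simpa using hortho (hm _) (hm _)
      · simpa using hpf i j
      · simpa [C.symm] using hortho (hm (Pi.single (.inl (.inr j)) 1)) (hm (Pi.single (.inl (.inl i)) 1))
      · simpa [C.B_act hg] using hpr i j
      · have h := hortho (hfm j) (hm (Pi.single (.inl (.inl i)) 1))
        rw [C.symm] at h
        simpa using h
      · show B (v i + g.val *ᵥ w i) (r j) = _
        rw [map_add, LinearMap.add_apply, hvr, C.symm (g.val *ᵥ w i), hortho (hm _) (hwm i)]
        simp
      · show B (v i + g.val *ᵥ w i) (g.val *ᵥ r j) = _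
        rw [map_add, LinearMap.add_apply, hortho (hvm i) (hm _), C.B_act hg, hwr]
        simp
      · simp only [Sum.elim_inr]
        show B (v i + g.val *ᵥ w i) _ = _
        rw [map_add, LinearMap.add_apply, C.symm (g.val *ᵥ w i), hortho (hfm j) (hwm i), add_zero]
        fin_cases i <;> fin_cases j <;> simp [v, hyy, hzz, hyz, C.symm z y] <;> ring

end Cfsg.Lib.Linear.OrthHalves
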