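import Cfsg.Agent.Lib.Linear.OrthSplit

/-!
# The unitary group over a quadratic overfield inside `Ω`

`θ` generates a quadratic field acting on the space, `Q (θ v) = N * Q v`.  A subgroup of `Ω`
containing the root elements of all singular lines over that field either maps such lines to such
lines or is all of `Ω`.
-/

set_option autoImplicit false

namespace Cfsg.Lib.Linear.OrthQ2

open Module
open scoped Matrix
open Cfsg.Lib.Linear.Orth

variable {ι : Type} [Fintype ι] [DecidableEq ι] {F : Type*} [Field F]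
  {Q : (ι → F) → F} {B : LinearMap.BilinForm F (ι → F)}

/-- A quadratic field acting by similitudes, with its adjoint the conjugation. -/
structure QuadOp (Q : (ι → F) → F) (B : LinearMap.BilinForm F (ι → F))
    (θ : (ι → F) →ₗ[F] (ι → F)) (t N : F) : Prop where
  space : Space Q B
  card : 10 ≤ Fintype.card ι
  sq : ∀ v, θ (θ v) = t • θ v - N • v
  adj : ∀ u v, B (θ u) v = B u (t • v - θ v)
  scale : ∀ v, Q (θ v) = N * Q v
  line : ∀ v, Q v = 0 → B v (θ v) = 0
  neN : N ≠ 0
  free : ∀ v, v ≠ 0 → ∀ c : F, θ v ≠ c • v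

/-- The span of a vector over the quadratic field. -/
def kLine (θ : (ι → F) →ₗ[F] (ι → F)) (v : ι → F) : Submodule F (ι → F) :=
  Submodule.span F {v, θ v}

/-- Perpendicularity over the quadratic field. -/
def KPerp (B : LinearMap.BilinForm F (ι → F)) (θ : (ι → F) →ₗ[F] (ι → F)) (y v : ι → F) : Prop :=
  B y v = 0 ∧ B (θ y) v = 0

variable {θ : (ι → F) →ₗ[F] (ι → F)} {t N : F}

theorem self_mem_kLine (v : ι → F) : v ∈ kLine θ v := Submodule.subset_span (by simp)

theorem op_mem_kLine (v : ι → F) : θ v ∈ kLine θ v := Submodule.subset_span (by simp)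

theorem mem_kLine {v w : ι → F} : w ∈ kLine θ v ↔ ∃ a b : F, a • v + b • θ v = w :=
  Submodule.mem_span_pair

section

variable (D : QuadOp Q B θ t N)

include D

theorem QuadOp.op_sing {v : ι → F} (hv : Q v = 0) : Q (θ v) = 0 := by rw [D.scale, hv, mul_zero]

theorem QuadOp.b_op (u v : ι → F) : B u (θ v) = t * B u v - B (θ u) v := by
  rw [D.adj, map_sub, map_smul, smul_eq_mul]; ring

theorem QuadOp.kLine_op {v w : ι → F} (h : w ∈ kLine θ v) : θ w ∈ kLine θ v := by
  obtain ⟨a, b, rfl⟩ := mem_kLine.mp h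
  refine mem_kLine.mpr ⟨-(b * N), a + b * t, ?_⟩
  rw [map_add, map_smul, map_smul, D.sq]
  module

/-- The quadratic field has no zero divisors on vectors. -/
theorem QuadOp.norm_ne {v : ι → F} (hv : v ≠ 0) {a b : F} (h : a ≠ 0 ∨ b ≠ 0) :
    a * a + t * a * b + N * b * b ≠ 0 := by
  intro h0
  by_cases hb : b = 0
  · subst hb; simp at h0 h; exact h h0
  set ρ := -(a / b) with hρ
  have hr : ρ * ρ - t * ρ + N = 0 := by
    have h1 : ρ * b = -a := by rw [hρ, neg_mul, div_mul_cancel₀ _ hb]
    refine (mul_eq_zero.mp ?_).resolve_right (mul_ne_zero hb hb)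
    linear_combination h0 + (ρ * b - a - t * b) * h1
  by_cases hw : θ v - ρ • v = 0
  · exact D.free v hv ρ (sub_eq_zero.mp hw)
  · refine D.free _ hw (t - ρ) ?_
    rw [map_sub, map_smul, D.sq]
    linear_combination (norm := module) -congrArg (fun c : F => c • v) hr

theorem QuadOp.kLine_symm {v w : ι → F} (h : w ∈ kLine θ v) (hw : w ≠ 0) : v ∈ kLine θ w := by
  obtain ⟨a, b, rfl⟩ := mem_kLine.mp h
  have hab : a ≠ 0 ∨ b ≠ 0 := by
    by_contra hc
    push Not at hc
    exact hw (by rw [hc.1, hc.2]; simp)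
  have hv : v ≠ 0 := fun h => hw (by rw [h]; simp)
  have hd := D.norm_ne hv hab
  set d := a * a + t * a * b + N * b * b with hdd
  refine mem_kLine.mpr ⟨d⁻¹ * (a + t * b), -(d⁻¹ * b), ?_⟩
  rw [map_add, map_smul, map_smul, D.sq]
  match_scalars <;> field_simp <;> rw [hdd] <;> ring

theorem QuadOp.kLine_mono {v w : ι → F} (h : w ∈ kLine θ v) : kLine θ w ≤ kLine θ v :=
  Submodule.span_le.mpr (by rintro _ (rfl | rfl); exacts [h, D.kLine_op h])

theorem QuadOp.kperp_symm {y v : ι → F} (h : KPerp B θ y v) : KPerp B θ v y := by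
  refine ⟨by rw [D.space.symm]; exact h.1, ?_⟩
  rw [D.space.symm, D.b_op, h.1, h.2]; ring

theorem QuadOp.kperp_op {y v : ι → F} (h : KPerp B θ y v) : KPerp B θ y (θ v) := by
  refine ⟨by rw [D.b_op, h.1, h.2]; ring, ?_⟩
  rw [D.b_op, D.sq, map_sub, map_smul, map_smul, LinearMap.sub_apply, LinearMap.smul_apply,
    LinearMap.smul_apply, h.1, h.2]
  simp

theorem QuadOp.split : Split Q B ⊤ ⊥ :=
  ⟨D.space.ndeg_top, fun _ hx _ => (Submodule.mem_bot F).mp hx,
    fun u _ w hw => by rw [(Submodule.mem_bot F).mp hw, map_zero], sup_bot_eq _⟩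

theorem QuadOp.dim_ok (s : Finset (ι → F)) (hs : s.card ≤ 3) :
    2 * finrank F (Submodule.span F (s : Set (ι → F))) + 3 ≤ finrank F (⊤ : Submodule F (ι → F)) := by
  have h := finrank_span_finset_le_card (R := F) s
  unfold Set.finrank at h
  have := D.card
  rw [finrank_top, finrank_fintype_fun_eq_card]
  omega

variable [Finite F]

theorem QuadOp.exists_sing (s : Finset (ι → F)) (hs : s.card ≤ 3) {x : ι → F}
    (hx : x ∉ Submodule.span F (s : Set (ι → F))) :
    ∃ u, Q u = 0 ∧ B x u = 1 ∧ ∀ a ∈ s, B a u = 0 := by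
  obtain ⟨u, hu, hQu, hxu⟩ :=
    exists_sing_perpIn D.space D.split le_top (D.dim_ok s hs) trivial hx
  exact ⟨u, hQu, hxu, fun a ha => hu.2 a (Submodule.subset_span ha)⟩

/-- A singular vector perpendicular to a small set and outside a small subspace. -/
theorem QuadOp.exists_off (s : Finset (ι → F)) (hs : s.card ≤ 3) (Z : Submodule F (ι → F))
    (hZ : finrank F Z + s.card < Fintype.card ι) :
    ∃ w, Q w = 0 ∧ (∀ a ∈ s, B a w = 0) ∧ w ∉ Z := by
  obtain ⟨e, f, hH, -⟩ := exists_hyp_perpIn D.space D.split le_top (D.dim_ok s hs)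
  by_contra hne
  push Not at hne
  have hle : perpIn B ⊤ (Submodule.span F (s : Set (ι → F))) ≤ Z :=
    (hH.span D.space).trans (Submodule.span_le.mpr fun w hw =>
      hne w hw.2 fun a ha => hw.1.2 a (Submodule.subset_span ha))
  have h1 := Submodule.finrank_mono hle
  have h2 := finrank_perpIn (B := B) ⊤ (Submodule.span F (s : Set (ι → F)))
  have h3 := finrank_span_finset_le_card (R := F) s
  rw [finrank_top, finrank_fintype_fun_eq_card] at h2
  unfold Set.finrank at h3
  omega

variable {H : Subgroup (GL ι F)} (hH : H ≤ isometryGroup F Q)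
  (hroot : ∀ u, Q u = 0 → RPair Q B H u (θ u))

include hH hroot

/-- The perpendicular of `y` over the field lies in the axes at `y`. -/
theorem QuadOp.perp_le_roots {x y : ι → F} (hp : RPair Q B H x y) (hy0 : y ≠ 0)
    (hxy : x ∉ kLine θ y) {p : ι → F} (hyp : KPerp B θ y p) :
    p ∈ rootsAt Q B D.space H y hp.2.1 := by
  classical
  have C := D.space
  have hy : Q y = 0 := hp.2.1
  have hx : Q x = 0 := hp.1
  set R := rootsAt Q B C H y hp.2.1 with hR
  have hp' := RPair.symm C hp
  have hxR : x ∈ R := ⟨hp'.2.2.1, hp'.2.2.2⟩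
  have hyR : ∀ w ∈ kLine θ y, w ∈ R := fun w hw => by
    obtain ⟨a, b, rfl⟩ := mem_kLine.mp hw
    have h := (hroot y hy).plane C 1 0 a b
    rw [one_smul, zero_smul, add_zero] at h
    exact ⟨h.2.2.1, h.2.2.2⟩
  obtain ⟨p', hp'θ, hyp'⟩ : ∃ p', θ p' = p ∧ KPerp B θ y p' := by
    refine ⟨N⁻¹ • (t • p - θ p), ?_, ?_⟩
    · rw [map_smul, map_sub, map_smul, D.sq]
      match_scalars
      · ring
      · field_simp [D.neN]
    · have h := D.kperp_op hyp
      exact ⟨by rw [map_smul, map_sub, map_smul, hyp.1, h.1]; simp,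
        by rw [map_smul, map_sub, map_smul, hyp.2, h.2]; simp⟩
  subst hp'θ
  -- singular partners of a point of the axes give points of the axes
  have mk : ∀ c, RPair Q B H c y → ∀ v, Q v = 0 → B c v = 1 → B y v = 0 → B (θ y) v = 0 →
      B (t • c - θ c) v = 0 → θ v ∈ R := by
    intro c hc v hv h1 h2 h3 h4
    have h := hc.rule C hH (hroot v hv) h2 (by rw [D.b_op, h2, h3]; ring)
      (by rw [map_sub, map_smul, LinearMap.sub_apply, LinearMap.smul_apply, smul_eq_mul,
        ← D.b_op] at h4; exact h4) h1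
    exact ⟨h.2.2.1, h.2.2.2⟩
  have hyx : B y x = 0 := by rw [C.symm, hp.2.2.1]
  have hyy : B y y = 0 := C.self_zero hy
  have hyy' : B (θ y) y = 0 := by rw [C.symm, D.line y hy]
  by_cases hβ : B (θ y) x = 0
  swap
  · -- the two points span a non-degenerate space
    set β := B (θ y) x with hβd
    have b1 : B x y = 0 := hp.2.2.1
    have b2 : B x (θ y) = β := by rw [C.symm]
    have b3 : B y (θ x) = -β := by rw [D.b_op, hyx, ← hβd]; ring
    have b4 : B (θ x) y = -β := by rw [C.symm, b3]
    have b5 : B (θ y) (θ x) = 0 := by rw [D.adj, map_sub, map_smul, D.sq]; simp [hyx]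
    have b6 : B (θ x) (θ y) = 0 := by rw [C.symm, b5]
    have b7 : B x x = 0 := C.self_zero hx
    have b8 : B x (θ x) = 0 := D.line x hx
    have b9 : B (θ x) x = 0 := by rw [C.symm, b8]
    have b10 : B (θ x) (θ x) = 0 := C.self_zero (D.op_sing hx)
    have b11 : B y (θ y) = 0 := D.line y hy
    have b12 : B (θ y) (θ y) = 0 := C.self_zero (D.op_sing hy)
    set k := β⁻¹ • θ y + (-(t * β⁻¹)) • y with hk
    have hkQ : Q k = 0 := by
      rw [hk, C.smul_add, hy, D.op_sing hy, hyy']; ring
    have hkx : B x k = 1 := by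
      rw [hk, map_add, map_smul, map_smul, b1, b2]; simp [hβ]
    have hkx' : B (t • x - θ x) k = 0 := by
      rw [map_sub, map_smul, LinearMap.sub_apply, LinearMap.smul_apply, hkx, hk, map_add, map_smul,
        map_smul, b4, b6]
      simp only [smul_eq_mul]
      field_simp
      ring
    have hky : B y k = 0 ∧ B (θ y) k = 0 := by
      rw [hk]; simp [hyy, hyy', b11, b12]
    set S : Finset (ι → F) := {x, θ x, y, θ y} with hS
    set P := perpIn B ⊤ (Submodule.span F (S : Set (ι → F))) with hP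
    have memP : ∀ {w}, B x w = 0 → B (θ x) w = 0 → B y w = 0 → B (θ y) w = 0 → w ∈ P := by
      intro w h1 h2 h3 h4
      refine ⟨trivial, fun a ha => ?_⟩
      have hle : Submodule.span F (S : Set (ι → F)) ≤ LinearMap.ker (B.flip w) :=
        Submodule.span_le.mpr fun a ha => by
          simp only [hS, Finset.coe_insert, Finset.coe_singleton, Set.mem_insert_iff,
            Set.mem_singleton_iff] at ha
          rcases ha with rfl | rfl | rfl | rfl <;> simp [LinearMap.mem_ker, *]
      exact LinearMap.mem_ker.mp (hle ha)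
    have ofP : ∀ {w}, w ∈ P → B x w = 0 ∧ B (θ x) w = 0 ∧ B y w = 0 ∧ B (θ y) w = 0 := fun hw =>
      ⟨hw.2 x (Submodule.subset_span (by simp [hS])), hw.2 _ (Submodule.subset_span (by simp [hS])),
        hw.2 y (Submodule.subset_span (by simp [hS])), hw.2 _ (Submodule.subset_span (by simp [hS]))⟩
    have hPn : NDeg B P := by
      intro w hw hwP
      refine C.nondeg' fun u => ?_
      obtain ⟨a, b, c, d, hu⟩ : ∃ a b c d : F, u - (a • x + b • θ x + c • y + d • θ y) ∈ P := by
        refine ⟨B (θ y) u / β, -(B y u) / β, -(B (θ x) u) / β, B x u / β, memP ?_ ?_ ?_ ?_⟩ <;>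
        · simp only [map_sub, map_add, map_smul, smul_eq_mul, b1, b2, b3, b4, b5, b6, b7, b8, b9,
            b10, b11, b12, hyy, hyy', hyx, ← hβd]
          field_simp
          ring
      obtain ⟨w1, w2, w3, w4⟩ := ofP hw
      rw [show u = (u - (a • x + b • θ x + c • y + d • θ y)) + (a • x + b • θ x + c • y + d • θ y)
        by abel, map_add, hwP _ hu, map_add, map_add, map_add, map_smul, map_smul, map_smul,
        map_smul, C.symm w x, C.symm w (θ x), C.symm w y, C.symm w (θ y), w1, w2, w3, w4]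
      simp
    have hPd : 3 ≤ finrank F P := by
      have h1 := finrank_perpIn (B := B) ⊤ (Submodule.span F (S : Set (ι → F)))
      have h2 := finrank_span_finset_le_card (R := F) S
      have h3 : S.card ≤ 4 := Finset.card_le_four
      have := D.card
      unfold Set.finrank at h2
      rw [finrank_top, finrank_fintype_fun_eq_card] at h1
      rw [hP]
      omega
    have hsing : P ≤ R.comap θ := (span_sing C hPn hPd).trans (Submodule.span_le.mpr fun ρ hρ => by
      obtain ⟨w1, w2, w3, w4⟩ := ofP hρ.1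
      have hkρ : B k ρ = 0 := by
        rw [hk, map_add, map_smul, map_smul, LinearMap.add_apply, LinearMap.smul_apply,
          LinearMap.smul_apply, w3, w4]; simp
      have h := mk x hp (k + ρ) (by rw [C.add, hkQ, hρ.2, hkρ]; simp)
        (by rw [map_add, hkx, w1, add_zero]) (by rw [map_add, hky.1, w3, add_zero])
        (by rw [map_add, hky.2, w4, add_zero])
        (by rw [map_add, hkx', map_sub, map_smul, LinearMap.sub_apply, LinearMap.smul_apply, w1,
          w2]; simp)
      rw [map_add] at h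
      show θ ρ ∈ R
      exact (R.add_mem_iff_right (hyR _ (D.kLine_op (Submodule.add_mem _
        (Submodule.smul_mem _ _ (op_mem_kLine y)) (Submodule.smul_mem _ _ (self_mem_kLine y)))))).mp h)
    have hr : p' - ((-(B (θ x) p') / β) • y + (B x p' / β) • θ y) ∈ P := by
      apply memP <;>
      · simp only [map_sub, map_add, map_smul, smul_eq_mul, b1, b2, b4, b6, b11, b12, hyy, hyy',
          hyp'.1, hyp'.2]
        field_simp
        try ring
    have h1 := hsing hr
    rw [Submodule.mem_comap, map_sub] at h1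
    exact (R.sub_mem_iff_left (hyR _ (D.kLine_op (mem_kLine.mpr ⟨_, _, rfl⟩)))).mp h1
  -- the two points span a totally singular plane over the field
  have key : ∀ c, RPair Q B H c y → c ∉ kLine θ y → B (θ y) c = 0 →
      θ c ∈ R ∧ ∃ v, Q v = 0 ∧ B c v = 1 ∧ B y v = 0 ∧ B (θ y) v = 0 ∧ B (θ c) v = t ∧ θ v ∈ R ∧
        ∀ ρ, B v ρ = 0 → B c ρ = 0 → B (θ c) ρ = 0 → B y ρ = 0 → B (θ y) ρ = 0 → θ ρ ∈ R := by
    intro c hc hcy hβ
    have hQc : Q c = 0 := hc.1
    have hyc : B y c = 0 := by rw [C.symm, hc.2.2.1]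
    have hcc : B c (θ c) = 0 := D.line c hQc
    set s : Finset (ι → F) := {y, θ y, t • c - θ c} with hs
    have hcs : c ∉ Submodule.span F (s : Set (ι → F)) := by
      intro h
      simp only [hs, Finset.coe_insert, Finset.coe_singleton] at h
      obtain ⟨a, z, hz, he⟩ := Submodule.mem_span_insert.mp h
      obtain ⟨b, d, hd⟩ := Submodule.mem_span_pair.mp hz
      have e : (1 - d * t) • c + d • θ c = a • y + b • θ y := by
        rw [← hd] at he
        linear_combination (norm := module) he
      have hk : (1 - d * t) • c + d • θ c ∈ kLine θ y := e ▸ mem_kLine.mpr ⟨a, b, rfl⟩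
      by_cases h0 : (1 - d * t) • c + d • θ c = 0
      · by_cases hd0 : d = 0
        · rw [hd0] at h0; simp at h0; exact hcy (h0 ▸ Submodule.zero_mem _)
        · refine D.free c (fun h => hcy (h ▸ Submodule.zero_mem _)) (-(1 - d * t) / d) ?_
          have := congrArg (d⁻¹ • ·) h0
          simp only [smul_add, smul_smul, smul_zero, inv_mul_cancel₀ hd0, one_smul] at this
          linear_combination (norm := skip) this
          match_scalars <;> field_simp <;> ring
      · exact hcy (D.kLine_mono hk (D.kLine_symm (mem_kLine.mpr ⟨_, _, rfl⟩) h0))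
    obtain ⟨v, hv, hcv, hsv⟩ := D.exists_sing s Finset.card_le_three hcs
    have hv1 := hsv y (by simp [hs])
    have hv2 := hsv (θ y) (by simp [hs])
    have hv3 := hsv (t • c - θ c) (by simp [hs])
    have hv4 : B (θ c) v = t := by
      rw [map_sub, map_smul, LinearMap.sub_apply, LinearMap.smul_apply, hcv] at hv3
      simp only [smul_eq_mul, mul_one] at hv3
      linear_combination -hv3
    have hθv := mk c hc v hv hcv hv1 hv2 hv3
    set S : Finset (ι → F) := {v, c, θ c, y, θ y} with hS
    set A := Submodule.span F (S : Set (ι → F)) with hA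
    set U := perpIn B ⊤ A with hU
    have memU : ∀ {w}, B v w = 0 → B c w = 0 → B (θ c) w = 0 → B y w = 0 → B (θ y) w = 0 →
        w ∈ U := by
      intro w h1 h2 h3 h4 h5
      refine ⟨trivial, fun a ha => ?_⟩
      have hle : A ≤ LinearMap.ker (B.flip w) := Submodule.span_le.mpr fun a ha => by
        simp only [hS, Finset.coe_insert, Finset.coe_singleton, Set.mem_insert_iff,
          Set.mem_singleton_iff] at ha
        rcases ha with rfl | rfl | rfl | rfl | rfl <;> simp [LinearMap.mem_ker, *]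
      exact LinearMap.mem_ker.mp (hle ha)
    have ofU : ∀ {w}, w ∈ U →
        B v w = 0 ∧ B c w = 0 ∧ B (θ c) w = 0 ∧ B y w = 0 ∧ B (θ y) w = 0 := fun hw =>
      ⟨hw.2 v (Submodule.subset_span (by simp [hS])), hw.2 c (Submodule.subset_span (by simp [hS])),
        hw.2 _ (Submodule.subset_span (by simp [hS])), hw.2 y (Submodule.subset_span (by simp [hS])),
        hw.2 _ (Submodule.subset_span (by simp [hS]))⟩
    obtain ⟨ρ₁, h₁, ρ₂, h₂, hne⟩ : ∃ ρ₁ ∈ U, ∃ ρ₂ ∈ U, B ρ₁ ρ₂ ≠ 0 := by
      by_contra hne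
      push Not at hne
      -- an isotropic perpendicular contains its span
      have h1 := finrank_perpIn (B := B) ⊤ A
      have h2 := finrank_span_finset_le_card (R := F) S
      have h3 : S.card ≤ 5 := Finset.card_le_five
      have := D.card
      unfold Set.finrank at h2
      rw [finrank_top, finrank_fintype_fun_eq_card] at h1
      have hle : U ≤ perpIn B ⊤ U := fun w hw => ⟨trivial, fun a ha => hne a ha w hw⟩
      have hA' : A ≤ perpIn B ⊤ U := fun a ha => ⟨trivial, fun w hw => by
        rw [C.symm]; exact hw.2 a ha⟩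
      have h4 : finrank F (perpIn B ⊤ U) + finrank F U ≤ Fintype.card ι := by
        let Φ : perpIn B ⊤ U →ₗ[F] U.dualAnnihilator :=
          LinearMap.codRestrict _ ((B : (ι → F) →ₗ[F] (ι → F) →ₗ[F] F) ∘ₗ (perpIn B ⊤ U).subtype)
            fun w => by
            rw [Submodule.mem_dualAnnihilator]
            intro a ha
            show B (w : ι → F) a = 0
            rw [C.symm]
            exact w.2.2 a ha
        have hinj : Function.Injective Φ := by
          rw [injective_iff_map_eq_zero]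
          exact fun w hw => Subtype.ext (C.nondeg' fun u =>
            LinearMap.congr_fun (congrArg Subtype.val hw) u)
        have := LinearMap.finrank_le_finrank_of_injective hinj
        have h5 := Subspace.finrank_add_finrank_dualAnnihilator_eq U
        rw [finrank_fintype_fun_eq_card] at h5
        omega
      have hA2 : finrank F A ≤ S.card := by rw [hA]; exact h2
      have hU2 : Fintype.card ι ≤ finrank F U + finrank F A := by rw [hU]; exact h1
      have heq := Submodule.eq_of_le_of_finrank_le hle (by omega)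
      have hcU : c ∈ U := heq ▸ hA' (Submodule.subset_span (by simp [hS]))
      have := (ofU hcU).1
      rw [C.symm, hcv] at this
      exact one_ne_zero this
    -- the singular lift of a vector of `U`
    have lift : ∀ ρ ∈ U, θ (v + ρ - Q ρ • c) ∈ R := by
      intro ρ hρ
      obtain ⟨w1, w2, w3, w4, w5⟩ := ofU hρ
      refine mk c hc _ ?_ ?_ ?_ ?_ ?_
      · rw [sub_eq_add_neg, ← neg_smul, C.add, C.add, C.smul, hQc, hv, w1, map_smul, map_add,
          LinearMap.add_apply, C.symm v c, C.symm ρ c, hcv, w2]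
        simp only [mul_zero, smul_eq_mul, mul_one, add_zero, zero_add]
        ring
      · simp [hcv, w2, C.self_zero hQc]
      · simp [hv1, w4, hyc]
      · simp [hv2, w5, hβ]
      · simp [hcv, hv4, w2, w3, C.self_zero hQc, C.symm (θ c) c, hcc]
    have hθc : θ c ∈ R := by
      have h := R.smul_mem (B ρ₁ ρ₂)⁻¹ (R.sub_mem (R.sub_mem (R.add_mem (lift ρ₁ h₁) (lift ρ₂ h₂))
        (lift (ρ₁ + ρ₂) (U.add_mem h₁ h₂))) hθv)
      rw [C.add] at h
      convert h using 1
      simp only [map_add, map_sub, map_smul]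
      match_scalars
      · field_simp; ring
      all_goals ring
    refine ⟨hθc, v, hv, hcv, hv1, hv2, hv4, hθv, fun ρ w1 w2 w3 w4 w5 => ?_⟩
    have hρ := memU w1 w2 w3 w4 w5
    have h := R.add_mem (R.sub_mem (lift ρ hρ) hθv) (R.smul_mem (Q ρ) hθc)
    convert h using 1
    simp only [map_add, map_sub, map_smul]
    module
  obtain ⟨hθx, v, hv, hxv, hv1, hv2, hv4, hθv, hall⟩ := key x hp hxy hβ
  have hvk : KPerp B θ y v := ⟨hv1, hv2⟩
  have hθvy := D.kperp_op hvk
  have hθvY : θ v ∉ kLine θ y := fun h => by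
    have hv0 : v ≠ 0 := fun h0 => by simp [h0] at hxv
    have hθv0 : θ v ≠ 0 := fun h0 => D.free v hv0 0 (by rw [h0, zero_smul])
    have hvY : v ∈ kLine θ y := D.kLine_mono h (D.kLine_symm (op_mem_kLine v) hθv0)
    obtain ⟨a, b, e⟩ := mem_kLine.mp hvY
    rw [← e, map_add, map_smul, map_smul, hp.2.2.1, C.symm x (θ y), hβ] at hxv
    simp at hxv
  obtain ⟨hθθv, -⟩ := key (θ v)
    (RPair.symm C ⟨hy, D.op_sing hv, hθv.1, hθv.2⟩) hθvY hθvy.2
  have hvR : v ∈ R := by
    have h := R.smul_mem N⁻¹ (R.sub_mem (R.smul_mem t hθv) hθθv)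
    rw [D.sq, sub_sub_cancel, smul_smul, inv_mul_cancel₀ D.neN, one_smul] at h
    exact h
  -- the decomposition
  have hxθv : B x (θ v) = 0 := by rw [D.b_op, hxv, hv4]; ring
  have hθxθv : B (θ x) (θ v) = N := by
    rw [D.adj, map_sub, map_smul, D.sq]
    simp [hxv]
  have hxθx : B (θ x) x = 0 := by rw [C.symm, D.line x hx]
  set c1 := B x p'
  set d := (B (θ x) p' - t * c1) / N with hd
  set e := B v (p' - c1 • v - d • θ v) with he
  have hr := hall (p' - c1 • v - d • θ v - e • x)
    (by rw [map_sub, map_smul, ← he, C.symm v x, hxv, smul_eq_mul, mul_one, sub_self])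
    (by simp [c1, hxv, hxθv, C.self_zero hx])
    (by
      simp only [map_sub, map_smul, hv4, hθxθv, hxθx, smul_eq_mul, mul_zero, sub_zero, hd]
      field_simp [D.neN]
      ring)
    (by simp [hyp'.1, hv1, hθvy.1, hyx]) (by simp [hyp'.2, hv2, hθvy.2, hβ])
  have h := R.add_mem hr (R.add_mem (R.add_mem (R.smul_mem c1 hθv) (R.smul_mem d hθθv))
    (R.smul_mem e hθx))
  convert h using 1
  simp only [map_sub, map_smul]
  module

theorem QuadOp.rpair_kperp {x y : ι → F} (hp : RPair Q B H x y) (hy0 : y ≠ 0)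
    (hxy : x ∉ kLine θ y) {v : ι → F} (hv : Q v = 0) (hyv : KPerp B θ y v) : RPair Q B H y v :=
  have h := D.perp_le_roots hH hroot hp hy0 hxy hyv
  ⟨hp.2.1, hv, h.1, h.2⟩

omit hH hroot in
/-- Two singular points are perpendicular over the field, or have a common neighbour. -/
theorem QuadOp.exists_mid {y z : ι → F} (hy : Q y = 0) (hy0 : y ≠ 0) (hz : Q z = 0) (hz0 : z ≠ 0) :
    (KPerp B θ y z ∧ z ∉ kLine θ y) ∨
      ∃ w, Q w = 0 ∧ w ≠ 0 ∧ KPerp B θ y w ∧ KPerp B θ w z ∧ w ∉ kLine θ y ∧ z ∉ kLine θ w := by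
  classical
  have C := D.space
  have hk : ∀ u : ι → F, finrank F (kLine θ u) ≤ 2 := fun u => finrank_span_pair_le u (θ u)
  by_cases hzy : z ∈ kLine θ y
  · obtain ⟨w, hw, hws, hwA⟩ := D.exists_off {y, θ y} (Finset.card_le_two.trans (by norm_num))
      (kLine θ y) (by
        have := D.card
        have := Finset.card_le_two (a := y) (b := θ y)
        have := hk y
        omega)
    have hyw : KPerp B θ y w := ⟨hws y (by simp), hws (θ y) (by simp)⟩
    have hwy := D.kperp_symm hyw
    obtain ⟨a, b, he⟩ := mem_kLine.mp hzy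
    have h' := D.kperp_op hwy
    refine Or.inr ⟨w, hw, fun h => hwA (h ▸ Submodule.zero_mem _), hyw,
      ⟨by rw [← he, map_add, map_smul, map_smul, hwy.1, h'.1]; simp,
        by rw [← he, map_add, map_smul, map_smul, hwy.2, h'.2]; simp⟩, hwA, fun h => hwA ?_⟩
    exact D.kLine_mono hzy (D.kLine_symm h hz0)
  by_cases hyz : KPerp B θ y z
  · exact Or.inl ⟨hyz, hzy⟩
  set S : Finset (ι → F) := {y, θ y, z, θ z} with hS
  set P := perpIn B ⊤ (Submodule.span F (S : Set (ι → F))) with hP
  have hPd : 3 ≤ finrank F P := by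
    have h1 := finrank_perpIn (B := B) ⊤ (Submodule.span F (S : Set (ι → F)))
    have h2 := finrank_span_finset_le_card (R := F) S
    have h3 : S.card ≤ 4 := Finset.card_le_four
    have := D.card
    unfold Set.finrank at h2
    rw [finrank_top, finrank_fintype_fun_eq_card] at h1
    rw [hP]
    omega
  obtain ⟨w, hwP, hw0, hw⟩ := Sing.exists_singular C.smul C.polar P hPd
  have hyw : KPerp B θ y w :=
    ⟨hwP.2 y (Submodule.subset_span (by simp [hS])), hwP.2 _ (Submodule.subset_span (by simp [hS]))⟩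
  have hzw : KPerp B θ z w :=
    ⟨hwP.2 z (Submodule.subset_span (by simp [hS])), hwP.2 _ (Submodule.subset_span (by simp [hS]))⟩
  have lin : ∀ {u a : ι → F}, KPerp B θ a u → ∀ q ∈ kLine θ u, KPerp B θ a q := fun {u a} h q hq => by
    obtain ⟨c, d, rfl⟩ := mem_kLine.mp hq
    have h' := D.kperp_op h
    exact ⟨by simp [h.1, h'.1], by simp [h.2, h'.2]⟩
  exact Or.inr ⟨w, hw, hw0, hyw, D.kperp_symm hzw,
    fun h => hyz (D.kperp_symm (lin hzw y (D.kLine_symm h hw0))),
    fun h => hyz (lin hyw z h)⟩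

theorem QuadOp.all_pairs {x y : ι → F} (hp : RPair Q B H x y) (hy0 : y ≠ 0)
    (hxy : x ∉ kLine θ y) {u v : ι → F} (hu : Q u = 0) (hv : Q v = 0) (huv : B u v = 0) :
    RPair Q B H u v := by
  classical
  have C := D.space
  have step : ∀ a b : ι → F, (∃ c, RPair Q B H c a ∧ c ∉ kLine θ a) → a ≠ 0 → Q b = 0 →
      KPerp B θ a b → b ∉ kLine θ a → ∃ c, RPair Q B H c b ∧ c ∉ kLine θ b := by
    rintro a b ⟨c, hc, hca⟩ ha0 hb hab hba
    exact ⟨a, D.rpair_kperp hH hroot hc ha0 hca hb hab,
      fun h => hba (D.kLine_symm h ha0)⟩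
  have good : ∀ z, Q z = 0 → z ≠ 0 → ∀ b, Q b = 0 → KPerp B θ z b → RPair Q B H z b := by
    intro z hz hz0 b hb hzb
    rcases D.exists_mid hp.2.1 hy0 hz hz0 with ⟨hyz, hzy⟩ | ⟨w, hw, hw0, hyw, hwz, hwy, hzw⟩
    · obtain ⟨c, hc, hcz⟩ := step y z ⟨x, hp, hxy⟩ hy0 hz hyz hzy
      exact D.rpair_kperp hH hroot hc hz0 hcz hb hzb
    · obtain ⟨c, hc, hcz⟩ := step w z (step y w ⟨x, hp, hxy⟩ hy0 hw hyw hwy) hw0 hz hwz hzw
      exact D.rpair_kperp hH hroot hc hz0 hcz hb hzb
  by_cases hu0 : u = 0
  · subst hu0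
    refine ⟨hu, hv, huv, fun c => ?_⟩
    have : sGL Q B 0 (c • v) = 1 := gl_ext fun z => by
      rw [sGL_act C hu (by simp)]; simp
    rw [this]
    exact one_mem H
  by_cases hv0 : v = 0
  · exact hv0 ▸ good u hu hu0 0 C.zero ⟨map_zero _, map_zero _⟩
  obtain ⟨p, hp0, hps, hpA⟩ := D.exists_off {v, θ v, u} (Finset.card_le_three.trans (by norm_num))
    (Submodule.span F (({u, θ u, v} : Finset (ι → F)) : Set (ι → F))) (by
      have := D.card
      have h := finrank_span_finset_le_card (R := F) ({u, θ u, v} : Finset (ι → F))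
      unfold Set.finrank at h
      have := Finset.card_le_three (a := u) (b := θ u) (c := v)
      have := Finset.card_le_three (a := v) (b := θ v) (c := u)
      omega)
  obtain ⟨q, hq, hpq, hqs⟩ := D.exists_sing {u, θ u, v} (Finset.card_le_three.trans (by norm_num))
    (x := p) hpA
  have hpne : p ≠ 0 := fun h => hpA (h ▸ Submodule.zero_mem _)
  have hqne : q ≠ 0 := fun h => by simp [h] at hpq
  have h1 : RPair Q B H q u :=
    good q hq hqne u hu (D.kperp_symm ⟨hqs u (by simp), hqs (θ u) (by simp)⟩)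
  have h2 : RPair Q B H p v :=
    good p hp0 hpne v hv (D.kperp_symm ⟨hps v (by simp), hps (θ v) (by simp)⟩)
  exact h1.rule C hH h2 (hps u (by simp)) huv (by rw [C.symm]; exact hqs v (by simp))
    (by rw [C.symm]; exact hpq)

end

/-- A map preserving all singular lines over the quadratic field lies in that field. -/
theorem QuadOp.scalar_of_lines [Finite F] (D : QuadOp Q B θ t N)
    (φ : (ι → F) →ₗ[F] (ι → F)) (hφ : ∀ w, Q w = 0 → φ w ∈ kLine θ w) :
    ∃ a b : F, ∀ w, φ w = a • w + b • θ w := by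
  classical
  have C := D.space
  have uniq : ∀ {w : ι → F} {a b a' b' : F}, w ≠ 0 → a • w + b • θ w = a' • w + b' • θ w →
      a = a' ∧ b = b' := by
    intro w a b a' b' hw h
    by_cases hb : b = b'
    · refine ⟨smul_left_injective F hw ?_, hb⟩
      rw [hb] at h
      exact add_right_cancel h
    · exfalso
      have hb' : b - b' ≠ 0 := sub_ne_zero.mpr hb
      refine D.free w hw ((a' - a) / (b - b')) ?_
      have e : (b - b') • θ w = (a' - a) • w := by linear_combination (norm := module) h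
      rw [div_eq_inv_mul, ← smul_smul, ← e, smul_smul, inv_mul_cancel₀ hb', one_smul]
  have link : ∀ u v, Q u = 0 → Q v = 0 → KPerp B θ u v → u ≠ 0 → v ∉ kLine θ u →
      ∀ a b : F, φ u = a • u + b • θ u → φ v = a • v + b • θ v := by
    intro u v hu hv huv hu0 hind a b hφu
    obtain ⟨a', b', hφv⟩ := mem_kLine.mp (hφ v hv)
    obtain ⟨a'', b'', hs⟩ := mem_kLine.mp (hφ (u + v) (by rw [C.add, hu, hv, huv.1]; simp))
    rw [map_add φ, map_add θ, hφu, ← hφv] at hs
    have hv0 : v ≠ 0 := fun h => hind (h ▸ Submodule.zero_mem _)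
    have e : (a'' - a) • u + (b'' - b) • θ u = (a' - a'') • v + (b' - b'') • θ v := by
      linear_combination (norm := module) hs
    have h0 : (a' - a'') • v + (b' - b'') • θ v = 0 := by
      by_contra hne
      refine hind (D.kLine_mono (v := u) ?_ (D.kLine_symm (mem_kLine.mpr ⟨_, _, rfl⟩) hne))
      rw [← e]
      exact mem_kLine.mpr ⟨_, _, rfl⟩
    obtain ⟨i1, i2⟩ := uniq (a := a' - a'') (b := b' - b'') (a' := 0) (b' := 0) hv0
      (by rw [h0]; simp)
    obtain ⟨i3, i4⟩ := uniq (a := a'' - a) (b := b'' - b) (a' := 0) (b' := 0) hu0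
      (by rw [e, h0]; simp)
    rw [← hφv, show a' = a by linear_combination i1 + i3, show b' = b by linear_combination i2 + i4]
  obtain ⟨e, f, hef⟩ := exists_hyp' C C.ndeg_top
    (by rw [finrank_top, finrank_fintype_fun_eq_card]; have := D.card; omega)
  have he0 : e ≠ 0 := fun h => by simpa [h] using hef.pair
  obtain ⟨a, b, hab⟩ := mem_kLine.mp (hφ e hef.singE)
  refine ⟨a, b, fun w => ?_⟩
  induction hef.span C (Submodule.mem_top : w ∈ ⊤) using Submodule.span_induction with
  | mem z hz =>
    by_cases hz0 : z = 0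
    · simp [hz0]
    rcases D.exists_mid hef.singE he0 hz.2 hz0 with ⟨hez, hze⟩ | ⟨p, hp, hp0, hep, hpz, hpe, hzp⟩
    · exact link e z hef.singE hz.2 hez he0 hze a b hab.symm
    · exact link p z hp hz.2 hpz hp0 hzp a b (link e p hef.singE hp hep he0 hpe a b hab.symm)
  | zero => simp
  | add p q _ _ hp hq => rw [map_add, hp, hq, map_add]; module
  | smul c p _ hp => rw [map_smul, hp, map_smul]; module

/-- Either `H` maps singular lines over the field to such lines, or it is all of `Ω`. -/
theorem QuadOp.lines_or_top [Finite F] (D : QuadOp Q B θ t N) {H : Subgroup (GL ι F)}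
    (hH : H ≤ isometryGroup F Q) (hroot : ∀ u, Q u = 0 → RPair Q B H u (θ u)) :
    (∀ g ∈ H, ∀ u, Q u = 0 → g.val *ᵥ θ u ∈ kLine θ (g.val *ᵥ u)) ∨ Cfsg.Geo.omegaGL Q ≤ H := by
  by_cases h : ∀ g ∈ H, ∀ u, Q u = 0 → g.val *ᵥ θ u ∈ kLine θ (g.val *ᵥ u)
  · exact Or.inl h
  push Not at h
  obtain ⟨g, hg, u, hu, hne⟩ := h
  have hu0 : u ≠ 0 := fun h => hne (by simp [h])
  have hp := RPair.conj D.space hH hg (RPair.symm D.space (hroot u hu))
  refine Or.inr ?_
  have h5 : 5 ≤ Fintype.card ι := by have := D.card; omega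
  rw [omegaGL_eq D.space h5]
  exact root_le_of_pairs D.space h5 H fun a b ha hb hab => by
    simpa using (D.all_pairs hH hroot hp (act_ne_zero hu0) hne ha hb hab).2.2.2 1

end Cfsg.Lib.Linear.OrthQ2
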