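import Cfsg.Agent.Lib.Linear.OrthBasic
import Mathlib.LinearAlgebra.Matrix.ToLin
import Mathlib.LinearAlgebra.Dimension.Free

/-!
# Generators of quadratic field subalgebras of matrices
-/

set_option autoImplicit false

namespace Cfsg.Lib.Linear

open Module
open scoped Matrix

variable {ι : Type} [Fintype ι] [DecidableEq ι] {F : Type*} [Field F]

/-- A generator of a quadratic field subalgebra with its quadratic relation. -/
theorem exists_quad_gen (K : Subalgebra F (Matrix ι ι F)) (hK : Cfsg.Geo.IsFieldSubalgebra 2 K) :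
    ∃ (T : Matrix ι ι F) (t N : F), T ∈ K ∧ (∀ k, k ∈ K ↔ ∃ a b : F, k = a • 1 + b • T) ∧
      T * T = t • T - N • 1 ∧ N ≠ 0 ∧ ∀ v : ι → F, v ≠ 0 → ∀ c : F, T *ᵥ v ≠ c • v := by
  have hne : Nonempty ι := by
    by_contra h
    have : IsEmpty ι := not_nonempty_iff.mp h
    have hsub : Subsingleton K := ⟨fun a b => Subtype.ext (Matrix.ext fun i => isEmptyElim i)⟩
    have := Module.finrank_zero_of_subsingleton (R := F) (M := K)
    rw [hK.finrank_eq] at this
    exact two_ne_zero this
  obtain ⟨T, hT, hT1⟩ : ∃ T ∈ K, T ∉ Submodule.span F {(1 : Matrix ι ι F)} := by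
    by_contra h
    push Not at h
    have h1 := Submodule.finrank_mono (show Subalgebra.toSubmodule K ≤ Submodule.span F {1} from h)
    rw [Subalgebra.finrank_toSubmodule, hK.finrank_eq, finrank_span_singleton one_ne_zero] at h1
    omega
  have hli : LinearIndependent F ![(1 : Matrix ι ι F), T] :=
    (LinearIndependent.pair_iff' one_ne_zero).mpr fun a e =>
      hT1 (Submodule.mem_span_singleton.mpr ⟨a, e⟩)
  have hspan : Submodule.span F (Set.range ![(1 : Matrix ι ι F), T]) = Subalgebra.toSubmodule K := by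
    refine Submodule.eq_of_le_of_finrank_eq (Submodule.span_le.mpr ?_) ?_
    · rintro _ ⟨i, rfl⟩
      fin_cases i
      · exact K.one_mem
      · exact hT
    · rw [finrank_span_eq_card hli, Fintype.card_fin, Subalgebra.finrank_toSubmodule, hK.finrank_eq]
  have hmem : ∀ k, k ∈ K ↔ ∃ a b : F, k = a • 1 + b • T := fun k => by
    rw [← Subalgebra.mem_toSubmodule, ← hspan, Submodule.mem_span_range_iff_exists_fun]
    constructor
    · rintro ⟨c, rfl⟩
      exact ⟨c 0, c 1, by simp [Fin.sum_univ_two]⟩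
    · rintro ⟨a, b, rfl⟩
      exact ⟨![a, b], by simp [Fin.sum_univ_two]⟩
  have free : ∀ v : ι → F, v ≠ 0 → ∀ c : F, T *ᵥ v ≠ c • v := fun v hv c e => by
    have hk : T - c • 1 ∈ K := K.sub_mem hT (K.smul_mem K.one_mem c)
    have hk0 : T - c • 1 ≠ 0 := fun h => hT1 (Submodule.mem_span_singleton.mpr
      ⟨c, (sub_eq_zero.mp h).symm⟩)
    obtain ⟨k', hk', hkk⟩ := hK.inv _ hk hk0
    have hkk' : k' * (T - c • 1) = 1 := by rw [hK.comm _ hk' _ hk, hkk]
    refine hv ?_
    have := congrArg (· *ᵥ v) hkk'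
    simp only [← Matrix.mulVec_mulVec, Matrix.sub_mulVec, Matrix.smul_mulVec, Matrix.one_mulVec,
      e, sub_self, Matrix.mulVec_zero] at this
    exact this.symm
  obtain ⟨a, b, hab⟩ := (hmem _).mp (K.mul_mem hT hT)
  refine ⟨T, b, -a, hT, hmem, by rw [hab]; module, fun h0 => ?_, free⟩
  rw [neg_eq_zero] at h0
  obtain ⟨i⟩ := hne
  have hT0 : T *ᵥ (Pi.single i 1) ≠ 0 := fun h =>
    free (Pi.single i 1) (by simp) 0 (by rw [h, zero_smul])
  refine free _ hT0 b ?_
  rw [Matrix.mulVec_mulVec, hab, h0, Matrix.add_mulVec, zero_smul, Matrix.zero_mulVec, zero_add,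
    Matrix.smul_mulVec]

end Cfsg.Lib.Linear
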