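import Cfsg.Agent.Lib.Linear.OrthOverfield
import Cfsg.Agent.Lib.Linear.OverfieldAlg

/-!
# Normalisers of quadratic field algebras of similarities are maximal in `Ω`
-/

set_option autoImplicit false

namespace Cfsg.Lib.Linear.OrthOverfieldMax

open scoped Matrix
open Cfsg.Lib.Linear Cfsg.Lib.Linear.Orth Cfsg.Lib.Linear.OrthQ2 Module

/-- The normaliser of a quadratic field of similarities is maximal in `Ω`. -/
theorem subalgebra_normalizer_max {F : Type*} [Field F] [Fintype F] {n : ℕ} (hn : 10 ≤ n) (heven : Even n) (Q : (Fin n → F) → F) (hQ : Cfsg.Geo.IsNondegenerateQuadraticForm Q) (K : Subalgebra F (Matrix (Fin n) (Fin n) F)) (hK : Cfsg.Geo.IsFieldSubalgebra 2 K) (hac : Cfsg.Geo.IsAdjointClosedFor (QuadraticMap.polar Q) K) (hnsa : ¬ Cfsg.Geo.IsSelfAdjointFor (QuadraticMap.polar Q) K) (hsc : ∀ k ∈ K, ∃ c : F, ∀ v : (Fin n → F), Q (Matrix.mulVec k v) = c * Q v) : Cfsg.Geo.IsMaximalIn (Cfsg.Geo.omegaGL Q) (Cfsg.Geo.subalgebraNormalizer K ⊓ Cfsg.Geo.omegaGL Q) := by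
  classical
  obtain ⟨B, C⟩ := exists_space hQ
  obtain ⟨T, t, N, hT, hmem, hsq, hN, hfree⟩ := exists_quad_gen K hK
  have hB : ∀ u v, QuadraticMap.polar Q u v = B u v := C.polar
  set θ := Matrix.mulVecLin T
  obtain ⟨T', hT', hadj⟩ := hac T hT
  simp only [hB] at hadj
  obtain ⟨a', b', hT'eq⟩ := (hmem T').mp hT'
  obtain ⟨c, hc⟩ := hsc T hT
  have hsq' : ∀ v, T *ᵥ (T *ᵥ v) = t • (T *ᵥ v) - N • v := fun v => by
    rw [Matrix.mulVec_mulVec, hsq, Matrix.sub_mulVec, Matrix.smul_mulVec, Matrix.smul_mulVec,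
      Matrix.one_mulVec]
  have hscB : ∀ u v, B (T *ᵥ u) (T *ᵥ v) = c * B u v := fun u v => by
    rw [← hB, ← hB]
    simp only [QuadraticMap.polar, ← Matrix.mulVec_add, hc]
    ring
  have hTT' : ∀ u v, B (T *ᵥ u) v = a' * B u v + b' * B u (T *ᵥ v) := fun u v => by
    rw [hadj, hT'eq, Matrix.add_mulVec, Matrix.smul_mulVec, Matrix.smul_mulVec, Matrix.one_mulVec,
      map_add, map_smul, map_smul]
    simp
  obtain ⟨i0⟩ : Nonempty (Fin n) := ⟨⟨0, by omega⟩⟩
  set e0 : Fin n → F := Pi.single i0 1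
  have he0 : e0 ≠ 0 := by simp [e0]
  -- the adjoint is the conjugate
  have key : ∀ u v, B u (b' • (t • (T *ᵥ v) - N • v) + a' • (T *ᵥ v) - c • v) = 0 := fun u v => by
    have h1 := hscB u v
    rw [hTT', hsq', map_sub, map_smul, map_smul] at h1
    simp only [map_sub, map_add, map_smul, smul_eq_mul] at h1 ⊢
    linear_combination h1
  have hz := C.nondeg _ fun u => key u e0
  have hat : b' * t + a' = 0 := by
    by_contra h
    refine hfree e0 he0 ((b' * N + c) / (b' * t + a')) ?_
    have e : (b' * t + a') • (T *ᵥ e0) = (b' * N + c) • e0 := by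
      linear_combination (norm := module) hz
    rw [div_eq_inv_mul, ← smul_smul, ← e, smul_smul, inv_mul_cancel₀ h, one_smul]
  have hc' : c = -(b' * N) := by
    have e : (b' * N + c) • e0 = 0 := by
      rw [show a' = -(b' * t) by linear_combination hat] at hz
      linear_combination (norm := module) -hz
    linear_combination (smul_eq_zero.mp e).resolve_right he0
  have hb' : b' = -1 := by
    have key2 : ∀ u v, (1 - b' * b') * B u (T *ᵥ v) - (1 + b') * a' * B u v = 0 := fun u v => by
      have h1 := hTT' v u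
      have h2 := hTT' u v
      rw [C.symm (T *ᵥ v) u, C.symm v u, C.symm v (T *ᵥ u)] at h1
      linear_combination h1 + b' * h2
    have hz2 : (1 - b' * b') • (T *ᵥ e0) - ((1 + b') * a') • e0 = 0 := C.nondeg _ fun u => by
      rw [map_sub, map_smul, map_smul, smul_eq_mul, smul_eq_mul]
      exact key2 u e0
    by_contra hb
    have h1 : 1 + b' ≠ 0 := fun h => hb (by linear_combination h)
    have hb2 : b' = 1 := by
      by_contra hb1
      have h2 : 1 - b' * b' ≠ 0 := by
        rw [show 1 - b' * b' = (1 - b') * (1 + b') by ring]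
        exact mul_ne_zero (sub_ne_zero.mpr fun h => hb1 h.symm) h1
      refine hfree e0 he0 ((1 + b') * a' / (1 - b' * b')) ?_
      rw [div_eq_inv_mul, ← smul_smul, ← sub_eq_zero.mp hz2, smul_smul, inv_mul_cancel₀ h2,
        one_smul]
    rw [hb2] at hz2 h1
    simp only [one_mul, sub_self, zero_smul, zero_sub, neg_eq_zero, smul_eq_zero, he0, or_false,
      mul_eq_zero, h1, false_or] at hz2
    refine hnsa fun k hk u v => ?_
    obtain ⟨p, q, rfl⟩ := (hmem k).mp hk
    simp only [hB, Matrix.add_mulVec, Matrix.smul_mulVec, Matrix.one_mulVec, map_add, map_smul,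
      LinearMap.add_apply, LinearMap.smul_apply, hTT' u v, hz2, hb2, smul_eq_mul]
    ring
  subst hb'
  have ha' : a' = t := by linear_combination hat
  subst ha'
  have hcN : c = N := by linear_combination hc'
  subst hcN
  have D : QuadOp Q B θ a' c := by
    refine ⟨C, ?_, fun v => hsq' v, fun u v => ?_, fun v => hc v, fun v hv => ?_, hN,
      fun v hv k => hfree v hv k⟩
    · obtain ⟨j, rfl⟩ := heven
      rw [Fintype.card_fin]; omega
    · show B (T *ᵥ u) v = B u (a' • v - T *ᵥ v)
      rw [hTT', map_sub, map_smul, smul_eq_mul]; ring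
    · obtain ⟨d, hd⟩ := hsc (1 + T) (K.add_mem K.one_mem hT)
      have h := hd v
      rw [Matrix.add_mulVec, Matrix.one_mulVec, C.add, hc, hv] at h
      show B v (T *ᵥ v) = 0
      simpa using h
  have h5 : 5 ≤ Fintype.card (Fin n) := by rw [Fintype.card_fin]; omega
  have hO := omegaGL_eq C h5
  have hiso : Cfsg.Geo.omegaGL Q ≤ isometryGroup F Q := hO ▸ root_le_iso C _
  have hroot : ∀ u, Q u = 0 → RPair Q B (Cfsg.Geo.subalgebraNormalizer K ⊓ Cfsg.Geo.omegaGL Q)
      u (θ u) := by
    intro u hu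
    refine ⟨hu, D.op_sing hu, D.line u hu, fun k => ?_⟩
    have hu2 : B u (k • θ u) = 0 := by rw [map_smul, D.line u hu, smul_zero]
    refine ⟨?_, hO ▸ sGL_mem_root trivial trivial hu hu2⟩
    have hcomm : (sGL Q B u (k • θ u)).val * T = T * (sGL Q B u (k • θ u)).val := by
      refine mat_ext fun z => ?_
      rw [← Matrix.mulVec_mulVec, ← Matrix.mulVec_mulVec, sGL_act C hu hu2, sGL_act C hu hu2,
        C.smul, D.op_sing hu]
      show θ z + B u (θ z) • k • θ u - (B (k • θ u) (θ z) + k ^ 2 * 0 * B u (θ z)) • u =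
        θ (z + B u z • k • θ u - (B (k • θ u) z + k ^ 2 * 0 * B u z) • u)
      simp only [map_sub, map_add, map_smul, LinearMap.sub_apply, LinearMap.smul_apply,
        smul_eq_mul, D.sq, D.b_op]
      module
    set g := sGL Q B u (k • θ u)
    have hfix : ∀ x ∈ K, (g : Matrix (Fin n) (Fin n) F) * x = x * g := by
      intro x hx
      obtain ⟨p, q, rfl⟩ := (hmem x).mp hx
      simp only [mul_add, add_mul, Matrix.mul_smul, Matrix.smul_mul, mul_one, one_mul, hcomm]
    intro x
    constructor
    · intro hx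
      rw [hfix x hx, mul_assoc, ← Units.val_mul, mul_inv_cancel, Units.val_one, mul_one]
      exact hx
    · intro hx
      have h2 := hfix _ hx
      have e : (g : Matrix (Fin n) (Fin n) F) * ((g : Matrix (Fin n) (Fin n) F) * x *
          ((g⁻¹ : GL (Fin n) F) : Matrix _ _ F)) = (g : Matrix (Fin n) (Fin n) F) * x := by
        rw [h2, mul_assoc, ← Units.val_mul, inv_mul_cancel, Units.val_one, mul_one]
      rwa [← (Units.mul_right_inj g).mp e]
  have lines : ∀ g ∈ Cfsg.Geo.subalgebraNormalizer K ⊓ isometryGroup F Q, ∀ z,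
      ∃ a b : F, g.val *ᵥ θ z = a • (g.val *ᵥ z) + b • θ (g.val *ᵥ z) := by
    intro g hg z
    obtain ⟨a, b, hab⟩ := (hmem _).mp ((hg.1 T).mp hT)
    refine ⟨a, b, ?_⟩
    have h := congrArg (· *ᵥ (g.val *ᵥ z)) hab
    simp only [← Matrix.mulVec_mulVec, Matrix.add_mulVec, Matrix.smul_mulVec,
      Matrix.one_mulVec] at h
    rw [inv_act] at h
    exact h
  refine ⟨lt_of_le_of_ne inf_le_right fun heq => ?_, fun M hLM hMK => ?_⟩
  · obtain ⟨y, f0, hy⟩ := exists_hyp' C C.ndeg_top
      (by rw [finrank_top, finrank_fintype_fun_eq_card]; omega)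
    have hy0 : y ≠ 0 := fun h => by simpa [h] using hy.pair
    obtain ⟨v, hv, hvs, hvA⟩ := D.exists_off {y, θ y} (Finset.card_le_two.trans (by norm_num))
      (kLine θ y) (by
        have : finrank F (kLine θ y) ≤ 2 := finrank_span_pair_le y (θ y)
        have := Finset.card_le_two (a := y) (b := θ y)
        omega)
    have hyv : B y v = 0 := hvs y (by simp)
    have hyv' : B (θ y) v = 0 := hvs (θ y) (by simp)
    have hg : sGL Q B y v ∈ Cfsg.Geo.subalgebraNormalizer K ⊓ Cfsg.Geo.omegaGL Q := by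
      rw [heq, hO]; exact sGL_mem_root trivial trivial hy.singE hyv
    obtain ⟨a, b, hab⟩ := (hmem _).mp ((hg.1 T).mp hT)
    have hgz : ∀ z, (sGL Q B y v).val *ᵥ θ z =
        a • ((sGL Q B y v).val *ᵥ z) + b • θ ((sGL Q B y v).val *ᵥ z) := fun z => by
      have h := congrArg (· *ᵥ ((sGL Q B y v).val *ᵥ z)) hab
      simp only [← Matrix.mulVec_mulVec, Matrix.add_mulVec, Matrix.smul_mulVec,
        Matrix.one_mulVec] at h
      rw [inv_act] at h
      exact h
    obtain ⟨z, hz, hz0, hzs⟩ : ∃ z, Q z = 0 ∧ z ≠ 0 ∧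
        ∀ a ∈ ({y, θ y, v, θ v} : Finset (Fin n → F)), B a z = 0 := by
      refine ⟨y, hy.singE, hy0, fun a ha => ?_⟩
      have hk := D.kperp_symm (y := y) (v := v) ⟨hyv, hyv'⟩
      simp only [Finset.mem_insert, Finset.mem_singleton] at ha
      rcases ha with rfl | rfl | rfl | rfl
      exacts [C.self_zero hy.singE, by rw [C.symm, D.line y hy.singE], hk.1, hk.2]
    have e1 := hgz z
    have hyθz : B y (θ z) = 0 := by rw [D.b_op, hzs y (by simp), hzs (θ y) (by simp)]; ring
    have hvθz : B v (θ z) = 0 := by rw [D.b_op, hzs v (by simp), hzs (θ v) (by simp)]; ring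
    rw [sGL_act C hy.singE hyv, sGL_act C hy.singE hyv, hv, hyθz, hvθz, hzs y (by simp),
      hzs v (by simp)] at e1
    simp only [zero_mul, add_zero, zero_smul, sub_zero] at e1
    have hb1 : b = 1 := by
      by_contra hb
      refine hfree z hz0 (a / (1 - b)) ?_
      show θ z = _
      have e : (1 - b) • θ z = a • z := by
        linear_combination (norm := module) e1
      rw [div_eq_inv_mul, ← smul_smul, ← e, smul_smul,
        inv_mul_cancel₀ (sub_ne_zero.mpr fun h => hb h.symm), one_smul]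
    subst hb1
    have ha0 : a = 0 := by
      refine (smul_eq_zero.mp ?_).resolve_right hz0
      linear_combination (norm := module) -e1
    subst ha0
    have hyv2 : y ∉ Submodule.span F (({θ y, v, θ v} : Finset (Fin n → F)) : Set (Fin n → F)) := by
      intro h
      simp only [Finset.coe_insert, Finset.coe_singleton] at h
      obtain ⟨p, w, hw, he⟩ := Submodule.mem_span_insert.mp h
      have e' : y - p • θ y ∈ kLine θ v := by rw [sub_eq_iff_eq_add'.mpr he]; exact hw
      refine hvA (D.kLine_mono (mem_kLine.mpr ⟨1, -p, ?_⟩) (D.kLine_symm e' ?_))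
      · module
      · intro h0
        by_cases hp : p = 0
        · rw [hp, zero_smul, sub_zero] at h0; exact hy0 h0
        · refine hfree y hy0 p⁻¹ ?_
          show θ y = _
          conv_rhs => rw [sub_eq_zero.mp h0]
          rw [smul_smul, inv_mul_cancel₀ hp, one_smul]
    obtain ⟨f, hfs, hyf⟩ := C.exists_perp hyv2
    have h0 : ∀ w ∈ ({θ y, v, θ v} : Finset (Fin n → F)), B w f = 0 := fun w hw =>
      hfs w (Submodule.subset_span hw)
    have e2 := hgz f
    have hyθf : B y (θ f) = a' := by rw [D.b_op, hyf, h0 (θ y) (by simp)]; ring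
    have hvθf : B v (θ f) = 0 := by rw [D.b_op, h0 v (by simp), h0 (θ v) (by simp)]; ring
    rw [sGL_act C hy.singE hyv, sGL_act C hy.singE hyv, hv, hyθf, hvθf, hyf, h0 v (by simp)] at e2
    simp only [zero_mul, add_zero, zero_smul, sub_zero, one_smul, zero_add, map_add] at e2
    refine hfree v (fun h => hvA (h ▸ Submodule.zero_mem _)) a' ?_
    exact (add_left_cancel e2).symm
  · have hMI : M ≤ isometryGroup F Q := hMK.trans hiso
    rcases D.lines_or_top hMI (fun u hu =>
      ⟨(hroot u hu).1, (hroot u hu).2.1, (hroot u hu).2.2.1, fun k => hLM ((hroot u hu).2.2.2 k)⟩)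
      with h | h
    · refine Or.inl (le_antisymm (fun g hg => ⟨?_, hMK hg⟩) hLM)
      have conjT : ∀ g ∈ M, g.val * T * ((g⁻¹ : GL (Fin n) F) : Matrix _ _ F) ∈ K := by
        intro g hg
        obtain ⟨a, b, hab⟩ := D.scalar_of_lines
          (Matrix.mulVecLin (g.val * T * ((g⁻¹ : GL (Fin n) F) : Matrix _ _ F))) (fun w hw => by
            have h1 := h g hg ((g⁻¹ : GL (Fin n) F).val *ᵥ w)
              (by rw [mem_iso.mp (inv_mem (hMI hg)), hw])
            rw [act_inv] at h1
            rw [Matrix.mulVecLin_apply, ← Matrix.mulVec_mulVec, ← Matrix.mulVec_mulVec]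
            exact h1)
        refine (hmem _).mpr ⟨a, b, mat_ext fun w => ?_⟩
        rw [Matrix.add_mulVec, Matrix.smul_mulVec, Matrix.smul_mulVec, Matrix.one_mulVec]
        exact hab w
      have fwd : ∀ g ∈ M, ∀ x ∈ K, g.val * x * ((g⁻¹ : GL (Fin n) F) : Matrix _ _ F) ∈ K := by
        intro g hg x hx
        obtain ⟨p, q, rfl⟩ := (hmem x).mp hx
        simp only [mul_add, add_mul, Matrix.mul_smul, Matrix.smul_mul, mul_one, ← Units.val_mul,
          mul_inv_cancel, Units.val_one]
        exact K.add_mem (K.smul_mem K.one_mem p) (K.smul_mem (conjT g hg) q)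
      intro x
      refine ⟨fwd g hg x, fun hx => ?_⟩
      have := fwd g⁻¹ (inv_mem hg) _ hx
      rwa [inv_inv, ← mul_assoc, ← mul_assoc, ← Units.val_mul, inv_mul_cancel, Units.val_one,
        one_mul, mul_assoc, ← Units.val_mul, inv_mul_cancel, Units.val_one, mul_one] at this
    · exact Or.inr (le_antisymm hMK h)

end Cfsg.Lib.Linear.OrthOverfieldMax
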