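import Cfsg.Agent.Lib.Linear.OrthRule
import Cfsg.Agent.Lib.Linear.OrthParity

/-!
# The stabiliser of a pair of complementary maximal totally singular subspaces

A subgroup of `Ω` containing the stabiliser and an element exchanging the two subspaces is either
inside the stabiliser or all of `Ω`.
-/

set_option autoImplicit false

namespace Cfsg.Lib.Linear.Orth

open Module
open scoped Matrix

variable {ι : Type} [Fintype ι] [DecidableEq ι] {F : Type*} [Field F]
  {Q : (ι → F) → F} {B : LinearMap.BilinForm F (ι → F)}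

/-- Two complementary half-dimensional totally singular subspaces. -/
structure HalfPair (Q : (ι → F) → F) (M N : Submodule F (ι → F)) : Prop where
  left : IsHalf Q M
  right : IsHalf Q N
  disj : M ⊓ N = ⊥
  sup : M ⊔ N = ⊤

theorem HalfPair.swap {M N : Submodule F (ι → F)} (P : HalfPair Q M N) : HalfPair Q N M :=
  ⟨P.right, P.left, by rw [inf_comm, P.disj], by rw [sup_comm, P.sup]⟩

theorem HalfPair.split {M N : Submodule F (ι → F)} (P : HalfPair Q M N) (x : ι → F) :
    ∃ p ∈ M, ∃ q ∈ N, x = p + q := by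
  obtain ⟨p, hp, q, hq, e⟩ := Submodule.mem_sup.mp (P.sup ▸ Submodule.mem_top : x ∈ M ⊔ N)
  exact ⟨p, hp, q, hq, e.symm⟩

section

variable (C : Space Q B) {M N : Submodule F (ι → F)} (P : HalfPair Q M N)

include C P

/-- A vector of `N` with prescribed pairings against `M`. -/
theorem HalfPair.exists_dual {A : Submodule F (ι → F)} (hA : A ≤ M) {x : ι → F} (hxM : x ∈ M)
    (hx : x ∉ A) : ∃ q ∈ N, (∀ a ∈ A, B a q = 0) ∧ B x q = 1 := by
  obtain ⟨y, hy, hxy⟩ := C.exists_perp hx
  obtain ⟨p, hp, q, hq, rfl⟩ := P.split y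
  refine ⟨q, hq, fun a ha => ?_, ?_⟩
  · have := hy a ha
    rwa [map_add, ts_orth C P.left.1 (hA ha) hp, zero_add] at this
  · rwa [map_add, ts_orth C P.left.1 hxM hp, zero_add] at hxy

/-- A root element that moves `N` off both subspaces and fixes `M`. -/
theorem HalfPair.mover {u a : ι → F} (hu : u ∈ M) (ha : a ∈ M) (ha' : a ∉ Submodule.span F {u})
    (hu0 : u ≠ 0) :
    sGL Q B u a ∈ Cfsg.Geo.subspaceStabilizer M ∧
      ∃ q ∈ N, (sGL Q B u a).val *ᵥ q ∉ N ∧ (sGL Q B u a).val *ᵥ q ∉ M := by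
  have hQu := P.left.1 u hu
  have hua := ts_orth C P.left.1 hu ha
  refine ⟨mem_stab_of_mapsTo fun y hy => ?_, ?_⟩
  · rw [sGL_act C hQu hua, ts_orth C P.left.1 hu hy, zero_smul, add_zero]
    exact M.sub_mem hy (M.smul_mem _ hu)
  obtain ⟨q, hq, -, huq⟩ := P.exists_dual C (A := ⊥) bot_le hu (by simpa using hu0)
  refine ⟨q, hq, ?_, ?_⟩
  · rw [sGL_act C hQu hua, huq, one_smul, show q + a - (B a q + Q a * 1) • u
      = q + (a - (B a q + Q a * 1) • u) by abel]
    intro h
    have h' := N.sub_mem h hq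
    rw [add_sub_cancel_left] at h'
    have : a - (B a q + Q a * 1) • u ∈ M ⊓ N := ⟨M.sub_mem ha (M.smul_mem _ hu), h'⟩
    rw [P.disj, Submodule.mem_bot, sub_eq_zero] at this
    exact ha' (Submodule.mem_span_singleton.mpr ⟨_, this.symm⟩)
  · rw [sGL_act C hQu hua, huq, one_smul, show q + a - (B a q + Q a * 1) • u
      = q + (a - (B a q + Q a * 1) • u) by abel]
    intro h
    have h' := M.sub_mem h (M.sub_mem ha (M.smul_mem (B a q + Q a * 1) hu))
    rw [add_sub_cancel_right] at h'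
    have : q ∈ M ⊓ N := ⟨h', hq⟩
    rw [P.disj, Submodule.mem_bot] at this
    rw [this] at huq
    simp at huq

variable {H : Subgroup (GL ι F)} (hH : H ≤ isometryGroup F Q)
  (hL : ∀ u ∈ M, ∀ v ∈ N, B u v = 0 → RPair Q B H u v)

include hH hL

/-- One root group inside `M` gives all of them. -/
theorem HalfPair.spread {a b : ι → F} (ha : a ∈ M) (hb : b ∈ M)
    (hab : a ∉ Submodule.span F {b}) (hb0 : b ≠ 0) (hR : RPair Q B H a b) :
    ∀ v ∈ M, ∀ w ∈ M, RPair Q B H v w := by
  have step : ∀ {a b : ι → F}, a ∈ M → b ∈ M → a ∉ Submodule.span F {b} → RPair Q B H a b →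
      ∀ v ∈ M, RPair Q B H b v := by
    intro a b ha hb hab hR v hv
    by_cases hmem : a ∈ Submodule.span F {b, v}
    · obtain ⟨s, t, hst⟩ := Submodule.mem_span_pair.mp hmem
      have ht : t ≠ 0 := fun h => hab (Submodule.mem_span_singleton.mpr
        ⟨s, by rw [← hst, h, zero_smul, add_zero]⟩)
      have h := hR.plane C 0 1 t⁻¹ (-(t⁻¹ * s))
      rwa [zero_smul, one_smul, zero_add, show t⁻¹ • a + -(t⁻¹ * s) • b = v by
        rw [← hst, smul_add, smul_smul, smul_smul, inv_mul_cancel₀ ht, one_smul]; module] at h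
    obtain ⟨u, hu, hperp, hau⟩ := P.exists_dual C
      (A := Submodule.span F {b, v}) (Submodule.span_le.mpr (by
        rintro x (rfl | rfl) <;> assumption)) ha hmem
    refine hR.rule C hH (RPair.symm C (hL v hv u hu (hperp v (Submodule.subset_span (by simp)))))
      (hperp b (Submodule.subset_span (by simp))) (ts_orth C P.left.1 hb hv)
      (ts_orth C P.left.1 ha hv) hau
  intro v hv w hw
  have hba := step ha hb hab hR
  have hbv := hba v hv
  by_cases hvb : b ∈ Submodule.span F {v}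
  · obtain ⟨c, hc⟩ := Submodule.mem_span_singleton.mp hvb
    by_cases hc0 : c = 0
    · exact absurd (by rw [← hc, hc0, zero_smul]) hb0
    · have h := (hba w hw).plane C c⁻¹ 0 0 1
      rwa [zero_smul, zero_smul, one_smul, add_zero, zero_add, ← hc, smul_smul,
        inv_mul_cancel₀ hc0, one_smul] at h
  · exact step hb hv hvb hbv w hw

variable [Finite F] (h13 : 11 ≤ Fintype.card ι)

include h13

/-- A root group whose projection to `N` has rank two reaches two vectors of `N`. -/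
theorem HalfPair.reach {x1 x2 y1 y2 : ι → F} (hx1 : x1 ∈ M) (hx2 : x2 ∈ N) (hy1 : y1 ∈ M)
    (hy2 : y2 ∈ N) (hx2y2 : x2 ∉ Submodule.span F {y2}) (hy20 : y2 ≠ 0)
    (hR : RPair Q B H (x1 + x2) (y1 + y2)) :
    ∃ v ∈ N, RPair Q B H (y1 + y2) v ∧ y2 ∉ Submodule.span F {v} ∧ v ≠ 0 := by
  obtain ⟨u, hu, hperp, hxu⟩ := P.swap.exists_dual C (A := Submodule.span F {y2})
    (Submodule.span_le.mpr (by simpa using hy2)) hx2 hx2y2
  have hy2u := hperp y2 (Submodule.mem_span_singleton_self _)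
  let Φ : N →ₗ[F] F × F × F :=
    ((B (x1 + x2)).prod ((B (y1 + y2)).prod (B u))).comp N.subtype
  obtain ⟨v, hv, hvy⟩ : ∃ v, v ∈ (LinearMap.ker Φ).map N.subtype ∧
      v ∉ Submodule.span F {y2} := by
    by_contra hne
    push Not at hne
    have h1 := Submodule.finrank_mono (hne : (LinearMap.ker Φ).map N.subtype ≤ _)
    rw [(Submodule.equivMapOfInjective _ N.injective_subtype _).finrank_eq.symm,
      finrank_span_singleton hy20] at h1
    have h2 := LinearMap.finrank_range_add_finrank_ker Φ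
    have h3 := Submodule.finrank_le (LinearMap.range Φ)
    rw [Module.finrank_prod, Module.finrank_prod, Module.finrank_self] at h3
    have := P.right.2
    omega
  obtain ⟨⟨v', hvN⟩, hvk, rfl⟩ := hv
  have hk := LinearMap.mem_ker.mp hvk
  simp only [Φ, LinearMap.comp_apply, LinearMap.prod_apply, Function.prod_apply,
    Prod.mk_eq_zero, Submodule.subtype_apply] at hk
  refine ⟨v', hvN, hR.rule C hH (hL u hu v' hvN hk.2.2) ?_ hk.2.1 hk.1 ?_, fun h => ?_,
    fun h => hvy (by simp [h])⟩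
  · rw [map_add, LinearMap.add_apply, ts_orth C P.left.1 hy1 hu, hy2u, zero_add]
  · rw [map_add, LinearMap.add_apply, ts_orth C P.left.1 hx1 hu, hxu, zero_add]
  · obtain ⟨c, hc⟩ := Submodule.mem_span_singleton.mp h
    have hc0 : c ≠ 0 := fun h0 => hy20 (by rw [← hc, h0, zero_smul])
    refine hvy (Submodule.mem_span_singleton.mpr ⟨c⁻¹, ?_⟩)
    rw [← hc, smul_smul, inv_mul_cancel₀ hc0, one_smul]
    rfl

theorem HalfPair.reach_two {x y : ι → F} (hR : RPair Q B H x y)
    {x1 x2 y1 y2 : ι → F} (hx1 : x1 ∈ M) (hx2 : x2 ∈ N) (hy1 : y1 ∈ M)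
    (hy2 : y2 ∈ N) (hx : x = x1 + x2) (hy : y = y1 + y2)
    (hx2y2 : x2 ∉ Submodule.span F {y2}) (hy20 : y2 ≠ 0) :
    ∃ a ∈ N, ∃ b ∈ N, a ∉ Submodule.span F {b} ∧ b ≠ 0 ∧ RPair Q B H a b := by
  subst hx hy
  obtain ⟨v, hv, hR', hyv, hv0⟩ := P.reach C hH hL h13 hx1 hx2 hy1 hy2 hx2y2 hy20 hR
  obtain ⟨w, hw, hR'', hvw, hw0⟩ := P.reach C hH hL h13 hy1 hy2 M.zero_mem hv hyv hv0
    (by rw [zero_add]; exact hR')
  exact ⟨v, hv, w, hw, hvw, hw0, by rwa [zero_add] at hR''⟩

end

theorem subspace_union {A M N : Submodule F (ι → F)} (h : ∀ a ∈ A, a ∈ M ∨ a ∈ N) :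
    A ≤ M ∨ A ≤ N := by
  by_contra hne
  push Not at hne
  obtain ⟨⟨a, ha, haM⟩, b, hb, hbN⟩ :=
    And.intro (SetLike.not_le_iff_exists.mp hne.1) (SetLike.not_le_iff_exists.mp hne.2)
  have haN := (h a ha).resolve_left haM
  have hbM := (h b hb).resolve_right hbN
  rcases h _ (A.add_mem ha hb) with h1 | h1
  · exact haM (by simpa using M.sub_mem h1 hbM)
  · exact hbN (by simpa using N.sub_mem h1 haN)

section Main

variable [Finite F] (C : Space Q B) {M N : Submodule F (ι → F)} (P : HalfPair Q M N)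
  (h13 : 11 ≤ Fintype.card ι) {H : Subgroup (GL ι F)} (hH : H ≤ isometryGroup F Q)

include C P h13 hH

theorem HalfPair.split_image (hL : ∀ u ∈ M, ∀ v ∈ N, B u v = 0 → RPair Q B H u v)
    (hbad : ¬ ((∃ a ∈ M, ∃ b ∈ M, a ∉ Submodule.span F {b} ∧ b ≠ 0 ∧ RPair Q B H a b) ∨
      ∃ a ∈ N, ∃ b ∈ N, a ∉ Submodule.span F {b} ∧ b ≠ 0 ∧ RPair Q B H a b))
    {g : GL ι F} (hg : g ∈ H) : img g M ≤ M ∨ img g M ≤ N := by
  have hL' : ∀ u ∈ N, ∀ v ∈ M, B u v = 0 → RPair Q B H u v := fun u hu v hv h =>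
    RPair.symm C (hL v hv u hu (by rw [C.symm, h]))
  refine subspace_union fun z hz => ?_
  obtain ⟨u, hu, rfl⟩ := hz
  rw [Matrix.mulVecLin_apply]
  obtain ⟨p, hp, q, hq, he⟩ := P.split (g.val *ᵥ u)
  by_cases hp0 : p = 0
  · exact Or.inr (by rw [he, hp0, zero_add]; exact hq)
  by_cases hq0 : q = 0
  · exact Or.inl (by rw [he, hq0, add_zero]; exact hp)
  exfalso
  classical
  set A := N ⊓ LinearMap.ker (B u) with hA
  have hle : img g A ≤ Submodule.span F (↑({p, q} : Finset (ι → F)) : Set (ι → F)) := by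
    rintro _ ⟨v, hv, rfl⟩
    rw [Matrix.mulVecLin_apply]
    obtain ⟨p', hp', q', hq', he'⟩ := P.split (g.val *ᵥ v)
    have hR := (hL u hu v hv.1 (LinearMap.mem_ker.mp hv.2)).conj C hH hg
    have hq2 : q' ∈ Submodule.span F {q} := by
      by_contra hne
      obtain ⟨a, ha, b, hb, h1, h2, h3⟩ :=
        P.reach_two C hH hL h13 (RPair.symm C hR) hp' hq' hp hq he' he hne hq0
      exact hbad (Or.inr ⟨a, ha, b, hb, h1, h2, h3⟩)
    have hp2 : p' ∈ Submodule.span F {p} := by
      by_contra hne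
      obtain ⟨a, ha, b, hb, h1, h2, h3⟩ := P.swap.reach_two C hH hL' h13 (RPair.symm C hR)
        hq' hp' hq hp (by rw [he', add_comm]) (by rw [he, add_comm]) hne hp0
      exact hbad (Or.inl ⟨a, ha, b, hb, h1, h2, h3⟩)
    rw [he']
    refine Submodule.add_mem _ (Submodule.span_mono ?_ hp2) (Submodule.span_mono ?_ hq2) <;> simp
  have h1 := Submodule.finrank_mono hle
  rw [finrank_img] at h1
  have h2 := finrank_span_finset_le_card (R := F) ({p, q} : Finset (ι → F))
  have h3 := Finset.card_le_two (a := p) (b := q)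
  have h4 := finrank_inf_ker_ge N (B u)
  rw [← hA] at h4
  unfold Set.finrank at h2
  have := P.right.2
  omega

/-- The dichotomy for a subgroup containing the stabiliser of the pair and a swapping element. -/
theorem HalfPair.stab_or_top
    (hLH : Cfsg.Geo.subspaceStabilizer M ⊓ Cfsg.Geo.subspaceStabilizer N ⊓ Cfsg.Geo.omegaGL Q ≤ H)
    {σ : GL ι F} (hσ : σ ∈ H) (hσM : ∀ x ∈ M, σ.val *ᵥ x ∈ N) (hσN : ∀ x ∈ N, σ.val *ᵥ x ∈ M) :
    (∀ g ∈ H, img g M = M ∧ img g N = N ∨ img g M = N ∧ img g N = M) ∨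
      Cfsg.Geo.omegaGL Q ≤ H := by
  have hL : ∀ u ∈ M, ∀ v ∈ N, B u v = 0 → RPair Q B H u v := fun u hu v hv huv => by
    refine ⟨P.left.1 u hu, P.right.1 v hv, huv, fun c => hLH ⟨⟨?_, ?_⟩, ?_⟩⟩
    · refine mem_stab_of_mapsTo fun y hy => ?_
      rw [sGL_act C (P.left.1 u hu) (by rw [map_smul, huv, smul_zero]),
        ts_orth C P.left.1 hu hy, zero_smul, add_zero]
      exact M.sub_mem hy (M.smul_mem _ hu)
    · refine mem_stab_of_mapsTo fun y hy => ?_
      rw [sGL_act C (P.left.1 u hu) (by rw [map_smul, huv, smul_zero]), C.smul, P.right.1 v hv,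
        map_smul, LinearMap.smul_apply, ts_orth C P.right.1 hv hy]
      simpa using N.add_mem hy (N.smul_mem _ (N.smul_mem c hv))
    · rw [omegaGL_eq C (by omega)]
      exact sGL_mem_root trivial trivial (P.left.1 u hu) (by rw [map_smul, huv, smul_zero])
  have hL' : ∀ u ∈ N, ∀ v ∈ M, B u v = 0 → RPair Q B H u v := fun u hu v hv h =>
    RPair.symm C (hL v hv u hu (by rw [C.symm, h]))
  by_cases hgood : (∃ a ∈ M, ∃ b ∈ M, a ∉ Submodule.span F {b} ∧ b ≠ 0 ∧ RPair Q B H a b) ∨
      ∃ a ∈ N, ∃ b ∈ N, a ∉ Submodule.span F {b} ∧ b ≠ 0 ∧ RPair Q B H a b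
  · right
    have hmove : ∀ {M N : Submodule F (ι → F)}, (∀ x ∈ M, σ.val *ᵥ x ∈ N) →
        (∃ a ∈ M, ∃ b ∈ M, a ∉ Submodule.span F {b} ∧ b ≠ 0 ∧ RPair Q B H a b) →
        ∃ a ∈ N, ∃ b ∈ N, a ∉ Submodule.span F {b} ∧ b ≠ 0 ∧ RPair Q B H a b := by
      rintro M N hσM ⟨a, ha, b, hb, hab, hb0, hR⟩
      refine ⟨_, hσM a ha, _, hσM b hb, fun h => hab ?_, act_ne_zero hb0, hR.conj C hH hσ⟩
      obtain ⟨c, hc⟩ := Submodule.mem_span_singleton.mp h
      exact Submodule.mem_span_singleton.mpr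
        ⟨c, act_injective σ ((Matrix.mulVec_smul _ _ _).trans hc)⟩
    obtain ⟨⟨a, ha, b, hb, h1, h2, h3⟩, a', ha', b', hb', h1', h2', h3'⟩ :=
      hgood.elim (fun h => And.intro h (hmove hσM h)) fun h => And.intro (hmove hσN h) h
    have hM := P.spread C hH hL ha hb h1 h2 h3
    have hN := P.swap.spread C hH hL' ha' hb' h1' h2' h3'
    have cen : ∀ {M N : Submodule F (ι → F)}, HalfPair Q M N →
        (∀ v ∈ M, ∀ w ∈ M, RPair Q B H v w) →
        (∀ u ∈ M, ∀ v ∈ N, B u v = 0 → RPair Q B H u v) → ∀ u ∈ M, Centre Q B H u := by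
      intro M N P hMM hMN u hu a hua
      obtain ⟨p, hp, q, hq, rfl⟩ := P.split a
      have hup := ts_orth C P.left.1 hu hp
      have huq : B u q = 0 := by rwa [map_add, hup, zero_add] at hua
      rw [← sGL_mul C (P.left.1 u hu) hup huq]
      exact mul_mem (by simpa using (hMM u hu p hp).2.2.2 1)
        (by simpa using (hMN u hu q hq huq).2.2.2 1)
    obtain ⟨q, hq, -, hbq⟩ := P.exists_dual C (A := ⊥) bot_le hb (by simpa using h2)
    exact omega_le_of_two C (by omega) hH (P.left.1 b hb) (P.right.1 q hq)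
      (by rw [hbq]; exact one_ne_zero) (cen P hM hL b hb) (cen P.swap hN hL' q hq)
  · left
    intro g hg
    have eq_of : ∀ {A D : Submodule F (ι → F)}, IsHalf Q A → IsHalf Q D → img g A ≤ D →
        img g A = D := fun {A D} hA hD h => Submodule.eq_of_le_of_finrank_eq h (by
      rw [finrank_img]; have := hA.2; have := hD.2; omega)
    have hne : img g M ≠ img g N := fun h => by
      have h1 : M = N := Submodule.map_injective_of_injective (act_injective g) h
      have h2 := P.disj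
      rw [h1, inf_idem] at h2
      have h3 := P.right.2
      rw [h2, finrank_bot] at h3
      omega
    have gM := P.split_image C h13 hH hL hgood hg
    have gN := P.swap.split_image C h13 hH hL' (fun h => hgood h.symm) hg
    rcases gM with h1 | h1 <;> rcases gN with h2 | h2
    · exact Or.inl ⟨eq_of P.left P.left h1, eq_of P.right P.right h2⟩
    · exact absurd ((eq_of P.left P.left h1).trans (eq_of P.right P.left h2).symm) hne
    · exact absurd ((eq_of P.left P.right h1).trans (eq_of P.right P.right h2).symm) hne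
    · exact Or.inr ⟨eq_of P.left P.right h1, eq_of P.right P.left h2⟩

end Main

theorem HalfPair.exists_swapper [Finite F] (C : Space Q B) {M N : Submodule F (ι → F)}
    (P : HalfPair Q M N) (h5 : 5 ≤ Fintype.card ι) {k : ℕ} (hk : finrank F M = k) (hke : Even k) :
    ∃ σ ∈ Cfsg.Geo.omegaGL Q, (∀ x ∈ M, σ.val *ᵥ x ∈ N) ∧ ∀ x ∈ N, σ.val *ᵥ x ∈ M := by
  classical
  set b := Module.finBasisOfFinrankEq F M hk with hb
  let e : Fin k → ι → F := fun i => (b i : ι → F)
  have heM : ∀ i, e i ∈ M := fun i => (b i).2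
  have hind : LinearIndependent F e := b.linearIndependent.map' M.subtype M.ker_subtype
  have hex : ∀ i, ∃ f ∈ N, (∀ j, j ≠ i → B (e j) f = 0) ∧ B (e i) f = 1 := fun i => by
    obtain ⟨f, hf, h1, h2⟩ := P.exists_dual C (A := Submodule.span F (e '' {j | j ≠ i}))
      (Submodule.span_le.mpr (Set.image_subset_iff.mpr fun j _ => heM j)) (heM i)
      (hind.notMem_span_image (by simp))
    exact ⟨f, hf, fun j hj => h1 _ (Submodule.subset_span ⟨j, hj, rfl⟩), h2⟩
  choose f hfN hf0 hf1 using hex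
  have hQv : ∀ i, Q (e i - f i) = -1 := fun i => by
    rw [sub_eq_add_neg, C.add, C.neg, P.left.1 _ (heM i), P.right.1 _ (hfN i), map_neg, hf1]
    simp
  have hQv' : ∀ i, Q (e i - f i) ≠ 0 := fun i => by rw [hQv]; simp
  let R : Fin k → GL ι F := fun i => rGL Q (e i - f i)
  have hRe : ∀ i j, (R i).val *ᵥ e j = (if j = i then f j else e j) ∧
      (R i).val *ᵥ f j = (if j = i then e j else f j) := fun i j => by
    have hee : B (e i) (e j) = 0 := ts_orth C P.left.1 (heM i) (heM j)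
    have hff : B (f i) (f j) = 0 := ts_orth C P.right.1 (hfN i) (hfN j)
    by_cases hji : j = i
    · subst hji
      simp only [R, rGL_act C (hQv' j), hQv, if_true, map_sub, LinearMap.sub_apply, hee, hff,
        C.symm (f j) (e j), hf1]
      constructor <;> simp
    · have h1 : B (e j) (f i) = 0 := hf0 i j hji
      have h2 : B (e i) (f j) = 0 := hf0 j i (Ne.symm hji)
      simp only [R, rGL_act C (hQv' i), if_neg hji, map_sub, LinearMap.sub_apply, hee, hff,
        C.symm (f i) (e j), h1, h2]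
      constructor <;> simp
  let T : ℕ → GL ι F := fun n =>
    Nat.rec 1 (fun n T => (if h : n < k then R ⟨n, h⟩ else 1) * T) n
  have hT : ∀ n, n ≤ k → ∀ j, (T n).val *ᵥ e j = (if j.val < n then f j else e j) ∧
      (T n).val *ᵥ f j = (if j.val < n then e j else f j) := by
    intro n
    induction n with
    | zero => exact fun _ j => ⟨by simp [T], by simp [T]⟩
    | succ n ih =>
      intro hn j
      obtain ⟨h1, h2⟩ := ih (by omega) j
      have hTn : T (n + 1) = R ⟨n, by omega⟩ * T n := by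
        show (if h : n < k then R ⟨n, h⟩ else 1) * T n = _
        rw [dif_pos (show n < k by omega)]
      rw [hTn, mul_act, mul_act, h1, h2]
      obtain ⟨r1, r2⟩ := hRe ⟨n, by omega⟩ j
      rcases lt_trichotomy j.val n with h | h | h
      · have hne : j ≠ ⟨n, by omega⟩ := fun e => absurd (congrArg Fin.val e) (by simp; omega)
        simp [r1, r2, hne, h, show j.val < n + 1 by omega]
      · have hj : j = ⟨n, by omega⟩ := Fin.ext h
        rw [if_pos hj] at r1 r2
        simp [r1, r2, h]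
      · have hne : j ≠ ⟨n, by omega⟩ := fun e => absurd (congrArg Fin.val e) (by simp; omega)
        simp [r1, r2, hne, show ¬ j.val < n by omega, show ¬ j.val < n + 1 by omega]
  have hTmem : ∀ n, 2 * n ≤ k → T (2 * n) ∈ Cfsg.Geo.omegaGL Q := by
    intro n
    induction n with
    | zero => exact fun _ => one_mem _
    | succ n ih =>
      intro hn
      have : T (2 * (n + 1)) = R ⟨2 * n + 1, by omega⟩ * R ⟨2 * n, by omega⟩ * T (2 * n) := by
        show (if h : 2 * n + 1 < k then R ⟨2 * n + 1, h⟩ else 1) *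
          ((if h : 2 * n < k then R ⟨2 * n, h⟩ else 1) * T (2 * n)) = _
        rw [dif_pos (show 2 * n + 1 < k by omega), dif_pos (show 2 * n < k by omega), mul_assoc]
      rw [this]
      refine mul_mem ?_ (ih (by omega))
      rw [omegaGL_eq C h5, ← comm_eq_root C h5]
      exact rGL_mul_rGL_mem C h5 (hQv' _) (by rw [hQv, hQv])
  obtain ⟨r, hr⟩ := hke
  have hTk := hT k le_rfl
  simp only [Fin.is_lt, if_true] at hTk
  have hspan : M = Submodule.span F (Set.range e) := by
    have := congrArg (Submodule.map M.subtype) b.span_eq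
    rw [Submodule.map_span, Submodule.map_top, Submodule.range_subtype, ← Set.range_comp] at this
    exact this.symm
  have hMN : ∀ x ∈ M, (T k).val *ᵥ x ∈ N := fun x hx => by
    rw [hspan] at hx
    exact (Submodule.span_le (p := N.comap (Matrix.mulVecLin (T k).val))).mpr
      (by rintro _ ⟨j, rfl⟩; show (T k).val *ᵥ e j ∈ N; rw [(hTk j).1]; exact hfN j) hx
  have himg : img (T k) M = N := Submodule.eq_of_le_of_finrank_eq
    (fun _ ⟨y, hy, e⟩ => e ▸ hMN y hy) (by
      rw [finrank_img]; have := P.left.2; have := P.right.2; omega)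
  refine ⟨T k, (show k = 2 * r by omega) ▸ hTmem r (by omega), hMN, fun x hx => ?_⟩
  rw [← himg] at hx
  obtain ⟨y, hy, rfl⟩ := hx
  rw [hspan] at hy
  exact (Submodule.span_le
      (p := M.comap (Matrix.mulVecLin (T k).val ∘ₗ Matrix.mulVecLin (T k).val))).mpr
    (by
      rintro _ ⟨j, rfl⟩
      show (T k).val *ᵥ ((T k).val *ᵥ e j) ∈ M
      rw [(hTk j).1, (hTk j).2]
      exact heM j) hy

theorem halfPair_of_decomp {n k : ℕ} {Q : (Fin n → F) → F} (hk : 2 * k = n)
    {D : Fin 2 → Submodule F (Fin n → F)} (hD : Cfsg.Geo.IsMDecomposition k D)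
    (hts : ∀ i, Cfsg.Geo.IsTotallySingularQuad Q (D i)) : HalfPair Q (D 0) (D 1) := by
  refine ⟨⟨hts 0, by rw [hD.finrank_eq, Fintype.card_fin, hk]⟩,
    ⟨hts 1, by rw [hD.finrank_eq, Fintype.card_fin, hk]⟩,
    disjoint_iff.mp (hD.indep.pairwiseDisjoint (by decide)), ?_⟩
  rw [eq_top_iff, ← hD.iSup_eq_top]
  refine iSup_le fun i => ?_
  fin_cases i
  exacts [le_sup_left, le_sup_right]

/-- Membership in the stabiliser of a pair. -/
theorem mem_decompStab_two {D : Fin 2 → Submodule F (ι → F)} {g : GL ι F} :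
    g ∈ Cfsg.Geo.decompositionStabilizer D ↔
      img g (D 0) = D 0 ∧ img g (D 1) = D 1 ∨ img g (D 0) = D 1 ∧ img g (D 1) = D 0 := by
  constructor
  · rintro ⟨σ, hσ⟩
    have h0 := hσ 0
    have h1 := hσ 1
    have hp : σ = 1 ∨ σ = Equiv.swap 0 1 :=
      (by decide : ∀ τ : Equiv.Perm (Fin 2), τ = 1 ∨ τ = Equiv.swap 0 1) σ
    rcases hp with rfl | rfl
    · exact Or.inl ⟨h0, h1⟩
    · exact Or.inr ⟨h0, h1⟩
  · rintro (⟨h0, h1⟩ | ⟨h0, h1⟩)
    · exact ⟨1, fun i => by fin_cases i; exacts [h0, h1]⟩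
    · exact ⟨Equiv.swap 0 1, fun i => by fin_cases i; exacts [h0, h1]⟩

end Cfsg.Lib.Linear.Orth
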