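import Cfsg.Agent.Lib.Linear.OrthSplitMax

/-!
# Hyperbolic planes over fields with at most three elements

The stabiliser of such a plane fixes a non-singular line, so it is not maximal.
-/

set_option autoImplicit false

namespace Cfsg.Lib.Linear.Orth

open Module
open scoped Matrix

variable {ι : Type} [Fintype ι] [DecidableEq ι] {F : Type*} [Field F]
  {Q : (ι → F) → F} {B : LinearMap.BilinForm F (ι → F)}

theorem plane_not_max [Fintype F] (C : Space Q B) (hn : 7 ≤ Fintype.card ι)
    (hq : Fintype.card F ≤ 3) {W : Submodule F (ι → F)} (hdim : finrank F W = 2) (hW : NDeg B W)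
    (hplus : Cfsg.Geo.IsPlusTypeOn Q W) :
    ∃ K : Subgroup (GL ι F), Cfsg.Geo.subspaceStabilizer W ⊓ Cfsg.Geo.omegaGL Q < K ∧
      K < Cfsg.Geo.omegaGL Q := by
  classical
  obtain ⟨T, hTW, hT, hTd⟩ := hplus
  obtain ⟨e, he, he0⟩ := Submodule.exists_mem_ne_zero_of_ne_bot
    (p := T) (fun h => by rw [h, finrank_bot] at hTd; omega)
  obtain ⟨f, H⟩ := exists_hyp C hW (hTW he) he0 (hT e he)
  set a := e + f with ha
  set b := e - f with hb
  have hQa : Q a = 1 := by rw [ha, C.add, H.singE, H.singF, H.pair]; simp
  have hab : B b a = 0 := by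
    rw [ha, hb]; simp [C.self_zero H.singE, C.self_zero H.singF, H.pair, H.pair' C]
  have hbe : B b e = -1 := by rw [hb]; simp [C.self_zero H.singE, H.pair' C]
  have hWspan : W = Submodule.span F {e, f} := by
    refine (Submodule.eq_of_le_of_finrank_eq ?_ ?_).symm
    · exact Submodule.span_le.mpr (by rintro x (rfl | rfl); exacts [H.memE, H.memF])
    · have hli : LinearIndependent F ![e, f] := by
        refine LinearIndependent.pair_iff.mpr fun s t hst => ?_
        have h1 := congrArg (B e) hst
        have h2 := congrArg (B f) hst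
        simp [C.self_zero H.singE, C.self_zero H.singF, H.pair, H.pair' C] at h1 h2
        exact ⟨h2, h1⟩
      have := finrank_span_eq_card hli
      rw [Matrix.range_cons_cons_empty] at this
      rw [this, hdim]
      rfl
  have h1 : ∀ c : F, c ≠ 0 → c * c = 1 := fun c hc => by
    have h := FiniteField.pow_card_sub_one_eq_one c hc
    have := Fintype.one_lt_card (α := F)
    obtain h2 | h2 : Fintype.card F - 1 = 1 ∨ Fintype.card F - 1 = 2 := by omega
    · rw [h2, pow_one] at h; rw [h, one_mul]
    · rwa [h2, sq] at h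
  have hline := nonsingular_line_max C hn (v := a) (by rw [hQa]; exact one_ne_zero)
  refine ⟨Cfsg.Geo.subspaceStabilizer (Submodule.span F {a}) ⊓ Cfsg.Geo.omegaGL Q, lt_of_le_not_ge (fun g hg => ⟨mem_stab_of_mapsTo fun w hw => ?_, hg.2⟩)
    (fun hle => ?_), hline.1⟩
  · obtain ⟨c, rfl⟩ := Submodule.mem_span_singleton.mp hw
    have hga : g.val *ᵥ a ∈ W := stab_mem hg.1 (W.add_mem H.memE H.memF)
    rw [hWspan] at hga
    obtain ⟨s, t, hst⟩ := Submodule.mem_span_pair.mp hga
    have hQ := mem_iso.mp (Subgroup.map_subtype_le _ hg.2) a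
    rw [← hst, C.smul_add, H.singE, H.singF, H.pair, hQa] at hQ
    simp only [mul_zero, mul_one, zero_add] at hQ
    have ht : t ≠ 0 := fun h => by simp [h] at hQ
    have hst' : s = t := by
      calc s = s * (t * t) := by rw [h1 t ht, mul_one]
        _ = t := by rw [← mul_assoc, hQ, one_mul]
    rw [Matrix.mulVec_smul, ← hst, hst', ← smul_add]
    exact Submodule.smul_mem _ _ (Submodule.smul_mem _ _ (Submodule.mem_span_singleton_self _))
  · have S := split_of_ndeg C hW
    obtain ⟨u, u', hH⟩ := exists_hyp' C S.ndU (by have := S.finrank_add C; omega)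
    have hub : B u b = 0 := S.orth u hH.memE b (W.sub_mem H.memE H.memF)
    have hua : B u a = 0 := S.orth u hH.memE a (W.add_mem H.memE H.memF)
    have hue : B u e = 0 := S.orth u hH.memE e H.memE
    have hmem : sGL Q B u b ∈
        Cfsg.Geo.subspaceStabilizer (Submodule.span F {a}) ⊓ Cfsg.Geo.omegaGL Q :=
      ⟨mem_stab_of_mapsTo fun w hw => by
        obtain ⟨c, rfl⟩ := Submodule.mem_span_singleton.mp hw
        rw [sGL_act C hH.singE hub, map_smul, map_smul, hua, hab]
        simpa using Submodule.smul_mem _ c (Submodule.mem_span_singleton_self a),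
      omegaGL_eq C (by omega : 5 ≤ Fintype.card ι) ▸
        sGL_mem_root trivial trivial hH.singE hub⟩
    have h := stab_mem (hle hmem).1 H.memE
    rw [sGL_act C hH.singE hub, hue, hbe] at h
    have h2 : u ∈ W := by simpa using W.sub_mem h H.memE
    have h3 := S.disj C hH.memE h2
    have h4 := hH.pair
    rw [h3] at h4
    simp at h4

end Cfsg.Lib.Linear.Orth
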