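import Cfsg.Agent.Lib.Linear.OrthSplitSix
import Cfsg.Agent.Lib.Linear.NondegFix.TypeSum
import Cfsg.Agent.Lib.Linear.OrthTenHelp

/-!
# Stabilisers of non-degenerate subspaces, the larger part of Witt index two

The larger part has dimension at least five, or is a four-space of plus type facing a four-space
of minus type. A root pair of `H` mixing the parts is moved by root elements of either part until
a singular vector of the larger part has a root element reaching into the other part.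
-/

set_option autoImplicit false

namespace Cfsg.Lib.Linear.Orth

open Module
open scoped Matrix

variable {ι : Type} [Fintype ι] [DecidableEq ι] {F : Type*} [Field F]
  {Q : (ι → F) → F} {B : LinearMap.BilinForm F (ι → F)}

/-- A singular vector of a space with a hyperbolic pair with prescribed pairing. -/
theorem exists_pair_of_hyp (C : Space Q B) {U : Submodule F (ι → F)} {e f : ι → F}
    (h : Hyp Q B U e f) {x : ι → F} (hx : ∃ z ∈ U, B z x ≠ 0) :
    ∃ w ∈ U, Q w = 0 ∧ B w x = 1 := by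
  obtain ⟨z, hz, hzx⟩ := hx
  obtain ⟨w, hw, hwx⟩ : ∃ w, (w ∈ U ∧ Q w = 0) ∧ B w x ≠ 0 := by
    by_contra hne
    push Not at hne
    exact hzx (((Submodule.span_le (p := LinearMap.ker (B.flip x))).mpr fun w hw =>
      LinearMap.mem_ker.mpr (hne w hw)) (h.span C hz))
  exact ⟨(B w x)⁻¹ • w, U.smul_mem _ hw.1, by rw [C.smul, hw.2, mul_zero],
    by rw [map_smul, LinearMap.smul_apply, smul_eq_mul, inv_mul_cancel₀ hwx]⟩

/-- Transitivity on non-zero vectors of a given norm. -/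
theorem trans_hyp2 (C : Space Q B) {U : Submodule F (ι → F)} (hU : NDeg B U)
    {e f e' f' : ι → F} (H : Hyp Q B U e f) (H' : Hyp Q B (perp2 B U e f) e' f')
    {x y : ι → F} (hx : x ∈ U) (hy : y ∈ U) (hx0 : x ≠ 0) (hy0 : y ≠ 0)
    (hxy : Q x = Q y) : ∃ h ∈ Root Q B U, h.val *ᵥ x = y := by
  suffices key : ∀ x ∈ U, x ≠ 0 → ∃ h ∈ Root Q B U, h.val *ᵥ x = Q x • e + f by
    obtain ⟨g, hg, hgx⟩ := key x hx hx0
    obtain ⟨k, hk, hky⟩ := key y hy hy0
    exact ⟨k⁻¹ * g, mul_mem (inv_mem hk) hg, by rw [mul_act, hgx, hxy, ← hky, inv_act]⟩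
  set W := perp2 B U e f with hW
  have hWn : NDeg B W := H.ndeg C hU
  have he'0 : e' ≠ 0 := fun h => by have := H'.pair; simp [h] at this
  clear hxy hx hy hx0 hy0 x y
  intro x hx hx0
  obtain ⟨h0, hh0, z, hzW, hzx⟩ : ∃ h0 ∈ Root Q B U, ∃ z ∈ W, B z (h0.val *ᵥ x) ≠ 0 := by
    by_cases hz : ∃ z ∈ W, B z x ≠ 0
    · exact ⟨1, one_mem _, by simpa using hz⟩
    push Not at hz
    obtain ⟨a, ha, ha0⟩ : ∃ a ∈ W, a ≠ 0 := ⟨e', H'.memE, he'0⟩
    obtain ⟨b, hb, hab⟩ : ∃ b ∈ W, B b a ≠ 0 := by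
      by_contra h
      push Not at h
      exact ha0 (hWn a ha fun b hb => by rw [C.symm]; exact h b hb)
    obtain ⟨haU, hea, hfa⟩ := mem_perp2.mp ha
    obtain ⟨hbU, heb, hfb⟩ := mem_perp2.mp hb
    by_cases hfx : B f x = 0
    · have hex : B e x ≠ 0 := fun hex => by
        have hw : x - B f x • e - B e x • f = 0 := hWn _ (H.proj C hx) fun y hy => by
          obtain ⟨-, hey, hfy⟩ := mem_perp2.mp hy
          rw [C.symm, map_sub, map_sub, map_smul, map_smul, hz y hy, C.symm y e, C.symm y f,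
            hey, hfy]
          simp
        exact hx0 (by simpa [hfx, hex] using hw)
      refine ⟨_, sGL_mem_root H.memE haU H.singE hea, b, hb, ?_⟩
      rw [sGL_act C H.singE hea, map_sub, map_add, map_smul, map_smul, hz b hb, hz a ha,
        C.symm b e, heb]
      simpa using ⟨hex, hab⟩
    · refine ⟨_, sGL_mem_root H.memF haU H.singF hfa, b, hb, ?_⟩
      rw [sGL_act C H.singF hfa, map_sub, map_add, map_smul, map_smul, hz b hb, hz a ha,
        C.symm b f, hfb]
      simpa using ⟨hfx, hab⟩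
  set x1 := h0.val *ᵥ x with hx1
  have hx1U : x1 ∈ U := root_mem_U C hh0 hx
  obtain ⟨w, hwW, hQw, hwx⟩ := exists_pair_of_hyp C H' ⟨z, hzW, hzx⟩
  obtain ⟨hwU, hew, hfw⟩ := mem_perp2.mp hwW
  have hfw' : B f ((B e x1 - 1) • w) = 0 := by rw [map_smul, hfw, smul_zero]
  have hh1 := sGL_mem_root H.memF (U.smul_mem (B e x1 - 1) hwU) H.singF hfw'
  set h1 := sGL Q B f ((B e x1 - 1) • w) with hh1def
  set x2 := h1.val *ᵥ x1 with hx2
  have hex2 : B e x2 = 1 := by
    rw [hx2, hh1def, sGL_act C H.singF hfw', C.smul, hQw]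
    simp only [map_sub, map_add, map_smul, hew, H.pair, LinearMap.smul_apply, hwx, smul_eq_mul]
    ring
  have hx2U : x2 ∈ U := root_mem_U C hh1 hx1U
  have haW : -(x2 - B f x2 • e - B e x2 • f) ∈ W := W.neg_mem (H.proj C hx2U)
  obtain ⟨haU, hea, hfa⟩ := mem_perp2.mp haW
  have hh2 := sGL_mem_root H.memE haU H.singE hea
  set a := -(x2 - B f x2 • e - B e x2 • f) with hadef
  refine ⟨sGL Q B e a * h1 * h0, mul_mem (mul_mem hh2 hh1) hh0, ?_⟩
  rw [mul_act, mul_act, ← hx1, ← hx2]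
  have h3 : (sGL Q B e a).val *ᵥ x2 = (B f x2 - (B a x2 + Q a)) • e + f := by
    rw [sGL_act C H.singE hea, hex2, mul_one, one_smul]
    have ha' : x2 + a = B f x2 • e + f := by rw [hadef, hex2, one_smul]; abel
    rw [ha']
    module
  have hQ := mem_iso.mp (sGL_mem C H.singE hea) x2
  rw [h3, C.add, C.smul, H.singE, H.singF, map_smul, LinearMap.smul_apply, H.pair, hx2,
    mem_iso.mp (sGL_mem C H.singF hfw'), hx1, mem_iso.mp (root_le_iso C U hh0)] at hQ
  simp only [mul_zero, zero_add, smul_eq_mul, mul_one] at hQ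
  rw [h3]
  simp only [hx2, hx1] at hQ ⊢
  rw [hQ]

/-- A plane whose radical has no singular vectors is non-degenerate. -/
theorem ndeg_of_rad [Finite F] (C : Space Q B) {P : Submodule F (ι → F)} (h2 : finrank F P = 2)
    (h : ∀ x ∈ P, (∀ y ∈ P, B x y = 0) → Q x = 0 → x = 0) : NDeg B P := by
  intro r hr hrP
  by_contra hr0
  have hQr : Q r ≠ 0 := fun h0 => hr0 (h r hr hrP h0)
  have h20 : (2 : F) = 0 := by
    have h1 := hrP r hr
    rw [C.self] at h1
    exact (mul_eq_zero.mp h1).resolve_right hQr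
  haveI : CharP F 2 := CharTwo.of_one_ne_zero_of_two_eq_zero one_ne_zero h20
  have hlt : Submodule.span F {r} < P := by
    refine lt_of_le_of_ne ((Submodule.span_singleton_le_iff_mem r P).mpr hr) fun he => ?_
    rw [← he, finrank_span_singleton hr0] at h2
    omega
  obtain ⟨s, hsP, hs⟩ := SetLike.exists_of_lt hlt
  have hrs : B r s = 0 := hrP s hsP
  have hrad : ∀ c : F, ∀ y ∈ P, B (c • r + s) y = 0 := by
    intro c y hy
    obtain ⟨a, b, rfl⟩ : ∃ a b : F, y = a • r + b • s := by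
      have hle : P ≤ Submodule.span F {r, s} := by
        refine (Submodule.eq_of_le_of_finrank_le (Submodule.span_le.mpr ?_) ?_).ge
        · rintro z (rfl | rfl) <;> assumption
        · rw [h2]
          have hlt' : Submodule.span F {r} < Submodule.span F {r, s} := by
            refine lt_of_le_of_ne (Submodule.span_mono (by simp)) fun he => hs ?_
            rw [he]
            exact Submodule.subset_span (by simp)
          have h3 := Submodule.finrank_lt_finrank_of_lt hlt'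
          rw [finrank_span_singleton hr0] at h3
          omega
      obtain ⟨a, b, hab⟩ := Submodule.mem_span_pair.mp (hle hy)
      exact ⟨a, b, hab.symm⟩
    simp only [map_add, map_smul, LinearMap.add_apply, LinearMap.smul_apply, C.symm s r, hrs,
      C.self, h20, zero_mul, smul_zero, add_zero]
  obtain ⟨c, hc⟩ := FiniteField.isSquare_of_char_two (ringChar.eq F 2) (-(Q s / Q r))
  have hz0 : Q (c • r + s) = 0 := by
    rw [C.add, C.smul, map_smul, LinearMap.smul_apply, hrs, pow_two, ← hc, smul_zero]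
    field_simp
    ring
  refine hs (Submodule.mem_span_singleton.mpr ⟨-c, ?_⟩)
  have := h _ (P.add_mem (P.smul_mem c hr) hsP) (hrad c) hz0
  rw [neg_smul, ← eq_neg_of_add_eq_zero_right this]

/-- A plus four-space is not the orthogonal sum of a plane and an anisotropic plane of other type. -/
theorem perp_plane_four [Finite F] (C : Space Q B) {U W : Submodule F (ι → F)}
    (S : Split Q B U W) (h4 : finrank F U = 4) {P : Submodule F (ι → F)} (hP : P ≤ U)
    (h2 : finrank F P = 2) (ha : ∀ x ∈ perpIn B U P, Q x = 0 → x = 0) :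
    NDeg B P ∧ (Cfsg.Geo.IsPlusTypeOn Q U ↔ ¬ Cfsg.Geo.IsPlusTypeOn Q P) := by
  have hn : NDeg B P := ndeg_of_rad C h2 fun x hx hxP hQ =>
    ha x ⟨hP hx, fun y hy => by rw [C.symm]; exact hxP y hy⟩ hQ
  set T := perpIn B U P with hT
  have hinf : P ⊓ T = ⊥ := eq_bot_iff.mpr fun x hx => (Submodule.mem_bot F).mpr
    (hn x hx.1 fun y hy => by rw [C.symm]; exact hx.2.2 y hy)
  have hsum := Submodule.finrank_sup_add_finrank_inf_eq P T
  rw [hinf, finrank_bot] at hsum
  have hle : P ⊔ T ≤ U := sup_le hP fun x hx => hx.1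
  have h3 := Submodule.finrank_mono hle
  have h5 := finrank_perpIn (B := B) U P
  rw [← hT] at h5
  have htop : P ⊔ T = U := Submodule.eq_of_le_of_finrank_le hle (by omega)
  have hTn : NDeg B T := fun x hx hxT => S.ndU x hx.1 fun y hy => by
    rw [← htop] at hy
    obtain ⟨p, hp, t, ht, rfl⟩ := Submodule.mem_sup.mp hy
    rw [map_add, hxT t ht, C.symm, hx.2 p hp, add_zero]
  have hT2 : finrank F T = 2 := by omega
  have hns : ¬ Cfsg.Geo.IsPlusTypeOn Q T := by
    rintro ⟨M, hMT, hMs, hMd⟩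
    obtain ⟨z, hz, hz0⟩ := Submodule.exists_mem_ne_zero_of_ne_bot
      (p := M) (fun h => by rw [h, finrank_bot] at hMd; omega)
    exact hz0 (ha z (hMT hz) (hMs z hz))
  refine ⟨hn, ?_⟩
  have h := NondegFix.type_sum C (s := 1) (t := 1) (S := P) (T := T) h2 hT2 hn hTn
    (fun x hx y hy => hy.2 x hx)
  rw [htop] at h
  exact h.trans (iff_false_right hns)

/-- A root element of `U` slides a pair of `H` onto a singular vector of `U`. -/
theorem slide (C : Space Q B) {H : Subgroup (GL ι F)} (hHI : H ≤ isometryGroup F Q)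
    {U W : Submodule F (ι → F)} (S : Split Q B U W) (hU : Root Q B U ≤ H)
    {y x yU yW xU xW u : ι → F} (hy : Q y = 0) (hxR : x ∈ rootsAt Q B C H y hy)
    (hyU : yU ∈ U) (hyW : yW ∈ W) (hye : y = yU + yW) (hxU : xU ∈ U) (hxW : xW ∈ W)
    (hxe : x = xU + xW) (hu : u ∈ U) (hQu : Q u = 0) (huy : B u yU = 0) (hux : B u xU = 0)
    (hx : xU ∉ Submodule.span F {u, yU}) : u ∈ rootsAt Q B C H y hy := by
  obtain ⟨z, hz, hxz⟩ := exists_perpIn C S (A := Submodule.span F {u, yU})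
    (Submodule.span_le.mpr (by rintro w (rfl | rfl) <;> assumption)) hxU hx
  have huz : B u z = 0 := hz.2 u (Submodule.subset_span (by simp))
  have hyz : B yU z = 0 := hz.2 yU (Submodule.subset_span (by simp))
  have hg := hU (sGL_mem_root hu hz.1 hQu huz)
  have hB : ∀ {a p q : ι → F}, a ∈ U → q ∈ W → B a (p + q) = B a p := fun ha hq => by
    rw [map_add, S.orth _ ha _ hq, add_zero]
  have hgy : (sGL Q B u z).val *ᵥ y = y := by
    rw [sGL_act C hQu huz, hye, hB hu hyW, hB hz.1 hyW, huy, C.symm z yU, hyz]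
    simp
  have hgx : (sGL Q B u z).val *ᵥ x = x - u := by
    rw [sGL_act C hQu huz, hxe, hB hu hxW, hB hz.1 hxW, hux, C.symm z xU, hxz]
    simp
  have hgx' : (sGL Q B u z).val *ᵥ x ∈ rootsAt Q B C H y hy := by
    refine ⟨?_, fun c => ?_⟩
    · have := C.B_act (hHI hg) y x
      rw [hgy, hxR.1] at this
      exact this
    · have h := sGL_conj C hy (show B y (c • x) = 0 by rw [map_smul, hxR.1, smul_zero]) (hHI hg)
      rw [hgy, Matrix.mulVec_smul] at h
      rw [← h]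
      exact mul_mem (mul_mem hg (hxR.2 c)) (inv_mem hg)
  have := Submodule.sub_mem _ hxR hgx'
  rwa [hgx, sub_sub_cancel] at this

/-- `H` contains the root elements of both parts and induces every reflection of `W`. -/
structure FlexCtx (Q : (ι → F) → F) (B : LinearMap.BilinForm F (ι → F))
    (H : Subgroup (GL ι F)) (U W : Submodule F (ι → F)) : Prop where
  space : Space Q B
  split : Split Q B U W
  big : 4 ≤ finrank F U
  hyp2 : ∀ e f, Hyp Q B U e f → ∃ b ∈ perp2 B U e f, b ≠ 0 ∧ Q b = 0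
  side : 5 ≤ finrank F U ∨ (finrank F U = 4 ∧ finrank F W = 4 ∧
    Cfsg.Geo.IsPlusTypeOn Q U ∧ ¬ Cfsg.Geo.IsPlusTypeOn Q W)
  le_iso : H ≤ isometryGroup F Q
  rootU : Root Q B U ≤ H
  rootW : Root Q B W ≤ H
  lift : ∀ v ∈ W, Q v ≠ 0 → ∃ h ∈ H, (∀ u ∈ U, h.val *ᵥ u ∈ U) ∧
    ∀ x ∈ W, h.val *ᵥ x = (rGL Q v).val *ᵥ x

section Ctx

variable [Finite F] {H : Subgroup (GL ι F)} {U W : Submodule F (ι → F)}
  (X : FlexCtx Q B H U W)

include X

theorem FlexCtx.trans {x y : ι → F} (hx : x ∈ U) (hy : y ∈ U) (hx0 : x ≠ 0) (hy0 : y ≠ 0)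
    (hxy : Q x = Q y) : ∃ h ∈ Root Q B U, h.val *ᵥ x = y := by
  have C := X.space
  obtain ⟨e, f, h⟩ := exists_hyp' C X.split.ndU (by have := X.big; omega)
  obtain ⟨b, hb, hb0, hQb⟩ := X.hyp2 e f h
  obtain ⟨b', h'⟩ := exists_hyp C (h.ndeg C X.split.ndU) hb hb0 hQb
  exact trans_hyp2 C X.split.ndU h h' hx hy hx0 hy0 hxy

theorem FlexCtx.roots_conj {v a : ι → F} (hv : Q v = 0) (ha : a ∈ rootsAt Q B X.space H v hv)
    {g : GL ι F} (hg : g ∈ H) (hgv : g.val *ᵥ v = v) :
    g.val *ᵥ a ∈ rootsAt Q B X.space H v hv := by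
  have C := X.space
  refine ⟨?_, fun c => ?_⟩
  · have := C.B_act (X.le_iso hg) v a
    rw [hgv, ha.1] at this
    exact this
  · have h := sGL_conj C hv (show B v (c • a) = 0 by rw [map_smul, ha.1, smul_zero]) (X.le_iso hg)
    rw [hgv, Matrix.mulVec_smul] at h
    rw [← h]
    exact mul_mem (mul_mem hg (ha.2 c)) (inv_mem hg)

/-- A singular vector of `U` whose root elements in `H` reach into `W` has all of them in `H`. -/
theorem FlexCtx.centre_of_mixed
    (hex : (∀ x ∈ W, Q x = 0 → x = 0) ∨ 3 ≤ finrank F W ∨ 4 ≤ Nat.card F)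
    {v w : ι → F} (hvU : v ∈ U) (hv : Q v = 0) (hv0 : v ≠ 0) (hwW : w ∈ W) (hw0 : w ≠ 0)
    (hw : w ∈ rootsAt Q B X.space H v hv) : Centre Q B H v := by
  have C := X.space
  have S := X.split
  set R := rootsAt Q B C H v hv with hR
  have hM : R ⊓ W = W := by
    refine invariant_eq C S hex inf_le_right (Submodule.mem_inf.mpr ⟨hw, hwW⟩) hw0
      (fun z hz hQz x hx => ?_) (fun u hu a ha hQu hua x hx => ?_)
    · obtain ⟨hxR, hxW⟩ := Submodule.mem_inf.mp hx
      obtain ⟨h, hh, hhU, hhW⟩ := X.lift z hz hQz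
      obtain ⟨k, hk, hkv⟩ := X.trans (hhU v hvU) hvU
        (act_ne_zero hv0) hv0 (by rw [mem_iso.mp (X.le_iso hh)])
      have hrW : (rGL Q z).val *ᵥ x ∈ W := by
        rw [rGL_act C hQz]
        exact W.sub_mem hxW (W.smul_mem _ hz)
      have h1 := X.roots_conj hv hxR (mul_mem (X.rootU hk) hh) (by rw [mul_act, hkv])
      rw [mul_act, hhW x hxW, (root_act C hk _).2 fun z hz => S.orth z hz _ hrW] at h1
      exact Submodule.mem_inf.mpr ⟨h1, hrW⟩
    · obtain ⟨hxR, hxW⟩ := Submodule.mem_inf.mp hx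
      have hg := sGL_mem_root hu ha hQu hua
      refine Submodule.mem_inf.mpr ⟨X.roots_conj hv hxR (X.rootW hg) ?_, root_mem_U C hg hxW⟩
      exact (root_act C hg v).2 fun w hw => by rw [C.symm]; exact S.orth v hvU w hw
  intro a ha
  obtain ⟨p, hp, q, hq, rfl⟩ := S.parts C a
  rw [map_add, S.orth v hvU q hq, add_zero] at ha
  have hqR : q ∈ R := (Submodule.mem_inf.mp (hM.symm ▸ hq : q ∈ R ⊓ W)).1
  have hpR : p ∈ R := ⟨ha, fun c => X.rootU
    (sGL_mem_root hvU (U.smul_mem c hp) hv (by rw [map_smul, ha, smul_zero]))⟩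
  simpa using (R.add_mem hpR hqR).2 1

theorem FlexCtx.omega_le_of_mixed
    (hex : (∀ x ∈ W, Q x = 0 → x = 0) ∨ 3 ≤ finrank F W ∨ 4 ≤ Nat.card F)
    {v w : ι → F} (hvU : v ∈ U) (hv : Q v = 0) (hv0 : v ≠ 0) (hwW : w ∈ W) (hw0 : w ≠ 0)
    (hw : w ∈ rootsAt Q B X.space H v hv) : Cfsg.Geo.omegaGL Q ≤ H := by
  have C := X.space
  have S := X.split
  obtain ⟨f, hf⟩ := exists_hyp C S.ndU hvU hv0 hv
  have hf0 : f ≠ 0 := fun h => by
    have := hf.pair; rw [h, map_zero] at this; exact zero_ne_one this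
  obtain ⟨k, hk, hkv⟩ := X.trans hvU hf.memF hv0 hf0
    (by rw [hv, hf.singF])
  have hkw : k.val *ᵥ w = w := (root_act C hk w).2 fun z hz => S.orth z hz w hwW
  have hwf : w ∈ rootsAt Q B C H f hf.singF := by
    refine ⟨?_, fun c => ?_⟩
    · rw [← hkv, ← hkw, C.B_act (X.le_iso (X.rootU hk)), hw.1]
    · have h := sGL_conj C hv (show B v (c • w) = 0 by rw [map_smul, hw.1, smul_zero])
        (X.le_iso (X.rootU hk))
      rw [hkv, Matrix.mulVec_smul, hkw] at h
      rw [← h]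
      exact mul_mem (mul_mem (X.rootU hk) (hw.2 c)) (inv_mem (X.rootU hk))
  refine omega_le_of_two C ?_ X.le_iso hv hf.singF (by rw [hf.pair]; exact one_ne_zero)
    (X.centre_of_mixed hex hvU hv hv0 hwW hw0 hw)
    (X.centre_of_mixed hex hf.memF hf.singF hf0 hwW hw0 hwf)
  have := S.finrank_add C
  rcases X.side with h | ⟨h, h', -⟩ <;> omega

/-- A singular vector of `W` whose root elements in `H` reach into `U` gives `Ω`. -/
theorem FlexCtx.omega_le_of_wpoint
    (hex : (∀ x ∈ W, Q x = 0 → x = 0) ∨ 3 ≤ finrank F W ∨ 4 ≤ Nat.card F)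
    {w n : ι → F} (hwW : w ∈ W) (hw : Q w = 0) (hw0 : w ≠ 0) (hnU : n ∈ U) (hn0 : n ≠ 0)
    (hn : n ∈ rootsAt Q B X.space H w hw) : Cfsg.Geo.omegaGL Q ≤ H := by
  have C := X.space
  have S := X.split
  obtain ⟨u, hu, hu0, hQu, huR⟩ : ∃ u ∈ U, u ≠ 0 ∧ Q u = 0 ∧ u ∈ rootsAt Q B C H w hw := by
    by_cases hQn : Q n = 0
    · exact ⟨n, hnU, hn0, hQn, hn⟩
    obtain ⟨u, hu, hu0, hQu⟩ := Sing.exists_singular C.smul C.polar
      (perpIn B U (Submodule.span F {n})) (by
        have := finrank_perpIn (B := B) U (Submodule.span F {n})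
        have := finrank_span_one_le n
        have := X.big
        omega)
    refine ⟨u, hu.1, hu0, hQu, slide C X.le_iso S X.rootU hw hn U.zero_mem hwW (zero_add w).symm
      hnU W.zero_mem (add_zero n).symm hu.1 hQu (map_zero _) ?_ fun h => hQn ?_⟩
    · rw [C.symm]; exact hu.2 n (Submodule.mem_span_singleton_self n)
    · obtain ⟨a, b, rfl⟩ := Submodule.mem_span_pair.mp h
      simp [C.smul, hQu]
  have hp : RPair Q B H u w := RPair.symm C ⟨hw, hQu, huR.1, huR.2⟩
  exact X.omega_le_of_mixed hex hu hQu hu0 hwW hw0 ⟨hp.2.2.1, hp.2.2.2⟩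

/-- A root pair of `H` meeting neither part gives `Ω`. -/
theorem FlexCtx.omega_le_of_inj
    (hex : (∀ x ∈ W, Q x = 0 → x = 0) ∨ 3 ≤ finrank F W ∨ 4 ≤ Nat.card F)
    {x y xU xW yU yW : ι → F} (hR : RPair Q B H x y) (hxU : xU ∈ U) (hxW : xW ∈ W)
    (hx : x = xU + xW) (hyU : yU ∈ U) (hyW : yW ∈ W) (hy : y = yU + yW)
    (hU : ∀ a b : F, a • xU + b • yU = 0 → a = 0 ∧ b = 0)
    (hW : ∀ a b : F, a • xW + b • yW = 0 → a = 0 ∧ b = 0) : Cfsg.Geo.omegaGL Q ≤ H := by
  have C := X.space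
  have S := X.split
  have hxy : B y x = 0 := by rw [C.symm]; exact hR.2.2.1
  have hR' := RPair.symm C hR
  have hxR : x ∈ rootsAt Q B C H y hR.2.1 := ⟨hR'.2.2.1, hR'.2.2.2⟩
  have hxU' : ∀ u, xU ∈ Submodule.span F {u, yU} →
      ∃ a b : F, a ≠ 0 ∧ a • u + b • yU = xU := fun u h => by
    obtain ⟨a, b, hab⟩ := Submodule.mem_span_pair.mp h
    refine ⟨a, b, fun ha => ?_, hab⟩
    rw [ha, zero_smul, zero_add] at hab
    exact one_ne_zero (hU 1 (-b) (by rw [← hab]; module)).1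
  by_cases hu : ∃ u ∈ U, u ≠ 0 ∧ Q u = 0 ∧ B u xU = 0 ∧ B u yU = 0
  · obtain ⟨u, huU, hu0, hQu, hux, huy⟩ := hu
    have fin : ∀ {z zU zW : ι → F} (hz : Q z = 0), u ∈ rootsAt Q B C H z hz → zU ∈ U → zW ∈ W →
        z = zU + zW → zW ≠ 0 → B u zU = 0 → Cfsg.Geo.omegaGL Q ≤ H := by
      intro z zU zW hz huR hzU hzW hze hzW0 huz
      have hp : RPair Q B H u z := RPair.symm C ⟨hz, hQu, huR.1, huR.2⟩
      have hzR : z ∈ rootsAt Q B C H u hQu := ⟨hp.2.2.1, hp.2.2.2⟩
      have hzUR : zU ∈ rootsAt Q B C H u hQu := ⟨huz, fun c => X.rootU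
        (sGL_mem_root huU (U.smul_mem c hzU) hQu (by rw [map_smul, huz, smul_zero]))⟩
      refine X.omega_le_of_mixed hex huU hQu hu0 hzW hzW0 ?_
      have := Submodule.sub_mem _ hzR hzUR
      rwa [hze, add_sub_cancel_left] at this
    by_cases hsp : xU ∈ Submodule.span F {u, yU}
    · obtain ⟨a, b, ha, hab⟩ := hxU' u hsp
      have hp := hR.plane C 1 (-b) 0 1
      rw [one_smul, zero_smul, one_smul, zero_add] at hp
      have hze : x + (-b) • y = a • u + (xW + (-b) • yW) := by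
        rw [hx, hy, ← hab]; module
      have hzW0 : xW + (-b) • yW ≠ 0 := fun h =>
        one_ne_zero (hW 1 (-b) (by rw [one_smul]; exact h)).1
      refine fin hp.1 (slide C X.le_iso S X.rootU hp.1 ⟨hp.2.2.1, hp.2.2.2⟩ (U.smul_mem a huU)
        (W.add_mem hxW (W.smul_mem _ hyW)) hze hyU hyW hy huU hQu ?_ huy fun h => ?_)
        (U.smul_mem a huU) (W.add_mem hxW (W.smul_mem _ hyW)) hze hzW0 ?_
      · rw [map_smul, C.self_zero hQu, smul_zero]
      · obtain ⟨p, q, hpq⟩ := Submodule.mem_span_pair.mp h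
        have e : (p + q * a) • xU + -(a + (p + q * a) * b) • yU = 0 := by
          rw [← hab, ← hpq]
          module
        obtain ⟨e1, e2⟩ := hU _ _ e
        rw [e1] at e2
        exact ha (by simpa using e2)
      · rw [map_smul, C.self_zero hQu, smul_zero]
    · exact fin hR.2.1 (slide C X.le_iso S X.rootU hR.2.1 hxR hyU hyW hy hxU hxW hx huU hQu huy hux
        hsp) hyU hyW hy (fun h => one_ne_zero (hW 0 1 (by rw [h]; simp)).2) huy
  · push Not at hu
    rcases X.side with h5 | ⟨h4, hW4, hpU, hmW⟩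
    · obtain ⟨u, hu', hu0, hQu⟩ := Sing.exists_singular C.smul C.polar
        (perpIn B U (Submodule.span F {xU, yU})) (by
          have := finrank_perpIn (B := B) U (Submodule.span F {xU, yU})
          have := finrank_span_pair_le xU yU
          omega)
      exact absurd (by rw [C.symm]; exact hu'.2 yU (Submodule.subset_span (by simp)))
        (hu u hu'.1 hu0 hQu (by rw [C.symm]; exact hu'.2 xU (Submodule.subset_span (by simp))))
    have plane2 : ∀ {p q : ι → F}, (∀ a b : F, a • p + b • q = 0 → a = 0 ∧ b = 0) →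
        finrank F (Submodule.span F {p, q}) = 2 := fun {p q} h => by
      have hli : LinearIndependent F ![p, q] := LinearIndependent.pair_iff.mpr h
      have := finrank_span_eq_card hli
      rwa [Matrix.range_cons_cons_empty, Fintype.card_fin] at this
    obtain ⟨hPn, hPt⟩ := perp_plane_four C S h4 (P := Submodule.span F {xU, yU})
      (Submodule.span_le.mpr (by rintro w (rfl | rfl) <;> assumption)) (plane2 hU) fun z hz hQz => by
        by_contra hz0
        exact hu z hz.1 hz0 hQz (by rw [C.symm]; exact hz.2 xU (Submodule.subset_span (by simp)))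
          (by rw [C.symm]; exact hz.2 yU (Submodule.subset_span (by simp)))
    have hPa : ∀ a b : F, Q (a • xU + b • yU) = 0 → a = 0 ∧ b = 0 := fun a b h => hU a b
      (OrthTen.aniso_of_not_plus C (plane2 hU) (hPt.mp hpU) _ (Submodule.mem_span_pair.mpr ⟨a, b, rfl⟩) h)
    have hsum : ∀ a b : F, Q (a • xU + b • yU) + Q (a • xW + b • yW) = 0 := fun a b => by
      have h : Q (a • x + b • y) = 0 := by rw [C.smul_add, hR.1, hR.2.1, hR.2.2.1]; ring
      rw [hx, hy, show a • (xU + xW) + b • (yU + yW) = (a • xU + b • yU) + (a • xW + b • yW) by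
        module, C.add, S.orth _ (U.add_mem (U.smul_mem a hxU) (U.smul_mem b hyU)) _
          (W.add_mem (W.smul_mem a hxW) (W.smul_mem b hyW)), add_zero] at h
      exact h
    have hQW : ∀ z ∈ Submodule.span F {xW, yW}, Q z = 0 → z = 0 := fun z hz hQz => by
      obtain ⟨a, b, rfl⟩ := Submodule.mem_span_pair.mp hz
      obtain ⟨rfl, rfl⟩ := hPa a b (by have := hsum a b; rwa [hQz, add_zero] at this)
      simp
    obtain ⟨w, hw, hw0, hQw⟩ : ∃ w ∈ perpIn B W (Submodule.span F {xW, yW}), w ≠ 0 ∧ Q w = 0 := by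
      by_contra hne
      push Not at hne
      obtain ⟨-, ht⟩ := perp_plane_four C (S.swap C) hW4 (P := Submodule.span F {xW, yW})
        (Submodule.span_le.mpr (by rintro w (rfl | rfl) <;> assumption)) (plane2 hW)
        (fun z hz hQz => by by_contra hz0; exact hne z hz hz0 hQz)
      refine hmW (ht.mpr ?_)
      rintro ⟨M, hMT, hMs, hMd⟩
      obtain ⟨z, hz, hz0⟩ := Submodule.exists_mem_ne_zero_of_ne_bot
        (p := M) (fun h => by rw [h, finrank_bot, plane2 hW] at hMd; omega)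
      exact hz0 (hQW z (hMT hz) (hMs z hz))
    have hwy : B w yW = 0 := by rw [C.symm]; exact hw.2 yW (Submodule.subset_span (by simp))
    have hwx : B w xW = 0 := by rw [C.symm]; exact hw.2 xW (Submodule.subset_span (by simp))
    have hwR := slide C X.le_iso (S.swap C) X.rootW hR.2.1 hxR hyW hyU (by rw [hy, add_comm]) hxW
      hxU (by rw [hx, add_comm]) hw.1 hQw hwy hwx fun h => by
        obtain ⟨a, b, hab⟩ := Submodule.mem_span_pair.mp h
        by_cases ha : a = 0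
        · rw [ha, zero_smul, zero_add] at hab
          exact one_ne_zero (hW 1 (-b) (by rw [← hab]; module)).1
        · have hwmem : w ∈ Submodule.span F {xW, yW} := Submodule.mem_span_pair.mpr
            ⟨a⁻¹, -(a⁻¹ * b), by rw [← hab]; match_scalars <;> field_simp; ring⟩
          exact hw0 (hQW w hwmem hQw)
    have hp : RPair Q B H w y := RPair.symm C ⟨hR.2.1, hQw, hwR.1, hwR.2⟩
    have hyR : y ∈ rootsAt Q B C H w hQw := ⟨hp.2.2.1, hp.2.2.2⟩
    have hyWR : yW ∈ rootsAt Q B C H w hQw := ⟨hwy, fun c => X.rootW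
      (sGL_mem_root hw.1 (W.smul_mem c hyW) hQw (by rw [map_smul, hwy, smul_zero]))⟩
    refine X.omega_le_of_wpoint hex hw.1 hQw hw0 hyU (fun h => one_ne_zero (hU 0 1 (by rw [h]; simp)).2) ?_
    have := Submodule.sub_mem _ hyR hyWR
    rwa [hy, add_sub_cancel_right] at this

/-- A root pair of `H` that is mixed gives `Ω`. -/
theorem FlexCtx.omega_le_of_pair
    (hex : (∀ x ∈ W, Q x = 0 → x = 0) ∨ 3 ≤ finrank F W ∨ 4 ≤ Nat.card F)
    {x y : ι → F} (hR : RPair Q B H x y) (hind : x ∉ Submodule.span F {y}) (hy0 : y ≠ 0)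
    (hU : ¬ (x ∈ U ∧ y ∈ U)) (hW : ¬ (x ∈ W ∧ y ∈ W)) : Cfsg.Geo.omegaGL Q ≤ H := by
  have C := X.space
  have S := X.split
  have li : ∀ a b : F, a • x + b • y = 0 → a = 0 ∧ b = 0 := fun a b h => by
    by_cases ha : a = 0
    · rw [ha, zero_smul, zero_add] at h
      exact ⟨ha, (smul_eq_zero.mp h).resolve_right hy0⟩
    · refine absurd (Submodule.mem_span_singleton.mpr ⟨-(a⁻¹ * b), ?_⟩) hind
      rw [neg_smul, ← smul_smul, eq_neg_of_add_eq_zero_right h, smul_neg, neg_neg, smul_smul,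
        inv_mul_cancel₀ ha, one_smul]
  have other : ∀ {P : Submodule F (ι → F)}, ¬ (x ∈ P ∧ y ∈ P) → ∀ {a b : F}, a • x + b • y ∈ P →
      (a ≠ 0 ∨ b ≠ 0) → ∃ q, RPair Q B H (a • x + b • y) q ∧ q ∉ P := by
    intro P hP a b hp hab
    by_cases hb : b = 0
    · subst hb
      simp only [ne_eq, not_true_eq_false, or_false] at hab
      rw [zero_smul, add_zero] at hp ⊢
      refine ⟨y, ?_, fun h => hP ⟨(Submodule.smul_mem_iff P hab).mp hp, h⟩⟩
      have := hR.plane C a 0 0 1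
      simpa using this
    · refine ⟨x, ?_, fun h => hP ⟨h, ?_⟩⟩
      · have := hR.plane C a b 1 0
        simpa using this
      · have := P.sub_mem hp (P.smul_mem a h)
        rw [add_sub_cancel_left] at this
        exact (Submodule.smul_mem_iff P hb).mp this
  by_cases hLU : ∃ a b : F, (a ≠ 0 ∨ b ≠ 0) ∧ a • x + b • y ∈ U
  · obtain ⟨a, b, hab, hp⟩ := hLU
    obtain ⟨q, hq, hqU⟩ := other hU hp hab
    obtain ⟨qU, hqU', qW, hqW, rfl⟩ := S.parts C q
    have hp0 : a • x + b • y ≠ 0 := fun h => by obtain ⟨h1, h2⟩ := li a b h; simp [h1, h2] at hab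
    have hpq : B (a • x + b • y) qU = 0 := by rw [← S.B_left C hp hqW]; exact hq.2.2.1
    refine X.omega_le_of_mixed hex hp hq.1 hp0 hqW (fun h => hqU (by rw [h, add_zero]; exact hqU')) ?_
    have h1 : qU + qW ∈ rootsAt Q B C H _ hq.1 := ⟨hq.2.2.1, hq.2.2.2⟩
    have h2 : qU ∈ rootsAt Q B C H _ hq.1 := ⟨hpq, fun c => X.rootU
      (sGL_mem_root hp (U.smul_mem c hqU') hq.1 (by rw [map_smul, hpq, smul_zero]))⟩
    have := Submodule.sub_mem _ h1 h2
    rwa [add_sub_cancel_left] at this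
  by_cases hLW : ∃ a b : F, (a ≠ 0 ∨ b ≠ 0) ∧ a • x + b • y ∈ W
  · obtain ⟨a, b, hab, hp⟩ := hLW
    obtain ⟨q, hq, hqW'⟩ := other hW hp hab
    obtain ⟨qU, hqU, qW, hqW, rfl⟩ := S.parts C q
    have hp0 : a • x + b • y ≠ 0 := fun h => by obtain ⟨h1, h2⟩ := li a b h; simp [h1, h2] at hab
    have hpq : B (a • x + b • y) qW = 0 := by
      rw [← (S.swap C).B_left C hp hqU, add_comm qW qU]; exact hq.2.2.1
    refine X.omega_le_of_wpoint hex hp hq.1 hp0 hqU
      (fun h => hqW' (by rw [h, zero_add]; exact hqW)) ?_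
    have h1 : qU + qW ∈ rootsAt Q B C H _ hq.1 := ⟨hq.2.2.1, hq.2.2.2⟩
    have h2 : qW ∈ rootsAt Q B C H _ hq.1 := ⟨hpq, fun c => X.rootW
      (sGL_mem_root hp (W.smul_mem c hqW) hq.1 (by rw [map_smul, hpq, smul_zero]))⟩
    have := Submodule.sub_mem _ h1 h2
    rwa [add_sub_cancel_right] at this
  push Not at hLU hLW
  obtain ⟨xU, hxU, xW, hxW, hx⟩ := S.parts C x
  obtain ⟨yU, hyU, yW, hyW, hy⟩ := S.parts C y
  refine X.omega_le_of_inj hex hR hxU hxW hx hyU hyW hy (fun a b h => ?_) (fun a b h => ?_) <;>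
    by_contra hne <;> rw [not_and_or] at hne
  · refine hLW a b hne ?_
    rw [hx, hy, show a • (xU + xW) + b • (yU + yW) = (a • xU + b • yU) + (a • xW + b • yW) by
      module, h, zero_add]
    exact W.add_mem (W.smul_mem a hxW) (W.smul_mem b hyW)
  · refine hLU a b hne ?_
    rw [hx, hy, show a • (xU + xW) + b • (yU + yW) = (a • xU + b • yU) + (a • xW + b • yW) by
      module, h, add_zero]
    exact U.add_mem (U.smul_mem a hxU) (U.smul_mem b hyU)

/-- A subgroup containing the stabiliser keeps `U`, maps `U` into `W`, or is everything. -/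
theorem FlexCtx.stab_or_swap_or_top
    (hex : (∀ x ∈ W, Q x = 0 → x = 0) ∨ 3 ≤ finrank F W ∨ 4 ≤ Nat.card F) :
    (∀ g ∈ H, ∀ u ∈ U, g.val *ᵥ u ∈ U) ∨
      (∃ g ∈ H, ∀ u ∈ U, g.val *ᵥ u ∈ W) ∨ Cfsg.Geo.omegaGL Q ≤ H := by
  have C := X.space
  have S := X.split
  have := X.big
  by_cases hbad : ∃ g ∈ H, ∃ a b, a ∈ U ∧ b ∈ U ∧ Q a = 0 ∧ Q b = 0 ∧ B a b = 0 ∧
      a ∉ Submodule.span F {b} ∧ b ≠ 0 ∧ ¬ (g.val *ᵥ a ∈ U ∧ g.val *ᵥ b ∈ U) ∧
      ¬ (g.val *ᵥ a ∈ W ∧ g.val *ᵥ b ∈ W)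
  · obtain ⟨g, hg, a, b, ha, hb, hQa, hQb, hab, hind, hb0, h1, h2⟩ := hbad
    have hR : RPair Q B H a b := ⟨hQa, hQb, hab, fun c => X.rootU
      (sGL_mem_root ha (U.smul_mem c hb) hQa (by rw [map_smul, hab, smul_zero]))⟩
    refine Or.inr (Or.inr (X.omega_le_of_pair hex (hR.conj C X.le_iso hg) (fun h => hind ?_)
      (act_ne_zero hb0) h1 h2))
    obtain ⟨c, hc⟩ := Submodule.mem_span_singleton.mp h
    exact Submodule.mem_span_singleton.mpr
      ⟨c, act_injective g ((Matrix.mulVec_smul _ _ _).trans hc)⟩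
  by_cases hsw : ∃ g ∈ H, ∀ u ∈ U, g.val *ᵥ u ∈ W
  · exact Or.inr (Or.inl hsw)
  left
  intro g hg
  push Not at hbad
  have key : ∀ a b, a ∈ U → b ∈ U → Q a = 0 → Q b = 0 → B a b = 0 → a ∉ Submodule.span F {b} →
      b ≠ 0 → g.val *ᵥ a ∉ U → g.val *ᵥ a ∈ W ∧ g.val *ᵥ b ∈ W :=
    fun a b ha hb hQa hQb hab hnab hb0 hna =>
      hbad g hg a b ha hb hQa hQb hab hnab hb0 fun h => absurd h hna
  have same : ∀ a ∈ U, Q a = 0 → a ≠ 0 → ∀ a' ∈ U, Q a' = 0 → a' ≠ 0 →
      g.val *ᵥ a ∉ U → g.val *ᵥ a' ∈ W := by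
    intro a ha hQa ha0 a' ha' hQa' ha'0 hna
    obtain ⟨fa, hfa⟩ := exists_hyp C S.ndU ha ha0 hQa
    obtain ⟨b₀, hb₀, hb₀ne, hQb₀⟩ := X.hyp2 a fa hfa
    obtain ⟨hb₀U, hab₀, hfb₀⟩ := mem_perp2.mp hb₀
    have hb₀A : b₀ ∉ Submodule.span F {a} := fun h => by
      obtain ⟨c, hc⟩ := Submodule.mem_span_singleton.mp h
      rw [← hc, map_smul, hfa.pair' C, smul_eq_mul, mul_one] at hfb₀
      exact hb₀ne (by rw [← hc, hfb₀, zero_smul])
    have hb₀0 : b₀ ≠ 0 := hb₀ne
    have hgaW := (key a b₀ ha hb₀U hQa hQb₀ hab₀ (fun h => by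
        obtain ⟨c, hc⟩ := Submodule.mem_span_singleton.mp h
        have hc0 : c ≠ 0 := fun h0 => ha0 (by rw [← hc, h0, zero_smul])
        exact hb₀A (Submodule.mem_span_singleton.mpr
          ⟨c⁻¹, by rw [← hc, smul_smul, inv_mul_cancel₀ hc0, one_smul]⟩)) hb₀0 hna).1
    by_cases hdep : a ∈ Submodule.span F {a'}
    · obtain ⟨c, hc⟩ := Submodule.mem_span_singleton.mp hdep
      have hc0 : c ≠ 0 := fun h0 => ha0 (by rw [← hc, h0, zero_smul])
      rw [← hc, Matrix.mulVec_smul] at hgaW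
      exact (Submodule.smul_mem_iff W hc0).mp hgaW
    by_cases horth : B a a' = 0
    · exact (key a a' ha ha' hQa hQa' horth hdep ha'0 hna).2
    obtain ⟨b, hb', hb0, hQb⟩ := X.hyp2 a ((B a a')⁻¹ • a') ⟨ha, U.smul_mem _ ha', hQa,
      by rw [C.smul, hQa', mul_zero], by rw [map_smul, smul_eq_mul, inv_mul_cancel₀ horth]⟩
    obtain ⟨hbU, hab, ha'b'⟩ := mem_perp2.mp hb'
    rw [map_smul, LinearMap.smul_apply, smul_eq_mul] at ha'b'
    have ha'b : B a' b = 0 := (mul_eq_zero.mp ha'b').resolve_left (inv_ne_zero horth)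
    have hnab : a ∉ Submodule.span F {b} := fun h => by
      obtain ⟨c, hc⟩ := Submodule.mem_span_singleton.mp h
      exact horth (by rw [C.symm, ← hc, map_smul, ha'b, smul_zero])
    have hna'b : a' ∉ Submodule.span F {b} := fun h => by
      obtain ⟨c, hc⟩ := Submodule.mem_span_singleton.mp h
      exact horth (by rw [← hc, map_smul, hab, smul_zero])
    have hgb := (key a b ha hbU hQa hQb hab hnab hb0 hna).2
    by_cases hna' : g.val *ᵥ a' ∈ U
    · have hgbU : g.val *ᵥ b ∈ U := by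
        by_contra hnb
        have hbna' : b ∉ Submodule.span F {a'} := fun h => by
          obtain ⟨c, hc⟩ := Submodule.mem_span_singleton.mp h
          have hc0 : c ≠ 0 := fun h0 => hb0 (by rw [← hc, h0, zero_smul])
          exact hna'b (Submodule.mem_span_singleton.mpr
            ⟨c⁻¹, by rw [← hc, smul_smul, inv_mul_cancel₀ hc0, one_smul]⟩)
        have hW' := (key b a' hbU ha' hQb hQa' (by rw [C.symm]; exact ha'b) hbna' ha'0 hnb).2
        exact act_ne_zero ha'0 (S.disj C hna' hW')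
      exact absurd (S.disj C hgbU hgb) (act_ne_zero hb0)
    · exact (key a' b ha' hbU hQa' hQb ha'b hna'b hb0 hna').1
  obtain ⟨e, f, hH⟩ := exists_hyp' C S.ndU (by omega)
  intro u hu
  by_cases hall : ∀ a ∈ U, Q a = 0 → g.val *ᵥ a ∈ U
  · exact (Submodule.span_le (p := U.comap (Matrix.mulVecLin g.val))).mpr
      (fun a ha => hall a ha.1 ha.2) (hH.span C hu)
  push Not at hall
  obtain ⟨a, ha, hQa, hna⟩ := hall
  have ha0 : a ≠ 0 := fun h => hna (by rw [h, Matrix.mulVec_zero]; exact U.zero_mem)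
  exfalso
  refine hsw ⟨g, hg, fun z hz => ?_⟩
  exact (Submodule.span_le (p := W.comap (Matrix.mulVecLin g.val))).mpr
    (fun a' ha' => by
      by_cases h0 : a' = 0
      · show g.val *ᵥ a' ∈ W
        rw [h0, Matrix.mulVec_zero]; exact W.zero_mem
      · exact same a ha hQa ha0 a' ha'.1 ha'.2 h0 hna) (hH.span C hz)

end Ctx

section

variable [Finite F] (C : Space Q B) {U W : Submodule F (ι → F)} (S : Split Q B U W)
  (h4 : 4 ≤ finrank F U)
  (hw2 : ∀ e f, Hyp Q B U e f → ∃ b ∈ perp2 B U e f, b ≠ 0 ∧ Q b = 0)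
  (hside : 5 ≤ finrank F U ∨ (finrank F U = 4 ∧ finrank F W = 4 ∧
    Cfsg.Geo.IsPlusTypeOn Q U ∧ ¬ Cfsg.Geo.IsPlusTypeOn Q W))

include C S h4 hw2 hside

theorem flexCtx_of_stab {H : Subgroup (GL ι F)} (hHI : H ≤ isometryGroup F Q)
    (hLH : Cfsg.Geo.subspaceStabilizer W ⊓ Cfsg.Geo.omegaGL Q ≤ H) : FlexCtx Q B H U W := by
  have h5 : 5 ≤ Fintype.card ι := by
    have := S.finrank_add C
    rcases hside with h | ⟨h, h', -⟩ <;> omega
  have hO := omegaGL_eq C h5
  refine ⟨C, S, h4, hw2, hside, hHI, fun g hg => hLH ⟨?_, ?_⟩, fun g hg => hLH ⟨?_, ?_⟩, fun v hv hQv => ?_⟩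
  · refine mem_stab_of_mapsTo fun w hw => ?_
    rw [(root_act C hg w).2 fun z hz => S.orth z hz w hw]
    exact hw
  · exact hO ▸ root_mono le_top hg
  · exact mem_stab_of_mapsTo fun w hw => root_mem_U C hg hw
  · exact hO ▸ root_mono le_top hg
  obtain ⟨e, f, hH⟩ := exists_hyp' C S.ndU (by omega)
  set u := Q v • e + f with hu'
  have hu : u ∈ U := U.add_mem (U.smul_mem _ hH.memE) hH.memF
  have hQu : Q u = Q v := by
    rw [hu', C.add, C.smul, hH.singE, hH.singF, map_smul, LinearMap.smul_apply, hH.pair]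
    simp
  have hQu0 : Q u ≠ 0 := by rwa [hQu]
  have hW : ∀ z ∈ W, (rGL Q v * rGL Q u).val *ᵥ z = (rGL Q v).val *ᵥ z := fun z hz => by
    rw [mul_act, rGL_fix C hQu0 (S.orth u hu z hz)]
  refine ⟨rGL Q v * rGL Q u, hLH ⟨mem_stab_of_mapsTo fun z hz => ?_, ?_⟩, fun z hz => ?_, hW⟩
  · rw [hW z hz, rGL_act C hQv]
    exact W.sub_mem hz (W.smul_mem _ hv)
  · rw [hO, ← comm_eq_root C h5]
    exact rGL_mul_rGL_mem C h5 hQv hQu.symm
  · rw [mul_act, rGL_act C hQu0]
    have h : z - ((Q u)⁻¹ * B u z) • u ∈ U := U.sub_mem hz (U.smul_mem _ hu)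
    rwa [rGL_fix C hQv (by rw [C.symm]; exact S.orth _ h v hv)]

/-- The stabiliser of a part not swapped with the other is maximal. -/
theorem split_max_flex (hW0 : W ≠ ⊥) (hns : ¬ ∃ g ∈ isometryGroup F Q, ∀ u ∈ U, g.val *ᵥ u ∈ W)
    (hex : (∀ x ∈ W, Q x = 0 → x = 0) ∨ 3 ≤ finrank F W ∨ 4 ≤ Nat.card F) :
    Cfsg.Geo.IsMaximalIn (Cfsg.Geo.omegaGL Q)
      (Cfsg.Geo.subspaceStabilizer W ⊓ Cfsg.Geo.omegaGL Q) := by
  have h5 : 5 ≤ Fintype.card ι := by
    have := S.finrank_add C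
    rcases hside with h | ⟨h, h', -⟩ <;> omega
  have hO := omegaGL_eq C h5
  refine ⟨lt_of_le_of_ne inf_le_right fun heq => ?_, fun H hLH hHΩ => ?_⟩
  · obtain ⟨w, hw, hQw⟩ := exists_nonsing C S.ndW hW0
    obtain ⟨e, f, hH⟩ := exists_hyp' C S.ndU (by omega)
    have hew := S.orth e hH.memE w hw
    have hmem : sGL Q B e w ∈ Cfsg.Geo.subspaceStabilizer U ⊓ Cfsg.Geo.omegaGL Q := by
      rw [← S.stab_eq C, heq, hO]
      exact sGL_mem_root trivial trivial hH.singE hew
    have h1 := stab_mem hmem.1 hH.memF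
    rw [sGL_act C hH.singE hew, hH.pair, one_smul, C.symm w f, S.orth f hH.memF w hw] at h1
    have h2 : w ∈ U := by
      have := U.add_mem (U.sub_mem h1 hH.memF) (U.smul_mem (0 + Q w * 1) hH.memE)
      rwa [show f + w - (0 + Q w * 1) • e - f + (0 + Q w * 1) • e = w by abel] at this
    exact hQw (by rw [S.disj C h2 hw, C.zero])
  have hHI : H ≤ isometryGroup F Q := hHΩ.trans (hO ▸ root_le_iso C _)
  rcases (flexCtx_of_stab C S h4 hw2 hside hHI hLH).stab_or_swap_or_top hex with h | ⟨g, hg, h⟩ | h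
  · refine Or.inl (le_antisymm (fun g hg => ?_) hLH)
    rw [S.stab_eq C]
    exact ⟨mem_stab_of_mapsTo (h g hg), hHΩ hg⟩
  · exact absurd ⟨g, hHI hg, h⟩ hns
  · exact Or.inr (le_antisymm hHΩ h)

end

end Cfsg.Lib.Linear.Orth
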