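import Cfsg.Agent.Lib.Linear.OrthSplitMax

/-!
# Stabilisers of non-degenerate subspaces in odd dimension at least eleven

The argument of `OrthSplit` with the larger part of dimension at least six: from a root element
mixing the parts one finds a singular vector of `U` whose root elements in `H` reach into `W`.
-/

set_option autoImplicit false

namespace Cfsg.Lib.Linear.Orth

open Module
open scoped Matrix

variable {ι : Type} [Fintype ι] [DecidableEq ι] {F : Type*} [Field F]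
  {Q : (ι → F) → F} {B : LinearMap.BilinForm F (ι → F)}

theorem finrank_span_triple_le (a b c : ι → F) :
    finrank F (Submodule.span F {a, b, c}) ≤ 3 := by
  classical
  have h := finrank_span_finset_le_card (R := F) ({a, b, c} : Finset (ι → F))
  rw [Finset.coe_insert, Finset.coe_pair] at h
  exact h.trans Finset.card_le_three

theorem finrank_span_one_le (a : ι → F) : finrank F (Submodule.span F {a}) ≤ 1 := by
  classical
  have h := finrank_span_finset_le_card (R := F) ({a} : Finset (ι → F))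
  rw [Finset.coe_singleton] at h
  exact h.trans (Finset.card_singleton a).le

/-- `H` contains the root elements of both parts and induces every reflection of `W`. -/
structure SixCtx (Q : (ι → F) → F) (B : LinearMap.BilinForm F (ι → F))
    (H : Subgroup (GL ι F)) (U W : Submodule F (ι → F)) : Prop where
  space : Space Q B
  split : Split Q B U W
  big : 6 ≤ finrank F U
  le_iso : H ≤ isometryGroup F Q
  rootU : Root Q B U ≤ H
  rootW : Root Q B W ≤ H
  lift : ∀ v ∈ W, Q v ≠ 0 → ∃ h ∈ H, (∀ u ∈ U, h.val *ᵥ u ∈ U) ∧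
    ∀ x ∈ W, h.val *ᵥ x = (rGL Q v).val *ᵥ x

section Ctx

variable [Finite F] {H : Subgroup (GL ι F)} {U W : Submodule F (ι → F)}
  (X : SixCtx Q B H U W)

include X

theorem SixCtx.roots_conj {v a : ι → F} (hv : Q v = 0) (ha : a ∈ rootsAt Q B X.space H v hv)
    {g : GL ι F} (hg : g ∈ H) (hgv : g.val *ᵥ v = v) :
    g.val *ᵥ a ∈ rootsAt Q B X.space H v hv := by
  have C := X.space
  refine ⟨?_, fun c => ?_⟩
  · have := C.B_act (X.le_iso hg) v a
    rw [hgv, ha.1] at this
    exact this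
  · have h := sGL_conj C hv (show B v (c • a) = 0 by rw [map_smul, ha.1, smul_zero]) (X.le_iso hg)
    rw [hgv, Matrix.mulVec_smul] at h
    rw [← h]
    exact mul_mem (mul_mem hg (ha.2 c)) (inv_mem hg)

/-- A singular vector of `U` whose root elements in `H` reach into `W` has all of them in `H`. -/
theorem SixCtx.centre_of_mixed
    (hex : (∀ x ∈ W, Q x = 0 → x = 0) ∨ 3 ≤ finrank F W ∨ 4 ≤ Nat.card F)
    {v w : ι → F} (hvU : v ∈ U) (hv : Q v = 0) (hv0 : v ≠ 0) (hwW : w ∈ W) (hw0 : w ≠ 0)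
    (hw : w ∈ rootsAt Q B X.space H v hv) : Centre Q B H v := by
  have C := X.space
  have S := X.split
  set R := rootsAt Q B C H v hv with hR
  have hM : R ⊓ W = W := by
    refine invariant_eq C S hex inf_le_right (Submodule.mem_inf.mpr ⟨hw, hwW⟩) hw0
      (fun z hz hQz x hx => ?_) (fun u hu a ha hQu hua x hx => ?_)
    · obtain ⟨hxR, hxW⟩ := Submodule.mem_inf.mp hx
      obtain ⟨h, hh, hhU, hhW⟩ := X.lift z hz hQz
      obtain ⟨k, hk, hkv⟩ := trans C S.ndU (by have := X.big; omega) (hhU v hvU) hvU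
        (act_ne_zero hv0) hv0 (by rw [mem_iso.mp (X.le_iso hh)])
      have hrW : (rGL Q z).val *ᵥ x ∈ W := by
        rw [rGL_act C hQz]
        exact W.sub_mem hxW (W.smul_mem _ hz)
      have h1 := X.roots_conj hv hxR (mul_mem (X.rootU hk) hh) (by rw [mul_act, hkv])
      rw [mul_act, hhW x hxW, (root_act C hk _).2 fun z hz => S.orth z hz _ hrW] at h1
      exact Submodule.mem_inf.mpr ⟨h1, hrW⟩
    · obtain ⟨hxR, hxW⟩ := Submodule.mem_inf.mp hx
      have hg := sGL_mem_root hu ha hQu hua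
      refine Submodule.mem_inf.mpr ⟨X.roots_conj hv hxR (X.rootW hg) ?_, root_mem_U C hg hxW⟩
      exact (root_act C hg v).2 fun w hw => by rw [C.symm]; exact S.orth v hvU w hw
  intro a ha
  obtain ⟨p, hp, q, hq, rfl⟩ := S.parts C a
  rw [map_add, S.orth v hvU q hq, add_zero] at ha
  have hqR : q ∈ R := (Submodule.mem_inf.mp (hM.symm ▸ hq : q ∈ R ⊓ W)).1
  have hpR : p ∈ R := ⟨ha, fun c => X.rootU
    (sGL_mem_root hvU (U.smul_mem c hp) hv (by rw [map_smul, ha, smul_zero]))⟩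
  simpa using (R.add_mem hpR hqR).2 1

theorem SixCtx.omega_le_of_mixed
    (hex : (∀ x ∈ W, Q x = 0 → x = 0) ∨ 3 ≤ finrank F W ∨ 4 ≤ Nat.card F)
    {v w : ι → F} (hvU : v ∈ U) (hv : Q v = 0) (hv0 : v ≠ 0) (hwW : w ∈ W) (hw0 : w ≠ 0)
    (hw : w ∈ rootsAt Q B X.space H v hv) : Cfsg.Geo.omegaGL Q ≤ H := by
  have C := X.space
  have S := X.split
  obtain ⟨f, hf⟩ := exists_hyp C S.ndU hvU hv0 hv
  have hf0 : f ≠ 0 := fun h => by
    have := hf.pair; rw [h, map_zero] at this; exact zero_ne_one this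
  obtain ⟨k, hk, hkv⟩ := trans C S.ndU (by have := X.big; omega) hvU hf.memF hv0 hf0
    (by rw [hv, hf.singF])
  have hkw : k.val *ᵥ w = w := (root_act C hk w).2 fun z hz => S.orth z hz w hwW
  have hwf : w ∈ rootsAt Q B C H f hf.singF := by
    refine ⟨?_, fun c => ?_⟩
    · rw [← hkv, ← hkw, C.B_act (X.le_iso (X.rootU hk)), hw.1]
    · have h := sGL_conj C hv (show B v (c • w) = 0 by rw [map_smul, hw.1, smul_zero])
        (X.le_iso (X.rootU hk))
      rw [hkv, Matrix.mulVec_smul, hkw] at h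
      rw [← h]
      exact mul_mem (mul_mem (X.rootU hk) (hw.2 c)) (inv_mem (X.rootU hk))
  refine omega_le_of_two C ?_ X.le_iso hv hf.singF (by rw [hf.pair]; exact one_ne_zero)
    (X.centre_of_mixed hex hvU hv hv0 hwW hw0 hw)
    (X.centre_of_mixed hex hf.memF hf.singF hf0 hwW hw0 hwf)
  have := S.finrank_add C
  have := X.big
  omega

/-- A root group of `H` with independent projections and a vector off `U` gives `Ω`. -/
theorem SixCtx.omega_le_of_inj
    (hex : (∀ x ∈ W, Q x = 0 → x = 0) ∨ 3 ≤ finrank F W ∨ 4 ≤ Nat.card F)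
    {x y xU xW yU yW : ι → F} (hR : RPair Q B H x y) (hxU : xU ∈ U) (hxW : xW ∈ W)
    (hx : x = xU + xW) (hyU : yU ∈ U) (hyW : yW ∈ W) (hy : y = yU + yW)
    (hind : xU ∉ Submodule.span F {yU}) (hyW0 : yW ≠ 0) : Cfsg.Geo.omegaGL Q ≤ H := by
  have C := X.space
  have S := X.split
  have := X.big
  have hx' : ∀ v ∈ U, B x v = B xU v := fun v hv => by
    rw [hx, C.symm, S.B_left C hv hxW, C.symm]
  have hy' : ∀ v ∈ U, B y v = B yU v := fun v hv => by
    rw [hy, C.symm, S.B_left C hv hyW, C.symm]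
  obtain ⟨u, hu, hQu, hxu⟩ := exists_sing_perpIn C S (A := Submodule.span F {yU})
    ((Submodule.span_singleton_le_iff_mem _ U).mpr hyU)
    (by have := finrank_span_one_le yU; omega) hxU hind
  obtain ⟨v, hv, hv0, hQv⟩ := Sing.exists_singular C.smul C.polar
    (perpIn B U (Submodule.span F {xU, yU, u})) (by
      have := finrank_perpIn (B := B) U (Submodule.span F {xU, yU, u})
      have := finrank_span_triple_le xU yU u
      omega)
  have hxv : B x v = 0 := by
    rw [hx' v hv.1]; exact hv.2 xU (Submodule.subset_span (by simp))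
  have hyv : B y v = 0 := by
    rw [hy' v hv.1]; exact hv.2 yU (Submodule.subset_span (by simp))
  have huv : B u v = 0 := hv.2 u (Submodule.subset_span (by simp))
  have hp : RPair Q B H u v := ⟨hQu, hQv, huv, fun c => X.rootU
    (sGL_mem_root hu.1 (U.smul_mem c hv.1) hQu (by rw [map_smul, huv, smul_zero]))⟩
  have h := RPair.symm C (hR.rule C X.le_iso hp
    (by rw [hy' u hu.1]; exact hu.2 yU (Submodule.mem_span_singleton_self _)) hyv hxv
    (by rw [hx' u hu.1]; exact hxu))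
  have hvy : B v yU = 0 := by
    rw [C.symm, ← hy' v hv.1]; exact hyv
  have hyR : y ∈ rootsAt Q B C H v hQv := ⟨h.2.2.1, h.2.2.2⟩
  have hyUR : yU ∈ rootsAt Q B C H v hQv := ⟨hvy, fun c => X.rootU
    (sGL_mem_root hv.1 (U.smul_mem c hyU) hQv (by rw [map_smul, hvy, smul_zero]))⟩
  refine X.omega_le_of_mixed hex hv.1 hQv hv0 hyW hyW0 ?_
  have := Submodule.sub_mem _ hyR hyUR
  rwa [hy, add_sub_cancel_left] at this

/-- A root group of `H` that is mixed gives `Ω`. -/
theorem SixCtx.omega_le_of_pair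
    (hex : (∀ x ∈ W, Q x = 0 → x = 0) ∨ 3 ≤ finrank F W ∨ 4 ≤ Nat.card F)
    {x y : ι → F} (hR : RPair Q B H x y) (hind : x ∉ Submodule.span F {y}) (hy0 : y ≠ 0)
    (hU : ¬ (x ∈ U ∧ y ∈ U)) (hW : ¬ (x ∈ W ∧ y ∈ W)) : Cfsg.Geo.omegaGL Q ≤ H := by
  have C := X.space
  obtain ⟨xU, hxU, xW, hxW, hx⟩ := X.split.parts C x
  obtain ⟨yU, hyU, yW, hyW, hy⟩ := X.split.parts C y
  by_cases hdep : xU ∈ Submodule.span F {yU}
  · obtain ⟨c, hc⟩ := Submodule.mem_span_singleton.mp hdep
    have hne : x - c • y ≠ 0 := fun h => hind (Submodule.mem_span_singleton.mpr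
      ⟨c, (sub_eq_zero.mp h).symm⟩)
    have hzW : x - c • y ∈ W := by
      rw [hx, hy, ← hc, show c • yU + xW - c • (yU + yW) = xW - c • yW by rw [smul_add]; abel]
      exact W.sub_mem hxW (W.smul_mem c hyW)
    by_cases hyU0 : yU = 0
    · exact absurd ⟨by rw [hx, ← hc, hyU0, smul_zero, zero_add]; exact hxW,
        by rw [hy, hyU0, zero_add]; exact hyW⟩ hW
    · have h := hR.plane C 0 1 1 (-c)
      rw [zero_smul, zero_add, one_smul, one_smul, neg_smul, ← sub_eq_add_neg] at h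
      exact X.omega_le_of_inj hex h hyU hyW hy U.zero_mem hzW (zero_add _).symm
        (by simpa using hyU0) hne
  · by_cases hyW0 : yW = 0
    · refine X.omega_le_of_inj hex (RPair.symm C hR) hyU hyW hy hxU hxW hx (fun h => hdep ?_)
        (fun h => hU ⟨by rw [hx, h, add_zero]; exact hxU, by rw [hy, hyW0, add_zero]; exact hyU⟩)
      obtain ⟨c, hc⟩ := Submodule.mem_span_singleton.mp h
      have hc0 : c ≠ 0 := fun h0 => hy0 (by rw [hy, hyW0, ← hc, h0, zero_smul, add_zero])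
      exact Submodule.mem_span_singleton.mpr
        ⟨c⁻¹, by rw [← hc, smul_smul, inv_mul_cancel₀ hc0, one_smul]⟩
    · exact X.omega_le_of_inj hex hR hxU hxW hx hyU hyW hy hdep hyW0

/-- A subgroup containing the stabiliser keeps `U`, maps `U` into `W`, or is everything. -/
theorem SixCtx.stab_or_swap_or_top
    (hex : (∀ x ∈ W, Q x = 0 → x = 0) ∨ 3 ≤ finrank F W ∨ 4 ≤ Nat.card F) :
    (∀ g ∈ H, ∀ u ∈ U, g.val *ᵥ u ∈ U) ∨
      (∃ g ∈ H, ∀ u ∈ U, g.val *ᵥ u ∈ W) ∨ Cfsg.Geo.omegaGL Q ≤ H := by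
  have C := X.space
  have S := X.split
  have := X.big
  by_cases hbad : ∃ g ∈ H, ∃ a b, a ∈ U ∧ b ∈ U ∧ Q a = 0 ∧ Q b = 0 ∧ B a b = 0 ∧
      a ∉ Submodule.span F {b} ∧ b ≠ 0 ∧ ¬ (g.val *ᵥ a ∈ U ∧ g.val *ᵥ b ∈ U) ∧
      ¬ (g.val *ᵥ a ∈ W ∧ g.val *ᵥ b ∈ W)
  · obtain ⟨g, hg, a, b, ha, hb, hQa, hQb, hab, hind, hb0, h1, h2⟩ := hbad
    have hR : RPair Q B H a b := ⟨hQa, hQb, hab, fun c => X.rootU
      (sGL_mem_root ha (U.smul_mem c hb) hQa (by rw [map_smul, hab, smul_zero]))⟩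
    refine Or.inr (Or.inr (X.omega_le_of_pair hex (hR.conj C X.le_iso hg) (fun h => hind ?_)
      (act_ne_zero hb0) h1 h2))
    obtain ⟨c, hc⟩ := Submodule.mem_span_singleton.mp h
    exact Submodule.mem_span_singleton.mpr
      ⟨c, act_injective g ((Matrix.mulVec_smul _ _ _).trans hc)⟩
  by_cases hsw : ∃ g ∈ H, ∀ u ∈ U, g.val *ᵥ u ∈ W
  · exact Or.inr (Or.inl hsw)
  left
  intro g hg
  push Not at hbad
  have key : ∀ a b, a ∈ U → b ∈ U → Q a = 0 → Q b = 0 → B a b = 0 → a ∉ Submodule.span F {b} →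
      b ≠ 0 → g.val *ᵥ a ∉ U → g.val *ᵥ a ∈ W ∧ g.val *ᵥ b ∈ W :=
    fun a b ha hb hQa hQb hab hnab hb0 hna =>
      hbad g hg a b ha hb hQa hQb hab hnab hb0 fun h => absurd h hna
  have same : ∀ a ∈ U, Q a = 0 → a ≠ 0 → ∀ a' ∈ U, Q a' = 0 → a' ≠ 0 →
      g.val *ᵥ a ∉ U → g.val *ᵥ a' ∈ W := by
    intro a ha hQa ha0 a' ha' hQa' ha'0 hna
    obtain ⟨b₀, f₀, hH₀, hb₀A, -⟩ := exists_hyp_perpIn C S (A := Submodule.span F {a})
      ((Submodule.span_singleton_le_iff_mem _ U).mpr ha)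
      (by have := finrank_span_one_le a; omega)
    have hb₀0 : b₀ ≠ 0 := fun h => hb₀A (h ▸ Submodule.zero_mem _)
    have hgaW := (key a b₀ ha hH₀.memE.1 hQa hH₀.singE
      (hH₀.memE.2 a (Submodule.mem_span_singleton_self a)) (fun h => by
        obtain ⟨c, hc⟩ := Submodule.mem_span_singleton.mp h
        have hc0 : c ≠ 0 := fun h0 => ha0 (by rw [← hc, h0, zero_smul])
        exact hb₀A (Submodule.mem_span_singleton.mpr
          ⟨c⁻¹, by rw [← hc, smul_smul, inv_mul_cancel₀ hc0, one_smul]⟩)) hb₀0 hna).1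
    by_cases hdep : a ∈ Submodule.span F {a'}
    · obtain ⟨c, hc⟩ := Submodule.mem_span_singleton.mp hdep
      have hc0 : c ≠ 0 := fun h0 => ha0 (by rw [← hc, h0, zero_smul])
      rw [← hc, Matrix.mulVec_smul] at hgaW
      exact (Submodule.smul_mem_iff W hc0).mp hgaW
    by_cases horth : B a a' = 0
    · exact (key a a' ha ha' hQa hQa' horth hdep ha'0 hna).2
    obtain ⟨b, hb, hb0, hQb⟩ := Sing.exists_singular C.smul C.polar
      (perpIn B U (Submodule.span F {a, a'})) (by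
        have := finrank_perpIn (B := B) U (Submodule.span F {a, a'})
        have := finrank_span_pair_le a a'
        omega)
    have hab : B a b = 0 := hb.2 a (Submodule.subset_span (by simp))
    have ha'b : B a' b = 0 := hb.2 a' (Submodule.subset_span (by simp))
    have hnab : a ∉ Submodule.span F {b} := fun h => by
      obtain ⟨c, hc⟩ := Submodule.mem_span_singleton.mp h
      exact horth (by rw [C.symm, ← hc, map_smul, ha'b, smul_zero])
    have hna'b : a' ∉ Submodule.span F {b} := fun h => by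
      obtain ⟨c, hc⟩ := Submodule.mem_span_singleton.mp h
      exact horth (by rw [← hc, map_smul, hab, smul_zero])
    have hgb := (key a b ha hb.1 hQa hQb hab hnab hb0 hna).2
    by_cases hna' : g.val *ᵥ a' ∈ U
    · have hgbU : g.val *ᵥ b ∈ U := by
        by_contra hnb
        have hbna' : b ∉ Submodule.span F {a'} := fun h => by
          obtain ⟨c, hc⟩ := Submodule.mem_span_singleton.mp h
          have hc0 : c ≠ 0 := fun h0 => hb0 (by rw [← hc, h0, zero_smul])
          exact hna'b (Submodule.mem_span_singleton.mpr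
            ⟨c⁻¹, by rw [← hc, smul_smul, inv_mul_cancel₀ hc0, one_smul]⟩)
        have hW' := (key b a' hb.1 ha' hQb hQa' (by rw [C.symm]; exact ha'b) hbna' ha'0 hnb).2
        exact act_ne_zero ha'0 (S.disj C hna' hW')
      exact absurd (S.disj C hgbU hgb) (act_ne_zero hb0)
    · exact (key a' b ha' hb.1 hQa' hQb ha'b hna'b hb0 hna').1
  obtain ⟨e, f, hH⟩ := exists_hyp' C S.ndU (by omega)
  intro u hu
  by_cases hall : ∀ a ∈ U, Q a = 0 → g.val *ᵥ a ∈ U
  · exact (Submodule.span_le (p := U.comap (Matrix.mulVecLin g.val))).mpr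
      (fun a ha => hall a ha.1 ha.2) (hH.span C hu)
  push Not at hall
  obtain ⟨a, ha, hQa, hna⟩ := hall
  have ha0 : a ≠ 0 := fun h => hna (by rw [h, Matrix.mulVec_zero]; exact U.zero_mem)
  exfalso
  refine hsw ⟨g, hg, fun z hz => ?_⟩
  exact (Submodule.span_le (p := W.comap (Matrix.mulVecLin g.val))).mpr
    (fun a' ha' => by
      by_cases h0 : a' = 0
      · show g.val *ᵥ a' ∈ W
        rw [h0, Matrix.mulVec_zero]; exact W.zero_mem
      · exact same a ha hQa ha0 a' ha'.1 ha'.2 h0 hna) (hH.span C hz)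

end Ctx

section

variable [Finite F] (C : Space Q B) {U W : Submodule F (ι → F)} (S : Split Q B U W)
  (h6 : 6 ≤ finrank F U)

include C S h6

theorem sixCtx_of_stab {H : Subgroup (GL ι F)} (hHI : H ≤ isometryGroup F Q)
    (hLH : Cfsg.Geo.subspaceStabilizer W ⊓ Cfsg.Geo.omegaGL Q ≤ H) : SixCtx Q B H U W := by
  have h5 : 5 ≤ Fintype.card ι := by have := S.finrank_add C; omega
  have hO := omegaGL_eq C h5
  refine ⟨C, S, h6, hHI, fun g hg => hLH ⟨?_, ?_⟩, fun g hg => hLH ⟨?_, ?_⟩, fun v hv hQv => ?_⟩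
  · refine mem_stab_of_mapsTo fun w hw => ?_
    rw [(root_act C hg w).2 fun z hz => S.orth z hz w hw]
    exact hw
  · exact hO ▸ root_mono le_top hg
  · exact mem_stab_of_mapsTo fun w hw => root_mem_U C hg hw
  · exact hO ▸ root_mono le_top hg
  obtain ⟨e, f, hH⟩ := exists_hyp' C S.ndU (by omega)
  set u := Q v • e + f with hu'
  have hu : u ∈ U := U.add_mem (U.smul_mem _ hH.memE) hH.memF
  have hQu : Q u = Q v := by
    rw [hu', C.add, C.smul, hH.singE, hH.singF, map_smul, LinearMap.smul_apply, hH.pair]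
    simp
  have hQu0 : Q u ≠ 0 := by rwa [hQu]
  have hW : ∀ z ∈ W, (rGL Q v * rGL Q u).val *ᵥ z = (rGL Q v).val *ᵥ z := fun z hz => by
    rw [mul_act, rGL_fix C hQu0 (S.orth u hu z hz)]
  refine ⟨rGL Q v * rGL Q u, hLH ⟨mem_stab_of_mapsTo fun z hz => ?_, ?_⟩, fun z hz => ?_, hW⟩
  · rw [hW z hz, rGL_act C hQv]
    exact W.sub_mem hz (W.smul_mem _ hv)
  · rw [hO, ← comm_eq_root C h5]
    exact rGL_mul_rGL_mem C h5 hQv hQu.symm
  · rw [mul_act, rGL_act C hQu0]
    have h : z - ((Q u)⁻¹ * B u z) • u ∈ U := U.sub_mem hz (U.smul_mem _ hu)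
    rwa [rGL_fix C hQv (by rw [C.symm]; exact S.orth _ h v hv)]

/-- The stabiliser of a part of dimension less than the other one, of at least six, is maximal. -/
theorem split_max_six (hW0 : W ≠ ⊥) (hlt : finrank F W < finrank F U)
    (hex : (∀ x ∈ W, Q x = 0 → x = 0) ∨ 3 ≤ finrank F W ∨ 4 ≤ Nat.card F) :
    Cfsg.Geo.IsMaximalIn (Cfsg.Geo.omegaGL Q)
      (Cfsg.Geo.subspaceStabilizer W ⊓ Cfsg.Geo.omegaGL Q) := by
  have h5 : 5 ≤ Fintype.card ι := by have := S.finrank_add C; omega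
  have hO := omegaGL_eq C h5
  refine ⟨lt_of_le_of_ne inf_le_right fun heq => ?_, fun H hLH hHΩ => ?_⟩
  · obtain ⟨w, hw, hQw⟩ := exists_nonsing C S.ndW hW0
    obtain ⟨e, f, hH⟩ := exists_hyp' C S.ndU (by omega)
    have hew := S.orth e hH.memE w hw
    have hmem : sGL Q B e w ∈ Cfsg.Geo.subspaceStabilizer U ⊓ Cfsg.Geo.omegaGL Q := by
      rw [← S.stab_eq C, heq, hO]
      exact sGL_mem_root trivial trivial hH.singE hew
    have h1 := stab_mem hmem.1 hH.memF
    rw [sGL_act C hH.singE hew, hH.pair, one_smul, C.symm w f, S.orth f hH.memF w hw] at h1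
    have h2 : w ∈ U := by
      have := U.add_mem (U.sub_mem h1 hH.memF) (U.smul_mem (0 + Q w * 1) hH.memE)
      rwa [show f + w - (0 + Q w * 1) • e - f + (0 + Q w * 1) • e = w by abel] at this
    exact hQw (by rw [S.disj C h2 hw, C.zero])
  have hHI : H ≤ isometryGroup F Q := hHΩ.trans (hO ▸ root_le_iso C _)
  rcases (sixCtx_of_stab C S h6 hHI hLH).stab_or_swap_or_top hex with h | ⟨g, hg, h⟩ | h
  · refine Or.inl (le_antisymm (fun g hg => ?_) hLH)
    rw [S.stab_eq C]
    exact ⟨mem_stab_of_mapsTo (h g hg), hHΩ hg⟩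
  · exact absurd ⟨g, hHI hg, h⟩ (no_swap_of_lt hlt)
  · exact Or.inr (le_antisymm hHΩ h)

end

/-- Maximality in odd dimension at least eleven. -/
theorem nondeg_max_odd [Finite F] (C : Space Q B) {W : Submodule F (ι → F)}
    (hn : 11 ≤ Fintype.card ι) (hodd : Odd (Fintype.card ι))
    (hW : NDeg B W) (hW0 : W ≠ ⊥) (hW1 : W ≠ ⊤)
    (hex : ∀ U : Submodule F (ι → F), Nat.card F ≤ 3 → finrank F U = 2 → NDeg B U →
      Cfsg.Geo.IsPlusTypeOn Q U →
      ¬ (U = W ∨ ((∀ u ∈ U, ∀ w ∈ W, B u w = 0) ∧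
        finrank F U + finrank F W = Fintype.card ι))) :
    Cfsg.Geo.IsMaximalIn (Cfsg.Geo.omegaGL Q)
      (Cfsg.Geo.subspaceStabilizer W ⊓ Cfsg.Geo.omegaGL Q) := by
  have S := split_of_ndeg C hW
  have hadd := S.finrank_add C
  obtain ⟨r, hr⟩ := hodd
  have small : ∀ X : Submodule F (ι → F), NDeg B X →
      (X = W ∨ ((∀ u ∈ X, ∀ w ∈ W, B u w = 0) ∧ finrank F X + finrank F W = Fintype.card ι)) →
      (∀ x ∈ X, Q x = 0 → x = 0) ∨ 3 ≤ finrank F X ∨ 4 ≤ Nat.card F := by
    intro X hX hXW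
    by_contra hcon
    push Not at hcon
    obtain ⟨⟨z, hz, hQz, hz0⟩, h2, h3⟩ := hcon
    have hle : Submodule.span F {z} ≤ X := (Submodule.span_singleton_le_iff_mem z X).mpr hz
    have hlt : Submodule.span F {z} < X := lt_of_le_of_ne hle fun h => hz0 (hX z hz fun y hy => by
      rw [← h] at hy
      obtain ⟨c, rfl⟩ := Submodule.mem_span_singleton.mp hy
      rw [map_smul, C.self_zero hQz, smul_zero])
    have h4 := Submodule.finrank_lt_finrank_of_lt hlt
    rw [finrank_span_singleton hz0] at h4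
    refine hex X (by omega) (by omega) hX
      ⟨Submodule.span F {z}, hle, fun w hw => ?_, ?_⟩ hXW
    · obtain ⟨c, rfl⟩ := Submodule.mem_span_singleton.mp hw
      rw [C.smul, hQz, mul_zero]
    · rw [finrank_span_singleton hz0]; omega
  by_cases hbig : finrank F W < finrank F (perpIn B ⊤ W)
  · exact split_max_six C S (by omega) hW0 hbig (small W hW (Or.inl rfl))
  · rw [S.stab_eq C]
    refine split_max_six C (S.swap C) (by omega) (fun h => ?_) (by omega)
      (small _ S.ndU (Or.inr ⟨S.orth, hadd⟩))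
    refine hW1 (eq_top_iff.mpr ?_)
    rw [← S.sup, h, bot_sup_eq]

end Cfsg.Lib.Linear.Orth
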