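import Cfsg.Agent.Lib.Linear.SubfieldBasic

/-!
# The involution trick for subfield groups

If every element of `L` mapping some rational vector into a rational hyperplane is rational up to a
scalar, and `L` contains two non-conjugate rational involutions with large fixed spaces, then every
element of `L` is rational up to a scalar.
-/

set_option autoImplicit false

namespace Cfsg.Lib.Linear.Rat0

open scoped Matrix

variable {ι : Type} [Fintype ι] [DecidableEq ι] {F : Type*} [Field F] (F₀ : Subfield F)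

/-- The space of vectors fixed by a matrix. -/
def fixedSp (g : GL ι F) : Submodule F (ι → F) :=
  LinearMap.ker (Matrix.toLin' (g : Matrix ι ι F) - 1)

theorem mem_fixedSp (g : GL ι F) (v : ι → F) :
    v ∈ fixedSp g ↔ (g : Matrix ι ι F) *ᵥ v = v := by
  simp [fixedSp, sub_eq_zero, Matrix.toLin'_apply]

theorem scalar_mem' [Finite F] {d : ℕ} (A : Matrix ι ι F₀) {μ : F} (hμ : μ * μ ∈ F₀)
    (K : Submodule F (ι → F)) (hd : d ≤ Module.finrank F K) (hn : Fintype.card ι < 2 * d)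
    (hK : ∀ v ∈ K, A.map F₀.subtype *ᵥ v = μ • v) : μ ∈ F₀ := by
  let e := Fintype.equivFin ι
  let T : (ι → F) ≃ₗ[F] (Fin (Fintype.card ι) → F) := LinearEquiv.funCongrLeft F F e.symm
  refine scalar_mem F₀ (A.submatrix e.symm e.symm) hμ (K.map T.toLinearMap) (d := d) ?_ hn ?_
  · rwa [LinearEquiv.finrank_map_eq]
  · rintro _ ⟨v, hv, rfl⟩
    funext i
    have h := congrFun (hK v hv) (e.symm i)
    rw [Matrix.mulVec, dotProduct, ← e.symm.sum_comp] at h
    exact h

/-- An involution with entries in the subfield fixing a subspace of codimension at most `d`. -/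
def RatInvol (j : GL ι F) (d : ℕ) : Prop :=
  (∀ a b, (j : Matrix ι ι F) a b ∈ F₀) ∧ j * j = 1 ∧ j ≠ 1 ∧
    Fintype.card ι ≤ Module.finrank F (fixedSp j) + d

variable {F₀}

theorem exists_moved' {g : GL ι F} (hg : g ≠ 1) :
    ∃ l, (g : Matrix ι ι F) *ᵥ Pi.single l 1 ≠ Pi.single l 1 := by
  by_contra hc
  push Not at hc
  refine hg (Units.ext (Matrix.ext fun a b => ?_))
  have h := congrFun (hc b) a
  rw [Matrix.mulVec_single_one] at h
  rw [Units.val_one, Matrix.one_apply]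
  simpa [Pi.single_apply] using h

/-- The vector `g e_l - e_l` of a rational matrix. -/
theorem exists_rat_moved {g : GL ι F} (hg : ∀ a b, (g : Matrix ι ι F) a b ∈ F₀) (h1 : g ≠ 1) :
    ∃ c : ι → F₀, c ≠ 0 ∧ ∃ v : ι → F, rv F₀ c = (g : Matrix ι ι F) *ᵥ v - v := by
  obtain ⟨l, hl⟩ := exists_moved' h1
  refine ⟨fun a => ⟨_, hg a l⟩ - if a = l then 1 else 0, fun e => hl ?_, Pi.single l 1, ?_⟩
  · funext a
    have := congrArg Subtype.val (congrFun e a)
    rw [Matrix.mulVec_single_one]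
    simp [apply_ite Subtype.val, sub_eq_zero] at this
    simp [Pi.single_apply, this]
  · funext a
    rw [Pi.sub_apply, Matrix.mulVec_single_one]
    simp [rv, Pi.single_apply, apply_ite Subtype.val]

/-- A rational covector killing the moved space of a rational matrix with a fixed vector. -/
theorem exists_rat_cokernel {g : GL ι F} (hg : ∀ a b, (g : Matrix ι ι F) a b ∈ F₀)
    (hfix : fixedSp g ≠ ⊥) :
    ∃ ψ : ι → F₀, ψ ≠ 0 ∧ ∀ v : ι → F, rv F₀ ψ ⬝ᵥ ((g : Matrix ι ι F) *ᵥ v - v) = 0 := by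
  let B : Matrix ι ι F₀ := Matrix.of (fun a b => (⟨_, hg a b⟩ : F₀)) - 1
  have hB : B.map F₀.subtype = (g : Matrix ι ι F) - 1 := by
    ext a b
    simp [B, Matrix.one_apply, apply_ite Subtype.val]
  have hdet : B.det = 0 := by
    apply F₀.subtype.injective
    rw [RingHom.map_det, map_zero, RingHom.mapMatrix_apply, hB, ← Matrix.exists_mulVec_eq_zero_iff]
    obtain ⟨v, hv, hv0⟩ := Submodule.exists_mem_ne_zero_of_ne_bot hfix
    exact ⟨v, hv0, by rw [Matrix.sub_mulVec, Matrix.one_mulVec, (mem_fixedSp g v).mp hv, sub_self]⟩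
  obtain ⟨ψ, hψ, hψ0⟩ := Matrix.exists_vecMul_eq_zero_iff.mpr hdet
  refine ⟨ψ, hψ, fun v => ?_⟩
  have h' : rv F₀ ψ ᵥ* ((g : Matrix ι ι F) - 1) = 0 := by
    rw [← hB]
    funext b
    have := congrArg F₀.subtype (congrFun hψ0 b)
    rw [Matrix.vecMul, dotProduct, map_sum] at this
    rw [Matrix.vecMul, dotProduct]
    simpa [rv] using this
  rw [show (g : Matrix ι ι F) *ᵥ v - v = ((g : Matrix ι ι F) - 1) *ᵥ v by
      rw [Matrix.sub_mulVec, Matrix.one_mulVec],
    Matrix.dotProduct_mulVec, h', zero_dotProduct]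

/-- A rational matrix fixing a plane fixes two independent rational vectors. -/
theorem exists_rat_fixed2 [Finite F] {g : GL ι F} (hg : ∀ a b, (g : Matrix ι ι F) a b ∈ F₀)
    (hfix : 2 ≤ Module.finrank F (fixedSp g)) :
    ∃ x y : ι → F₀, x ≠ 0 ∧ (∀ t : F₀, y ≠ t • x) ∧ (g : Matrix ι ι F) *ᵥ rv F₀ x = rv F₀ x ∧
      (g : Matrix ι ι F) *ᵥ rv F₀ y = rv F₀ y := by
  have hspan : fixedSp g ≤ Submodule.span F
      (rv F₀ '' {x : ι → F₀ | (g : Matrix ι ι F) *ᵥ rv F₀ x = rv F₀ x}) := by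
    intro v hv
    let b := Module.finBasis F₀ F
    have hv' : v = ∑ k, b k • rv F₀ (fun i => b.coord k (v i)) := by
      funext i
      rw [Finset.sum_apply]
      refine (b.sum_repr (v i)).symm.trans (Finset.sum_congr rfl fun k _ => ?_)
      exact mul_comm _ _
    rw [hv']
    refine Submodule.sum_mem _ fun k _ => Submodule.smul_mem _ _ (Submodule.subset_span ⟨_, ?_, rfl⟩)
    have hgv := (mem_fixedSp g v).mp hv
    funext i
    show ∑ j, (g : Matrix ι ι F) i j * (b.coord k (v j) : F) = (b.coord k (v i) : F)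
    rw [← congrFun hgv i, Matrix.mulVec, dotProduct, map_sum, AddSubmonoidClass.coe_finsetSum]
    refine Finset.sum_congr rfl fun j _ => ?_
    rw [show (g : Matrix ι ι F) i j * v j = (⟨_, hg i j⟩ : F₀) • v j from rfl, map_smul]
    rfl
  have key : ∀ x₀ : ι → F₀, ∃ y : ι → F₀, (∀ t : F₀, y ≠ t • x₀) ∧
      (g : Matrix ι ι F) *ᵥ rv F₀ y = rv F₀ y := by
    intro x₀
    by_contra hne
    push Not at hne
    have hle : fixedSp g ≤ Submodule.span F {rv F₀ x₀} := by
      refine hspan.trans (Submodule.span_le.mpr ?_)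
      rintro _ ⟨y, hy, rfl⟩
      obtain ⟨t, rfl⟩ : ∃ t : F₀, y = t • x₀ := by
        by_contra hc
        push Not at hc
        exact hne y hc hy
      exact Submodule.mem_span_singleton.mpr ⟨t, rfl⟩
    have h1 := Submodule.finrank_mono hle
    have h2 : Module.finrank F (Submodule.span F {rv F₀ x₀}) ≤ 1 := by
      by_cases h0 : rv F₀ x₀ = 0
      · rw [h0, Submodule.span_zero_singleton, finrank_bot]; omega
      · rw [finrank_span_singleton h0]
    omega
  obtain ⟨x, hx, hgx⟩ := key 0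
  obtain ⟨y, hy, hgy⟩ := key x
  exact ⟨x, y, fun e => hx 0 (by rw [e, smul_zero]), hy, hgx, hgy⟩

theorem entries_of_ratG [Finite F] {d : ℕ} (hn : 2 * d < Fintype.card ι) {w : GL ι F}
    (hw2 : w * w = 1) (hw : RatG F₀ w)
    (hK : Fintype.card ι ≤ Module.finrank F (fixedSp w) + d) :
    ∀ a b, (w : Matrix ι ι F) a b ∈ F₀ := by
  obtain ⟨c, hc, h⟩ := hw
  let A : Matrix ι ι F₀ := Matrix.of fun a b => ⟨_, h a b⟩
  have hA : A.map F₀.subtype = c • (w : Matrix ι ι F) := rfl
  obtain ⟨i⟩ : Nonempty ι := Fintype.card_pos_iff.mp (by omega)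
  have hcc : c * c ∈ F₀ := by
    have h1 : ((A * A).map F₀.subtype) i i = c * c := by
      rw [Matrix.map_mul, hA, Matrix.smul_mul, Matrix.mul_smul, smul_smul, ← Units.val_mul, hw2,
        Units.val_one, Matrix.smul_apply, Matrix.one_apply_eq, smul_eq_mul, mul_one]
    rw [← h1]
    exact ((A * A) i i).2
  have hcm : c ∈ F₀ := scalar_mem' F₀ A hcc (fixedSp w) (d := Fintype.card ι - d) (by omega)
    (by omega) fun v hv => by rw [hA, Matrix.smul_mulVec, (mem_fixedSp w v).mp hv]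
  intro a b
  have := F₀.mul_mem (F₀.inv_mem hcm) (h a b)
  rwa [← mul_assoc, inv_mul_cancel₀ hc, one_mul] at this

/-- The same in odd dimension, from the determinant. -/
theorem entries_of_ratG_odd (hn : Odd (Fintype.card ι)) {w : GL ι F}
    (hw2 : w * w = 1) (hw : RatG F₀ w) : ∀ a b, (w : Matrix ι ι F) a b ∈ F₀ := by
  obtain ⟨c, hc, h⟩ := hw
  let A : Matrix ι ι F₀ := Matrix.of fun a b => ⟨_, h a b⟩
  have hA : A.map F₀.subtype = c • (w : Matrix ι ι F) := rfl
  obtain ⟨i⟩ : Nonempty ι := Fintype.card_pos_iff.mp hn.pos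
  have hcc : c * c ∈ F₀ := by
    have h1 : ((A * A).map F₀.subtype) i i = c * c := by
      rw [Matrix.map_mul, hA, Matrix.smul_mul, Matrix.mul_smul, smul_smul, ← Units.val_mul, hw2,
        Units.val_one, Matrix.smul_apply, Matrix.one_apply_eq, smul_eq_mul, mul_one]
    rw [← h1]
    exact ((A * A) i i).2
  have hd : c ^ Fintype.card ι * (w : Matrix ι ι F).det ∈ F₀ := by
    rw [← Matrix.det_smul, ← hA]
    change (F₀.subtype.mapMatrix A).det ∈ F₀
    rw [← RingHom.map_det]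
    exact A.det.2
  have hw1 : (w : Matrix ι ι F).det * (w : Matrix ι ι F).det = 1 := by
    rw [← Matrix.det_mul, ← Units.val_mul, hw2, Units.val_one, Matrix.det_one]
  have hdet : (w : Matrix ι ι F).det ∈ F₀ := by
    rcases mul_self_eq_one_iff.mp hw1 with h1 | h1 <;> rw [h1]
    · exact F₀.one_mem
    · exact F₀.neg_mem F₀.one_mem
  have hcn : c ^ Fintype.card ι ∈ F₀ := by
    have h1 := F₀.mul_mem hd hdet
    rwa [mul_assoc, hw1, mul_one] at h1
  obtain ⟨s, hs⟩ := hn
  rw [hs, pow_succ, pow_mul, sq] at hcn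
  have hcm : c ∈ F₀ := by
    have h1 := F₀.mul_mem (F₀.inv_mem (pow_mem hcc s)) hcn
    rwa [← mul_assoc, inv_mul_cancel₀ (pow_ne_zero _ (mul_ne_zero hc hc)), one_mul] at h1
  intro a b
  have := F₀.mul_mem (F₀.inv_mem hcm) (h a b)
  rwa [← mul_assoc, inv_mul_cancel₀ hc, one_mul] at this

/-- The same with a rational vector which is negated. -/
theorem entries_of_ratG_neg {w : GL ι F} (hw : RatG F₀ w) {x : ι → F₀} (hx : x ≠ 0)
    (hwx : (w : Matrix ι ι F) *ᵥ rv F₀ x = -rv F₀ x) : ∀ a b, (w : Matrix ι ι F) a b ∈ F₀ := by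
  obtain ⟨c, hc, h⟩ := hw
  obtain ⟨i, hi⟩ := Function.ne_iff.mp hx
  have hi' : (x i : F) ≠ 0 := fun e => hi (Subtype.ext e)
  have h1 : c * (x i : F) ∈ F₀ := by
    have h2 : ∑ j, c * (w : Matrix ι ι F) i j * (x j : F) = -(c * (x i : F)) := by
      have := congrFun hwx i
      simp only [Matrix.mulVec, dotProduct, rv, Pi.neg_apply] at this
      rw [← mul_neg, ← this, Finset.mul_sum]
      exact Finset.sum_congr rfl fun j _ => mul_assoc _ _ _
    rw [← neg_neg (c * (x i : F)), ← h2]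
    exact F₀.neg_mem (sum_mem fun j _ => F₀.mul_mem (h i j) (x j).2)
  have hcm : c ∈ F₀ := by
    have := F₀.mul_mem h1 (F₀.inv_mem (x i).2)
    rwa [mul_assoc, mul_inv_cancel₀ hi', mul_one] at this
  intro a b
  have := F₀.mul_mem (F₀.inv_mem hcm) (h a b)
  rwa [← mul_assoc, inv_mul_cancel₀ hc, one_mul] at this

theorem finrank_fixedSp_neg (h2 : (2 : F) ≠ 0) {w : GL ι F} (hw2 : w * w = 1) :
    Fintype.card ι ≤ Module.finrank F (fixedSp w) + Module.finrank F (fixedSp (-w)) := by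
  have hww : ∀ v, (w : Matrix ι ι F) *ᵥ ((w : Matrix ι ι F) *ᵥ v) = v := fun v => by
    rw [Matrix.mulVec_mulVec, ← Units.val_mul, hw2, Units.val_one, Matrix.one_mulVec]
  have htop : (⊤ : Submodule F (ι → F)) ≤ fixedSp w ⊔ fixedSp (-w) := fun v _ => by
    refine Submodule.mem_sup.mpr ⟨(2⁻¹ : F) • (v + (w : Matrix ι ι F) *ᵥ v), ?_,
      (2⁻¹ : F) • (v - (w : Matrix ι ι F) *ᵥ v), ?_, ?_⟩
    · rw [mem_fixedSp, Matrix.mulVec_smul, Matrix.mulVec_add, hww, add_comm]
    · rw [mem_fixedSp, Units.val_neg, Matrix.neg_mulVec, Matrix.mulVec_smul, Matrix.mulVec_sub, hww,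
        ← smul_neg, neg_sub]
    · rw [← smul_add, show v + (w : Matrix ι ι F) *ᵥ v + (v - (w : Matrix ι ι F) *ᵥ v) = (2 : F) • v by
        rw [two_smul]; abel, smul_smul, inv_mul_cancel₀ h2, one_smul]
  have h1 := Submodule.finrank_mono htop
  rw [finrank_top, Module.finrank_fintype_fun_eq_card] at h1
  exact h1.trans (Submodule.finrank_add_le_finrank_add_finrank _ _)

/-- An involution of determinant one moves a space of even dimension. -/
theorem even_moved (h2 : (2 : F) ≠ 0) {w : GL ι F} (hw2 : w * w = 1)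
    (hdet : (w : Matrix ι ι F).det = 1) :
    Even (Fintype.card ι - Module.finrank F (fixedSp w)) := by
  have hww : ∀ v, (w : Matrix ι ι F) *ᵥ ((w : Matrix ι ι F) *ᵥ v) = v := fun v => by
    rw [Matrix.mulVec_mulVec, ← Units.val_mul, hw2, Units.val_one, Matrix.one_mulVec]
  set T := Matrix.toLin' (w : Matrix ι ι F) with hT
  have hfix : ∀ v ∈ fixedSp w, T v = v := fun v hv => by
    rw [hT, Matrix.toLin'_apply]; exact (mem_fixedSp w v).mp hv
  have hle : fixedSp w ≤ (fixedSp w).comap T := fun v hv => by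
    rw [Submodule.mem_comap, hfix v hv]; exact hv
  have h1 : T.restrict hle = LinearMap.id := LinearMap.ext fun v => Subtype.ext (hfix v v.2)
  have h3 : (fixedSp w).mapQ (fixedSp w) T hle = (-1 : F) • LinearMap.id := by
    refine LinearMap.ext fun q => ?_
    obtain ⟨v, rfl⟩ := Submodule.Quotient.mk_surjective _ q
    rw [Submodule.mapQ_apply, LinearMap.smul_apply, LinearMap.id_apply, neg_one_smul,
      ← Submodule.Quotient.mk_neg, Submodule.Quotient.eq, sub_neg_eq_add, mem_fixedSp, hT,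
      Matrix.toLin'_apply, Matrix.mulVec_add, hww, add_comm]
  have h4 : LinearMap.det T = 1 := by rw [hT, LinearMap.det_toLin', hdet]
  rw [LinearMap.det_eq_det_mul_det (fixedSp w) T hle, h1, h3, LinearMap.det_id, one_mul,
    LinearMap.det_smul, LinearMap.det_id, mul_one, Submodule.finrank_quotient,
    Module.finrank_fintype_fun_eq_card] at h4
  exact (neg_one_pow_eq_one_iff_even (fun h => h2 (by linear_combination -h))).mp h4

/-- An involution with eigenspaces of different dimensions. -/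
theorem entries_of_ratG_ne [Finite F] (h2 : (2 : F) ≠ 0) {w : GL ι F} (hw2 : w * w = 1)
    (hw : RatG F₀ w) (hne : 2 * Module.finrank F (fixedSp w) ≠ Fintype.card ι) :
    ∀ a b, (w : Matrix ι ι F) a b ∈ F₀ := by
  have h1 := finrank_fixedSp_neg h2 hw2
  have h3 := Submodule.finrank_le (fixedSp w)
  rw [Module.finrank_fintype_fun_eq_card] at h3
  rcases lt_or_gt_of_ne hne with h | h
  · obtain ⟨c, hc, he⟩ := hw
    have := entries_of_ratG (d := Module.finrank F (fixedSp w)) h (w := -w)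
      (by rw [neg_mul_neg, hw2]) ⟨-c, neg_ne_zero.mpr hc, fun a b => by
        rw [Units.val_neg, Matrix.neg_apply, neg_mul_neg]; exact he a b⟩ (by omega)
    intro a b
    have h4 := F₀.neg_mem (this a b)
    rwa [Units.val_neg, Matrix.neg_apply, neg_neg] at h4
  · exact entries_of_ratG (d := Fintype.card ι - Module.finrank F (fixedSp w)) (by omega) hw2 hw
      (by omega)

/-- In characteristic two every element is determined by its square. -/
theorem entries_of_ratG_two [Finite F] [Nonempty ι] (h2 : (2 : F) = 0) {w : GL ι F}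
    (hw2 : w * w = 1) (hw : RatG F₀ w) : ∀ a b, (w : Matrix ι ι F) a b ∈ F₀ := by
  obtain ⟨c, hc, h⟩ := hw
  let A : Matrix ι ι F₀ := Matrix.of fun a b => ⟨_, h a b⟩
  have hA : A.map F₀.subtype = c • (w : Matrix ι ι F) := rfl
  obtain ⟨i⟩ := ‹Nonempty ι›
  have hcc : c * c ∈ F₀ := by
    have h1 : ((A * A).map F₀.subtype) i i = c * c := by
      rw [Matrix.map_mul, hA, Matrix.smul_mul, Matrix.mul_smul, smul_smul, ← Units.val_mul, hw2,
        Units.val_one, Matrix.smul_apply, Matrix.one_apply_eq, smul_eq_mul, mul_one]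
    rw [← h1]
    exact ((A * A) i i).2
  haveI : CharP F₀ 2 := CharTwo.of_one_ne_zero_of_two_eq_zero one_ne_zero (Subtype.ext h2)
  obtain ⟨d, hd⟩ := FiniteField.isSquare_of_char_two (ringChar.eq F₀ 2) (⟨c * c, hcc⟩ : F₀)
  have hcm : c ∈ F₀ := by
    have h1 : (c - (d : F)) * (c - (d : F)) = 0 := by
      have h3 : (d : F) * d = c * c := by
        have := congrArg Subtype.val hd
        simpa using this.symm
      linear_combination h3 + (c * c - c * (d : F)) * h2
    have : c = (d : F) := sub_eq_zero.mp (mul_self_eq_zero.mp h1)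
    rw [this]; exact d.2
  intro a b
  have := F₀.mul_mem (F₀.inv_mem hcm) (h a b)
  rwa [← mul_assoc, inv_mul_cancel₀ hc, one_mul] at this

/-- The involution trick, for involutions not conjugate in `L`. -/
theorem ratG_of_involutions''' [Finite F] {L : Subgroup (GL ι F)} {j k : GL ι F} {dj dk : ℕ}
    (hn : 2 * (dj + dk) < Fintype.card ι ∨ Odd (Fintype.card ι) ∨
      (2 * (dj + dk) ≤ Fintype.card ι ∧ (2 : F) ≠ 0 ∧ ∃ x y : ι → F₀, x ≠ 0 ∧ y ≠ 0 ∧
        (j : Matrix ι ι F) *ᵥ rv F₀ x = -rv F₀ x ∧ (k : Matrix ι ι F) *ᵥ rv F₀ y = -rv F₀ y) ∨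
      ((2 : F) ≠ 0 ∧ ∀ w ∈ L, w * w = 1 → 2 * Module.finrank F (fixedSp w) ≠ Fintype.card ι) ∨
      ((2 : F) = 0 ∧ Nonempty ι))
    (hjL : j ∈ L) (hkL : k ∈ L)
    (hj : RatInvol F₀ j dj) (hk : RatInvol F₀ k dk) (hne : ∀ C ∈ L, k ≠ C * j * C⁻¹)
    (hfail : ∀ g ∈ L, ∀ a ∈ L, ∀ b ∈ L, RatInvol F₀ a (dj + dk) → RatInvol F₀ b (dj + dk) →
      g * a = b * g →
      (Fintype.card ι < Module.finrank F (fixedSp a) + (dj + dk) ∨
        ∀ v, (a : Matrix ι ι F) *ᵥ v = v →
          (j : Matrix ι ι F) *ᵥ ((g : Matrix ι ι F) *ᵥ v) = (g : Matrix ι ι F) *ᵥ v) ∨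
      (∃ d, (d = dj ∨ d = dk) ∧ RatInvol F₀ a d) → RatG F₀ g)
    {h : GL ι F} (hh : h ∈ L) : RatG F₀ h := by
  have hcomm : ∀ (i w : GL ι F) (d : ℕ), RatInvol F₀ i d → d ≤ dj + dk → (d = dj ∨ d = dk) →
      i ∈ L → w ∈ L → w * i = i * w → RatG F₀ w := by
    intro i w d hi hd hde hiL hw hwi
    have hi' : RatInvol F₀ i (dj + dk) := ⟨hi.1, hi.2.1, hi.2.2.1, hi.2.2.2.trans (by omega)⟩
    exact hfail w hw i hiL i hiL hi' hi' hwi (Or.inr ⟨d, hde, hi⟩)
  set k' := h * k * h⁻¹ with hk'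
  have hj2 := hj.2.1
  have hk'2 : k' * k' = 1 := by
    rw [hk', show h * k * h⁻¹ * (h * k * h⁻¹) = h * (k * k) * h⁻¹ by group, hk.2.1, mul_one,
      mul_inv_cancel]
  have hji : j⁻¹ = j := inv_eq_of_mul_eq_one_right hj2
  have hki : k'⁻¹ = k' := inv_eq_of_mul_eq_one_right hk'2
  set g := j * k' with hg
  have hgi : g⁻¹ = k' * j := by rw [hg, mul_inv_rev, hji, hki]
  have hjg : SemiconjBy j g g⁻¹ := by
    show j * g = g⁻¹ * j
    rw [hgi, hg, ← mul_assoc, hj2, one_mul, mul_assoc, hj2, mul_one]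
  have hkg : SemiconjBy k' g g⁻¹ := by
    show k' * g = g⁻¹ * k'
    rw [hgi, hg]
    exact (mul_assoc k' j k').symm
  have hjg' : SemiconjBy j g⁻¹ g := by simpa using hjg.inv_right
  have hgo := pow_orderOf_eq_one g
  rcases Nat.even_or_odd' (orderOf g) with ⟨t, ht | ht⟩
  rotate_left
  · exfalso
    apply hne (h⁻¹ * g ^ t) (L.mul_mem (L.inv_mem hh)
      (L.pow_mem (L.mul_mem hjL (L.mul_mem (L.mul_mem hh hkL) (L.inv_mem hh))) t))
    have e1 : g ^ t * j = j * (g⁻¹) ^ t := (hjg'.pow_right t).eq.symm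
    have e2 : g ^ t * j * (g ^ t)⁻¹ = k' := by
      have e3 : j * (g ^ t)⁻¹ = g ^ t * j := by rw [e1, inv_pow]
      rw [mul_assoc, e3, ← mul_assoc, ← pow_add]
      have : g ^ (t + t) = g⁻¹ := by
        rw [← two_mul, eq_inv_iff_mul_eq_one, ← pow_succ, ← ht, hgo]
      rw [this, hgi, mul_assoc, hj2, mul_one]
    rw [show h⁻¹ * g ^ t * j * (h⁻¹ * g ^ t)⁻¹ = h⁻¹ * (g ^ t * j * (g ^ t)⁻¹) * h by group, e2,
      hk']
    group
  set w := g ^ t with hw
  have hpos : 0 < orderOf g := orderOf_pos g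
  have hw1 : w ≠ 1 := fun e => by
    have := orderOf_le_of_pow_eq_one (n := t) (by omega) e
    omega
  have hw2 : w * w = 1 := by rw [hw, ← pow_add, ← two_mul, ← ht, hgo]
  have hwi : (g⁻¹) ^ t = w := by rw [inv_pow]; exact inv_eq_of_mul_eq_one_right hw2
  have hwj : w * j = j * w := by
    have := (hjg.pow_right t).eq
    rw [hwi] at this
    exact this.symm
  have hwk : w * k' = k' * w := by
    have := (hkg.pow_right t).eq
    rw [hwi] at this
    exact this.symm
  have hwL : w ∈ L := L.pow_mem (L.mul_mem hjL (L.mul_mem (L.mul_mem hh hkL) (L.inv_mem hh))) t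
  set w' := h⁻¹ * w * h with hw'
  have hw'L : w' ∈ L := L.mul_mem (L.mul_mem (L.inv_mem hh) hwL) hh
  have hw'k : w' * k = k * w' := by
    rw [hw', show h⁻¹ * w * h * k = h⁻¹ * (w * (h * k * h⁻¹)) * h by group, ← hk', hwk, hk']
    group
  have hw'2 : w' * w' = 1 := by
    rw [hw', show h⁻¹ * w * h * (h⁻¹ * w * h) = h⁻¹ * (w * w) * h by group, hw2, mul_one,
      inv_mul_cancel]
  have hw'1 : w' ≠ 1 := fun e => hw1 (by
    rw [show w = h * w' * h⁻¹ by rw [hw']; group, e, mul_one, mul_inv_cancel])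
  have hwR := hcomm j w dj hj (by omega) (Or.inl rfl) hjL hwL hwj
  have hw'R := hcomm k w' dk hk (by omega) (Or.inr rfl) hkL hw'L hw'k
  let Ti := Matrix.toLin' ((h⁻¹ : GL ι F) : Matrix ι ι F)
  let K : Submodule F (ι → F) := fixedSp j ⊓ (fixedSp k).comap Ti
  have hfix : ∀ v ∈ K, (w : Matrix ι ι F) *ᵥ v = v := by
    intro v hv
    obtain ⟨h1, h2⟩ := Submodule.mem_inf.mp hv
    rw [mem_fixedSp] at h1
    rw [Submodule.mem_comap, mem_fixedSp] at h2
    have hgv : (g : Matrix ι ι F) *ᵥ v = v := by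
      rw [hg, hk', Units.val_mul, Units.val_mul, Units.val_mul]
      simp only [← Matrix.mulVec_mulVec]
      simp only [Ti, Matrix.toLin'_apply] at h2
      rw [h2, Matrix.mulVec_mulVec v (h : Matrix ι ι F), ← Units.val_mul, mul_inv_cancel,
        Units.val_one, Matrix.one_mulVec, h1]
    rw [hw]
    clear_value g
    clear hw hw1 hw2 hwi hwj hwk hwL hw' hw'L hw'k hw'2 hw'1 hwR hw'R ht w'
    induction t with
    | zero => rw [pow_zero, Units.val_one, Matrix.one_mulVec]
    | succ t ih => rw [pow_succ, Units.val_mul, ← Matrix.mulVec_mulVec, hgv, ih]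
  let T : (ι → F) ≃ₗ[F] (ι → F) := LinearEquiv.ofLinear (Matrix.toLin' (h : Matrix ι ι F)) Ti
    (by rw [← Matrix.toLin'_mul, ← Units.val_mul, mul_inv_cancel, Units.val_one,
      Matrix.toLin'_one])
    (by rw [← Matrix.toLin'_mul, ← Units.val_mul, inv_mul_cancel, Units.val_one,
      Matrix.toLin'_one])
  have hKd : Fintype.card ι ≤ Module.finrank F K + (dj + dk) := by
    have h1 := Submodule.finrank_sup_add_finrank_inf_eq (fixedSp j) ((fixedSp k).comap Ti)
    have h2 := Submodule.finrank_le (fixedSp j ⊔ (fixedSp k).comap Ti)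
    have h3 : Module.finrank F ((fixedSp k).comap Ti) = Module.finrank F (fixedSp k) := by
      rw [show (fixedSp k).comap Ti = (fixedSp k).map T.toLinearMap from
        (Submodule.map_equiv_eq_comap_symm T _).symm, LinearEquiv.finrank_map_eq]
    have h4 := hj.2.2.2
    have h5 := hk.2.2.2
    rw [Module.finrank_fintype_fun_eq_card] at h2
    change _ ≤ Module.finrank F (fixedSp j ⊓ (fixedSp k).comap Ti : Submodule F (ι → F)) + _
    omega
  have hwK : Fintype.card ι ≤ Module.finrank F (fixedSp w) + (dj + dk) := by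
    have := Submodule.finrank_mono (show K ≤ fixedSp w from fun v hv => (mem_fixedSp w v).mpr (hfix v hv))
    omega
  have hw'K : Fintype.card ι ≤ Module.finrank F (fixedSp w') + (dj + dk) := by
    have hle : K.map T.symm.toLinearMap ≤ fixedSp w' := by
      rintro _ ⟨v, hv, rfl⟩
      show Ti v ∈ fixedSp w'
      rw [mem_fixedSp, hw', Units.val_mul, Units.val_mul]
      simp only [Ti, Matrix.toLin'_apply, ← Matrix.mulVec_mulVec]
      rw [Matrix.mulVec_mulVec v (h : Matrix ι ι F), ← Units.val_mul, mul_inv_cancel,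
        Units.val_one, Matrix.one_mulVec, hfix v hv]
    have := Submodule.finrank_mono hle
    rw [LinearEquiv.finrank_map_eq] at this
    omega
  have hle : K.map T.symm.toLinearMap ≤ fixedSp w' := by
    rintro _ ⟨v, hv, rfl⟩
    show Ti v ∈ fixedSp w'
    rw [mem_fixedSp, hw', Units.val_mul, Units.val_mul]
    simp only [Ti, Matrix.toLin'_apply, ← Matrix.mulVec_mulVec]
    rw [Matrix.mulVec_mulVec v (h : Matrix ι ι F), ← Units.val_mul, mul_inv_cancel,
      Units.val_one, Matrix.one_mulVec, hfix v hv]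
  have hKw : K ≤ fixedSp w := fun v hv => (mem_fixedSp w v).mpr (hfix v hv)
  -- a negated vector of a commuting involution is negated
  have neg : ∀ (i u : GL ι F), u * u = 1 → u * i = i * u → (2 : F) ≠ 0 →
      (∀ v, (u : Matrix ι ι F) *ᵥ v = v → (i : Matrix ι ι F) *ᵥ v = v) → ∀ v,
      (i : Matrix ι ι F) *ᵥ v = -v → (u : Matrix ι ι F) *ᵥ v = -v := by
    intro i u hu hui h2 hfi v hv
    have e1 : (u : Matrix ι ι F) *ᵥ (v + (u : Matrix ι ι F) *ᵥ v) = v + (u : Matrix ι ι F) *ᵥ v := by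
      rw [Matrix.mulVec_add, Matrix.mulVec_mulVec, ← Units.val_mul, hu, Units.val_one,
        Matrix.one_mulVec, add_comm]
    have e2 := hfi _ e1
    rw [Matrix.mulVec_add, hv, Matrix.mulVec_mulVec, ← Units.val_mul, ← hui, Units.val_mul,
      ← Matrix.mulVec_mulVec, hv, Matrix.mulVec_neg] at e2
    have e3 : (2 : F) • (v + (u : Matrix ι ι F) *ᵥ v) = 0 := by
      linear_combination (norm := module) -e2
    exact eq_neg_of_add_eq_zero_right ((smul_eq_zero.mp e3).resolve_left h2)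
  have hwE : ∀ a b, (w : Matrix ι ι F) a b ∈ F₀ := by
    rcases hn with hn | hn | ⟨hn, h2, x, y, hx, hy, hjx, hky⟩ | ⟨h2, hne'⟩ | ⟨h20, hι⟩
    · exact entries_of_ratG hn hw2 hwR hwK
    · exact entries_of_ratG_odd hn hw2 hwR
    rotate_right
    · exact entries_of_ratG_two h20 hw2 hwR
    rotate_left
    · exact entries_of_ratG_ne h2 hw2 hwR (hne' w hwL hw2)
    by_cases hlt : Fintype.card ι < Module.finrank F (fixedSp w) + (dj + dk)
    · have hc : 0 < Fintype.card ι := Fintype.card_pos_iff.mpr ⟨(Function.ne_iff.mp hx).choose⟩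
      exact entries_of_ratG (d := dj + dk - 1) (by omega) hw2 hwR (by omega)
    have heq := Submodule.eq_of_le_of_finrank_le hKw (by omega)
    refine entries_of_ratG_neg hwR hx (neg j w hw2 hwj h2 (fun v hv => ?_) _ hjx)
    have hv' : v ∈ K := heq ▸ (mem_fixedSp w v).mpr hv
    exact (mem_fixedSp j v).mp (Submodule.mem_inf.mp hv').1
  have hw'E : ∀ a b, (w' : Matrix ι ι F) a b ∈ F₀ := by
    rcases hn with hn | hn | ⟨hn, h2, x, y, hx, hy, hjx, hky⟩ | ⟨h2, hne'⟩ | ⟨h20, hι⟩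
    · exact entries_of_ratG hn hw'2 hw'R hw'K
    · exact entries_of_ratG_odd hn hw'2 hw'R
    rotate_right
    · exact entries_of_ratG_two h20 hw'2 hw'R
    rotate_left
    · exact entries_of_ratG_ne h2 hw'2 hw'R (hne' w' hw'L hw'2)
    by_cases hlt : Fintype.card ι < Module.finrank F (fixedSp w') + (dj + dk)
    · have hc : 0 < Fintype.card ι := Fintype.card_pos_iff.mpr ⟨(Function.ne_iff.mp hx).choose⟩
      exact entries_of_ratG (d := dj + dk - 1) (by omega) hw'2 hw'R (by omega)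
    have heq := Submodule.eq_of_le_of_finrank_le hle (by
      rw [LinearEquiv.finrank_map_eq]
      omega)
    refine entries_of_ratG_neg hw'R hy (neg k w' hw'2 hw'k h2 (fun v hv => ?_) _ hky)
    obtain ⟨u, hu, rfl⟩ : v ∈ K.map T.symm.toLinearMap := heq ▸ (mem_fixedSp w' v).mpr hv
    have h3 := (Submodule.mem_inf.mp hu).2
    rw [Submodule.mem_comap, mem_fixedSp] at h3
    exact h3
  refine hfail h hh w' hw'L w hwL ⟨hw'E, hw'2, hw'1, hw'K⟩ ⟨hwE, hw2, hw1, hwK⟩
    (by rw [hw']; group) (Or.inl ?_)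
  by_cases hlt : Fintype.card ι < Module.finrank F (fixedSp w') + (dj + dk)
  · exact Or.inl hlt
  right
  have heq := Submodule.eq_of_le_of_finrank_le hle (by
    rw [LinearEquiv.finrank_map_eq]
    omega)
  intro v hv
  obtain ⟨u, hu, rfl⟩ : v ∈ K.map T.symm.toLinearMap := heq ▸ (mem_fixedSp w' v).mpr hv
  show (j : Matrix ι ι F) *ᵥ ((h : Matrix ι ι F) *ᵥ Ti u) = (h : Matrix ι ι F) *ᵥ Ti u
  simp only [Ti, Matrix.toLin'_apply]
  rw [Matrix.mulVec_mulVec u (h : Matrix ι ι F), ← Units.val_mul, mul_inv_cancel, Units.val_one,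
    Matrix.one_mulVec]
  exact (mem_fixedSp j u).mp (Submodule.mem_inf.mp hu).1

/-- The involution trick with intertwined involutions, forgetting the fixed spaces. -/
theorem ratG_of_involutions'' [Finite F] {L : Subgroup (GL ι F)} {j k : GL ι F} {dj dk : ℕ}
    (hn : 2 * (dj + dk) < Fintype.card ι ∨ Odd (Fintype.card ι)) (hjL : j ∈ L) (hkL : k ∈ L)
    (hj : RatInvol F₀ j dj) (hk : RatInvol F₀ k dk) (hne : ∀ C ∈ L, k ≠ C * j * C⁻¹)
    (hfail : ∀ g ∈ L, ∀ a ∈ L, ∀ b ∈ L, RatInvol F₀ a (dj + dk) → RatInvol F₀ b (dj + dk) →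
      g * a = b * g → RatG F₀ g)
    {h : GL ι F} (hh : h ∈ L) : RatG F₀ h :=
  ratG_of_involutions''' (hn.imp id Or.inl) hjL hkL hj hk hne
    (fun g hg a ha b hb h1 h2 h3 _ => hfail g hg a ha b hb h1 h2 h3) hh

/-- The involution trick, with intertwined involutions as the failing hypothesis. -/
theorem ratG_of_involutions' [Finite F] {L : Subgroup (GL ι F)} {j k : GL ι F} {dj dk : ℕ}
    (hn : 2 * (dj + dk) < Fintype.card ι) (hjL : j ∈ L) (hkL : k ∈ L)
    (hj : RatInvol F₀ j dj) (hk : RatInvol F₀ k dk) (hne : ∀ C : GL ι F, k ≠ C * j * C⁻¹)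
    (hfail : ∀ g ∈ L, ∀ a ∈ L, ∀ b ∈ L, RatInvol F₀ a (dj + dk) → RatInvol F₀ b (dj + dk) →
      g * a = b * g → RatG F₀ g)
    {h : GL ι F} (hh : h ∈ L) : RatG F₀ h :=
  ratG_of_involutions'' (Or.inl hn) hjL hkL hj hk (fun C _ => hne C) hfail hh

/-- The involution trick. -/
theorem ratG_of_involutions [Finite F] {L : Subgroup (GL ι F)} {j k : GL ι F} {dj dk : ℕ}
    (hn : 2 * (dj + dk) < Fintype.card ι) (hjL : j ∈ L) (hkL : k ∈ L)
    (hj : RatInvol F₀ j dj) (hk : RatInvol F₀ k dk) (hne : ∀ C : GL ι F, k ≠ C * j * C⁻¹)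
    (hfail : ∀ g ∈ L, ∀ c ψ : ι → F₀, c ≠ 0 → ψ ≠ 0 →
      rv F₀ ψ ⬝ᵥ ((g : Matrix ι ι F) *ᵥ rv F₀ c) = 0 → RatG F₀ g)
    {h : GL ι F} (hh : h ∈ L) : RatG F₀ h := by
  refine ratG_of_involutions' hn hjL hkL hj hk hne (fun g hg a _ b _ ha hb hgab => ?_) hh
  obtain ⟨c, hc, v, hv⟩ := exists_rat_moved ha.1 ha.2.2.1
  obtain ⟨ψ, hψ, hψ'⟩ := exists_rat_cokernel hb.1 (fun e => by
    have := hb.2.2.2
    rw [e, finrank_bot] at this
    omega)
  refine hfail g hg c ψ hc hψ ?_
  rw [hv, Matrix.mulVec_sub, Matrix.mulVec_mulVec, ← Units.val_mul, hgab, Units.val_mul,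
    ← Matrix.mulVec_mulVec]
  exact hψ' _

end Cfsg.Lib.Linear.Rat0
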