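import Cfsg.Agent.Lib.Linear.OrthSplit
import Cfsg.Agent.Lib.Linear.SubfieldInvol

/-!
# Rational root elements inside subgroups of `Ω`

A quadratic form over `F` taking values in a subfield `F₀` on rational vectors.  A subgroup `H`
containing the rational part of `Ω` either contains an irrational rational-centred root element
(and then, for prime index, all of `Ω`), or its root elements with a rational fixed vector are
rational.
-/

set_option autoImplicit false

namespace Cfsg.Lib.Linear.OrthSub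

open Module
open scoped Matrix
open Cfsg.Lib.Linear.Orth Cfsg.Lib.Linear.Rat0

variable {ι : Type} [Fintype ι] [DecidableEq ι] {F : Type*} [Field F] {F₀ : Subfield F}

/-- The standing hypotheses. -/
structure RatCtx (Q : (ι → F) → F) (B : LinearMap.BilinForm F (ι → F)) (Q₀ : (ι → F₀) → F₀)
    (B₀ : LinearMap.BilinForm F₀ (ι → F₀)) (H : Subgroup (GL ι F)) : Prop where
  space : Space Q B
  space₀ : Space Q₀ B₀
  compat : ∀ x, Q (rv F₀ x) = (Q₀ x : F)
  card : 10 ≤ Fintype.card ι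
  le : H ≤ Cfsg.Geo.omegaGL Q
  rat : ∀ g ∈ Cfsg.Geo.omegaGL Q, RatG F₀ g → g ∈ H

theorem rv_zero' : rv F₀ (0 : ι → F₀) = 0 := rfl

theorem rv_sub' (x y : ι → F₀) : rv F₀ (x - y) = rv F₀ x - rv F₀ y := rfl

theorem rv_single_mem (i : ι) : rv F₀ (Pi.single i (1 : F₀)) = (Pi.single i 1 : ι → F) :=
  rv_single F₀ i

/-- A vector with entries in the subfield. -/
def Ratv (F₀ : Subfield F) (z : ι → F) : Prop := ∃ z0 : ι → F₀, z = rv F₀ z0

theorem Ratv.add {a b : ι → F} (ha : Ratv F₀ a) (hb : Ratv F₀ b) : Ratv F₀ (a + b) := by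
  obtain ⟨x, rfl⟩ := ha
  obtain ⟨y, rfl⟩ := hb
  exact ⟨x + y, (rv_add F₀ x y).symm⟩

theorem Ratv.sub {a b : ι → F} (ha : Ratv F₀ a) (hb : Ratv F₀ b) : Ratv F₀ (a - b) := by
  obtain ⟨x, rfl⟩ := ha
  obtain ⟨y, rfl⟩ := hb
  exact ⟨x - y, (rv_sub' x y).symm⟩

theorem Ratv.smul {a : ι → F} (ha : Ratv F₀ a) {c : F} (hc : c ∈ F₀) : Ratv F₀ (c • a) := by
  obtain ⟨x, rfl⟩ := ha
  exact ⟨(⟨c, hc⟩ : F₀) • x, rfl⟩

theorem ratv_zero : Ratv F₀ (0 : ι → F) := ⟨0, rfl⟩

theorem ratv_rv (x : ι → F₀) : Ratv F₀ (rv F₀ x) := ⟨x, rfl⟩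

/-- A covector separating a vector from the span of another. -/
theorem exists_dot_one {x y : ι → F₀} (h : x ∉ Submodule.span F₀ {y}) :
    ∃ ψ : ι → F₀, ψ ⬝ᵥ x = 1 ∧ ψ ⬝ᵥ y = 0 := by
  obtain ⟨φ, hφx, hφ⟩ := Submodule.exists_dual_map_eq_bot_of_notMem h inferInstance
  refine ⟨(φ x)⁻¹ • fun i => φ (Pi.single i 1), ?_, ?_⟩ <;> rw [smul_dotProduct, smul_eq_mul]
  · have : (fun i => φ (Pi.single i 1)) ⬝ᵥ x = φ x := by
      conv_rhs => rw [pi_eq_sum_univ' x]
      simp [dotProduct, mul_comm]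
    rw [this, inv_mul_cancel₀ hφx]
  · have h1 : (fun i => φ (Pi.single i 1)) ⬝ᵥ y = φ y := by
      conv_rhs => rw [pi_eq_sum_univ' y]
      simp [dotProduct, mul_comm]
    have h2 : φ y ∈ (Submodule.span F₀ {y}).map φ :=
      ⟨y, Submodule.mem_span_singleton_self y, rfl⟩
    rw [hφ, Submodule.mem_bot] at h2
    rw [h1, h2, mul_zero]

/-- The coefficient of an independent rational vector in a rational vector is rational. -/
theorem coeff_mem {x y : ι → F₀} (h : x ∉ Submodule.span F₀ {y}) {a b : F}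
    (hr : Ratv F₀ (a • rv F₀ x + b • rv F₀ y)) : a ∈ F₀ := by
  obtain ⟨ψ, h1, h2⟩ := exists_dot_one h
  obtain ⟨z, hz⟩ := hr
  have := congrArg (rv F₀ ψ ⬝ᵥ ·) hz
  simp only [dotProduct_add, dotProduct_smul, rv_dot, h1, h2, smul_eq_mul, OneMemClass.coe_one,
    ZeroMemClass.coe_zero, mul_one, mul_zero, add_zero] at this
  exact this ▸ (ψ ⬝ᵥ z).2

variable {Q : (ι → F) → F} {B : LinearMap.BilinForm F (ι → F)} {Q₀ : (ι → F₀) → F₀}
  {B₀ : LinearMap.BilinForm F₀ (ι → F₀)} {H : Subgroup (GL ι F)} (X : RatCtx Q B Q₀ B₀ H)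

include X

theorem RatCtx.B_rv (x y : ι → F₀) : B (rv F₀ x) (rv F₀ y) = (B₀ x y : F) := by
  rw [← X.space.polar, ← X.space₀.polar, QuadraticMap.polar, QuadraticMap.polar, ← rv_add]
  simp [X.compat]

theorem RatCtx.ratv_of_pairing {z : ι → F} (hz : ∀ e : ι → F₀, B (rv F₀ e) z ∈ F₀) :
    Ratv F₀ z := by
  let φ : Module.Dual F₀ (ι → F₀) :=
    { toFun := fun e => ⟨_, hz e⟩
      map_add' := fun a b => Subtype.ext (by simp [rv_add])
      map_smul' := fun c a => Subtype.ext (by simp [rv_smul]) }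
  have hinj : Function.Injective B₀ := by
    rw [injective_iff_map_eq_zero]
    exact fun a ha => X.space₀.nondeg' fun u => LinearMap.congr_fun ha u
  obtain ⟨w, hw⟩ := (LinearMap.injective_iff_surjective_of_finrank_eq_finrank
    (f := B₀) (Subspace.dual_finrank_eq).symm).mp hinj φ
  refine ⟨w, sub_eq_zero.mp (X.space.nondeg _ fun u => ?_)⟩
  have h1 : ∀ e : ι → F₀, B (rv F₀ e) (z - rv F₀ w) = 0 := fun e => by
    have h := congrArg Subtype.val (LinearMap.congr_fun hw e)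
    change (B₀ w e : F) = B (rv F₀ e) z at h
    rw [map_sub, X.B_rv, ← h, X.space₀.symm e w, sub_self]
  rw [pi_eq_sum_univ' u, map_sum, LinearMap.sum_apply]
  refine Finset.sum_eq_zero fun i _ => ?_
  rw [map_smul, LinearMap.smul_apply, ← rv_single_mem (F₀ := F₀), h1, smul_zero]

theorem RatCtx.sMat_mem {x a : ι → F₀} (i j : ι) :
    sMat Q B (rv F₀ x) (rv F₀ a) i j ∈ F₀ := by
  have hc : ∀ x : ι → F₀, ∀ j, cov B (rv F₀ x) j ∈ F₀ := fun x j => by
    show B (rv F₀ x) (Pi.single j 1) ∈ F₀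
    rw [← rv_single_mem (F₀ := F₀), X.B_rv]
    exact SetLike.coe_mem _
  simp only [sMat, Matrix.add_apply, Matrix.sub_apply, Matrix.vecMulVec_apply, Pi.add_apply,
    Pi.smul_apply, smul_eq_mul, Matrix.one_apply]
  refine F₀.sub_mem (F₀.add_mem ?_ (F₀.mul_mem (a i).2 (hc x j)))
    (F₀.mul_mem (x i).2 (F₀.add_mem (hc a j) (F₀.mul_mem ?_ (hc x j))))
  · split_ifs
    · exact F₀.one_mem
    · exact F₀.zero_mem
  · rw [X.compat]; exact SetLike.coe_mem _

variable [Finite F]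

theorem RatCtx.le_iso : H ≤ isometryGroup F Q :=
  X.le.trans (Subgroup.map_subtype_le _)

theorem RatCtx.five : 5 ≤ Fintype.card ι := le_trans (by norm_num) X.card

/-- Rational Siegel elements lie in `H`. -/
theorem RatCtx.sGL_rv {x a : ι → F₀} (hx : Q₀ x = 0) (hxa : B₀ x a = 0) :
    sGL Q B (rv F₀ x) (rv F₀ a) ∈ H := by
  have h1 : Q (rv F₀ x) = 0 := by rw [X.compat, hx]; rfl
  have h2 : B (rv F₀ x) (rv F₀ a) = 0 := by rw [X.B_rv, hxa]; rfl
  refine X.rat _ ?_ ⟨1, one_ne_zero, fun i j => ?_⟩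
  · rw [omegaGL_eq X.space X.five]
    exact sGL_mem_root trivial trivial h1 h2
  · rw [one_mul, sGL_val X.space h1 h2]
    exact X.sMat_mem i j

/-- An irrational root element with rational centres. -/
def CaseA (Q : (ι → F) → F) (B : LinearMap.BilinForm F (ι → F)) (Q₀ : (ι → F₀) → F₀)
    (B₀ : LinearMap.BilinForm F₀ (ι → F₀)) (H : Subgroup (GL ι F)) : Prop :=
  ∃ (x y : ι → F₀) (β : F), Q₀ x = 0 ∧ Q₀ y = 0 ∧ B₀ x y = 0 ∧ x ∉ Submodule.span F₀ {y} ∧
    y ≠ 0 ∧ β ∉ F₀ ∧ sGL Q B (rv F₀ x) (β • rv F₀ y) ∈ H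

theorem RatCtx.split_top : Split Q₀ B₀ ⊤ ⊥ :=
  ⟨X.space₀.ndeg_top, fun _ hx _ => (Submodule.mem_bot F₀).mp hx,
    fun u _ w hw => by rw [(Submodule.mem_bot F₀).mp hw, map_zero], sup_bot_eq _⟩

/-- A hyperbolic pair perpendicular to a list of at most three vectors and outside their span. -/
theorem RatCtx.exists_hyp_list (s : Finset (ι → F₀)) (hs : s.card ≤ 3) :
    ∃ e f, Hyp Q₀ B₀ (perpIn B₀ ⊤ (Submodule.span F₀ (s : Set (ι → F₀)))) e f ∧
      e ∉ Submodule.span F₀ (s : Set (ι → F₀)) ∧ f ∉ Submodule.span F₀ (s : Set (ι → F₀)) := by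
  refine exists_hyp_perpIn X.space₀ X.split_top le_top ?_
  have h := finrank_span_finset_le_card (R := F₀) s
  unfold Set.finrank at h
  have := X.card
  rw [finrank_top, finrank_fintype_fun_eq_card]
  omega

theorem RatCtx.exists_sing_list (s : Finset (ι → F₀)) (hs : s.card ≤ 3) {x : ι → F₀}
    (hx : x ∉ Submodule.span F₀ (s : Set (ι → F₀))) :
    ∃ u, Q₀ u = 0 ∧ B₀ x u = 1 ∧ ∀ a ∈ s, B₀ a u = 0 := by
  obtain ⟨u, hu, hQu, hxu⟩ := exists_sing_perpIn X.space₀ X.split_top (A := Submodule.span F₀ s)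
    le_top (by
      have h := finrank_span_finset_le_card (R := F₀) s
      unfold Set.finrank at h
      have := X.card
      rw [finrank_top, finrank_fintype_fun_eq_card]
      omega) trivial hx
  exact ⟨u, hQu, hxu, fun a ha => hu.2 a (Submodule.subset_span ha)⟩

omit [Finite F] in
/-- A hyperbolic pair splits the space. -/
theorem RatCtx.split_pair {e f : ι → F₀} (h : Hyp Q₀ B₀ ⊤ e f) :
    Split Q₀ B₀ (perp2 B₀ ⊤ e f) (Submodule.span F₀ {e, f}) := by
  have S := X.space₀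
  refine ⟨h.ndeg S S.ndeg_top, fun x hx hxy => ?_, fun u hu w hw => ?_,
    eq_top_iff.mpr fun x _ => ?_⟩
  · obtain ⟨a, b, rfl⟩ := Submodule.mem_span_pair.mp hx
    have h1 := hxy f (Submodule.subset_span (by simp))
    have h2 := hxy e (Submodule.subset_span (by simp))
    simp only [map_add, map_smul, LinearMap.add_apply, LinearMap.smul_apply, smul_eq_mul, h.pair,
      h.pair' S, S.self_zero h.singE, S.self_zero h.singF, mul_one, mul_zero, add_zero,
      zero_add] at h1 h2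
    rw [h1, h2]
    simp
  · obtain ⟨-, h1, h2⟩ := mem_perp2.mp hu
    obtain ⟨a, b, rfl⟩ := Submodule.mem_span_pair.mp hw
    simp [S.symm u e, S.symm u f, h1, h2]
  · rw [show x = (x - B₀ f x • e - B₀ e x • f) + (B₀ f x • e + B₀ e x • f) by abel]
    exact Submodule.add_mem_sup (h.proj S trivial) (Submodule.mem_span_pair.mpr ⟨_, _, rfl⟩)

/-- Without irrational root elements, root elements with a rational centre are rational. -/
theorem RatCtx.lambda (hA : ¬ CaseA Q B Q₀ B₀ H) {v : ι → F₀} (hv : Q₀ v = 0) (hv0 : v ≠ 0)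
    {a : ι → F} (hva : B (rv F₀ v) a = 0) (ha : sGL Q B (rv F₀ v) a ∈ H) :
    ∃ (c : F) (z : ι → F₀), a = rv F₀ z + c • rv F₀ v := by
  classical
  have C := X.space
  have hQv : Q (rv F₀ v) = 0 := by rw [X.compat, hv]; rfl
  -- the operator of a rational root element perpendicular to `v`
  have step : ∀ (s t : ι → F₀), Q₀ s = 0 → Q₀ t = 0 → B₀ s t = 0 → B₀ v s = 0 → B₀ v t = 0 →
      ∀ a, B (rv F₀ v) a = 0 → sGL Q B (rv F₀ v) a ∈ H →
      B (rv F₀ v) (B (rv F₀ s) a • rv F₀ t - B (rv F₀ t) a • rv F₀ s) = 0 ∧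
        sGL Q B (rv F₀ v) (B (rv F₀ s) a • rv F₀ t - B (rv F₀ t) a • rv F₀ s) ∈ H := by
    intro s t hs ht hst hvs hvt a hva ha
    have hQs : Q (rv F₀ s) = 0 := by rw [X.compat, hs]; rfl
    have hQt : Q (rv F₀ t) = 0 := by rw [X.compat, ht]; rfl
    have hst' : B (rv F₀ s) (rv F₀ t) = 0 := by rw [X.B_rv, hst]; rfl
    have h0 : B (rv F₀ v) (B (rv F₀ s) a • rv F₀ t - B (rv F₀ t) a • rv F₀ s) = 0 := by
      simp [X.B_rv, hvs, hvt]
    have hg := X.sGL_rv hs hst
    refine ⟨h0, ?_⟩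
    have hconj := mul_mem (mul_mem hg ha) (inv_mem hg)
    rw [sGL_conj C hQv hva (X.le_iso hg), sGL_act C hQs hst', sGL_act C hQs hst', hQt] at hconj
    have e1 : B (rv F₀ s) (rv F₀ v) = 0 := by rw [X.B_rv, X.space₀.symm, hvs]; rfl
    have e2 : B (rv F₀ t) (rv F₀ v) = 0 := by rw [X.B_rv, X.space₀.symm, hvt]; rfl
    simp only [e1, e2, zero_mul, zero_smul, add_zero, sub_zero] at hconj
    rw [show a + B (rv F₀ s) a • rv F₀ t - B (rv F₀ t) a • rv F₀ s
        = a + (B (rv F₀ s) a • rv F₀ t - B (rv F₀ t) a • rv F₀ s) by abel,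
      ← sGL_mul C hQv hva h0] at hconj
    exact (H.mul_mem_cancel_left ha).mp hconj
  have key : ∀ s : ι → F₀, Q₀ s = 0 → B₀ v s = 0 → B (rv F₀ s) a ∈ F₀ := by
    intro s hs hvs
    by_contra hβ
    obtain ⟨t, s₂, hH1, -⟩ := X.exists_hyp_list {v, s} (Finset.card_le_two.trans (by norm_num))
    have hin : ∀ {e : ι → F₀} {S : Finset (ι → F₀)}, e ∈ perpIn B₀ ⊤ (Submodule.span F₀ ↑S) →
        ∀ b ∈ S, B₀ b e = 0 := fun {e S} h b hb => h.2 b (Submodule.subset_span hb)
    have hH1' : Hyp Q₀ B₀ ⊤ t s₂ := ⟨trivial, trivial, hH1.singE, hH1.singF, hH1.pair⟩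
    have hle : Submodule.span F₀ (({v, s} : Finset (ι → F₀)) : Set (ι → F₀)) ≤
        perp2 B₀ ⊤ t s₂ := Submodule.span_le.mpr fun b hb => mem_perp2.mpr ⟨trivial,
          by rw [X.space₀.symm]; exact hin hH1.memE b hb,
          by rw [X.space₀.symm]; exact hin hH1.memF b hb⟩
    obtain ⟨t₂, t₃, hH2, ht₂, -⟩ := exists_hyp_perpIn X.space₀ (X.split_pair hH1') hle (by
      have h1 := hH1'.le_finrank X.space₀
      have h2 := finrank_span_finset_le_card (R := F₀) ({v, s} : Finset (ι → F₀))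
      have h3 := Finset.card_le_two (a := v) (b := s)
      have := X.card
      unfold Set.finrank at h2
      rw [finrank_top, finrank_fintype_fun_eq_card] at h1
      omega)
    have ht₂in : ∀ b ∈ ({v, s} : Finset (ι → F₀)), B₀ b t₂ = 0 := fun b hb =>
      hH2.memE.2 b (Submodule.subset_span hb)
    obtain ⟨-, ht₂t, ht₂s⟩ := mem_perp2.mp hH2.memE.1
    have h1 := step s t hs hH1.singE (hin hH1.memE s (by simp)) hvs (hin hH1.memE v (by simp))
      a hva ha
    have h2 := step s₂ t₂ hH1.singF hH2.singE ht₂s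
      (hin hH1.memF v (by simp)) (ht₂in v (by simp)) _ h1.1 h1.2
    have e1 : B (rv F₀ s₂) (rv F₀ t) = 1 := by
      rw [X.B_rv, X.space₀.symm, hH1.pair]; rfl
    have e2 : B (rv F₀ s₂) (rv F₀ s) = 0 := by
      rw [X.B_rv, X.space₀.symm, hin hH1.memF s (by simp)]; rfl
    have e3 : B (rv F₀ t₂) (rv F₀ t) = 0 := by
      rw [X.B_rv, X.space₀.symm, ht₂t]; rfl
    have e4 : B (rv F₀ t₂) (rv F₀ s) = 0 := by
      rw [X.B_rv, X.space₀.symm, ht₂in s (by simp)]; rfl
    simp only [map_sub, map_smul, smul_eq_mul, e1, e2, e3, e4, mul_one, mul_zero, sub_zero,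
      zero_smul] at h2
    refine hA ⟨v, t₂, _, hv, hH2.singE, ht₂in v (by simp), fun h => ?_, fun h => ?_, hβ,
      h2.2⟩
    · obtain ⟨c, hc⟩ := Submodule.mem_span_singleton.mp h
      have hc0 : c ≠ 0 := fun h0 => hv0 (by rw [← hc, h0, zero_smul])
      refine ht₂ ((Submodule.smul_mem_iff _ hc0).mp ?_)
      rw [hc]
      exact Submodule.subset_span (by simp)
    · exact ht₂ (by rw [h]; exact Submodule.zero_mem _)
  obtain ⟨f, hf⟩ := exists_hyp X.space₀ X.space₀.ndeg_top (e := v) trivial hv0 hv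
  obtain ⟨e, e', hH, -⟩ := X.exists_hyp_list {v} (by simp)
  have key' : ∀ x, B₀ v x = 0 → B (rv F₀ x) a ∈ F₀ := fun x hx => by
    have hxP : x ∈ perpIn B₀ ⊤ (Submodule.span F₀ (({v} : Finset (ι → F₀)) : Set (ι → F₀))) :=
      ⟨trivial, fun b hb => by
        rw [Finset.coe_singleton] at hb
        obtain ⟨c, rfl⟩ := Submodule.mem_span_singleton.mp hb
        rw [map_smul, LinearMap.smul_apply, hx, smul_zero]⟩
    have hsp := hH.span X.space₀ hxP
    clear hx hxP
    induction hsp using Submodule.span_induction with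
    | mem w hw => exact key w hw.2 (hw.1.2 v (Submodule.subset_span (by simp)))
    | zero => rw [rv_zero']; simp
    | add p q _ _ hp hq =>
      rw [rv_add, map_add, LinearMap.add_apply]; exact F₀.add_mem hp hq
    | smul c p _ hp =>
      rw [rv_smul, map_smul, LinearMap.smul_apply, smul_eq_mul]; exact F₀.mul_mem c.2 hp
  obtain ⟨z, hz⟩ := X.ratv_of_pairing (z := a - B (rv F₀ f) a • rv F₀ v) fun x => by
    have h := key' (x - B₀ v x • f) (by rw [map_sub, map_smul, hf.pair]; simp)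
    rw [rv_sub', rv_smul, map_sub, LinearMap.sub_apply, map_smul, LinearMap.smul_apply,
      smul_eq_mul] at h
    rw [map_sub, map_smul, X.B_rv x v, X.space₀.symm x v, smul_eq_mul]
    convert h using 1
    ring
  exact ⟨B (rv F₀ f) a, z, by rw [← hz]; abel⟩

/-- The nilpotent part of the root element of `(x, y)`. -/
def nPart (B : LinearMap.BilinForm F (ι → F)) (x y z : ι → F) : ι → F :=
  B x z • y - B y z • x

omit X [Finite F] in
theorem root_act_nPart (C : Space Q B) {x y : ι → F} (hx : Q x = 0) (hy : Q y = 0)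
    (hxy : B x y = 0) (z : ι → F) : (sGL Q B x y).val *ᵥ z = z + nPart B x y z := by
  rw [sGL_act C hx hxy, hy, zero_mul, add_zero, nPart]
  abel

/-- A root element fixing a rational singular vector is rational. -/
theorem RatCtx.rat_of_fix (hA : ¬ CaseA Q B Q₀ B₀ H) {x y : ι → F} (hx : Q x = 0) (hy : Q y = 0)
    (hxy : B x y = 0) (hS : sGL Q B x y ∈ H) {v : ι → F₀} (hv : Q₀ v = 0) (hv0 : v ≠ 0)
    (hxv : B x (rv F₀ v) = 0) (hyv : B y (rv F₀ v) = 0) (z : ι → F₀) :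
    Ratv F₀ (nPart B x y (rv F₀ z)) := by
  classical
  have C := X.space
  have hQv : Q (rv F₀ v) = 0 := by rw [X.compat, hv]; rfl
  have hNv : nPart B x y (rv F₀ v) = 0 := by simp [nPart, hxv, hyv]
  have gv : (sGL Q B x y).val *ᵥ rv F₀ v = rv F₀ v := by
    rw [root_act_nPart C hx hy hxy, hNv, add_zero]
  have hN : ∀ u : ι → F₀, B₀ v u = 0 → ∃ (c : F) (r : ι → F₀),
      nPart B x y (rv F₀ u) = rv F₀ r + c • rv F₀ v := by
    intro u hu
    have hvu : B (rv F₀ v) (rv F₀ u) = 0 := by rw [X.B_rv, hu]; rfl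
    have h := mul_mem (mul_mem hS (X.sGL_rv hv hu)) (inv_mem hS)
    rw [sGL_conj C hQv hvu (X.le_iso hS), gv, root_act_nPart C hx hy hxy] at h
    have hn : B (rv F₀ v) (nPart B x y (rv F₀ u)) = 0 := by
      simp [nPart, C.symm (rv F₀ v) x, C.symm (rv F₀ v) y, hxv, hyv]
    rw [← sGL_mul C hQv hvu hn] at h
    exact X.lambda hA hv hv0 hn ((H.mul_mem_cancel_left (X.sGL_rv hv hu)).mp h)
  obtain ⟨f, hf⟩ := exists_hyp X.space₀ X.space₀.ndeg_top (e := v) trivial hv0 hv
  by_cases hall : ∀ a b : ι → F₀, B₀ v a = 0 → B₀ v b = 0 →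
      B (nPart B x y (rv F₀ a)) (rv F₀ b) = 0
  · -- the image of `v⊥` lies on the line of `v`
    have hline : ∀ a, B₀ v a = 0 → ∃ c : F, nPart B x y (rv F₀ a) = c • rv F₀ v := by
      intro a ha
      refine ⟨B (nPart B x y (rv F₀ a)) (rv F₀ f), sub_eq_zero.mp (C.nondeg' fun u => ?_)⟩
      have h1 : ∀ e : ι → F₀, B (nPart B x y (rv F₀ a) -
          B (nPart B x y (rv F₀ a)) (rv F₀ f) • rv F₀ v) (rv F₀ e) = 0 := fun e => by
        have h := hall a (e - B₀ v e • f) ha (by rw [map_sub, map_smul, hf.pair]; simp)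
        rw [rv_sub', rv_smul, map_sub, map_smul, smul_eq_mul] at h
        rw [map_sub, LinearMap.sub_apply, map_smul, LinearMap.smul_apply, smul_eq_mul, X.B_rv v e]
        linear_combination h
      rw [pi_eq_sum_univ' u, map_sum]
      refine Finset.sum_eq_zero fun i _ => ?_
      rw [map_smul, ← rv_single_mem (F₀ := F₀), h1, smul_zero]
    have hskew : ∀ p q : ι → F, B (nPart B x y p) q = -B p (nPart B x y q) := fun p q => by
      simp [nPart, C.symm p x, C.symm p y]; ring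
    by_cases hzero : ∀ a, B₀ v a = 0 → nPart B x y (rv F₀ a) = 0
    · have hf0 : nPart B x y (rv F₀ f) = 0 := C.nondeg' fun u => by
        rw [pi_eq_sum_univ' u, map_sum]
        refine Finset.sum_eq_zero fun i _ => ?_
        rw [map_smul, ← rv_single_mem (F₀ := F₀) i]
        set e : ι → F₀ := Pi.single i 1
        rw [show e = (e - B₀ v e • f) + B₀ v e • f by abel, rv_add, rv_smul, map_add, map_smul,
          hskew _ (rv F₀ (e - B₀ v e • f)),
          hzero _ (by rw [map_sub, map_smul, hf.pair]; simp),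
          show B (nPart B x y (rv F₀ f)) (rv F₀ f) = 0 by
            simp [nPart, C.symm y (rv F₀ f), C.symm x (rv F₀ f)]; ring]
        simp
      have hall0 : nPart B x y (rv F₀ z) = 0 := by
        have := hzero (z - B₀ v z • f) (by rw [map_sub, map_smul, hf.pair]; simp)
        rw [rv_sub', rv_smul] at this
        have hlin : nPart B x y (rv F₀ z) = nPart B x y (rv F₀ z - (B₀ v z : F) • rv F₀ f) +
            (B₀ v z : F) • nPart B x y (rv F₀ f) := by
          simp only [nPart, map_sub, map_smul, smul_eq_mul]; module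
        rw [hlin, this, hf0, smul_zero, add_zero]
      rw [hall0]
      exact ratv_zero
    push Not at hzero
    obtain ⟨a, ha, hne⟩ := hzero
    obtain ⟨c, hc⟩ := hline a ha
    have hc0 : c ≠ 0 := fun h => hne (by rw [hc, h, zero_smul])
    obtain ⟨w, d, hw, hwd⟩ : ∃ (w : ι → F) (d : F), B (rv F₀ v) w = 0 ∧
        sGL Q B x y = sGL Q B (rv F₀ v) (d • w) ∧
          ∀ z, nPart B x y z = d • nPart B (rv F₀ v) w z := by
      -- `v` lies in the plane of `x` and `y`
      have hv' : rv F₀ v = c⁻¹ • nPart B x y (rv F₀ a) := by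
        rw [hc, smul_smul, inv_mul_cancel₀ hc0, one_smul]
      set α := B x (rv F₀ a)
      set β := B y (rv F₀ a)
      have hv2 : rv F₀ v = (-(c⁻¹ * β)) • x + (c⁻¹ * α) • y := by
        rw [hv', nPart]; module
      by_cases hβ : β = 0
      · have hα : α ≠ 0 := fun h => hne (by simp [nPart, α, β] at h hβ ⊢; simp [h, hβ])
        refine ⟨x, -(c * α⁻¹), ?_, ?_, fun z => ?_⟩
        · rw [C.symm, hxv]
        · rw [hv2, hβ]
          simp only [mul_zero, neg_zero, zero_smul, zero_add]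
          rw [sGL_smul C hy (by rw [map_smul, C.symm y x, hxy, smul_zero]),
            sGL_swap C hx hy hxy, smul_smul,
            show c⁻¹ * α * -(c * α⁻¹) = -1 by field_simp, neg_one_smul]
        · rw [hv2, hβ]
          simp only [nPart, mul_zero, neg_zero, zero_smul, zero_add, map_smul, LinearMap.smul_apply,
            smul_eq_mul]
          match_scalars <;> field_simp
      · refine ⟨y, -(c * β⁻¹), ?_, ?_, fun z => ?_⟩
        · rw [C.symm, hyv]
        · have hp := sGL_plane (Q := Q) (B := B) C hx hy hxy (-(c⁻¹ * β)) (c⁻¹ * α) 0 (-(c * β⁻¹))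
          rw [zero_smul, zero_add, ← hv2, mul_zero, sub_zero,
            show -(c⁻¹ * β) * -(c * β⁻¹) = 1 by field_simp, one_smul] at hp
          exact hp.symm
        · rw [hv2]
          simp only [nPart, map_add, map_smul, LinearMap.add_apply, LinearMap.smul_apply,
            smul_eq_mul]
          match_scalars <;> field_simp <;> ring
    obtain ⟨e, r, hr⟩ := X.lambda hA hv hv0 (a := d • w) (by rw [map_smul, hw, smul_zero])
      (hwd.1 ▸ hS)
    rw [hwd.2, show d • nPart B (rv F₀ v) w (rv F₀ z) = nPart B (rv F₀ v) (d • w) (rv F₀ z) by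
      simp only [nPart, map_smul, LinearMap.smul_apply, smul_eq_mul]; module, hr]
    have : nPart B (rv F₀ v) (rv F₀ r + e • rv F₀ v) (rv F₀ z) =
        (B₀ v z : F) • rv F₀ r - (B₀ r z : F) • rv F₀ v := by
      simp only [nPart, map_add, map_smul, LinearMap.add_apply, LinearMap.smul_apply, X.B_rv,
        smul_eq_mul]
      module
    rw [this]
    exact ((ratv_rv r).smul (SetLike.coe_mem _)).sub ((ratv_rv v).smul (SetLike.coe_mem _))
  -- two perpendicular rational vectors recover the plane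
  push Not at hall
  obtain ⟨a, b, ha, hb, hne⟩ := hall
  set φ := B (nPart B x y (rv F₀ a)) (rv F₀ b) with hφ
  obtain ⟨α, a', hα⟩ := hN a ha
  obtain ⟨β, b', hβ⟩ := hN b hb
  have hφmem : φ ∈ F₀ := by
    rw [hφ, hα, map_add, map_smul, LinearMap.add_apply, LinearMap.smul_apply, X.B_rv, X.B_rv, hb]
    simp
  have hQN : ∀ z, Q (nPart B x y z) = 0 := fun z => by
    rw [nPart, sub_eq_add_neg, ← neg_smul, C.smul_add, hx, hy, C.symm y x, hxy]
    ring
  have hBN : ∀ z z', B (nPart B x y z) (nPart B x y z') = 0 := fun z z' => by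
    simp [nPart, C.self_zero hx, C.self_zero hy, hxy, C.symm y x]
  have hBv : ∀ z, B (rv F₀ v) (nPart B x y z) = 0 := fun z => by
    simp [nPart, C.symm (rv F₀ v) x, C.symm (rv F₀ v) y, hxv, hyv]
  have hzero₀ : ∀ {p q : ι → F₀} {γ δ : F}, B (rv F₀ p + γ • rv F₀ v) (rv F₀ q + δ • rv F₀ v) = 0 →
      B (rv F₀ v) (rv F₀ p + γ • rv F₀ v) = 0 → B (rv F₀ v) (rv F₀ q + δ • rv F₀ v) = 0 →
      B (rv F₀ p) (rv F₀ q) = 0 ∧ B (rv F₀ v) (rv F₀ p) = 0 ∧ B (rv F₀ v) (rv F₀ q) = 0 := by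
    intro p q γ δ h1 h2 h3
    simp only [map_add, map_smul, C.self_zero hQv, smul_zero, add_zero] at h2 h3
    refine ⟨?_, h2, h3⟩
    simpa [C.self_zero hQv, C.symm (rv F₀ p) (rv F₀ v), h2, h3] using h1
  obtain ⟨hab', hva', hvb'⟩ := hzero₀ (hα ▸ hβ ▸ hBN _ _) (hα ▸ hBv _) (hβ ▸ hBv _)
  have hQ' : ∀ {p : ι → F₀} {γ : F}, Q (rv F₀ p + γ • rv F₀ v) = 0 →
      B (rv F₀ v) (rv F₀ p) = 0 → Q (rv F₀ p) = 0 ∧ Q₀ p = 0 := by
    intro p γ h h'
    rw [C.add, C.smul, hQv, map_smul, C.symm _ (rv F₀ v), h'] at h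
    simp only [mul_zero, add_zero, smul_zero] at h
    exact ⟨h, Subtype.ext (by rw [← X.compat, h]; rfl)⟩
  obtain ⟨hQa, hQa₀⟩ := hQ' (hα ▸ hQN _) hva'
  obtain ⟨hQb, hQb₀⟩ := hQ' (hβ ▸ hQN _) hvb'
  have hb0 : B₀ a' b' = 0 := Subtype.ext (by rw [← X.B_rv, hab']; rfl)
  -- `N = φ⁻¹ (N a ∧ N b)`
  have hdet : φ = B x (rv F₀ a) * B y (rv F₀ b) - B y (rv F₀ a) * B x (rv F₀ b) := by
    simp [hφ, nPart]
  have hplane : sGL Q B x y = sGL Q B (nPart B x y (rv F₀ a)) (φ⁻¹ • nPart B x y (rv F₀ b)) := by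
    have hp := sGL_plane (Q := Q) (B := B) C hx hy hxy (-(B y (rv F₀ a))) (B x (rv F₀ a))
      (φ⁻¹ * -(B y (rv F₀ b))) (φ⁻¹ * B x (rv F₀ b))
    have e : -(B y (rv F₀ a)) * (φ⁻¹ * B x (rv F₀ b)) -
        B x (rv F₀ a) * (φ⁻¹ * -(B y (rv F₀ b))) = 1 := by
      rw [show -(B y (rv F₀ a)) * (φ⁻¹ * B x (rv F₀ b)) -
        B x (rv F₀ a) * (φ⁻¹ * -(B y (rv F₀ b))) = φ⁻¹ * φ by rw [hdet]; ring]
      exact inv_mul_cancel₀ hne
    rw [e, one_smul] at hp
    rw [← hp]
    congr 1 <;> simp only [nPart] <;> module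
  have hN' : ∀ z, nPart B x y z =
      φ⁻¹ • nPart B (nPart B x y (rv F₀ a)) (nPart B x y (rv F₀ b)) z := fun z => by
    simp only [nPart, map_sub, map_smul, LinearMap.sub_apply, LinearMap.smul_apply, smul_eq_mul]
    have hne' : B x (rv F₀ a) * B y (rv F₀ b) - B y (rv F₀ a) * B x (rv F₀ b) ≠ 0 := hdet ▸ hne
    rw [hdet]
    match_scalars <;> field_simp <;> ring
  set w := (φ⁻¹ * α) • rv F₀ b' - (φ⁻¹ * β) • rv F₀ a' with hw
  have hvw : B (rv F₀ v) w = 0 := by
    rw [hw, map_sub, map_smul, map_smul, hvb', hva']; simp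
  have hQw : Q w = 0 := by
    rw [hw, sub_eq_add_neg, ← neg_smul, C.smul_add, hQa, hQb, C.symm, hab']; ring
  have hab'' : B (rv F₀ a') (φ⁻¹ • rv F₀ b') = 0 := by rw [map_smul, hab', smul_zero]
  have hmemab : sGL Q B (rv F₀ a') (φ⁻¹ • rv F₀ b') ∈ H := by
    have h := X.sGL_rv (x := a') (a := (⟨φ⁻¹, F₀.inv_mem hφmem⟩ : F₀) • b') hQa₀
      (by rw [map_smul, hb0, smul_zero])
    rwa [rv_smul] at h
  have hprod : sGL Q B x y = sGL Q B (rv F₀ a') (φ⁻¹ • rv F₀ b') * sGL Q B (rv F₀ v) w := by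
    refine gl_ext fun z => ?_
    rw [root_act_nPart C hx hy hxy, hN', hα, hβ, mul_act,
      root_act_nPart C hQv hQw hvw, root_act_nPart C hQa (by rw [C.smul, hQb, mul_zero]) hab'']
    simp only [hw, nPart, map_add, map_sub, map_smul, LinearMap.add_apply, LinearMap.sub_apply,
      LinearMap.smul_apply, smul_eq_mul, C.symm (rv F₀ a') (rv F₀ v), C.symm (rv F₀ b') (rv F₀ v),
      hva', hvb', C.self_zero hQa, C.self_zero hQb, hab', C.symm (rv F₀ b') (rv F₀ a')]
    module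
  obtain ⟨e, r, hr⟩ := X.lambda hA hv hv0 hvw
    ((H.mul_mem_cancel_left hmemab).mp (hprod ▸ hS))
  rw [hN', hα, hβ, show φ⁻¹ • nPart B (rv F₀ a' + α • rv F₀ v) (rv F₀ b' + β • rv F₀ v) (rv F₀ z)
      = φ⁻¹ • nPart B (rv F₀ a') (rv F₀ b') (rv F₀ z) + nPart B (rv F₀ v) w (rv F₀ z) by
    simp only [hw, nPart, map_add, map_sub, map_smul, LinearMap.add_apply, LinearMap.sub_apply,
      LinearMap.smul_apply, smul_eq_mul]
    module, hr]
  simp only [nPart, map_add, map_smul, LinearMap.add_apply, LinearMap.smul_apply, X.B_rv,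
    smul_eq_mul]
  rw [show (B₀ v z : F) • (rv F₀ r + e • rv F₀ v) - ((B₀ r z : F) + e * (B₀ v z : F)) • rv F₀ v
    = (B₀ v z : F) • rv F₀ r - (B₀ r z : F) • rv F₀ v by module]
  exact (((ratv_rv b').smul (SetLike.coe_mem _)).sub ((ratv_rv a').smul (SetLike.coe_mem _))).smul
    (F₀.inv_mem hφmem) |>.add
    (((ratv_rv r).smul (SetLike.coe_mem _)).sub ((ratv_rv v).smul (SetLike.coe_mem _)))

end Cfsg.Lib.Linear.OrthSub
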