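import Cfsg.Agent.Lib.Linear.OrthSubfieldFix
import Cfsg.Agent.Lib.Linear.OrthDouble

/-!
# An element intertwining two rational involutions is rational up to a scalar
-/

set_option autoImplicit false

namespace Cfsg.Lib.Linear.OrthSub

open Module
open scoped Matrix
open Cfsg.Lib.Linear.Orth Cfsg.Lib.Linear.Rat0

variable {ι : Type} [Fintype ι] [DecidableEq ι] {F : Type*} [Field F] {F₀ : Subfield F}
  {Q : (ι → F) → F} {B : LinearMap.BilinForm F (ι → F)}

/-- The rational linear map `z ↦ g z - z` of a matrix with entries in the subfield. -/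
theorem exists_moved_map {g : GL ι F} (hg : ∀ a b, (g : Matrix ι ι F) a b ∈ F₀) :
    ∃ T : (ι → F₀) →ₗ[F₀] (ι → F₀), ∀ z, rv F₀ (T z) = g.val *ᵥ rv F₀ z - rv F₀ z := by
  refine ⟨Matrix.toLin' (Matrix.of fun a b => (⟨_, hg a b⟩ : F₀)) - LinearMap.id, fun z => ?_⟩
  rw [LinearMap.sub_apply, LinearMap.id_apply, rv_sub', Matrix.toLin'_apply]
  congr 1
  funext a
  simp [rv, Matrix.mulVec, dotProduct]

/-- A rational matrix with a large fixed space moves the rational space little. -/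
theorem finrank_moved_le [Finite F] {g : GL ι F} {T : (ι → F₀) →ₗ[F₀] (ι → F₀)}
    (hg : ∀ a b, (g : Matrix ι ι F) a b ∈ F₀)
    (hT : ∀ z, rv F₀ (T z) = g.val *ᵥ rv F₀ z - rv F₀ z) {d : ℕ}
    (hd : Fintype.card ι ≤ finrank F (fixedSp g) + d) : finrank F₀ (LinearMap.range T) ≤ d := by
  let K := LinearMap.ker T
  let bK := Module.finBasis F₀ K
  have hKspan : ∀ z ∈ K, rv F₀ z ∈ Submodule.span F (Set.range fun i => rv F₀ (bK i : ι → F₀)) := by
    intro z hz
    have e := congrArg Subtype.val (bK.sum_repr ⟨z, hz⟩)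
    rw [AddSubmonoidClass.coe_finsetSum] at e
    have e' : rv F₀ z = ∑ i, (bK.repr ⟨z, hz⟩ i : F) • rv F₀ (bK i : ι → F₀) := by
      funext j
      have := congrArg Subtype.val (congrFun e j)
      simp only [Finset.sum_apply, AddSubmonoidClass.coe_finsetSum] at this
      rw [rv, ← this, Finset.sum_apply]
      rfl
    rw [e']
    exact Submodule.sum_mem _ fun i _ => Submodule.smul_mem _ _ (Submodule.subset_span ⟨i, rfl⟩)
  have hle : fixedSp g ≤ Submodule.span F (Set.range fun i => rv F₀ (bK i : ι → F₀)) := by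
    intro v hv
    let b := Module.finBasis F₀ F
    have hv' : v = ∑ k, b k • rv F₀ (fun i => b.coord k (v i)) := by
      funext i
      rw [Finset.sum_apply]
      refine (b.sum_repr (v i)).symm.trans (Finset.sum_congr rfl fun k _ => ?_)
      exact mul_comm _ _
    rw [hv']
    refine Submodule.sum_mem _ fun k _ => Submodule.smul_mem _ _ (hKspan _ ?_)
    have hgv := (mem_fixedSp g v).mp hv
    rw [LinearMap.mem_ker]
    refine rv_injective F₀ ((hT _).trans (sub_eq_zero.mpr ?_))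
    funext i
    show ∑ j, (g : Matrix ι ι F) i j * (b.coord k (v j) : F) = (b.coord k (v i) : F)
    rw [← congrFun hgv i, Matrix.mulVec, dotProduct, map_sum, AddSubmonoidClass.coe_finsetSum]
    refine Finset.sum_congr rfl fun j _ => ?_
    rw [show (g : Matrix ι ι F) i j * v j = (⟨_, hg i j⟩ : F₀) • v j from rfl, map_smul]
    rfl
  have h1 := Submodule.finrank_mono hle
  have h2 := finrank_range_le_card (R := F) fun i => rv F₀ (bK i : ι → F₀)
  rw [Fintype.card_fin] at h2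
  have h3 : finrank F₀ (LinearMap.range T) + finrank F₀ K = Fintype.card ι := by
    rw [LinearMap.finrank_range_add_finrank_ker T, finrank_fintype_fun_eq_card]
  unfold Set.finrank at h2
  omega

/-- A submodule containing the rational vectors is everything. -/
theorem eq_zero_of_rv_gen (S : Submodule F (ι → F)) (h : ∀ z : ι → F₀, rv F₀ z ∈ S) :
    ∀ v, Submodule.mkQ S v = 0 := by
  intro v
  refine (Submodule.Quotient.mk_eq_zero S).mpr ?_
  have e : v = ∑ i, v i • (Pi.single i 1 : ι → F) := by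
    funext j
    simp [Finset.sum_apply, Pi.single_apply]
  rw [e]
  exact Submodule.sum_mem _ fun i _ => S.smul_mem _ (rv_single_mem (F₀ := F₀) i ▸ h _)

/-- The perpendicular of a subspace has complementary dimension at most. -/
theorem finrank_perp_add_le {K : Type*} [Field K] {q : (ι → K) → K}
    {b : LinearMap.BilinForm K (ι → K)} (C : Space q b) (P : Submodule K (ι → K)) :
    finrank K (perpIn b ⊤ P) + finrank K P ≤ Fintype.card ι := by
  let Φ : perpIn b ⊤ P →ₗ[K] P.dualAnnihilator :=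
    LinearMap.codRestrict _ ((b : (ι → K) →ₗ[K] (ι → K) →ₗ[K] K) ∘ₗ (perpIn b ⊤ P).subtype) fun x => by
      rw [Submodule.mem_dualAnnihilator]
      intro w hw
      show b (x : ι → K) w = 0
      rw [C.symm]
      exact x.2.2 w hw
  have hinj : Function.Injective Φ := by
    rw [injective_iff_map_eq_zero]
    exact fun x hx => Subtype.ext (C.nondeg' fun u => LinearMap.congr_fun (congrArg Subtype.val hx) u)
  have h1 := LinearMap.finrank_le_finrank_of_injective hinj
  have h2 := Subspace.finrank_add_finrank_dualAnnihilator_eq P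
  rw [finrank_fintype_fun_eq_card] at h2
  omega

variable {Q₀ : (ι → F₀) → F₀} {B₀ : LinearMap.BilinForm F₀ (ι → F₀)} {H : Subgroup (GL ι F)}

/-- Room for a hyperbolic pair and, next to each of its singular vectors, for two more. -/
def Room (Q₀ : (ι → F₀) → F₀) (B₀ : LinearMap.BilinForm F₀ (ι → F₀))
    (P : Submodule F₀ (ι → F₀)) : Prop :=
  (∃ e f, Hyp Q₀ B₀ P e f) ∧ ∀ c ∈ P, Q₀ c = 0 → c ≠ 0 → ∃ z z',
    (z ∈ P ∧ Q₀ z = 0 ∧ B₀ c z = 0) ∧ (z' ∈ P ∧ Q₀ z' = 0 ∧ B₀ c z' = 0) ∧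
      z ∉ Submodule.span F₀ {c} ∧ z' ∉ Submodule.span F₀ {c, z}

/-- A hyperbolic pair perpendicular to `c` is independent of it. -/
theorem hyp_indep (C : Space Q₀ B₀) {P : Submodule F₀ (ι → F₀)} {c z z' : ι → F₀}
    (h : Hyp Q₀ B₀ P z z') (hcz : B₀ c z = 0) (hcz' : B₀ c z' = 0) :
    z ∉ Submodule.span F₀ {c} ∧ z' ∉ Submodule.span F₀ {c, z} := by
  refine ⟨fun hm => ?_, fun hm => ?_⟩
  · obtain ⟨s, hs⟩ := Submodule.mem_span_singleton.mp hm
    have := h.pair
    rw [← hs, map_smul, LinearMap.smul_apply, hcz', smul_zero] at this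
    exact zero_ne_one this
  · obtain ⟨s, t, hst⟩ := Submodule.mem_span_pair.mp hm
    have := h.pair
    rw [← hst, map_add, map_smul, map_smul, C.symm z c, hcz, C.self_zero h.singE] at this
    simp at this

theorem room_of_big [Finite F] (C : Space Q₀ B₀) {U W A : Submodule F₀ (ι → F₀)}
    (S : Split Q₀ B₀ U W) (hAU : A ≤ U) (h : 2 * (finrank F₀ A + 1) + 3 ≤ finrank F₀ U) :
    Room Q₀ B₀ (perpIn B₀ U A) := by
  obtain ⟨e, f, hH, -, -⟩ := exists_hyp_perpIn C S hAU (by omega)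
  refine ⟨⟨e, f, hH⟩, fun c hc hQc hc0 => ?_⟩
  have h1 := Submodule.finrank_add_le_finrank_add_finrank A (Submodule.span F₀ {c})
  rw [finrank_span_singleton hc0] at h1
  obtain ⟨z, z', hZ, -, -⟩ := exists_hyp_perpIn C S
    (sup_le hAU ((Submodule.span_singleton_le_iff_mem _ _).mpr hc.1)) (A := A ⊔ Submodule.span F₀ {c})
    (by omega)
  have memA : ∀ {x}, x ∈ perpIn B₀ U (A ⊔ Submodule.span F₀ {c}) →
      x ∈ perpIn B₀ U A ∧ B₀ c x = 0 := fun hx =>
    ⟨⟨hx.1, fun a ha => hx.2 a (Submodule.mem_sup_left ha)⟩,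
      hx.2 c (Submodule.mem_sup_right (Submodule.mem_span_singleton_self c))⟩
  exact ⟨z, z', ⟨(memA hZ.memE).1, hZ.singE, (memA hZ.memE).2⟩,
    ⟨(memA hZ.memF).1, hZ.singF, (memA hZ.memF).2⟩,
    hyp_indep C hZ (memA hZ.memE).2 (memA hZ.memF).2⟩

/-- In characteristic two a non-singular radical vector makes a hyperbolic pair. -/
theorem hyp_of_radical [Finite F] (C : Space Q₀ B₀) (h20 : (2 : F₀) = 0)
    {P : Submodule F₀ (ι → F₀)} {α : ι → F₀} (hαP : α ∈ P) (hQα : Q₀ α ≠ 0)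
    (hperp : ∀ x ∈ P, B₀ x α = 0) (hP : Fintype.card ι < 2 * finrank F₀ P) :
    ∃ z z', Hyp Q₀ B₀ P z z' := by
  haveI : CharP F₀ 2 := CharTwo.of_one_ne_zero_of_two_eq_zero one_ne_zero h20
  obtain ⟨y, hy, y', hy', hyy⟩ : ∃ y ∈ P, ∃ y' ∈ P, B₀ y y' ≠ 0 := by
    by_contra hne
    push Not at hne
    have hle : P ≤ perpIn B₀ ⊤ P := fun x hx => ⟨trivial, fun w hw => hne w hw x hx⟩
    have h3 := Submodule.finrank_mono hle
    have h4 := finrank_perp_add_le C P
    omega
  -- a multiple of `α` makes any vector singular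
  have fix : ∀ x ∈ P, ∃ x' ∈ P, Q₀ x' = 0 ∧ ∀ v ∈ P, B₀ x' v = B₀ x v := fun x hx => by
    obtain ⟨s, hs⟩ := FiniteField.isSquare_of_char_two (ringChar.eq F₀ 2) (Q₀ x / Q₀ α)
    refine ⟨x + s • α, P.add_mem hx (P.smul_mem s hαP), ?_, fun v hv => ?_⟩
    · rw [C.add, C.smul, map_smul, hperp x hx, smul_zero, add_zero, sq, ← hs,
        div_mul_cancel₀ _ hQα]
      linear_combination Q₀ x * h20
    · rw [map_add, LinearMap.add_apply, LinearMap.map_smul₂, C.symm α v, hperp v hv,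
        smul_zero, add_zero]
  obtain ⟨z, hz, hQz, hzv⟩ := fix y hy
  obtain ⟨z', hz', hQz', hzv'⟩ := fix ((B₀ y y')⁻¹ • y') (P.smul_mem _ hy')
  refine ⟨z, z', hz, hz', hQz, hQz', ?_⟩
  rw [hzv z' hz', C.symm y z', hzv' y hy, C.symm _ y, map_smul, smul_eq_mul,
    inv_mul_cancel₀ hyy]

theorem room_two [Finite F] (C : Space Q₀ B₀) (h20 : (2 : F₀) = 0) (hn : 10 ≤ Fintype.card ι)
    {A : Submodule F₀ (ι → F₀)} (hAA : ∀ a ∈ A, ∀ b ∈ A, B₀ a b = 0)
    (hm : 2 * finrank F₀ A + 2 ≤ Fintype.card ι)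
    (hα : 2 * finrank F₀ A + 4 ≤ Fintype.card ι ∨ ∃ α ∈ A, Q₀ α ≠ 0) :
    Room Q₀ B₀ (perpIn B₀ ⊤ A) := by
  have S : Split Q₀ B₀ (⊤ : Submodule F₀ (ι → F₀)) ⊥ :=
    ⟨C.ndeg_top, fun _ hx _ => (Submodule.mem_bot F₀).mp hx,
      fun u _ w hw => by rw [(Submodule.mem_bot F₀).mp hw, map_zero], sup_bot_eq _⟩
  have htop : finrank F₀ (⊤ : Submodule F₀ (ι → F₀)) = Fintype.card ι := by
    rw [finrank_top, finrank_fintype_fun_eq_card]
  by_cases hbig : 2 * finrank F₀ A + 5 ≤ Fintype.card ι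
  · exact room_of_big C S le_top (by omega)
  constructor
  · by_cases h3 : 2 * finrank F₀ A + 3 ≤ Fintype.card ι
    · obtain ⟨e, f, h, -, -⟩ := exists_hyp_perpIn C S (le_top : A ≤ ⊤) (by omega)
      exact ⟨e, f, h⟩
    obtain ⟨α, hαA, hQα⟩ := hα.resolve_left (by omega)
    have hd := finrank_perpIn (B := B₀) (⊤ : Submodule F₀ (ι → F₀)) A
    exact hyp_of_radical C h20 (α := α) ⟨trivial, fun a ha => hAA a ha α hαA⟩ hQα
      (fun x hx => by rw [C.symm]; exact hx.2 α hαA) (by omega)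
  intro c hc hQc hc0
  by_cases hrad : 2 * finrank F₀ A + 4 ≤ Fintype.card ι ∧ ∃ α ∈ A, Q₀ α ≠ 0
  · obtain ⟨h4, α, hαA, hQα⟩ := hrad
    set P := perpIn B₀ ⊤ (A ⊔ Submodule.span F₀ {c})
    have hd : finrank F₀ (⊤ : Submodule F₀ (ι → F₀)) ≤
        finrank F₀ P + finrank F₀ (A ⊔ Submodule.span F₀ {c} : Submodule F₀ (ι → F₀)) :=
      finrank_perpIn _ _
    have h1 := Submodule.finrank_add_le_finrank_add_finrank A (Submodule.span F₀ {c})
    rw [finrank_span_singleton hc0] at h1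
    obtain ⟨z, z', hZ⟩ := hyp_of_radical C h20 (P := P) (α := α)
      ⟨trivial, fun w hw => by
        obtain ⟨t, ht, k, hk, rfl⟩ := Submodule.mem_sup.mp hw
        obtain ⟨r, rfl⟩ := Submodule.mem_span_singleton.mp hk
        rw [map_add, LinearMap.add_apply, hAA t ht α hαA, LinearMap.map_smul₂, C.symm c α,
          hc.2 α hαA]
        simp⟩ hQα
      (fun x hx => by rw [C.symm]; exact hx.2 α (Submodule.mem_sup_left hαA)) (by omega)
    have memA : ∀ {x}, x ∈ P → x ∈ perpIn B₀ ⊤ A ∧ B₀ c x = 0 := fun hx =>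
      ⟨⟨trivial, fun a ha => hx.2 a (Submodule.mem_sup_left ha)⟩,
        hx.2 c (Submodule.mem_sup_right (Submodule.mem_span_singleton_self c))⟩
    exact ⟨z, z', ⟨(memA hZ.memE).1, hZ.singE, (memA hZ.memE).2⟩,
      ⟨(memA hZ.memF).1, hZ.singF, (memA hZ.memF).2⟩,
      hyp_indep C hZ (memA hZ.memE).2 (memA hZ.memF).2⟩
  -- the singular vectors of `A`
  let S₀ : Submodule F₀ (ι → F₀) :=
    { carrier := {x | x ∈ A ∧ Q₀ x = 0}
      add_mem' := fun {u v} hu hv => ⟨A.add_mem hu.1 hv.1, by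
        rw [C.add, hu.2, hv.2, hAA u hu.1 v hv.1]; simp⟩
      zero_mem' := ⟨A.zero_mem, C.zero⟩
      smul_mem' := fun k u hu => ⟨A.smul_mem k hu.1, by rw [C.smul, hu.2, mul_zero]⟩ }
  have hS : 3 ≤ finrank F₀ S₀ := by
    by_cases hex : ∃ α ∈ A, Q₀ α ≠ 0
    · have h4 : ¬ 2 * finrank F₀ A + 4 ≤ Fintype.card ι := fun h => hrad ⟨h, hex⟩
      obtain ⟨α, hαA, hQα⟩ := hex
      haveI : CharP F₀ 2 := CharTwo.of_one_ne_zero_of_two_eq_zero one_ne_zero h20
      have hle : A ≤ S₀ ⊔ Submodule.span F₀ {α} := fun x hx => by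
        obtain ⟨s, hs⟩ := FiniteField.isSquare_of_char_two (ringChar.eq F₀ 2) (Q₀ x / Q₀ α)
        rw [show x = (x + s • α) + (-s) • α by rw [neg_smul]; abel]
        refine Submodule.add_mem_sup ⟨A.add_mem hx (A.smul_mem s hαA), ?_⟩
          (Submodule.mem_span_singleton.mpr ⟨-s, rfl⟩)
        rw [C.add, C.smul, map_smul, hAA x hx α hαA, smul_zero, add_zero, sq, ← hs,
          div_mul_cancel₀ _ hQα]
        linear_combination Q₀ x * h20
      have h1 := (Submodule.finrank_mono hle).trans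
        (Submodule.finrank_add_le_finrank_add_finrank _ _)
      rw [finrank_span_singleton (fun h => hQα (by rw [h, C.zero]))] at h1
      omega
    · push Not at hex
      have h1 := Submodule.finrank_mono (show A ≤ S₀ from fun x hx => ⟨hx, hex x hx⟩)
      have h2 : 2 * finrank F₀ A + 4 ≤ Fintype.card ι :=
        hα.resolve_right fun ⟨α, hα', h⟩ => h (hex α hα')
      omega
  have pick : ∀ T : Submodule F₀ (ι → F₀), finrank F₀ T ≤ 2 →
      ∃ z, (z ∈ perpIn B₀ ⊤ A ∧ Q₀ z = 0 ∧ B₀ c z = 0) ∧ z ∉ T := fun T hT => by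
    obtain ⟨z, hz, hzT⟩ : ∃ z ∈ S₀, z ∉ T := by
      by_contra hne
      push Not at hne
      have := Submodule.finrank_mono (show S₀ ≤ T from hne)
      omega
    exact ⟨z, ⟨⟨trivial, fun a ha => hAA a ha z hz.1⟩, hz.2,
      by rw [C.symm]; exact hc.2 z hz.1⟩, hzT⟩
  obtain ⟨z, hz, hzc⟩ := pick (Submodule.span F₀ {c}) (by rw [finrank_span_singleton hc0]; omega)
  obtain ⟨z', hz', hzc'⟩ := pick (Submodule.span F₀ {c, z}) (finrank_span_pair_le c z)
  exact ⟨z, z', hz, hz', hzc, hzc'⟩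

variable [Finite F] (X : RatCtx Q B Q₀ B₀ H)

include X

omit [Finite F] in
theorem RatCtx.sing_or_two {T : (ι → F₀) →ₗ[F₀] (ι → F₀)} {b : GL ι F}
    (hbI : b ∈ isometryGroup F Q) (hb : (2 : F) = 0 → b ∈ H)
    (hb2 : b * b = 1) (hb1 : b ≠ 1) (hT : ∀ z, rv F₀ (T z) = b.val *ᵥ rv F₀ z - rv F₀ z)
    [Finite F] : ∃ w ∈ LinearMap.range T, w ≠ 0 ∧ (Q₀ w = 0 ∨ (2 : F) ≠ 0) := by
  classical
  have C := X.space
  obtain ⟨z, hz⟩ : ∃ z, T z ≠ 0 := by
    by_contra h
    push Not at h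
    refine hb1 (gl_ext fun v => ?_)
    have := eq_zero_of_rv (F₀ := F₀) (Matrix.toLin' b.val - LinearMap.id) (fun e => by
      rw [LinearMap.sub_apply, LinearMap.id_apply, Matrix.toLin'_apply, ← hT, h, rv_zero']) v
    rw [LinearMap.sub_apply, LinearMap.id_apply, Matrix.toLin'_apply, sub_eq_zero] at this
    simpa using this
  by_cases h2 : (2 : F) = 0
  swap
  · exact ⟨T z, ⟨z, rfl⟩, hz, Or.inr h2⟩
  by_contra hne
  push Not at hne
  have hne' : ∀ w ∈ LinearMap.range T, Q₀ w = 0 → w = 0 := fun w hw h => by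
    by_contra h0
    exact (hne w hw h0).1 h
  have h20 : (2 : F₀) = 0 := Subtype.ext h2
  have hneg : ∀ v : F, -v = v := fun v => by linear_combination (-v) * h2
  have hbinv : ∀ v, b.val *ᵥ (b.val *ᵥ v) = v := fun v => by
    rw [← mul_act, hb2]; simp
  have hsymm : ∀ u v, B (b.val *ᵥ u) v = B u (b.val *ᵥ v) := fun u v => by
    conv_lhs => rw [← hbinv v, C.B_act hbI]
  have hiso : ∀ u v, B₀ (T u) (T v) = 0 := fun u v => Subtype.ext (by
    rw [← X.B_rv, hT, hT, map_sub, map_sub, LinearMap.sub_apply, LinearMap.sub_apply,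
      C.B_act hbI, hsymm]
    show _ = ((0 : F₀) : F)
    push_cast
    linear_combination (B (rv F₀ u) (rv F₀ v) - B (rv F₀ u) (b.val *ᵥ rv F₀ v)) * h2)
  set w := T z with hw
  have hQw : Q₀ w ≠ 0 := fun h => hz (hne' w ⟨z, rfl⟩ h)
  have hline : ∀ t, ∃ c : F₀, T t = c • w := by
    intro t
    obtain ⟨s, hs⟩ : IsSquare (Q₀ (T t) / Q₀ w) := FiniteField.isSquare_of_char_two
      (ringChar.eq_iff.mpr (CharTwo.of_one_ne_zero_of_two_eq_zero one_ne_zero h20)) _
    refine ⟨s, sub_eq_zero.mp (hne' _ (Submodule.sub_mem _ ⟨t, rfl⟩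
      (Submodule.smul_mem _ _ ⟨z, rfl⟩)) ?_)⟩
    have hss : Q₀ (T t) = s * s * Q₀ w := by rw [← hs, div_mul_cancel₀ _ hQw]
    rw [sub_eq_add_neg, ← neg_smul, X.space₀.add, X.space₀.smul, map_smul, hiso, hss]
    simp only [smul_zero, add_zero]
    linear_combination s * s * Q₀ w * h20
  set W := rv F₀ w with hW
  have hQW : Q W ≠ 0 := by
    rw [hW, X.compat]; exact fun h => hQw (Subtype.ext h)
  choose c hc using hline
  let φ : (ι → F₀) →ₗ[F₀] F₀ :=
    { toFun := c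
      map_add' := fun s t => by
        have h := map_add T s t
        rw [hc, hc, hc, ← add_smul] at h
        exact smul_left_injective F₀ hz h
      map_smul' := fun k t => by
        have h := map_smul T k t
        rw [hc, hc, smul_smul] at h
        exact smul_left_injective F₀ hz h }
  let ψ : (ι → F₀) →ₗ[F₀] F₀ := (Q₀ w)⁻¹ • B₀ w
  have hprod : ∀ t, φ t = 0 ∨ φ t = ψ t := fun t => by
    have hbt : b.val *ᵥ rv F₀ t = rv F₀ t + (c t : F) • W := by
      rw [hW, ← rv_smul, ← hc, hT]; abel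
    have h := mem_iso.mp hbI (rv F₀ t)
    rw [hbt, C.add, C.smul, map_smul, hW, X.compat, X.compat, X.B_rv] at h
    have h' : c t * c t * Q₀ w + c t * B₀ t w = 0 := Subtype.ext (by
      push_cast; simp only [smul_eq_mul] at h; linear_combination h)
    by_cases h0 : c t = 0
    · exact Or.inl h0
    · refine Or.inr ?_
      show c t = (Q₀ w)⁻¹ * B₀ w t
      rw [X.space₀.symm w t]
      have h'' : c t * Q₀ w + B₀ t w = 0 := by
        refine (mul_eq_zero.mp ?_).resolve_left h0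
        linear_combination h'
      rw [eq_inv_mul_iff_mul_eq₀ hQw]
      linear_combination h'' - B₀ t w * h20
  have hφψ : ∀ t, φ t = ψ t := by
    obtain ⟨t₁, ht₁⟩ : ∃ t, φ t ≠ 0 := ⟨z, fun h => hz (by
      rw [hw]
      show T z = 0
      rw [hc z]
      show c z • w = 0
      rw [show c z = 0 from h, zero_smul])⟩
    intro t
    rcases hprod t with h | h
    · have h1 := (hprod t₁).resolve_left ht₁
      rcases hprod (t₁ + t) with h' | h'
      · rw [map_add, h, add_zero] at h'; exact absurd h' ht₁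
      · rw [map_add, map_add, h1] at h'; exact add_left_cancel h'
    · exact h
  have hbeq : b = rGL Q W := gl_ext fun v => by
    have := eq_zero_of_rv (F₀ := F₀) (Matrix.toLin' b.val - Matrix.toLin' (rGL Q W).val)
      (fun t => by
        rw [LinearMap.sub_apply, Matrix.toLin'_apply, Matrix.toLin'_apply, rGL_act C hQW,
          show b.val *ᵥ rv F₀ t = rv F₀ t + (φ t : F) • W by
            rw [hW, ← rv_smul]; show _ = _ + rv F₀ (c t • w); rw [← hc, hT]; abel,
          hφψ, hW, X.B_rv, X.compat]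
        show rv F₀ t + (((Q₀ w)⁻¹ * B₀ w t : F₀) : F) • _ - _ = 0
        push_cast
        linear_combination (norm := module)
          congrArg (fun k => (((Q₀ w : F))⁻¹ * (B₀ w t : F) * k) • rv F₀ w) h2) v
    rwa [LinearMap.sub_apply, Matrix.toLin'_apply, Matrix.toLin'_apply, sub_eq_zero] at this
  exact rGL_notMem_omega C h2 X.five hQW (hbeq ▸ X.le (hb h2))

/-- A large rational space fixed by a rational involution. -/
theorem RatCtx.exists_fixed_space {a : GL ι F} (haI : a ∈ isometryGroup F Q) {d : ℕ}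
    (hinv : RatInvol F₀ a d) (hd : d + 5 ≤ Fintype.card ι)
    (hd2 : (2 : F) = 0 → 2 * d + 5 ≤ Fintype.card ι ∨ (2 * d + 2 ≤ Fintype.card ι ∧
      (Fintype.card ι < finrank F (fixedSp a) + d ∨ ∃ y, Q (a.val *ᵥ y - y) ≠ 0))) :
    ∃ P : Submodule F₀ (ι → F₀),
      (∀ z ∈ P, a.val *ᵥ rv F₀ z = rv F₀ z) ∧ Room Q₀ B₀ P := by
  have C := X.space
  obtain ⟨hE, ha2, -, hK⟩ := hinv
  obtain ⟨T, hT⟩ := exists_moved_map hE
  have hA := finrank_moved_le hE hT hK
  have hainv : ∀ v, a.val *ᵥ (a.val *ᵥ v) = v := fun v => by rw [← mul_act, ha2]; simp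
  have hfix : ∀ z, (∀ t, B₀ (T t) z = 0) → a.val *ᵥ rv F₀ z = rv F₀ z := fun z hz => by
    refine sub_eq_zero.mp (C.nondeg' fun u => eq_zero_of_rv (F₀ := F₀) _ (fun t => ?_) u)
    have h1 : B (a.val *ᵥ rv F₀ z) (rv F₀ t) = B (rv F₀ z) (a.val *ᵥ rv F₀ t) := by
      conv_lhs => rw [← hainv (rv F₀ t), C.B_act haI]
    rw [map_sub, LinearMap.sub_apply, h1, ← map_sub, ← hT, X.B_rv, X.space₀.symm, hz]
    rfl
  by_cases h2 : (2 : F) = 0
  · have hfix' : ∀ z ∈ perpIn B₀ ⊤ (LinearMap.range T), a.val *ᵥ rv F₀ z = rv F₀ z :=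
      fun z hz => hfix z fun t => hz.2 _ ⟨t, rfl⟩
    -- the moved vectors are mutually orthogonal
    have hBB : ∀ u v, B (a.val *ᵥ u - u) (a.val *ᵥ v - v) = 0 := fun u v => by
      have h1 : B (a.val *ᵥ u) v = B u (a.val *ᵥ v) := by
        conv_lhs => rw [← hainv v, C.B_act haI]
      simp only [map_sub, LinearMap.sub_apply, C.B_act haI, h1]
      linear_combination (B u v - B u (a.val *ᵥ v)) * h2
    refine ⟨_, hfix', room_two X.space₀ (Subtype.ext h2) X.card ?_ ?_ ?_⟩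
    · rintro _ ⟨t, rfl⟩ _ ⟨u, rfl⟩
      refine Subtype.ext ?_
      rw [← X.B_rv, hT, hT, hBB]
      rfl
    · have := hd2 h2
      omega
    rcases hd2 h2 with h | ⟨h, hlt | ⟨y, hy⟩⟩
    · exact Or.inl (by omega)
    · have h' : Fintype.card ι ≤ finrank F (fixedSp a) + (d - 1) := by omega
      have := finrank_moved_le hE hT h'
      exact Or.inl (by omega)
    · right
      obtain ⟨t, ht⟩ : ∃ t, Q₀ (T t) ≠ 0 := by
        by_contra hc
        push Not at hc
        refine hy ?_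
        let S : Submodule F (ι → F) :=
          { carrier := {u | Q (a.val *ᵥ u - u) = 0}
            add_mem' := fun {u v} hu hv => by
              simp only [Set.mem_setOf_eq] at hu hv ⊢
              rw [Matrix.mulVec_add, add_sub_add_comm, C.add, hu, hv, hBB]
              simp
            zero_mem' := by
              simp only [Set.mem_setOf_eq]
              rw [Matrix.mulVec_zero, sub_zero, C.zero]
            smul_mem' := fun c u hu => by
              simp only [Set.mem_setOf_eq] at hu ⊢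
              rw [Matrix.mulVec_smul, ← smul_sub, C.smul, hu, mul_zero] }
        have hS : ∀ v, Submodule.mkQ S v = 0 := eq_zero_of_rv_gen S fun z => by
          show Q _ = 0
          rw [← hT, X.compat, hc, ZeroMemClass.coe_zero]
        exact (Submodule.Quotient.mk_eq_zero S).mp (hS y)
      exact ⟨T t, ⟨t, rfl⟩, ht⟩
  set A := LinearMap.range T with hAdef
  set U := perpIn B₀ ⊤ A with hUdef
  have h20 : (2 : F₀) ≠ 0 := fun h => h2 (congrArg Subtype.val h)
  have hUfix : ∀ z ∈ U, T z = 0 := fun z hz => rv_injective F₀ (by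
    rw [hT, hfix z fun t => hz.2 _ ⟨t, rfl⟩, sub_self, rv_zero'])
  have hTT : ∀ t, T (T t) = (-2 : F₀) • T t := fun t => rv_injective F₀ (by
    rw [rv_smul, hT (T t), hT, Matrix.mulVec_sub, hainv]
    push_cast
    rw [show ((2 : F₀) : F) = 2 from rfl]
    module)
  have hperp : ∀ z, T z = 0 → z ∈ U := fun z hz => ⟨trivial, by
    rintro _ ⟨t, rfl⟩
    have hz' : a.val *ᵥ rv F₀ z = rv F₀ z := sub_eq_zero.mp (by rw [← hT, hz, rv_zero'])
    refine Subtype.ext ?_
    rw [← X.B_rv, hT, map_sub, LinearMap.sub_apply]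
    conv_lhs => arg 1; rw [← hz', C.B_act haI]
    rw [sub_self]
    rfl⟩
  have hsup : U ⊔ A = ⊤ := eq_top_iff.mpr fun t _ => by
    rw [show t = (t + (2 : F₀)⁻¹ • T t) + -((2 : F₀)⁻¹ • T t) by abel]
    refine Submodule.add_mem_sup (hperp _ ?_) (A.neg_mem (A.smul_mem _ ⟨t, rfl⟩))
    rw [map_add, map_smul, hTT, smul_smul, mul_neg, inv_mul_cancel₀ h20]
    simp
  have orth : ∀ u ∈ U, ∀ w ∈ A, B₀ u w = 0 := fun u hu w hw => by
    rw [X.space₀.symm]; exact hu.2 w hw
  have hdisj : ∀ x, x ∈ U → x ∈ A → x = 0 := fun x hxU ⟨t, ht⟩ => by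
    have h := hUfix x hxU
    rw [← ht, hTT, ht] at h
    exact (smul_eq_zero.mp h).resolve_left (neg_ne_zero.mpr h20)
  have S : Split Q₀ B₀ U A := by
    refine ⟨fun x hx hxy => X.space₀.nondeg' fun u => ?_, fun x hx hxy => X.space₀.nondeg' fun u => ?_,
      orth, hsup⟩
    all_goals
      obtain ⟨p, hp, q, hq, rfl⟩ := Submodule.mem_sup.mp (hsup ▸ Submodule.mem_top : u ∈ U ⊔ A)
      rw [map_add]
    · rw [hxy p hp, orth x hx q hq, add_zero]
    · rw [hxy q hq, X.space₀.symm x p, orth p hp x hx, add_zero]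
  refine ⟨perpIn B₀ U ⊥, fun z hz => ?_, room_of_big X.space₀ S bot_le ?_⟩
  · exact sub_eq_zero.mp (by rw [← hT, hUfix z hz.1, rv_zero'])
  · have := S.finrank_add X.space₀
    rw [finrank_bot]
    omega

/-- An element of `H` intertwining two rational involutions is rational up to a scalar. -/
theorem RatCtx.ratG_of_intertwine (hA : ¬ CaseA Q B Q₀ B₀ H) {g a b : GL ι F} (hg : g ∈ H)
    (ha : a ∈ isometryGroup F Q) (hb : b ∈ isometryGroup F Q) (hbH : (2 : F) = 0 → b ∈ H) {d : ℕ} (hia : RatInvol F₀ a d) (hib : RatInvol F₀ b d)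
    (hgab : g * a = b * g) (hd : d + 5 ≤ Fintype.card ι)
    (hd2 : (2 : F) = 0 → 2 * d + 5 ≤ Fintype.card ι ∨ (2 * d + 2 ≤ Fintype.card ι ∧
      (Fintype.card ι < finrank F (fixedSp a) + d ∨ ∃ y, Q (a.val *ᵥ y - y) ≠ 0))) :
    RatG F₀ g := by
  classical
  have C := X.space
  have hgI := X.le_iso hg
  obtain ⟨T, hT⟩ := exists_moved_map hib.1
  obtain ⟨w, ⟨t, htw⟩, hw0, hw⟩ := X.sing_or_two hb hbH hib.2.1 hib.2.2.1 hT
  obtain ⟨P, hfix, hhyp, hroom⟩ := X.exists_fixed_space ha hia hd hd2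
  have hperp : ∀ z ∈ P, B (g.val *ᵥ rv F₀ z) (rv F₀ w) = 0 := fun z hz => by
    have hbz : b.val *ᵥ (g.val *ᵥ rv F₀ z) = g.val *ᵥ rv F₀ z := by
      rw [← mul_act, ← hgab, mul_act, hfix z hz]
    rw [← htw, hT, map_sub]
    conv_lhs => arg 1; rw [← hbz, C.B_act hb]
    rw [sub_self]
  obtain ⟨e, f, hH⟩ := hhyp
  have he0 : e ≠ 0 := fun h => by simpa [h] using hH.pair
  have hf0 : f ≠ 0 := fun h => by simpa [h] using hH.pair
  have hline : ∀ c ∈ P, Q₀ c = 0 → c ≠ 0 →
      ∃ (μ : F) (c' : ι → F₀), g.val *ᵥ rv F₀ c = μ • rv F₀ c' := by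
    intro c hc hQc hc0
    obtain ⟨z, z', ⟨hzP, hQz, hcz⟩, ⟨hz'P, hQz', hcz'⟩, hzspan, hz'span⟩ := hroom c hc hQc hc0
    have conj : ∀ {x}, Q₀ x = 0 → B₀ c x = 0 →
        sGL Q B (g.val *ᵥ rv F₀ c) (g.val *ᵥ rv F₀ x) ∈ H := fun hQx hcx => by
      have h := mul_mem (mul_mem hg (X.sGL_rv hQc hcx)) (inv_mem hg)
      rwa [sGL_conj C (X.q_rv hQc) (X.b_rv hcx) hgI] at h
    refine X.rat_line hA (by rw [mem_iso.mp hgI, X.q_rv hQc])
      (by rw [mem_iso.mp hgI, X.q_rv hQz]) (by rw [mem_iso.mp hgI, X.q_rv hQz'])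
      (by rw [C.B_act hgI, X.b_rv hcz]) (by rw [C.B_act hgI, X.b_rv hcz'])
      (conj hQz hcz) (conj hQz' hcz') hw0 hw (hperp c hc)
      (hperp z hzP) (hperp z' hz'P)
      (act_ne_zero fun h => hc0 (X.rv_eq_zero h)) (fun h => ?_) (fun h => ?_)
    · obtain ⟨s, hs⟩ := Submodule.mem_span_singleton.mp h
      rw [← Matrix.mulVec_smul] at hs
      have hs' : s • rv F₀ c = rv F₀ z := act_injective g hs
      obtain ⟨ψ, h1, h2⟩ := exists_dot_one hzspan
      have := congrArg (rv F₀ ψ ⬝ᵥ ·) hs'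
      simp [dotProduct_smul, rv_dot, h1, h2] at this
    · obtain ⟨s, u, hs⟩ := Submodule.mem_span_pair.mp h
      rw [← Matrix.mulVec_smul, ← Matrix.mulVec_smul, ← Matrix.mulVec_add] at hs
      have hs' : s • rv F₀ c + u • rv F₀ z = rv F₀ z' := act_injective g hs
      obtain ⟨ψ, h1, h2⟩ := exists_dot_sep hz'span
      have := congrArg (rv F₀ ψ ⬝ᵥ ·) hs'
      simp [dotProduct_add, dotProduct_smul, rv_dot, h1, h2 c (Submodule.subset_span (by simp)),
        h2 z (Submodule.subset_span (by simp))] at this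
  obtain ⟨μ, e', he'⟩ := hline e hH.memE hH.singE he0
  obtain ⟨ν, f', hf'⟩ := hline f hH.memF hH.singF hf0
  have hμ : μ ≠ 0 := fun h => act_ne_zero (g := g) (fun h' => he0 (X.rv_eq_zero h'))
    (by rw [he', h, zero_smul])
  have hν : ν ≠ 0 := fun h => act_ne_zero (g := g) (fun h' => hf0 (X.rv_eq_zero h'))
    (by rw [hf', h, zero_smul])
  have hpair : μ * ν * (B₀ e' f' : F) = 1 := by
    have h := C.B_act hgI (rv F₀ e) (rv F₀ f)
    rw [he', hf', map_smul, map_smul, LinearMap.smul_apply, X.B_rv, X.B_rv, hH.pair] at h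
    simp only [smul_eq_mul, OneMemClass.coe_one] at h
    linear_combination h
  have hk : μ * ν ∈ F₀ := by
    rw [eq_inv_of_mul_eq_one_left hpair]; exact F₀.inv_mem (SetLike.coe_mem _)
  have hB' : (B₀ e' f' : F) ≠ 0 := fun h => by rw [h, mul_zero] at hpair; exact zero_ne_one hpair
  -- the two centres
  have two : ∀ {c c' d d' : ι → F₀} {μ ν : F}, Q₀ c = 0 → c ≠ 0 → μ ≠ 0 → ν ≠ 0 →
      g.val *ᵥ rv F₀ c = μ • rv F₀ c' → g.val *ᵥ rv F₀ d = ν • rv F₀ d' →
      (B₀ d' c' : F) ≠ 0 → ∀ t, B₀ c t = 0 → B₀ d t = 0 →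
      Ratv F₀ (μ • g.val *ᵥ rv F₀ t) := by
    intro c c' d d' μ ν hc hc0 hμ hν hgc hgd hne t hct hdt
    have hgt : B (μ • rv F₀ c') (g.val *ᵥ rv F₀ t) = 0 := by
      rw [← hgc, C.B_act hgI, X.b_rv hct]
    have hQc' : Q₀ c' = 0 := Subtype.ext (by
      have h := mem_iso.mp hgI (rv F₀ c)
      rw [hgc, C.smul, X.compat, X.compat, hc, ZeroMemClass.coe_zero, mul_eq_zero] at h
      exact h.resolve_left (pow_ne_zero 2 hμ))
    have hgt' : B (rv F₀ c') (μ • g.val *ᵥ rv F₀ t) = 0 := by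
      rwa [map_smul, LinearMap.smul_apply, ← map_smul] at hgt
    have h := mul_mem (mul_mem hg (X.sGL_rv hc hct)) (inv_mem hg)
    rw [sGL_conj C (X.q_rv hc) (X.b_rv hct) hgI, hgc, sGL_smul C (X.q_rv hQc') (by
      rw [← hgt', map_smul]
      rw [map_smul, smul_eq_zero] at hgt'
      rw [hgt'.resolve_left hμ, smul_zero])] at h
    obtain ⟨k, r, hr⟩ := X.lambda hA hQc' (fun h0 => by simp [h0] at hne) hgt' h
    have h1 := congrArg (B (rv F₀ d')) hr
    have h2 : B (ν • rv F₀ d') (g.val *ᵥ rv F₀ t) = 0 := by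
      rw [← hgd, C.B_act hgI, X.b_rv hdt]
    rw [map_smul, LinearMap.smul_apply, smul_eq_zero] at h2
    rw [map_smul, h2.resolve_left hν, smul_zero, map_add, map_smul, X.B_rv, X.B_rv,
      smul_eq_mul] at h1
    have hk' : k = -(B₀ d' r : F) / (B₀ d' c' : F) := by
      field_simp
      linear_combination -h1
    rw [hr]
    refine (ratv_rv r).add ((ratv_rv c').smul ?_)
    rw [hk']
    exact F₀.div_mem (F₀.neg_mem (SetLike.coe_mem _)) (SetLike.coe_mem _)
  have he2 : (B₀ f' e' : F) ≠ 0 := by rwa [X.space₀.symm]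
  have k1 := two hH.singE he0 hμ hν he' hf' he2
  have k2 := two hH.singF hf0 hν hμ hf' he' hB'
  have hμ2 : μ * μ ∈ F₀ := by
    obtain ⟨t0, t0', hT0, -⟩ := X.exists_hyp_list {e, f} (Finset.card_le_two.trans (by norm_num))
    have ht0 : t0 ≠ 0 := fun h => by simpa [h] using hT0.pair
    have h1 := hT0.memE.2 e (Submodule.subset_span (by simp))
    have h2 := hT0.memE.2 f (Submodule.subset_span (by simp))
    obtain ⟨r1, hr1⟩ := k1 t0 h1 h2
    obtain ⟨r2, hr2⟩ := k2 t0 h2 h1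
    obtain ⟨i, hi⟩ := Function.ne_iff.mp (act_ne_zero (g := g) fun h => ht0 (X.rv_eq_zero h))
    have a1 := congrFun hr1 i
    have a2 := congrFun hr2 i
    simp only [Pi.smul_apply, smul_eq_mul, rv] at a1 a2
    have hr2i : (r2 i : F) ≠ 0 := by rw [← a2]; exact mul_ne_zero hν hi
    have : μ * μ = μ * ν * ((r1 i : F) / (r2 i : F)) := by
      rw [← a1, ← a2, mul_div_mul_right _ _ (by simpa using hi)]; field_simp
    rw [this]
    exact F₀.mul_mem hk (F₀.div_mem (SetLike.coe_mem _) (SetLike.coe_mem _))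
  refine ⟨μ, hμ, fun i j => ?_⟩
  have hall : ∀ z, Ratv F₀ (μ • g.val *ᵥ rv F₀ z) := fun z => by
    set t := z - B₀ f z • e - B₀ e z • f
    have htd : z = t + (B₀ f z • e + B₀ e z • f) := by simp only [t]; abel
    have ht := hH
    have h1 : B₀ e t = 0 := by
      simp only [t, map_sub, map_smul, X.space₀.self_zero hH.singE, hH.pair, smul_eq_mul,
        mul_zero, mul_one, sub_zero, sub_self]
    have h2 : B₀ f t = 0 := by
      simp only [t, map_sub, map_smul, X.space₀.self_zero hH.singF, hH.pair' X.space₀, smul_eq_mul,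
        mul_zero, mul_one, sub_zero, sub_self]
    rw [htd, rv_add, rv_add, rv_smul, rv_smul, Matrix.mulVec_add, Matrix.mulVec_add,
      Matrix.mulVec_smul, Matrix.mulVec_smul, he', hf', smul_add, smul_add]
    refine (k1 t h1 h2).add (Ratv.add ?_ ?_)
    · rw [smul_smul, smul_smul, show μ * (B₀ f z : F) * μ = μ * μ * (B₀ f z : F) by ring]
      exact (ratv_rv e').smul (F₀.mul_mem hμ2 (SetLike.coe_mem _))
    · rw [smul_smul, smul_smul, show μ * (B₀ e z : F) * ν = μ * ν * (B₀ e z : F) by ring]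
      exact (ratv_rv f').smul (F₀.mul_mem hk (SetLike.coe_mem _))
  obtain ⟨r, hr⟩ := hall (Pi.single j 1)
  have := congrFun hr i
  rw [rv_single_mem, Pi.smul_apply, Matrix.mulVec_single_one, smul_eq_mul] at this
  exact this ▸ (r i).2

end Cfsg.Lib.Linear.OrthSub
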