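import Cfsg.Agent.Lib.Linear.OrthSubfield

/-!
# Root elements of `H` fixing a rational vector, and rational lines
-/

set_option autoImplicit false

namespace Cfsg.Lib.Linear.OrthSub

open Module
open scoped Matrix
open Cfsg.Lib.Linear.Orth Cfsg.Lib.Linear.Rat0

variable {ι : Type} [Fintype ι] [DecidableEq ι] {F : Type*} [Field F] {F₀ : Subfield F}
  {Q : (ι → F) → F} {B : LinearMap.BilinForm F (ι → F)}

/-- A linear map vanishing on rational vectors vanishes. -/
theorem eq_zero_of_rv {M : Type*} [AddCommGroup M] [Module F M] (φ : (ι → F) →ₗ[F] M)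
    (h : ∀ e : ι → F₀, φ (rv F₀ e) = 0) (u : ι → F) : φ u = 0 := by
  rw [pi_eq_sum_univ' u, map_sum]
  refine Finset.sum_eq_zero fun i _ => ?_
  rw [map_smul, ← rv_single_mem (F₀ := F₀), h, smul_zero]

/-- A covector separating a vector from a subspace. -/
theorem exists_dot_sep {A : Submodule F₀ (ι → F₀)} {x : ι → F₀} (h : x ∉ A) :
    ∃ ψ : ι → F₀, ψ ⬝ᵥ x = 1 ∧ ∀ y ∈ A, ψ ⬝ᵥ y = 0 := by
  obtain ⟨φ, hφx, hφ⟩ := Submodule.exists_dual_map_eq_bot_of_notMem h inferInstance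
  have e : ∀ y, ((φ x)⁻¹ • fun i => φ (Pi.single i 1)) ⬝ᵥ y = (φ x)⁻¹ * φ y := fun y => by
    rw [smul_dotProduct, smul_eq_mul]
    congr 1
    conv_rhs => rw [pi_eq_sum_univ' y]
    simp [dotProduct, mul_comm]
  refine ⟨(φ x)⁻¹ • fun i => φ (Pi.single i 1), by rw [e, inv_mul_cancel₀ hφx], fun y hy => ?_⟩
  have h2 : φ y ∈ A.map φ := ⟨y, hy, rfl⟩
  rw [hφ, Submodule.mem_bot] at h2
  rw [e, h2, mul_zero]

/-- The product of two conjugates of a Siegel element by opposite root elements. -/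
theorem two_conj (C : Space Q B) {u n w : ι → F} (hu : Q u = 0) (hn : Q n = 0) (hun : B u n = 0)
    (huw : B u w = 0) (hnw : B n w = 0) :
    sGL Q B (u + n) w * sGL Q B (u - n) w = sGL Q B u ((2 : F) • w - (2 * Q w) • n) := by
  have hnu : B n u = 0 := by rw [C.symm, hun]
  have h1 : Q (u + n) = 0 := by rw [C.add, hu, hn, hun]; simp
  have h2 : Q (u - n) = 0 := by rw [sub_eq_add_neg, C.add, hu, C.neg, hn, map_neg, hun]; simp
  have h3 : B (u + n) w = 0 := by simp [huw, hnw]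
  have h4 : B (u - n) w = 0 := by simp [huw, hnw]
  have h5 : B u ((2 : F) • w - (2 * Q w) • n) = 0 := by simp [huw, hun]
  have h6 : Q ((2 : F) • w - (2 * Q w) • n) = 4 * Q w := by
    rw [sub_eq_add_neg, ← neg_smul, C.smul_add, hn, C.symm w n, hnw]; ring
  refine gl_ext fun z => ?_
  rw [mul_act, sGL_act C h1 h3, sGL_act C h2 h4, sGL_act C hu h5, h6]
  simp only [map_add, map_sub, map_smul, LinearMap.add_apply, LinearMap.sub_apply,
    LinearMap.smul_apply, smul_eq_mul, C.self_zero hu, C.self_zero hn, C.self w, hun, hnu, huw,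
    hnw, C.symm w u, C.symm w n]
  module

variable {Q₀ : (ι → F₀) → F₀} {B₀ : LinearMap.BilinForm F₀ (ι → F₀)} {H : Subgroup (GL ι F)}
  [Finite F] (X : RatCtx Q B Q₀ B₀ H)

include X

theorem RatCtx.rv_eq_zero {x : ι → F₀} (h : rv F₀ x = 0) : x = 0 :=
  rv_injective F₀ (h.trans rv_zero'.symm)

theorem RatCtx.q_rv {x : ι → F₀} (h : Q₀ x = 0) : Q (rv F₀ x) = 0 := by rw [X.compat, h]; rfl

theorem RatCtx.b_rv {x y : ι → F₀} (h : B₀ x y = 0) : B (rv F₀ x) (rv F₀ y) = 0 := by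
  rw [X.B_rv, h]; rfl

/-- A root element fixing a rational vector is rational, unless the vector is non-singular and the
characteristic two. -/
theorem RatCtx.rat_of_perp (hA : ¬ CaseA Q B Q₀ B₀ H) {x y : ι → F} (hx : Q x = 0) (hy : Q y = 0)
    (hxy : B x y = 0) (hS : sGL Q B x y ∈ H) {w : ι → F₀} (hw0 : w ≠ 0)
    (hw : Q₀ w = 0 ∨ (2 : F) ≠ 0) (hxw : B x (rv F₀ w) = 0) (hyw : B y (rv F₀ w) = 0)
    (z : ι → F₀) : Ratv F₀ (nPart B x y (rv F₀ z)) := by
  classical
  by_cases hQw : Q₀ w = 0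
  · exact X.rat_of_fix hA hx hy hxy hS hQw hw0 hxw hyw z
  have h2 : (2 : F) ≠ 0 := hw.resolve_left hQw
  have h20 : (2 : F₀) ≠ 0 := fun h => h2 (congrArg Subtype.val h)
  have C := X.space
  have hNw : nPart B x y (rv F₀ w) = 0 := by simp [nPart, hxw, hyw]
  have hadd : ∀ p q, nPart B x y (p + q) = nPart B x y p + nPart B x y q := fun p q => by
    simp only [nPart, map_add]; module
  have hsmul : ∀ (c : F) p, nPart B x y (c • p) = c • nPart B x y p := fun c p => by
    simp only [nPart, map_smul, smul_eq_mul]; module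
  have hskew : ∀ p q : ι → F, B (nPart B x y p) q + B p (nPart B x y q) = 0 := fun p q => by
    simp [nPart, C.symm p x, C.symm p y]; ring
  have hN : ∀ u : ι → F₀, Q₀ u = 0 → u ≠ 0 → B₀ w u = 0 →
      ∃ (c : F) (r : ι → F₀), nPart B x y (rv F₀ u) = rv F₀ r + c • rv F₀ u := by
    intro u hu hu0 hwu
    set n := nPart B x y (rv F₀ u) with hn
    have hQu := X.q_rv hu
    have huw : B (rv F₀ u) (rv F₀ w) = 0 := by rw [C.symm, X.b_rv hwu]
    have hQn : Q n = 0 := by
      rw [hn, nPart, sub_eq_add_neg, ← neg_smul, C.smul_add, hx, hy, C.symm y x, hxy]; ring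
    have hun : B (rv F₀ u) n = 0 := by
      simp [hn, nPart, C.symm (rv F₀ u) x, C.symm (rv F₀ u) y]; ring
    have hnw : B n (rv F₀ w) = 0 := by simp [hn, nPart, hxw, hyw]
    have gw : (sGL Q B x y).val *ᵥ rv F₀ w = rv F₀ w := by
      rw [root_act_nPart C hx hy hxy, hNw, add_zero]
    have gu : (sGL Q B x y).val *ᵥ rv F₀ u = rv F₀ u + n := root_act_nPart C hx hy hxy _
    have gu' : ((sGL Q B x y)⁻¹ : GL ι F).val *ᵥ rv F₀ u = rv F₀ u - n := by
      refine act_injective (sGL Q B x y) ?_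
      show (sGL Q B x y).val *ᵥ _ = (sGL Q B x y).val *ᵥ _
      rw [act_inv, Matrix.mulVec_sub, gu, root_act_nPart C hx hy hxy n,
        show nPart B x y n = 0 by
          simp [hn, nPart, C.self_zero hx, C.self_zero hy, hxy, C.symm y x]]
      abel
    have gw' : ((sGL Q B x y)⁻¹ : GL ι F).val *ᵥ rv F₀ w = rv F₀ w := by
      refine act_injective (sGL Q B x y) ?_
      show (sGL Q B x y).val *ᵥ _ = (sGL Q B x y).val *ᵥ _
      rw [act_inv, gw]
    have hu' := X.sGL_rv (x := u) (a := w) hu (by rw [X.space₀.symm, hwu])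
    have h1 := mul_mem (mul_mem hS hu') (inv_mem hS)
    have h2' := mul_mem (mul_mem (inv_mem hS) hu') (inv_mem (inv_mem hS))
    rw [sGL_conj C hQu huw (X.le_iso hS), gu, gw] at h1
    rw [sGL_conj C hQu huw (X.le_iso (inv_mem hS)), gu', gw'] at h2'
    have h := mul_mem h1 h2'
    rw [two_conj C hQu hQn hun huw hnw] at h
    obtain ⟨c, r, hr⟩ := X.lambda hA hu hu0 (by simp [huw, hun]) h
    have hk : (2 * Q₀ w : F₀) ≠ 0 := mul_ne_zero h20 hQw
    refine ⟨-((((2 * Q₀ w)⁻¹ : F₀) : F) * c), (2 * Q₀ w)⁻¹ • ((2 : F₀) • w - r), ?_⟩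
    have hkF : ((2 * Q₀ w : F₀) : F) = 2 * Q (rv F₀ w) := by
      rw [X.compat]; push_cast; rfl
    rw [← hkF] at hr
    have e : ((2 * Q₀ w : F₀) : F) • n = rv F₀ ((2 : F₀) • w - r) - c • rv F₀ u := by
      rw [rv_sub', rv_smul, show ((2 : F₀) : F) = 2 from rfl]
      rw [sub_eq_iff_eq_add] at hr
      rw [hr]; abel
    have e' : n = (((2 * Q₀ w)⁻¹ : F₀) : F) • (((2 * Q₀ w : F₀) : F) • n) := by
      rw [smul_smul, ← MulMemClass.coe_mul, inv_mul_cancel₀ hk, OneMemClass.coe_one, one_smul]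
    rw [rv_smul, e', e]
    module
  have hc : ∀ u : ι → F₀, Q₀ u = 0 → B₀ w u = 0 → Ratv F₀ (nPart B x y (rv F₀ u)) := by
    intro u hu hwu
    by_cases hu0 : u = 0
    · rw [hu0, rv_zero']; simp [nPart, ratv_zero]
    have huspan : u ∉ Submodule.span F₀ (({w} : Finset (ι → F₀)) : Set (ι → F₀)) := by
      rw [Finset.coe_singleton]
      intro hm
      obtain ⟨t, rfl⟩ := Submodule.mem_span_singleton.mp hm
      have ht : t ≠ 0 := fun h => hu0 (by rw [h, zero_smul])
      rw [X.space₀.smul] at hu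
      exact hQw ((mul_eq_zero.mp hu).resolve_left (pow_ne_zero 2 ht))
    obtain ⟨u', hu', huu', hwu'⟩ := X.exists_sing_list {w} (by simp) huspan
    have hu'0 : u' ≠ 0 := fun h => by simp [h] at huu'
    have hwu' := hwu' w (by simp)
    obtain ⟨v, v', hV, hvA, -⟩ := X.exists_hyp_list {u, u', w}
      (Finset.card_le_three.trans (by norm_num))
    have hin : ∀ {z : ι → F₀}, z ∈ ({u, u', w} : Finset (ι → F₀)) → B₀ z v = 0 := fun hz =>
      hV.memE.2 _ (Submodule.subset_span hz)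
    have hv0 : v ≠ 0 := fun h => hvA (h ▸ Submodule.zero_mem _)
    obtain ⟨cu, ru, eu⟩ := hN u hu hu0 hwu
    obtain ⟨cu', ru', eu'⟩ := hN u' hu' hu'0 hwu'
    obtain ⟨cv, rw', ev⟩ := hN v hV.singE hv0 (hin (by simp))
    have hsum : cu + cu' ∈ F₀ := by
      have h := hskew (rv F₀ u) (rv F₀ u')
      rw [eu, eu'] at h
      simp only [map_add, map_smul, LinearMap.add_apply, LinearMap.smul_apply, X.B_rv, huu',
        smul_eq_mul, OneMemClass.coe_one, mul_one] at h
      rw [show cu + cu' = -((B₀ ru u' : F) + (B₀ u ru' : F)) by linear_combination h]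
      exact F₀.neg_mem (F₀.add_mem (SetLike.coe_mem _) (SetLike.coe_mem _))
    have diff : ∀ {p q : ι → F₀} {cp cq : F} {rp rq : ι → F₀}, Q₀ p = 0 → Q₀ q = 0 →
        B₀ p q = 0 → B₀ w p = 0 → B₀ w q = 0 → p ∉ Submodule.span F₀ {q} → q ≠ 0 →
        nPart B x y (rv F₀ p) = rv F₀ rp + cp • rv F₀ p →
        nPart B x y (rv F₀ q) = rv F₀ rq + cq • rv F₀ q → cp - cq ∈ F₀ := by
      intro p q cp cq rp rq hp hq hpq hwp hwq hind hq0 ep eq
      have hind' : q ∉ Submodule.span F₀ {p} := fun hm => by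
        obtain ⟨t, ht⟩ := Submodule.mem_span_singleton.mp hm
        have ht0 : t ≠ 0 := fun h => hq0 (by rw [← ht, h, zero_smul])
        exact hind (Submodule.mem_span_singleton.mpr
          ⟨t⁻¹, by rw [← ht, smul_smul, inv_mul_cancel₀ ht0, one_smul]⟩)
      have hs0 : p + q ≠ 0 := fun h => hind (Submodule.mem_span_singleton.mpr
        ⟨-1, by rw [eq_neg_of_add_eq_zero_left h]; simp⟩)
      obtain ⟨cs, rs, es⟩ := hN (p + q) (by rw [X.space₀.add, hp, hq, hpq]; simp) hs0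
        (by rw [map_add, hwp, hwq, add_zero])
      rw [rv_add, hadd, ep, eq] at es
      have hr : Ratv F₀ ((cs - cp) • rv F₀ p + (cs - cq) • rv F₀ q) :=
        ⟨rp + rq - rs, by
          rw [rv_sub', rv_add]
          linear_combination (norm := module) -es⟩
      have h1 := coeff_mem hind hr
      rw [add_comm] at hr
      have h2 := coeff_mem hind' hr
      simpa using F₀.sub_mem h2 h1
    have hvu : ∀ {z : ι → F₀}, z ∈ ({u, u', w} : Finset (ι → F₀)) →
        v ∉ Submodule.span F₀ {z} := fun hz hm =>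
      hvA (Submodule.span_mono (by simpa using hz) hm)
    have d1 := diff hV.singE hu (by rw [X.space₀.symm]; exact hin (by simp)) (hin (by simp)) hwu
      (hvu (by simp)) hu0 ev eu
    have d2 := diff hV.singE hu' (by rw [X.space₀.symm]; exact hin (by simp)) (hin (by simp)) hwu'
      (hvu (by simp)) hu'0 ev eu'
    have h2c : (2 : F) * cu ∈ F₀ := by
      rw [show (2 : F) * cu = (cu + cu') - (cv - cu) + (cv - cu') by ring]
      exact F₀.add_mem (F₀.sub_mem hsum d1) d2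
    have hcu : cu ∈ F₀ := by
      have := F₀.mul_mem (F₀.inv_mem (show (2 : F) ∈ F₀ from (2 : F₀).2)) h2c
      rwa [← mul_assoc, inv_mul_cancel₀ h2, one_mul] at this
    rw [eu]
    exact (ratv_rv ru).add ((ratv_rv u).smul hcu)
  obtain ⟨p, p', hP, -⟩ := X.exists_hyp_list {w} (by simp)
  have hperp : ∀ t : ι → F₀, B₀ w t = 0 → Ratv F₀ (nPart B x y (rv F₀ t)) := fun t ht => by
    have htP : t ∈ perpIn B₀ ⊤ (Submodule.span F₀ (({w} : Finset (ι → F₀)) : Set (ι → F₀))) :=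
      ⟨trivial, fun b hb => by
        rw [Finset.coe_singleton] at hb
        obtain ⟨c, rfl⟩ := Submodule.mem_span_singleton.mp hb
        rw [map_smul, LinearMap.smul_apply, ht, smul_zero]⟩
    have hsp := hP.span X.space₀ htP
    clear ht htP
    induction hsp using Submodule.span_induction with
    | mem v hv => exact hc v hv.2 (hv.1.2 w (Submodule.subset_span (by simp)))
    | zero => rw [rv_zero']; simp [nPart, ratv_zero]
    | add s t _ _ hs ht => rw [rv_add, hadd]; exact hs.add ht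
    | smul c s _ hs => rw [rv_smul, hsmul]; exact hs.smul c.2
  have hk : (2 * Q₀ w : F₀) ≠ 0 := mul_ne_zero h20 hQw
  set t : F₀ := B₀ w z / (2 * Q₀ w) with ht
  have h := hperp (z - t • w) (by
    rw [map_sub, map_smul, X.space₀.self, smul_eq_mul, ht, div_mul_cancel₀ _ hk, sub_self])
  have hz : z - t • w + t • w = z := sub_add_cancel _ _
  rwa [← hz, rv_add, rv_smul, hadd, hsmul, hNw, smul_zero, add_zero]

/-- The common line of two rational planes is rational. -/
theorem RatCtx.rat_line (hA : ¬ CaseA Q B Q₀ B₀ H) {x y y' : ι → F} (hx : Q x = 0) (hy : Q y = 0)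
    (hy' : Q y' = 0) (hxy : B x y = 0) (hxy' : B x y' = 0) (hS : sGL Q B x y ∈ H)
    (hS' : sGL Q B x y' ∈ H) {w : ι → F₀} (hw0 : w ≠ 0) (hw : Q₀ w = 0 ∨ (2 : F) ≠ 0)
    (hxw : B x (rv F₀ w) = 0) (hyw : B y (rv F₀ w) = 0) (hy'w : B y' (rv F₀ w) = 0)
    (hx0 : x ≠ 0) (hind : y ∉ Submodule.span F {x}) (hind' : y' ∉ Submodule.span F {x, y}) :
    ∃ (μ : F) (x₀ : ι → F₀), x = μ • rv F₀ x₀ := by
  classical
  have C := X.space
  -- rational vectors spanning the plane of `x` and `y`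
  have plane : ∀ {y : ι → F}, Q y = 0 → B x y = 0 → sGL Q B x y ∈ H → B y (rv F₀ w) = 0 →
      y ∉ Submodule.span F {x} →
      ∃ r₁ r₂ : ι → F₀, rv F₀ r₁ ∈ Submodule.span F {x, y} ∧ rv F₀ r₂ ∈ Submodule.span F {x, y} ∧
        ∃ c₁ c₂ d₁ d₂ : F, x = c₁ • rv F₀ r₁ + c₂ • rv F₀ r₂ ∧
          y = d₁ • rv F₀ r₁ + d₂ • rv F₀ r₂ := by
    intro y hy hxy hS hyw hind
    have hindx : x ∉ Submodule.span F {y} := fun hm => by
      obtain ⟨c, hc⟩ := Submodule.mem_span_singleton.mp hm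
      have hc0 : c ≠ 0 := fun h => hx0 (by rw [← hc, h, zero_smul])
      exact hind (Submodule.mem_span_singleton.mpr
        ⟨c⁻¹, by rw [← hc, smul_smul, inv_mul_cancel₀ hc0, one_smul]⟩)
    obtain ⟨s, t, hδ⟩ : ∃ s t : ι → F₀,
        B x (rv F₀ s) * B y (rv F₀ t) - B x (rv F₀ t) * B y (rv F₀ s) ≠ 0 := by
      by_contra hne
      push Not at hne
      have h1 : ∀ s v, B x (rv F₀ s) * B y v - B x v * B y (rv F₀ s) = 0 := fun s v => by
        have := eq_zero_of_rv (F₀ := F₀) (B x (rv F₀ s) • B y - B y (rv F₀ s) • B x)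
          (fun t => by simpa [mul_comm] using hne s t) v
        simpa [mul_comm] using this
      have h2 : ∀ u v, B x u * B y v - B x v * B y u = 0 := fun u v => by
        have := eq_zero_of_rv (F₀ := F₀) (B y v • B x - B x v • B y)
          (fun s => by simpa [mul_comm] using h1 s v) u
        simpa [mul_comm] using this
      obtain ⟨u, hu, hxu⟩ := C.exists_perp hindx
      obtain ⟨v, hv, hyv⟩ := C.exists_perp hind
      have := h2 u v
      rw [hu y (Submodule.mem_span_singleton_self y), hv x (Submodule.mem_span_singleton_self x),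
        hxu, hyv] at this
      simp at this
    obtain ⟨r₁, hr₁⟩ := X.rat_of_perp hA hx hy hxy hS hw0 hw hxw hyw s
    obtain ⟨r₂, hr₂⟩ := X.rat_of_perp hA hx hy hxy hS hw0 hw hxw hyw t
    have hmem : ∀ v, nPart B x y v ∈ Submodule.span F {x, y} := fun v =>
      Submodule.sub_mem _ (Submodule.smul_mem _ _ (Submodule.subset_span (by simp)))
        (Submodule.smul_mem _ _ (Submodule.subset_span (by simp)))
    set δ := B x (rv F₀ s) * B y (rv F₀ t) - B x (rv F₀ t) * B y (rv F₀ s) with hδd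
    refine ⟨r₁, r₂, hr₁ ▸ hmem _, hr₂ ▸ hmem _, δ⁻¹ * B x (rv F₀ t), -(δ⁻¹ * B x (rv F₀ s)),
      δ⁻¹ * B y (rv F₀ t), -(δ⁻¹ * B y (rv F₀ s)), ?_, ?_⟩ <;>
    · rw [← hr₁, ← hr₂, nPart, nPart]
      match_scalars <;> field_simp <;> rw [hδd] <;> ring
  obtain ⟨r₁, r₂, hr₁, hr₂, c₁, c₂, -, -, hx12, -⟩ := plane hy hxy hS hyw hind
  obtain ⟨s₁, s₂, -, -, e₁, e₂, f₁, f₂, hx12', hy12'⟩ := plane hy' hxy' hS' hy'w fun hm =>
    hind' (Submodule.span_mono (by simp) hm)
  have hrat : ∀ {p q : ι → F₀} {a b : F}, x = a • rv F₀ p + b • rv F₀ q →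
      p ∉ Submodule.span F₀ {r₁, r₂} → ∃ (μ : F) (x₀ : ι → F₀), x = μ • rv F₀ x₀ := by
    intro p q a b he hp
    obtain ⟨ψ, hψp, hψ⟩ := exists_dot_sep hp
    have h := congrArg (rv F₀ ψ ⬝ᵥ ·) (he.symm.trans hx12)
    simp only [dotProduct_add, dotProduct_smul, rv_dot, hψp,
      hψ r₁ (Submodule.subset_span (by simp)), hψ r₂ (Submodule.subset_span (by simp)),
      smul_eq_mul, OneMemClass.coe_one, ZeroMemClass.coe_zero, mul_one, mul_zero, add_zero] at h
    refine ⟨b, q - (ψ ⬝ᵥ q) • p, ?_⟩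
    rw [he, rv_sub', rv_smul, show a = -(b * ((ψ ⬝ᵥ q : F₀) : F)) by linear_combination h]
    module
  by_cases h1 : s₁ ∈ Submodule.span F₀ {r₁, r₂}
  swap
  · exact hrat hx12' h1
  by_cases h2 : s₂ ∈ Submodule.span F₀ {r₁, r₂}
  swap
  · exact hrat (hx12'.trans (add_comm _ _)) h2
  exfalso
  refine hind' ?_
  have hy'mem : ∀ {r : ι → F₀}, r ∈ Submodule.span F₀ {r₁, r₂} →
      rv F₀ r ∈ Submodule.span F {rv F₀ r₁, rv F₀ r₂} := fun hr => by
    obtain ⟨a, b, rfl⟩ := Submodule.mem_span_pair.mp hr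
    rw [rv_add, rv_smul, rv_smul]
    exact Submodule.mem_span_pair.mpr ⟨_, _, rfl⟩
  have hle : Submodule.span F {rv F₀ r₁, rv F₀ r₂} ≤ Submodule.span F {x, y} :=
    Submodule.span_le.mpr (by rintro _ (rfl | rfl) <;> assumption)
  rw [hy12']
  exact Submodule.add_mem _ (Submodule.smul_mem _ _ (hle (hy'mem h1)))
    (Submodule.smul_mem _ _ (hle (hy'mem h2)))

end Cfsg.Lib.Linear.OrthSub
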