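import Cfsg.Agent.Lib.Linear.OrthSympTransfer
import Cfsg.Agent.Lib.Linear.OrthCentralizerSpin
import Cfsg.Agent.Lib.Linear.OrthCenter
import Cfsg.Agent.Lib.Linear.OrthOdd

/-!
# Element orders `x * s` in odd orthogonal and symplectic groups

Elements of odd order prime to the characteristic, together with a commuting involution or element of
order `p`, transfer between `Ω_{2n+1}(q)` and `PSp_2n(q)`.
-/

set_option autoImplicit false

namespace Cfsg.Lib.Linear.SympGraph

open Module
open scoped Matrix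
open Cfsg.Lib.Linear.Orth
open Cfsg.Lib.Linear.OrthSympTransfer

variable {F : Type*} [Field F]

section Sum

variable {U W : Type*} [AddCommGroup U] [Module F U] [AddCommGroup W] [Module F W]

/-- The orthogonal sum of two forms. -/
def sumForm (b : LinearMap.BilinForm F U) (c : LinearMap.BilinForm F W) : LinearMap.BilinForm F (U × W) :=
  LinearMap.compl₁₂ b (LinearMap.fst F U W) (LinearMap.fst F U W) +
    LinearMap.compl₁₂ c (LinearMap.snd F U W) (LinearMap.snd F U W)

theorem sumForm_apply (b : LinearMap.BilinForm F U) (c : LinearMap.BilinForm F W) (x y : U × W) :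
    sumForm b c x y = b x.1 y.1 + c x.2 y.2 := rfl

theorem sumForm_nondeg {b : LinearMap.BilinForm F U} {c : LinearMap.BilinForm F W}
    (hb : ∀ a, (∀ v, b a v = 0) → a = 0) (hc : ∀ a, (∀ v, c a v = 0) → a = 0) :
    ∀ a, (∀ v, sumForm b c a v = 0) → a = 0 := fun a ha =>
  Prod.ext (hb _ fun v => by simpa [sumForm_apply] using ha (v, 0))
    (hc _ fun v => by simpa [sumForm_apply] using ha (0, v))

theorem sumForm_alt {b : LinearMap.BilinForm F U} {c : LinearMap.BilinForm F W} (hb : b.IsAlt) (hc : c.IsAlt) :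
    (sumForm b c).IsAlt := fun x => by rw [sumForm_apply, hb x.1, hc x.2, add_zero]

theorem sumForm_iso {b : LinearMap.BilinForm F U} {c : LinearMap.BilinForm F W} {S : Module.End F U}
    {R : Module.End F W} (hS : ∀ a v, b (S a) (S v) = b a v) (hR : ∀ a v, c (R a) (R v) = c a v) (x y : U × W) :
    sumForm b c (LinearMap.prodMap S R x) (LinearMap.prodMap S R y) = sumForm b c x y := by
  simp [sumForm_apply, hS, hR]

/-- Pairs of endomorphisms of the summands. -/
def pair : Module.End F U × Module.End F W →* Module.End F (U × W) :=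
  (LinearMap.prodMapRingHom F U W).toMonoidHom

theorem pair_apply (S : Module.End F U) (R : Module.End F W) : pair (S, R) = LinearMap.prodMap S R := rfl

theorem pair_injective : Function.Injective (pair : Module.End F U × Module.End F W → Module.End F (U × W)) := by
  rintro ⟨S, R⟩ ⟨S', R'⟩ h
  rw [pair_apply, pair_apply] at h
  refine Prod.ext (LinearMap.ext fun a => ?_) (LinearMap.ext fun a => ?_)
  · exact congrArg Prod.fst (LinearMap.congr_fun h (a, 0))
  · exact congrArg Prod.snd (LinearMap.congr_fun h (0, a))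

theorem orderOf_pair_one (S : Module.End F U) : orderOf (pair (S, (1 : Module.End F W))) = orderOf S := by
  rw [orderOf_injective pair pair_injective, Prod.orderOf_mk, orderOf_one, Nat.lcm_one_right]

theorem pair_commute {S S' : Module.End F U} {R R' : Module.End F W} (h1 : Commute S S') (h2 : Commute R R') :
    Commute (pair (S, R)) (pair (S', R')) :=
  (show Commute (S, R) (S', R') from Prod.ext h1.eq h2.eq).map pair

end Sum

variable [Fintype F]

section Targets

variable {V : Type*} [AddCommGroup V] [Module F V] [FiniteDimensional F V]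

theorem center_bot {ι : Type} [Fintype ι] [DecidableEq ι] {Q : (ι → F) → F} {B : LinearMap.BilinForm F (ι → F)}
    (C : Space Q B) (h2 : (2 : F) ≠ 0) (h7 : 7 ≤ Fintype.card ι) (hodd : Odd (Fintype.card ι)) :
    Subgroup.center ↥(Cfsg.Omega F Q) = ⊥ := by
  rw [eq_bot_iff]
  intro z hz
  rw [Subgroup.mem_bot]
  rcases omega_center_pm C h7 hz with h | h
  · exact Subtype.ext (Subtype.ext (Units.ext h))
  · exfalso
    have := Abelianization.commutator_subset_ker (detSpin Q) z.2
    have hdet : ((z : ↥(isometryGroup F Q)) : GL ι F).val.det = 1 :=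
      congrArg Units.val (congrArg Prod.fst this)
    rw [h, Matrix.det_neg, Matrix.det_one, mul_one, hodd.neg_one_pow] at hdet
    exact h2 (by linear_combination -hdet)

/-- Isometries as endomorphisms. -/
def endHom {ι : Type} [Fintype ι] [DecidableEq ι] (Q : (ι → F) → F) :
    ↥(isometryGroup F Q) →* Module.End F (ι → F) where
  toFun x := Matrix.toLin' (x : GL ι F).val
  map_one' := by simp [Module.End.one_eq_id]
  map_mul' x z := by simp [Matrix.toLin'_mul, Module.End.mul_eq_comp]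

theorem endHom_injective {ι : Type} [Fintype ι] [DecidableEq ι] (Q : (ι → F) → F) :
    Function.Injective (endHom Q) := fun _ _ h => Subtype.ext (Units.ext (Matrix.toLin'.injective h))

theorem det_endHom {ι : Type} [Fintype ι] [DecidableEq ι] (Q : (ι → F) → F) (x : ↥(isometryGroup F Q)) :
    LinearMap.det (endHom Q x) = ((detSpin Q x).1 : F) := by
  show LinearMap.det (Matrix.toLin' (x : GL ι F).val) = _
  rw [LinearMap.det_toLin']
  rfl

theorem space_odd (h2 : (2 : F) ≠ 0) (n : ℕ) : ∃ B, Space (Cfsg.quadFormOdd n F) B :=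
  exists_space (isQuad_odd (F := F) n h2)

/-- Isometries of any symmetric form of dimension `2 n + 1` give elements of `PΩ`. -/
theorem omega_order (h2 : (2 : F) ≠ 0) (b : LinearMap.BilinForm F V) (hsymm : ∀ x y, b x y = b y x)
    (hnd : ∀ a, (∀ c, b a c = 0) → a = 0) {n : ℕ} (hn : 3 ≤ n) (hdim : finrank F V = 2 * n + 1)
    {A : Module.End F V} (hA : ∀ x y, b (A x) (A y) = b x y) (hs : Odd (orderOf A)) :
    orderOf A ∈ Set.range (orderOf : Cfsg.POmega F (Cfsg.quadFormOdd n F) → ℕ) ∧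
      ∀ a c : Module.End F V, (∀ x y, b (a x) (a y) = b x y) → (∀ x y, b (c x) (c y) = b x y) →
        LinearMap.det a = 1 → LinearMap.det c = 1 → Commute A a → Commute A c → Commute a c →
        a ≠ 1 → c ≠ 1 → c ≠ a → a ^ 2 = 1 → (c ^ 2 = 1 ∨ c ^ 2 = a) →
        2 * orderOf A ∈ Set.range (orderOf : Cfsg.POmega F (Cfsg.quadFormOdd n F) → ℕ) := by
  classical
  obtain ⟨e, k, he⟩ := exists_toOrth h2 b hsymm hnd hdim
  obtain ⟨B, C⟩ := space_odd h2 n
  have hcard : Fintype.card (Unit ⊕ (Fin n ⊕ Fin n)) = 2 * n + 1 := card_odd_index n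
  have hinj : Function.Injective
      (QuotientGroup.mk' (Subgroup.center ↥(Cfsg.Omega F (Cfsg.quadFormOdd n F)))) := by
    rw [← MonoidHom.ker_eq_bot_iff, QuotientGroup.ker_mk']
    exact center_bot C h2 (by omega) (hcard ▸ ⟨n, rfl⟩)
  let ψ := LinearEquiv.conjAlgEquiv F e
  have hlift : ∀ T : Module.End F V, (∀ x y, b (T x) (T y) = b x y) →
      ∃ X : ↥(isometryGroup F (Cfsg.quadFormOdd n F)), endHom _ X = ψ T := fun T hT =>
    exists_iso C (T := ψ T) fun v => by
      obtain ⟨w, rfl⟩ := e.surjective v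
      show Cfsg.quadFormOdd n F (e (T (e.symm (e w)))) = _
      rw [e.symm_apply_apply, he, he, hT]
  have hdet : ∀ (T : Module.End F V) (X : ↥(isometryGroup F (Cfsg.quadFormOdd n F))), endHom _ X = ψ T →
      LinearMap.det T = 1 → (detSpin (Cfsg.quadFormOdd n F) X).1 = 1 := fun T X hX hT => Units.ext (by
    rw [← det_endHom, hX, Units.val_one, ← hT]
    exact LinearMap.det_conj T e)
  obtain ⟨XA, hXA⟩ := hlift A hA
  have hoA : orderOf XA = orderOf A := by
    rw [← orderOf_injective _ (endHom_injective _) XA, hXA]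
    exact ψ.toMulEquiv.orderOf_eq A
  have hmem : XA ∈ commutator ↥(isometryGroup F (Cfsg.quadFormOdd n F)) :=
    mem_omega_of_odd C h2 (by omega) (hoA ▸ hs) (pow_orderOf_eq_one XA)
  refine ⟨⟨QuotientGroup.mk' _ ⟨XA, hmem⟩, ?_⟩, fun a c ha hc hda hdc hAa hAc hac ha1 hc1 hca ha2 hc2 => ?_⟩
  · rw [orderOf_injective _ hinj, Subgroup.orderOf_mk, hoA]
  obtain ⟨Xa, hXa⟩ := hlift a ha
  obtain ⟨Xc, hXc⟩ := hlift c hc
  have hinjψ : Function.Injective (endHom (Cfsg.quadFormOdd n F)) := endHom_injective _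
  have hXa2 : Xa ^ 2 = 1 := hinjψ (by rw [map_pow, hXa, ← map_pow, ha2, map_one, map_one])
  have hXac : Commute Xa Xc := hinjψ (by rw [map_mul, map_mul, hXa, hXc]; exact (hac.map ψ).eq)
  obtain ⟨w, hw1, hw2, hwA, hwmem⟩ : ∃ w : ↥(isometryGroup F (Cfsg.quadFormOdd n F)), w ≠ 1 ∧ w ^ 2 = 1 ∧
      Commute w XA ∧ w ∈ commutator ↥(isometryGroup F (Cfsg.quadFormOdd n F)) := by
    have hcomA : ∀ {T : Module.End F V} {X : ↥(isometryGroup F (Cfsg.quadFormOdd n F))}, endHom _ X = ψ T →
        Commute A T → Commute X XA := fun hX hT =>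
      hinjψ (by rw [map_mul, map_mul, hX, hXA]; exact (hT.symm.map ψ).eq)
    have hne : ∀ {T T' : Module.End F V} {X X' : ↥(isometryGroup F (Cfsg.quadFormOdd n F))}, endHom _ X = ψ T →
        endHom _ X' = ψ T' → T ≠ T' → X ≠ X' := fun hX hX' h e =>
      h (ψ.injective (by rw [← hX, ← hX', e]))
    have hone : endHom (Cfsg.quadFormOdd n F) 1 = ψ (1 : Module.End F V) := by rw [map_one, map_one]
    have hXa1 : Xa ≠ 1 := hne hXa hone ha1
    have hXc1 : Xc ≠ 1 := hne hXc hone hc1
    rw [(omega_odd C h2 (by omega)).1]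
    have hker : ∀ X : ↥(isometryGroup F (Cfsg.quadFormOdd n F)), (detSpin (Cfsg.quadFormOdd n F) X).1 = 1 →
        spin (Cfsg.quadFormOdd n F) X = 1 → X ∈ (detSpin (Cfsg.quadFormOdd n F)).ker := fun X h1 h2' =>
      Prod.ext h1 h2'
    have hda' := hdet a Xa hXa hda
    have hdc' := hdet c Xc hXc hdc
    rcases Int.units_eq_one_or (spin (Cfsg.quadFormOdd n F) Xa) with ha0 | ha0
    · exact ⟨Xa, hXa1, hXa2, hcomA hXa hAa, hker _ hda' ha0⟩
    rcases hc2 with hc2 | hc2
    · have hXc2 : Xc ^ 2 = 1 := hinjψ (by rw [map_pow, hXc, ← map_pow, hc2, map_one, map_one])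
      rcases Int.units_eq_one_or (spin (Cfsg.quadFormOdd n F) Xc) with hc0 | hc0
      · exact ⟨Xc, hXc1, hXc2, hcomA hXc hAc, hker _ hdc' hc0⟩
      refine ⟨Xa * Xc, fun h => hne hXc hXa hca ?_, by rw [hXac.mul_pow, hXa2, hXc2, one_mul],
        (hcomA hXa hAa).mul_left (hcomA hXc hAc), hker _ (by rw [map_mul, Prod.fst_mul, hda', hdc', one_mul])
          (by rw [map_mul, ha0, hc0]; rfl)⟩
      calc Xc = (Xa * Xa) * Xc := by rw [← sq, hXa2, one_mul]
        _ = Xa * (Xa * Xc) := mul_assoc _ _ _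
        _ = Xa := by rw [h, mul_one]
    · exfalso
      have hXc2 : Xc ^ 2 = Xa := hinjψ (by rw [map_pow, hXc, ← map_pow, hc2, hXa])
      rw [← hXc2, map_pow, Int.units_sq] at ha0
      exact absurd ha0 (by decide)
  haveI : Fact (Nat.Prime 2) := ⟨Nat.prime_two⟩
  have hw : orderOf w = 2 := orderOf_eq_prime hw2 hw1
  refine ⟨QuotientGroup.mk' _ ⟨w * XA, mul_mem hwmem hmem⟩, ?_⟩
  rw [orderOf_injective _ hinj, Subgroup.orderOf_mk, hwA.orderOf_mul_eq_mul_orderOf_of_coprime
    (by rw [hw, hoA]; exact Nat.coprime_two_left.2 hs), hw, hoA]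

end Targets

section Restrict

variable {V : Type*} [AddCommGroup V] [Module F V]

theorem prod_det {U W : Submodule F V} (hUW : IsCompl U W) [FiniteDimensional F V] {S : Module.End F V}
    (hU : ∀ a ∈ U, S a ∈ U) (hW : ∀ a ∈ W, S a ∈ W) :
    LinearMap.det S = LinearMap.det (S.restrict hU) * LinearMap.det (S.restrict hW) := by
  let e := Submodule.prodEquivOfIsCompl U W hUW
  have he : ∀ x : U × W, e x = (x.1 : V) + x.2 := fun x => rfl
  have hconj : S = (e : (U × W) →ₗ[F] V) ∘ₗ (LinearMap.prodMap (S.restrict hU) (S.restrict hW)) ∘ₗ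
      (e.symm : V →ₗ[F] (U × W)) := by
    refine LinearMap.ext fun v => ?_
    obtain ⟨x, rfl⟩ := e.surjective v
    simp only [LinearMap.comp_apply, LinearEquiv.coe_coe, LinearEquiv.symm_apply_apply]
    rw [he, he, map_add]
    rfl
  conv_lhs => rw [hconj]
  rw [LinearMap.det_conj, LinearMap.det_prodMap]

theorem eq_of_restrict {U W : Submodule F V} (hUW : IsCompl U W) {S R : Module.End F V}
    (h1 : ∀ a ∈ U, S a = R a) (h2 : ∀ a ∈ W, S a = R a) : S = R := LinearMap.ext fun v => by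
  obtain ⟨v1, hv1, v2, hv2, rfl⟩ := Submodule.mem_sup.1 (hUW.sup_eq_top ▸ Submodule.mem_top : v ∈ U ⊔ W)
  rw [map_add, map_add, h1 v1 hv1, h2 v2 hv2]

/-- What a semisimple isometry of odd order splits off. -/
theorem split_data [FiniteDimensional F V] (B : LinearMap.BilinForm F V) {ε : F} (hε : ∀ a b, B b a = ε * B a b)
    (hnd : ∀ a, (∀ b, B a b = 0) → a = 0) {A : Module.End F V} (hAB : ∀ a b, B (A a) (A b) = B a b)
    (hs : Odd (orderOf A)) (hsF : (orderOf A : F) ≠ 0) :
    ∃ U W : Submodule F V, IsCompl U W ∧ (∀ a ∈ U, ∀ w ∈ W, B a w = 0) ∧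
      (∀ T : Module.End F V, Commute T A → (∀ a ∈ U, T a ∈ U) ∧ ∀ a ∈ W, T a ∈ W) ∧ (∀ w ∈ W, A w = w) ∧
      (∀ a ∈ U, A a = a → a = 0) ∧ (∀ a ∈ U, (∀ c ∈ U, B a c = 0) → a = 0) ∧
      (∀ a ∈ W, (∀ c ∈ W, B a c = 0) → a = 0) ∧
      ∃ bU : LinearMap.BilinForm F U, (∀ a c, bU c a = -ε * bU a c) ∧ (∀ a, (∀ c, bU a c = 0) → a = 0) ∧
        ∀ (T : Module.End F V) (hT : Commute T A) (hTU : ∀ a ∈ U, T a ∈ U),
          ((∀ a b, B (T a) (T b) = B a b) → ∀ a c, bU (T.restrict hTU a) (T.restrict hTU c) = bU a c) := by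
  obtain ⟨hUW, horth⟩ := split_of_pow B hsF (pow_orderOf_eq_one A) hAB
  set U := LinearMap.range (A - 1) with hUdef
  set W := LinearMap.ker (A - 1) with hWdef
  have hinvU : ∀ T : Module.End F V, Commute T A → ∀ a ∈ U, T a ∈ U := by
    rintro T hT _ ⟨a, rfl⟩
    exact ⟨T a, by rw [← Module.End.mul_apply, ← Module.End.mul_apply, (hT.sub_right (Commute.one_right T)).eq]⟩
  have hinvW : ∀ T : Module.End F V, Commute T A → ∀ a ∈ W, T a ∈ W := fun T hT a ha => by
    rw [hWdef, LinearMap.mem_ker] at ha ⊢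
    rw [← Module.End.mul_apply, ← (hT.sub_right (Commute.one_right T)).eq, Module.End.mul_apply, ha, map_zero]
  have hWfix : ∀ w ∈ W, A w = w := fun w hw => by
    rw [hWdef, LinearMap.mem_ker, LinearMap.sub_apply, Module.End.one_apply, sub_eq_zero] at hw; exact hw
  have hfix : ∀ a ∈ U, A a = a → a = 0 := fun a ha h => by
    refine (Submodule.mem_bot F).1 (hUW.inf_eq_bot ▸ (⟨ha, ?_⟩ : a ∈ U ⊓ W))
    show a ∈ W
    rw [hWdef, LinearMap.mem_ker, LinearMap.sub_apply, Module.End.one_apply, h, sub_self]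
  have hndU : ∀ a ∈ U, (∀ c ∈ U, B a c = 0) → a = 0 := fun a ha h => hnd a fun v => by
    obtain ⟨v1, hv1, v2, hv2, rfl⟩ := Submodule.mem_sup.1 (hUW.sup_eq_top ▸ Submodule.mem_top : v ∈ U ⊔ W)
    rw [map_add, h v1 hv1, (horth a ha v2 hv2).1, add_zero]
  have hndW : ∀ a ∈ W, (∀ c ∈ W, B a c = 0) → a = 0 := fun a ha h => hnd a fun v => by
    obtain ⟨v1, hv1, v2, hv2, rfl⟩ := Submodule.mem_sup.1 (hUW.sup_eq_top ▸ Submodule.mem_top : v ∈ U ⊔ W)
    rw [map_add, h v2 hv2, (horth v1 hv1 a ha).2, add_zero]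
  set Ai := A ^ (orderOf A - 1) with hAi
  have hpos : 0 < orderOf A := hs.pos
  have hAAi : A * Ai = 1 := by
    rw [hAi, ← pow_succ', Nat.sub_add_cancel hpos, pow_orderOf_eq_one]
  have hAiA : Ai * A = 1 := by
    rw [hAi, ← pow_succ, Nat.sub_add_cancel hpos, pow_orderOf_eq_one]
  let gU : Module.End F U := A.restrict (hinvU A (Commute.refl A))
  let gi : Module.End F U := Ai.restrict (hinvU Ai ((Commute.refl A).pow_left _))
  let B' : LinearMap.BilinForm F U := LinearMap.compl₁₂ B U.subtype U.subtype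
  have e1 : gU * gi = 1 := LinearMap.ext fun a => Subtype.ext (LinearMap.congr_fun hAAi a.1)
  have e2 : gi * gU = 1 := LinearMap.ext fun a => Subtype.ext (LinearMap.congr_fun hAiA a.1)
  have hpowU : gU ^ orderOf A = 1 := LinearMap.ext fun a => Subtype.ext (by
    rw [Module.End.pow_restrict, LinearMap.restrict_coe_apply, pow_orderOf_eq_one]; rfl)
  have hD := twist_injective hs hpowU e1 (fun a h => Subtype.ext (hfix a.1 a.2 (congrArg Subtype.val h)))
  refine ⟨U, W, hUW, fun a ha w hw => (horth a ha w hw).1, fun T hT => ⟨hinvU T hT, hinvW T hT⟩, hWfix, hfix,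
    hndU, hndW, twist B' gU gi, fun a c => twist_symm (B := B') (fun a b => hε a.1 b.1) e1 e2
      (fun a b => hAB a.1 b.1) a c,
    twist_nondeg hD (fun a h => Subtype.ext (hndU a.1 a.2 fun c hc => h ⟨c, hc⟩)), fun T hT hTU hTB a c => ?_⟩
  refine twist_iso ?_ ?_ (fun a b => hTB a.1 b.1) a c
  · exact LinearMap.ext fun x => Subtype.ext (LinearMap.congr_fun hT.eq x.1)
  · exact LinearMap.ext fun x => Subtype.ext (LinearMap.congr_fun (hT.pow_right _).eq x.1)

theorem isAlt_of_skew (h2 : (2 : F) ≠ 0) {b : LinearMap.BilinForm F V} (hb : ∀ a c, b c a = -(1 : F) * b a c) :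
    b.IsAlt := fun a => by
  have := hb a a
  exact (mul_eq_zero.1 (show (2 : F) * b a a = 0 by linear_combination this)).resolve_left h2

theorem orderOf_restrict {U W : Submodule F V} (hUW : IsCompl U W) {A : Module.End F V} (hU : ∀ a ∈ U, A a ∈ U)
    (hW : ∀ w ∈ W, A w = w) : orderOf (A.restrict hU) = orderOf A := by
  refine orderOf_eq_orderOf_iff.2 fun j => ?_
  have hWj : ∀ w ∈ W, (A ^ j) w = w := fun w hw => by
    induction j with
    | zero => rfl
    | succ j ih => rw [pow_succ', Module.End.mul_apply, ih, hW w hw]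
  refine ⟨fun h => eq_of_restrict hUW (fun a ha => ?_) (fun a ha => hWj a ha), fun h => ?_⟩
  · have := congrArg Subtype.val (LinearMap.congr_fun h ⟨a, ha⟩)
    rw [Module.End.pow_restrict, LinearMap.restrict_coe_apply] at this
    exact this
  · refine LinearMap.ext fun a => Subtype.ext ?_
    rw [Module.End.pow_restrict, LinearMap.restrict_coe_apply, h]
    rfl

end Restrict

section Witnesses

/-- An isometry of order `p` of the standard odd form. -/
theorem exists_unipotent (p : ℕ) [Fact p.Prime] [CharP F p] (h2 : (2 : F) ≠ 0) {k : ℕ}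
    {B₀ : LinearMap.BilinForm F (Unit ⊕ (Fin k ⊕ Fin k) → F)} (C₀ : Space (Cfsg.quadFormOdd k F) B₀) (hk : 1 ≤ k) :
    ∃ S : Module.End F (Unit ⊕ (Fin k ⊕ Fin k) → F),
      (∀ x y, B₀ (S x) (S y) = B₀ x y) ∧ S ^ p = 1 ∧ S ≠ 1 := by
  classical
  let i₀ : Fin k := ⟨0, hk⟩
  set e₀ : Unit ⊕ (Fin k ⊕ Fin k) → F := Pi.single (Sum.inr (Sum.inl i₀)) 1
  set u₀ : Unit ⊕ (Fin k ⊕ Fin k) → F := Pi.single (Sum.inl ()) 1
  set f₀ : Unit ⊕ (Fin k ⊕ Fin k) → F := Pi.single (Sum.inr (Sum.inr i₀)) 1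
  have he₀ : Cfsg.quadFormOdd k F e₀ = 0 := by simp [Cfsg.quadFormOdd, e₀, Pi.single_apply]
  have heu : B₀ e₀ u₀ = 0 := by
    rw [← C₀.polar]; simp [QuadraticMap.polar, Cfsg.quadFormOdd, e₀, u₀, Pi.single_apply]
  have hef : B₀ e₀ f₀ = 1 := by
    rw [← C₀.polar]; simp [QuadraticMap.polar, Cfsg.quadFormOdd, e₀, f₀, Pi.single_apply, Finset.sum_ite_eq']
  have hpow : ∀ j : ℕ, (sGL (Cfsg.quadFormOdd k F) B₀ e₀ u₀) ^ j =
      sGL (Cfsg.quadFormOdd k F) B₀ e₀ ((j : F) • u₀) := by
    intro j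
    induction j with
    | zero =>
      refine gl_ext fun x => ?_
      rw [sGL_act C₀ he₀ (by simp), pow_zero, Nat.cast_zero, zero_smul, smul_zero, map_zero, C₀.zero]
      simp
    | succ j ih =>
      rw [pow_succ, ih, sGL_mul C₀ he₀ (by rw [map_smul, heu, smul_zero]) heu]
      congr 1
      rw [Nat.cast_succ, add_smul, one_smul]
  let S := endHom (Cfsg.quadFormOdd k F) ⟨_, sGL_mem C₀ he₀ heu⟩
  have hS : ∀ x, S x = (sGL (Cfsg.quadFormOdd k F) B₀ e₀ u₀).val *ᵥ x := fun x => Matrix.toLin'_apply _ _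
  refine ⟨S, fun x y => by rw [hS, hS]; exact C₀.B_act (sGL_mem C₀ he₀ heu) x y, ?_, fun h => ?_⟩
  · rw [← map_pow]
    have h : (⟨_, sGL_mem C₀ he₀ heu⟩ : ↥(isometryGroup F (Cfsg.quadFormOdd k F))) ^ p = 1 := by
      refine Subtype.ext ?_
      rw [SubgroupClass.coe_pow, hpow, CharP.cast_eq_zero, zero_smul]
      refine gl_ext fun x => ?_
      rw [sGL_act C₀ he₀ (by simp), smul_zero, map_zero, C₀.zero]
      simp
    rw [h, map_one]
  · have h3 := congrFun (LinearMap.congr_fun h f₀) (Sum.inl ())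
    rw [hS, sGL_act C₀ he₀ heu, hef, Module.End.one_apply] at h3
    simp [e₀, u₀, f₀, Pi.single_apply] at h3

/-- Two sign changes in dimension at least three. -/
theorem exists_signs (h2 : (2 : F) ≠ 0) {N : ℕ} (B₁ : LinearMap.BilinForm F (Fin N → F))
    (hB₁ : ∀ x y, B₁ x y = x ⬝ᵥ y) (hN : 3 ≤ N) :
    ∃ a c : Module.End F (Fin N → F), (∀ x y, B₁ (a x) (a y) = B₁ x y) ∧ (∀ x y, B₁ (c x) (c y) = B₁ x y) ∧
      LinearMap.det a = 1 ∧ LinearMap.det c = 1 ∧ Commute a c ∧ a ≠ 1 ∧ c ≠ 1 ∧ c ≠ a ∧ a ^ 2 = 1 ∧ c ^ 2 = 1 := by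
  classical
  let sgn : (Fin N → Fˣ) → Module.End F (Fin N → F) := fun c => Matrix.toLin' (Matrix.diagonal fun i => (c i : F))
  let i₀ : Fin N := ⟨0, by omega⟩
  let i₁ : Fin N := ⟨1, by omega⟩
  let i₂ : Fin N := ⟨2, by omega⟩
  let c₁ : Fin N → Fˣ := fun i => (if i = i₀ then -1 else 1) * (if i = i₁ then -1 else 1)
  let c₂ : Fin N → Fˣ := fun i => (if i = i₁ then -1 else 1) * (if i = i₂ then -1 else 1)
  have hsq : ∀ i, c₁ i * c₁ i = 1 ∧ c₂ i * c₂ i = 1 := fun i => by
    constructor <;> simp only [c₁, c₂] <;> split_ifs <;> simp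
  have hmul : ∀ c c', sgn c * sgn c' = sgn (c * c') := fun c c' => by
    simp only [sgn, Module.End.mul_eq_comp, ← Matrix.toLin'_mul, Matrix.diagonal_mul_diagonal, Pi.mul_apply,
      Units.val_mul]
  have hone : sgn 1 = 1 := by simp [sgn, Module.End.one_eq_id]
  have hiso : ∀ c, (∀ i, c i * c i = 1) → ∀ x y, B₁ (sgn c x) (sgn c y) = B₁ x y := fun c hc x y => by
    simp only [hB₁, sgn, Matrix.toLin'_apply, dotProduct, Matrix.mulVec_diagonal]
    refine Finset.sum_congr rfl fun i _ => ?_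
    have : (c i : F) * c i = 1 := by rw [← Units.val_mul, hc, Units.val_one]
    linear_combination (x i * y i) * this
  have hdet : ∀ c, LinearMap.det (sgn c) = ((∏ i, c i : Fˣ) : F) := fun c => by
    show LinearMap.det (Matrix.toLin' (Matrix.diagonal fun i => (c i : F))) = _
    rw [LinearMap.det_toLin', Matrix.det_diagonal, Units.coe_prod]
  have hprod : ∀ a b : Fin N, ∏ i, ((if i = a then (-1 : Fˣ) else 1) * (if i = b then -1 else 1)) = 1 := fun a b => by
    rw [Finset.prod_mul_distrib, Finset.prod_ite_eq', Finset.prod_ite_eq', if_pos (Finset.mem_univ _),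
      if_pos (Finset.mem_univ _), neg_mul_neg, one_mul]
  have hinjs : ∀ c c', sgn c = sgn c' → ∀ i, (c i : F) = c' i := fun c c' h i => by
    have h' := congrFun (LinearMap.congr_fun h (Pi.single i 1)) i
    simpa [sgn, Matrix.toLin'_apply, Matrix.mulVec_single_one, Matrix.diagonal_apply] using h'
  have hm1 : ((-1 : Fˣ) : F) ≠ ((1 : Fˣ) : F) := fun h => h2 (by
    have h' : (-1 : F) = 1 := by simpa using h
    linear_combination -h')
  have hne01 : i₀ ≠ i₁ ∧ i₁ ≠ i₂ ∧ i₀ ≠ i₂ := by simp [i₀, i₁, i₂, Fin.ext_iff]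
  refine ⟨sgn c₁, sgn c₂, hiso _ fun i => (hsq i).1, hiso _ fun i => (hsq i).2,
    by rw [hdet, hprod, Units.val_one], by rw [hdet, hprod, Units.val_one],
    by rw [Commute, SemiconjBy, hmul, hmul, mul_comm c₁ c₂], fun h => ?_, fun h => ?_, fun h => ?_,
    by rw [sq, hmul, show c₁ * c₁ = 1 from funext fun i => (hsq i).1, hone],
    by rw [sq, hmul, show c₂ * c₂ = 1 from funext fun i => (hsq i).2, hone]⟩
  · have := hinjs c₁ 1 (h.trans hone.symm) i₀
    simp [c₁, hne01.1] at this
    exact hm1 (by simpa using this)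
  · have := hinjs c₂ 1 (h.trans hone.symm) i₂
    simp [c₂, hne01.2.1.symm] at this
    exact hm1 (by simpa using this)
  · have := hinjs c₂ c₁ h i₀
    simp [c₁, c₂, hne01.1, hne01.2.2] at this
    exact hm1 (by simpa using this.symm)

end Witnesses

section SpToOmega

/-- From `PSp_2n` to `Ω_{2n+1}`. -/
theorem sp_to_omega (p : ℕ) [Fact p.Prime] [CharP F p] (h2 : (2 : F) ≠ 0) {n : ℕ} (hn : 3 ≤ n)
    {V : Type*} [AddCommGroup V] [Module F V] [FiniteDimensional F V] (ω : LinearMap.BilinForm F V) (hω : ω.IsAlt)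
    (hnd : ∀ a, (∀ b, ω a b = 0) → a = 0) (hdim : finrank F V = 2 * n) {A : Module.End F V}
    (hA : ∀ a b, ω (A a) (A b) = ω a b) (hs : Odd (orderOf A)) (hsF : (orderOf A : F) ≠ 0) :
    orderOf A ∈ Set.range (orderOf : Cfsg.POmega F (Cfsg.quadFormOdd n F) → ℕ) ∧
      ∀ T : Module.End F V, (∀ a b, ω (T a) (T b) = ω a b) → Commute T A → T ≠ 1 → T ≠ -1 →
        (T ^ p = 1 → Nat.Coprime p (orderOf A) →
            p * orderOf A ∈ Set.range (orderOf : Cfsg.POmega F (Cfsg.quadFormOdd n F) → ℕ)) ∧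
          (T ^ 2 = 1 ∨ T ^ 2 = -1 → A ≠ 1 →
            2 * orderOf A ∈ Set.range (orderOf : Cfsg.POmega F (Cfsg.quadFormOdd n F) → ℕ)) := by
  classical
  obtain ⟨U, W, hUW, horth, hinv, hWfix, hfix, hndU, hndW, bU, hbU, hbUnd, hbUiso⟩ :=
    split_data ω (ε := -1) (fun a b => by rw [← LinearMap.IsAlt.neg hω a b]; ring) hnd hA hs hsF
  have hbsymm : ∀ a c : U, bU a c = bU c a := fun a c => by rw [hbU a c]; ring
  obtain ⟨d, -, hd, -⟩ := even_finrank (LinearMap.compl₁₂ ω U.subtype U.subtype) (fun a => hω a.1)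
    (fun a h => Subtype.ext (hndU a.1 a.2 fun c hc => h ⟨c, hc⟩))
  have hsum := Submodule.finrank_add_eq_of_isCompl hUW
  rw [hd, hdim] at hsum
  set k := n - d with hk
  have hkW : finrank F W = 2 * k := by omega
  have hdk : 2 * d + (2 * k + 1) = 2 * n + 1 := by omega
  -- two forms on the new fixed space
  obtain ⟨B₀, C₀⟩ := space_odd h2 k
  let B₁ : LinearMap.BilinForm F (Fin (2 * k + 1) → F) := Matrix.toBilin' 1
  have hB₁ : ∀ x y, B₁ x y = x ⬝ᵥ y := fun x y => by
    simp [B₁, Matrix.toBilin'_apply']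
  have hB₁nd : ∀ a, (∀ c, B₁ a c = 0) → a = 0 := fun a h => funext fun i => by
    simpa [hB₁] using h (Pi.single i 1)
  have hfin₁ : finrank F (U × (Fin (2 * k + 1) → F)) = 2 * n + 1 := by
    rw [Module.finrank_prod, hd, finrank_fintype_fun_eq_card, Fintype.card_fin, hdk]
  have hfin₀ : finrank F (U × (Unit ⊕ (Fin k ⊕ Fin k) → F)) = 2 * n + 1 := by
    rw [Module.finrank_prod, hd, finrank_fintype_fun_eq_card, card_odd_index, hdk]
  have hnd₀ : ∀ a, (∀ c, B₀ a c = 0) → a = 0 := fun a h => C₀.nondeg' h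
  let AU : Module.End F U := A.restrict (hinv A (Commute.refl A)).1
  have hoU : orderOf AU = orderOf A := orderOf_restrict hUW _ hWfix
  have hAUb := hbUiso A (Commute.refl A) (hinv A (Commute.refl A)).1 hA
  have hsy₀ : ∀ x y, sumForm bU B₀ x y = sumForm bU B₀ y x := fun x y => by
    rw [sumForm_apply, sumForm_apply, hbsymm, C₀.symm]
  have hsy₁ : ∀ x y, sumForm bU B₁ x y = sumForm bU B₁ y x := fun x y => by
    rw [sumForm_apply, sumForm_apply, hbsymm, hB₁, hB₁, dotProduct_comm]
  obtain ⟨hA₁, hA₁'⟩ := omega_order h2 (sumForm bU B₁) hsy₁ (sumForm_nondeg hbUnd hB₁nd) hn hfin₁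
    (A := pair (AU, 1)) (sumForm_iso hAUb (fun _ _ => rfl)) (by rw [orderOf_pair_one, hoU]; exact hs)
  rw [orderOf_pair_one, hoU] at hA₁ hA₁'
  refine ⟨hA₁, fun T hT hTA hT1 hT2 => ⟨fun hTp hcop => ?_, fun hT22 hA1 => ?_⟩⟩
  · -- order `p`
    have hp := (Fact.out : p.Prime)
    let TU : Module.End F U := T.restrict (hinv T hTA).1
    obtain ⟨R, hR, hR1, hRp⟩ : ∃ R : Module.End F U × Module.End F (Unit ⊕ (Fin k ⊕ Fin k) → F),
        (∀ x y, sumForm bU B₀ (pair R x) (pair R y) = sumForm bU B₀ x y) ∧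
          (pair R ≠ 1 ∧ Commute (pair R) (pair (AU, 1))) ∧ pair R ^ p = 1 := by
      by_cases hTU : TU = 1
      · have hk0 : 1 ≤ k := by
          by_contra hk0
          refine hT1 (eq_of_restrict hUW (fun a ha => congrArg Subtype.val (LinearMap.congr_fun hTU ⟨a, ha⟩)) ?_)
          intro a ha
          have : finrank F W = 0 := by omega
          rw [Submodule.finrank_eq_zero] at this
          rw [this, Submodule.mem_bot] at ha
          rw [ha, map_zero, map_zero]
        obtain ⟨S, hSB, hSp, hS1⟩ := exists_unipotent p h2 C₀ hk0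
        refine ⟨(1, S), sumForm_iso (fun _ _ => rfl) hSB,
          ⟨fun h => hS1 (congrArg Prod.snd (pair_injective (h.trans (map_one pair).symm))),
            pair_commute (Commute.one_left _) (Commute.one_right _)⟩,
          by rw [← map_pow, Prod.pow_mk, one_pow, hSp]; exact map_one pair⟩
      · refine ⟨(TU, 1), sumForm_iso (hbUiso T hTA (hinv T hTA).1 hT) (fun _ _ => rfl), ⟨fun h => hTU ?_,
          pair_commute ?_ (Commute.refl _)⟩, ?_⟩
        · exact congrArg Prod.fst (pair_injective (h.trans (map_one pair).symm))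
        · exact LinearMap.ext fun x => Subtype.ext (LinearMap.congr_fun hTA.eq x.1)
        · rw [← map_pow, Prod.pow_mk, one_pow]
          have : TU ^ p = 1 := LinearMap.ext fun a => Subtype.ext (by
            rw [Module.End.pow_restrict, LinearMap.restrict_coe_apply, hTp]; rfl)
          rw [this]
          exact map_one pair
    have hoR : orderOf (pair R) = p := orderOf_eq_prime hRp hR1.1
    have hord : orderOf (pair R * pair (AU, 1)) = p * orderOf A := by
      rw [hR1.2.orderOf_mul_eq_mul_orderOf_of_coprime (by rw [hoR, orderOf_pair_one, hoU]; exact hcop), hoR,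
        orderOf_pair_one, hoU]
    rw [← hord]
    refine (omega_order h2 (sumForm bU B₀) hsy₀ (sumForm_nondeg hbUnd hnd₀) hn hfin₀
      (A := pair R * pair (AU, 1)) (fun x y => ?_) ?_).1
    · rw [Module.End.mul_apply, Module.End.mul_apply, hR]
      exact sumForm_iso hAUb (fun _ _ => rfl) x y
    · rw [hord]
      exact ((Fact.out : p.Prime).odd_of_ne_two fun h => h2 (by
        have := CharP.cast_eq_zero F p
        rwa [h, Nat.cast_ofNat] at this)).mul hs
  · -- order two
    haveI : Nontrivial U := by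
      by_contra hU
      rw [not_nontrivial_iff_subsingleton] at hU
      refine hA1 (eq_of_restrict hUW (fun a ha => ?_) (fun a ha => hWfix a ha))
      rw [show a = 0 from congrArg Subtype.val (Subsingleton.elim (⟨a, ha⟩ : U) 0), map_zero, map_zero]
    by_cases hk0 : k = 0
    · let TU : Module.End F U := T.restrict (hinv T hTA).1
      let S₁ : Module.End F (U × (Fin (2 * k + 1) → F)) := pair (-1, 1)
      let S₂ : Module.End F (U × (Fin (2 * k + 1) → F)) := pair (TU, 1)
      have hW0 : ∀ a ∈ W, a = 0 := fun a ha => by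
        have : finrank F W = 0 := by omega
        rw [Submodule.finrank_eq_zero] at this
        rwa [this, Submodule.mem_bot] at ha
      have hTU1 : TU ≠ 1 := fun h => hT1 (eq_of_restrict hUW
        (fun a ha => congrArg Subtype.val (LinearMap.congr_fun h ⟨a, ha⟩))
        (fun a ha => by rw [hW0 a ha, map_zero, map_zero]))
      have hTU2 : TU ≠ -1 := fun h => hT2 (eq_of_restrict hUW
        (fun a ha => congrArg Subtype.val (LinearMap.congr_fun h ⟨a, ha⟩))
        (fun a ha => by rw [hW0 a ha, map_zero, map_zero]))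
      have hne : (-1 : Module.End F U) ≠ 1 := fun h => by
        obtain ⟨v, hv⟩ := exists_ne (0 : U)
        have h5 := LinearMap.congr_fun h v
        rw [LinearMap.neg_apply, Module.End.one_apply, neg_eq_iff_add_eq_zero, ← two_smul F, smul_eq_zero] at h5
        exact hv (h5.resolve_left h2)
      refine hA₁' S₁ S₂ (sumForm_iso (fun a c => by simp) fun _ _ => rfl)
        (sumForm_iso (hbUiso T hTA (hinv T hTA).1 hT) fun _ _ => rfl) ?_ ?_ (pair_commute (LinearMap.ext fun a => by simp) (Commute.refl _))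
        (pair_commute (LinearMap.ext fun x => Subtype.ext (LinearMap.congr_fun hTA.symm.eq x.1)) (Commute.refl _))
        (pair_commute (LinearMap.ext fun a => by simp) (Commute.refl _))
        (fun h => hne (congrArg Prod.fst (pair_injective (h.trans (map_one pair).symm))))
        (fun h => hTU1 (congrArg Prod.fst (pair_injective (h.trans (map_one pair).symm))))
        (fun h => hTU2 (congrArg Prod.fst (pair_injective h)))
        (by rw [← map_pow, Prod.pow_mk, one_pow, show (-1 : Module.End F U) ^ 2 = 1 from LinearMap.ext fun a => by simp [sq]]; exact map_one pair) ?_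
      · show LinearMap.det (LinearMap.prodMap (-1 : Module.End F U) (1 : Module.End F (Fin (2 * k + 1) → F)) : Module.End F (U × (Fin (2 * k + 1) → F))) = 1
        rw [LinearMap.det_prodMap, ← neg_one_smul F (1 : Module.End F U), LinearMap.det_smul, map_one, map_one,
          hd, pow_mul, neg_one_sq, one_pow]
        simp
      · show LinearMap.det (LinearMap.prodMap TU (1 : Module.End F (Fin (2 * k + 1) → F)) : Module.End F (U × (Fin (2 * k + 1) → F))) = 1
        rw [LinearMap.det_prodMap, map_one, mul_one]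
        exact det_eq_one (LinearMap.compl₁₂ ω U.subtype U.subtype) (fun a => hω a.1)
          (fun a h => Subtype.ext (hndU a.1 a.2 fun c hc => h ⟨c, hc⟩)) (fun a c => hT a.1 c.1)
      · rcases hT22 with h | h
        · left
          rw [← map_pow, Prod.pow_mk, one_pow, show TU ^ 2 = 1 from LinearMap.ext fun a => Subtype.ext (by
            rw [Module.End.pow_restrict, LinearMap.restrict_coe_apply, h]; rfl)]
          exact map_one pair
        · right
          rw [← map_pow, Prod.pow_mk, one_pow, show TU ^ 2 = -1 from LinearMap.ext fun a => Subtype.ext (by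
            rw [Module.End.pow_restrict, LinearMap.restrict_coe_apply, h]; rfl)]
    · obtain ⟨a, c, hab, hcb, had, hcd, hac, ha1, hc1, hca, ha2, hc2⟩ :=
        exists_signs h2 B₁ hB₁ (show 3 ≤ 2 * k + 1 by omega)
      refine hA₁' (pair (1, a)) (pair (1, c)) (sumForm_iso (fun _ _ => rfl) hab) (sumForm_iso (fun _ _ => rfl) hcb)
        ?_ ?_ (pair_commute (Commute.one_right _) (Commute.one_left _))
        (pair_commute (Commute.one_right _) (Commute.one_left _)) (pair_commute (Commute.refl _) hac)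
        (fun h => ha1 (congrArg Prod.snd (pair_injective (h.trans (map_one pair).symm))))
        (fun h => hc1 (congrArg Prod.snd (pair_injective (h.trans (map_one pair).symm))))
        (fun h => hca (congrArg Prod.snd (pair_injective h)))
        (by rw [← map_pow, Prod.pow_mk, one_pow, ha2]; exact map_one pair)
        (Or.inl (by rw [← map_pow, Prod.pow_mk, one_pow, hc2]; exact map_one pair))
      · show LinearMap.det (LinearMap.prodMap (1 : Module.End F U) a : Module.End F (U × (Fin (2 * k + 1) → F))) = 1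
        rw [LinearMap.det_prodMap, map_one, one_mul, had]
      · show LinearMap.det (LinearMap.prodMap (1 : Module.End F U) c : Module.End F (U × (Fin (2 * k + 1) → F))) = 1
        rw [LinearMap.det_prodMap, map_one, one_mul, hcd]

end SpToOmega

section Hard

variable {U : Type*} [AddCommGroup U] [Module F U] [FiniteDimensional F U]

/-- A nondegenerate proper invariant subspace gives a commuting involution. -/
theorem reflect_of_proper (h2 : (2 : F) ≠ 0) (b : LinearMap.BilinForm F U) (hsymm : ∀ a c, b a c = b c a) {g : Module.End F U}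
    (hgb : ∀ a c, b (g a) (g c) = b a c) {R : Submodule F U} (hR : ∀ a ∈ R, g a ∈ R) (hR0 : R ≠ ⊥) (hR1 : R ≠ ⊤)
    (hRnd : ∀ a ∈ R, (∀ c ∈ R, b a c = 0) → a = 0) :
    ∃ T : Module.End F U, Commute T g ∧ (∀ a c, b (T a) (T c) = b a c) ∧ T ^ 2 = 1 ∧ T ≠ 1 ∧ T ≠ -1 := by
  classical
  haveI : Finite U := Module.finite_of_finite F
  let R' : Submodule F U :=
    { carrier := {v | ∀ c ∈ R, b v c = 0}
      zero_mem' := fun c _ => by simp
      add_mem' := fun {x y} hx hy c hc => by rw [map_add, LinearMap.add_apply, hx c hc, hy c hc, add_zero]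
      smul_mem' := fun r x hx c hc => by rw [map_smul, LinearMap.smul_apply, hx c hc, smul_zero] }
  have hcompl : IsCompl R R' := by
    refine IsCompl.of_eq ((Submodule.eq_bot_iff _).2 fun v hv => hRnd v hv.1 hv.2) (eq_top_iff.2 fun v _ => ?_)
    have hinj : Function.Injective ((LinearMap.compl₁₂ b R.subtype R.subtype) : R → R →ₗ[F] F) :=
      (injective_iff_map_eq_zero _).2 fun a ha => Subtype.ext (hRnd a.1 a.2 fun c hc => LinearMap.congr_fun ha ⟨c, hc⟩)
    obtain ⟨a, ha⟩ := (LinearMap.injective_iff_surjective_of_finrank_eq_finrank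
      (show finrank F R = finrank F (R →ₗ[F] F) from (Subspace.dual_finrank_eq).symm)).1 hinj ((b v).comp R.subtype)
    rw [show v = (a : U) + (v - a) by abel]
    refine Submodule.add_mem_sup a.2 fun c hc => ?_
    have h : b (a : U) c = b v c := LinearMap.congr_fun ha ⟨c, hc⟩
    rw [map_sub, LinearMap.sub_apply, h, sub_self]
  have hsurjg : ∀ c ∈ R, ∃ c' ∈ R, g c' = c := by
    intro c hc
    have hinj : Function.Injective (g.restrict hR) := (injective_iff_map_eq_zero _).2 fun a ha =>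
      Subtype.ext (hRnd a.1 a.2 fun c hc => by
        rw [← hgb, show g a.1 = 0 from congrArg Subtype.val ha, map_zero, LinearMap.zero_apply])
    obtain ⟨c', hc'⟩ := (LinearMap.injective_iff_surjective.1 hinj) ⟨c, hc⟩
    exact ⟨c'.1, c'.2, congrArg Subtype.val hc'⟩
  have hR' : ∀ a ∈ R', g a ∈ R' := fun a ha c hc => by
    obtain ⟨c', hc', rfl⟩ := hsurjg c hc
    rw [hgb]
    exact ha c' hc'
  let e := Submodule.prodEquivOfIsCompl R R' hcompl
  have he : ∀ x : R × R', e x = (x.1 : U) + x.2 := fun x => rfl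
  let T : Module.End F U := e.toLinearMap ∘ₗ LinearMap.prodMap (-1) 1 ∘ₗ e.symm.toLinearMap
  have hT : ∀ x : R × R', T (e x) = -(x.1 : U) + x.2 := fun x => by
    show e (LinearMap.prodMap (-1) 1 (e.symm (e x))) = _
    rw [LinearEquiv.symm_apply_apply, he]
    simp
  have hTR : ∀ a ∈ R, T a = -a := fun a ha => by
    have := hT (⟨a, ha⟩, 0)
    simpa [he] using this
  have hTR' : ∀ a ∈ R', T a = a := fun a ha => by
    have := hT (0, ⟨a, ha⟩)
    simpa [he] using this
  refine ⟨T, eq_of_restrict hcompl (fun a ha => ?_) (fun a ha => ?_), fun a c => ?_,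
    eq_of_restrict hcompl (fun a ha => ?_) (fun a ha => ?_), fun h => ?_, fun h => ?_⟩
  · rw [Module.End.mul_apply, Module.End.mul_apply, hTR _ (hR a ha), hTR a ha, map_neg]
  · rw [Module.End.mul_apply, Module.End.mul_apply, hTR' _ (hR' a ha), hTR' a ha]
  · obtain ⟨x, rfl⟩ := e.surjective a
    obtain ⟨z, rfl⟩ := e.surjective c
    have h1 : b (x.2 : U) z.1 = 0 := x.2.2 _ z.1.2
    have h3 : b (x.1 : U) z.2 = 0 := by rw [hsymm]; exact z.2.2 _ x.1.2
    rw [hT, hT, he, he]
    simp only [map_add, map_neg, LinearMap.add_apply, LinearMap.neg_apply, h1, h3]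
    ring
  · rw [sq, Module.End.mul_apply, hTR a ha, map_neg, hTR a ha, neg_neg]; rfl
  · rw [sq, Module.End.mul_apply, hTR' a ha, hTR' a ha]; rfl
  · obtain ⟨a, ha, ha0⟩ := (Submodule.ne_bot_iff _).1 hR0
    have h' := hTR a ha
    rw [h, Module.End.one_apply, eq_neg_iff_add_eq_zero, ← two_smul F, smul_eq_zero] at h'
    exact ha0 (h'.resolve_left h2)
  · refine hR1 (eq_top_iff.2 fun v _ => ?_)
    obtain ⟨x, rfl⟩ := e.surjective v
    have h' := hT x
    rw [h, LinearMap.neg_apply, Module.End.one_apply, he, neg_add, add_right_inj, neg_eq_iff_add_eq_zero,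
      ← two_smul F, smul_eq_zero] at h'
    rw [he, h'.resolve_left h2, add_zero]
    exact x.1.2

universe w

/-- A commuting involution, or a torus with an odd number of orbits on each level set. -/
theorem involution_or_torus (p : ℕ) [Fact p.Prime] [CharP F p] (h2 : (2 : F) ≠ 0)
    (b : LinearMap.BilinForm F U) (hsymm : ∀ a c, b a c = b c a) (hnd : ∀ a, (∀ c, b a c = 0) → a = 0)
    {g : Module.End F U} {r : ℕ} [hr : Fact r.Prime] (hgr : g ^ r = 1) (hrF : (r : F) ≠ 0)
    (hgb : ∀ a c, b (g a) (g c) = b a c) (hfix : ∀ a, g a = a → a = 0) {d : ℕ} (hd0 : d ≠ 0)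
    (hd : finrank F U = 2 * d) :
    (∃ T : Module.End F U, Commute T g ∧ (∀ a c, b (T a) (T c) = b a c) ∧ T ^ 2 = 1 ∧ T ≠ 1 ∧ T ≠ -1) ∨
    ∃ (N : ℕ) (σ : Module.End F U), Even N ∧ 0 < N ∧ Commute σ g ∧ (∀ a c, b (σ a) (σ c) = b a c) ∧ σ ^ N = 1 ∧
      (∀ (j : ℕ) (v : U), v ≠ 0 → (σ ^ j) v = v → N ∣ j) ∧
      ∀ (W : Type w) [AddCommGroup W] [Finite W] (f : W → F), f 0 = 0 → (∀ w, f (-w) = f w) →
        (∀ w : W, w + w = 0 → w = 0) → Odd (Nat.card W) →
        ∃ K, Odd K ∧ Nat.card {x : U × W // x.1 ≠ 0 ∧ (2 : F)⁻¹ * b x.1 x.1 + f x.2 = 1} = N * K := by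
  classical
  haveI : Finite U := Module.finite_of_finite F
  haveI : Nontrivial U := Module.finrank_pos_iff (R := F).1 (by omega)
  by_cases hprop : ∃ R : Submodule F U, (∀ a ∈ R, g a ∈ R) ∧ R ≠ ⊥ ∧ R ≠ ⊤ ∧
      ∀ a ∈ R, (∀ c ∈ R, b a c = 0) → a = 0
  · obtain ⟨R, h1, h2', h3, h4⟩ := hprop
    exact Or.inl (reflect_of_proper h2 b hsymm hgb h1 h2' h3 h4)
  refine Or.inr ?_
  push Not at hprop
  set q := Fintype.card F with hq
  have hqodd : Odd q := by
    obtain ⟨j, hj⟩ := FiniteField.card F p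
    rw [hq, hj.2]
    exact ((Fact.out : p.Prime).odd_of_ne_two fun h => h2 (by
      have := CharP.cast_eq_zero F p
      rwa [h, Nat.cast_ofNat] at this)).pow
  by_cases hsimple : ∀ R : Submodule F U, (∀ a ∈ R, g a ∈ R) → R = ⊥ ∨ R = ⊤
  · have hy := CentralizerSpin.pow_eq_one_of_simple p g hgr hfix hsimple hd0 hd
    obtain ⟨σ, hσ, hσb, hσN, hσfree⟩ := TorusSign.exists_norm_generator p b hd0 rfl hd hy hgb hsimple
    refine ⟨q ^ d + 1, σ, by rw [Nat.even_add_one, Nat.not_even_iff_odd]; exact hqodd.pow, Nat.succ_pos _,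
      hσ, hσb, hσN, hσfree, fun W _ _ f hf0 hf hW _ => ?_⟩
    exact (TorusSign.torus b g p h2 hd0 rfl hd hsymm hnd hy hgb hsimple).2 W f hf0 hf hW
  push Not at hsimple
  obtain ⟨R₀, hR₀, hR₀0, hR₀1⟩ := hsimple
  let S : Set (Submodule F U) := {R | (∀ a ∈ R, g a ∈ R) ∧ R ≠ ⊥ ∧ R ≠ ⊤}
  obtain ⟨P, ⟨hP, hP0, hP1⟩, hPmin⟩ := (wellFounded_lt (α := Submodule F U)).has_min S ⟨R₀, hR₀, hR₀0, hR₀1⟩
  have hmin : ∀ R : Submodule F U, (∀ a ∈ R, g a ∈ R) → R ≤ P → R = ⊥ ∨ R = P := fun R hR hle => by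
    by_contra hne
    push Not at hne
    exact hPmin R ⟨hR, hne.1, fun h => hP1 (top_le_iff.1 (h ▸ hle))⟩ (lt_of_le_of_ne hle hne.2)
  set gi := g ^ (r - 1) with hgi
  have hr1 : 1 ≤ r := hr.out.one_lt.le
  have hggi : g * gi = 1 := by rw [hgi, ← pow_succ', Nat.sub_add_cancel hr1, hgr]
  have hgig : gi * g = 1 := by rw [hgi, ← pow_succ, Nat.sub_add_cancel hr1, hgr]
  have hinv : ∀ {R : Submodule F U}, (∀ a ∈ R, g a ∈ R) → ∀ a ∈ R, gi a ∈ R := fun {R} hR a ha => by
    have : ∀ j, (g ^ j) a ∈ R := fun j => by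
      induction j with
      | zero => exact ha
      | succ j ih => rw [pow_succ', Module.End.mul_apply]; exact hR _ ih
    exact this _
  let perp : Submodule F U → Submodule F U := fun R =>
    { carrier := {v | ∀ c ∈ R, b v c = 0}
      zero_mem' := fun c _ => by simp
      add_mem' := fun {x y} hx hy c hc => by rw [map_add, LinearMap.add_apply, hx c hc, hy c hc, add_zero]
      smul_mem' := fun r x hx c hc => by rw [map_smul, LinearMap.smul_apply, hx c hc, smul_zero] }
  have hperp : ∀ {R : Submodule F U}, (∀ a ∈ R, g a ∈ R) → ∀ a ∈ perp R, g a ∈ perp R := fun {R} hR a ha c hc => by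
    rw [show c = g (gi c) by rw [← Module.End.mul_apply, hggi, Module.End.one_apply], hgb]
    exact ha _ (hinv hR c hc)
  have hiso : ∀ a ∈ P, ∀ c ∈ P, b a c = 0 := by
    obtain ⟨a, ha, hperp0, ha0⟩ := hprop P hP hP0 hP1
    rcases hmin (P ⊓ perp P) (fun v hv => ⟨hP v hv.1, hperp hP v hv.2⟩) inf_le_left with h | h
    · exact absurd ((Submodule.mem_bot F).1 (h ▸ (⟨ha, hperp0⟩ : a ∈ P ⊓ perp P))) ha0
    · intro a ha c hc
      exact (h.symm.le ha : a ∈ P ⊓ perp P).2 c hc
  -- an invariant complement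
  have hss : g.IsSemisimple := by
    refine Module.End.isSemisimple_of_squarefree_aeval_eq_zero (p := Polynomial.X ^ r - Polynomial.C (1 : F))
      (Polynomial.separable_X_pow_sub_C 1 hrF one_ne_zero).squarefree ?_
    simp [hgr]
  obtain ⟨D, hD, hcompl⟩ : ∃ D : Submodule F U, (∀ a ∈ D, g a ∈ D) ∧ IsCompl (perp P) D := by
    obtain ⟨D, hcompl⟩ := (Module.End.isSemisimple_iff'.1 hss) ⟨perp P, fun a ha => hperp hP a ha⟩
    exact ⟨D.1, fun a ha => D.2 ha, (Module.End.invtSubmodule.isCompl_iff g).1 hcompl⟩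
  have hPperp : P ≤ perp P := fun a ha c hc => hiso a ha c hc
  have hpair : ∀ a ∈ P, (∀ x ∈ D, b a x = 0) → a = 0 := fun a ha h => hnd a fun v => by
    obtain ⟨v1, hv1, v2, hv2, rfl⟩ := Submodule.mem_sup.1 (hcompl.sup_eq_top ▸ Submodule.mem_top : v ∈ perp P ⊔ D)
    rw [map_add, hsymm a v1, hv1 a ha, h v2 hv2, add_zero]
  have hPD : P ⊔ D = ⊤ ∧ P ⊓ D = ⊥ := by
    have hinf : P ⊓ D = ⊥ := eq_bot_iff.2 ((inf_le_inf_right D hPperp).trans hcompl.inf_eq_bot.le)
    refine ⟨by_contra fun htop => ?_, hinf⟩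
    have hinvPD : ∀ a ∈ P ⊔ D, g a ∈ P ⊔ D := fun a ha => by
      obtain ⟨a1, ha1, a2, ha2, rfl⟩ := Submodule.mem_sup.1 ha
      rw [map_add]
      exact Submodule.add_mem_sup (hP _ ha1) (hD _ ha2)
    have hne : P ⊔ D ≠ ⊥ := fun h => hP0 (eq_bot_iff.2 (le_sup_left.trans h.le))
    obtain ⟨a, ha, hperp0, ha0⟩ := hprop _ hinvPD hne htop
    obtain ⟨a1, ha1, a2, ha2, rfl⟩ := Submodule.mem_sup.1 ha
    have hx : a2 = 0 := by
      refine (Submodule.mem_bot F).1 (hcompl.inf_eq_bot ▸ (⟨fun c hc => ?_, ha2⟩ : a2 ∈ perp P ⊓ D))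
      have h := hperp0 c (Submodule.mem_sup_left hc)
      rwa [map_add, LinearMap.add_apply, hiso a1 ha1 c hc, zero_add] at h
    subst hx
    rw [add_zero] at hperp0 ha0
    exact ha0 (hpair a1 ha1 fun x hx => hperp0 x (Submodule.mem_sup_right hx))
  have hsimpleP : ∀ R : Submodule F P, (∀ a ∈ R, g.restrict hP a ∈ R) → R = ⊥ ∨ R = ⊤ := fun R hR => by
    rcases hmin (R.map P.subtype) (fun v hv => by
        obtain ⟨a, ha, rfl⟩ := Submodule.mem_map.1 hv
        exact Submodule.mem_map.2 ⟨g.restrict hP a, hR a ha, rfl⟩) (Submodule.map_subtype_le P R) with h | h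
    · exact Or.inl (Submodule.map_injective_of_injective P.injective_subtype (h.trans (Submodule.map_bot _).symm))
    · exact Or.inr (Submodule.map_injective_of_injective P.injective_subtype
        (h.trans (by rw [Submodule.map_top, Submodule.range_subtype])))
  have hDiso : ∀ a ∈ D, ∀ c ∈ D, b a c = 0 := by
    have hD0 : D ≠ ⊥ := fun h => hP1 (by rw [← hPD.1, h, sup_bot_eq])
    have hD1 : D ≠ ⊤ := fun h => hP0 (by rw [← inf_top_eq P, ← h, hPD.2])
    obtain ⟨a, ha, hperp0, ha0⟩ := hprop D hD hD0 hD1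
    set R := D ⊓ perp D
    have hR : ∀ v ∈ R, g v ∈ R := fun v hv => ⟨hD v hv.1, hperp hD v hv.2⟩
    rcases hmin (P ⊓ perp R) (fun v hv => ⟨hP v hv.1, hperp hR v hv.2⟩) inf_le_left with h | h
    · -- then `R` is as large as `D`
      suffices hRD : R = D by
        intro x hx c hc
        exact (hRD ▸ hx : x ∈ R).2 c hc
      refine Submodule.eq_of_le_of_finrank_le inf_le_left ?_
      have hinj1 : Function.Injective ((LinearMap.compl₁₂ b P.subtype R.subtype) : P → R →ₗ[F] F) :=
        (injective_iff_map_eq_zero _).2 fun v hv => Subtype.ext ((Submodule.mem_bot F).1 (h ▸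
          (⟨v.2, fun c hc => LinearMap.congr_fun hv ⟨c, hc⟩⟩ : v.1 ∈ P ⊓ perp R)))
      have hinj2 : Function.Injective ((LinearMap.compl₁₂ b D.subtype P.subtype) : D → P →ₗ[F] F) :=
        (injective_iff_map_eq_zero _).2 fun v hv => Subtype.ext ((Submodule.mem_bot F).1 (hcompl.inf_eq_bot ▸
          (⟨fun c hc => LinearMap.congr_fun hv ⟨c, hc⟩, v.2⟩ : v.1 ∈ perp P ⊓ D)))
      have h1 := LinearMap.finrank_le_finrank_of_injective hinj1
      have h3 := LinearMap.finrank_le_finrank_of_injective hinj2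
      rw [show finrank F (R →ₗ[F] F) = finrank F R from Subspace.dual_finrank_eq] at h1
      rw [show finrank F (P →ₗ[F] F) = finrank F P from Subspace.dual_finrank_eq] at h3
      omega
    · exfalso
      refine ha0 ((Submodule.mem_bot F).1 (hcompl.inf_eq_bot ▸ (⟨fun c hc => ?_, ha⟩ : a ∈ perp P ⊓ D)))
      rw [hsymm]
      exact (h.symm.le hc : c ∈ P ⊓ perp R).2 a ⟨ha, hperp0⟩
  exact CentralizerSpin.paired_torus h2 b hsymm hnd hggi hgig hgb
    (IsCompl.of_eq hPD.2 hPD.1) hP hD (hinv hD) hiso hDiso hP0 hsimpleP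

end Hard

section OmegaToSp

variable {ι : Type} [Fintype ι] [DecidableEq ι] {Q : (ι → F) → F} {B : LinearMap.BilinForm F (ι → F)}

set_option maxHeartbeats 1000000 in
/-- From `Ω_{2n+1}` to `PSp_2n`. -/
theorem omega_to_sp (p : ℕ) [Fact p.Prime] [CharP F p] (C : Space Q B) (h2 : (2 : F) ≠ 0) {n : ℕ} (hn : 3 ≤ n)
    (hι : Fintype.card ι = 2 * n + 1) (A : ↥(Cfsg.Omega F Q)) (hs : Odd (orderOf A))
    (hsF : (orderOf A : F) ≠ 0) :
    orderOf A ∈ Set.range (orderOf : Cfsg.PSp n F → ℕ) ∧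
      ∀ T : ↥(Cfsg.Omega F Q), Commute T A → T ≠ 1 → 1 < orderOf A →
        (T ^ p = 1 → Nat.Coprime p (orderOf A) → p * orderOf A ∈ Set.range (orderOf : Cfsg.PSp n F → ℕ)) ∧
          (T ^ 2 = 1 → (orderOf A).Prime → 2 * orderOf A ∈ Set.range (orderOf : Cfsg.PSp n F → ℕ)) := by
  classical
  let ρ : ↥(Cfsg.Omega F Q) →* Module.End F (ι → F) := (endHom Q).comp (Subgroup.subtype _)
  have hρinj : Function.Injective ρ := (endHom_injective Q).comp Subtype.val_injective
  have hρB : ∀ x a b, B (ρ x a) (ρ x b) = B a b := fun x a b => by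
    show B (Matrix.toLin' _ a) (Matrix.toLin' _ b) = _
    rw [Matrix.toLin'_apply, Matrix.toLin'_apply]
    exact C.B_act (x : ↥(isometryGroup F Q)).2 a b
  have hρdet : ∀ x, LinearMap.det (ρ x) = 1 := fun x => by
    show LinearMap.det (endHom Q (x : ↥(isometryGroup F Q))) = 1
    rw [det_endHom, show (detSpin Q (x : ↥(isometryGroup F Q))).1 = 1 from
      congrArg Prod.fst (Abelianization.commutator_subset_ker (detSpin Q) x.2), Units.val_one]
  set g := ρ A with hg
  have hog : orderOf g = orderOf A := orderOf_injective ρ hρinj A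
  obtain ⟨U, W, hUW, horth, hinv, hWfix, hfix, hndU, hndW, bU, hbU, hbUnd, hbUiso⟩ :=
    split_data B (ε := 1) (fun a b => by rw [C.symm a b, one_mul]) (fun a h => C.nondeg' h) (hρB A)
      (hog ▸ hs) (hog ▸ hsF)
  have hbalt : bU.IsAlt := isAlt_of_skew h2 hbU
  obtain ⟨d, -, hd, -⟩ := even_finrank bU hbalt hbUnd
  have hsum := Submodule.finrank_add_eq_of_isCompl hUW
  rw [hd, finrank_fintype_fun_eq_card, hι] at hsum
  set k := n - d with hk
  have hkW : finrank F W = 2 * k + 1 := by omega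
  let gU : Module.End F U := g.restrict (hinv g (Commute.refl g)).1
  have hgUb := hbUiso g (Commute.refl g) (hinv g (Commute.refl g)).1 (hρB A)
  have hoU : orderOf gU = orderOf A := (orderOf_restrict hUW _ hWfix).trans hog
  have hfin : finrank F (U × (Fin k ⊕ Fin k → F)) = 2 * n := by
    rw [Module.finrank_prod, hd, Symp.finrank_space]; omega
  have hndk : ∀ a, (∀ c, Symp.spB k F a c = 0) → a = 0 := (Symp.spB_nondegenerate k F).1
  have halt := sumForm_alt hbalt (Symp.spB_isAlt k F)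
  have hnd := sumForm_nondeg hbUnd hndk
  have hAiso : ∀ x y, sumForm bU (Symp.spB k F) (pair (gU, 1) x) (pair (gU, 1) y) = sumForm bU (Symp.spB k F) x y :=
    sumForm_iso hgUb fun _ _ => rfl
  have hoP : orderOf (pair (gU, (1 : Module.End F (Fin k ⊕ Fin k → F)))) = orderOf A := by rw [orderOf_pair_one, hoU]
  refine ⟨?_, fun T hTA hT1 hs1 => ?_⟩
  · rw [← hoP]
    exact psp_order h2 _ halt hnd (by omega) hfin hAiso (by rw [hoP]; exact hs)
  haveI : Nontrivial U := by
    by_contra hU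
    rw [not_nontrivial_iff_subsingleton] at hU
    have h1 : gU = 1 := LinearMap.ext fun x => Subsingleton.elim _ _
    rw [h1, orderOf_one] at hoU
    omega
  have hne1 : (-1 : Module.End F U) ≠ 1 := fun h => by
    obtain ⟨v, hv⟩ := exists_ne (0 : U)
    have h5 := LinearMap.congr_fun h v
    rw [LinearMap.neg_apply, Module.End.one_apply, neg_eq_iff_add_eq_zero, ← two_smul F, smul_eq_zero] at h5
    exact hv (h5.resolve_left h2)
  have hpneg : ∀ {R : Module.End F (Fin k ⊕ Fin k → F)} {S : Module.End F U}, S ≠ -1 → pair (S, R) ≠ -1 :=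
    fun {R S} hS h => hS (LinearMap.ext fun a => congrArg Prod.fst (LinearMap.congr_fun h (a, 0)))
  have finish : ∀ (x : ℕ) (S : Module.End F U) (R : Module.End F (Fin k ⊕ Fin k → F)), x.Prime →
      (∀ a c, bU (S a) (S c) = bU a c) → (∀ a c, Symp.spB k F (R a) (R c) = Symp.spB k F a c) → Commute S gU →
      (pair (S, R) ^ x = 1 ∨ pair (S, R) ^ x = -1) → (S, R) ≠ 1 → pair (S, R) ≠ -1 → Nat.Coprime x (orderOf A) →
      x * orderOf A ∈ Set.range (orderOf : Cfsg.PSp n F → ℕ) := fun x S R hx hS hR hc hpow h1 h2' hcop =>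
    psp_mem h2 _ halt hnd hfin hAiso hs hoP (sumForm_iso hS hR)
      (pair_commute hc.symm (Commute.one_left _)) hx hpow
      (fun h => h1 (pair_injective (h.trans (map_one pair).symm))) h2' hcop
  let ρT := ρ T
  have hTg : Commute ρT g := hTA.map ρ
  let TU : Module.End F U := ρT.restrict (hinv ρT hTg).1
  let TW : Module.End F W := ρT.restrict (hinv ρT hTg).2
  have hTUg : Commute TU gU := LinearMap.ext fun x => Subtype.ext (LinearMap.congr_fun hTg.eq x.1)
  have hTUb := hbUiso ρT hTg (hinv ρT hTg).1 (hρB T)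
  -- on a line the determinant decides
  have hline : ∀ (x : ↥(isometryGroup F Q)) (hx : Commute (endHom Q x) g), k = 0 → LinearMap.det (endHom Q x) = 1 →
      ∀ w ∈ W, endHom Q x w = w := by
    intro x hx hk0 hdet w hw
    have hW1 : finrank F W = 1 := by omega
    have hU1 : LinearMap.det ((endHom Q x).restrict (hinv _ hx).1) = 1 :=
      det_eq_one bU hbalt hbUnd (hbUiso _ hx (hinv _ hx).1 fun a b => by
        show B (Matrix.toLin' _ a) (Matrix.toLin' _ b) = _
        rw [Matrix.toLin'_apply, Matrix.toLin'_apply]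
        exact C.B_act x.2 a b)
    rw [prod_det hUW (hinv _ hx).1 (hinv _ hx).2, hU1, one_mul] at hdet
    obtain ⟨v, hv0, hv⟩ := finrank_eq_one_iff'.1 hW1
    obtain ⟨c, hc⟩ := hv ((endHom Q x).restrict (hinv _ hx).2 v)
    have hsc : (endHom Q x).restrict (hinv _ hx).2 = c • 1 := LinearMap.ext fun z => by
      obtain ⟨e, rfl⟩ := hv z
      rw [map_smul, ← hc, LinearMap.smul_apply, Module.End.one_apply, smul_comm]
    rw [hsc, LinearMap.det_smul, hW1, pow_one, map_one, mul_one] at hdet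
    have h := congrArg Subtype.val (LinearMap.congr_fun hsc ⟨w, hw⟩)
    rw [hdet, one_smul] at h
    exact h
  have hTU1 : k = 0 → TU ≠ 1 := fun hk0 h => hT1 (hρinj (by
    rw [map_one]
    refine eq_of_restrict hUW (fun a ha => ?_) (fun a ha => ?_)
    · exact congrArg Subtype.val (LinearMap.congr_fun h ⟨a, ha⟩)
    · exact hline _ hTg hk0 (hρdet T) a ha))
  refine ⟨fun hTp hcop => ?_, fun hT2 hprime => ?_⟩
  · have hp := (Fact.out : p.Prime)
    have hTUp : TU ^ p = 1 := LinearMap.ext fun a => Subtype.ext (by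
      rw [Module.End.pow_restrict, LinearMap.restrict_coe_apply, ← map_pow, hTp, map_one]; rfl)
    have hp2 : p ≠ 2 := fun h => h2 (by
      have := CharP.cast_eq_zero F p
      rwa [h, Nat.cast_ofNat] at this)
    by_cases hTU : TU = 1
    · have hk0 : 1 ≤ k := by
        by_contra hk0
        exact hTU1 (by omega) hTU
      let i₀ : Fin k := ⟨0, hk0⟩
      set e₀ : Fin k ⊕ Fin k → F := Pi.single (Sum.inl i₀) 1
      let R : Module.End F (Fin k ⊕ Fin k → F) := 1 + (Symp.spB k F e₀).smulRight e₀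
      have hRa : ∀ v, R v = v + Symp.spB k F e₀ v • e₀ := fun v => rfl
      have hee : Symp.spB k F e₀ e₀ = 0 := Symp.spB_isAlt k F e₀
      have hRpow : ∀ j : ℕ, ∀ v, (R ^ j) v = v + ((j : F) * Symp.spB k F e₀ v) • e₀ := by
        intro j
        induction j with
        | zero => intro v; simp
        | succ j ih =>
          intro v
          rw [pow_succ', Module.End.mul_apply, ih, hRa, map_add, map_smul, hee, smul_zero, add_zero,
            Nat.cast_succ, add_mul, add_smul, one_mul, add_assoc]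
      have hR1 : R ≠ 1 := fun h => by
        have h' := congrFun (LinearMap.congr_fun h (Pi.single (Sum.inr i₀) 1)) (Sum.inl i₀)
        rw [hRa, Symp.spB_apply, Cfsg.sympForm, Symp.J_mulVec] at h'
        simp [e₀, dotProduct, Pi.single_apply] at h'
      refine finish p 1 R hp (fun _ _ => rfl) (fun a c => ?_) (Commute.one_left _) (Or.inl ?_)
        (fun h => hR1 (congrArg Prod.snd h)) (hpneg hne1.symm) hcop
      · simp only [hRa, map_add, map_smul, LinearMap.add_apply, LinearMap.smul_apply, smul_eq_mul, hee,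
          ← LinearMap.IsAlt.neg (Symp.spB_isAlt k F) a e₀]
        ring
      · rw [← map_pow, Prod.pow_mk, one_pow, show R ^ p = 1 from LinearMap.ext fun v => by
          rw [hRpow, CharP.cast_eq_zero, zero_mul, zero_smul, add_zero]; rfl]
        exact map_one pair
    · refine finish p TU 1 hp hTUb (fun _ _ => rfl) hTUg (Or.inl ?_) (fun h => hTU (congrArg Prod.fst h))
        (hpneg fun h => hne1 ?_) hcop
      · rw [← map_pow, Prod.pow_mk, hTUp, one_pow]; exact map_one pair
      · rw [h] at hTUp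
        obtain ⟨j, hj⟩ := hp.odd_of_ne_two hp2
        rw [hj, pow_succ, pow_mul, show (-1 : Module.End F U) ^ 2 = 1 from LinearMap.ext fun a => by simp [sq],
          one_pow, one_mul] at hTUp
        exact hTUp
  have hcop : Nat.Coprime 2 (orderOf A) := Nat.coprime_two_left.2 hs
  have hnsq : (-1 : Module.End F U) ^ 2 = 1 := LinearMap.ext fun a => by simp [sq]
  by_cases hk0 : 1 ≤ k
  · refine finish 2 (-1) 1 Nat.prime_two (fun a c => by simp) (fun _ _ => rfl) (LinearMap.ext fun a => by simp)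
      (Or.inl ?_) (fun h => hne1 (congrArg Prod.fst h)) (fun h => ?_) hcop
    · rw [← map_pow, Prod.pow_mk, hnsq, one_pow]; exact map_one pair
    · let v₀ : Fin k ⊕ Fin k → F := Pi.single (Sum.inl ⟨0, hk0⟩) 1
      have h' : v₀ = -v₀ := congrArg Prod.snd (LinearMap.congr_fun h ((0 : U), v₀))
      have h'' := congrFun h' (Sum.inl ⟨0, hk0⟩)
      simp [v₀] at h''
      exact h2 (by linear_combination h'')
  have hk00 : k = 0 := by omega
  have hR : ∀ S : Module.End F U, S ≠ -1 → S ≠ 1 → (∀ a c, bU (S a) (S c) = bU a c) → Commute S gU →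
      (S ^ 2 = 1 ∨ S ^ 2 = -1) → 2 * orderOf A ∈ Set.range (orderOf : Cfsg.PSp n F → ℕ) := by
    intro S hS1 hS2 hSb hSc hS22
    refine finish 2 S 1 Nat.prime_two hSb (fun _ _ => rfl) hSc ?_ (fun h => hS2 (congrArg Prod.fst h)) (hpneg hS1) hcop
    rcases hS22 with h | h
    · exact Or.inl (by rw [← map_pow, Prod.pow_mk, h, one_pow]; exact map_one pair)
    · refine Or.inr ?_
      haveI : IsEmpty (Fin k ⊕ Fin k) := by rw [hk00]; infer_instance
      rw [← map_pow, Prod.pow_mk, h, one_pow]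
      refine LinearMap.ext fun x => Prod.ext ?_ (Subsingleton.elim _ _)
      rfl
  have hTU2' : TU ^ 2 = 1 := LinearMap.ext fun a => Subtype.ext (by
    rw [Module.End.pow_restrict, LinearMap.restrict_coe_apply, ← map_pow, hT2, map_one]; rfl)
  by_cases hTUneg : TU ≠ -1
  · exact hR TU hTUneg (hTU1 hk00) hTUb hTUg (Or.inl hTU2')
  push Not at hTUneg
  haveI : Fact (orderOf A).Prime := ⟨hprime⟩
  let B' : LinearMap.BilinForm F U := LinearMap.compl₁₂ B U.subtype U.subtype
  have hB'nd : ∀ a, (∀ c, B' a c = 0) → a = 0 :=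
    fun a h => Subtype.ext (hndU a.1 a.2 fun c hc => h ⟨c, hc⟩)
  set gi := gU ^ (orderOf A - 1) with hgi
  -- isometries of the restriction commuting with `g` are isometries of the twisted form
  have htoS : ∀ S : Module.End F U, (∀ a c, B' (S a) (S c) = B' a c) → Commute S gU →
      ∀ a c, bU (S a) (S c) = bU a c := by
    intro S hSb hSc
    let e := Submodule.prodEquivOfIsCompl U W hUW
    let S' : Module.End F (ι → F) := e.toLinearMap ∘ₗ LinearMap.prodMap S 1 ∘ₗ e.symm.toLinearMap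
    have hS' : ∀ x : U × W, S' ((x.1 : ι → F) + x.2) = (S x.1 : ι → F) + x.2 := fun x => by
      show e (LinearMap.prodMap S 1 (e.symm (e x))) = _
      rw [LinearEquiv.symm_apply_apply]
      rfl
    have hS'U : ∀ a : U, S' a = (S a : ι → F) := fun a => by simpa using hS' (a, 0)
    have hS'W : ∀ w : W, S' w = w := fun w => by simpa using hS' (0, w)
    have hS'g : Commute S' g := eq_of_restrict hUW (fun a ha => by
        rw [Module.End.mul_apply, Module.End.mul_apply, show g a = (gU ⟨a, ha⟩ : ι → F) from rfl, hS'U, hS'U ⟨a, ha⟩]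
        exact congrArg Subtype.val (LinearMap.congr_fun hSc.eq ⟨a, ha⟩)) (fun a ha => by
        rw [Module.End.mul_apply, Module.End.mul_apply, hWfix a ha, hS'W ⟨a, ha⟩, hWfix a ha])
    have hS'B : ∀ a b, B (S' a) (S' b) = B a b := fun a b => by
      obtain ⟨x, rfl⟩ := e.surjective a
      obtain ⟨y, rfl⟩ := e.surjective b
      show B (S' ((x.1 : ι → F) + x.2)) (S' ((y.1 : ι → F) + y.2)) = B ((x.1 : ι → F) + x.2) ((y.1 : ι → F) + y.2)
      rw [hS', hS']
      simp only [map_add, LinearMap.add_apply, horth _ (S x.1).2 _ y.2.2, horth _ x.1.2 _ y.2.2,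
        C.symm (x.2 : ι → F) (S y.1), horth _ (S y.1).2 _ x.2.2, C.symm (x.2 : ι → F) y.1, horth _ y.1.2 _ x.2.2]
      rw [show B (S x.1 : ι → F) (S y.1) = B (x.1 : ι → F) y.1 from hSb x.1 y.1]
    intro a c
    have h := hbUiso S' hS'g (fun v hv => (hinv S' hS'g).1 v hv) hS'B a c
    rwa [show S'.restrict (fun v hv => (hinv S' hS'g).1 v hv) a = S a from Subtype.ext (hS'U a),
      show S'.restrict (fun v hv => (hinv S' hS'g).1 v hv) c = S c from Subtype.ext (hS'U c)] at h
  have hgUfix : ∀ a, gU a = a → a = 0 := fun a h => Subtype.ext (hfix a.1 a.2 (congrArg Subtype.val h))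
  have hgUr : gU ^ orderOf A = 1 := by rw [← hoU]; exact pow_orderOf_eq_one gU
  have hd0 : d ≠ 0 := fun h => by
    have := Module.finrank_pos (R := F) (M := U)
    omega
  rcases involution_or_torus p h2 B' (fun a c => C.symm a.1 c.1) hB'nd (r := orderOf A) hgUr hsF
      (fun a c => hρB A a.1 c.1) hgUfix hd0 hd with ⟨S, hSc, hSb, hS2, hS1, hSn⟩ |
    ⟨N, σ, hN, hN0, hσc, hσb, hσN, hσfree, hσcount⟩
  · exact hR S hSn hS1 (htoS S hSb hSc) hSc (Or.inl hS2)
  -- the torus gives an element outside `Ω`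
  let e := Submodule.prodEquivOfIsCompl U W hUW
  let σ' : Module.End F (ι → F) := e.toLinearMap ∘ₗ LinearMap.prodMap σ 1 ∘ₗ e.symm.toLinearMap
  have hσ' : ∀ x : U × W, σ' ((x.1 : ι → F) + x.2) = (σ x.1 : ι → F) + x.2 := fun x => by
    show e (LinearMap.prodMap σ 1 (e.symm (e x))) = _
    rw [LinearEquiv.symm_apply_apply]
    rfl
  have hσU : ∀ a : U, σ' a = (σ a : ι → F) := fun a => by simpa using hσ' (a, 0)
  have hσW : ∀ w ∈ W, σ' w = w := fun w hw => by simpa using hσ' (0, ⟨w, hw⟩)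
  have hQadd : ∀ (a : U) (b : W), Q ((a : ι → F) + b) = Q a + Q b := fun a b => by
    rw [C.add, horth a.1 a.2 b.1 b.2, add_zero]
  have hQ' : ∀ a : U, Q (a : ι → F) = (2 : F)⁻¹ * B' a a := fun a => by
    show Q (a : ι → F) = _ * B a.1 a.1
    rw [C.self, inv_mul_cancel_left₀ h2]
  obtain ⟨X, hX⟩ := exists_iso C (T := σ') fun v => by
    obtain ⟨x, rfl⟩ := e.surjective v
    show Q (σ' ((x.1 : ι → F) + x.2)) = Q ((x.1 : ι → F) + x.2)
    rw [hσ', hQadd, hQadd, hQ', hQ', hσb]
  have hX' : endHom Q X = σ' := hX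
  have hXg : Commute (endHom Q X) g := by
    rw [hX']
    refine eq_of_restrict hUW (fun a ha => ?_) (fun a ha => ?_)
    · rw [Module.End.mul_apply, Module.End.mul_apply, show g a = (gU ⟨a, ha⟩ : ι → F) from rfl, hσU, hσU ⟨a, ha⟩]
      exact congrArg Subtype.val (LinearMap.congr_fun hσc.eq ⟨a, ha⟩)
    · rw [Module.End.mul_apply, Module.End.mul_apply, hWfix a ha, hσW a ha, hWfix a ha]
  have hXdet : LinearMap.det (endHom Q X) = 1 := by
    rw [prod_det hUW (hinv _ hXg).1 (hinv _ hXg).2,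
      det_eq_one bU hbalt hbUnd (hbUiso _ hXg (hinv _ hXg).1 fun a b => by
        show B (Matrix.toLin' _ a) (Matrix.toLin' _ b) = _
        rw [Matrix.toLin'_apply, Matrix.toLin'_apply]
        exact C.B_act X.2 a b), one_mul,
      show (endHom Q X).restrict (hinv _ hXg).2 = 1 from LinearMap.ext fun w => Subtype.ext (by
        show endHom Q X w.1 = w.1
        rw [hX', hσW _ w.2]), map_one]
  obtain ⟨K, hK, hKc⟩ := hσcount W (fun w => Q w.1) C.zero (fun w => C.neg w.1)
    (fun w hw => by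
      rw [← two_smul F] at hw
      exact (smul_eq_zero.1 hw).resolve_left h2) (by
      haveI := Fintype.ofFinite W
      rw [Nat.card_eq_fintype_card, Module.card_eq_pow_finrank (K := F), hkW]
      obtain ⟨j, hj⟩ := FiniteField.card F p
      rw [hj.2]
      exact (((Fact.out : p.Prime).odd_of_ne_two fun h => h2 (by
        have := CharP.cast_eq_zero F p
        rwa [h, Nat.cast_ofNat] at this)).pow).pow)
  have hspinX : spin Q X = -1 := CentralizerSpin.spin_eq_neg_one C hUW horth X σ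
    (fun a => by rw [← Matrix.toLin'_apply, hX, hσU]) (fun w hw => by rw [← Matrix.toLin'_apply, hX, hσW w hw])
    hN hN0 hσN hσfree hK (by
      rw [← hKc]
      exact Nat.card_congr (Equiv.subtypeEquivRight fun x => by rw [hQ' x.1]))
  -- a group of order four in the centraliser
  let H : Subgroup ↥(isometryGroup F Q) := Subgroup.centralizer {(A : ↥(isometryGroup F Q))} ⊓
    ((MonoidHom.fst Fˣ ℤˣ).comp (detSpin Q)).ker
  have hmemH : ∀ Y : ↥(isometryGroup F Q), Commute (endHom Q Y) g → LinearMap.det (endHom Q Y) = 1 → Y ∈ H := by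
    intro Y hY hdet
    refine ⟨Subgroup.mem_centralizer_singleton_iff.2 (endHom_injective Q (by rw [map_mul, map_mul]; exact hY.eq)), ?_⟩
    show (detSpin Q Y).1 = 1
    rw [det_endHom] at hdet
    exact Units.ext hdet
  let T' : ↥H := ⟨(T : ↥(isometryGroup F Q)), hmemH _ hTg (hρdet T)⟩
  let X' : ↥H := ⟨X, hmemH X hXg hXdet⟩
  let χ : ↥H →* ℤˣ := (spin Q).comp H.subtype
  haveI : Fact (Nat.Prime 2) := ⟨Nat.prime_two⟩
  have h4 : 2 ^ 2 ∣ Nat.card H := by
    rw [← χ.ker.card_mul_index, sq]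
    refine mul_dvd_mul ?_ ?_
    · have hT' : T' ∈ χ.ker := congrArg Prod.snd (Abelianization.commutator_subset_ker (detSpin Q) T.2)
      have ho : orderOf (⟨T', hT'⟩ : χ.ker) = 2 := orderOf_eq_prime
        (Subtype.ext (Subtype.ext (congrArg (Subgroup.subtype (Cfsg.Omega F Q)) hT2)))
        fun h => hT1 (Subtype.ext (congrArg (fun z : χ.ker => ((z : ↥H) : ↥(isometryGroup F Q))) h))
      exact ho ▸ orderOf_dvd_natCard _
    · rw [Subgroup.index_ker]
      have ho : orderOf (⟨χ X', MonoidHom.mem_range.2 ⟨X', rfl⟩⟩ : χ.range) = 2 :=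
        orderOf_eq_prime (Subtype.ext (Int.units_sq _)) fun h => by
          have h' : χ X' = 1 := congrArg Subtype.val h
          rw [show χ X' = -1 from hspinX] at h'
          exact absurd h' (by decide)
      exact ho ▸ orderOf_dvd_natCard _
  obtain ⟨P, hP⟩ := Sylow.exists_subgroup_card_pow_prime 2 h4
  obtain ⟨w, hw1, hwT⟩ : ∃ w : P, w ≠ 1 ∧ (w : ↥H) ≠ T' := by
    by_contra hall
    push Not at hall
    have hinj : Function.Injective fun w : P => decide (w = 1) := by
      intro a b h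
      simp only [decide_eq_decide] at h
      by_cases ha : a = 1
      · rw [ha, h.1 ha]
      · exact Subtype.ext ((hall a ha).trans (hall b (fun hb => ha (h.2 hb))).symm)
    have := Nat.card_le_card_of_injective _ hinj
    rw [hP, Nat.card_eq_fintype_card, Fintype.card_bool] at this
    omega
  set Y : ↥(isometryGroup F Q) := ((w : ↥H) : ↥(isometryGroup F Q)) with hY
  have hY4 : Y ^ 4 = 1 := by
    have h := pow_card_eq_one' (x := w)
    rw [hP] at h
    exact congrArg (fun z : P => (((z : ↥H)) : ↥(isometryGroup F Q))) h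
  have hYH : Y ∈ H := (w : ↥H).2
  have hYg : Commute (endHom Q Y) g :=
    (show Commute Y (A : ↥(isometryGroup F Q)) from Subgroup.mem_centralizer_singleton_iff.1 hYH.1).map (endHom Q)
  have hYdet : LinearMap.det (endHom Q Y) = 1 := by
    rw [det_endHom, show (detSpin Q Y).1 = 1 from hYH.2, Units.val_one]
  let YU : Module.End F U := (endHom Q Y).restrict (hinv _ hYg).1
  have hYUb := hbUiso _ hYg (hinv _ hYg).1 fun a b => by
    show B (Matrix.toLin' _ a) (Matrix.toLin' _ b) = _
    rw [Matrix.toLin'_apply, Matrix.toLin'_apply]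
    exact C.B_act Y.2 a b
  have hYUg : Commute YU gU := LinearMap.ext fun x => Subtype.ext (LinearMap.congr_fun hYg.eq x.1)
  have hagree : ∀ {Z : ↥(isometryGroup F Q)}, endHom Q Z = endHom Q Y → Z = Y := fun h => endHom_injective Q h
  have hY1 : YU ≠ 1 := fun h => hw1 (Subtype.ext (Subtype.ext (hagree (Z := (1 : ↥(isometryGroup F Q))) (by
    rw [map_one]
    exact (eq_of_restrict hUW (fun a ha => congrArg Subtype.val (LinearMap.congr_fun h ⟨a, ha⟩))
      (fun a ha => hline Y hYg hk00 hYdet a ha)).symm)).symm))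
  have hY2 : YU ≠ -1 := fun h => hwT (Subtype.ext (hagree (Z := (T : ↥(isometryGroup F Q))) (by
    refine (eq_of_restrict hUW (fun a ha => ?_) (fun a ha => ?_)).symm
    · exact congrArg Subtype.val (LinearMap.congr_fun (h.trans hTUneg.symm) ⟨a, ha⟩)
    · rw [hline Y hYg hk00 hYdet a ha]
      exact (hline _ hTg hk00 (hρdet T) a ha).symm)).symm)
  have hYU4 : YU ^ 4 = 1 := LinearMap.ext fun a => Subtype.ext (by
    rw [Module.End.pow_restrict, LinearMap.restrict_coe_apply, ← map_pow, hY4, map_one]; rfl)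
  by_cases hsq : YU ^ 2 = 1 ∨ YU ^ 2 = -1
  · exact hR YU hY2 hY1 hYUb hYUg hsq
  push Not at hsq
  refine hR (YU ^ 2) hsq.2 hsq.1 (fun a c => ?_) (hYUg.pow_left 2) (Or.inl (by rw [← pow_mul]; exact hYU4))
  rw [sq, Module.End.mul_apply, Module.End.mul_apply]
  exact (hYUb _ _).trans (hYUb _ _)

end OmegaToSp

end Cfsg.Lib.Linear.SympGraph
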