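import Mathlib

/-!
# Tori of norm one elements in orthogonal groups, and signs of free cyclic permutations

An isometry `y` without proper invariant subspaces of a form of dimension `2 m` generates a field;
the isometries commuting with it are its elements of norm one, and the norm one group moves the
vectors of a given norm in an odd number of orbits.
-/

set_option autoImplicit false

namespace Cfsg.Lib.Linear.TorusSign

open Module

theorem sign_eq_neg_one {α : Type*} [Fintype α] [DecidableEq α] {σ : Equiv.Perm α} {N P : ℕ} (hN : Even N)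
    (hN0 : 0 < N) (hσ : σ ^ N = 1) (hfree : ∀ x, σ x ≠ x → ∀ j : ℕ, (σ ^ j) x = x → N ∣ j)
    (hP : Odd P) (hcard : Nat.card {x // σ x ≠ x} = N * P) : Equiv.Perm.sign σ = -1 := by
  have hrep : σ.cycleType = Multiset.replicate σ.cycleType.card N := by
    refine Multiset.eq_replicate.2 ⟨rfl, fun c hc => ?_⟩
    have h1 : c ∣ N := (Equiv.Perm.dvd_of_mem_cycleType hc).trans (orderOf_dvd_of_pow_eq_one hσ)
    rw [Equiv.Perm.cycleType_def, Multiset.mem_map] at hc
    obtain ⟨τ, hτ, hτc⟩ := hc
    obtain ⟨hcyc, heq⟩ := Equiv.Perm.mem_cycleFactorsFinset_iff.1 hτ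
    obtain ⟨x, hx⟩ : τ.support.Nonempty := Finset.card_pos.1 (by
      have := hcyc.two_le_card_support
      omega)
    have hmove : σ x ≠ x := by
      rw [← heq x hx]; exact Equiv.Perm.mem_support.1 hx
    have key : ∀ j : ℕ, (σ ^ j) x = (τ ^ j) x ∧ (τ ^ j) x ∈ τ.support := by
      intro j
      induction j with
      | zero => simpa using hx
      | succ j ih =>
        rw [pow_succ', pow_succ', Equiv.Perm.mul_apply, Equiv.Perm.mul_apply, ih.1, ← heq _ ih.2]
        exact ⟨rfl, Equiv.Perm.apply_mem_support.2 ih.2⟩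
    have hc' : c = τ.support.card := hτc.symm
    have h2 : N ∣ c := hfree x hmove c (by
      rw [(key c).1, hc', ← hcyc.orderOf, pow_orderOf_eq_one, Equiv.Perm.one_apply])
    exact Nat.dvd_antisymm h1 h2
  have hmoved : Fintype.card α - Fintype.card (Function.fixedPoints σ) = N * P := by
    rw [← Fintype.card_compl_set, ← Nat.card_eq_fintype_card, ← hcard]
    exact Nat.card_congr (Equiv.subtypeEquivRight fun x => Iff.rfl)
  rw [Equiv.Perm.sign_of_cycleType_eq_replicate hN0 hrep, if_neg (Nat.not_odd_iff_even.2 hN), hmoved,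
    Nat.mul_div_cancel_left _ hN0, hP.neg_one_pow]

/-- The norm equation `φ (z ^ (Q + 1)) + f w = 1` has an odd number of classes of solutions with `z ≠ 0`. -/
theorem card_norm_eq {K F W : Type*} [Field K] [Finite K] [Field F] [AddCommGroup W] [Finite W]
    {Q : ℕ} (hQ : Odd Q) (hK : Nat.card K = Q * Q) (hadd : ∀ a b : K, (a + b) ^ Q = a ^ Q + b ^ Q)
    (φ : K →+ F) (hφ : ∃ a : K, a ^ Q = a ∧ φ a = 1) (f : W → F) (hf0 : f 0 = 0) (hf : ∀ w, f (-w) = f w)
    (h2 : ∀ w : W, w + w = 0 → w = 0) :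
    ∃ P, Odd P ∧ Nat.card {x : K × W // x.1 ≠ 0 ∧ φ (x.1 ^ (Q + 1)) + f x.2 = 1} = (Q + 1) * P := by
  classical
  haveI := Fintype.ofFinite K
  haveI := Fintype.ofFinite W
  have hQ0 : 0 < Q := hQ.pos
  have hcardU : Nat.card Kˣ = (Q + 1) * (Q - 1) := by
    rw [Nat.card_units, hK, ← Nat.sq_sub_sq, sq, one_pow]
  have hker : ∀ d : ℕ, d ∣ Nat.card Kˣ → Nat.card (powMonoidHom d : Kˣ →* Kˣ).ker = d := fun d hd => by
    rw [IsCyclic.card_powMonoidHom_ker, Nat.gcd_eq_right hd]
  have hrange : (powMonoidHom (Q + 1) : Kˣ →* Kˣ).range = (powMonoidHom (Q - 1) : Kˣ →* Kˣ).ker := by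
    refine Subgroup.eq_of_le_of_card_ge ?_ ?_
    · rintro _ ⟨x, rfl⟩
      rw [MonoidHom.mem_ker, powMonoidHom_apply, powMonoidHom_apply, ← pow_mul, ← hcardU]
      exact pow_card_eq_one'
    · rw [hker (Q - 1) (hcardU ▸ dvd_mul_left _ _), IsCyclic.card_powMonoidHom_range, Nat.gcd_eq_right
        (hcardU ▸ dvd_mul_right _ _), hcardU, Nat.mul_div_cancel_left _ (Nat.succ_pos Q)]
  have hfix : ∀ a : Kˣ, a ∈ (powMonoidHom (Q + 1) : Kˣ →* Kˣ).range ↔ (a : K) ^ Q = a := by
    intro a
    rw [hrange, MonoidHom.mem_ker, powMonoidHom_apply, Units.ext_iff, Units.val_pow_eq_pow_val, Units.val_one]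
    have : (a : K) ^ Q = (a : K) ^ (Q - 1) * a := by rw [← pow_succ, Nat.sub_add_cancel hQ0]
    rw [this, mul_eq_right₀ a.ne_zero]
  let P := {x : K × W // x.1 ≠ 0 ∧ x.1 ^ Q = x.1 ∧ φ x.1 + f x.2 = 1}
  let M := {x : K × W // x.1 ≠ 0 ∧ φ (x.1 ^ (Q + 1)) + f x.2 = 1}
  let π : M → P := fun x => ⟨(x.1.1 ^ (Q + 1), x.1.2), pow_ne_zero _ x.2.1,
    (hfix ((Units.mk0 _ x.2.1) ^ (Q + 1))).1 ⟨Units.mk0 _ x.2.1, rfl⟩, x.2.2⟩
  refine ⟨Nat.card P, ?_, ?_⟩
  · -- only the orbit of `w = 0` is fixed by the sign change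
    let τ : Function.End P := fun x => ⟨(x.1.1, -x.1.2), x.2.1, x.2.2.1, by rw [hf]; exact x.2.2.2⟩
    have hτ : τ ^ 2 ^ 1 = 1 := by
      funext x
      exact Subtype.ext (Prod.ext rfl (neg_neg x.1.2))
    obtain ⟨a₁, ha₁, ha₁'⟩ := hφ
    have hneg : ∀ a : K, (-a) ^ Q = -a ^ Q := hQ.neg_pow
    let S : AddSubgroup K :=
      { carrier := {a | a ^ Q = a ∧ φ a = 0}
        zero_mem' := ⟨zero_pow hQ0.ne', map_zero φ⟩
        add_mem' := fun {a b} ha hb => ⟨by rw [hadd, ha.1, hb.1], by rw [map_add, ha.2, hb.2, add_zero]⟩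
        neg_mem' := fun {a} ha => ⟨by rw [hneg, ha.1], by rw [map_neg, ha.2, neg_zero]⟩ }
    have e : Function.fixedPoints τ ≃ S :=
      { toFun := fun x => ⟨x.1.1.1 - a₁, by
          have hw : x.1.1.2 = 0 := by
            refine h2 _ (eq_neg_iff_add_eq_zero.1 ?_)
            exact (congrArg (fun z : P => z.1.2) x.2).symm
          obtain ⟨-, hx, hx'⟩ := x.1.2
          rw [hw, hf0, add_zero] at hx'
          exact ⟨by rw [sub_eq_add_neg, hadd, hneg, hx, ha₁], by rw [map_sub, hx', ha₁', sub_self]⟩⟩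
        invFun := fun s => ⟨⟨(s.1 + a₁, 0), fun h => by
            have h0 : s.1 + a₁ = 0 := h
            have := congrArg φ h0
            rw [map_add, s.2.2, ha₁', zero_add, map_zero] at this
            exact one_ne_zero this,
          by show (s.1 + a₁) ^ Q = _; rw [hadd, s.2.1, ha₁],
          by show φ (s.1 + a₁) + f 0 = 1; rw [map_add, s.2.2, ha₁', hf0, zero_add, add_zero]⟩,
          Subtype.ext (Prod.ext rfl neg_zero)⟩
        left_inv := fun x => by
          refine Subtype.ext (Subtype.ext (Prod.ext (sub_add_cancel _ _) ?_))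
          exact (h2 _ (eq_neg_iff_add_eq_zero.1 (congrArg (fun z : P => z.1.2) x.2).symm)).symm
        right_inv := fun s => Subtype.ext (add_sub_cancel_right _ _) }
    have h := Equiv.Perm.card_fixedPoints_modEq (p := 2) (n := 1) (f := τ) hτ
    rw [← Nat.card_eq_fintype_card, ← Nat.card_eq_fintype_card] at h
    have hfix' : Nat.card (Function.fixedPoints τ) = Nat.card S := Nat.card_congr e
    have hS : Odd (Nat.card S) := Odd.of_dvd_nat (hK ▸ hQ.mul hQ) (AddSubgroup.card_addSubgroup_dvd_card S)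
    rw [Nat.odd_iff]
    have h' : Nat.card P % 2 = Nat.card (Function.fixedPoints τ) % 2 := h
    rw [h', hfix', ← Nat.odd_iff]
    exact hS
  · have hfib : ∀ b : P, Nat.card {x : M // π x = b} = Q + 1 := by
      rintro ⟨⟨a, w⟩, ha0, ha, haw⟩
      obtain ⟨z₀, hz₀⟩ := (hfix (Units.mk0 a ha0)).2 ha
      rw [powMonoidHom_apply] at hz₀
      rw [← hker (Q + 1) (hcardU ▸ dvd_mul_right _ _)]
      refine Nat.card_congr
        { toFun := fun x => ⟨z₀⁻¹ * Units.mk0 x.1.1.1 x.1.2.1, ?_⟩
          invFun := fun k => ⟨⟨(((z₀ * k.1 : Kˣ) : K), w), (z₀ * k.1 : Kˣ).ne_zero, ?_⟩, ?_⟩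
          left_inv := fun x => ?_
          right_inv := fun k => ?_ }
      · have h1 : x.1.1.1 ^ (Q + 1) = a := congrArg (fun z : P => z.1.1) x.2
        rw [MonoidHom.mem_ker, powMonoidHom_apply, mul_pow, inv_pow, hz₀, inv_mul_eq_one]
        exact Units.ext (by simp [h1])
      · have hk : k.1 ^ (Q + 1) = 1 := k.2
        show φ (((z₀ * k.1 : Kˣ) : K) ^ (Q + 1)) + f w = 1
        rw [← Units.val_pow_eq_pow_val, mul_pow, hk, mul_one, hz₀]
        exact haw
      · have hk : k.1 ^ (Q + 1) = 1 := k.2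
        refine Subtype.ext (Prod.ext ?_ rfl)
        show ((z₀ * k.1 : Kˣ) : K) ^ (Q + 1) = a
        rw [← Units.val_pow_eq_pow_val, mul_pow, hk, mul_one, hz₀, Units.val_mk0]
      · have h1 : x.1.1.2 = w := congrArg (fun z : P => z.1.2) x.2
        refine Subtype.ext (Subtype.ext (Prod.ext ?_ h1.symm))
        simp
      · exact Subtype.ext (by simp)
    rw [← Nat.card_congr (Equiv.sigmaFiberEquiv π), Nat.card_sigma, Finset.sum_congr rfl fun b _ => hfib b,
      Finset.sum_const, Finset.card_univ, ← Nat.card_eq_fintype_card, smul_eq_mul, mul_comm]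

section Commutant

variable {F : Type*} [Field F] {V : Type*} [AddCommGroup V] [Module F V] {y : Module.End F V}

theorem commute_adjoin {a : Module.End F V} (ha : a ∈ Algebra.adjoin F ({y} : Set (Module.End F V)))
    {b : Module.End F V} (hb : Commute b y) : Commute b a :=
  Algebra.adjoin_induction (p := fun x _ => Commute b x) (fun x hx => by rw [Set.mem_singleton_iff.1 hx]; exact hb)
    (fun c => (Algebra.commutes c b).symm) (fun _ _ _ _ h1 h2 => h1.add_right h2)
    (fun _ _ _ _ h1 h2 => h1.mul_right h2) ha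

theorem adjoin_commute {a b : Module.End F V} (ha : a ∈ Algebra.adjoin F ({y} : Set (Module.End F V)))
    (hb : b ∈ Algebra.adjoin F ({y} : Set (Module.End F V))) : Commute a b :=
  commute_adjoin hb (commute_adjoin ha (Commute.refl y)).symm

theorem eq_zero_of_commute (hsimple : ∀ U : Submodule F V, (∀ a ∈ U, y a ∈ U) → U = ⊥ ∨ U = ⊤)
    {b : Module.End F V} (hb : Commute b y) (hb0 : b ≠ 0) {v : V} (hv : b v = 0) : v = 0 := by
  rcases hsimple (LinearMap.ker b) (fun a ha => by
    rw [LinearMap.mem_ker] at ha ⊢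
    rw [← Module.End.mul_apply, hb.eq, Module.End.mul_apply, ha, map_zero]) with h | h
  · exact (Submodule.mem_bot F).1 (h ▸ LinearMap.mem_ker.2 hv)
  · exact absurd (LinearMap.ker_eq_top.1 h) hb0

theorem cyclic_adjoin (hsimple : ∀ U : Submodule F V, (∀ a ∈ U, y a ∈ U) → U = ⊥ ∨ U = ⊤) {v₀ : V} (hv₀ : v₀ ≠ 0)
    (v : V) : ∃ a ∈ Algebra.adjoin F ({y} : Set (Module.End F V)), a v₀ = v := by
  set A := Algebra.adjoin F ({y} : Set (Module.End F V))
  let R : Submodule F V := (Subalgebra.toSubmodule A).map (LinearMap.applyₗ v₀)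
  have hR : R = ⊤ := by
    refine (hsimple R ?_).resolve_left fun h => hv₀ ?_
    · rintro _ ⟨a, ha, rfl⟩
      exact ⟨y * a, A.mul_mem (Algebra.subset_adjoin (Set.mem_singleton y)) ha, rfl⟩
    · exact (Submodule.mem_bot F).1 (h ▸ ⟨1, A.one_mem, rfl⟩)
  obtain ⟨a, ha, h⟩ := (hR ▸ Submodule.mem_top : v ∈ R)
  exact ⟨a, ha, h⟩

theorem commutant_le_adjoin [Nontrivial V] (hsimple : ∀ U : Submodule F V, (∀ a ∈ U, y a ∈ U) → U = ⊥ ∨ U = ⊤)
    {b : Module.End F V} (hb : Commute b y) : b ∈ Algebra.adjoin F ({y} : Set (Module.End F V)) := by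
  obtain ⟨v₀, hv₀⟩ := exists_ne (0 : V)
  obtain ⟨a, ha, h⟩ := cyclic_adjoin hsimple hv₀ (b v₀)
  refine (show b = a from LinearMap.ext fun v => ?_) ▸ ha
  obtain ⟨c, hc, rfl⟩ := cyclic_adjoin hsimple hv₀ v
  rw [← Module.End.mul_apply, (commute_adjoin hc hb).eq, Module.End.mul_apply, ← h,
    ← Module.End.mul_apply c, (adjoin_commute hc ha).eq, Module.End.mul_apply]

theorem adjoin_isField [Finite V] [Nontrivial V]
    (hsimple : ∀ U : Submodule F V, (∀ a ∈ U, y a ∈ U) → U = ⊥ ∨ U = ⊤) :
    IsField (Algebra.adjoin F ({y} : Set (Module.End F V))) := by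
  set A := Algebra.adjoin F ({y} : Set (Module.End F V))
  haveI : Finite (Module.End F V) := Finite.of_injective (fun g => (g : V → V)) DFunLike.coe_injective
  letI : CommRing A :=
    { (inferInstance : Ring A) with mul_comm := fun a b => Subtype.ext (adjoin_commute a.2 b.2).eq }
  haveI : NoZeroDivisors A := ⟨fun {a b} h => by
    by_cases ha : a = 0
    · exact Or.inl ha
    refine Or.inr (Subtype.ext (LinearMap.ext fun v => ?_))
    exact eq_zero_of_commute hsimple (commute_adjoin a.2 (Commute.refl y)).symm (fun h0 => ha (Subtype.ext h0))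
      (LinearMap.congr_fun (congrArg Subtype.val h) v)⟩
  haveI : IsDomain A := NoZeroDivisors.to_isDomain _
  exact Finite.isField_of_domain A

theorem adjoin_bijective (hsimple : ∀ U : Submodule F V, (∀ a ∈ U, y a ∈ U) → U = ⊥ ∨ U = ⊤) {v₀ : V} (hv₀ : v₀ ≠ 0) :
    Function.Bijective fun a : Algebra.adjoin F ({y} : Set (Module.End F V)) => a.1 v₀ := by
  refine ⟨fun a b h => ?_, fun v => by obtain ⟨a, ha, h⟩ := cyclic_adjoin hsimple hv₀ v; exact ⟨⟨a, ha⟩, h⟩⟩
  by_contra hab
  refine hv₀ (eq_zero_of_commute hsimple (b := a.1 - b.1) ?_ (sub_ne_zero.2 fun h' => hab (Subtype.ext h'))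
    (sub_eq_zero.2 h))
  exact (commute_adjoin a.2 (Commute.refl y)).symm.sub_left (commute_adjoin b.2 (Commute.refl y)).symm

theorem pow_fix_adjoin [Fintype F] (p : ℕ) [Fact p.Prime] [CharP F p] [Nontrivial V] {d : ℕ}
    (hy : y ^ Fintype.card F ^ d = y) {a : Module.End F V}
    (ha : a ∈ Algebra.adjoin F ({y} : Set (Module.End F V))) : a ^ Fintype.card F ^ d = a := by
  haveI : CharP (Module.End F V) p := charP_of_injective_algebraMap (algebraMap F (Module.End F V)).injective p
  induction ha using Algebra.adjoin_induction with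
  | mem x hx => rw [Set.mem_singleton_iff.1 hx]; exact hy
  | algebraMap c => rw [← map_pow, FiniteField.pow_card_pow]
  | add a b ha hb iha ihb =>
    obtain ⟨k, hk⟩ := FiniteField.card F p
    rw [hk.2, ← pow_mul] at iha ihb ⊢
    rw [add_pow_char_pow_of_commute p _ (adjoin_commute ha hb), iha, ihb]
  | mul a b ha hb iha ihb => rw [(adjoin_commute ha hb).mul_pow, iha, ihb]

/-- The adjoint of an element of the algebra of an isometry is a power of it. -/
theorem adjoint_eq_pow [Fintype F] (p : ℕ) [Fact p.Prime] [CharP F p] [Nontrivial V]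
    (B : LinearMap.BilinForm F V) {Q m : ℕ} (hQ : Q = Fintype.card F ^ m) (hy : y ^ (Q + 1) = 1)
    (hyB : ∀ a b, B (y a) (y b) = B a b) {a : Module.End F V}
    (ha : a ∈ Algebra.adjoin F ({y} : Set (Module.End F V))) : ∀ v w, B (a v) w = B v ((a ^ Q) w) := by
  haveI : CharP (Module.End F V) p := charP_of_injective_algebraMap (algebraMap F (Module.End F V)).injective p
  obtain ⟨k, hk⟩ := FiniteField.card F p
  have hyQ : y * y ^ Q = 1 := by rw [← pow_succ', hy]
  induction ha using Algebra.adjoin_induction with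
  | mem x hx =>
    rw [Set.mem_singleton_iff.1 hx]
    intro v w
    conv_lhs => rw [show w = y ((y ^ Q) w) by rw [← Module.End.mul_apply, hyQ, Module.End.one_apply]]
    rw [hyB]
  | algebraMap c =>
    intro v w
    rw [← map_pow, hQ, FiniteField.pow_card_pow, Algebra.algebraMap_eq_smul_one]
    simp
  | add a b ha hb iha ihb =>
    intro v w
    rw [hQ, hk.2, ← pow_mul] at iha ihb ⊢
    rw [add_pow_char_pow_of_commute p _ (adjoin_commute ha hb)]
    simp [iha, ihb]
  | mul a b ha hb iha ihb =>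
    intro v w
    rw [(adjoin_commute ha hb).mul_pow, Module.End.mul_apply, iha, ihb, ← Module.End.mul_apply,
      ((adjoin_commute hb ha).pow_pow Q Q).eq]

/-- The norm one elements of the commutant form a cyclic group of isometries. -/
theorem exists_norm_generator [Fintype F] (p : ℕ) [Fact p.Prime] [CharP F p] [Finite V]
    (B : LinearMap.BilinForm F V) {Q m : ℕ} (hm : m ≠ 0) (hQ : Q = Fintype.card F ^ m) (hdim : finrank F V = 2 * m)
    (hy : y ^ (Q + 1) = 1) (hyB : ∀ a b, B (y a) (y b) = B a b)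
    (hsimple : ∀ U : Submodule F V, (∀ a ∈ U, y a ∈ U) → U = ⊥ ∨ U = ⊤) :
    ∃ b : Module.End F V, Commute b y ∧ (∀ v w, B (b v) (b w) = B v w) ∧ b ^ (Q + 1) = 1 ∧
      ∀ (j : ℕ) (v : V), v ≠ 0 → (b ^ j) v = v → Q + 1 ∣ j := by
  haveI : Nontrivial V := Module.finrank_pos_iff (R := F).1 (by omega)
  set A := Algebra.adjoin F ({y} : Set (Module.End F V)) with hA
  haveI : Finite (Module.End F V) := Finite.of_injective (fun g => (g : V → V)) DFunLike.coe_injective
  letI : Field A := (adjoin_isField hsimple).toField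
  obtain ⟨v₀, hv₀⟩ := exists_ne (0 : V)
  have hcard : Nat.card A = Q * Q := by
    haveI := Fintype.ofFinite V
    rw [Nat.card_congr (Equiv.ofBijective _ (adjoin_bijective hsimple hv₀)), Nat.card_eq_fintype_card,
      Module.card_eq_pow_finrank (K := F), hdim, hQ, ← pow_add, two_mul]
  have hcardU : Nat.card Aˣ = (Q + 1) * (Q - 1) := by
    rw [Nat.card_units, hcard, ← Nat.sq_sub_sq, sq, one_pow]
  obtain ⟨ω, hω⟩ := IsCyclic.exists_ofOrder_eq_natCard (α := Aˣ)
  have hQ1 : 1 < Q := by rw [hQ]; exact Nat.one_lt_pow hm Fintype.one_lt_card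
  set z := ω ^ (Q - 1) with hz
  have hzo : orderOf z = Q + 1 := by
    rw [hz, orderOf_pow_of_dvd (by omega) (by rw [hω, hcardU]; exact dvd_mul_left _ _), hω, hcardU,
      Nat.mul_div_cancel _ (by omega)]
  have hpow : ∀ j : ℕ, (((z : A) : Module.End F V)) ^ j = (((z ^ j : Aˣ) : A) : Module.End F V) := fun j => by
    rw [← SubmonoidClass.coe_pow, ← Units.val_pow_eq_pow_val]
  have hzN : (((z : A) : Module.End F V)) ^ (Q + 1) = 1 := by
    rw [hpow, ← hzo, pow_orderOf_eq_one]; rfl
  refine ⟨((z : A) : Module.End F V), (commute_adjoin (z : A).2 (Commute.refl y)).symm, fun v w => ?_, hzN,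
    fun j v hv h => ?_⟩
  · rw [adjoint_eq_pow p B hQ hy hyB (z : A).2, ← Module.End.mul_apply, ← pow_succ, hzN, Module.End.one_apply]
  · rw [← hzo]
    refine orderOf_dvd_of_pow_eq_one (Units.ext (Subtype.ext (sub_eq_zero.1 ?_)))
    by_contra hne
    refine hv (eq_zero_of_commute hsimple
      (((commute_adjoin ((z ^ j : Aˣ) : A).2 (Commute.refl y)).symm).sub_left (Commute.one_left y)) hne ?_)
    show ((((z ^ j : Aˣ) : A) : Module.End F V) - 1) v = 0
    rw [← hpow, LinearMap.sub_apply, h, Module.End.one_apply, sub_self]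

end Commutant

section Torus

universe w

variable {F : Type*} [Field F] [Fintype F] {V : Type*} [AddCommGroup V] [Module F V] [Finite V]
  (B : LinearMap.BilinForm F V) (y : Module.End F V) {Q : ℕ}

/-- The commutant of an isometry without invariant subspaces. -/
theorem torus (p : ℕ) [Fact p.Prime] [CharP F p] (h2 : (2 : F) ≠ 0) {m : ℕ} (hm : m ≠ 0)
    (hQ : Q = Fintype.card F ^ m) (hdim : finrank F V = 2 * m) (hsymm : ∀ a b, B a b = B b a)
    (hnd : ∀ a, (∀ b, B a b = 0) → a = 0) (hy : y ^ (Q + 1) = 1) (hyB : ∀ a b, B (y a) (y b) = B a b)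
    (hsimple : ∀ U : Submodule F V, (∀ a ∈ U, y a ∈ U) → U = ⊥ ∨ U = ⊤) :
    (∀ b : Module.End F V, Commute b y → (∀ a c, B (b a) (b c) = B a c) →
      b ^ (Q + 1) = 1 ∧ LinearMap.det b = 1) ∧
    ∀ (W : Type w) [AddCommGroup W] [Finite W] (f : W → F), f 0 = 0 → (∀ w, f (-w) = f w) →
      (∀ w : W, w + w = 0 → w = 0) →
      ∃ P, Odd P ∧ Nat.card {x : V × W // x.1 ≠ 0 ∧ (2 : F)⁻¹ * B x.1 x.1 + f x.2 = 1} = (Q + 1) * P := by
  classical
  haveI : Nontrivial V := by
    refine Module.finrank_pos_iff (R := F).1 ?_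
    omega
  have hp := (Fact.out : p.Prime)
  obtain ⟨k, hk⟩ := FiniteField.card F p
  have hQp : Q = p ^ ((k : ℕ) * m) := by rw [hQ, hk.2, pow_mul]
  have hQodd : Odd Q := by
    rw [hQp]
    refine Odd.pow (hp.odd_of_ne_two fun h => h2 ?_)
    have := CharP.cast_eq_zero F p
    rwa [h, Nat.cast_ofNat] at this
  haveI : Nontrivial (Module.End F V) := inferInstance
  haveI : CharP (Module.End F V) p := charP_of_injective_algebraMap (algebraMap F (Module.End F V)).injective p
  have haddc : ∀ a b : Module.End F V, Commute a b → (a + b) ^ Q = a ^ Q + b ^ Q := fun a b hab => by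
    rw [hQp]; exact add_pow_char_pow_of_commute p _ hab
  set A := Algebra.adjoin F ({y} : Set (Module.End F V)) with hA
  have hAA : ∀ a ∈ A, ∀ b ∈ A, Commute a b := fun a ha b hb => adjoin_commute ha hb
  have hinj : ∀ b : Module.End F V, Commute b y → b ≠ 0 → ∀ v, b v = 0 → v = 0 := fun b hb hb0 v hv =>
    eq_zero_of_commute hsimple hb hb0 hv
  obtain ⟨v₀, hv₀⟩ := exists_ne (0 : V)
  have hcommutant : ∀ b : Module.End F V, Commute b y → b ∈ A := fun b hb => commutant_le_adjoin hsimple hb
  have hadj : ∀ a ∈ A, ∀ v w, B (a v) w = B v ((a ^ Q) w) := fun a ha => adjoint_eq_pow p B hQ hy hyB ha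
  have hnd' : ∀ b : V, (∀ a, B a b = 0) → b = 0 := fun b h => hnd b fun a => (hsymm b a).trans (h a)
  have hnorm : ∀ b : Module.End F V, Commute b y → (∀ a c, B (b a) (b c) = B a c) → b ^ (Q + 1) = 1 := by
    intro b hb hbB
    refine LinearMap.ext fun w => sub_eq_zero.1 (hnd' _ fun a => ?_)
    rw [map_sub, sub_eq_zero, pow_succ, Module.End.mul_apply, ← hadj b (hcommutant b hb), hbB,
      Module.End.one_apply]
  refine ⟨fun b hb hbB => ⟨hnorm b hb hbB, ?_⟩, ?_⟩
  · by_cases hb1 : b + 1 = 0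
    · rw [eq_neg_of_add_eq_zero_left hb1, ← neg_one_smul F (1 : Module.End F V), LinearMap.det_smul, map_one,
        mul_one, hdim, pow_mul, neg_one_sq, one_pow]
    · have hbb : b * b ^ Q = 1 := by rw [← pow_succ', hnorm b hb hbB]
      have e : b * (b + 1) ^ Q = b + 1 := by
        rw [haddc b 1 (Commute.one_right b), one_pow, mul_add, hbb, mul_one, add_comm]
      have hd : LinearMap.det (b + 1) ≠ 0 := fun h0 => by
        obtain ⟨v, hv, hv0⟩ := (Submodule.ne_bot_iff _).1 (LinearMap.bot_lt_ker_of_det_eq_zero h0).ne'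
        exact hv0 (hinj _ (hb.add_left (Commute.one_left y)) hb1 v (LinearMap.mem_ker.1 hv))
      have h := congrArg LinearMap.det e
      rw [map_mul, map_pow, hQ, FiniteField.pow_card_pow] at h
      exact mul_eq_right₀ hd |>.1 h
  · intro W _ _ f hf0 hf hW2
    haveI : Finite (Module.End F V) := Finite.of_injective (fun g => (g : V → V)) DFunLike.coe_injective
    letI : Field A := (adjoin_isField hsimple).toField
    let e : A ≃ V := Equiv.ofBijective (fun a => a.1 v₀) (adjoin_bijective hsimple hv₀)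
    have hcard : Nat.card A = Q * Q := by
      haveI := Fintype.ofFinite V
      rw [Nat.card_congr e, Nat.card_eq_fintype_card, Module.card_eq_pow_finrank (K := F), hdim, hQ, ← pow_add,
        two_mul]
    have haddA : ∀ a b : A, (a + b) ^ Q = a ^ Q + b ^ Q := fun a b => Subtype.ext (by
      simpa using haddc a.1 b.1 (hAA a.1 a.2 b.1 b.2))
    let φ : A →+ F :=
      { toFun := fun a => (2 : F)⁻¹ * B (a.1 v₀) v₀
        map_zero' := by simp
        map_add' := fun a b => by simp [mul_add] }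
    have hQval : ∀ a : A, (2 : F)⁻¹ * B (e a) (e a) = φ (a ^ (Q + 1)) := fun a => by
      show (2 : F)⁻¹ * B (a.1 v₀) (a.1 v₀) = (2 : F)⁻¹ * B (((a ^ (Q + 1) : A) : Module.End F V) v₀) v₀
      rw [hadj a.1 a.2, SubmonoidClass.coe_pow, pow_succ, Module.End.mul_apply, hsymm]
    have hQQ : ∀ a : A, (a ^ (Q + 1)) ^ Q = a ^ (Q + 1) := fun a => by
      haveI := Fintype.ofFinite A
      rw [← pow_mul, add_mul, one_mul, pow_add, ← hcard, Nat.card_eq_fintype_card, FiniteField.pow_card,
        pow_succ']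
    have hφ : ∃ a : A, a ^ Q = a ∧ φ a = 1 := by
      obtain ⟨v, hv⟩ : ∃ v, B v v ≠ 0 := by
        by_contra hall
        push Not at hall
        refine hv₀ (hnd v₀ fun b => ?_)
        have h := hall (v₀ + b)
        simp only [map_add, LinearMap.add_apply, hall, zero_add, add_zero, hsymm b v₀] at h
        exact (mul_eq_zero.1 (show (2 : F) * B v₀ b = 0 by linear_combination h)).resolve_left h2
      obtain ⟨a, rfl⟩ := e.surjective v
      set c := φ (a ^ (Q + 1)) with hc
      have hc0 : c ≠ 0 := by rw [hc, ← hQval]; exact mul_ne_zero (inv_ne_zero h2) hv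
      refine ⟨algebraMap F A c⁻¹ * a ^ (Q + 1), ?_, ?_⟩
      · rw [mul_pow, hQQ, ← map_pow, hQ, FiniteField.pow_card_pow]
      · have : (algebraMap F A c⁻¹ * a ^ (Q + 1)).1 v₀ = c⁻¹ • ((a ^ (Q + 1) : A) : Module.End F V) v₀ := by
          rw [MulMemClass.coe_mul, Subalgebra.coe_algebraMap, Module.End.mul_apply, Module.algebraMap_end_apply]
        show (2 : F)⁻¹ * B _ v₀ = 1
        rw [this, map_smul, LinearMap.smul_apply, smul_eq_mul, mul_left_comm]
        exact inv_mul_cancel₀ hc0
    obtain ⟨P, hP, hPc⟩ := card_norm_eq hQodd hcard haddA φ hφ f hf0 hf hW2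
    refine ⟨P, hP, hPc ▸ Nat.card_congr ((e.prodCongr (Equiv.refl W)).subtypeEquiv fun x => ?_).symm⟩
    show x.1 ≠ 0 ∧ _ ↔ e x.1 ≠ 0 ∧ (2 : F)⁻¹ * B (e x.1) (e x.1) + f x.2 = 1
    rw [hQval]
    refine and_congr_left fun _ => not_congr ⟨fun h => ?_, fun h => e.injective ?_⟩
    · rw [h]; rfl
    · rw [h]; rfl

end Torus

section Three

variable {F : Type*} [Field F] {V : Type*} [AddCommGroup V] [Module F V]

/-- A semisimple isometry commuting with a unipotent one in dimension three is a sign. -/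
theorem eq_pm_one (p N : ℕ) [hp : Fact p.Prime] [CharP F p] (hpo : p ≠ 2) (hpN : Nat.Coprime p N)
    [FiniteDimensional F V] (hdim : finrank F V = 3) (B : LinearMap.BilinForm F V)
    (hsymm : ∀ a b, B a b = B b a) (hnd : ∀ a, (∀ b, B a b = 0) → a = 0) {u t : Module.End F V}
    (hu : u ^ p = 1) (hu1 : u ≠ 1) (huB : ∀ a b, B (u a) (u b) = B a b) (ht : t ^ N = 1)
    (htB : ∀ a b, B (t a) (t b) = B a b) (hc : Commute t u) : t = 1 ∨ t = -1 := by
  classical
  haveI : Nontrivial V := Module.finrank_pos_iff (R := F).1 (by omega)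
  haveI : CharP (Module.End F V) p := charP_of_injective_algebraMap (algebraMap F (Module.End F V)).injective p
  set X := u - 1 with hX
  have hXp : X ^ p = 0 := by rw [hX, sub_pow_char_of_commute p (Commute.one_right u), hu, one_pow, sub_self]
  have huX : u = X + 1 := (sub_add_cancel u 1).symm
  have hX0 : X ≠ 0 := sub_ne_zero.2 hu1
  have hX2 : X ^ 2 ≠ 0 := fun h => by
    have hskew : ∀ a b, B (X a) b = -B a (X b) := fun a b => by
      have hXb : X (X b) = 0 := by rw [← Module.End.mul_apply, ← sq, h, LinearMap.zero_apply]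
      have h1 := huB a (b - X b)
      have e : u (b - X b) = b := by rw [huX]; simp [map_sub, hXb]
      rw [e, huX] at h1
      simp only [LinearMap.add_apply, Module.End.one_apply, map_add, map_sub] at h1
      linear_combination h1
    have hle : LinearMap.range X ≤ LinearMap.ker X := by
      rintro _ ⟨a, rfl⟩
      rw [LinearMap.mem_ker, ← Module.End.mul_apply, ← sq, h, LinearMap.zero_apply]
    have hr : finrank F (LinearMap.range X) ≤ 1 := by
      have h1 := Submodule.finrank_mono hle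
      have h2 := LinearMap.finrank_range_add_finrank_ker X
      omega
    obtain ⟨a, ha⟩ : ∃ a, X a ≠ 0 := by
      by_contra hall
      push Not at hall
      exact hX0 (LinearMap.ext hall)
    have hmul : ∀ b, ∃ c : F, c • X a = X b := fun b => by
      rcases (finrank_le_one_iff (K := F) (V := LinearMap.range X)).1 hr with ⟨v, hv⟩
      obtain ⟨c1, h1⟩ := hv ⟨X a, a, rfl⟩
      obtain ⟨c2, h2⟩ := hv ⟨X b, b, rfl⟩
      have h1' : c1 • (v : V) = X a := congrArg Subtype.val h1
      have h2' : c2 • (v : V) = X b := congrArg Subtype.val h2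
      have hc1 : c1 ≠ 0 := fun h0 => ha (by rw [← h1', h0, zero_smul])
      exact ⟨c2 / c1, by rw [← h1', ← h2', smul_smul, div_mul_cancel₀ _ hc1]⟩
    have hdiag : ∀ b, B (X b) b = 0 := fun b => by
      have h2 : (2 : F) ≠ 0 := fun h2 => hpo ((CharP.cast_eq_zero_iff F p 2).1 (by simpa using h2) |>
        (Nat.prime_dvd_prime_iff_eq hp.out Nat.prime_two).1)
      have := hskew b b
      rw [hsymm b (X b)] at this
      exact (mul_eq_zero.1 (show (2 : F) * B (X b) b = 0 by linear_combination this)).resolve_left h2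
    refine ha (hnd _ fun b => ?_)
    obtain ⟨c, hc⟩ := hmul b
    have h1 := hdiag b
    rw [← hc, map_smul, LinearMap.smul_apply, smul_eq_mul, mul_eq_zero] at h1
    rcases h1 with h1 | h1
    · rw [hskew, ← hc, h1, zero_smul, map_zero, neg_zero]
    · exact h1
  -- a cyclic vector
  let k := Nat.find (⟨p, hXp⟩ : ∃ k, X ^ k = 0)
  have hk : X ^ k = 0 := Nat.find_spec (⟨p, hXp⟩ : ∃ k, X ^ k = 0)
  have hmin : ∀ j, j < k → X ^ j ≠ 0 := fun j hj => Nat.find_min (⟨p, hXp⟩ : ∃ k, X ^ k = 0) hj
  have hk3 : 3 ≤ k := by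
    by_contra hlt
    refine hX2 ?_
    rw [show 2 = k + (2 - k) by omega, pow_add, hk, zero_mul]
  obtain ⟨a, ha⟩ : ∃ a, (X ^ (k - 1)) a ≠ 0 := by
    by_contra hall
    push Not at hall
    exact hmin (k - 1) (by omega) (LinearMap.ext hall)
  have hge : ∀ j, k ≤ j → (X ^ j) a = 0 := fun j hj => by
    rw [← Nat.add_sub_cancel' hj, pow_add, hk, zero_mul, LinearMap.zero_apply]
  let v : Fin 3 → V := ![a, X a, (X ^ 2) a]
  have hli : LinearIndependent F v := by
    rw [Fintype.linearIndependent_iff]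
    intro g hg
    simp only [v, Fin.sum_univ_three, Matrix.cons_val_zero, Matrix.cons_val_one, Matrix.cons_val] at hg
    have hj : ∀ j, g 0 • (X ^ j) a + g 1 • (X ^ (j + 1)) a + g 2 • (X ^ (j + 2)) a = 0 := fun j => by
      have := congrArg (X ^ j) hg
      simp only [map_add, map_smul, map_zero] at this
      rwa [← Module.End.mul_apply, ← pow_succ, ← Module.End.mul_apply, ← pow_add] at this
    have e0 : g 0 = 0 := by
      have := hj (k - 1)
      rw [hge (k - 1 + 1) (by omega), hge (k - 1 + 2) (by omega), smul_zero, smul_zero, add_zero, add_zero,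
        smul_eq_zero] at this
      exact this.resolve_right ha
    have e1 : g 1 = 0 := by
      have := hj (k - 2)
      rw [e0, zero_smul, zero_add, hge (k - 2 + 2) (by omega), smul_zero, add_zero,
        show k - 2 + 1 = k - 1 by omega, smul_eq_zero] at this
      exact this.resolve_right ha
    have e2 : g 2 = 0 := by
      have := hj (k - 3)
      rw [e0, e1, zero_smul, zero_smul, zero_add, zero_add, show k - 3 + 2 = k - 1 by omega, smul_eq_zero] at this
      exact this.resolve_right ha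
    intro i
    fin_cases i
    exacts [e0, e1, e2]
  let b := basisOfLinearIndependentOfCardEqFinrank hli (by rw [Fintype.card_fin, hdim])
  have hb : ∀ i, b i = v i := fun i => by simp [b]
  have htX : Commute t X := hc.sub_right (Commute.one_right t)
  set c : Fin 3 → F := fun i => b.repr (t a) i
  let T : Module.End F V := c 0 • 1 + c 1 • X + c 2 • X ^ 2
  have hTX : Commute T X :=
    (((Commute.one_left X).smul_left _).add_left ((Commute.refl X).smul_left _)).add_left
      (((Commute.refl X).pow_left 2).smul_left _)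
  have hTa : t a = T a := by
    conv_lhs => rw [← b.sum_repr (t a)]
    simp only [hb, v, Fin.sum_univ_three, Matrix.cons_val_zero, Matrix.cons_val_one, Matrix.cons_val, T,
      LinearMap.add_apply, LinearMap.smul_apply, Module.End.one_apply]
    rfl
  have htT : t = T := b.ext fun i => by
    rw [hb]
    fin_cases i
    · exact hTa
    · show t (X a) = T (X a)
      rw [← Module.End.mul_apply, htX.eq, Module.End.mul_apply, hTa, ← Module.End.mul_apply, ← hTX.eq,
        Module.End.mul_apply]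
    · show t ((X ^ 2) a) = T ((X ^ 2) a)
      rw [← Module.End.mul_apply, (htX.pow_right 2).eq, Module.End.mul_apply, hTa, ← Module.End.mul_apply,
        ← (hTX.pow_right 2).eq, Module.End.mul_apply]
  have htp : t ^ p = c 0 ^ p • 1 := by
    rw [htT, show T = c 0 • 1 + X * (c 1 • 1 + c 2 • X) by
      simp only [T, mul_add, mul_smul_comm, mul_one, sq, add_assoc]]
    rw [add_pow_char_of_commute p, smul_pow, one_pow, (Commute.mul_pow ?_), hXp, zero_mul, add_zero]
    · exact ((Commute.one_right X).smul_right _).add_right ((Commute.refl X).smul_right _)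
    · exact (Commute.one_left _).smul_left _
  -- `t` is a power of `t ^ p`
  obtain ⟨l, hl⟩ := exists_pow_eq_self_of_coprime (x := t) (show Nat.Coprime p (orderOf t) from
    hpN.coprime_dvd_right (orderOf_dvd_of_pow_eq_one ht))
  rw [htp, smul_pow, one_pow] at hl
  rw [← hl]
  obtain ⟨w, hw⟩ : ∃ w, B a w ≠ 0 := by
    by_contra hall
    push Not at hall
    exact ha (by rw [hnd a hall, map_zero])
  have h1 := htB a w
  rw [← hl] at h1
  simp only [LinearMap.smul_apply, Module.End.one_apply, map_smul, smul_eq_mul] at h1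
  rcases mul_self_eq_one_iff.1 (mul_right_cancel₀ hw (show (c 0 ^ p) ^ l * (c 0 ^ p) ^ l * B a w = 1 * B a w by
      linear_combination h1)) with h | h
  · exact Or.inl (by rw [h, one_smul])
  · exact Or.inr (by rw [h, neg_one_smul])

end Three

end Cfsg.Lib.Linear.TorusSign
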