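import Mathlib

/-!
# Two classes of `PSL_d(q)`, `d ≥ 3`, never multiply to a single class

The proof uses only the action on the points of projective space: the number of fixed points is
a class function `f` with `(N - 1) (f c - 1) = (f a - 1) (f b - 1)` whenever the product of
the classes of `a` and `b` is the class of `c`.
-/

set_option autoImplicit false

namespace Cfsg.Agent.PSLClassProd

open MulAction Module
open scoped LinearAlgebra.Projectivization Pointwise

section Count

variable {G X : Type*} [Group G] [Fintype G] [MulAction G X] [Fintype X]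

/-- number of fixed points -/
noncomputable def fx (X : Type*) [MulAction G X] (g : G) : ℕ := Nat.card {x : X // g • x = x}

theorem fx_conj (g h : G) : fx X (h * g * h⁻¹) = fx X g := by
  refine Nat.card_congr ((MulAction.toPerm (h⁻¹ : G)).subtypeEquiv fun x => ?_)
  rw [MulAction.toPerm_apply, mul_smul, mul_smul, ← eq_inv_smul_iff]

theorem fx_inv (g : G) : fx X g⁻¹ = fx X g := by
  refine Nat.card_congr (Equiv.subtypeEquivRight fun x => ?_)
  rw [inv_smul_eq_iff, eq_comm]

/-- The count of fixed points of the products of two classes in a doubly transitive action. -/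
theorem sum_fx [IsMultiplyPretransitive G X 2] (a b : G) :
    (Fintype.card X : ℤ) * (Fintype.card X - 1) * ∑ h : G, (fx X (a * (h * b * h⁻¹)) : ℤ) =
      Fintype.card G * ((Fintype.card X - 1) * fx X a * fx X b +
        (Fintype.card X - fx X a) * (Fintype.card X - fx X b)) := by
  classical
  have h2 : ∀ {a b c d : X}, a ≠ b → c ≠ d → ∃ g : G, g • a = c ∧ g • b = d :=
    (is_two_pretransitive_iff).1 (inferInstance : IsMultiplyPretransitive G X 2)
  -- the stabiliser-translate count
  let M : X → X → ℕ := fun x y => (Finset.univ.filter fun h : G => (h * b * h⁻¹) • x = y).card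
  have hM : ∀ (g : G) x y, M (g • x) (g • y) = M x y := fun g x y => by
    refine Finset.card_bij' (fun h _ => g⁻¹ * h) (fun h _ => g * h) ?_ ?_ (fun h _ => by group) (fun h _ => by group)
    · intro h hh
      simp only [Finset.mem_filter, Finset.mem_univ, true_and] at hh ⊢
      have : g⁻¹ • ((h * b * h⁻¹) • g • x) = y := by rw [hh, inv_smul_smul]
      rw [← this, ← mul_smul, ← mul_smul]
      congr 1
      group
    · intro h hh
      simp only [Finset.mem_filter, Finset.mem_univ, true_and] at hh ⊢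
      rw [← hh, ← mul_smul, ← mul_smul]
      congr 1
      group
  have hrow : ∀ x, ∑ y, M x y = Fintype.card G := fun x =>
    (Finset.card_eq_sum_card_fiberwise (fun _ _ => Finset.mem_univ _)).symm
  have hdiag : ∑ x, M x x = Fintype.card G * fx X b := by
    simp only [M, Finset.card_filter]
    rw [Finset.sum_comm]
    have : ∀ h : G, (∑ x : X, if (h * b * h⁻¹) • x = x then 1 else 0) = fx X b := fun h => by
      rw [← fx_conj b h, fx, Nat.card_eq_fintype_card, Fintype.card_subtype, Finset.card_filter]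
    rw [Finset.sum_congr rfl fun h _ => this h, Finset.sum_const, Finset.card_univ, smul_eq_mul]
  have hconst1 : ∀ x x' : X, M x x = M x' x' := fun x x' => by
    rcases eq_or_ne x x' with rfl | hne
    · rfl
    obtain ⟨g, hg, -⟩ := h2 hne hne.symm
    rw [← hg, hM]
  have hconst2 : ∀ {x y x' y' : X}, x ≠ y → x' ≠ y' → M x y = M x' y' := fun hxy hxy' => by
    obtain ⟨g, hg, hg'⟩ := h2 hxy hxy'
    rw [← hg, ← hg', hM]
  have hD : ∀ x, (Fintype.card X : ℤ) * M x x = Fintype.card G * fx X b := fun x => by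
    have h : ∑ x' : X, M x' x' = Fintype.card X * M x x := by
      rw [Finset.sum_congr rfl fun x' _ => hconst1 x' x, Finset.sum_const, Finset.card_univ, smul_eq_mul]
    exact_mod_cast (h ▸ hdiag : Fintype.card X * M x x = Fintype.card G * fx X b)
  have hO : ∀ {x y : X}, x ≠ y → (Fintype.card X : ℤ) * (Fintype.card X - 1) * M x y =
      Fintype.card G * (Fintype.card X - fx X b) := fun {x y} hxy => by
    have h := hrow x
    rw [← Finset.add_sum_erase _ _ (Finset.mem_univ x),
      Finset.sum_congr rfl (fun z hz => hconst2 (Finset.ne_of_mem_erase hz).symm hxy), Finset.sum_const,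
      Finset.card_erase_of_mem (Finset.mem_univ x), Finset.card_univ, smul_eq_mul] at h
    have hX : 1 ≤ Fintype.card X := Fintype.card_pos_iff.2 ⟨x⟩
    have hz : (M x x : ℤ) + ((Fintype.card X : ℤ) - 1) * M x y = Fintype.card G := by
      rw [← h]; push_cast [Nat.cast_sub hX]; ring
    linear_combination (Fintype.card X : ℤ) * hz - hD x
  have hfix : ∀ h : G, (fx X (a * (h * b * h⁻¹)) : ℤ) =
      ∑ x : X, if (h * b * h⁻¹) • x = a⁻¹ • x then (1 : ℤ) else 0 := fun h => by
    rw [Finset.sum_boole, fx, Nat.card_eq_fintype_card, Fintype.card_subtype]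
    simp only [mul_smul, eq_inv_smul_iff]
  simp only [hfix]
  rw [Finset.sum_comm, Finset.mul_sum]
  have hx : ∀ x : X, (Fintype.card X : ℤ) * (Fintype.card X - 1) *
      ∑ h : G, (if (h * b * h⁻¹) • x = a⁻¹ • x then (1 : ℤ) else 0) =
      if a • x = x then ((Fintype.card X : ℤ) - 1) * ((Fintype.card G : ℤ) * fx X b)
      else (Fintype.card G : ℤ) * (Fintype.card X - fx X b) := fun x => by
    rw [Finset.sum_boole]
    split_ifs with hax
    · rw [inv_smul_eq_iff.2 hax.symm]
      have := hD x
      simp only [M] at this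
      linear_combination ((Fintype.card X : ℤ) - 1) * this
    · exact hO (x := x) (y := a⁻¹ • x) fun hh => hax (eq_inv_smul_iff.1 hh)
  rw [Finset.sum_congr rfl fun x _ => hx x, Finset.sum_ite, Finset.sum_const, Finset.sum_const,
    nsmul_eq_mul, nsmul_eq_mul]
  have hc : (Finset.univ.filter fun x : X => a • x = x).card = fx X a := by
    rw [fx, Nat.card_eq_fintype_card, Fintype.card_subtype]
  have hc' : ((Finset.univ.filter fun x : X => ¬a • x = x).card : ℤ) = Fintype.card X - fx X a := by
    have := Finset.card_filter_add_card_filter_not (s := (Finset.univ : Finset X)) (fun x => a • x = x)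
    rw [Finset.card_univ, hc] at this
    omega
  rw [hc, hc']
  ring

/-- The Burnside identity for a product of classes with constant number of fixed points. -/
theorem burnside [IsMultiplyPretransitive G X 2] [Nonempty X] (a b : G) (n : ℕ)
    (h : ∀ g : G, fx X (a * (g * b * g⁻¹)) = n) :
    ((Fintype.card X : ℤ) - 1) * ((n : ℤ) - 1) = ((fx X a : ℤ) - 1) * ((fx X b : ℤ) - 1) := by
  have hs := sum_fx (X := X) a b
  simp only [h, Finset.sum_const, Finset.card_univ, nsmul_eq_mul] at hs
  have hG : (Fintype.card G : ℤ) ≠ 0 := by exact_mod_cast Fintype.card_ne_zero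
  have hX : (Fintype.card X : ℤ) ≠ 0 := by exact_mod_cast Fintype.card_ne_zero
  apply mul_left_cancel₀ hX
  apply mul_left_cancel₀ hG
  linear_combination hs

end Count

section Config

variable {F : Type*} [Field F] {V : Type*} [AddCommGroup V] [Module F V]

theorem li3 {x y z : V} (hxy : LinearIndependent F ![x, y]) (hz : z ∉ Submodule.span F {x, y}) :
    LinearIndependent F ![z, x, y] := by
  refine linearIndependent_finCons.2 ⟨hxy, ?_⟩
  rwa [Matrix.range_cons, Matrix.range_cons, Matrix.range_empty, Set.union_empty, Set.singleton_union]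

theorem li4 {x y z w : V} (hxyz : LinearIndependent F ![x, y, z]) (hw : w ∉ Submodule.span F {x, y, z}) :
    LinearIndependent F ![w, x, y, z] := by
  refine linearIndependent_finCons.2 ⟨hxyz, ?_⟩
  rwa [Matrix.range_cons, Matrix.range_cons, Matrix.range_cons, Matrix.range_empty, Set.union_empty,
    Set.singleton_union, Set.singleton_union]

theorem rot3 {x y z : V} (h : LinearIndependent F ![z, x, y]) : LinearIndependent F ![x, y, z] := by
  have := h.comp ![1, 2, 0] (by decide)
  convert this using 1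
  ext i; fin_cases i <;> rfl

theorem swap4 {x y z w : V} (h : LinearIndependent F ![w, x, y, z]) : LinearIndependent F ![x, w, y, z] := by
  have := h.comp ![1, 0, 2, 3] (by decide)
  convert this using 1
  ext i; fin_cases i <;> rfl

theorem finrank_pair {a b : V} (h : LinearIndependent F ![a, b]) :
    finrank F (Submodule.span F ({a, b} : Set V)) = 2 := by
  have := finrank_span_eq_card h
  rwa [Matrix.range_cons, Matrix.range_cons, Matrix.range_empty, Set.union_empty, Set.singleton_union,
    Fintype.card_fin] at this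

theorem exists_notMem [FiniteDimensional F V] {S : Finset V} (h : S.card < finrank F V) :
    ∃ v : V, v ∉ Submodule.span F (S : Set V) := by
  by_contra hc
  push Not at hc
  have : Submodule.span F (S : Set V) = ⊤ := Submodule.eq_top_iff'.2 hc
  have h1 : finrank F (Submodule.span F (S : Set V)) ≤ S.card := finrank_span_finset_le_card (R := F) S
  rw [this, finrank_top] at h1
  omega

/-- A map sending each vector into the span of itself and `W` is scalar modulo `W`. -/
theorem scalar_mod (B : V →ₗ[F] V) (W : Submodule F V) {q : V} (hW : ∀ w ∈ W, B w ∈ W)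
    (h : ∀ v, ∃ c : F, B v - c • v ∈ W) (hq : ∃ q', q' ∉ W ⊔ Submodule.span F {q}) (hqW : q ∉ W) :
    ∃ c : F, ∀ v, B v - c • v ∈ W := by
  obtain ⟨q', hq'⟩ := hq
  obtain ⟨c, hc⟩ := h q
  refine ⟨c, ?_⟩
  have out : ∀ v, v ∉ W ⊔ Submodule.span F {q} → B v - c • v ∈ W := fun v hv => by
    obtain ⟨d, hd⟩ := h v
    obtain ⟨e, he⟩ := h (v + q)
    have hm : (d - e) • v + (c - e) • q ∈ W := by
      have : (d - e) • v + (c - e) • q =
          (B (v + q) - e • (v + q)) - (B v - d • v) - (B q - c • q) := by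
        rw [map_add]; module
      rw [this]; exact sub_mem (sub_mem he hd) hc
    have hde : d = e := by
      by_contra hne
      refine hv ?_
      have h1 : (d - e) • v ∈ W ⊔ Submodule.span F {q} := by
        have := sub_mem (Submodule.mem_sup_left (T := Submodule.span F {q}) hm)
          (Submodule.mem_sup_right (Submodule.smul_mem _ (c - e) (Submodule.mem_span_singleton_self q)))
        simpa using this
      exact (Submodule.smul_mem_iff _ (sub_ne_zero.2 hne)).1 h1
    subst hde
    rw [sub_self, zero_smul, zero_add] at hm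
    rcases eq_or_ne c d with rfl | hne
    · exact hd
    · exact absurd ((Submodule.smul_mem_iff _ (sub_ne_zero.2 hne)).1 hm) hqW
  intro v
  by_cases hv : v ∈ W ⊔ Submodule.span F {q}
  · have h1 : v + q' ∉ W ⊔ Submodule.span F {q} := fun h1 => hq' (by simpa using sub_mem h1 hv)
    have : B v - c • v = (B (v + q') - c • (v + q')) - (B q' - c • q') := by rw [map_add]; module
    rw [this]
    exact sub_mem (out _ h1) (out _ hq')
  · exact out v hv

variable [FiniteDimensional F V]

/-- `p, v, B v` in general position, `p` an eigenvector. -/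
def ConfI (B : V →ₗ[F] V) : Prop :=
  ∃ p v : V, (∃ c : F, B p = c • p) ∧ LinearIndependent F ![p, v, B v]

def ConfII (B : V →ₗ[F] V) : Prop := ∃ v : V, LinearIndependent F ![v, B v, B (B v)]

def ConfIII (B : V →ₗ[F] V) : Prop := ∃ v w : V, LinearIndependent F ![w, B w, v, B v]

theorem scalar_mod_line_of_not_confI (hd : 3 ≤ finrank F V) (B : V →ₗ[F] V) {p : V} (hp : p ≠ 0)
    (hBp : ∃ c : F, B p = c • p) (h : ¬ ConfI B) :
    ∃ c : F, ∀ v, B v - c • v ∈ Submodule.span F {p} := by
  classical
  obtain ⟨q, hq⟩ := exists_notMem (F := F) (V := V) (S := {p}) (by simp; omega)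
  obtain ⟨q', hq'⟩ := exists_notMem (F := F) (V := V) (S := {p, q})
    (by have : ({p, q} : Finset V).card ≤ 2 := Finset.card_le_two; omega)
  simp only [Finset.coe_singleton, Finset.coe_insert] at hq hq'
  refine scalar_mod B _ (q := q) ?_ ?_ ⟨q', by rwa [← Submodule.span_insert]⟩ hq
  · intro w hw
    obtain ⟨e, rfl⟩ := Submodule.mem_span_singleton.1 hw
    obtain ⟨c, hc⟩ := hBp
    rw [map_smul, hc]
    exact Submodule.smul_mem _ _ (Submodule.smul_mem _ _ (Submodule.mem_span_singleton_self p))
  · intro v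
    by_cases hv : v ∈ Submodule.span F {p}
    · obtain ⟨e, rfl⟩ := Submodule.mem_span_singleton.1 hv
      obtain ⟨c, hc⟩ := hBp
      exact ⟨c, by rw [map_smul, hc, smul_comm, sub_self]; exact zero_mem _⟩
    by_contra hcon
    push Not at hcon
    refine h ⟨p, v, hBp, ?_⟩
    have hpv : LinearIndependent F ![p, v] := (LinearIndependent.pair_iff' hp).2 fun e he =>
      hv (Submodule.mem_span_singleton.2 ⟨e, he⟩)
    have hli : LinearIndependent F ![B v, p, v] := li3 hpv fun hm => by
      obtain ⟨e, f, hef⟩ := Submodule.mem_span_pair.1 hm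
      exact hcon f (Submodule.mem_span_singleton.2 ⟨e, by rw [← hef]; module⟩)
    exact rot3 hli

theorem confI (hd : 3 ≤ finrank F V) (B : V →ₗ[F] V) (hB : ∀ c : F, B ≠ c • LinearMap.id) {p : V}
    (hp : p ≠ 0) (hBp : ∃ c : F, B p = c • p) : ConfI B := by
  by_contra h
  obtain ⟨c, hc⟩ := scalar_mod_line_of_not_confI hd B hp hBp h
  let T := B - c • LinearMap.id
  have hrange : LinearMap.range T ≤ Submodule.span F {p} := by
    rintro _ ⟨v, rfl⟩; exact hc v
  have hker : 2 ≤ finrank F (LinearMap.ker T) := by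
    have := LinearMap.finrank_range_add_finrank_ker T
    have := Submodule.finrank_mono hrange
    rw [finrank_span_singleton hp] at this
    omega
  obtain ⟨p', hp'k, hp'⟩ : ∃ p' ∈ LinearMap.ker T, p' ∉ Submodule.span F {p} := by
    by_contra hh
    push Not at hh
    have := Submodule.finrank_mono (s := LinearMap.ker T) hh
    rw [finrank_span_singleton hp] at this
    omega
  have hp'0 : p' ≠ 0 := fun e => hp' (e ▸ zero_mem _)
  have hBp' : B p' = c • p' := sub_eq_zero.1 hp'k
  obtain ⟨c', hc'⟩ := scalar_mod_line_of_not_confI hd B hp'0 ⟨c, hBp'⟩ h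
  rcases eq_or_ne c c' with rfl | hne
  · refine hB c (LinearMap.ext fun v => sub_eq_zero.1 ?_)
    obtain ⟨x, hx⟩ := Submodule.mem_span_singleton.1 (hc v)
    obtain ⟨y, hy⟩ := Submodule.mem_span_singleton.1 (hc' v)
    change B v - c • v = 0
    rcases eq_or_ne y 0 with rfl | hy0
    · rw [← hy, zero_smul]
    · refine absurd (Submodule.mem_span_singleton.2 ⟨y⁻¹ * x, ?_⟩) hp'
      rw [mul_smul, hx, ← hy, inv_smul_smul₀ hy0]
  · have hall : ∀ v, v ∈ Submodule.span F {p, p'} := fun v => by
      have h1 : (c' - c) • v ∈ Submodule.span F {p, p'} := by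
        have : (c' - c) • v = (B v - c • v) - (B v - c' • v) := by module
        rw [this]
        exact sub_mem (Submodule.span_mono (by simp) (hc v)) (Submodule.span_mono (by simp) (hc' v))
      exact (Submodule.smul_mem_iff _ (sub_ne_zero.2 hne.symm)).1 h1
    classical
    obtain ⟨v, hv⟩ := exists_notMem (F := F) (V := V) (S := {p, p'})
      (by have : ({p, p'} : Finset V).card ≤ 2 := Finset.card_le_two; omega)
    exact hv (by simpa using hall v)

/-- If there is exactly one fixed point then some vector has a three-dimensional cyclic span. -/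
theorem confII_of_unique (hd : 3 ≤ finrank F V) (B : V →ₗ[F] V) (hB : ∀ c : F, B ≠ c • LinearMap.id)
    {p : V} (hp : p ≠ 0) {μ : F} (hBp : B p = μ • p)
    (huniq : ∀ x : V, (∃ c : F, B x = c • x) → x ∈ Submodule.span F {p}) : ConfII B := by
  classical
  obtain ⟨p', q, ⟨c, hc⟩, hli⟩ := confI hd B hB hp ⟨μ, hBp⟩
  have hp'0 : p' ≠ 0 := hli.ne_zero 0
  obtain ⟨e, he⟩ := Submodule.mem_span_singleton.1 (huniq p' ⟨c, hc⟩)
  have hq2 : LinearIndependent F ![q, B q] := by
    have := hli.comp ![1, 2] (by decide)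
    convert this using 1
    ext i; fin_cases i <;> rfl
  have hpq : ∀ x y : F, p ≠ x • q + y • B q := fun x y hxy => by
    have := Fintype.linearIndependent_iff.1 hli ![(-1 : F), e * x, e * y]
      (by simp [Fin.sum_univ_three]; rw [← he, hxy]; module) 0
    simp at this
  by_contra h
  have hdep : ∀ v, LinearIndependent F ![v, B v] → ∃ x y : F, B (B v) = x • v + y • B v := fun v hv => by
    by_contra hcon
    push Not at hcon
    refine h ⟨v, rot3 (li3 (z := B (B v)) hv fun hm => ?_)⟩
    obtain ⟨x, y, hxy⟩ := Submodule.mem_span_pair.1 hm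
    exact hcon x y hxy.symm
  obtain ⟨x, y, hxy⟩ := hdep q hq2
  have hv2 : LinearIndependent F ![p + q, B (p + q)] := by
    rw [LinearIndependent.pair_iff]
    intro s t hst
    rw [map_add, hBp] at hst
    have h0 : (s + t * μ) • p + (s • q + t • B q) = 0 := by rw [← hst]; module
    rcases eq_or_ne (s + t * μ) 0 with hz | hz
    · rw [hz, zero_smul, zero_add] at h0
      exact LinearIndependent.pair_iff.1 hq2 s t h0
    · exact absurd (by
        rw [← eq_neg_iff_add_eq_zero] at h0
        apply_fun (fun z => (s + t * μ)⁻¹ • z) at h0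
        rw [inv_smul_smul₀ hz] at h0
        rw [h0]; module) (hpq (-(s + t * μ)⁻¹ * s) (-(s + t * μ)⁻¹ * t))
  obtain ⟨s, t, hst⟩ := hdep _ hv2
  simp only [map_add, map_smul, hBp, hxy] at hst
  have h0 : (μ * μ - s - t * μ) • p + ((x - s) • q + (y - t) • B q) = 0 := by
    rw [← sub_eq_zero] at hst; rw [← hst]; module
  have hz : μ * μ - s - t * μ = 0 := by
    by_contra hz
    refine hpq (-(μ * μ - s - t * μ)⁻¹ * (x - s)) (-(μ * μ - s - t * μ)⁻¹ * (y - t)) ?_
    rw [← eq_neg_iff_add_eq_zero] at h0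
    apply_fun (fun z => (μ * μ - s - t * μ)⁻¹ • z) at h0
    rw [inv_smul_smul₀ hz] at h0
    rw [h0]; module
  rw [hz, zero_smul, zero_add] at h0
  obtain ⟨hxs, hyt⟩ := LinearIndependent.pair_iff.1 hq2 _ _ h0
  rw [sub_eq_zero] at hxs hyt
  subst hxs hyt
  -- `μ` is a root of the quadratic on the plane, whose eigenvector is a second fixed point
  have heig : B (B q - (y - μ) • q) = μ • (B q - (y - μ) • q) := by
    rw [map_sub, map_smul, hxy]
    have : x = μ * μ - y * μ := by linear_combination -hz
    rw [this]; module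
  obtain ⟨f, hf⟩ := Submodule.mem_span_singleton.1 (huniq _ ⟨μ, heig⟩)
  rcases eq_or_ne f 0 with rfl | hf0
  · rw [zero_smul] at hf
    have := LinearIndependent.pair_iff.1 hq2 (-(y - μ)) 1 (by rw [hf]; module)
    exact one_ne_zero this.2
  · refine hpq (f⁻¹ * -(y - μ)) f⁻¹ ?_
    apply_fun (fun z => f⁻¹ • z) at hf
    rw [inv_smul_smul₀ hf0] at hf
    rw [hf]; module

theorem confIII_of_confII (hd : 4 ≤ finrank F V) (B : V →ₗ[F] V) (h : ConfII B) : ConfIII B := by
  classical
  obtain ⟨v, hv⟩ := h
  set W := Submodule.span F {v, B v}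
  by_contra hno
  have hdep : ∀ w, w ∉ W → ∃ r : F, B w - r • w ∈ W := fun w hw => by
    by_contra hcon
    push Not at hcon
    refine hno ⟨v, w, ?_⟩
    have h2 : LinearIndependent F ![v, B v] := by
      have := hv.comp ![0, 1] (by decide)
      convert this using 1
      ext i; fin_cases i <;> rfl
    have h3 : LinearIndependent F ![w, v, B v] := li3 h2 hw
    have h4 := li4 (w := B w) h3 fun hm => by
      obtain ⟨r, z, hz, hrz⟩ := Submodule.mem_span_insert.1 hm
      exact hcon r (by rw [hrz]; simpa using hz)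
    exact swap4 h4
  have hu : B (B v) ∉ W := fun hm => by
    obtain ⟨x, y, hxy⟩ := Submodule.mem_span_pair.1 hm
    have := Fintype.linearIndependent_iff.1 hv ![x, y, -1] (by simp [Fin.sum_univ_three, hxy]) 2
    simp at this
  obtain ⟨r, hr⟩ := hdep _ hu
  obtain ⟨w, hw⟩ := exists_notMem (F := F) (V := V) (S := {B (B v), v, B v})
    (by have : ({B (B v), v, B v} : Finset V).card ≤ 3 := Finset.card_le_three; omega)
  set U := Submodule.span F {B (B v), v, B v}
  replace hw : w ∉ U := by simpa [U] using hw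
  have hWU : W ≤ U := Submodule.span_mono (by simp)
  have huU : B (B v) ∈ U := Submodule.subset_span (by simp)
  have out : ∀ z, z ∉ U → B z - r • z ∈ W := fun z hz => by
    obtain ⟨d, hd⟩ := hdep z fun h => hz (hWU h)
    obtain ⟨e, he⟩ := hdep (z + B (B v)) fun h => hz (by simpa using sub_mem (hWU h) huU)
    have hm : (d - e) • z + (r - e) • B (B v) ∈ W := by
      have : (d - e) • z + (r - e) • B (B v) = (B (z + B (B v)) - e • (z + B (B v))) -
          (B z - d • z) - (B (B (B v)) - r • B (B v)) := by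
        rw [map_add]; module
      rw [this]; exact sub_mem (sub_mem he hd) hr
    have hde : d = e := by
      by_contra hne
      refine hz ((Submodule.smul_mem_iff _ (sub_ne_zero.2 hne)).1 ?_)
      simpa using sub_mem (hWU hm) (Submodule.smul_mem _ (r - e) huU)
    subst hde
    rw [sub_self, zero_smul, zero_add] at hm
    rcases eq_or_ne r d with rfl | hne
    · exact hd
    · exact absurd ((Submodule.smul_mem_iff _ (sub_ne_zero.2 hne)).1 hm) hu
  have hBvU : B v ∈ U := Submodule.subset_span (by simp)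
  have h1 : B (B v) - r • B v ∈ W := by
    have : B (B v) - r • B v = (B (w + B v) - r • (w + B v)) - (B w - r • w) := by rw [map_add]; module
    rw [this]
    exact sub_mem (out _ fun h => hw (by simpa using sub_mem h hBvU)) (out _ hw)
  exact hu (by simpa using add_mem h1 (Submodule.smul_mem _ r (Submodule.subset_span (by simp : B v ∈ ({v, B v} : Set V)))))

theorem confII_or_confIII (hd : 3 ≤ finrank F V) (A : V →ₗ[F] V)
    (hA : ∀ x : V, ∀ c : F, A x = c • x → x = 0) : ConfII A ∨ (4 ≤ finrank F V ∧ ConfIII A) := by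
  classical
  by_contra h
  push Not at h
  obtain ⟨hII, hIII⟩ := h
  have hinv : ∀ v, v ≠ 0 → LinearIndependent F ![v, A v] ∧
      ∀ z ∈ Submodule.span F {v, A v}, A z ∈ Submodule.span F {v, A v} := fun v hv => by
    have h2 : LinearIndependent F ![v, A v] := (LinearIndependent.pair_iff' hv).2 fun c hc =>
      hv (hA v c hc.symm)
    refine ⟨h2, fun z hz => ?_⟩
    obtain ⟨x, y, rfl⟩ := Submodule.mem_span_pair.1 hz
    have hm : A (A v) ∈ Submodule.span F {v, A v} := by
      by_contra hcon
      exact hII ⟨v, rot3 (li3 h2 hcon)⟩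
    rw [map_add, map_smul, map_smul]
    exact add_mem (Submodule.smul_mem _ _ (Submodule.subset_span (by simp))) (Submodule.smul_mem _ _ hm)
  have : Nontrivial V := nontrivial_of_finrank_pos (R := F) (by omega)
  obtain ⟨v, hv⟩ := exists_ne (0 : V)
  obtain ⟨hv2, hvinv⟩ := hinv v hv
  obtain ⟨w, hw⟩ := exists_notMem (F := F) (V := V) (S := {v, A v})
    (by have : ({v, A v} : Finset V).card ≤ 2 := Finset.card_le_two; omega)
  replace hw : w ∉ Submodule.span F {v, A v} := by simpa using hw
  obtain ⟨hw2, hwinv⟩ := hinv w fun e => hw (e ▸ zero_mem _)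
  have h3 := li3 hv2 hw
  by_cases hm : A w ∈ Submodule.span F {w, v, A v}
  · obtain ⟨r, z, hz, hrz⟩ := Submodule.mem_span_insert.1 hm
    have hzw : z ∈ Submodule.span F {w, A w} := by
      have : z = A w - r • w := by rw [hrz]; module
      rw [this]
      exact sub_mem (Submodule.subset_span (by simp)) (Submodule.smul_mem _ _ (Submodule.subset_span (by simp)))
    have hz0 : z ≠ 0 := fun e => by
      subst e
      rw [add_zero] at hrz
      exact (fun e => hw (e ▸ zero_mem _) : w ≠ 0) (hA w r hrz)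
    -- both planes equal the plane of `z`
    have hzspan : ∀ u, LinearIndependent F ![u, A u] → z ∈ Submodule.span F {u, A u} →
        (∀ x ∈ Submodule.span F {u, A u}, A x ∈ Submodule.span F {u, A u}) →
        Submodule.span F {u, A u} = Submodule.span F {z, A z} := fun u hu hzu huinv => by
      refine (Submodule.eq_of_le_of_finrank_le ?_ ?_).symm
      · rw [Submodule.span_le]
        rintro _ (rfl | rfl)
        exacts [hzu, huinv _ hzu]
      · rw [finrank_pair hu, finrank_pair (hinv z hz0).1]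
    exact hw ((hzspan v hv2 hz hvinv).trans (hzspan w hw2 hzw hwinv).symm ▸ Submodule.subset_span (by simp))
  · have h4 := li4 (w := A w) h3 hm
    have hge : 4 ≤ finrank F V := by simpa using h4.fintype_card_le_finrank
    exact hIII hge ⟨v, w, swap4 h4⟩

end Config

section PSL

variable {F : Type*} [Field F] {d : ℕ}

local notation "SLn" => Matrix.SpecialLinearGroup (Fin d) F
local notation "PSLn" => Matrix.ProjectiveSpecialLinearGroup (Fin d) F
local notation "Pts" => ℙ F (Fin d → F)

/-- the linear map of an element of `SL` -/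
noncomputable def lm (A : SLn) : (Fin d → F) →ₗ[F] (Fin d → F) := Matrix.toLin' A.1

theorem smul_pt (A : SLn) {v : Fin d → F} (hv : v ≠ 0) (hAv : lm A v ≠ 0) :
    (A : PSLn) • Projectivization.mk F v hv = Projectivization.mk F (lm A v) hAv := by
  rw [Matrix.ProjectiveSpecialLinearGroup.smul_proj_mk, Projectivization.smul_mk]
  congr 1

theorem lm_ne_zero (A : SLn) {v : Fin d → F} (hv : v ≠ 0) : lm A v ≠ 0 := fun h => hv <| by
  have h1 : lm A⁻¹ (lm A v) = v := by
    simp only [lm, Matrix.toLin'_apply, Matrix.mulVec_mulVec, ← Matrix.SpecialLinearGroup.coe_mul,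
      inv_mul_cancel, Matrix.SpecialLinearGroup.coe_one, Matrix.one_mulVec]
  rw [← h1, h, map_zero]

theorem fix_iff (A : SLn) {v : Fin d → F} (hv : v ≠ 0) :
    (A : PSLn) • Projectivization.mk F v hv = Projectivization.mk F v hv ↔ ∃ c : F, lm A v = c • v := by
  rw [smul_pt A hv (lm_ne_zero A hv), Projectivization.mk_eq_mk_iff']
  exact ⟨fun ⟨c, hc⟩ => ⟨c, hc.symm⟩, fun ⟨c, hc⟩ => ⟨c, hc.symm⟩⟩

theorem not_scalar {A : SLn} (hA : (A : PSLn) ≠ 1) (c : F) : lm A ≠ c • LinearMap.id := fun h => hA <| by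
  refine (FaithfulSMul.eq_of_smul_eq_smul (α := Pts) fun x => ?_)
  induction x using Projectivization.ind with
  | _ v hv => rw [one_smul, fix_iff A hv]; exact ⟨c, by rw [h]; rfl⟩

/-- `SL` is transitive on independent tuples of points. -/
theorem exists_move {k : ℕ} (hk : 0 < k) (v w : Fin k → Fin d → F) (hv : LinearIndependent F v)
    (hw : LinearIndependent F w) :
    ∃ h : SLn, ∀ i, ∃ c : F, lm h (v i) = c • w i := by
  classical
  obtain ⟨m, hm⟩ : ∃ m, k + m = d := ⟨d - k, Nat.add_sub_cancel' (by simpa using hv.fintype_card_le_finrank)⟩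
  have ext : ∀ u : Fin k → Fin d → F, LinearIndependent F u →
      ∃ b : Basis (Fin k ⊕ Fin m) F (Fin d → F), ∀ i, b (Sum.inl i) = u i := by
    intro u hu
    let b := Basis.sumExtend hu
    have : Finite (Fin k ⊕ Basis.sumExtendIndex hu) := Module.Finite.finite_basis b
    have hfin : Finite (Basis.sumExtendIndex hu) :=
      Finite.of_injective (fun z => (Sum.inr z : Fin k ⊕ Basis.sumExtendIndex hu)) Sum.inr_injective
    have := Fintype.ofFinite (Basis.sumExtendIndex hu)
    have hc := finrank_eq_card_basis b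
    rw [Fintype.card_sum, Fintype.card_fin, Module.finrank_fin_fun] at hc
    let e : Basis.sumExtendIndex hu ≃ Fin m := Fintype.equivFinOfCardEq (by omega)
    refine ⟨b.reindex ((Equiv.refl _).sumCongr e), fun i => ?_⟩
    simp only [b, Basis.reindex_apply, Equiv.sumCongr_symm, Equiv.sumCongr_apply, Sum.map_inl,
      Equiv.refl_symm, Equiv.refl_apply]
    rw [Basis.sumExtend, Basis.reindex_apply]
    exact Basis.extend_apply_self _ _
  obtain ⟨bv, hbv⟩ := ext v hv
  obtain ⟨bw, hbw⟩ := ext w hw
  have hdet : LinearMap.det ((bv.equiv bw (Equiv.refl _)) : (Fin d → F) →ₗ[F] (Fin d → F)) ≠ 0 :=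
    (LinearEquiv.isUnit_det' _).ne_zero
  set D := LinearMap.det ((bv.equiv bw (Equiv.refl _)) : (Fin d → F) →ₗ[F] (Fin d → F))
  let S : (Fin d → F) →ₗ[F] (Fin d → F) :=
    Matrix.toLin bw bw (Matrix.diagonal (Function.update 1 (Sum.inl ⟨0, hk⟩) D⁻¹))
  let T := S.comp ((bv.equiv bw (Equiv.refl _)) : (Fin d → F) →ₗ[F] (Fin d → F))
  have hS : LinearMap.det S = D⁻¹ := by
    rw [LinearMap.det_toLin, Matrix.det_diagonal, Finset.prod_update_of_mem (Finset.mem_univ _)]
    simp
  have hT : (LinearMap.toMatrix' T).det = 1 := by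
    rw [LinearMap.det_toMatrix', LinearMap.det_comp, hS, inv_mul_cancel₀ hdet]
  refine ⟨⟨_, hT⟩, fun i => ⟨Function.update (1 : Fin k ⊕ Fin m → F) (Sum.inl ⟨0, hk⟩) D⁻¹ (Sum.inl i), ?_⟩⟩
  have h0 : lm (⟨_, hT⟩ : SLn) (v i) = T (v i) := by simp [lm, Matrix.toLin'_toMatrix']
  rw [h0]
  have he : (bv.equiv bw (Equiv.refl _)) (v i) = bw (Sum.inl i) := by rw [← hbv, Basis.equiv_apply]; rfl
  change S ((bv.equiv bw (Equiv.refl _)) (v i)) = _
  rw [he, Matrix.toLin_self, Finset.sum_eq_single (Sum.inl i) (fun j _ hj => by rw [Matrix.diagonal_apply_ne _ hj, zero_smul])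
    (fun h => absurd (Finset.mem_univ _) h), Matrix.diagonal_apply_eq, hbw]

theorem exists_move_pts {k : ℕ} (hk : 0 < k) (v w : Fin k → Fin d → F) (hv : LinearIndependent F v)
    (hw : LinearIndependent F w) :
    ∃ h : PSLn, ∀ i, h • Projectivization.mk F (v i) (hv.ne_zero i) =
      Projectivization.mk F (w i) (hw.ne_zero i) := by
  obtain ⟨h, hh⟩ := exists_move hk v w hv hw
  refine ⟨(h : PSLn), fun i => ?_⟩
  rw [smul_pt h _ (lm_ne_zero h (hv.ne_zero i)), Projectivization.mk_eq_mk_iff']
  obtain ⟨c, hc⟩ := hh i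
  exact ⟨c, hc.symm⟩

variable [Fintype F] [Fintype (ℙ F (Fin d → F))]

/-- Two points fixed by a product of conjugates. -/
theorem two_le_fx {a b g : PSLn} {x y : Pts} (hxy : x ≠ y) (hx : (g * b * g⁻¹) • x = a⁻¹ • x)
    (hy : (g * b * g⁻¹) • y = a⁻¹ • y) : 2 ≤ fx Pts (a * (g * b * g⁻¹)) := by
  classical
  rw [fx, Nat.card_eq_fintype_card]
  exact Fintype.one_lt_card_iff.2 ⟨⟨x, by rw [mul_smul, hx, smul_inv_smul]⟩,
    ⟨y, by rw [mul_smul, hy, smul_inv_smul]⟩, fun h => hxy (congrArg Subtype.val h)⟩

/-- Equal configurations give a product of conjugates with two fixed points. -/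
theorem two_le_fx_of_move {a b g : PSLn} {x y x' y' : Pts} (hxy : x ≠ y) (hx : g • x = x')
    (hbx : g • b • x = a⁻¹ • x') (hy : g • y = y') (hby : g • b • y = a⁻¹ • y') :
    2 ≤ fx Pts (a * (g * b * g⁻¹)) := by
  refine two_le_fx (x := x') (y := y') (fun h => hxy ?_) ?_ ?_
  · exact smul_left_cancel g (hx.trans (h.trans hy.symm))
  · rw [mul_smul, mul_smul, ← hx, inv_smul_smul, hbx, hx]
  · rw [mul_smul, mul_smul, ← hy, inv_smul_smul, hby, hy]

theorem smul_mk_eq (A : SLn) {u v : Fin d → F} (hu : u ≠ 0) (hv : v ≠ 0) (h : ∃ c : F, lm A u = c • v) :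
    (A : PSLn) • Projectivization.mk F u hu = Projectivization.mk F v hv := by
  rw [smul_pt A hu (lm_ne_zero A hu), Projectivization.mk_eq_mk_iff']
  obtain ⟨c, hc⟩ := h
  exact ⟨c, hc.symm⟩

/-- Equal configurations of vectors give a product of conjugates with two fixed points. -/
theorem of_config {a b : PSLn} {A B : SLn} (hA : (A : PSLn) = a⁻¹) (hB : (B : PSLn) = b) {k : ℕ} (hk : 0 < k)
    {u u' : Fin k → Fin d → F} (hli : LinearIndependent F u) (hli' : LinearIndependent F u') (i i' j j' : Fin k)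
    (hij : i ≠ j) (hBi : ∃ c : F, lm B (u i) = c • u i') (hAi : ∃ c : F, lm A (u' i) = c • u' i')
    (hBj : ∃ c : F, lm B (u j) = c • u j') (hAj : ∃ c : F, lm A (u' j) = c • u' j') :
    ∃ g : PSLn, 2 ≤ fx Pts (a * (g * b * g⁻¹)) := by
  obtain ⟨g, hg⟩ := exists_move_pts hk u u' hli hli'
  refine ⟨g, two_le_fx_of_move ?_ (hg i) ?_ (hg j) ?_⟩
  · rw [Ne, Projectivization.mk_eq_mk_iff']
    rintro ⟨c, hc⟩
    have hp : LinearIndependent F ![u j, u i] := by
      have := hli.comp ![j, i] (by intro x y; fin_cases x <;> fin_cases y <;> simp [hij, Ne.symm hij])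
      convert this using 1
      ext x; fin_cases x <;> rfl
    exact (LinearIndependent.pair_iff' (hli.ne_zero j)).1 hp c hc
  · rw [← hA, ← hB, smul_mk_eq B _ (hli.ne_zero i') hBi, hg i']
    exact (smul_mk_eq A _ _ hAi).symm
  · rw [← hA, ← hB, smul_mk_eq B _ (hli.ne_zero j') hBj, hg j']
    exact (smul_mk_eq A _ _ hAj).symm

/-- If `b` fixes exactly one point then some product of conjugates fixes at least two. -/
theorem exists_two_le (hd : 3 ≤ d) {a b : PSLn} (ha : a ≠ 1) (hb : b ≠ 1) (hfb : fx Pts b = 1) :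
    ∃ g : PSLn, 2 ≤ fx Pts (a * (g * b * g⁻¹)) := by
  classical
  have hrk : finrank F (Fin d → F) = d := Module.finrank_fin_fun F
  obtain ⟨A, hA⟩ := QuotientGroup.mk_surjective a⁻¹
  obtain ⟨B, hB⟩ := QuotientGroup.mk_surjective b
  have hAs := not_scalar (A := A) (by rw [hA]; simpa using ha)
  have hBs := not_scalar (A := B) (by rw [hB]; exact hb)
  obtain ⟨⟨P, hP⟩, huP⟩ := Fintype.card_eq_one_iff.1 (by rw [← hfb, fx, Nat.card_eq_fintype_card] :
    Fintype.card {x : Pts // b • x = x} = 1)
  induction P using Projectivization.ind with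
  | _ p hp =>
  obtain ⟨μ, hμ⟩ := (fix_iff B hp).1 (by rw [hB]; exact hP)
  have huniq : ∀ x, (∃ c : F, lm B x = c • x) → x ∈ Submodule.span F {p} := fun x hx => by
    rcases eq_or_ne x 0 with rfl | hx0
    · exact zero_mem _
    have h1 : b • Projectivization.mk F x hx0 = Projectivization.mk F x hx0 := by
      rw [← hB]; exact (fix_iff B hx0).2 hx
    have h2 := congrArg Subtype.val (huP ⟨_, h1⟩)
    obtain ⟨c, hc⟩ := (Projectivization.mk_eq_mk_iff' F _ _ _ _).1 h2
    exact Submodule.mem_span_singleton.2 ⟨c, hc⟩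
  have hII : ConfII (lm B) := confII_of_unique (by omega) _ hBs hp hμ huniq
  by_cases hfix : ∃ x : Fin d → F, x ≠ 0 ∧ ∃ c : F, lm A x = c • x
  · obtain ⟨x, hx, hxc⟩ := hfix
    obtain ⟨p', v', hp'f, hli'⟩ := confI (by omega) (lm A) hAs hx hxc
    obtain ⟨q, v, hqf, hli⟩ := confI (by omega) (lm B) hBs hp ⟨μ, hμ⟩
    exact of_config hA hB (by norm_num) hli hli' 0 0 1 2 (by decide) hqf hp'f ⟨1, by simp⟩ ⟨1, by simp⟩
  · push Not at hfix
    rcases confII_or_confIII (by omega) (lm A) (fun x c hc => by_contra fun h => hfix x h c hc) with h | ⟨h4, h⟩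
    · obtain ⟨v', hli'⟩ := h
      obtain ⟨v, hli⟩ := hII
      exact of_config hA hB (by norm_num) hli hli' 0 1 1 2 (by decide) ⟨1, by simp⟩ ⟨1, by simp⟩ ⟨1, by simp⟩
        ⟨1, by simp⟩
    · obtain ⟨v', w', hli'⟩ := h
      obtain ⟨v, w, hli⟩ := confIII_of_confII h4 _ hII
      exact of_config hA hB (by norm_num) hli hli' 0 1 2 3 (by decide) ⟨1, by simp⟩ ⟨1, by simp⟩ ⟨1, by simp⟩
        ⟨1, by simp⟩

/-- the points of a subspace -/
noncomputable def np (W : Submodule F (Fin d → F)) : ℕ := Nat.card {P : Pts // P.rep ∈ W}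

theorem np_eq (W : Submodule F (Fin d → F)) : np W * (Fintype.card F - 1) = Fintype.card F ^ finrank F W - 1 := by
  classical
  have e : {P : Pts // P.rep ∈ W} ≃ ℙ F W := by
    refine (Equiv.ofBijective (fun P : ℙ F W =>
      (⟨Projectivization.map (W.subtype : W →ₗ[F] (Fin d → F)) Subtype.val_injective P, ?_⟩ :
      {P : Pts // P.rep ∈ W})) ⟨fun P Q h => ?_, fun ⟨P, hP⟩ => ?_⟩).symm
    · induction P using Projectivization.ind with
      | _ v hv =>
        erw [Projectivization.map_mk]
        obtain ⟨c, hc⟩ := Projectivization.exists_smul_eq_mk_rep F (W.subtype v) (by simpa using hv)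
        rw [← hc]
        exact W.smul_mem (c : F) v.2
    · exact Projectivization.map_injective (W.subtype : W →ₗ[F] (Fin d → F)) Subtype.val_injective (congrArg Subtype.val h)
    · refine ⟨Projectivization.mk F ⟨P.rep, hP⟩ (fun h => P.rep_nonzero (congrArg Subtype.val h)), Subtype.ext ?_⟩
      dsimp only
      erw [Projectivization.map_mk]
      exact P.mk_rep
  have hc := Projectivization.card F W
  rw [← Nat.card_congr e, ← Nat.card_eq_fintype_card (α := F)] at *
  rw [Module.natCard_eq_pow_finrank (K := F)] at hc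
  exact hc.symm

theorem fixed_iff_mem (A : SLn) (P : Pts) :
    (A : PSLn) • P = P ↔ ∃ c : F, P.rep ∈ End.eigenspace (lm A) c := by
  conv_lhs => rw [← P.mk_rep]
  rw [fix_iff A P.rep_nonzero]
  simp only [End.mem_eigenspace_iff]

/-- A nontrivial element fixes at most the points of a hyperplane and one more. -/
theorem q_mul_fx_le (hd : 3 ≤ d) {a : PSLn} (ha : a ≠ 1) :
    (Fintype.card F : ℤ) * ((fx Pts a : ℤ) - 1) ≤ (Fintype.card Pts : ℤ) - 1 := by
  classical
  obtain ⟨A, rfl⟩ := QuotientGroup.mk_surjective a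
  set q := Fintype.card F
  have hq : 2 ≤ q := Fintype.one_lt_card
  have hN : Fintype.card Pts * (q - 1) = q ^ d - 1 := by
    have hc := Projectivization.card F (Fin d → F)
    rw [Module.natCard_eq_pow_finrank (K := F), Module.finrank_fin_fun, Nat.card_eq_fintype_card,
      Nat.card_eq_fintype_card] at hc
    exact hc.symm
  rcases Nat.eq_zero_or_pos (fx Pts (A : PSLn)) with h0 | h0
  · rw [h0]
    have : (0 : ℤ) ≤ Fintype.card Pts := Nat.cast_nonneg _
    push_cast
    nlinarith
  obtain ⟨⟨P, hP⟩⟩ := (Nat.card_pos_iff.1 h0).1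
  obtain ⟨c, hc⟩ := (fixed_iff_mem A P).1 hP
  let E := End.eigenspace (lm A) c
  let R := ⨆ (c' : F) (_ : c' ≠ c), End.eigenspace (lm A) c'
  have hdisj : Disjoint E R := (End.eigenspaces_iSupIndep (lm A)) c
  have hxd : finrank F E + finrank F R ≤ d := by
    have h := Submodule.finrank_add_finrank_le_of_disjoint hdisj
    rwa [Module.finrank_fin_fun] at h
  have hx1 : 1 ≤ finrank F E := Submodule.one_le_finrank_iff.2 fun h => P.rep_nonzero (by
    simpa [E, h] using hc)
  have hxt : finrank F E < d := by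
    have h := Submodule.finrank_lt (s := E) fun h => not_scalar (A := A) ha c (LinearMap.ext fun v =>
      End.mem_eigenspace_iff.1 (h ▸ Submodule.mem_top : v ∈ E))
    rwa [Module.finrank_fin_fun] at h
  have hle : fx Pts (A : PSLn) ≤ np E + np R := by
    rw [fx, np, np, ← Nat.card_sum]
    refine Nat.card_le_card_of_injective (fun P : {x : Pts // (A : PSLn) • x = x} =>
      if h : P.1.rep ∈ E then Sum.inl ⟨P.1, h⟩ else Sum.inr ⟨P.1, ?_⟩) (fun P Q h => ?_)
    · obtain ⟨c', hc'⟩ := (fixed_iff_mem A P.1).1 P.2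
      have hne : c' ≠ c := fun e => h (by subst e; exact hc')
      exact Submodule.mem_iSup_of_mem c' (Submodule.mem_iSup_of_mem hne hc')
    · dsimp only at h
      split_ifs at h <;> simpa [Subtype.ext_iff] using h
  have key : q * (np E + np R) * (q - 1) ≤ q ^ d - q + q * (q - 1) := by
    rw [mul_assoc, add_mul, np_eq, np_eq]
    set x := finrank F E
    set y := finrank F R
    have h1 : 1 ≤ q ^ x := Nat.one_le_pow _ _ (by omega)
    have h2 : 1 ≤ q ^ y := Nat.one_le_pow _ _ (by omega)
    have hsum : q ^ x + q ^ y ≤ q ^ (d - 1) + q := by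
      rcases Nat.eq_zero_or_pos y with hy | hy
      · rw [hy, pow_zero]
        have := Nat.pow_le_pow_right (show 0 < q by omega) (show x ≤ d - 1 by omega)
        omega
      · obtain ⟨x', hx'⟩ : ∃ x', x = x' + 1 := ⟨x - 1, by omega⟩
        obtain ⟨y', hy'⟩ : ∃ y', y = y' + 1 := ⟨y - 1, by omega⟩
        have := Nat.pow_le_pow_right (show 0 < q by omega) (show x' + y' + 1 ≤ d - 1 by omega)
        have hx'' : 1 ≤ q ^ x' := Nat.one_le_pow _ _ (by omega)
        have hy'' : 1 ≤ q ^ y' := Nat.one_le_pow _ _ (by omega)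
        rw [hx', hy', pow_succ, pow_succ]
        rw [pow_succ, pow_add] at this
        obtain ⟨u, hu⟩ := Nat.exists_eq_add_of_le hx''
        obtain ⟨w, hw⟩ := Nat.exists_eq_add_of_le hy''
        rw [hu, hw] at this ⊢
        have hm : (1 + u) * q + (1 + w) * q ≤ (1 + u) * (1 + w) * q + q := by nlinarith [Nat.zero_le (u * w * q)]
        linarith
    have hqd : q ^ d = q * q ^ (d - 1) := by rw [← pow_succ', Nat.sub_add_cancel (by omega)]
    have hle' : q ≤ q ^ d := Nat.le_self_pow (by omega) q
    have hcast : ((q * (q ^ x - 1 + (q ^ y - 1)) : ℕ) : ℤ) ≤ ((q ^ d - q + q * (q - 1) : ℕ) : ℤ) := by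
      push_cast [Nat.cast_sub h1, Nat.cast_sub h2, Nat.cast_sub hle', Nat.cast_sub (show 1 ≤ q by omega)]
      have e1 : ((q : ℤ) ^ d) = q * (q : ℤ) ^ (d - 1) := by exact_mod_cast hqd
      have e2 : (q : ℤ) ^ x + (q : ℤ) ^ y ≤ (q : ℤ) ^ (d - 1) + q := by exact_mod_cast hsum
      nlinarith
    exact_mod_cast hcast
  have : q ≤ q ^ d := Nat.le_self_pow (by omega) q
  have h3 := Nat.mul_le_mul_left q hle
  have h4 := Nat.mul_le_mul_right (q - 1) h3
  zify [(by omega : 1 ≤ q), this, Nat.one_le_pow d q (by omega)] at *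
  refine le_of_mul_le_mul_right ?_ (show (0 : ℤ) < (q : ℤ) - 1 by omega)
  nlinarith

/-- The eigenspace of largest dimension bounds the fixed points. -/
theorem exists_big_eigenspace {a : PSLn} (hf : 0 < fx Pts a) :
    ∃ (A : SLn) (c : F), (A : PSLn) = a ∧ 1 ≤ finrank F (End.eigenspace (lm A) c) ∧
      fx Pts a ≤ (Fintype.card F - 1) * np (End.eigenspace (lm A) c) := by
  classical
  obtain ⟨A, rfl⟩ := QuotientGroup.mk_surjective a
  obtain ⟨c, -, hc⟩ := Finset.exists_max_image (Finset.univ : Finset Fˣ)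
    (fun c => np (End.eigenspace (lm A) (c : F))) ⟨1, Finset.mem_univ _⟩
  have hle : fx Pts (A : PSLn) ≤ ∑ c : Fˣ, np (End.eigenspace (lm A) (c : F)) := by
    rw [fx]
    simp only [np, Nat.card_eq_fintype_card, ← Fintype.card_sigma]
    have hval : ∀ P : {x : Pts // (A : PSLn) • x = x}, ∃ c : Fˣ, P.1.rep ∈ End.eigenspace (lm A) (c : F) := fun P => by
      obtain ⟨c, hc⟩ := (fixed_iff_mem A P.1).1 P.2
      refine ⟨Units.mk0 c fun h => ?_, hc⟩
      subst h
      exact lm_ne_zero A P.1.rep_nonzero (by simpa using End.mem_eigenspace_iff.1 hc)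
    choose u hu using hval
    refine Fintype.card_le_of_injective (fun P => ⟨u P, ⟨P.1, hu P⟩⟩) fun P Q h => ?_
    exact Subtype.ext (congrArg (fun z => (z.2 : Pts)) h)
  have h2 : fx Pts (A : PSLn) ≤ (Fintype.card F - 1) * np (End.eigenspace (lm A) (c : F)) := by
    refine hle.trans ((Finset.sum_le_card_nsmul _ _ _ (fun c' hc' => hc c' hc')).trans ?_)
    rw [Finset.card_univ, Fintype.card_units, smul_eq_mul]
  refine ⟨A, c, rfl, ?_, h2⟩
  by_contra h
  have h0 : np (End.eigenspace (lm A) (c : F)) * (Fintype.card F - 1) = 0 := by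
    rw [np_eq, show finrank F (End.eigenspace (lm A) (c : F)) = 0 by omega]; simp
  rw [mul_comm] at h0
  omega

/-- Align an eigenspace inside a larger one. -/
theorem exists_np_le {A B : SLn} {c e : F} (h1 : 1 ≤ finrank F (End.eigenspace (lm B) e))
    (h : finrank F (End.eigenspace (lm B) e) ≤ finrank F (End.eigenspace (lm A) c)) :
    ∃ g : PSLn, np (End.eigenspace (lm B) e) ≤ fx Pts ((A : PSLn) * (g * (B : PSLn) * g⁻¹)) := by
  classical
  set E := End.eigenspace (lm B) e
  set E' := End.eigenspace (lm A) c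
  obtain ⟨v, hv⟩ : ∃ v : Fin (finrank F E) → Fin d → F, LinearIndependent F v ∧ Submodule.span F (Set.range v) = E :=
    ⟨fun i => (finBasis F E i : Fin d → F),
      (finBasis F E).linearIndependent.map' E.subtype E.ker_subtype, by
      rw [show (fun i => (finBasis F E i : Fin d → F)) = E.subtype ∘ finBasis F E from rfl, Set.range_comp,
        Submodule.span_image, Basis.span_eq, Submodule.map_top, Submodule.range_subtype]⟩
  let w : Fin (finrank F E) → Fin d → F := fun i => (finBasis F E' (Fin.castLE h i) : Fin d → F)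
  have hw : LinearIndependent F w :=
    ((finBasis F E').linearIndependent.comp _ (Fin.castLE_injective h)).map' E'.subtype E'.ker_subtype
  obtain ⟨g, hg⟩ := exists_move h1 v w hv.1 hw
  refine ⟨(g : PSLn), Nat.card_le_card_of_injective (fun P => ⟨(g : PSLn) • P.1, ?_⟩) fun P Q hPQ =>
    Subtype.ext (smul_left_cancel _ (congrArg Subtype.val hPQ))⟩
  have hP : (B : PSLn) • P.1 = P.1 := (fixed_iff_mem B P.1).2 ⟨e, P.2⟩
  have hmap : lm g P.1.rep ∈ E' := by
    have : Submodule.map (lm g) E ≤ E' := by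
      rw [← hv.2, Submodule.map_span, Submodule.span_le]
      rintro _ ⟨_, ⟨i, rfl⟩, rfl⟩
      obtain ⟨r, hr⟩ := hg i
      rw [hr]
      exact E'.smul_mem r (finBasis F E' _).2
    exact this ⟨_, P.2, rfl⟩
  rw [mul_smul, mul_smul, mul_smul, inv_smul_smul, hP]
  conv_lhs => rw [← P.1.mk_rep, smul_pt g P.1.rep_nonzero (lm_ne_zero g P.1.rep_nonzero)]
  conv_rhs => rw [← P.1.mk_rep, smul_pt g P.1.rep_nonzero (lm_ne_zero g P.1.rep_nonzero)]
  exact (fix_iff A _).2 ⟨c, End.mem_eigenspace_iff.1 hmap⟩

/-- Both elements have several fixed points: impossible. -/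
theorem false_of_two_le (hd : 3 ≤ d) {a b : PSLn} (ha : a ≠ 1) (hfa : 2 ≤ fx Pts a) (hfb : 2 ≤ fx Pts b) {n : ℕ}
    (h : ∀ g : PSLn, fx Pts (a * (g * b * g⁻¹)) = n)
    (hid : ((Fintype.card Pts : ℤ) - 1) * ((n : ℤ) - 1) = ((fx Pts a : ℤ) - 1) * ((fx Pts b : ℤ) - 1))
    {A B : SLn} {c e : F} (hA : (A : PSLn) = a) (hB : (B : PSLn) = b)
    (h1 : 1 ≤ finrank F (End.eigenspace (lm B) e))
    (hBf : fx Pts b ≤ (Fintype.card F - 1) * np (End.eigenspace (lm B) e))
    (hle : finrank F (End.eigenspace (lm B) e) ≤ finrank F (End.eigenspace (lm A) c)) : False := by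
  set q := Fintype.card F
  have hq : 2 ≤ q := Fintype.one_lt_card
  obtain ⟨g, hg⟩ := exists_np_le (A := A) h1 hle
  rw [hA, hB, h] at hg
  have hb := q_mul_fx_le hd ha
  set M := np (End.eigenspace (lm B) e)
  set fa := fx Pts a
  set fb := fx Pts b
  have hM : M * (q - 1) = q ^ finrank F (End.eigenspace (lm B) e) - 1 := np_eq _
  have hpos : (0 : ℤ) < ((fa : ℤ) - 1) * ((fb : ℤ) - 1) := mul_pos (by omega) (by omega)
  have hn : 2 ≤ n := by
    by_contra hn
    have : ((Fintype.card Pts : ℤ) - 1) * ((n : ℤ) - 1) ≤ 0 := by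
      have : (0 : ℤ) ≤ (Fintype.card Pts : ℤ) - 1 := by nlinarith
      exact mul_nonpos_of_nonneg_of_nonpos this (by omega)
    omega
  have hMc : M = 1 ∨ q + 1 ≤ M := by
    rcases Nat.lt_or_ge (finrank F (End.eigenspace (lm B) e)) 2 with h2 | h2
    · left
      rw [show finrank F (End.eigenspace (lm B) e) = 1 by omega, pow_one] at hM
      exact Nat.eq_of_mul_eq_mul_right (show 0 < q - 1 by omega) (by rw [hM, one_mul])
    · right
      have := Nat.pow_le_pow_right (show 0 < q by omega) h2
      by_contra hlt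
      have h3 : M * (q - 1) ≤ q * (q - 1) := Nat.mul_le_mul_right _ (by omega)
      have h4 : q * (q - 1) + q = q ^ 2 := by
        rw [sq, Nat.mul_sub, mul_one, Nat.sub_add_cancel (Nat.le_mul_of_pos_left q (by omega))]
      omega
  -- `(fb - 1) < q (n - 1)`
  have hlt : (fb : ℤ) - 1 < q * ((n : ℤ) - 1) := by
    have hBf' : (fb : ℤ) ≤ ((q : ℤ) - 1) * M := by
      have := Int.ofNat_le.2 hBf
      push_cast [Nat.cast_sub (show 1 ≤ q by omega)] at this
      linarith
    rcases hMc with hM1 | hM1
    · rw [hM1] at hBf'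
      push_cast at hBf'
      nlinarith
    · nlinarith
  nlinarith [mul_le_mul_of_nonneg_right hb (show (0 : ℤ) ≤ (n : ℤ) - 1 by omega),
    mul_lt_mul_of_pos_left hlt (show (0 : ℤ) < (fa : ℤ) - 1 by omega)]

/-- The product of two nontrivial classes of `PSL_d(q)`, `d ≥ 3`, is not a single class. -/
theorem not_single (hd : 3 ≤ d) (a b : PSLn) (ha : a ≠ 1) (hb : b ≠ 1) :
    ¬ ∀ g h : PSLn, IsConj (a * b) (g * a * g⁻¹ * (h * b * h⁻¹)) := by
  classical
  intro hall
  have : IsMultiplyPretransitive PSLn Pts 2 := by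
    rw [is_two_pretransitive_iff]
    intro x y x' y' hxy hxy'
    obtain ⟨g, hg, hg'⟩ := (is_two_pretransitive_iff.1
      (inferInstance : IsMultiplyPretransitive SLn Pts 2)) hxy hxy'
    exact ⟨(g : PSLn), by rw [Matrix.ProjectiveSpecialLinearGroup.smul_proj_mk]; exact hg,
      by rw [Matrix.ProjectiveSpecialLinearGroup.smul_proj_mk]; exact hg'⟩
  have : Nonempty Pts := ⟨Projectivization.mk F (Pi.single ⟨0, by omega⟩ 1) (by simp)⟩
  have := Fintype.ofFinite PSLn
  set n := fx Pts (a * b)
  have hab : ∀ g : PSLn, fx Pts (a * (g * b * g⁻¹)) = n := fun g => by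
    obtain ⟨c, hc⟩ := isConj_iff.1 (hall 1 g)
    rw [one_mul, inv_one, mul_one] at hc
    rw [← hc, fx_conj]
  have hba : ∀ g : PSLn, fx Pts (b * (g * a * g⁻¹)) = n := fun g => by
    obtain ⟨c, hc⟩ := isConj_iff.1 (hall g 1)
    rw [one_mul, inv_one, mul_one] at hc
    rw [show b * (g * a * g⁻¹) = b * (g * a * g⁻¹ * b) * b⁻¹ by group, fx_conj, ← hc, fx_conj]
  have hid := burnside (X := Pts) a b n hab
  have hid' := burnside (X := Pts) b a n hba
  set N := Fintype.card Pts
  have hN : ∀ x : PSLn, x ≠ 1 → fx Pts x < N := fun x hx => by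
    rw [fx, Nat.card_eq_fintype_card]
    by_contra hge
    push Not at hge
    refine hx (FaithfulSMul.eq_of_smul_eq_smul (α := Pts) fun y => ?_)
    rw [one_smul]
    by_contra hy
    exact absurd hge (not_le.2 (Fintype.card_subtype_lt (x := y) hy))
  have hN3 : 3 ≤ N := by
    let f : Fin d → Pts := fun i => Projectivization.mk F (Pi.single i 1) (by simp)
    have hf : Function.Injective f := fun i j hij => by
      obtain ⟨c, hc⟩ := (Projectivization.mk_eq_mk_iff' F _ _ _ _).1 hij
      by_contra hne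
      simpa [Pi.single_eq_of_ne hne] using congrFun hc i
    have := Fintype.card_le_of_injective f hf
    rw [Fintype.card_fin] at this
    omega
  have ha' := hN a ha
  have hb' := hN b hb
  -- one of the two fixes exactly one point
  by_cases h1 : fx Pts a = 1 ∨ fx Pts b = 1
  · have hn : n = 1 := by
      have : ((N : ℤ) - 1) * ((n : ℤ) - 1) = 0 := by rcases h1 with h | h <;> simp [hid, h]
      rcases mul_eq_zero.1 this with h | h <;> omega
    rcases h1 with h | h
    · obtain ⟨g, hg⟩ := exists_two_le hd hb ha h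
      rw [hba] at hg; omega
    · obtain ⟨g, hg⟩ := exists_two_le hd ha hb h
      rw [hab] at hg; omega
  push Not at h1
  by_cases h0 : fx Pts a = 0 ∨ fx Pts b = 0
  · have hlt : |((fx Pts a : ℤ) - 1) * ((fx Pts b : ℤ) - 1)| < (N : ℤ) - 1 := by
      rcases h0 with h | h <;>
      · rw [h, abs_mul]
        simp only [Nat.cast_zero, zero_sub, abs_neg, abs_one, one_mul, mul_one]
        rw [abs_lt]
        constructor <;> omega
    rw [← hid, abs_mul, abs_of_nonneg (show (0 : ℤ) ≤ (N : ℤ) - 1 by omega)] at hlt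
    have hn : n = 1 := by
      by_contra hn
      have : (1 : ℤ) ≤ |(n : ℤ) - 1| := Int.one_le_abs (by omega)
      nlinarith
    rw [hn] at hid
    simp only [Nat.cast_one, sub_self, mul_zero] at hid
    rcases mul_eq_zero.1 hid.symm with h | h <;> omega
  push Not at h0
  obtain ⟨A, c, hA, hA1, hAf⟩ := exists_big_eigenspace (a := a) (by omega)
  obtain ⟨B, e, hB, hB1, hBf⟩ := exists_big_eigenspace (a := b) (by omega)
  rcases le_total (finrank F (End.eigenspace (lm B) e)) (finrank F (End.eigenspace (lm A) c)) with h | h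
  · exact false_of_two_le hd ha (by omega) (by omega) hab hid hA hB hB1 hBf h
  · exact false_of_two_le hd hb (by omega) (by omega) hba hid' hB hA hA1 hAf h

end PSL

end Cfsg.Agent.PSLClassProd
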