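import Mathlib
import Cfsg.Prelude.Def_LinearParabolics
import Cfsg.Prelude.Def_ParabolicCharacters

/-! The Levi projection of a standard parabolic subgroup of `GL n` and characteristic-polynomial test functions. -/

set_option autoImplicit false

namespace Cfsg.Lib.Linear.ParBlocks

open Matrix Polynomial

variable {n : ℕ} (c : Fin n → ℕ)

/-- Sum of the first `k + 1` parts. -/
def pLE (k : Fin n) : ℕ := ∑ j ∈ Finset.univ.filter (fun j : Fin n => j ≤ k), c j

theorem pLE_mono {j k : Fin n} (h : j ≤ k) : pLE c j ≤ pLE c k :=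
  Finset.sum_le_sum_of_subset fun x hx => by
    rw [Finset.mem_filter] at hx ⊢; exact ⟨hx.1, hx.2.trans h⟩

theorem lt_compLabel_iff (i k : Fin n) : k.val < compLabel c i ↔ pLE c k ≤ i.val := by
  constructor
  · intro h
    by_contra hk
    have hsub : (Finset.univ.filter fun j : Fin n => pLE c j ≤ i.val) ⊆ Finset.Iio k := fun j hj => by
      rw [Finset.mem_filter] at hj
      rw [Finset.mem_Iio]
      by_contra hjk
      exact hk ((pLE_mono c (not_lt.1 hjk)).trans hj.2)
    have := Finset.card_le_card hsub
    rw [Fin.card_Iio] at this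
    change k.val < (Finset.univ.filter fun j : Fin n => pLE c j ≤ i.val).card at h
    omega
  · intro h
    have hsub : Finset.Iic k ⊆ (Finset.univ.filter fun j : Fin n => pLE c j ≤ i.val) := fun j hj => by
      rw [Finset.mem_Iic] at hj
      exact Finset.mem_filter.2 ⟨Finset.mem_univ _, (pLE_mono c hj).trans h⟩
    have := Finset.card_le_card hsub
    rw [Fin.card_Iic] at this
    change k.val < (Finset.univ.filter fun j : Fin n => pLE c j ≤ i.val).card
    omega

variable (hc : ∑ i, c i = n)
include hc

theorem compLabel_lt (i : Fin n) : compLabel c i < n := by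
  have hn := i.isLt
  let k : Fin n := ⟨n - 1, by omega⟩
  have hk : pLE c k = n := by
    rw [pLE, Finset.filter_true_of_mem (fun j _ => Fin.le_def.2 (by have := j.isLt; simp only [k]; omega)), hc]
  have h := (lt_compLabel_iff c i k).not.2 (by omega)
  simp only [k] at h
  omega

/-- The block containing a position. -/
def blk (i : Fin n) : Fin n := ⟨compLabel c i, compLabel_lt c hc i⟩

theorem blk_eq_iff (i k : Fin n) : blk c hc i = k ↔ pLE c k - c k ≤ i.val ∧ i.val < pLE c k := by
  have h1 := lt_compLabel_iff c i k
  have hck : c k ≤ pLE c k := Finset.single_le_sum (f := c) (fun _ _ => Nat.zero_le _) (by simp)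
  rw [Fin.ext_iff]
  change compLabel c i = k.val ↔ _
  rcases Nat.eq_zero_or_pos k.val with h0 | h0
  · have hp : pLE c k = c k := by
      rw [pLE, Finset.sum_eq_single k]
      · intro j hj hjk
        rw [Finset.mem_filter, Fin.le_def] at hj
        exact absurd (Fin.ext (by omega)) hjk
      · simp
    omega
  · let k' : Fin n := ⟨k.val - 1, by omega⟩
    have hnm : k ∉ Finset.univ.filter (fun j : Fin n => j ≤ k') := fun h => by
      rw [Finset.mem_filter, Fin.le_def] at h; simp only [k'] at h; omega
    have hp : pLE c k = pLE c k' + c k := by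
      have : Finset.univ.filter (fun j : Fin n => j ≤ k) =
          insert k (Finset.univ.filter (fun j : Fin n => j ≤ k')) := by
        ext j
        rw [Finset.mem_insert, Finset.mem_filter, Finset.mem_filter, Fin.le_def, Fin.le_def, Fin.ext_iff]
        simp only [k', Finset.mem_univ, true_and]
        omega
      rw [pLE, this, Finset.sum_insert (f := c) hnm, add_comm]
      rfl
    have h2 := lt_compLabel_iff c i k'
    simp only [k'] at h2 hp
    omega

theorem pLE_le (k : Fin n) : pLE c k ≤ n := by
  conv_rhs => rw [← hc]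
  exact Finset.sum_le_univ_sum_of_nonneg (fun _ => Nat.zero_le _)

/-- A block as an initial segment of `ℕ`. -/
def blockEquiv (k : Fin n) : Fin (c k) ≃ {i : Fin n // blk c hc i = k} where
  toFun a := ⟨⟨pLE c k - c k + a.val, by
      have := pLE_le c hc k
      have hck : c k ≤ pLE c k := Finset.single_le_sum (f := c) (fun _ _ => Nat.zero_le _) (by simp)
      have := a.isLt; omega⟩, (blk_eq_iff c hc _ k).2 (by
      have hck : c k ≤ pLE c k := Finset.single_le_sum (f := c) (fun _ _ => Nat.zero_le _) (by simp)
      have := a.isLt; simp only; omega)⟩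
  invFun i := ⟨i.1.val - (pLE c k - c k), by
      have := (blk_eq_iff c hc i.1 k).1 i.2
      have hck : c k ≤ pLE c k := Finset.single_le_sum (f := c) (fun _ _ => Nat.zero_le _) (by simp)
      omega⟩
  left_inv a := Fin.ext (by simp)
  right_inv i := Subtype.ext (Fin.ext (by
    have := (blk_eq_iff c hc i.1 k).1 i.2
    simp only; omega))

variable (F : Type*) [Field F]

omit hc in
theorem mem_iff (g : GL (Fin n) F) :
    g ∈ parabolicGL n F c ↔ (g : Matrix (Fin n) (Fin n) F).BlockTriangular (compLabel c) := Iff.rfl

theorem blockTriangular_blk (g : parabolicGL n F c) :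
    ((g : GL (Fin n) F) : Matrix (Fin n) (Fin n) F).BlockTriangular (blk c hc) := fun _ _ h => g.2 h

/-- Projection to the diagonal block `k`. -/
def levi (k : Fin n) : parabolicGL n F c →* Matrix (Fin (c k)) (Fin (c k)) F where
  toFun g := ((g : GL (Fin n) F) : Matrix (Fin n) (Fin n) F).submatrix
    (fun a => (blockEquiv c hc k a).1) (fun a => (blockEquiv c hc k a).1)
  map_one' := by
    ext a b
    simp [Matrix.one_apply, Subtype.ext_iff.symm]
  map_mul' g h := by
    ext a b
    simp only [submatrix_apply, mul_apply, Subgroup.coe_mul, Units.val_mul]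
    have ha := (blockEquiv c hc k a).2
    have hb := (blockEquiv c hc k b).2
    rw [← Equiv.sum_comp (blockEquiv c hc k).symm]
    simp only [Equiv.apply_symm_apply]
    rw [← Finset.sum_subtype (Finset.univ.filter fun i => blk c hc i = k) (by simp)
      (fun i => ((g : GL (Fin n) F) : Matrix (Fin n) (Fin n) F) _ i * ((h : GL (Fin n) F) : Matrix (Fin n) (Fin n) F) i _)]
    refine (Finset.sum_subset (Finset.filter_subset _ _) fun i _ hi => ?_).symm
    have hi' : blk c hc i ≠ k := fun e => hi (Finset.mem_filter.2 ⟨Finset.mem_univ _, e⟩)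
    rcases lt_or_gt_of_ne hi' with hlt | hgt
    · rw [blockTriangular_blk c hc F g (by rw [ha]; exact hlt), zero_mul]
    · rw [blockTriangular_blk c hc F h (by rw [hb]; exact hgt), mul_zero]

/-- The Levi projection. -/
noncomputable def leviHom : parabolicGL n F c →* ∀ k : Fin n, GL (Fin (c k)) F :=
  MonoidHom.mk' (fun g k => (levi c hc F k).toHomUnits g) fun g h => funext fun k => map_mul _ g h

theorem leviHom_surjective : Function.Surjective (leviHom c hc F) := by
  intro A
  let e : (Σ k : Fin n, Fin (c k)) ≃ Fin n :=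
    (Equiv.sigmaCongrRight (blockEquiv c hc)).trans (Equiv.sigmaFiberEquiv (blk c hc))
  let M : (∀ k : Fin n, GL (Fin (c k)) F) →* Matrix (Fin n) (Fin n) F :=
    { toFun := fun B => Matrix.reindex e e (Matrix.blockDiagonal' fun k => (B k : Matrix (Fin (c k)) (Fin (c k)) F))
      map_one' := by
        simp only [Pi.one_apply, Units.val_one]
        rw [show (fun k : Fin n => (1 : Matrix (Fin (c k)) (Fin (c k)) F)) = 1 from rfl, Matrix.blockDiagonal'_one]
        simp
      map_mul' := fun B C => by
        simp only [Pi.mul_apply, Units.val_mul, Matrix.blockDiagonal'_mul, Matrix.reindex_apply,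
          Matrix.submatrix_mul_equiv] }
  have hsym : ∀ i, (e.symm i).1 = blk c hc i := fun i => rfl
  have hmem : M.toHomUnits A ∈ parabolicGL n F c := by
    rw [mem_iff]
    intro i j hij
    have hne : (e.symm i).1 ≠ (e.symm j).1 := by
      rw [hsym, hsym]; intro h; exact absurd (congrArg Fin.val h) (Nat.ne_of_gt hij)
    exact Matrix.blockDiagonal'_apply_ne (fun k => ((A k : GL (Fin (c k)) F) : Matrix (Fin (c k)) (Fin (c k)) F)) _ _ hne
  refine ⟨⟨M.toHomUnits A, hmem⟩, funext fun k => Units.ext ?_⟩
  ext a b
  have he : ∀ a : Fin (c k), (blockEquiv c hc k a).1 = e ⟨k, a⟩ := fun a => rfl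
  change M A (blockEquiv c hc k a).1 (blockEquiv c hc k b).1 = _
  rw [he, he]
  simp only [M, MonoidHom.coe_mk, OneHom.coe_mk, Matrix.reindex_apply, Matrix.submatrix_apply,
    Equiv.symm_apply_apply, Matrix.blockDiagonal'_apply_eq]

theorem charpoly_eq_prod (g : parabolicGL n F c) :
    ((g : GL (Fin n) F) : Matrix (Fin n) (Fin n) F).charpoly =
      ∏ k : Fin n, (leviHom c hc F g k : Matrix (Fin (c k)) (Fin (c k)) F).charpoly := by
  have hblk : ∀ k, ((leviHom c hc F g k : Matrix (Fin (c k)) (Fin (c k)) F)).charpoly =
      (((g : GL (Fin n) F) : Matrix (Fin n) (Fin n) F).toSquareBlock (blk c hc) k).charpoly := by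
    intro k
    rw [← Matrix.charpoly_reindex (blockEquiv c hc k).symm]
    rfl
  rw [(blockTriangular_blk c hc F g).charpoly]
  simp only [hblk]
  refine Finset.prod_subset (Finset.subset_univ _) fun k _ hk => ?_
  have : IsEmpty {i : Fin n // blk c hc i = k} :=
    ⟨fun i => hk (Finset.mem_image.2 ⟨i.1, Finset.mem_univ _, i.2⟩)⟩
  exact Matrix.charpoly_isEmpty

end Cfsg.Lib.Linear.ParBlocks
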