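import Cfsg.Agent.Lib.Linear.SymplecticGroup

/-!
# Symmetric groups on the heart of the permutation module in characteristic two

Even subsets of a finite set `P` modulo a vector `c` fixed by all permutations, with coordinates
given by a family of hyperbolic pairs.
-/

set_option autoImplicit false

namespace Cfsg.Lib.Linear.PermModule

open scoped Matrix

variable {P : Type*} [Fintype P] {k : ℕ}

/-- Coordinates from the dot products with a family of pairs. -/
def pr (e f : Fin k → P → ZMod 2) : (P → ZMod 2) →ₗ[ZMod 2] (Fin k ⊕ Fin k → ZMod 2) :=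
  LinearMap.pi (Sum.elim (fun i => dotProductBilin (ZMod 2) (ZMod 2) (f i))
    (fun i => dotProductBilin (ZMod 2) (ZMod 2) (e i)))

/-- The vector with given coordinates. -/
def sec (e f : Fin k → P → ZMod 2) : (Fin k ⊕ Fin k → ZMod 2) →ₗ[ZMod 2] (P → ZMod 2) :=
  Fintype.linearCombination (ZMod 2) (Sum.elim e f)

theorem pr_inl (e f : Fin k → P → ZMod 2) (v : P → ZMod 2) (i : Fin k) :
    pr e f v (.inl i) = f i ⬝ᵥ v := rfl

theorem pr_inr (e f : Fin k → P → ZMod 2) (v : P → ZMod 2) (i : Fin k) :
    pr e f v (.inr i) = e i ⬝ᵥ v := rfl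

theorem sec_apply (e f : Fin k → P → ZMod 2) (x : Fin k ⊕ Fin k → ZMod 2) :
    sec e f x = ∑ i, x (.inl i) • e i + ∑ i, x (.inr i) • f i := by
  rw [sec, Fintype.linearCombination_apply, Fintype.sum_sum_type]
  rfl

theorem sec_dot (e f : Fin k → P → ZMod 2) (x : Fin k ⊕ Fin k → ZMod 2) (w : P → ZMod 2) :
    sec e f x ⬝ᵥ w = ∑ i, x (.inl i) * pr e f w (.inr i) + ∑ i, x (.inr i) * pr e f w (.inl i) := by
  simp only [sec_apply, add_dotProduct, sum_dotProduct, smul_dotProduct, smul_eq_mul, pr_inl, pr_inr]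

/-- The hypotheses on the coordinates. -/
structure Good (e f : Fin k → P → ZMod 2) (c : P → ZMod 2) : Prop where
  ee : ∀ i j, e i ⬝ᵥ e j = 0
  ef : ∀ i j, e i ⬝ᵥ f j = if i = j then 1 else 0
  ff : ∀ i j, f i ⬝ᵥ f j = 0
  even_e : ∀ i, ∑ p, e i p = 0
  even_f : ∀ i, ∑ p, f i p = 0
  const : c = 0 ∨ c = 1
  pr_c : pr e f c = 0
  near : ∀ v, ∑ p, v p = 0 → sec e f (pr e f v) = v ∨ sec e f (pr e f v) = v + c

variable {e f : Fin k → P → ZMod 2} {c : P → ZMod 2}

theorem Good.pr_sec (G : Good e f c) (x : Fin k ⊕ Fin k → ZMod 2) : pr e f (sec e f x) = x := by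
  funext j
  rcases j with j | j
  · rw [pr_inl, dotProduct_comm, sec_dot]
    simp only [pr_inl, pr_inr, G.ff, G.ef, mul_ite, mul_one, mul_zero, Finset.sum_const_zero, add_zero]
    simp
  · rw [pr_inr, dotProduct_comm, sec_dot]
    simp only [pr_inl, pr_inr, G.ee, mul_zero, Finset.sum_const_zero, zero_add]
    simp [dotProduct_comm (f _) (e j), G.ef]

theorem Good.sec_even (G : Good e f c) (x : Fin k ⊕ Fin k → ZMod 2) : ∑ p, sec e f x p = 0 := by
  have h := sec_dot e f x (fun _ => 1)
  simpa [dotProduct, pr_inl, pr_inr, G.even_e, G.even_f] using h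

/-- The action of a permutation in coordinates. -/
def act (e f : Fin k → P → ZMod 2) (g : Equiv.Perm P) :
    (Fin k ⊕ Fin k → ZMod 2) →ₗ[ZMod 2] (Fin k ⊕ Fin k → ZMod 2) :=
  pr e f ∘ₗ LinearMap.funLeft (ZMod 2) (ZMod 2) g.symm ∘ₗ sec e f

theorem act_apply (g : Equiv.Perm P) (x : Fin k ⊕ Fin k → ZMod 2) :
    act e f g x = pr e f (sec e f x ∘ g.symm) := rfl

omit [Fintype P] in
theorem const_comp (hc : c = 0 ∨ c = 1) (g : Equiv.Perm P) : c ∘ g.symm = c := by
  rcases hc with rfl | rfl <;> rfl

theorem Good.perm_even (g : Equiv.Perm P) (v : P → ZMod 2) (hv : ∑ p, v p = 0) :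
    ∑ p, (v ∘ g.symm) p = 0 := by
  rw [← hv]
  exact g.symm.sum_comp v

/-- Permuting and then projecting does not depend on the representative. -/
theorem Good.pr_perm (G : Good e f c) (g : Equiv.Perm P) (v : P → ZMod 2) (hv : ∑ p, v p = 0) :
    act e f g (pr e f v) = pr e f (v ∘ g.symm) := by
  rw [act_apply]
  rcases G.near v hv with h | h <;> rw [h]
  rw [show (v + c) ∘ g.symm = v ∘ g.symm + c ∘ g.symm from rfl, const_comp G.const, map_add, G.pr_c,
    add_zero]

/-- The representation. -/
noncomputable def Good.hom (G : Good e f c) :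
    Equiv.Perm P →* GL (Fin k ⊕ Fin k) (ZMod 2) :=
  MonoidHom.toHomUnits
    { toFun := fun g => LinearMap.toMatrix' (act e f g)
      map_one' := by
        rw [show act e f 1 = LinearMap.id from LinearMap.ext fun x => G.pr_sec x,
          LinearMap.toMatrix'_id]
      map_mul' := fun g h => by
        rw [← LinearMap.toMatrix'_comp]
        congr 1
        refine LinearMap.ext fun x => ?_
        rw [LinearMap.comp_apply, act_apply h, G.pr_perm g _ (Good.perm_even h _ (G.sec_even x)),
          act_apply]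
        rfl }

theorem Good.hom_mulVec (G : Good e f c) (g : Equiv.Perm P) (x : Fin k ⊕ Fin k → ZMod 2) :
    (G.hom g).val *ᵥ x = act e f g x := LinearMap.toMatrix'_mulVec (act e f g) x

/-- An invariant of even vectors gives an invariant of the representation. -/
theorem Good.invariant (G : Good e f c) {α : Type*} (W : (P → ZMod 2) → α)
    (hc : ∀ v, ∑ p, v p = 0 → W (v + c) = W v)
    (hW : ∀ (g : Equiv.Perm P) v, W (v ∘ g.symm) = W v)
    (g : Equiv.Perm P) (x : Fin k ⊕ Fin k → ZMod 2) :
    W (sec e f ((G.hom g).val *ᵥ x)) = W (sec e f x) := by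
  rw [G.hom_mulVec, act_apply]
  have he := Good.perm_even g _ (G.sec_even x)
  rcases G.near _ he with h | h <;> rw [h]
  · exact hW g _
  · rw [hc _ he, hW]

/-- The dot product is preserved. -/
theorem Good.dot_invariant (G : Good e f c) (g : Equiv.Perm P) (x y : Fin k ⊕ Fin k → ZMod 2) :
    sec e f ((G.hom g).val *ᵥ x) ⬝ᵥ sec e f ((G.hom g).val *ᵥ y) = sec e f x ⬝ᵥ sec e f y := by
  have hdot : ∀ v : P → ZMod 2, ∑ p, v p = 0 → c ⬝ᵥ v = 0 := fun v hv => by
    rcases G.const with rfl | rfl
    · exact zero_dotProduct v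
    · rw [one_dotProduct, hv]
  have hperm : ∀ u v : P → ZMod 2, (u ∘ g.symm) ⬝ᵥ (v ∘ g.symm) = u ⬝ᵥ v := fun u v =>
    g.symm.sum_comp fun p => u p * v p
  obtain ⟨d, hd, hx⟩ : ∃ d, (d = 0 ∨ d = c) ∧
      sec e f ((G.hom g).val *ᵥ x) = sec e f x ∘ g.symm + d := by
    rw [G.hom_mulVec, act_apply]
    rcases G.near _ (Good.perm_even g _ (G.sec_even x)) with h | h
    · exact ⟨0, Or.inl rfl, by rw [h, add_zero]⟩
    · exact ⟨c, Or.inr rfl, h⟩
  obtain ⟨d', hd', hy⟩ : ∃ d, (d = 0 ∨ d = c) ∧
      sec e f ((G.hom g).val *ᵥ y) = sec e f y ∘ g.symm + d := by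
    rw [G.hom_mulVec, act_apply]
    rcases G.near _ (Good.perm_even g _ (G.sec_even y)) with h | h
    · exact ⟨0, Or.inl rfl, by rw [h, add_zero]⟩
    · exact ⟨c, Or.inr rfl, h⟩
  have key : ∀ v : P → ZMod 2, ∑ p, v p = 0 → d ⬝ᵥ v = 0 := fun v hv => by
    rcases hd with h | h <;> rw [h]
    · exact zero_dotProduct v
    · exact hdot v hv
  have key' : ∀ v : P → ZMod 2, ∑ p, v p = 0 → v ⬝ᵥ d' = 0 := fun v hv => by
    rw [dotProduct_comm]
    rcases hd' with h | h <;> rw [h]
    · exact zero_dotProduct v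
    · exact hdot v hv
  have hex := G.sec_even ((G.hom g).val *ᵥ x)
  rw [hy, dotProduct_add, key' _ hex, add_zero, hx, add_dotProduct,
    key _ (Good.perm_even g _ (G.sec_even y)), add_zero, hperm]

/-- The representation is faithful on at least five points. -/
theorem Good.hom_injective (G : Good e f c) (h5 : 5 ≤ Fintype.card P) :
    Function.Injective G.hom := by
  classical
  refine (injective_iff_map_eq_one G.hom).mpr fun g hg => ?_
  have hfix : ∀ v : P → ZMod 2, ∑ p, v p = 0 → v ∘ g.symm = v ∨ v ∘ g.symm = v + c := by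
    intro v hv
    have h := G.pr_perm g v hv
    rw [← G.hom_mulVec, hg, Units.val_one, Matrix.one_mulVec] at h
    have h1 := G.near v hv
    have h2 := G.near _ (Good.perm_even g v hv)
    rw [← h] at h2
    rcases h1 with a | a <;> rcases h2 with b | b <;> rw [a] at b
    · exact Or.inl b.symm
    · refine Or.inr ?_
      conv_rhs => rw [b]
      rw [add_assoc, show c + c = 0 from funext fun p => CharTwo.add_self_eq_zero _, add_zero]
    · exact Or.inr b.symm
    · exact Or.inl (add_right_cancel b).symm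
  have hpair : ∀ a b : P, a ≠ b → g.symm a = a ∨ g.symm a = b := by
    intro a b hab
    obtain ⟨v, hv⟩ : ∃ v : P → ZMod 2, v = Pi.single a 1 + Pi.single b 1 := ⟨_, rfl⟩
    have hev : ∑ p, v p = 0 := by
      rw [hv]; simp [Finset.sum_add_distrib]; rfl
    have hmem : ∀ p, v p = 1 → p = a ∨ p = b := fun p hp => by
      by_contra hne
      push Not at hne
      rw [hv] at hp
      simp [hne.1, hne.2] at hp
    rcases hfix v hev with h | h
    · refine hmem _ ?_
      show (v ∘ g.symm) a = 1
      rw [h, hv]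
      simp [hab]
    · rcases G.const with rfl | rfl
      · refine hmem _ ?_
        show (v ∘ g.symm) a = 1
        rw [h, hv]
        simp [hab]
      · exfalso
        have hsub : (Finset.univ \ {a, b}).image g.symm ⊆ {a, b} := fun q hq => by
          obtain ⟨p, hp, rfl⟩ := Finset.mem_image.mp hq
          simp only [Finset.mem_sdiff, Finset.mem_univ, true_and, Finset.mem_insert,
            Finset.mem_singleton, not_or] at hp
          have := hmem (g.symm p) (by
            show (v ∘ g.symm) p = 1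
            rw [h, hv]
            simp [hp.1, hp.2])
          simpa using this
        have h1 := Finset.card_le_card hsub
        rw [Finset.card_image_of_injective _ g.symm.injective, Finset.card_univ_sdiff] at h1
        have h2 : ({a, b} : Finset P).card ≤ 2 := Finset.card_le_two
        omega
  refine Equiv.ext fun a => ?_
  obtain ⟨b, hb⟩ := Fintype.exists_ne_of_one_lt_card (by omega : 1 < Fintype.card P) a
  obtain ⟨d, hd⟩ : ∃ d, d ∉ ({a, b} : Finset P) := by
    by_contra hne
    push Not at hne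
    have := Finset.card_le_card (fun p (_ : p ∈ (Finset.univ : Finset P)) => hne p)
    rw [Finset.card_univ] at this
    have h2 : ({a, b} : Finset P).card ≤ 2 := Finset.card_le_two
    omega
  simp only [Finset.mem_insert, Finset.mem_singleton, not_or] at hd
  have ha : g.symm a = a := by
    rcases hpair a b hb.symm with h | h
    · exact h
    · rcases hpair a d (Ne.symm hd.1) with h' | h'
      · exact h'
      · exact absurd (h.symm.trans h') (Ne.symm hd.2)
  calc g a = g (g.symm a) := by rw [ha]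
    _ = a := g.apply_symm_apply a

/-- In characteristic two the standard alternating form in coordinates is the dot product. -/
theorem Good.sympForm_eq (G : Good e f c) (x y : Fin k ⊕ Fin k → ZMod 2) :
    Cfsg.sympForm k (ZMod 2) x y = sec e f x ⬝ᵥ sec e f y := by
  rw [sec_dot, G.pr_sec, Cfsg.sympForm, Symp.J_mulVec]
  simp [dotProduct, Fintype.sum_sum_type, ZMod.neg_eq_self_mod_two, add_comm]

/-- The representation lands in the symplectic group. -/
theorem Good.hom_mem (G : Good e f c) (g : Equiv.Perm P) :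
    (G.hom g).val ∈ Matrix.symplecticGroup (Fin k) (ZMod 2) := by
  refine (Symp.mem_symplecticGroup_iff _).mpr fun u v => ?_
  rw [Symp.spB_apply, Symp.spB_apply, G.sympForm_eq, G.sympForm_eq, G.dot_invariant]

/-- The symplectic representation. -/
noncomputable def Good.spHom (G : Good e f c) :
    Equiv.Perm P →* Matrix.symplecticGroup (Fin k) (ZMod 2) :=
  MonoidHom.mk' (fun g => ⟨_, G.hom_mem g⟩) fun g h =>
    Subtype.ext (by show (G.hom (g * h)).val = _; rw [map_mul, Units.val_mul]; rfl)

theorem Good.spHom_injective (G : Good e f c) (h5 : 5 ≤ Fintype.card P) :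
    Function.Injective G.spHom := fun g h e' =>
  G.hom_injective h5 (Units.ext (congrArg Subtype.val e'))

/-! ## The standard coordinates on `2k + 2` points -/

/-- The first halves of the pairs. -/
def eStd (k : ℕ) (i : Fin k) : (Fin k × Fin 2) ⊕ Fin 2 → ZMod 2 :=
  Sum.elim (fun p => if p.1 = i then 1 else 0) (fun _ => 0)

/-- The second halves of the pairs. -/
def fStd (k : ℕ) (i : Fin k) : (Fin k × Fin 2) ⊕ Fin 2 → ZMod 2 :=
  Sum.elim (fun p => if p.1 < i ∨ (p.1 = i ∧ p.2 = 1) then 1 else 0) (fun b => if b = 0 then 1 else 0)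

theorem eStd_dot (i : Fin k) (w : (Fin k × Fin 2) ⊕ Fin 2 → ZMod 2) :
    eStd k i ⬝ᵥ w = w (.inl (i, 0)) + w (.inl (i, 1)) := by
  simp [eStd, dotProduct, Fintype.sum_sum_type, Fintype.sum_prod_type, Fin.sum_univ_two,
    Finset.sum_add_distrib]

theorem fStd_dot (i : Fin k) (w : (Fin k × Fin 2) ⊕ Fin 2 → ZMod 2) :
    fStd k i ⬝ᵥ w = (∑ j, if j < i then w (.inl (j, 0)) + w (.inl (j, 1)) else 0) +
      w (.inl (i, 1)) + w (.inr 0) := by
  simp only [fStd, dotProduct, Fintype.sum_sum_type, Fintype.sum_prod_type, Fin.sum_univ_two,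
    Sum.elim_inl, Sum.elim_inr]
  have : ∀ j : Fin k, (if j < i ∨ (j = i ∧ (0 : Fin 2) = 1) then (1 : ZMod 2) else 0) * w (.inl (j, 0)) +
      (if j < i ∨ (j = i ∧ True) then (1 : ZMod 2) else 0) * w (.inl (j, 1)) =
      (if j < i then w (.inl (j, 0)) + w (.inl (j, 1)) else 0) +
        (if j = i then w (.inl (j, 1)) else 0) := fun j => by
    rcases lt_trichotomy j i with h | h | h
    · simp [h, h.ne]
    · simp [h]
    · simp [h.not_gt, h.ne']
  rw [Finset.sum_congr rfl fun j _ => this j, Finset.sum_add_distrib, Finset.sum_ite_eq']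
  simp

theorem good_std (k : ℕ) : Good (eStd k) (fStd k) 1 := by
  have hee : ∀ i j, eStd k i ⬝ᵥ eStd k j = 0 := fun i j => by
    rw [eStd_dot]; simp [eStd, CharTwo.add_self_eq_zero]
  have hef : ∀ i j, eStd k i ⬝ᵥ fStd k j = if i = j then 1 else 0 := fun i j => by
    rw [eStd_dot]
    rcases lt_trichotomy i j with h | h | h
    · simp [fStd, h, h.ne]; rfl
    · simp [fStd, h]
    · simp [fStd, h.not_gt, h.ne']
  have hff : ∀ i j, fStd k i ⬝ᵥ fStd k j = 0 := fun i j => by
    have hj : ∀ l, fStd k j (.inl (l, 0)) + fStd k j (.inl (l, 1)) = if l = j then 1 else 0 :=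
      fun l => by rw [← eStd_dot, hef]
    rw [fStd_dot]
    simp only [hj, ← ite_and]
    rw [Finset.sum_eq_single j (fun l _ hl => by simp [hl]) (fun h => absurd (Finset.mem_univ _) h)]
    rcases lt_trichotomy i j with h | h | h
    · simp [fStd, h, h.not_gt]; rfl
    · simp [fStd, h]; rfl
    · simp [fStd, h, h.not_gt, h.ne']; rfl
  have he1 : ∀ i, ∑ p, eStd k i p = 0 := fun i => by
    rw [← dotProduct_one, eStd_dot]; rfl
  have hf1 : ∀ i, ∑ p, fStd k i p = 0 := fun i => by
    rw [← dotProduct_one, fStd_dot]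
    simp only [Pi.one_apply, show (1 : ZMod 2) + 1 = 0 from rfl, ite_self, Finset.sum_const_zero, zero_add]
  have hprc : pr (eStd k) (fStd k) 1 = 0 := funext fun j => by
    rcases j with j | j
    · rw [pr_inl, dotProduct_one]; exact hf1 j
    · rw [pr_inr, dotProduct_one]; exact he1 j
  refine ⟨hee, hef, hff, he1, hf1, Or.inr rfl, hprc, fun v hv => ?_⟩
  obtain ⟨d, hd⟩ : ∃ d, d = sec (eStd k) (fStd k) (pr (eStd k) (fStd k) v) + v := ⟨_, rfl⟩
  have hs : ∑ p, sec (eStd k) (fStd k) (pr (eStd k) (fStd k) v) p = 0 := by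
    rw [← dotProduct_one, sec_dot, hprc]; simp
  have hd1 : ∑ p, d p = 0 := by
    rw [hd]; simp only [Pi.add_apply, Finset.sum_add_distrib, hs, hv, add_zero]
  have hpd : pr (eStd k) (fStd k) d = 0 := by
    have hps : ∀ x, pr (eStd k) (fStd k) (sec (eStd k) (fStd k) x) = x := fun x => by
      funext j
      rcases j with j | j
      · rw [pr_inl, dotProduct_comm, sec_dot]
        simp only [pr_inl, pr_inr, hff, hef, mul_ite, mul_one, mul_zero, Finset.sum_const_zero, add_zero]
        simp
      · rw [pr_inr, dotProduct_comm, sec_dot]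
        simp only [pr_inl, pr_inr, hee, mul_zero, Finset.sum_const_zero, zero_add]
        simp [dotProduct_comm (fStd k _) (eStd k j), hef]
    rw [hd, map_add, hps]
    exact funext fun j => CharTwo.add_self_eq_zero _
  have ha : ∀ i, d (.inl (i, 0)) + d (.inl (i, 1)) = 0 := fun i => by
    rw [← eStd_dot, ← pr_inr (eStd k) (fStd k), hpd]; rfl
  have hb : ∀ i, d (.inl (i, 1)) + d (.inr 0) = 0 := fun i => by
    have h := pr_inl (eStd k) (fStd k) d i
    rw [hpd, fStd_dot] at h
    simpa [ha] using h.symm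
  have hc : d (.inr 0) + d (.inr 1) = 0 := by
    rw [Fintype.sum_sum_type, Fintype.sum_prod_type] at hd1
    simpa [Fin.sum_univ_two, ha] using hd1
  have hconst : d = fun _ => d (.inr 0) := funext fun p => by
    rcases p with ⟨i, b⟩ | b <;> fin_cases b
    · exact (CharTwo.add_eq_zero.mp (ha i)).trans (CharTwo.add_eq_zero.mp (hb i))
    · exact CharTwo.add_eq_zero.mp (hb i)
    · rfl
    · exact (CharTwo.add_eq_zero.mp hc).symm
  have hsec : sec (eStd k) (fStd k) (pr (eStd k) (fStd k) v) = v + d := by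
    rw [hd]
    funext p
    simp only [Pi.add_apply]
    rw [add_comm (v p), add_assoc, CharTwo.add_self_eq_zero, add_zero]
  rcases (by decide : ∀ z : ZMod 2, z = 0 ∨ z = 1) (d (.inr 0)) with h | h
  · refine Or.inl ?_
    rw [hsec, hconst, h]
    exact add_zero v
  · refine Or.inr ?_
    rw [hsec, hconst, h]
    rfl

end Cfsg.Lib.Linear.PermModule
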