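import Mathlib
import Cfsg.Agent.Lib.Linear.CanonicalForm

/-!
# Invariant subspaces of elements of prime order modulo scalars
-/

set_option autoImplicit false

universe u

namespace Cfsg.Lib.Linear.PrimeForms

open Polynomial Module Cfsg.Lib

variable {F : Type u} [Field F] {n : ℕ}

theorem inv_iff (A : Matrix (Fin n) (Fin n) F) (U : Submodule F (Fin n → F)) :
    U.map (Matrix.toLin' A) ≤ U ↔ ∀ v ∈ U, A.mulVec v ∈ U := by
  rw [Submodule.map_le_iff_le_comap]
  rfl

/-- Every set of indices of a form gives an invariant subspace. -/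
theorem exists_parts {A : Matrix (Fin n) (Fin n) F} {ι : Type u} [Fintype ι] [DecidableEq ι] {f : ι → F[X]}
    (h : CanonicalForm.HasForm A f) (hf : ∀ i, (f i).Monic) :
    ∃ P : Finset ι → Submodule F (Fin n → F), Monotone P ∧ (∀ J, (P J).map (Matrix.toLin' A) ≤ P J) ∧
      (∀ J, finrank F (P J) = ∑ i ∈ J, (f i).natDegree) ∧ ∀ J, IsCompl (P J) (P Jᶜ) := by
  have hn := h.sum_natDegree hf
  obtain ⟨Ψ, hΨ⟩ := h
  haveI : ∀ i, Module.Finite F (AdjoinRoot (f i)) := fun i => (hf i).finite_adjoinRoot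
  let P : Finset ι → Submodule F (Fin n → F) := fun J => ⨅ i ∈ Jᶜ, LinearMap.ker ((LinearMap.proj i).comp Ψ.toLinearMap)
  have hmem : ∀ J v, v ∈ P J ↔ ∀ i, i ∉ J → Ψ v i = 0 := fun J v => by simp [P, Submodule.mem_iInf]
  have hle : ∀ J, finrank F (P J) ≤ ∑ i ∈ J, (f i).natDegree := by
    intro J
    let L : P J →ₗ[F] ∀ i : {x // x ∈ J}, AdjoinRoot (f i.1) :=
      LinearMap.pi fun i => ((LinearMap.proj (i.1 : ι)).comp Ψ.toLinearMap).comp (P J).subtype
    have hL : Function.Injective L := (injective_iff_map_eq_zero _).2 fun v hv => by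
      refine Subtype.ext (Ψ.injective (funext fun i => ?_))
      rw [Submodule.coe_zero, map_zero, Pi.zero_apply]
      by_cases hi : i ∈ J
      · exact congrFun hv ⟨i, hi⟩
      · exact (hmem J v).1 v.2 i hi
    refine (LinearMap.finrank_le_finrank_of_injective hL).trans_eq ?_
    rw [Module.finrank_pi_fintype, ← Finset.sum_coe_sort J]
    refine Finset.sum_congr rfl fun i _ => ?_
    rw [(AdjoinRoot.powerBasis' (hf i.1)).finrank]
    rfl
  have hc : ∀ J, IsCompl (P J) (P Jᶜ) := by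
    intro J
    constructor
    · rw [Submodule.disjoint_def]
      intro v h1 h2
      refine Ψ.injective (funext fun i => ?_)
      rw [map_zero, Pi.zero_apply]
      by_cases hi : i ∈ J
      · exact (hmem _ v).1 h2 i (by simpa using hi)
      · exact (hmem _ v).1 h1 i hi
    · rw [codisjoint_iff, eq_top_iff]
      intro v _
      refine Submodule.mem_sup.2 ⟨Ψ.symm (fun i => if i ∈ J then Ψ v i else 0), ?_,
        Ψ.symm (fun i => if i ∈ J then 0 else Ψ v i), ?_, ?_⟩
      · exact (hmem _ _).2 fun i hi => by simp [hi]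
      · exact (hmem _ _).2 fun i hi => by
          rw [Finset.mem_compl, not_not] at hi
          simp [hi]
      · refine Ψ.injective (funext fun i => ?_)
        rw [map_add, Pi.add_apply, LinearEquiv.apply_symm_apply, LinearEquiv.apply_symm_apply]
        by_cases hi : i ∈ J <;> simp [hi]
  refine ⟨P, fun J K hJK v hv => (hmem K v).2 fun i hi => (hmem J v).1 hv i fun h => hi (hJK h), fun J => ?_, fun J => ?_, hc⟩
  · rw [inv_iff]
    exact fun v hv => (hmem J _).2 fun i hi => by rw [hΨ, (hmem J v).1 hv i hi, mul_zero]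
  · have h1 := Submodule.finrank_add_eq_of_isCompl (hc J)
    rw [Module.finrank_fin_fun] at h1
    have h2 := hle J
    have h3 := hle Jᶜ
    have h4 := Finset.sum_add_sum_compl J fun i => (f i).natDegree
    omega

/-- Factors of the binomial with a root in the field. -/
theorem natDegree_of_dvd [Fintype F] {r : ℕ} [hr : Fact r.Prime] (hrF : (r : F) ≠ 0) {g : F[X]} (hgm : g.Monic)
    (hgi : Irreducible g) {d : F} (hd : d ≠ 0) (hg : g ∣ X ^ r - C (d ^ r)) :
    g = X - C d ∨ g.natDegree = orderOf (Fintype.card F : ZMod r) := by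
  by_cases hgd : g = X - C d
  · exact Or.inl hgd
  refine Or.inr ?_
  haveI : Fact (Irreducible g) := ⟨hgi⟩
  haveI := hgm.finite_adjoinRoot
  set θ := AdjoinRoot.root g
  have hθ : θ ^ r = algebraMap F (AdjoinRoot g) (d ^ r) := by
    have h1 := AdjoinRoot.mk_eq_zero.2 hg
    rwa [map_sub, map_pow, AdjoinRoot.mk_X, AdjoinRoot.mk_C, sub_eq_zero] at h1
  have hd0 : algebraMap F (AdjoinRoot g) d ≠ 0 := (map_ne_zero_iff _ (algebraMap F (AdjoinRoot g)).injective).2 hd
  set ζ := θ * (algebraMap F (AdjoinRoot g) d)⁻¹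
  have hθζ : θ = ζ * algebraMap F (AdjoinRoot g) d := by rw [mul_assoc, inv_mul_cancel₀ hd0, mul_one]
  have hζ1 : ζ ≠ 1 := by
    intro h
    refine hgd ?_
    have h1 : AdjoinRoot.mk g (X - C d) = 0 := by
      rw [map_sub, AdjoinRoot.mk_X, AdjoinRoot.mk_C, sub_eq_zero]
      exact hθζ.trans (by rw [h, one_mul]; rfl)
    exact eq_of_monic_of_associated hgm (monic_X_sub_C d)
      (hgi.associated_of_dvd (irreducible_X_sub_C d) (AdjoinRoot.mk_eq_zero.1 h1))
  have hζr : ζ ^ r = 1 := by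
    rw [mul_pow, hθ, inv_pow, ← map_pow]
    exact mul_inv_cancel₀ ((map_ne_zero_iff _ (algebraMap F (AdjoinRoot g)).injective).2 (pow_ne_zero r hd))
  have hord : orderOf ζ = r := orderOf_eq_prime hζr hζ1
  have key : ∀ k, g ∣ X ^ (Fintype.card F) ^ k - X ↔ orderOf (Fintype.card F : ZMod r) ∣ k := by
    intro k
    rw [orderOf_dvd_iff_pow_eq_one, ← AdjoinRoot.mk_eq_zero, map_sub, map_pow, AdjoinRoot.mk_X, sub_eq_zero]
    have hdk : algebraMap F (AdjoinRoot g) d ^ Fintype.card F ^ k = algebraMap F (AdjoinRoot g) d := by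
      rw [← map_pow, FiniteField.pow_card_pow]
    show θ ^ Fintype.card F ^ k = θ ↔ _
    rw [hθζ, mul_pow, hdk, mul_left_inj' hd0, ← Nat.cast_pow, ← Nat.cast_one (R := ZMod r), ZMod.natCast_eq_natCast_iff]
    conv_lhs => rhs; rw [← pow_one ζ]
    rw [(isOfFinOrder_iff_pow_eq_one.2 ⟨r, hr.out.pos, hζr⟩).pow_eq_pow_iff_modEq, hord]
  have h1 : orderOf (Fintype.card F : ZMod r) ∣ g.natDegree := by
    refine (key _).1 ?_
    rw [← Nat.card_eq_fintype_card]
    exact (hgi.natDegree_dvd_iff_dvd_X_pow_card_pow_sub_X).1 dvd_rfl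
  have h2 : g.natDegree ∣ orderOf (Fintype.card F : ZMod r) := by
    refine hgi.natDegree_dvd_of_dvd_X_pow_card_pow_sub_X ?_
    rw [Nat.card_eq_fintype_card]
    exact (key _).2 dvd_rfl
  exact Nat.dvd_antisymm h2 h1

/-- The form of an element whose prime power is a scalar. -/
theorem exists_form_pow {r : ℕ} (hr : (r : F) ≠ 0) {c : F} (hc : c ≠ 0) {A : Matrix (Fin n) (Fin n) F}
    (hA : A ^ r = c • 1) : ∃ (ι : Type u) (_ : Fintype ι) (f : ι → F[X]),
      (∀ i, (f i).Monic) ∧ (∀ i, Irreducible (f i)) ∧ (∀ i, f i ∣ X ^ r - C c) ∧ CanonicalForm.HasForm A f := by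
  obtain ⟨ι, hι, p, e, hp, hi, he, h⟩ := CanonicalForm.exists_form A
  have hd := (h.aeval_eq_zero_iff (X ^ r - C c)).mp (by simp [hA, Algebra.algebraMap_eq_smul_one])
  have hsq : Squarefree (X ^ r - C c : F[X]) := (separable_X_pow_sub_C c hr hc).squarefree
  have he1 : ∀ i, e i = 1 := by
    intro i
    by_contra hne
    have h2 : 2 ≤ e i := by have := he i; omega
    exact (hi i).not_isUnit ((hsq.squarefree_of_dvd (hd i)) (p i) ((pow_two (p i)) ▸ pow_dvd_pow _ h2))
  have hfun : (fun i => p i ^ e i) = p := funext fun i => by rw [he1 i, pow_one]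
  exact ⟨ι, hι, p, hp, hi, fun i => (dvd_pow_self (p i) (by rw [he1 i]; norm_num)).trans (hd i), hfun ▸ h⟩

theorem eq_binomial {r : ℕ} [hr : Fact r.Prime] {c : F} (hc : ∀ w : F, w ^ r ≠ c) {g : F[X]} (hgm : g.Monic)
    (hgi : Irreducible g) (hg : g ∣ X ^ r - C c) : g = X ^ r - C c :=
  eq_of_monic_of_associated hgm (monic_X_pow_sub_C c hr.out.ne_zero)
    (hgi.associated_of_dvd (X_pow_sub_C_irreducible_of_prime hr.out hc) hg)

theorem det_binomial {r : ℕ} (hr : r ≠ 0) {c : F} {A : Matrix (Fin n) (Fin n) F} {ι : Type u} [Fintype ι]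
    {f : ι → F[X]} (h : CanonicalForm.HasForm A f) (hf : ∀ i, f i = X ^ r - C c) :
    n = r * Fintype.card ι ∧ A.det = ((-1 : F) ^ (r + 1) * c) ^ Fintype.card ι := by
  have hm : ∀ i, (f i).Monic := fun i => hf i ▸ monic_X_pow_sub_C c hr
  have hn : n = r * Fintype.card ι := by
    rw [← h.sum_natDegree hm, Finset.sum_congr rfl fun i _ => by rw [hf i, natDegree_X_pow_sub_C], Finset.sum_const,
      Finset.card_univ, smul_eq_mul, mul_comm]
  refine ⟨hn, ?_⟩
  rw [Matrix.det_eq_sign_charpoly_coeff, h.charpoly hm, Fintype.card_fin, Finset.prod_congr rfl fun i _ => hf i,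
    Finset.prod_const, Finset.card_univ]
  conv_lhs => rw [hn]
  rw [coeff_zero_eq_eval_zero, eval_pow, eval_sub, eval_pow, eval_X, eval_C, zero_pow hr, pow_mul, ← mul_pow, zero_sub,
    pow_succ, mul_assoc, neg_one_mul]

/-- An invariant subspace of a prime order element has dimension congruent to its fixed part. -/
theorem finrank_modEq [Fintype F] {r : ℕ} [hr : Fact r.Prime] (hrq : ¬ r ∣ Fintype.card F) {A : Matrix (Fin n) (Fin n) F}
    (hA : A ^ r = 1) (W : Submodule F (Fin n → F)) (hW : W.map (Matrix.toLin' A) ≤ W) :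
    finrank F W ≡ finrank F ↥(W ⊓ LinearMap.ker (Matrix.toLin' A - 1)) [MOD orderOf (Fintype.card F : ZMod r)] := by
  classical
  rw [inv_iff] at hW
  let φ : Function.End W := fun w => ⟨A.mulVec w, hW _ w.2⟩
  have hpow : ∀ k (w : W), ((φ ^ k) w : Fin n → F) = (A ^ k).mulVec w := by
    intro k
    induction k with
    | zero => intro w; rw [pow_zero, pow_zero, Matrix.one_mulVec]; rfl
    | succ k ih => intro w; rw [pow_succ', pow_succ', ← Matrix.mulVec_mulVec, ← ih]; rfl
  have h1 : φ ^ r ^ 1 = 1 := funext fun w => Subtype.ext (by rw [pow_one, hpow, hA, Matrix.one_mulVec]; rfl)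
  have h2 := Equiv.Perm.card_fixedPoints_modEq h1
  rw [Module.card_eq_pow_finrank (K := F) (V := W)] at h2
  have h3 : Fintype.card φ.fixedPoints = Fintype.card F ^ finrank F ↥(W ⊓ LinearMap.ker (Matrix.toLin' A - 1)) := by
    rw [← Module.card_eq_pow_finrank]
    refine Fintype.card_congr
      { toFun := fun w => ⟨w.1.1, w.1.2, ?_⟩
        invFun := fun v => ⟨⟨v.1, v.2.1⟩, ?_⟩
        left_inv := fun w => rfl
        right_inv := fun v => rfl }
    · show (Matrix.toLin' A - 1) w.1.1 = 0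
      rw [LinearMap.sub_apply, Matrix.toLin'_apply, Module.End.one_apply, sub_eq_zero]
      exact congrArg Subtype.val w.2
    · have := LinearMap.mem_ker.1 v.2.2
      rw [LinearMap.sub_apply, Matrix.toLin'_apply, Module.End.one_apply, sub_eq_zero] at this
      exact Subtype.ext this
  rw [h3, ← ZMod.natCast_eq_natCast_iff, Nat.cast_pow, Nat.cast_pow] at h2
  have hu : (Fintype.card F : ZMod r) ≠ 0 := fun h => hrq ((ZMod.natCast_eq_zero_iff _ _).1 h)
  have h4 : Units.mk0 _ hu ^ finrank F W = Units.mk0 _ hu ^ finrank F ↥(W ⊓ LinearMap.ker (Matrix.toLin' A - 1)) :=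
    Units.ext (by simpa using h2)
  rwa [pow_eq_pow_iff_modEq, ← orderOf_units, Units.val_mk0] at h4

/-- Invariant subspaces for a non-power scalar. -/
theorem dvd_finrank {r : ℕ} [hr : Fact r.Prime] {c : F} (hc : ∀ w : F, w ^ r ≠ c) {A : Matrix (Fin n) (Fin n) F}
    (hA : A ^ r = c • 1) (W : Submodule F (Fin n → F)) (hW : W.map (Matrix.toLin' A) ≤ W) : r ∣ finrank F W := by
  by_contra hd
  have hc0 : c ≠ 0 := fun h => hc 0 (by rw [h, zero_pow hr.out.ne_zero])
  have hW' : ∀ v ∈ W, Matrix.toLin' A v ∈ W := fun v hv => hW (Submodule.mem_map_of_mem hv)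
  have hpow : ∀ k (w : W), (((Matrix.toLin' A).restrict hW' ^ k) w : Fin n → F) = (A ^ k).mulVec w := by
    intro k
    induction k with
    | zero => intro w; rw [pow_zero, pow_zero, Matrix.one_mulVec]; rfl
    | succ k ih => intro w; rw [pow_succ', pow_succ', ← Matrix.mulVec_mulVec, ← ih]; rfl
  have h1 : (Matrix.toLin' A).restrict hW' ^ r = c • LinearMap.id :=
    LinearMap.ext fun w => Subtype.ext (by rw [hpow, hA, Matrix.smul_mulVec, Matrix.one_mulVec]; rfl)
  have h2 := congrArg LinearMap.det h1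
  rw [map_pow, LinearMap.det_smul, LinearMap.det_id, mul_one] at h2
  have hcop : (finrank F W).Coprime r := ((hr.out.coprime_iff_not_dvd).2 hd).symm
  obtain ⟨a, -, ha⟩ := Nat.exists_mul_mod_eq_one_of_coprime hcop hr.out.one_lt
  refine hc (LinearMap.det ((Matrix.toLin' A).restrict hW') ^ a / c ^ (finrank F W * a / r)) ?_
  rw [div_pow, ← pow_mul, ← pow_mul, mul_comm a r, pow_mul, h2, ← pow_mul, div_eq_iff (pow_ne_zero _ hc0), ← pow_succ']
  congr 1
  have := Nat.div_add_mod (finrank F W * a) r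
  rw [ha] at this
  rw [mul_comm (finrank F W * a / r) r]
  omega

/-- Choosing parts of degrees one and `e`. -/
theorem exists_pair {ι : Type*} [Fintype ι] [DecidableEq ι] {d : ι → ℕ} {e m : ℕ} (he : 1 ≤ e) (hd : ∀ i, d i = 1 ∨ d i = e)
    (hm : 2 * m ≤ ∑ i, d i) (hmod : 2 * (m % e) ≤ (∑ i, d i) % e) :
    ∃ J K : Finset ι, Disjoint J K ∧ ∑ i ∈ J, d i = m ∧ ∑ i ∈ K, d i = m := by
  let A := Finset.univ.filter fun i => d i = 1
  have hA : ∀ i ∈ A, d i = 1 := fun i hi => (Finset.mem_filter.1 hi).2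
  have hB : ∀ i ∈ Aᶜ, d i = e := fun i hi => (hd i).resolve_left (by simpa [A] using hi)
  have hn : ∑ i, d i = A.card + Aᶜ.card * e := by
    rw [← Finset.sum_add_sum_compl A, Finset.sum_congr rfl hA, Finset.sum_congr rfl hB, Finset.sum_const, Finset.sum_const,
      smul_eq_mul, smul_eq_mul, mul_one]
  have hme := Nat.div_add_mod m e
  set a := A.card
  set b := Aᶜ.card
  set M := m / e
  have hna : (∑ i, d i) % e ≤ a := by
    rw [hn, Nat.add_mul_mod_self_right]; exact Nat.mod_le _ _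
  set b1 := min ((b + 1) / 2) M
  set b2 := min (b / 2) M
  have hb12 : b1 + b2 ≤ b := by omega
  have hM1 : b1 * e ≤ m := by
    have : b1 * e ≤ M * e := Nat.mul_le_mul_right e (min_le_right _ _)
    rw [mul_comm M e] at this; omega
  have hM2 : b2 * e ≤ m := by
    have : b2 * e ≤ M * e := Nat.mul_le_mul_right e (min_le_right _ _)
    rw [mul_comm M e] at this; omega
  have ha : 2 * m ≤ a + (b1 + b2) * e := by
    by_cases hb : b ≤ 2 * M
    · have h : b1 + b2 = b := by omega
      rw [h]; omega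
    · have h : b1 + b2 = 2 * M := by omega
      rw [h, mul_assoc, mul_comm M e]; omega
  obtain ⟨J1, hJ1, hJ1c⟩ := Finset.exists_subset_card_eq (show b1 ≤ Aᶜ.card by omega)
  obtain ⟨K1, hK1, hK1c⟩ := Finset.exists_subset_card_eq (show b2 ≤ (Aᶜ \ J1).card by
    rw [Finset.card_sdiff_of_subset hJ1]; omega)
  rw [add_mul] at ha
  obtain ⟨J2, hJ2, hJ2c⟩ := Finset.exists_subset_card_eq (show m - b1 * e ≤ A.card by omega)
  obtain ⟨K2, hK2, hK2c⟩ := Finset.exists_subset_card_eq (show m - b2 * e ≤ (A \ J2).card by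
    rw [Finset.card_sdiff_of_subset hJ2]; omega)
  have hK1' : K1 ⊆ Aᶜ := hK1.trans Finset.sdiff_subset
  have hK2' : K2 ⊆ A := hK2.trans Finset.sdiff_subset
  have hd1 : ∀ {X Y : Finset ι}, X ⊆ Aᶜ → Y ⊆ A → Disjoint X Y := fun hX hY =>
    (disjoint_compl_left (a := A)).mono hX hY
  have hsum : ∀ {X Y : Finset ι} (u v : ℕ), X ⊆ Aᶜ → Y ⊆ A → X.card = u → Y.card = v → ∑ i ∈ X ∪ Y, d i = u * e + v := by
    intro X Y u v hX hY hu hv
    rw [Finset.sum_union (hd1 hX hY), Finset.sum_congr rfl fun i hi => hB i (hX hi),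
      Finset.sum_congr rfl fun i hi => hA i (hY hi), Finset.sum_const, Finset.sum_const, smul_eq_mul, smul_eq_mul, hu, hv, mul_one]
  refine ⟨J1 ∪ J2, K1 ∪ K2, ?_, ?_, ?_⟩
  · rw [Finset.disjoint_union_left, Finset.disjoint_union_right, Finset.disjoint_union_right]
    exact ⟨⟨(Finset.sdiff_disjoint.mono_left hK1).symm, hd1 hJ1 hK2'⟩, (hd1 hK1' hJ2).symm,
      (Finset.sdiff_disjoint.mono_left hK2).symm⟩
  · rw [hsum _ _ hJ1 hJ2 hJ1c hJ2c]; omega
  · rw [hsum _ _ hK1' hK2' hK1c hK2c]; omega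

theorem exists_one {ι : Type*} [Fintype ι] [DecidableEq ι] {d : ι → ℕ} {e m : ℕ} (he : 1 ≤ e) (hd : ∀ i, d i = 1 ∨ d i = e)
    (hm : m ≤ ∑ i, d i) (hmod : m % e ≤ (∑ i, d i) % e) : ∃ J : Finset ι, ∑ i ∈ J, d i = m := by
  let A := Finset.univ.filter fun i => d i = 1
  have hA : ∀ i ∈ A, d i = 1 := fun i hi => (Finset.mem_filter.1 hi).2
  have hB : ∀ i ∈ Aᶜ, d i = e := fun i hi => (hd i).resolve_left (by simpa [A] using hi)
  have hn : ∑ i, d i = A.card + Aᶜ.card * e := by
    rw [← Finset.sum_add_sum_compl A, Finset.sum_congr rfl hA, Finset.sum_congr rfl hB, Finset.sum_const, Finset.sum_const,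
      smul_eq_mul, smul_eq_mul, mul_one]
  have hme := Nat.div_add_mod m e
  set a := A.card
  set b := Aᶜ.card
  set M := m / e
  have hna : (∑ i, d i) % e ≤ a := by
    rw [hn, Nat.add_mul_mod_self_right]; exact Nat.mod_le _ _
  set b1 := min b M
  have hM1 : b1 * e ≤ m := by
    have : b1 * e ≤ M * e := Nat.mul_le_mul_right e (min_le_right _ _)
    rw [mul_comm M e] at this; omega
  have ha : m ≤ a + b1 * e := by
    by_cases hb : b ≤ M
    · rw [show b1 = b by omega]; omega
    · rw [show b1 = M by omega, mul_comm M e]; omega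
  obtain ⟨J1, hJ1, hJ1c⟩ := Finset.exists_subset_card_eq (show b1 ≤ Aᶜ.card by omega)
  obtain ⟨J2, hJ2, hJ2c⟩ := Finset.exists_subset_card_eq (show m - b1 * e ≤ A.card by omega)
  refine ⟨J1 ∪ J2, ?_⟩
  rw [Finset.sum_union ((disjoint_compl_left (a := A)).mono hJ1 hJ2), Finset.sum_congr rfl fun i hi => hB i (hJ1 hi),
    Finset.sum_congr rfl fun i hi => hA i (hJ2 hi), Finset.sum_const, Finset.sum_const, smul_eq_mul, smul_eq_mul, hJ1c, hJ2c, mul_one]
  omega

end Cfsg.Lib.Linear.PrimeForms
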