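import Mathlib.GroupTheory.GroupAction.MultipleTransitivity
import Mathlib.GroupTheory.Sylow
import Cfsg.Prelude.Def_LieRecognition
import Cfsg.Agent.Lib.Invol.Basic

/-!
# The rank-one set-up

Elementary consequences of `Cfsg.IsRankOneSetup`: regularity of `Q`, orders, involutions and
their fixed points, the structure equation and the canonical form.
-/

set_option autoImplicit false

namespace Cfsg.Lib.Linear.RankOne

section Odd

variable {M : Type*} [Group M]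

theorem exists_sqrt_of_odd {X : Subgroup M} (hodd : Odd (Nat.card X)) {x : M} (hx : x ∈ X) :
    ∃ n : ℕ, (x ^ n) * (x ^ n) = x := by
  obtain ⟨m, hm⟩ := hodd
  refine ⟨m + 1, ?_⟩
  have h := Subgroup.pow_mem X hx 1
  have hc : x ^ Nat.card X = 1 := by
    exact orderOf_dvd_iff_pow_eq_one.mp (Subgroup.orderOf_dvd_natCard X hx)
  rw [← pow_add, show m + 1 + (m + 1) = Nat.card X + 1 by omega, pow_add, hc, one_mul, pow_one]

theorem sq_inj_of_odd {X : Subgroup M} (hodd : Odd (Nat.card X)) {x y : M} (hx : x ∈ X)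
    (hy : y ∈ X) (h : x * x = y * y) : x = y := by
  obtain ⟨m, hm⟩ := hodd
  have key : ∀ z ∈ X, (z * z) ^ (m + 1) = z := by
    intro z hz
    have hc : z ^ Nat.card X = 1 := by
      exact orderOf_dvd_iff_pow_eq_one.mp (Subgroup.orderOf_dvd_natCard X hz)
    rw [← pow_two, ← pow_mul, show 2 * (m + 1) = Nat.card X + 1 by omega, pow_add, hc,
      one_mul, pow_one]
  rw [← key x hx, ← key y hy, h]

theorem eq_one_of_sq_of_odd {X : Subgroup M} (hodd : Odd (Nat.card X)) {x : M} (hx : x ∈ X)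
    (h : x * x = 1) : x = 1 :=
  sq_inj_of_odd hodd hx X.one_mem (by rw [h, one_mul])

theorem commute_of_commute_sq {X : Subgroup M} (hodd : Odd (Nat.card X)) {x z : M} (hx : x ∈ X)
    (h : Commute (x * x) z) : Commute x z := by
  obtain ⟨m, hm⟩ := hodd
  have hc : x ^ Nat.card X = 1 := by
    exact orderOf_dvd_iff_pow_eq_one.mp (Subgroup.orderOf_dvd_natCard X hx)
  have hxz : x = (x * x) ^ (m + 1) := by
    rw [← pow_two, ← pow_mul, show 2 * (m + 1) = Nat.card X + 1 by omega, pow_add, hc,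
      one_mul, pow_one]
  rw [hxz]
  exact h.pow_left _

variable {t : M} {X : Subgroup M}

/-- An odd-order subgroup normalised by an involution factors uniquely as fixed times inverted. -/
theorem odd_factorization (ht : t * t = 1) (hodd : Odd (Nat.card X))
    (hnorm : ∀ x ∈ X, t * x * t⁻¹ ∈ X) {x : M} (hx : x ∈ X) :
    ∃! p : M × M, p.1 ∈ X ⊓ Subgroup.centralizer {t} ∧ p.2 ∈ Cfsg.invertedBy X t ∧
      x = p.1 * p.2 := by
  have htinv : t⁻¹ = t := inv_eq_of_mul_eq_one_left ht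
  let τ : M →* M := (MulAut.conj t).toMonoidHom
  have hτ : ∀ y : M, τ y = t * y * t⁻¹ := fun y => rfl
  have hττ : ∀ y : M, τ (τ y) = y := fun y => by
    rw [hτ, hτ, htinv]; rw [show t * (t * y * t) * t = (t * t) * y * (t * t) by group, ht]; simp
  set w := (τ x)⁻¹ * x with hw
  have hwX : w ∈ X := X.mul_mem (X.inv_mem (hnorm x hx)) hx
  have hτw : τ w = w⁻¹ := by rw [hw, map_mul, map_inv, hττ, mul_inv_rev, inv_inv]
  obtain ⟨n, hn⟩ := exists_sqrt_of_odd hodd hwX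
  set z := w ^ n with hz
  have hzX : z ∈ X := X.pow_mem hwX n
  have hτz : τ z = z⁻¹ := by rw [hz, map_pow, hτw, inv_pow]
  refine ⟨(x * z⁻¹, z), ⟨⟨X.mul_mem hx (X.inv_mem hzX), ?_⟩, ⟨hzX, hτz⟩, ?_⟩, ?_⟩
  · have hy : τ (x * z⁻¹) = x * z⁻¹ := by
      have h1 : τ x = x * w⁻¹ := by rw [hw]; group
      rw [map_mul, map_inv, hτz, inv_inv, h1, ← hn]
      group
    show x * z⁻¹ ∈ Subgroup.centralizer {t}
    rw [Subgroup.mem_centralizer_singleton_iff]
    rw [hτ] at hy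
    calc x * z⁻¹ * t = t * (x * z⁻¹) * t⁻¹ * t := by rw [hy]
      _ = t * (x * z⁻¹) := by group
  · simp
  · rintro ⟨y, z'⟩ ⟨⟨hyX, hyc⟩, ⟨hz'X, hz'⟩, hxy⟩
    simp only at hxy hyX hyc hz'X hz' ⊢
    have hyc' : t * y = y * t := (Subgroup.mem_centralizer_singleton_iff.mp hyc).symm
    have hy : τ y = y := by rw [hτ, hyc']; group
    have hz'' : τ z' = z'⁻¹ := hz'
    have hw' : w = z' * z' := by
      rw [hw, hxy, map_mul, hy, hz'']; group
    have : z' = z := sq_inj_of_odd hodd hz'X hzX (by rw [← hw', hn])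
    subst this
    rw [hxy]; simp

theorem odd_factorization_unique (ht : t * t = 1) (hodd : Odd (Nat.card X))
    (hnorm : ∀ x ∈ X, t * x * t⁻¹ ∈ X) {y y' z z' : M}
    (hy : y ∈ X ⊓ Subgroup.centralizer {t}) (hy' : y' ∈ X ⊓ Subgroup.centralizer {t})
    (hz : z ∈ Cfsg.invertedBy X t) (hz' : z' ∈ Cfsg.invertedBy X t) (h : y * z = y' * z') :
    y = y' ∧ z = z' := by
  obtain ⟨p, _, hp⟩ := odd_factorization ht hodd hnorm (X.mul_mem hy.1 hz.1)
  have h1 := hp (y, z) ⟨hy, hz, rfl⟩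
  have h2 := hp (y', z') ⟨hy', hz', h⟩
  exact Prod.mk.inj (h1.trans h2.symm)

theorem card_odd_factorization [Finite M] (ht : t * t = 1) (hodd : Odd (Nat.card X))
    (hnorm : ∀ x ∈ X, t * x * t⁻¹ ∈ X) :
    Nat.card X =
      Nat.card ↥(X ⊓ Subgroup.centralizer {t}) * Nat.card (Cfsg.invertedBy X t) := by
  rw [← Nat.card_prod]
  refine (Nat.card_eq_of_bijective
    (fun p : ↥(X ⊓ Subgroup.centralizer {t}) × (Cfsg.invertedBy X t) =>
      (⟨p.1 * p.2, X.mul_mem p.1.2.1 p.2.2.1⟩ : X)) ⟨?_, ?_⟩).symm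
  · rintro ⟨⟨y, hy⟩, ⟨z, hz⟩⟩ ⟨⟨y', hy'⟩, ⟨z', hz'⟩⟩ h
    obtain ⟨rfl, rfl⟩ := odd_factorization_unique ht hodd hnorm hy hy' hz hz'
      (congrArg Subtype.val h)
    rfl
  · rintro ⟨x, hx⟩
    obtain ⟨⟨y, z⟩, ⟨hy, hz, rfl⟩, -⟩ := odd_factorization ht hodd hnorm hx
    exact ⟨(⟨y, hy⟩, ⟨z, hz⟩), rfl⟩

end Odd

section Setup

variable {G Ω : Type*} [Group G] [MulAction G Ω] {a : Ω} {t : G} {Q : Subgroup G}
variable (hS : Cfsg.IsRankOneSetup G Ω a t Q)

local notation "Ga" => MulAction.stabilizer G a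
local notation "DD" => (MulAction.stabilizer G a ⊓ MulAction.stabilizer G (t • a))

include hS

theorem t_inv : t⁻¹ = t := inv_eq_of_mul_eq_one_left hS.mul_self

theorem smul_ne : t • a ≠ a := fun h => hS.not_mem (MulAction.mem_stabilizer_iff.mpr h)

theorem smul_smul_self : t • t • a = a := by rw [smul_smul, hS.mul_self, one_smul]

theorem conj_mem_D {d : G} (hd : d ∈ DD) : t * d * t ∈ DD := by
  have h1 : d • a = a := hd.1
  have h2 : d • t • a = t • a := hd.2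
  refine ⟨?_, ?_⟩ <;> show (t * d * t) • _ = _ <;> rw [mul_smul, mul_smul]
  · rw [h2, smul_smul_self hS]
  · rw [smul_smul_self hS, h1]

theorem conj_inv_mem_D {d : G} (hd : d ∈ DD) : t * d * t⁻¹ ∈ DD := by
  rw [t_inv hS]; exact conj_mem_D hS hd

theorem exists_pair {b₁ b₂ c₁ c₂ : Ω} (hb : b₁ ≠ b₂) (hc : c₁ ≠ c₂) :
    ∃ g : G, g • b₁ = c₁ ∧ g • b₂ = c₂ :=
  MulAction.is_two_pretransitive_iff.mp hS.two_transitive hb hc

theorem exists_ne_pt (b : Ω) : ∃ c : Ω, c ≠ b := by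
  by_cases h : b = a
  · exact ⟨t • a, by rw [h]; exact smul_ne hS⟩
  · exact ⟨a, Ne.symm h⟩

theorem pretransitive : MulAction.IsPretransitive G Ω := by
  constructor
  intro b c
  obtain ⟨b', hb⟩ := exists_ne_pt hS b
  obtain ⟨c', hc⟩ := exists_ne_pt hS c
  obtain ⟨g, hg, -⟩ := exists_pair hS hb.symm hc.symm
  exact ⟨g, hg⟩

theorem finite_pts [Finite G] : Finite Ω :=
  have := pretransitive hS
  Finite.of_surjective (fun g : G => g • a) (MulAction.surjective_smul G a)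

theorem decomp {g : G} (hg : g ∈ Ga) : ∃ q ∈ Q, ∃ d ∈ DD, g = q * d := by
  let H : Subgroup G :=
    { carrier := {g | ∃ q ∈ Q, ∃ d ∈ DD, g = q * d}
      one_mem' := ⟨1, Q.one_mem, 1, one_mem _, (one_mul 1).symm⟩
      mul_mem' := by
        rintro _ _ ⟨q, hq, d, hd, rfl⟩ ⟨q', hq', d', hd', rfl⟩
        exact ⟨q * (d * q' * d⁻¹), Q.mul_mem hq (hS.conj_mem d hd.1 q' hq'), d * d',
          mul_mem hd hd', by group⟩
      inv_mem' := by
        rintro _ ⟨q, hq, d, hd, rfl⟩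
        exact ⟨d⁻¹ * q⁻¹ * d⁻¹⁻¹, hS.conj_mem _ (inv_mem hd).1 _ (Q.inv_mem hq), d⁻¹,
          inv_mem hd, by group⟩ }
  have hle : Q ⊔ DD ≤ H :=
    sup_le (fun q hq => ⟨q, hq, 1, one_mem _, (mul_one q).symm⟩)
      (fun d hd => ⟨1, Q.one_mem, d, hd, (one_mul d).symm⟩)
  rw [hS.sup_eq] at hle
  exact hle hg

theorem eq_one_of_fix_ta {q : G} (hq : q ∈ Q) (h : q • t • a = t • a) : q = 1 := by
  have : q ∈ Q ⊓ MulAction.stabilizer G (t • a) := ⟨hq, h⟩
  rwa [hS.inf_eq_bot, Subgroup.mem_bot] at this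

theorem eq_one_of_mem_D {q : G} (hq : q ∈ Q) (hd : q ∈ DD) : q = 1 :=
  eq_one_of_fix_ta hS hq hd.2

theorem exists_orbit {b : Ω} (hb : b ≠ a) : ∃ q ∈ Q, q • t • a = b := by
  obtain ⟨g, hg1, hg2⟩ := exists_pair hS (smul_ne hS).symm hb.symm
  obtain ⟨q, hq, d, hd, rfl⟩ := decomp hS hg1
  refine ⟨q, hq, ?_⟩
  rw [← hg2, mul_smul, show d • t • a = t • a from hd.2]

theorem smul_ne_of_ne {q : G} (hq : q ∈ Q) {b : Ω} (hb : b ≠ a) : q • b ≠ a := by
  intro h
  have hqa : q • a = a := hS.le hq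
  exact hb (MulAction.injective q (h.trans hqa.symm))

theorem exists_map {b c : Ω} (hb : b ≠ a) (hc : c ≠ a) : ∃ q ∈ Q, q • b = c := by
  obtain ⟨q, hq, rfl⟩ := exists_orbit hS hb
  obtain ⟨q', hq', rfl⟩ := exists_orbit hS hc
  exact ⟨q' * q⁻¹, Q.mul_mem hq' (Q.inv_mem hq), by rw [mul_smul, inv_smul_smul]⟩

theorem eq_one_of_fix {q : G} (hq : q ∈ Q) {b : Ω} (hb : b ≠ a) (h : q • b = b) : q = 1 := by
  obtain ⟨r, hr, rfl⟩ := exists_orbit hS hb
  have h1 : r⁻¹ * q * r = 1 := by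
    refine eq_one_of_fix_ta hS (Q.mul_mem (Q.mul_mem (Q.inv_mem hr) hq) hr) ?_
    rw [mul_smul, mul_smul, h, inv_smul_smul]
  calc q = r * (r⁻¹ * q * r) * r⁻¹ := by group
    _ = 1 := by rw [h1]; group

theorem fix_eq {q : G} (hq : q ∈ Q) (hq1 : q ≠ 1) {b : Ω} (h : q • b = b) : b = a :=
  by_contra fun hb => hq1 (eq_one_of_fix hS hq hb h)

theorem eq_of_smul {q q' : G} (hq : q ∈ Q) (hq' : q' ∈ Q) {b : Ω} (hb : b ≠ a)
    (h : q • b = q' • b) : q = q' := by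
  have h1 : q'⁻¹ * q = 1 :=
    eq_one_of_fix hS (Q.mul_mem (Q.inv_mem hq') hq) hb (by rw [mul_smul, h, inv_smul_smul])
  exact (inv_mul_eq_one.mp h1).symm

theorem regular (b c : Ω) (hb : b ≠ a) (hc : c ≠ a) : ∃! x : Q, (x : G) • b = c := by
  obtain ⟨q, hq, h⟩ := exists_map hS hb hc
  exact ⟨⟨q, hq⟩, h, fun x hx => Subtype.ext (eq_of_smul hS x.2 hq hb (hx.trans h.symm))⟩

theorem card_pts [Finite G] : Nat.card Ω = Nat.card Q + 1 := by
  classical
  have := finite_pts hS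
  have e : Nat.card Q = Nat.card {b : Ω // b ≠ a} := by
    refine Nat.card_eq_of_bijective
      (fun q : Q => (⟨(q : G) • t • a, smul_ne_of_ne hS q.2 (smul_ne hS)⟩ : {b : Ω // b ≠ a}))
      ⟨?_, ?_⟩
    · exact fun q q' h => Subtype.ext (eq_of_smul hS q.2 q'.2 (smul_ne hS) (congrArg Subtype.val h))
    · rintro ⟨b, hb⟩
      obtain ⟨q, hq, h⟩ := exists_orbit hS hb
      exact ⟨⟨q, hq⟩, Subtype.ext h⟩
  have h1 : Nat.card {b : Ω // b = a} = 1 := Nat.card_unique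
  have h2 : Nat.card Ω = Nat.card {b : Ω // b = a} + Nat.card {b : Ω // ¬ b = a} := by
    rw [← Nat.card_sum]
    exact (Nat.card_congr (Equiv.sumCompl (fun b : Ω => b = a))).symm
  rw [h2, h1, e, Nat.add_comm]

theorem card_stab [Finite G] : Nat.card Ga = Nat.card Q * Nat.card ↥DD := by
  rw [← Nat.card_prod]
  refine (Nat.card_eq_of_bijective
    (fun p : Q × ↥DD => (⟨p.1 * p.2, mul_mem (hS.le p.1.2) p.2.2.1⟩ : Ga)) ⟨?_, ?_⟩).symm
  · rintro ⟨⟨q, hq⟩, ⟨d, hd⟩⟩ ⟨⟨q', hq'⟩, ⟨d', hd'⟩⟩ h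
    have h' : q * d = q' * d' := congrArg Subtype.val h
    have h2 : q'⁻¹ * q = d' * d⁻¹ := by
      rw [inv_mul_eq_iff_eq_mul, ← mul_assoc, ← h', mul_inv_cancel_right]
    have h1 : q'⁻¹ * q = 1 :=
      eq_one_of_mem_D hS (Q.mul_mem (Q.inv_mem hq') hq) (h2 ▸ mul_mem hd' (inv_mem hd))
    have hq2 : q' = q := inv_mul_eq_one.mp h1
    subst hq2
    have hd2 : d = d' := mul_left_cancel h'
    subst hd2
    rfl
  · rintro ⟨g, hg⟩
    obtain ⟨q, hq, d, hd, rfl⟩ := decomp hS hg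
    exact ⟨(⟨q, hq⟩, ⟨d, hd⟩), rfl⟩

theorem card_group [Finite G] :
    Nat.card G = Nat.card Q * Nat.card ↥DD * (Nat.card Q + 1) := by
  have := pretransitive hS
  rw [← card_stab hS, ← card_pts hS, ← MulAction.index_stabilizer_of_transitive G a,
    Subgroup.card_mul_index]

theorem exists_sylow_le [Finite G] : ∃ P : Sylow 2 G, (P : Subgroup G) ≤ Q := by
  let S : Sylow 2 Q := default
  refine ⟨Sylow.ofCard ((S : Subgroup Q).map Q.subtype) ?_, Subgroup.map_subtype_le _⟩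
  rw [Subgroup.card_map_of_injective Q.subtype_injective, Sylow.card_eq_multiplicity]
  have hD := hS.odd_card
  have hQ1 : Odd (Nat.card Q + 1) := hS.even_card.add_one
  have h0 : ∀ n : ℕ, Odd n → n.factorization 2 = 0 := fun n hn =>
    Nat.factorization_eq_zero_of_not_dvd
      (by rw [← even_iff_two_dvd]; exact Nat.not_even_iff_odd.mpr hn)
  have hne : ∀ H : Subgroup G, Nat.card H ≠ 0 := fun H => Nat.card_pos.ne'
  rw [card_group hS, Nat.factorization_mul (mul_ne_zero (hne _) (hne _)) (Nat.succ_ne_zero _),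
    Nat.factorization_mul (hne _) (hne _)]
  simp only [Finsupp.coe_add, Pi.add_apply, h0 _ hD, h0 _ hQ1, add_zero]

theorem invol_mem {s : G} (hs : s ∈ Ga) (h2 : s * s = 1) : s ∈ Q := by
  obtain ⟨q, hq, d, hd, rfl⟩ := decomp hS hs
  have h : (q * (d * q * d⁻¹)) * (d * d) = 1 := by rw [← h2]; group
  have hQd : d * d ∈ Q := by
    have h' : d * d = (q * (d * q * d⁻¹))⁻¹ := eq_inv_of_mul_eq_one_right h
    rw [h']
    exact Q.inv_mem (Q.mul_mem hq (hS.conj_mem d hd.1 q hq))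
  have hd1 : d = 1 :=
    eq_one_of_sq_of_odd hS.odd_card hd (eq_one_of_mem_D hS hQd (mul_mem hd hd))
  rw [hd1, mul_one]
  exact hq

theorem exists_invol [Finite G] :
    ∃ s ∈ Q, s ≠ 1 ∧ s * s = 1 := by
  obtain ⟨⟨s, hs⟩, ho⟩ := exists_prime_orderOf_dvd_card' (G := Q) 2 hS.even_card.two_dvd
  rw [← Subgroup.orderOf_coe] at ho
  exact ⟨s, hs, Cfsg.Lib.Invol.ne_one ho, Cfsg.Lib.Invol.inv_mul_self ho⟩

theorem invol_fix [Finite G] {u : G} (h1 : u ≠ 1) (h2 : u * u = 1) :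
    ∃! b : Ω, u • b = b := by
  have := pretransitive hS
  have := finite_pts hS
  have hex : ∃ b : Ω, u • b = b := by
    have hP : IsPGroup 2 (Subgroup.zpowers u) := by
      refine IsPGroup.of_card (n := 1) ?_
      rw [Nat.card_zpowers, Cfsg.Lib.Invol.orderOf_eq_two_of h1 h2, pow_one]
    have hnd : ¬ 2 ∣ Nat.card Ω := by
      rw [card_pts hS, ← even_iff_two_dvd, Nat.even_add_one, not_not]
      exact hS.even_card
    obtain ⟨b, hb⟩ := hP.nonempty_fixed_point_of_prime_not_dvd_card Ω hnd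
    exact ⟨b, hb ⟨u, Subgroup.mem_zpowers u⟩⟩
  obtain ⟨b, hb⟩ := hex
  refine ⟨b, hb, fun c hc => ?_⟩
  simp only at hc
  obtain ⟨g, rfl⟩ := MulAction.exists_smul_eq G a b
  have hga : g⁻¹ * u * g ∈ Ga := by
    rw [MulAction.mem_stabilizer_iff, mul_smul, mul_smul, hb, inv_smul_smul]
  have hQ' : g⁻¹ * u * g ∈ Q := invol_mem hS hga (by
    rw [show g⁻¹ * u * g * (g⁻¹ * u * g) = g⁻¹ * (u * u) * g by group, h2]; group)
  have hne : g⁻¹ * u * g ≠ 1 := by
    intro h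
    exact h1 (by calc u = g * (g⁻¹ * u * g) * g⁻¹ := by group
      _ = 1 := by rw [h]; group)
  have := fix_eq hS hQ' hne (b := g⁻¹ • c) (by rw [mul_smul, mul_smul, smul_inv_smul, hc])
  exact inv_smul_eq_iff.mp this

/-- The only fixed point of an involution of `G_a` is `a`. -/
theorem invol_fix_eq [Finite G] {s : G} (hs : s ∈ Ga) (h1 : s ≠ 1) (h2 : s * s = 1) {b : Ω}
    (hb : s • b = b) : b = a :=
  fix_eq hS (invol_mem hS hs h2) h1 hb

theorem fix_of_commute [Finite G] {u v : G} (hu1 : u ≠ 1) (hu2 : u * u = 1)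
    (h : Commute u v) {b : Ω} (hb : u • b = b) : v • b = b := by
  refine (invol_fix hS hu1 hu2).unique ?_ hb
  rw [smul_smul, h.eq, mul_smul, hb]

theorem mul_odd [Finite G] {u v : G} (hu1 : u ≠ 1) (hu2 : u * u = 1) (hv1 : v ≠ 1)
    (hv2 : v * v = 1) (hne : ∀ b : Ω, u • b = b → v • b ≠ b) : Odd (orderOf (u * v)) := by
  by_contra hodd
  rw [Nat.not_odd_iff_even] at hodd
  obtain ⟨hz, hzu, hzv⟩ := Cfsg.Lib.Invol.central_involution
    (Cfsg.Lib.Invol.orderOf_eq_two_of hu1 hu2) (Cfsg.Lib.Invol.orderOf_eq_two_of hv1 hv2) hodd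
  set z := (u * v) ^ (orderOf (u * v) / 2)
  obtain ⟨b, hb, -⟩ := invol_fix hS (Cfsg.Lib.Invol.ne_one hz) (Cfsg.Lib.Invol.inv_mul_self hz)
  exact hne b (fix_of_commute hS (Cfsg.Lib.Invol.ne_one hz) (Cfsg.Lib.Invol.inv_mul_self hz) hzu hb)
    (fix_of_commute hS (Cfsg.Lib.Invol.ne_one hz) (Cfsg.Lib.Invol.inv_mul_self hz) hzv hb)

theorem invol_conj [Finite G] {u v : G} (hu1 : u ≠ 1) (hu2 : u * u = 1) (hv1 : v ≠ 1)
    (hv2 : v * v = 1) : ∃ g : G, g * u * g⁻¹ = v := by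
  have := pretransitive hS
  have step : ∀ u v : G, u ≠ 1 → u * u = 1 → v ≠ 1 → v * v = 1 →
      (∀ b : Ω, u • b = b → v • b ≠ b) → ∃ g : G, g * u * g⁻¹ = v := by
    intro u v hu1 hu2 hv1 hv2 hne
    exact isConj_iff.mp (Cfsg.Lib.Invol.isConj_of_odd
      (Cfsg.Lib.Invol.orderOf_eq_two_of hu1 hu2) (Cfsg.Lib.Invol.orderOf_eq_two_of hv1 hv2)
      (mul_odd hS hu1 hu2 hv1 hv2 hne))
  by_cases hsame : ∀ b : Ω, u • b = b → v • b ≠ b
  · exact step u v hu1 hu2 hv1 hv2 hsame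
  · push Not at hsame
    obtain ⟨e, heu, hev⟩ := hsame
    obtain ⟨e', he'⟩ := exists_ne_pt hS e
    obtain ⟨g, rfl⟩ := MulAction.exists_smul_eq G e e'
    have hw2 : g * u * g⁻¹ * (g * u * g⁻¹) = 1 := by
      rw [show g * u * g⁻¹ * (g * u * g⁻¹) = g * (u * u) * g⁻¹ by group, hu2]; group
    have hw1 : g * u * g⁻¹ ≠ 1 := by
      intro h
      exact hu1 (by calc u = g⁻¹ * (g * u * g⁻¹) * g := by group
        _ = 1 := by rw [h]; group)
    have hwfix : (g * u * g⁻¹) • g • e = g • e := by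
      rw [mul_smul, mul_smul, inv_smul_smul, heu]
    obtain ⟨k, hk⟩ := step (g * u * g⁻¹) v hw1 hw2 hv1 hv2 (fun b hb hvb => by
      have h1 := (invol_fix hS hw1 hw2).unique hb hwfix
      have h2 := (invol_fix hS hv1 hv2).unique hvb hev
      exact he' (h1.symm.trans h2))
    exact ⟨k * g, by rw [← hk]; group⟩

theorem exists_unique_equation [Finite G] :
    ∃! p : G × G, p.1 ∈ Cfsg.involutionsIn (Ga : Set G) ∧ p.2 ∈ Q ∧
      t * p.1 * t = p.2⁻¹ * t * p.2 := by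
  obtain ⟨c, hc, -⟩ := invol_fix hS hS.ne_one hS.mul_self
  have hca : c ≠ a := fun h => smul_ne hS (h ▸ hc)
  obtain ⟨r, hr, hrc⟩ := exists_orbit hS hca
  have hu : (r⁻¹ * t * r) • t • a = t • a := by
    rw [mul_smul, mul_smul, hrc, hc, ← hrc, inv_smul_smul]
  refine ⟨(t * (r⁻¹ * t * r) * t, r), ⟨⟨?_, ?_, ?_⟩, hr, ?_⟩, ?_⟩
  · show _ • a = a
    rw [mul_smul, mul_smul, hu, smul_smul_self hS]
  · intro h
    simp only at h
    apply hS.ne_one
    calc t = r * (t * (t * (r⁻¹ * t * r) * t) * t) * r⁻¹ := by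
          simp only [← mul_assoc, hS.mul_self, one_mul]
          simp only [mul_assoc, hS.mul_self, mul_one]
          group
      _ = 1 := by rw [h, mul_one, hS.mul_self]; group
  · calc t * (r⁻¹ * t * r) * t * (t * (r⁻¹ * t * r) * t)
        = t * (r⁻¹ * t * r) * (t * t) * (r⁻¹ * t * r) * t := by group
      _ = 1 := by
          have htt : ∀ x : G, t * (t * x) = x := fun x => by rw [← mul_assoc, hS.mul_self, one_mul]
          simp [mul_assoc, htt, hS.mul_self]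
  · calc t * (t * (r⁻¹ * t * r) * t) * t = (t * t) * (r⁻¹ * t * r) * (t * t) := by group
      _ = r⁻¹ * t * r := by rw [hS.mul_self]; group
  · rintro ⟨s', r'⟩ ⟨⟨hs', -, -⟩, hr', heq⟩
    simp only at hs' hr' heq ⊢
    have h1 : (r'⁻¹ * t * r') • t • a = t • a := by
      rw [← heq, mul_smul, mul_smul, smul_smul_self hS, show s' • a = a from hs']
    have h2 : t • r' • t • a = r' • t • a := by
      rw [mul_smul, mul_smul, inv_smul_eq_iff] at h1
      exact h1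
    have h3 : r' • t • a = c := (invol_fix hS hS.ne_one hS.mul_self).unique h2 hc
    have hrr : r' = r := eq_of_smul hS hr' hr (smul_ne hS) (h3.trans hrc.symm)
    subst hrr
    refine Prod.ext ?_ rfl
    show s' = t * (r'⁻¹ * t * r') * t
    calc s' = (t * t) * s' * (t * t) := by rw [hS.mul_self]; group
      _ = t * (t * s' * t) * t := by group
      _ = _ := by rw [heq]

theorem canon_unique {g g' h h' f f' : G} (hg : g ∈ Q) (hg' : g' ∈ Q) (hh : h ∈ DD)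
    (hh' : h' ∈ DD) (hf : f ∈ Q) (hf' : f' ∈ Q) (he : g * h * t * f = g' * h' * t * f') :
    g = g' ∧ h = h' ∧ f = f' := by
  have key : ∀ g h f : G, g ∈ Q → h ∈ DD → f ∈ Q → (g * h * t * f)⁻¹ • a = f⁻¹ • t • a := by
    intro g h f hg hh hf
    rw [mul_inv_rev, mul_inv_rev, mul_inv_rev, t_inv hS, mul_smul, mul_smul, mul_smul,
      show g⁻¹ • a = a from hS.le (Q.inv_mem hg), show h⁻¹ • a = a from (inv_mem hh).1]
  have hff : f⁻¹ = f'⁻¹ := eq_of_smul hS (Q.inv_mem hf) (Q.inv_mem hf') (smul_ne hS)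
    (by rw [← key g h f hg hh hf, he, key g' h' f' hg' hh' hf'])
  rw [inv_inj] at hff
  subst hff
  have hgh : g * h = g' * h' := mul_right_cancel (mul_right_cancel he)
  have h2 : g'⁻¹ * g = h' * h⁻¹ := by
    rw [inv_mul_eq_iff_eq_mul, ← mul_assoc, ← hgh, mul_inv_cancel_right]
  have h1 : g'⁻¹ * g = 1 :=
    eq_one_of_mem_D hS (Q.mul_mem (Q.inv_mem hg') hg) (h2 ▸ mul_mem hh' (inv_mem hh))
  have hgg : g' = g := inv_mul_eq_one.mp h1
  subst hgg
  exact ⟨rfl, mul_left_cancel hgh, rfl⟩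

theorem centralizer_eq [Finite G] {s r : G} (hs : s ∈ Cfsg.involutionsIn (Ga : Set G))
    (hr : r ∈ Q) (heq : t * s * t = r⁻¹ * t * r) :
    DD ⊓ Subgroup.centralizer {t} = DD ⊓ Subgroup.centralizer {s} := by
  ext d
  simp only [Subgroup.mem_inf (p := DD), Subgroup.mem_centralizer_singleton_iff]
  constructor
  · rintro ⟨hd, hdt⟩
    refine ⟨hd, ?_⟩
    have hdt' : d⁻¹ * t = t * d⁻¹ := (Commute.inv_left hdt).eq
    obtain ⟨p, -, hp⟩ := exists_unique_equation hS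
    have h1 := hp (s, r) ⟨hs, hr, heq⟩
    have h2 := hp (d * s * d⁻¹, d * r * d⁻¹) ⟨⟨?_, ?_, ?_⟩, hS.conj_mem d hd.1 r hr, ?_⟩
    · have h3 := congrArg Prod.fst (h1.trans h2.symm)
      simp only at h3
      calc d * s = d * s * d⁻¹ * d := by group
        _ = s * d := by rw [← h3]
    · exact mul_mem (mul_mem hd.1 hs.1) (inv_mem hd).1
    · intro h
      simp only at h
      exact hs.2.1 (by calc s = d⁻¹ * (d * s * d⁻¹) * d := by group
        _ = 1 := by rw [h]; group)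
    · rw [show d * s * d⁻¹ * (d * s * d⁻¹) = d * (s * s) * d⁻¹ by group, hs.2.2]; group
    · calc t * (d * s * d⁻¹) * t = (t * d) * s * (d⁻¹ * t) := by group
        _ = (d * t) * s * (t * d⁻¹) := by rw [hdt, hdt']
        _ = d * (t * s * t) * d⁻¹ := by group
        _ = d * (r⁻¹ * t * r) * d⁻¹ := by rw [heq]
        _ = d * r⁻¹ * t * (r * d⁻¹) := by group
        _ = d * r⁻¹ * (d⁻¹ * d) * t * (r * d⁻¹) := by group
        _ = (d * r⁻¹ * d⁻¹) * (d * t) * (r * d⁻¹) := by group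
        _ = (d * r⁻¹ * d⁻¹) * (t * d) * (r * d⁻¹) := by rw [hdt]
        _ = (d * r * d⁻¹)⁻¹ * t * (d * r * d⁻¹) := by group
  · rintro ⟨hd, hds⟩
    refine ⟨hd, ?_⟩
    set d' := t * d * t with hd'
    have hd'D : d' ∈ DD := conj_mem_D hS hd
    have hd'u : d' * (t * s * t) * d'⁻¹ = t * s * t := by
      rw [hd', mul_inv_rev, mul_inv_rev, t_inv hS]
      calc t * d * t * (t * s * t) * (t * (d⁻¹ * t))
          = t * d * (t * t) * s * (t * t) * d⁻¹ * t := by group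
        _ = t * (d * s) * d⁻¹ * t := by rw [hS.mul_self]; group
        _ = t * s * t := by rw [hds]; group
    set t' := d' * t * d'⁻¹ with ht'
    set r'' := d' * r * d'⁻¹ with hr''
    have hq : r'' * r⁻¹ ∈ Q := Q.mul_mem (hS.conj_mem d' hd'D.1 r hr) (Q.inv_mem hr)
    have ht'q : t' = (r'' * r⁻¹) * t * (r'' * r⁻¹)⁻¹ := by
      calc t' = r'' * (d' * (r⁻¹ * t * r) * d'⁻¹) * r''⁻¹ := by rw [ht', hr'']; group
        _ = r'' * (d' * (t * s * t) * d'⁻¹) * r''⁻¹ := by rw [heq]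
        _ = r'' * (r⁻¹ * t * r) * r''⁻¹ := by rw [hd'u, heq]
        _ = _ := by group
    set q := r'' * r⁻¹ with hqdef
    have ht'a : t' • a = t • a := by
      rw [ht', mul_smul, mul_smul, show d'⁻¹ • a = a from (inv_mem hd'D).1,
        show d' • t • a = t • a from hd'D.2]
    have hq1 : q = 1 := by
      refine eq_one_of_fix_ta hS hq ?_
      calc q • t • a = (q * t * q⁻¹) • a := by
            rw [mul_smul (q * t) q⁻¹ a, show q⁻¹ • a = a from hS.le (Q.inv_mem hq), mul_smul q t a]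
        _ = t • a := by rw [← ht'q, ht'a]
    have htt : d' * t = t * d' := by
      have h : t' = t := by rw [ht'q, hq1]; group
      calc d' * t = t' * d' := by rw [ht']; group
        _ = t * d' := by rw [h]
    calc d * t = (t * t) * (d * t) := by rw [hS.mul_self, one_mul]
      _ = t * d' := by rw [hd']; group
      _ = d' * t := htt.symm
      _ = (t * d) * (t * t) := by rw [hd']; group
      _ = t * d := by rw [hS.mul_self, mul_one]

theorem card_inverted [Finite G] :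
    Nat.card (Cfsg.invertedBy DD t) = Nat.card (Cfsg.involutionsIn (Ga : Set G)) := by
  classical
  have := pretransitive hS
  let I := {u : G // u ≠ 1 ∧ u * u = 1}
  have hfib : Nat.card I = Nat.card Ω * Nat.card (Cfsg.involutionsIn (Ga : Set G)) := by
    choose g hg using fun b : Ω => MulAction.exists_smul_eq G a b
    rw [← Nat.card_prod]
    refine (Nat.card_eq_of_bijective
      (fun p : Ω × Cfsg.involutionsIn (Ga : Set G) =>
        (⟨g p.1 * p.2.1 * (g p.1)⁻¹, ?_, ?_⟩ : I)) ⟨?_, ?_⟩).symm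
    · intro h
      exact p.2.2.2.1 (by
        calc p.2.1 = (g p.1)⁻¹ * (g p.1 * p.2.1 * (g p.1)⁻¹) * g p.1 := by group
          _ = 1 := by rw [h]; group)
    · rw [show g p.1 * p.2.1 * (g p.1)⁻¹ * (g p.1 * p.2.1 * (g p.1)⁻¹) =
        g p.1 * (p.2.1 * p.2.1) * (g p.1)⁻¹ by group, p.2.2.2.2]
      group
    · rintro ⟨b, s, hs⟩ ⟨b', s', hs'⟩ h
      have h' : g b * s * (g b)⁻¹ = g b' * s' * (g b')⁻¹ := congrArg Subtype.val h
      have hfb : ∀ (b : Ω) (s : G), s ∈ Cfsg.involutionsIn (Ga : Set G) →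
          (g b * s * (g b)⁻¹) • b = b := by
        intro b s hs
        have h1 : (g b)⁻¹ • b = a := by rw [inv_smul_eq_iff, hg]
        rw [mul_smul, mul_smul, h1, show s • a = a from hs.1, hg]
      have hbb : b = b' := by
        have h1 : g b * s * (g b)⁻¹ ≠ 1 := by
          intro h
          exact hs.2.1 (by calc s = (g b)⁻¹ * (g b * s * (g b)⁻¹) * g b := by group
            _ = 1 := by rw [h]; group)
        have h2 : g b * s * (g b)⁻¹ * (g b * s * (g b)⁻¹) = 1 := by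
          rw [show g b * s * (g b)⁻¹ * (g b * s * (g b)⁻¹) = g b * (s * s) * (g b)⁻¹ by group,
            hs.2.2]
          group
        exact (invol_fix hS h1 h2).unique (hfb b s hs) (h' ▸ hfb b' s' hs')
      subst hbb
      have hss : s = s' := mul_left_cancel (mul_right_cancel h')
      subst hss
      rfl
    · rintro ⟨u, hu1, hu2⟩
      obtain ⟨b, hb, -⟩ := invol_fix hS hu1 hu2
      refine ⟨(b, ⟨(g b)⁻¹ * u * g b, ?_, ?_, ?_⟩), Subtype.ext ?_⟩
      · show _ • a = a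
        rw [mul_smul, mul_smul, hg, hb, inv_smul_eq_iff, hg]
      · intro h
        exact hu1 (by calc u = g b * ((g b)⁻¹ * u * g b) * (g b)⁻¹ := by group
          _ = 1 := by rw [h]; group)
      · rw [show (g b)⁻¹ * u * g b * ((g b)⁻¹ * u * g b) = (g b)⁻¹ * (u * u) * g b by group, hu2]
        group
      · show g b * ((g b)⁻¹ * u * g b) * (g b)⁻¹ = u
        group
  have hin : Nat.card {u : I // u.1 • a = a} =
      Nat.card (Cfsg.involutionsIn (Ga : Set G)) :=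
    Nat.card_congr
      { toFun := fun u => ⟨u.1.1, u.2, u.1.2.1, u.1.2.2⟩
        invFun := fun s => ⟨⟨s.1, s.2.2.1, s.2.2.2⟩, s.2.1⟩
        left_inv := fun _ => rfl
        right_inv := fun _ => rfl }
  have hout : Nat.card {u : I // ¬ u.1 • a = a} =
      Nat.card Q * Nat.card (Cfsg.invertedBy DD t) := by
    rw [← Nat.card_prod]
    refine (Nat.card_eq_of_bijective
      (fun p : Q × Cfsg.invertedBy DD t =>
        (⟨⟨p.1.1 * (t * p.2.1) * (p.1.1)⁻¹, ?_, ?_⟩, ?_⟩ : {u : I // ¬ u.1 • a = a}))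
      ⟨?_, ?_⟩).symm
    · intro h
      have h3 : t * p.2.1 = 1 := by
        calc t * p.2.1 = (p.1.1)⁻¹ * (p.1.1 * (t * p.2.1) * (p.1.1)⁻¹) * p.1.1 := by group
          _ = 1 := by rw [h]; group
      apply smul_ne hS
      calc t • a = (t * p.2.1) • a := by rw [mul_smul, show p.2.1 • a = a from p.2.2.1.1]
        _ = a := by rw [h3, one_smul]
    · have hk := p.2.2.2
      rw [t_inv hS] at hk
      rw [show p.1.1 * (t * p.2.1) * (p.1.1)⁻¹ * (p.1.1 * (t * p.2.1) * (p.1.1)⁻¹) =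
        p.1.1 * ((t * p.2.1 * t) * p.2.1) * (p.1.1)⁻¹ by group, hk]
      group
    · intro h
      simp only at h
      rw [mul_smul, mul_smul, mul_smul,
        show (p.1.1)⁻¹ • a = a from hS.le (Q.inv_mem p.1.2),
        show p.2.1 • a = a from p.2.2.1.1] at h
      exact smul_ne_of_ne hS p.1.2 (smul_ne hS) h
    · rintro ⟨⟨q, hq⟩, ⟨k, hk⟩⟩ ⟨⟨q', hq'⟩, ⟨k', hk'⟩⟩ h
      have h' : q * (t * k) * q⁻¹ = q' * (t * k') * q'⁻¹ :=
        congrArg (fun u : {u : I // ¬ u.1 • a = a} => u.1.1) h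
      have hqq : q = q' := by
        refine eq_of_smul hS hq hq' (smul_ne hS) ?_
        have := congrArg (fun w : G => w • a) h'
        simp only [mul_smul, show q⁻¹ • a = a from hS.le (Q.inv_mem hq),
          show q'⁻¹ • a = a from hS.le (Q.inv_mem hq'), show k • a = a from hk.1.1,
          show k' • a = a from hk'.1.1] at this
        exact this
      subst hqq
      have hkk : k = k' := mul_left_cancel (mul_left_cancel (mul_right_cancel h'))
      subst hkk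
      rfl
    · rintro ⟨⟨u, hu1, hu2⟩, hua⟩
      obtain ⟨q, hq, hqu⟩ := exists_orbit hS (b := u • a) hua
      set u' := q⁻¹ * u * q with hu'
      have hu'2 : u' * u' = 1 := by
        rw [hu', show q⁻¹ * u * q * (q⁻¹ * u * q) = q⁻¹ * (u * u) * q by group, hu2]; group
      have hu'a : u' • a = t • a := by
        rw [hu', mul_smul, mul_smul, show q • a = a from hS.le hq, ← hqu, inv_smul_smul]
      have hu't : u' • t • a = a := by rw [← hu'a, smul_smul, hu'2, one_smul]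
      have hmem : t * u' ∈ DD := by
        constructor <;> show _ • _ = _
        · rw [mul_smul, hu'a, smul_smul_self hS]
        · rw [mul_smul, hu't]
      refine ⟨(⟨q, hq⟩, ⟨t * u', hmem, ?_⟩), Subtype.ext (Subtype.ext ?_)⟩
      · rw [mul_inv_rev, t_inv hS, inv_eq_of_mul_eq_one_left hu'2,
          show t * (t * u') * t = (t * t) * (u' * t) by group, hS.mul_self, one_mul]
      · show q * (t * (t * u')) * q⁻¹ = u
        rw [← mul_assoc t t, hS.mul_self, one_mul, hu']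
        group
  have hsum : Nat.card I = Nat.card {u : I // u.1 • a = a} + Nat.card {u : I // ¬ u.1 • a = a} := by
    rw [← Nat.card_sum]
    exact (Nat.card_congr (Equiv.sumCompl (fun u : I => u.1 • a = a))).symm
  rw [hfib, hin, hout, card_pts hS, add_mul, one_mul] at hsum
  have := finite_pts hS
  have hpos : 0 < Nat.card Q := Nat.card_pos
  refine (Nat.eq_of_mul_eq_mul_left hpos ?_).symm
  omega

theorem conj_mem_involutionsIn {s k : G} (hs : s ∈ Cfsg.involutionsIn (Ga : Set G))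
    (hk : k ∈ DD) : k⁻¹ * s * k ∈ Cfsg.involutionsIn (Ga : Set G) := by
  refine ⟨mul_mem (mul_mem (inv_mem hk).1 hs.1) hk.1, ?_, ?_⟩
  · intro h
    exact hs.2.1 (by calc s = k * (k⁻¹ * s * k) * k⁻¹ := by group
      _ = 1 := by rw [h]; group)
  · rw [show k⁻¹ * s * k * (k⁻¹ * s * k) = k⁻¹ * (s * s) * k by group, hs.2.2]; group

theorem surj_of_inj [Finite G] {s : G} (hs : s ∈ Cfsg.involutionsIn (Ga : Set G))
    (hinj : ∀ k ∈ Cfsg.invertedBy DD t, ∀ k' ∈ Cfsg.invertedBy DD t,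
      k⁻¹ * s * k = k'⁻¹ * s * k' → k = k')
    {s' : G} (hs' : s' ∈ Cfsg.involutionsIn (Ga : Set G)) :
    ∃ k ∈ Cfsg.invertedBy DD t, k⁻¹ * s * k = s' := by
  let Φ : Cfsg.invertedBy DD t → Cfsg.involutionsIn (Ga : Set G) :=
    fun k => ⟨k.1⁻¹ * s * k.1, conj_mem_involutionsIn hS hs k.2.1⟩
  have hb : Function.Bijective Φ := by
    refine (Nat.bijective_iff_injective_and_card Φ).mpr ⟨?_, card_inverted hS⟩
    intro k k' h
    exact Subtype.ext (hinj k.1 k.2 k'.1 k'.2 (congrArg Subtype.val h))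
  obtain ⟨⟨k, hk⟩, h⟩ := hb.2 ⟨s', hs'⟩
  exact ⟨k, hk, congrArg Subtype.val h⟩

theorem inverted_transitive [Finite G] {s s' : G} (hs : s ∈ Cfsg.involutionsIn (Ga : Set G))
    (hs' : s' ∈ Cfsg.involutionsIn (Ga : Set G)) :
    ∃ k ∈ Cfsg.invertedBy DD t, k⁻¹ * s * k = s' := by
  have hn : ∀ x ∈ DD, t * x * t⁻¹ ∈ DD := fun x hx => conj_inv_mem_D hS hx
  obtain ⟨⟨s₀, r₀⟩, ⟨hs₀, hr₀, heq⟩, -⟩ := exists_unique_equation hS
  have hC := centralizer_eq hS hs₀ hr₀ heq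
  have hrel : ∀ x y : G, x ∈ DD → y ∈ DD → x⁻¹ * s₀ * x = y⁻¹ * s₀ * y →
      y * x⁻¹ ∈ DD ⊓ Subgroup.centralizer {t} := by
    intro x y hx hy h
    rw [hC]
    refine Subgroup.mem_inf.mpr ⟨mul_mem hy (inv_mem hx),
      Subgroup.mem_centralizer_singleton_iff.mpr ?_⟩
    calc y * x⁻¹ * s₀ = y * (x⁻¹ * s₀ * x) * x⁻¹ := by group
      _ = y * (y⁻¹ * s₀ * y) * x⁻¹ := by rw [h]
      _ = s₀ * (y * x⁻¹) := by group
  obtain ⟨k₀, hk₀, hk₀s⟩ := surj_of_inj hS hs₀ (fun k hk k' hk' h => by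
    have h1 := odd_factorization_unique hS.mul_self hS.odd_card hn
      (hrel k k' hk.1 hk'.1 h) (one_mem _) hk hk' (by group)
    exact h1.2) hs
  refine surj_of_inj hS hs (fun k hk k' hk' h => ?_) hs'
  have h' : (k₀ * k)⁻¹ * s₀ * (k₀ * k) = (k₀ * k')⁻¹ * s₀ * (k₀ * k') := by
    calc (k₀ * k)⁻¹ * s₀ * (k₀ * k) = k⁻¹ * (k₀⁻¹ * s₀ * k₀) * k := by group
      _ = k'⁻¹ * (k₀⁻¹ * s₀ * k₀) * k' := by rw [hk₀s, h]
      _ = _ := by group
  have hc := hrel _ _ (mul_mem hk₀.1 hk.1) (mul_mem hk₀.1 hk'.1) h'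
  obtain ⟨c, hcdef⟩ : ∃ c, c = k₀ * k' * (k₀ * k)⁻¹ := ⟨_, rfl⟩
  rw [← hcdef] at hc
  let τ : G →* G := (MulAut.conj t).toMonoidHom
  have hτc : τ c = c := by
    show t * c * t⁻¹ = c
    rw [← Subgroup.mem_centralizer_singleton_iff.mp hc.2, mul_inv_cancel_right]
  have hτk : τ k = k⁻¹ := hk.2
  have hτk' : τ k' = k'⁻¹ := hk'.2
  have hτk₀ : τ k₀ = k₀⁻¹ := hk₀.2
  have hkk : k₀ * k' = c * (k₀ * k) := by rw [hcdef]; group
  have hτ : k₀⁻¹ * k'⁻¹ = c * (k₀⁻¹ * k⁻¹) := by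
    have := congrArg τ hkk
    rwa [map_mul, map_mul, map_mul, hτc, hτk, hτk', hτk₀] at this
  have hsq : (k₀ * k' * k₀) * (k₀ * k' * k₀) = (k₀ * k * k₀) * (k₀ * k * k₀) := by
    calc (k₀ * k' * k₀) * (k₀ * k' * k₀)
        = k₀ * ((k₀⁻¹ * k'⁻¹)⁻¹ * (k₀ * k')) * k₀ := by group
      _ = k₀ * ((c * (k₀⁻¹ * k⁻¹))⁻¹ * (c * (k₀ * k))) * k₀ := by rw [hτ, hkk]
      _ = _ := by group
  exact mul_left_cancel (mul_right_cancel (sq_inj_of_odd hS.odd_card
    (mul_mem (mul_mem hk₀.1 hk'.1) hk₀.1) (mul_mem (mul_mem hk₀.1 hk.1) hk₀.1) hsq)).symm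

theorem exists_centralizer_map {X : Set G} {e b c : Ω}
    (hXe : ∀ x ∈ X, x • e = e) (hXb : ∀ x ∈ X, x • b = b) (hXc : ∀ x ∈ X, x • c = c)
    (hb : b ≠ e) (hc : c ≠ e) :
    ∃ g ∈ Subgroup.centralizer X, g • e = e ∧ g • b = c := by
  have := pretransitive hS
  obtain ⟨g, rfl⟩ := MulAction.exists_smul_eq G a e
  have hb' : g⁻¹ • b ≠ a := fun h => hb (inv_smul_eq_iff.mp h)
  have hc' : g⁻¹ • c ≠ a := fun h => hc (inv_smul_eq_iff.mp h)
  obtain ⟨r, hr, hrbc⟩ := exists_map hS hb' hc'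
  refine ⟨g * r * g⁻¹, ?_, ?_, ?_⟩
  · rw [Subgroup.mem_centralizer_iff]
    intro x hx
    set x' := g⁻¹ * x * g with hx'
    have hx'a : x' ∈ Ga := by
      rw [hx', MulAction.mem_stabilizer_iff, mul_smul, mul_smul, hXe x hx, inv_smul_smul]
    have hxb : x'⁻¹ • g⁻¹ • b = g⁻¹ • b := by
      rw [inv_smul_eq_iff, hx', mul_smul, mul_smul, smul_inv_smul, hXb x hx]
    have hrr : x' * r * x'⁻¹ = r := by
      refine eq_of_smul hS (hS.conj_mem x' hx'a r hr) hr hb' ?_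
      rw [mul_smul, mul_smul, hxb, hrbc, hx', mul_smul, mul_smul, smul_inv_smul, hXc x hx]
    calc x * (g * r * g⁻¹) = g * (x' * r * x'⁻¹) * x' * g⁻¹ := by rw [hx']; group
      _ = g * r * g⁻¹ * x := by rw [hrr, hx']; group
  · rw [mul_smul, mul_smul, inv_smul_smul, show r • a = a from hS.le hr]
  · rw [mul_smul, mul_smul, hrbc, smul_inv_smul]

theorem centralizer_two_transitive {X : Set G}
    (h3 : ∃ b c d : Ω, b ≠ c ∧ b ≠ d ∧ c ≠ d ∧ ∀ x ∈ X, x • b = b ∧ x • c = c ∧ x • d = d)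
    {b₁ b₂ c₁ c₂ : Ω}
    (hfix : ∀ x ∈ X, x • b₁ = b₁ ∧ x • b₂ = b₂ ∧ x • c₁ = c₁ ∧ x • c₂ = c₂)
    (hb : b₁ ≠ b₂) (hc : c₁ ≠ c₂) :
    ∃ g ∈ Subgroup.centralizer X, g • b₁ = c₁ ∧ g • b₂ = c₂ := by
  obtain ⟨p, q, r, hpq, hpr, hqr, h3⟩ := h3
  obtain ⟨e, he, heb, hec⟩ : ∃ e : Ω, (∀ x ∈ X, x • e = e) ∧ e ≠ b₁ ∧ e ≠ c₁ := by
    by_cases hp : p ≠ b₁ ∧ p ≠ c₁
    · exact ⟨p, fun x hx => (h3 x hx).1, hp⟩
    by_cases hq : q ≠ b₁ ∧ q ≠ c₁
    · exact ⟨q, fun x hx => (h3 x hx).2.1, hq⟩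
    refine ⟨r, fun x hx => (h3 x hx).2.2, ?_, ?_⟩
    · rintro rfl
      have hpc : p = c₁ := by_contra fun h => hp ⟨hpr, h⟩
      have hqc : q = c₁ := by_contra fun h => hq ⟨hqr, h⟩
      exact hpq (hpc.trans hqc.symm)
    · rintro rfl
      have hpc : p = b₁ := by_contra fun h => hp ⟨h, hpr⟩
      have hqc : q = b₁ := by_contra fun h => hq ⟨h, hqr⟩
      exact hpq (hpc.trans hqc.symm)
  obtain ⟨g₁, hg₁, -, hg₁b⟩ := exists_centralizer_map hS he (fun x hx => (hfix x hx).1)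
    (fun x hx => (hfix x hx).2.2.1) heb.symm hec.symm
  have hXg : ∀ x ∈ X, x • g₁ • b₂ = g₁ • b₂ := by
    intro x hx
    rw [smul_smul, Subgroup.mem_centralizer_iff.mp hg₁ x hx, mul_smul, (hfix x hx).2.1]
  have hne : g₁ • b₂ ≠ c₁ := by
    rw [← hg₁b]
    exact fun h => hb (MulAction.injective g₁ h).symm
  obtain ⟨g₂, hg₂, hg₂c, hg₂b⟩ := exists_centralizer_map hS (fun x hx => (hfix x hx).2.2.1) hXg
    (fun x hx => (hfix x hx).2.2.2) hne hc.symm
  exact ⟨g₂ * g₁, mul_mem hg₂ hg₁, by rw [mul_smul, hg₁b, hg₂c],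
    by rw [mul_smul, hg₂b]⟩

theorem exists_swap_invol {g : G} [Finite G] (hga : g • a = t • a) (hgt : g • t • a = a) :
    ∃ w ∈ Subgroup.zpowers g, w * w = 1 ∧ w • a = t • a ∧ w • t • a = a := by
  obtain ⟨e, m, hm, hem⟩ := Nat.exists_eq_two_pow_mul_odd (orderOf_pos g).ne'
  have hpow : ∀ n : ℕ, Odd n → g ^ n • a = t • a ∧ g ^ n • t • a = a := by
    rintro n ⟨j, rfl⟩
    have h2 : g ^ (2 * j) • a = a ∧ g ^ (2 * j) • t • a = t • a := by
      induction j with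
      | zero => simp
      | succ j ih =>
        rw [show 2 * (j + 1) = 2 * j + 1 + 1 by ring, pow_succ, pow_succ]
        simp only [mul_smul, hga, hgt, ih, and_self]
    rw [pow_succ, mul_smul, mul_smul, hga, hgt]
    exact ⟨h2.2, h2.1⟩
  obtain ⟨hwa, hwt⟩ := hpow m hm
  refine ⟨g ^ m, pow_mem (Subgroup.mem_zpowers g) m, ?_, hwa, hwt⟩
  set w := g ^ m
  have hw2D : w * w ∈ DD := by
    constructor <;> show _ • _ = _
    · rw [mul_smul, hwa, hwt]
    · rw [mul_smul, hwt, hwa]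
  have hodd : Odd (orderOf (w * w)) :=
    hS.odd_card.of_dvd_nat (Subgroup.orderOf_dvd_natCard DD hw2D)
  have hdvd : orderOf (w * w) ∣ 2 ^ e := by
    refine orderOf_dvd_of_pow_eq_one ?_
    rw [← pow_two, ← pow_mul, mul_comm, pow_mul, ← pow_mul g, mul_comm, ← hem,
      pow_orderOf_eq_one, one_pow]
  obtain ⟨i, -, hi⟩ := (Nat.dvd_prime_pow Nat.prime_two).mp hdvd
  rw [hi] at hodd
  have hi0 : i = 0 := by
    by_contra hne
    exact (Nat.not_odd_iff_even.mpr ((Nat.even_pow).mpr ⟨even_two, hne⟩)) hodd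
  rwa [hi0, pow_zero, orderOf_eq_one_iff] at hi

theorem fix_a_of_subset {X : Set G} (hX : X ⊆ (DD : Set G)) :
    (∀ x ∈ X, x • a = a) ∧ ∀ x ∈ X, x • t • a = t • a :=
  ⟨fun x hx => (hX hx).1, fun x hx => (hX hx).2⟩

end Setup

end Cfsg.Lib.Linear.RankOne
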