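import Cfsg.Agent.Lib.Linear.RankOne
import Cfsg.Agent.Lib.Thompson.FixedPointFree
import Cfsg.Agent.Lib.Solv.Nilpotent

/-!
# The rank-one set-up with 2-rank at least two

The inverted elements of `D` act fixed-point-freely on `Q`, `Q` is nilpotent, the involutions of
`G_a` are central in `Q`, and `C_D(t)` controls its own fusion.
-/

set_option autoImplicit false

namespace Cfsg.Lib.Linear.RankOne

variable {G Ω : Type*} [Group G] [MulAction G Ω] {a : Ω} {t : G} {Q : Subgroup G}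
variable (hS : Cfsg.IsRankOneSetup G Ω a t Q)

local notation "Ga" => MulAction.stabilizer G a
local notation "DD" => (MulAction.stabilizer G a ⊓ MulAction.stabilizer G (t • a))
set_option quotPrecheck false in
local notation "VV" => ((MulAction.stabilizer G a ⊓ MulAction.stabilizer G (t • a)) ⊓
  Subgroup.centralizer {t})

/-- In a subgroup of odd order only the identity is conjugate to its inverse. -/
theorem eq_one_of_conj_inv {M : Type*} [Group M] {X : Subgroup M} (hodd : Odd (Nat.card X))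
    {x y : M} (hx : x ∈ X) (hy : y ∈ X) (h : y * x * y⁻¹ = x⁻¹) : x = 1 := by
  have h1 : y * x = x⁻¹ * y := by rw [← h, inv_mul_cancel_right]
  have h2 : y * x⁻¹ = x * y := by
    have h' : y * x⁻¹ * y⁻¹ = x := by
      calc y * x⁻¹ * y⁻¹ = (y * x * y⁻¹)⁻¹ := by group
        _ = x := by rw [h, inv_inv]
    calc y * x⁻¹ = y * x⁻¹ * y⁻¹ * y := by group
      _ = x * y := by rw [h']
  have hsq : Commute (y * y) x := by
    show y * y * x = x * (y * y)
    rw [mul_assoc, h1, ← mul_assoc, h2, mul_assoc]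
  have hc := (commute_of_commute_sq hodd hy hsq).eq
  refine eq_one_of_sq_of_odd hodd hx ?_
  have h3 : x * y = x⁻¹ * y := hc.symm.trans h1
  have h4 : x = x⁻¹ := mul_right_cancel h3
  nth_rewrite 2 [h4]
  exact mul_inv_cancel x

include hS

theorem conj_t_eq {v : G} (hv : v ∈ VV) : t * v * t⁻¹ = v := by
  rw [← Subgroup.mem_centralizer_singleton_iff.mp hv.2, mul_inv_cancel_right]

/-- An involution interchanging `a` and `t • a` is a conjugate of `t` by an inverted element. -/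
theorem exists_conj_t {w : G} (hw2 : w * w = 1) (hwa : w • a = t • a) (hwt : w • t • a = a) :
    ∃ h ∈ Cfsg.invertedBy DD t, w = h⁻¹ * t * h := by
  set d := t * w with hd
  have hdD : d ∈ DD := by
    constructor <;> show _ • _ = _
    · rw [hd, mul_smul, hwa, smul_smul_self hS]
    · rw [hd, mul_smul, hwt]
  have htd : t * d * t⁻¹ = d⁻¹ := by
    rw [hd, mul_inv_rev, t_inv hS, inv_eq_of_mul_eq_one_left hw2,
      show t * (t * w) * t = (t * t) * (w * t) by group, hS.mul_self, one_mul]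
  obtain ⟨n, hn⟩ := exists_sqrt_of_odd hS.odd_card hdD
  have hht : t * d ^ n * t⁻¹ = (d ^ n)⁻¹ := by rw [← conj_pow, htd, inv_pow]
  refine ⟨d ^ n, ⟨pow_mem hdD n, hht⟩, ?_⟩
  calc w = (t * t) * w := by rw [hS.mul_self, one_mul]
    _ = t * (d ^ n * d ^ n) := by rw [hn, hd, mul_assoc]
    _ = (t * d ^ n * t⁻¹) * t * d ^ n := by group
    _ = (d ^ n)⁻¹ * t * d ^ n := by rw [hht]

theorem conj_into_V [Finite G] {x : G} (hx : x ∈ DD) {b : Ω} (hba : b ≠ a) (hbt : b ≠ t • a)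
    (hxb : x • b = b) : ∃ k ∈ DD, k * x * k⁻¹ ∈ VV := by
  have hne := smul_ne hS
  have hxa : x • a = a := hx.1
  have hxt : x • t • a = t • a := hx.2
  have h3 : ∃ b₁ c d : Ω, b₁ ≠ c ∧ b₁ ≠ d ∧ c ≠ d ∧
      ∀ y ∈ ({x} : Set G), y • b₁ = b₁ ∧ y • c = c ∧ y • d = d :=
    ⟨a, t • a, b, hne.symm, hba.symm, hbt.symm, fun y hy => by
      rw [Set.mem_singleton_iff] at hy; subst hy; exact ⟨hxa, hxt, hxb⟩⟩
  obtain ⟨g, hg, hga, hgt⟩ := centralizer_two_transitive hS h3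
    (b₁ := a) (b₂ := t • a) (c₁ := t • a) (c₂ := a)
    (fun y hy => by
      rw [Set.mem_singleton_iff] at hy; subst hy; exact ⟨hxa, hxt, hxt, hxa⟩) hne.symm hne
  obtain ⟨w, hw, hw2, hwa, hwt⟩ := exists_swap_invol hS hga hgt
  have hwC : w ∈ Subgroup.centralizer {x} := (Subgroup.zpowers_le.mpr hg) hw
  obtain ⟨h, hh, hwh⟩ := exists_conj_t hS hw2 hwa hwt
  refine ⟨h, hh.1, Subgroup.mul_mem DD (Subgroup.mul_mem DD hh.1 hx) (Subgroup.inv_mem DD hh.1),
    Subgroup.mem_centralizer_singleton_iff.mpr ?_⟩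
  have hxw : x * w = w * x := (Subgroup.mem_centralizer_singleton_iff.mp hwC).symm
  rw [hwh] at hxw
  calc h * x * h⁻¹ * t = h * (x * (h⁻¹ * t * h)) * h⁻¹ := by group
    _ = h * (h⁻¹ * t * h * x) * h⁻¹ := by rw [hxw]
    _ = t * (h * x * h⁻¹) := by group

/-- A non-identity inverted element of `D` fixes only `a` and `t • a`. -/
theorem inverted_fix [Finite G] {x : G} (hx : x ∈ Cfsg.invertedBy DD t) (hx1 : x ≠ 1) {b : Ω}
    (hb : x • b = b) : b = a ∨ b = t • a := by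
  by_contra hcon
  rw [not_or] at hcon
  obtain ⟨k, hk, hkV⟩ := conj_into_V hS hx.1 hcon.1 hcon.2 hb
  obtain ⟨v, hvdef⟩ : ∃ v, v = k * x * k⁻¹ := ⟨_, rfl⟩
  rw [← hvdef] at hkV
  have hkD : t * k * t⁻¹ ∈ DD := conj_inv_mem_D hS hk
  have h2 : t * (k⁻¹ * v * k) * t⁻¹ = (k⁻¹ * v * k)⁻¹ := by
    rw [show k⁻¹ * v * k = x by rw [hvdef]; group]; exact hx.2
  have h3 : (k * (t * k * t⁻¹)⁻¹) * v * (k * (t * k * t⁻¹)⁻¹)⁻¹ = v⁻¹ := by
    calc (k * (t * k * t⁻¹)⁻¹) * v * (k * (t * k * t⁻¹)⁻¹)⁻¹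
        = (k * (t * k * t⁻¹)⁻¹) * (t * v * t⁻¹) * (k * (t * k * t⁻¹)⁻¹)⁻¹ := by
          rw [conj_t_eq hS hkV]
      _ = k * (t * (k⁻¹ * v * k) * t⁻¹) * k⁻¹ := by group
      _ = v⁻¹ := by rw [h2]; group
  have hv1 := eq_one_of_conj_inv hS.odd_card hkV.1 (mul_mem hk (inv_mem hkD)) h3
  refine hx1 ?_
  calc x = k⁻¹ * v * k := by rw [hvdef]; group
    _ = 1 := by rw [hv1]; group

/-- A non-identity inverted element of `D` acts fixed-point-freely on `Q`. -/
theorem inverted_fpf [Finite G] {x : G} (hx : x ∈ Cfsg.invertedBy DD t) (hx1 : x ≠ 1) :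
    Q ⊓ Subgroup.centralizer {x} = ⊥ := by
  refine (Subgroup.eq_bot_iff_forall _).mpr fun q hq => ?_
  by_contra hq1
  have hxt : x • t • a = t • a := hx.1.2
  have hb : x • q • t • a = q • t • a := by
    rw [smul_smul, ← Subgroup.mem_centralizer_singleton_iff.mp hq.2, mul_smul, hxt]
  rcases inverted_fix hS hx hx1 hb with h | h
  · exact smul_ne_of_ne hS hq.1 (smul_ne hS) h
  · exact hq1 (eq_one_of_fix_ta hS hq.1 h)

/-- With two commuting involutions, `G_a` has two involutions. -/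
theorem exists_two_invol [Finite G]
    (h2 : ∃ x y : G, x ≠ 1 ∧ y ≠ 1 ∧ x ≠ y ∧ x * x = 1 ∧ y * y = 1 ∧ x * y = y * x) :
    ∃ s ∈ Cfsg.involutionsIn (Ga : Set G), ∃ s' ∈ Cfsg.involutionsIn (Ga : Set G), s ≠ s' := by
  obtain ⟨x, y, hx1, hy1, hxy, hx2, hy2, hc⟩ := h2
  obtain ⟨b, hb, -⟩ := invol_fix hS hx1 hx2
  have hyb := fix_of_commute hS hx1 hx2 hc hb
  have := pretransitive hS
  obtain ⟨g, hg⟩ := MulAction.exists_smul_eq G b a
  have key : ∀ u : G, u ≠ 1 → u * u = 1 → u • b = b →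
      g * u * g⁻¹ ∈ Cfsg.involutionsIn (Ga : Set G) := by
    intro u hu1 hu2 hub
    refine ⟨?_, fun h => hu1 (conj_eq_one_iff.mp h), ?_⟩
    · rw [SetLike.mem_coe, MulAction.mem_stabilizer_iff, mul_smul, mul_smul,
        ← hg, inv_smul_smul, hub]
    · rw [show g * u * g⁻¹ * (g * u * g⁻¹) = g * (u * u) * g⁻¹ by group, hu2]; group
  exact ⟨_, key x hx1 hx2 hb, _, key y hy1 hy2 hyb,
    fun h => hxy (mul_left_cancel (mul_right_cancel h))⟩

theorem exists_inverted_ne_one [Finite G]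
    (h2 : ∃ x y : G, x ≠ 1 ∧ y ≠ 1 ∧ x ≠ y ∧ x * x = 1 ∧ y * y = 1 ∧ x * y = y * x) :
    ∃ k ∈ Cfsg.invertedBy DD t, k ≠ 1 := by
  obtain ⟨s, hs, s', hs', hne⟩ := exists_two_invol hS h2
  obtain ⟨k, hk, rfl⟩ := inverted_transitive hS hs hs'
  exact ⟨k, hk, fun h => hne (by rw [h]; group)⟩

theorem isNilpotent [Finite G]
    (h2 : ∃ x y : G, x ≠ 1 ∧ y ≠ 1 ∧ x ≠ y ∧ x * x = 1 ∧ y * y = 1 ∧ x * y = y * x) :
    Group.IsNilpotent Q := by
  obtain ⟨k, hk, hk1⟩ := exists_inverted_ne_one hS h2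
  obtain ⟨p, hp, hdvd⟩ := Nat.exists_prime_and_dvd (fun h => hk1 (orderOf_eq_one_iff.mp h) : orderOf k ≠ 1)
  set u := k ^ (orderOf k / p) with hu
  have hou : orderOf u = p := by
    rw [hu]; exact orderOf_pow_orderOf_div (orderOf_pos k).ne' hdvd
  have hu1 : u ≠ 1 := fun h => hp.ne_one (by rw [← hou, h, orderOf_one])
  have huK : u ∈ Cfsg.invertedBy DD t :=
    ⟨pow_mem hk.1 _, by rw [hu, ← conj_pow, hk.2, inv_pow]⟩
  have huGa : u ∈ Ga := huK.1.1
  let φ : Q ≃* Q :=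
    { toFun := fun q => ⟨u * q * u⁻¹, hS.conj_mem u huGa q q.2⟩
      invFun := fun q => ⟨u⁻¹ * q * u⁻¹⁻¹, hS.conj_mem u⁻¹ (inv_mem huGa) q q.2⟩
      left_inv := fun q => Subtype.ext (by simp [mul_assoc])
      right_inv := fun q => Subtype.ext (by simp [mul_assoc])
      map_mul' := fun q r => Subtype.ext (by simp [mul_assoc]) }
  have hval : ∀ q : Q, ((φ q : Q) : G) = u * q * u⁻¹ := fun _ => rfl
  refine Cfsg.Lib.Thompson.isNilpotent_of_fpf hp φ (fun q hq => ?_) (funext fun q => Subtype.ext ?_)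
  · refine Subtype.ext (Subgroup.mem_bot.mp ((inverted_fpf hS huK hu1).le
      (Subgroup.mem_inf.mpr ⟨q.2, Subgroup.mem_centralizer_singleton_iff.mpr ?_⟩)))
    exact (mul_inv_eq_iff_eq_mul.mp ((hval q).symm.trans (congrArg Subtype.val hq))).symm
  · have hit : ∀ (n : ℕ) (b : Q),
        (((φ : Q → Q)^[n] b : Q) : G) = u ^ n * b * (u ^ n)⁻¹ := by
      intro n
      induction n with
      | zero => intro b; simp
      | succ n ih =>
        intro b
        rw [Function.iterate_succ', Function.comp_apply, hval, ih, pow_succ']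
        group
    rw [hit, ← hou, pow_orderOf_eq_one]
    simp

/-- The involutions of `G_a` are central in `Q`. -/
theorem invol_central [Finite G]
    (h2 : ∃ x y : G, x ≠ 1 ∧ y ≠ 1 ∧ x ≠ y ∧ x * x = 1 ∧ y * y = 1 ∧ x * y = y * x)
    {s : G} (hs : s ∈ Cfsg.involutionsIn (Ga : Set G)) {x : G} (hx : x ∈ Q) : s * x = x * s := by
  have := isNilpotent hS h2
  have hN := (Group.isNilpotent_of_finite_tfae (G := Q)).out 0 3
  let P : Sylow 2 Q := default
  have hPn : (P : Subgroup Q).Normal := (hN.mp this) 2 ⟨Nat.prime_two⟩ P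
  have hP1 : (P : Subgroup Q) ≠ ⊥ := P.ne_bot_of_dvd_card hS.even_card.two_dvd
  obtain ⟨z, hz, hz1⟩ := (Subgroup.bot_or_exists_ne_one _).resolve_left
    (Cfsg.Lib.Solv.inf_center_ne_bot_of_isNilpotent (G := Q) hP1)
  have hdvd : 2 ∣ orderOf z := by
    have hpg := P.isPGroup'.exists_orderOf_eq_pow ⟨z, hz.1⟩
    obtain ⟨i, hi⟩ := hpg
    rw [← Subgroup.orderOf_coe] at hi
    simp only at hi
    rcases i with _ | i
    · exact absurd (orderOf_eq_one_iff.mp (by simpa using hi)) hz1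
    · rw [hi]; exact dvd_pow_self 2 (Nat.succ_ne_zero i)
  set w := z ^ (orderOf z / 2) with hw
  have how : orderOf w = 2 := orderOf_pow_orderOf_div (orderOf_pos z).ne' hdvd
  have hwI : (w : G) ∈ Cfsg.involutionsIn (Ga : Set G) := by
    refine ⟨hS.le w.2, fun h => Cfsg.Lib.Invol.ne_one how (Subtype.ext h), ?_⟩
    exact congrArg Subtype.val (Cfsg.Lib.Invol.inv_mul_self how)
  have hwc : w ∈ Subgroup.center Q := pow_mem hz.2 _
  obtain ⟨k, hk, rfl⟩ := inverted_transitive hS hwI hs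
  have h := congrArg Subtype.val
    (Subgroup.mem_center_iff.mp hwc ⟨k * x * k⁻¹, hS.conj_mem k hk.1.1 x hx⟩)
  simp only [Subgroup.coe_mul] at h
  calc k⁻¹ * (w : G) * k * x = k⁻¹ * ((w : G) * (k * x * k⁻¹)) * k := by group
    _ = k⁻¹ * (k * x * k⁻¹ * (w : G)) * k := by rw [h]
    _ = x * (k⁻¹ * (w : G) * k) := by group

theorem invol_mul_mem [Finite G]
    (h2 : ∃ x y : G, x ≠ 1 ∧ y ≠ 1 ∧ x ≠ y ∧ x * x = 1 ∧ y * y = 1 ∧ x * y = y * x)
    {s s' : G} (hs : s ∈ Cfsg.involutionsIn (Ga : Set G))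
    (hs' : s' ∈ Cfsg.involutionsIn (Ga : Set G)) :
    s * s' = 1 ∨ s * s' ∈ Cfsg.involutionsIn (Ga : Set G) := by
  by_cases h : s * s' = 1
  · exact Or.inl h
  refine Or.inr ⟨mul_mem hs.1 hs'.1, h, ?_⟩
  have hc := invol_central hS h2 hs' (invol_mem hS hs.1 hs.2.2)
  calc s * s' * (s * s') = s * (s' * s) * s' := by group
    _ = s * (s * s') * s' := by rw [hc]
    _ = s * s * (s' * s') := by group
    _ = 1 := by rw [hs.2.2, hs'.2.2, one_mul]

/-- A subset of `C_D(t)` fixes at least three points. -/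
theorem three_fixed [Finite G] {X : Set G} (hX : X ⊆ (VV : Set G)) :
    ∃ b c d : Ω, b ≠ c ∧ b ≠ d ∧ c ≠ d ∧ ∀ x ∈ X, x • b = b ∧ x • c = c ∧ x • d = d := by
  obtain ⟨⟨s₀, r₀⟩, ⟨hs₀, hr₀, heq⟩, -⟩ := exists_unique_equation hS
  simp only at hs₀ hr₀ heq
  have hC := centralizer_eq hS hs₀ hr₀ heq
  have hsQ : s₀ ∈ Q := invol_mem hS hs₀.1 hs₀.2.2
  refine ⟨a, t • a, s₀ • t • a, (smul_ne hS).symm, (smul_ne_of_ne hS hsQ (smul_ne hS)).symm,
    fun h => hs₀.2.1 (eq_one_of_fix_ta hS hsQ h.symm), fun x hx => ?_⟩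
  have hxV : x ∈ VV := hX hx
  refine ⟨hxV.1.1, hxV.1.2, ?_⟩
  rw [hC] at hxV
  rw [smul_smul, Subgroup.mem_centralizer_singleton_iff.mp hxV.2, mul_smul,
    show x • t • a = t • a from hxV.1.2]

/-- `C_D(t)` controls fusion of its subsets. -/
theorem fusion [Finite G] {X : Set G} (hX : X ⊆ (VV : Set G)) {g : G}
    (hY : (fun x => g * x * g⁻¹) '' X ⊆ (VV : Set G)) :
    ∃ v ∈ VV, ∀ x ∈ X, v * x * v⁻¹ = g * x * g⁻¹ := by
  set Y := (fun x => g * x * g⁻¹) '' X with hYdef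
  have hfixg : ∀ y ∈ Y, ∀ b : Ω, (∀ x ∈ X, x • b = b) → y • g • b = g • b := by
    rintro _ ⟨x, hx, rfl⟩ b hb
    simp only
    rw [mul_smul, mul_smul, inv_smul_smul, hb x hx]
  obtain ⟨c, hc, hca, hct⟩ := centralizer_two_transitive hS (three_fixed hS hY)
    (b₁ := g • a) (b₂ := g • t • a) (c₁ := a) (c₂ := t • a)
    (fun y hy => ⟨hfixg y hy a (fun x hx => (hX hx).1.1),
      hfixg y hy (t • a) (fun x hx => (hX hx).1.2), (hY hy).1.1, (hY hy).1.2⟩)
    (fun h => (smul_ne hS).symm (MulAction.injective g h)) (smul_ne hS).symm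
  have hd : c * g ∈ DD := ⟨show (c * g) • a = a by rw [mul_smul, hca],
    show (c * g) • t • a = t • a by rw [mul_smul, hct]⟩
  obtain ⟨⟨v, k⟩, ⟨hv, hk, hvk⟩, -⟩ :=
    odd_factorization hS.mul_self hS.odd_card (fun x hx => conj_inv_mem_D hS hx) hd
  simp only at hv hk hvk
  refine ⟨v, hv, fun x hx => ?_⟩
  have hy : (c * g) * x * (c * g)⁻¹ = g * x * g⁻¹ := by
    have := Subgroup.mem_centralizer_iff.mp hc _ ⟨x, hx, rfl⟩
    calc (c * g) * x * (c * g)⁻¹ = c * (g * x * g⁻¹) * c⁻¹ := by group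
      _ = g * x * g⁻¹ := by rw [← this]; group
  rw [hvk] at hy
  have hyV : k * x * k⁻¹ ∈ VV := by
    rw [show k * x * k⁻¹ = v⁻¹ * (v * k * x * (v * k)⁻¹) * v by group, hy]
    exact mul_mem (mul_mem (inv_mem hv) (hY ⟨x, hx, rfl⟩)) hv
  have hinv : k⁻¹ * x * k = k * x * k⁻¹ := by
    calc k⁻¹ * x * k = (t * k * t⁻¹) * (t * x * t⁻¹) * (t * k * t⁻¹)⁻¹ := by
          rw [conj_t_eq hS (hX hx), hk.2, inv_inv]
      _ = t * (k * x * k⁻¹) * t⁻¹ := by group
      _ = k * x * k⁻¹ := conj_t_eq hS hyV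
  have hkx : k * x = x * k := by
    refine (commute_of_commute_sq hS.odd_card hk.1 ?_).eq
    show k * k * x = x * (k * k)
    calc k * k * x = k * (k * x * k⁻¹) * k := by group
      _ = k * (k⁻¹ * x * k) * k := by rw [hinv]
      _ = x * (k * k) := by group
  rw [← hy, show v * k * x * (v * k)⁻¹ = v * (k * x) * k⁻¹ * v⁻¹ by group, hkx]
  group

/-- A strongly real element that is not an involution is conjugate to `u' t` and has a centraliser
of odd order. -/
theorem strongly_real [Finite G]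
    (h2 : ∃ x y : G, x ≠ 1 ∧ y ≠ 1 ∧ x ≠ y ∧ x * x = 1 ∧ y * y = 1 ∧ x * y = y * x)
    {u v : G} (hu1 : u ≠ 1) (hu2 : u * u = 1) (hv1 : v ≠ 1) (hv2 : v * v = 1)
    (hx : (u * v) * (u * v) ≠ 1) :
    (∃ g : G, ∃ u' ∈ Cfsg.involutionsIn (Ga : Set G), g * (u * v) * g⁻¹ = u' * t) ∧
      Odd (Nat.card ↥(Subgroup.centralizer {u * v})) := by
  have hpt := pretransitive hS
  have hne : ∀ b : Ω, u • b = b → v • b ≠ b := by
    intro b hub hvb
    obtain ⟨g, hg⟩ := MulAction.exists_smul_eq G b a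
    have key : ∀ w : G, w ≠ 1 → w * w = 1 → w • b = b →
        g * w * g⁻¹ ∈ Cfsg.involutionsIn (Ga : Set G) := by
      intro w hw1 hw2 hwb
      refine ⟨?_, fun h => hw1 (conj_eq_one_iff.mp h), ?_⟩
      · rw [SetLike.mem_coe, MulAction.mem_stabilizer_iff, mul_smul, mul_smul,
          ← hg, inv_smul_smul, hwb]
      · rw [show g * w * g⁻¹ * (g * w * g⁻¹) = g * (w * w) * g⁻¹ by group, hw2]; group
    have hv' := key v hv1 hv2 hvb
    have hc := invol_central hS h2 (key u hu1 hu2 hub) (invol_mem hS hv'.1 hv'.2.2)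
    have huv : u * v = v * u := by
      calc u * v = g⁻¹ * (g * u * g⁻¹ * (g * v * g⁻¹)) * g := by group
        _ = g⁻¹ * (g * v * g⁻¹ * (g * u * g⁻¹)) * g := by rw [hc]
        _ = v * u := by group
    refine hx ?_
    calc u * v * (u * v) = u * v * (v * u) := by rw [← huv]
      _ = u * (v * v) * u := by group
      _ = 1 := by rw [hv2, mul_one, hu2]
  obtain ⟨b, hb, -⟩ := invol_fix hS hu1 hu2
  constructor
  · obtain ⟨g₁, hg₁⟩ := MulAction.exists_smul_eq G b a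
    have hc : (g₁ * v * g₁⁻¹) • a ≠ a := by
      rw [mul_smul, mul_smul, ← hg₁, inv_smul_smul]
      exact fun h => hne b hb (MulAction.injective g₁ h)
    obtain ⟨q, hq, hqc⟩ := exists_map hS hc (smul_ne hS)
    set g₂ := q * g₁ with hg₂
    have hg₂b : g₂ • b = a := by rw [hg₂, mul_smul, hg₁]; exact hS.le hq
    set w := g₂ * v * g₂⁻¹ with hwdef
    have hww : w * w = 1 := by
      rw [hwdef, show g₂ * v * g₂⁻¹ * (g₂ * v * g₂⁻¹) = g₂ * (v * v) * g₂⁻¹ by group, hv2]; group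
    have hb₁ : g₁⁻¹ • a = b := by rw [inv_smul_eq_iff, hg₁]
    have hb₂ : g₂⁻¹ • a = b := by rw [inv_smul_eq_iff, hg₂b]
    have hwa : w • a = t • a := by
      rw [← hqc, hwdef]
      simp only [mul_smul, hb₁, hb₂]
      rw [hg₂, mul_smul]
    have hwt : w • t • a = a := by rw [← hwa, smul_smul, hww, one_smul]
    obtain ⟨h, hh, hwh⟩ := exists_conj_t hS hww hwa hwt
    refine ⟨h * g₂, (h * g₂) * u * (h * g₂)⁻¹, ⟨?_, fun e => hu1 (conj_eq_one_iff.mp e), ?_⟩, ?_⟩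
    · have hha : h • a = a := hh.1.1
      have hhi : h⁻¹ • a = a := by rw [inv_smul_eq_iff, hha]
      rw [SetLike.mem_coe, MulAction.mem_stabilizer_iff]
      calc (h * g₂ * u * (h * g₂)⁻¹) • a = h • g₂ • u • g₂⁻¹ • h⁻¹ • a := by
            simp only [_root_.mul_inv_rev, mul_smul]
        _ = a := by rw [hhi, hb₂, hb, hg₂b, hha]
    · rw [show h * g₂ * u * (h * g₂)⁻¹ * (h * g₂ * u * (h * g₂)⁻¹) =
        h * g₂ * (u * u) * (h * g₂)⁻¹ by group, hu2]; group
    · calc h * g₂ * (u * v) * (h * g₂)⁻¹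
          = h * g₂ * u * (h * g₂)⁻¹ * (h * w * h⁻¹) := by rw [hwdef]; group
        _ = h * g₂ * u * (h * g₂)⁻¹ * t := by rw [hwh]; group
  · rw [← Nat.not_even_iff_odd]
    intro heven
    obtain ⟨⟨w, hw⟩, ho⟩ := exists_prime_orderOf_dvd_card'
      (G := Subgroup.centralizer {u * v}) 2 heven.two_dvd
    rw [← Subgroup.orderOf_coe] at ho
    have hw1 : w ≠ 1 := Cfsg.Lib.Invol.ne_one ho
    have hw2 : w * w = 1 := Cfsg.Lib.Invol.inv_mul_self ho
    have hwx : w * (u * v) = (u * v) * w := Subgroup.mem_centralizer_singleton_iff.mp hw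
    set x := u * v with hxdef
    obtain ⟨e, he, huniq⟩ := invol_fix hS hw1 hw2
    simp only at he huniq
    have hxe : x • e = e := fix_of_commute hS hw1 hw2 hwx he
    have hux : u * x = x⁻¹ * u := by
      rw [hxdef, mul_inv_rev, inv_eq_of_mul_eq_one_left hu2, inv_eq_of_mul_eq_one_left hv2,
        ← mul_assoc, hu2, one_mul, mul_assoc, hu2, mul_one]
    have hxi : x * u = u * x⁻¹ := by
      rw [hxdef, mul_inv_rev, inv_eq_of_mul_eq_one_left hu2, inv_eq_of_mul_eq_one_left hv2,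
        mul_assoc]
    have hxie : x⁻¹ • e = e := by rw [inv_smul_eq_iff, hxe]
    have hxu : x • u • e = u • e := by rw [smul_smul, hxi, mul_smul, hxie]
    have hue : u • e ≠ e := by
      intro h
      refine hne e h ?_
      rw [show v = u * x by rw [hxdef, ← mul_assoc, hu2, one_mul], mul_smul, hxe, h]
    have hwue : w • u • e ≠ u • e := fun h => hue (huniq _ h)
    have hwue' : w • u • e ≠ e := fun h => hue (MulAction.injective w (h.trans he.symm))
    obtain ⟨g, hga, hgt⟩ := exists_pair hS hue.symm (smul_ne hS).symm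
    have hgi : g⁻¹ • a = e := by rw [inv_smul_eq_iff, hga]
    have hgit : g⁻¹ • t • a = u • e := by rw [inv_smul_eq_iff, hgt]
    have hxD : g * x * g⁻¹ ∈ DD :=
      ⟨show (g * x * g⁻¹) • a = a by rw [mul_smul, mul_smul, hgi, hxe, hga],
        show (g * x * g⁻¹) • t • a = t • a by rw [mul_smul, mul_smul, hgit, hxu, hgt]⟩
    have hxb : (g * x * g⁻¹) • g • w • u • e = g • w • u • e := by
      rw [mul_smul, mul_smul, inv_smul_smul]
      congr 1
      rw [smul_smul, ← hwx, mul_smul, hxu]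
    obtain ⟨k, -, hkV⟩ := conj_into_V hS hxD
      (fun h => hwue' (MulAction.injective g (h.trans hga.symm)))
      (fun h => hwue (MulAction.injective g (h.trans hgt.symm))) hxb
    obtain ⟨y, hydef⟩ : ∃ y, y = k * (g * x * g⁻¹) * k⁻¹ := ⟨_, rfl⟩
    rw [← hydef] at hkV
    have hgu : (k * g * u * (k * g)⁻¹) * y * (k * g * u * (k * g)⁻¹)⁻¹ = y⁻¹ := by
      calc (k * g * u * (k * g)⁻¹) * y * (k * g * u * (k * g)⁻¹)⁻¹
          = k * g * (u * x * u⁻¹) * (k * g)⁻¹ := by rw [hydef]; group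
        _ = k * g * x⁻¹ * (k * g)⁻¹ := by rw [hux, mul_inv_cancel_right]
        _ = y⁻¹ := by rw [hydef]; group
    obtain ⟨z, hz, hzy⟩ := fusion hS (X := {y}) (Set.singleton_subset_iff.mpr hkV)
      (g := k * g * u * (k * g)⁻¹) (by
        rw [Set.image_singleton, Set.singleton_subset_iff, hgu]; exact inv_mem hkV)
    have hy1 := eq_one_of_conj_inv hS.odd_card hkV.1 hz.1 ((hzy y rfl).trans hgu)
    have hx1 : x = 1 := by
      calc x = (k * g)⁻¹ * y * (k * g) := by rw [hydef]; group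
        _ = 1 := by rw [hy1]; group
    exact hx (by rw [hx1, mul_one])

end Cfsg.Lib.Linear.RankOne
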