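import Cfsg.Agent.Lib.Linear.MinIndexPSL

/-!
# `SL_n(q)` is generated by three conjugate regular unipotent elements

A subgroup containing a transvection, the upper regular unipotent element and a lower one contains
all transvections with the last axis, as soon as the transvection has a suitable parameter.
-/

set_option autoImplicit false

namespace Cfsg.Lib.Linear.RegUnipotentGen

open Matrix Cfsg.Lib.Linear Cfsg.Lib.Linear.TVec Cfsg.Lib.Linear.AutPSL Cfsg.Lib.Linear.MinIndex
open scoped MatrixGroups

variable {n : ℕ} {F : Type*} [Field F]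

/-- Basis vectors indexed by naturals. -/
def bas (k : ℕ) : Fin n → F := fun i => if i.val = k then 1 else 0

theorem dot_bas (a : Fin n → F) {k : ℕ} (hk : k < n) : a ⬝ᵥ bas k = a ⟨k, hk⟩ := by
  rw [dotProduct, Finset.sum_eq_single ⟨k, hk⟩]
  · simp [bas]
  · intro i _ hi
    simp [bas, show i.val ≠ k from fun h => hi (Fin.ext h)]
  · simp

theorem bas_eq_single {k : ℕ} (hk : k < n) : (bas k : Fin n → F) = Pi.single ⟨k, hk⟩ 1 := by
  funext i
  simp [bas, Pi.single_apply, Fin.ext_iff]

theorem sum_bas (z : Fin n → F) : z = ∑ i : Fin n, z i • bas i.val := by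
  funext j
  rw [Finset.sum_apply, Finset.sum_eq_single j]
  · simp [bas]
  · intro i _ hi
    simp [bas, Fin.val_ne_of_ne (Ne.symm hi)]
  · simp

/-- The shift. -/
def shift (n : ℕ) (F : Type*) [Field F] : Matrix (Fin n) (Fin n) F :=
  Matrix.of fun i j => if j.val = i.val + 1 then 1 else 0

theorem shift_mulVec_succ {k : ℕ} (hk : k + 1 < n) : shift n F *ᵥ bas (k + 1) = bas k := by
  funext i
  rw [mulVec, dot_bas _ hk]
  simp [shift, bas, eq_comm]

theorem shift_mulVec_zero (hn : 0 < n) : shift n F *ᵥ bas 0 = 0 := by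
  funext i
  rw [mulVec, dot_bas _ hn]
  simp [shift]

theorem shift_pow_mulVec {k j : ℕ} (hk : k < n) (hj : j ≤ k) : (shift n F ^ j) *ᵥ bas k = bas (k - j) := by
  induction j with
  | zero => simp
  | succ j ih =>
    rw [pow_succ', ← mulVec_mulVec, ih (by omega), show k - j = (k - (j + 1)) + 1 by omega,
      shift_mulVec_succ (by omega)]

theorem shift_pow_eq_zero : shift n F ^ n = 0 := by
  refine ext_of_mulVec_single fun i => ?_
  rw [← bas_eq_single i.isLt, zero_mulVec, ← pow_sub_mul_pow (shift n F) (Nat.succ_le_of_lt i.isLt), pow_succ',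
    ← mulVec_mulVec, ← mulVec_mulVec, shift_pow_mulVec i.isLt le_rfl, Nat.sub_self,
    shift_mulVec_zero i.pos, mulVec_zero]

theorem shift_pow_ne_zero (hn : 0 < n) : shift n F ^ (n - 1) ≠ 0 := fun h => by
  have h1 := congrArg (fun M => M *ᵥ (bas (n - 1) : Fin n → F)) h
  simp only [zero_mulVec, shift_pow_mulVec (show n - 1 < n by omega) le_rfl, Nat.sub_self] at h1
  simpa [bas] using congrFun h1 ⟨0, hn⟩

theorem det_one_add_shift : (1 + shift n F).det = 1 := by
  rw [Matrix.det_of_upperTriangular]
  · refine Finset.prod_eq_one fun i _ => ?_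
    simp [shift]
  · intro i j hij
    have h : j.val < i.val := hij
    simp [shift, Matrix.one_apply, Fin.ext_iff, show ¬ i.val = j.val by omega, show ¬ j.val = i.val + 1 by omega]

/-- The upper regular unipotent element. -/
def regU (n : ℕ) (F : Type*) [Field F] : SpecialLinearGroup (Fin n) F := ⟨1 + shift n F, det_one_add_shift⟩

theorem regU_succ {k : ℕ} (hk : k + 1 < n) : (regU n F).1 *ᵥ bas (k + 1) = bas (k + 1) + bas k := by
  show (1 + shift n F) *ᵥ _ = _
  rw [add_mulVec, one_mulVec, shift_mulVec_succ hk]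

theorem regU_zero (hn : 0 < n) : (regU n F).1 *ᵥ bas 0 = bas 0 := by
  show (1 + shift n F) *ᵥ _ = _
  rw [add_mulVec, one_mulVec, shift_mulVec_zero hn, add_zero]

theorem exists_antidiag (hn : 2 ≤ n) :
    ∃ (g : SpecialLinearGroup (Fin n) F) (d : ℕ → F), (∀ k, d k ≠ 0) ∧
      ∀ k, k < n → g.1 *ᵥ bas k = d k • bas (n - 1 - k) := by
  set π : Matrix (Fin n) (Fin n) F := Matrix.of fun i j => if i.val + j.val + 1 = n then 1 else 0
  have hπ : π = (Fin.revPerm : Equiv.Perm (Fin n)).permMatrix F := by
    ext i j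
    simp only [π, Matrix.of_apply, Equiv.Perm.permMatrix, PEquiv.toMatrix_apply, Equiv.toPEquiv_apply,
      Option.mem_some_iff, Fin.revPerm_apply, Fin.ext_iff, Fin.val_rev]
    exact if_congr ⟨fun h => by omega, fun h => by omega⟩ rfl rfl
  have hdet : π.det ≠ 0 := by
    rw [hπ, Matrix.det_permutation]
    rcases Int.units_eq_one_or (Equiv.Perm.sign (Fin.revPerm : Equiv.Perm (Fin n))) with h | h <;> simp [h]
  let d : ℕ → F := fun k => if k = 0 then π.det⁻¹ else 1
  refine ⟨⟨π * diagonal fun i => d i.val, ?_⟩, d, fun k => ?_, fun k hk => ?_⟩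
  · rw [det_mul, det_diagonal, Finset.prod_eq_single ⟨0, by omega⟩]
    · simp [d, hdet]
    · intro i _ hi
      simp [d, show i.val ≠ 0 from fun h => hi (Fin.ext h)]
    · simp
  · show (if k = 0 then π.det⁻¹ else 1) ≠ 0
    split <;> simp [hdet]
  · show (π * diagonal fun i => d i.val) *ᵥ bas k = _
    funext i
    rw [mulVec, dot_bas _ hk, mul_diagonal, Pi.smul_apply, smul_eq_mul]
    simp only [π, Matrix.of_apply, bas]
    rw [mul_comm]
    congr 1
    exact if_congr ⟨fun h => by omega, fun h => by omega⟩ rfl rfl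

/-- A conjugate of the upper regular unipotent element that is lower triangular. -/
theorem exists_lower (hn : 2 ≤ n) :
    ∃ (g : SpecialLinearGroup (Fin n) F) (lam : ℕ → F), (∀ k, lam k ≠ 0) ∧
      (∀ k, k + 1 < n → (g * regU n F * g⁻¹).1 *ᵥ bas k = bas k + lam k • bas (k + 1)) ∧
      (g * regU n F * g⁻¹).1 *ᵥ bas (n - 1) = bas (n - 1) := by
  obtain ⟨g, d, hd, hg⟩ := exists_antidiag (F := F) hn
  refine ⟨g, fun k => d (n - 1 - (k + 1)) / d (n - 1 - k), fun k => div_ne_zero (hd _) (hd _), ?_, ?_⟩
  · intro k hk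
    have h1 := hg (n - 1 - k) (by omega)
    rw [show n - 1 - (n - 1 - k) = k by omega] at h1
    have h2 : (g⁻¹).1 *ᵥ bas k = (d (n - 1 - k))⁻¹ • bas (n - 1 - k) := by
      conv_rhs => rw [← inv_mulVec g (bas (n - 1 - k)), h1, mulVec_smul, smul_smul, inv_mul_cancel₀ (hd _), one_smul]
    show (g.1 * (regU n F).1 * (g⁻¹).1) *ᵥ bas k = _
    rw [← mulVec_mulVec, ← mulVec_mulVec, h2, mulVec_smul, show n - 1 - k = (n - 1 - (k + 1)) + 1 by omega,
      regU_succ (by omega), mulVec_smul, mulVec_add, hg _ (by omega), hg _ (by omega),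
      show n - 1 - (n - 1 - (k + 1) + 1) = k by omega, show n - 1 - (n - 1 - (k + 1)) = k + 1 by omega,
      smul_add, smul_smul, smul_smul, inv_mul_cancel₀ (hd _), one_smul]
    congr 2
    show _ = d (n - 1 - (k + 1)) / d (n - 1 - k)
    rw [show n - 1 - k = n - 1 - (k + 1) + 1 by omega, div_eq_inv_mul]
  · have h1 := hg 0 (by omega)
    rw [Nat.sub_zero] at h1
    have h2 : (g⁻¹).1 *ᵥ bas (n - 1) = (d 0)⁻¹ • bas 0 := by
      conv_rhs => rw [← inv_mulVec g (bas 0), h1, mulVec_smul, smul_smul, inv_mul_cancel₀ (hd _), one_smul]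
    show (g.1 * (regU n F).1 * (g⁻¹).1) *ᵥ bas (n - 1) = _
    rw [← mulVec_mulVec, ← mulVec_mulVec, h2, mulVec_smul, regU_zero (by omega), mulVec_smul, h1, smul_smul,
      inv_mul_cancel₀ (hd _), one_smul]

theorem exists_three [Fintype F] (hn : 3 ≤ n) :
    ∃ g h : SpecialLinearGroup (Fin n) F,
      Subgroup.closure ({regU n F, g * regU n F * g⁻¹, h * regU n F * h⁻¹} : Set (SpecialLinearGroup (Fin n) F)) = ⊤ := by
  obtain ⟨g, lam, hlam, hv, hvl⟩ := exists_lower (F := F) (show 2 ≤ n by omega)
  set u := regU n F with hu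
  set v := g * u * g⁻¹ with hvdef
  set eL : Fin n → F := bas (n - 1) with heL
  set a := eL ᵥ* (v⁻¹).1 with ha
  have havec : ∀ x, a ⬝ᵥ (v.1 *ᵥ x) = eL ⬝ᵥ x := fun x => by
    rw [ha, ← dotProduct_mulVec, inv_mulVec]
  have ha0 : a ⟨0, by omega⟩ ≠ 0 := by
    have key : ∀ j k : ℕ, ∀ hk : k < n, k + j + 1 = n → a ⟨k, hk⟩ ≠ 0 := by
      intro j
      induction j with
      | zero =>
        intro k hk hkn
        have h1 := havec (bas (n - 1))
        rw [hvl, dot_bas _ (show n - 1 < n by omega), dot_bas _ (show n - 1 < n by omega)] at h1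
        rw [show (⟨k, hk⟩ : Fin n) = ⟨n - 1, by omega⟩ from Fin.ext (by show k = n - 1; omega), h1]
        simp [heL, bas]
      | succ j ih =>
        intro k hk hkn h0
        have h1 := havec (bas k)
        rw [hv k (by omega), dotProduct_add, dotProduct_smul, dot_bas _ hk, dot_bas _ (show k + 1 < n by omega),
          dot_bas _ hk, h0, zero_add, smul_eq_mul] at h1
        have h2 : eL ⟨k, hk⟩ = 0 := by simp [heL, bas, show k ≠ n - 1 by omega]
        rw [h2] at h1
        exact ih (k + 1) (by omega) (by omega) ((mul_eq_zero.1 h1).resolve_left (hlam k))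
    exact key (n - 1) 0 (by omega) (by omega)
  obtain ⟨γ, hγ⟩ := IsCyclic.exists_ofOrder_eq_natCard (α := Fˣ)
  set μ := a ⟨0, by omega⟩ * lam 0 with hμ
  have hμ0 : μ ≠ 0 := mul_ne_zero ha0 (hlam 0)
  set s : F := (γ : F) / μ with hs
  -- the third conjugate
  set h := SpecialLinearGroup.transvection (show (⟨0, by omega⟩ : Fin n) ≠ ⟨n - 2, by omega⟩ from
    fun e => by have := congrArg Fin.val e; simp at this; omega) s with hh
  refine ⟨g, h, eq_top_iff.2 fun x _ => ?_⟩
  set P := Subgroup.closure ({u, v, h * u * h⁻¹} : Set (SpecialLinearGroup (Fin n) F))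
  set L := P.map SpecialLinearGroup.toGL
  have huP : u ∈ P := Subgroup.subset_closure (by simp)
  have hvP : v ∈ P := Subgroup.subset_closure (by simp)
  have hperp : eL ⬝ᵥ (bas 0 : Fin n → F) = 0 := by
    rw [dot_bas _ (show 0 < n by omega)]; simp [heL, bas]; omega
  -- the transvection
  have hT : TVec.InT L (s • bas 0) eL := by
    have hperp' : eL ⬝ᵥ (s • bas 0 : Fin n → F) = 0 := by rw [dotProduct_smul, hperp, smul_zero]
    refine inT_map_toGL.2 ⟨hperp', ?_⟩
    have hkey : u * tau (s • bas 0) eL = h * u * h⁻¹ := by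
      rw [eq_mul_inv_iff_mul_eq]
      refine Subtype.ext ?_
      show u.1 * (tau (s • bas 0) eL).1 * h.1 = h.1 * u.1
      rw [tau_val hperp', hh, coe_transvection]
      refine ext_of_mulVec_single fun i => ?_
      rw [← bas_eq_single i.isLt]
      have hE : ∀ k, k < n → single (⟨0, by omega⟩ : Fin n) ⟨n - 2, by omega⟩ s *ᵥ (bas k : Fin n → F) =
          (if k = n - 2 then s else 0) • bas 0 := by
        intro k hk
        funext r
        rw [mulVec, dot_bas _ hk]
        simp [single_apply, bas, Fin.ext_iff]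
        split_ifs <;> first | rfl | omega | simp_all
      simp only [← mulVec_mulVec, add_mulVec, one_mulVec, hE _ i.isLt, mulVec_add, mulVec_smul, tvMat_mulVec, hperp,
        zero_smul, add_zero]
      rw [dot_bas _ i.isLt, show eL ⟨i.val, i.isLt⟩ = if i.val = n - 1 then (1 : F) else 0 from rfl,
        hu, regU_zero (show 0 < n by omega)]
      rcases Nat.eq_zero_or_pos i.val with hi | hi
      · rw [hi, regU_zero (show 0 < n by omega)]
        simp [hE 0 (by omega), show ¬ 0 = n - 1 by omega, show ¬ 0 = n - 2 by omega]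
      · obtain ⟨k, hk⟩ : ∃ k, i.val = k + 1 := ⟨i.val - 1, by omega⟩
        rw [hk, regU_succ (show k + 1 < n by omega), mulVec_add, hE _ (show k + 1 < n by omega), hE _ (show k < n by omega)]
        simp only [smul_smul, show k + 1 = n - 1 ↔ k = n - 2 by omega]
        by_cases hk2 : k = n - 2
        · simp [hk2, show ¬ n - 2 + 1 = n - 2 by omega]
        · simp [hk2]
    have hmem : h * u * h⁻¹ ∈ P := Subgroup.subset_closure (by simp)
    have := P.mul_mem (P.inv_mem huP) hmem
    rwa [← hkey, inv_mul_cancel_left] at this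
  let Z : (Fin n → F) → Prop := fun z => TVec.InT L z eL
  have hZadd : ∀ {z w}, Z z → Z w → Z (z + w) := fun {_ _} h1 h2 => inT_add_left h1 h2
  have hZneg : ∀ {z}, Z z → Z (-z) := fun {z} h1 => by
    have h2 := inT_smul_left (c := (-1 : F)) (L := L) (z := z) (a := eL) (by rw [neg_smul, one_smul]; exact inT_neg h1)
    rwa [neg_smul, one_smul] at h2
  -- conjugation by the lower element followed by a commutator
  have hcomb : ∀ k, k + 2 < n → ∀ c b : F, Z (c • bas k) → Z (b • bas 0) →
      Z ((c * b * a ⟨0, by omega⟩) • (bas k + lam k • bas (k + 1))) := by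
    intro k hk c b hc hb
    have h1 := inT_conj (g := SpecialLinearGroup.toGL v) (Subgroup.mem_map_of_mem _ hvP) hc
    have e1 : ((SpecialLinearGroup.toGL v : GL (Fin n) F) : Matrix (Fin n) (Fin n) F) *ᵥ (c • bas k) =
        c • (bas k + lam k • bas (k + 1)) := by
      show v.1 *ᵥ _ = _
      rw [mulVec_smul, hv k (by omega)]
    have e2 : eL ᵥ* (((SpecialLinearGroup.toGL v)⁻¹ : GL (Fin n) F) : Matrix (Fin n) (Fin n) F) = a := by
      rw [← map_inv]; rfl
    rw [e1, e2] at h1
    have h2 := inT_comm h1 hb (by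
      rw [dotProduct_smul, dotProduct_add, dotProduct_smul, dot_bas _ (show k < n by omega),
        dot_bas _ (show k + 1 < n by omega)]
      simp [heL, bas, show k ≠ n - 1 by omega, show k + 1 ≠ n - 1 by omega])
    rw [dotProduct_smul, dot_bas _ (show 0 < n by omega)] at h2
    have h3 := inT_smul_left h2
    rw [smul_smul] at h3
    convert h3 using 2
    rw [smul_eq_mul]; ring
  -- the multiples of the first basis vector
  have hstep : ∀ c b : F, Z (c • bas 0) → Z (b • bas 0) → Z ((c * b * μ) • bas 0) := by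
    intro c b hc hb
    have h1 := hcomb 0 (by omega) c b hc hb
    have h2 := inT_conj (g := SpecialLinearGroup.toGL u) (Subgroup.mem_map_of_mem _ huP) h1
    have e2 : eL ᵥ* (((SpecialLinearGroup.toGL u)⁻¹ : GL (Fin n) F) : Matrix (Fin n) (Fin n) F) = eL := by
      have : eL ᵥ* u.1 = eL := by
        funext j
        rw [vecMul, dotProduct_comm, heL, dot_bas _ (show n - 1 < n by omega)]
        simp [hu, regU, shift, bas, Matrix.one_apply, Fin.ext_iff, eq_comm, show ¬ j.val = n - 1 + 1 by omega]
      rw [← map_inv]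
      conv_lhs => rw [← this, vecMul_vecMul]
      show eL ᵥ* (u.1 * (u⁻¹).1) = eL
      rw [mul_inv_val, vecMul_one]
    rw [e2] at h2
    have h3 := hZadd h2 (hZneg h1)
    convert h3 using 1
    show _ = u.1 *ᵥ _ + _
    rw [hμ, mulVec_smul, mulVec_add, mulVec_smul, hu, regU_zero (show 0 < n by omega),
      show (0 + 1 : ℕ) = 1 from rfl, show (regU n F).1 *ᵥ bas 1 = bas 1 + bas 0 from regU_succ (by omega)]
    module
  have hall0 : ∀ c : F, Z (c • bas 0) := by
    have hpow : ∀ m : ℕ, Z (((γ : F) ^ (m + 1) / μ) • bas 0) := by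
      intro m
      induction m with
      | zero => simpa [hs] using hT
      | succ m ih =>
        convert hstep _ _ ih hT using 2
        rw [hs]; field_simp; ring
    intro c
    rcases eq_or_ne c 0 with rfl | hc
    · rw [zero_smul]; exact inT_zero_left eL
    obtain ⟨m, hm⟩ : ∃ m : ℕ, γ ^ (m + 1) = Units.mk0 (c * μ) (mul_ne_zero hc hμ0) := by
      have hmem : Units.mk0 (c * μ) (mul_ne_zero hc hμ0) ∈ Submonoid.powers γ :=
        mem_powers_iff_mem_zpowers.2 (by
          rw [Subgroup.eq_top_of_card_eq (Subgroup.zpowers γ) (by rw [Nat.card_zpowers, hγ])]; trivial)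
      obtain ⟨k, hk⟩ := hmem
      refine ⟨k + orderOf γ - 1, ?_⟩
      rw [show k + orderOf γ - 1 + 1 = k + orderOf γ by have := orderOf_pos γ; omega, pow_add, pow_orderOf_eq_one,
        mul_one]
      exact hk
    have := congrArg Units.val hm
    rw [Units.val_pow_eq_pow_val, Units.val_mk0] at this
    have h2 := hpow m
    rwa [this, mul_div_assoc, div_self hμ0, mul_one] at h2
  have hallk : ∀ k, k + 1 < n → ∀ c : F, Z (c • bas k) := by
    intro k
    induction k with
    | zero => exact fun _ => hall0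
    | succ k ih =>
      intro hk c
      have ha0' := ha0
      set t := c / (a ⟨0, by omega⟩ * lam k)
      have h1 := hcomb k (by omega) t 1 (ih (by omega) t) (hall0 1)
      have h2 := hZadd h1 (hZneg (ih (by omega) (t * 1 * a ⟨0, by omega⟩)))
      convert h2 using 1
      have e : c = t * 1 * a ⟨0, by omega⟩ * lam k := by
        simp only [t]
        field_simp [hlam k]
      rw [e]
      module
  have hfull : ∀ z, eL ⬝ᵥ z = 0 → Z z := by
    intro z hz
    rw [sum_bas z]
    refine Finset.sum_induction _ Z (fun _ _ h1 h2 => hZadd h1 h2) (inT_zero_left eL) fun i _ => ?_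
    by_cases hi : i.val + 1 < n
    · exact hallk _ hi _
    · rw [dotProduct_comm, heL, dot_bas _ (show n - 1 < n by omega)] at hz
      rw [show i = ⟨n - 1, by omega⟩ from Fin.ext (by show i.val = n - 1; omega), hz, zero_smul]
      exact inT_zero_left eL
  -- all axes
  set L' := (P.map (tinv : SpecialLinearGroup (Fin n) F ≃* _).toMonoidHom).map SpecialLinearGroup.toGL
  have hW : fullSubmodule L' = ⊤ := by
    have hmul : ∀ w ∈ fullSubmodule L', v.1ᵀ *ᵥ w ∈ fullSubmodule L' := by
      intro w hw
      have hmem : SpecialLinearGroup.toGL (tinv v⁻¹) ∈ L' :=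
        Subgroup.mem_map_of_mem _ (Subgroup.mem_map_of_mem _ (P.inv_mem hvP))
      have := full_mulVec hmem hw
      rw [mem_fullSubmodule]
      convert this using 2
      show _ = (tinv v⁻¹).1
      rw [tinv_coe, inv_inv]
    have hlast : bas (n - 1) ∈ fullSubmodule L' := mem_fullSubmodule.2 fun b hb =>
      inT_map_tinv.2 ((inT_neg_iff).2 (hfull b (by rw [dotProduct_comm]; exact hb)))
    have hb : ∀ j k, k + j + 1 = n → (bas k : Fin n → F) ∈ fullSubmodule L' := by
      intro j
      induction j with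
      | zero => intro k hk; rw [show k = n - 1 by omega]; exact hlast
      | succ j ih =>
        intro k hk
        have h1 := ih (k + 1) (by omega)
        have h2 := hmul _ h1
        have e : v.1ᵀ *ᵥ bas (k + 1) = bas (k + 1) + lam k • bas k := by
          funext r
          rw [mulVec_transpose, vecMul, dotProduct_comm, bas_eq_single (show k + 1 < n by omega),
            dotProduct_single, mul_one]
          have h3 : ∀ m, m < n → v.1 ⟨k + 1, by omega⟩ r = (v.1 *ᵥ bas r.val) ⟨k + 1, by omega⟩ := fun m _ => by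
            rw [mulVec, dot_bas _ r.isLt]
          rw [h3 0 (by omega)]
          by_cases hr : r.val + 1 < n
          · rw [hv _ hr]
            simp [bas, Pi.single_apply, Fin.ext_iff]
            by_cases e1 : r.val = k
            · simp [e1]
            · simp [e1, show ¬ k = r.val from fun h => e1 h.symm, eq_comm]
          · rw [show r.val = n - 1 by omega, hvl]
            simp [heL, bas, Pi.single_apply, Fin.ext_iff, show ¬ r.val = k by omega]
            split_ifs <;> first | rfl | omega
        rw [e] at h2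
        have h4 := (fullSubmodule L').sub_mem h2 h1
        rw [add_sub_cancel_left] at h4
        have h5 := (fullSubmodule L').smul_mem (lam k)⁻¹ h4
        rwa [smul_smul, inv_mul_cancel₀ (hlam k), one_smul] at h5
    refine eq_top_iff.2 fun z _ => ?_
    rw [sum_bas z]
    exact Submodule.sum_mem _ fun i _ => Submodule.smul_mem _ _ (hb (n - 1 - i.val) i.val (by omega))
  have hx : SpecialLinearGroup.toGL (tinv x) ∈ L' :=
    SL_le_of_full (fun w => mem_fullSubmodule.1 (hW ▸ Submodule.mem_top)) (Units.ext (by simp))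
  obtain ⟨y, hy, hxy⟩ := hx
  obtain ⟨y, hy', rfl⟩ := hy
  have := (tinv : SpecialLinearGroup (Fin n) F ≃* _).injective (toGL_injective' hxy)
  exact this ▸ hy'

end Cfsg.Lib.Linear.RegUnipotentGen
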