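import Mathlib

/-!
Modules for `SL₂(F)` split by the fixed points of two opposite root groups: the natural module.
-/

set_option autoImplicit false

namespace Cfsg.Lib.Linear.SLTwoNatural

open Matrix
open scoped MatrixGroups

variable {F : Type*} [Field F]

/-- Upper root element. -/
def u (a : F) : SL(2, F) := ⟨!![1, a; 0, 1], by simp [det_fin_two]⟩

/-- Lower root element. -/
def l (a : F) : SL(2, F) := ⟨!![1, 0; a, 1], by simp [det_fin_two]⟩

/-- The Weyl element. -/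
def w (F : Type*) [Field F] : SL(2, F) := ⟨!![0, 1; -1, 0], by simp [det_fin_two]⟩

/-- Diagonal element. -/
def d (a : Fˣ) : SL(2, F) := ⟨!![(a : F), 0; 0, ((a⁻¹ : Fˣ) : F)], by simp [det_fin_two]⟩

theorem u_coe (a : F) : ((u a : SL(2, F)) : Matrix (Fin 2) (Fin 2) F) = !![1, a; 0, 1] := rfl

theorem l_coe (a : F) : ((l a : SL(2, F)) : Matrix (Fin 2) (Fin 2) F) = !![1, 0; a, 1] := rfl

theorem w_coe : ((w F : SL(2, F)) : Matrix (Fin 2) (Fin 2) F) = !![0, 1; -1, 0] := rfl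

theorem d_coe (a : Fˣ) :
    ((d a : SL(2, F)) : Matrix (Fin 2) (Fin 2) F) = !![(a : F), 0; 0, ((a⁻¹ : Fˣ) : F)] := rfl

theorem ext2 {g h : SL(2, F)} (e : (g : Matrix (Fin 2) (Fin 2) F) = h) : g = h := Subtype.ext e

theorem u_mul (a b : F) : u a * u b = u (a + b) := ext2 (by
  simp only [Matrix.SpecialLinearGroup.coe_mul, u_coe, Matrix.mul_fin_two]
  simp [add_comm])

theorem u_zero : u (0 : F) = 1 := ext2 (by simp [u_coe, Matrix.one_fin_two])

theorem u_inv (a : F) : (u a)⁻¹ = u (-a) := inv_eq_of_mul_eq_one_right (by rw [u_mul, add_neg_cancel, u_zero])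

theorem d_mul (a b : Fˣ) : d a * d b = d (a * b) := ext2 (by
  simp only [Matrix.SpecialLinearGroup.coe_mul, d_coe, Matrix.mul_fin_two]
  simp [mul_comm])

theorem d_one : d (1 : Fˣ) = 1 := ext2 (by simp [d_coe, Matrix.one_fin_two])

theorem w_mul_w : w F * w F = d (-1) := ext2 (by
  simp only [Matrix.SpecialLinearGroup.coe_mul, w_coe, d_coe, Matrix.mul_fin_two]
  simp)

theorem u_mul_d (a : F) (t : Fˣ) : u a * d t = d t * u (((t⁻¹ : Fˣ) : F) ^ 2 * a) := ext2 (by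
  simp only [Matrix.SpecialLinearGroup.coe_mul, u_coe, d_coe, Matrix.mul_fin_two]
  have h := t.ne_zero
  ext i j
  fin_cases i <;> fin_cases j <;> simp <;> field_simp)

theorem d_mul_w (t : Fˣ) : d t * w F = w F * d t⁻¹ := ext2 (by
  simp only [Matrix.SpecialLinearGroup.coe_mul, w_coe, d_coe, Matrix.mul_fin_two]
  simp)

theorem l_mul_w (b : F) : l b * w F = w F * u (-b) := ext2 (by
  simp only [Matrix.SpecialLinearGroup.coe_mul, l_coe, u_coe, w_coe, Matrix.mul_fin_two]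
  simp)

theorem braid (a : Fˣ) : u (a : F) * l (-((a⁻¹ : Fˣ) : F)) * u (a : F) = d a * w F := ext2 (by
  simp only [Matrix.SpecialLinearGroup.coe_mul, u_coe, l_coe, d_coe, w_coe, Matrix.mul_fin_two]
  have h := a.ne_zero
  ext i j
  fin_cases i <;> fin_cases j <;> simp [h])

theorem gen_induction {P : SL(2, F) → Prop} (hu : ∀ a, P (u a)) (hw : P (w F))
    (hmul : ∀ g h, P g → P h → P (g * h)) : ∀ g, P g := by
  have hd1 : P (d (-1)) := w_mul_w (F := F) ▸ hmul _ _ hw hw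
  have hwi : P (w F)⁻¹ := by
    rw [show (w F)⁻¹ = w F * d (-1) from inv_eq_of_mul_eq_one_right (by
      rw [← mul_assoc, w_mul_w, d_mul]; simp [d_one])]
    exact hmul _ _ hw hd1
  have hl : ∀ b, P (l b) := fun b => by
    rw [show l b = w F * u (-b) * (w F)⁻¹ by rw [← l_mul_w, mul_inv_cancel_right]]
    exact hmul _ _ (hmul _ _ hw (hu _)) hwi
  have key : ∀ g : SL(2, F), g 1 0 ≠ 0 → P g := by
    intro g hc
    have hdet : g 0 0 * g 1 1 - g 0 1 * g 1 0 = 1 := (det_fin_two _).symm.trans g.2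
    rw [show g = u ((g 0 0 - 1) / g 1 0) * l (g 1 0) * u ((g 1 1 - 1) / g 1 0) from ext2 (by
      simp only [Matrix.SpecialLinearGroup.coe_mul, u_coe, l_coe]
      conv_lhs => rw [Matrix.eta_fin_two (g : Matrix (Fin 2) (Fin 2) F)]
      revert hc hdet
      generalize (g : Matrix (Fin 2) (Fin 2) F) 0 0 = A
      generalize (g : Matrix (Fin 2) (Fin 2) F) 0 1 = B
      generalize (g : Matrix (Fin 2) (Fin 2) F) 1 0 = C
      generalize (g : Matrix (Fin 2) (Fin 2) F) 1 1 = D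
      intro hC hdet
      rw [Matrix.mul_fin_two, Matrix.mul_fin_two]
      ext i j
      fin_cases i <;> fin_cases j <;> simp <;> field_simp <;>
        first | linear_combination hdet | linear_combination -hdet | linear_combination (0:F) * hdet)]
    exact hmul _ _ (hmul _ _ (hu _) (hl _)) (hu _)
  intro g
  by_cases hc : g 1 0 = 0
  · have hdet := g.2
    rw [det_fin_two, hc, mul_zero, sub_zero] at hdet
    have h2 : P (w F * g) := key _ (by
      simp only [Matrix.SpecialLinearGroup.coe_mul, w_coe, Matrix.mul_apply, Fin.sum_univ_two]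
      simp [hc, left_ne_zero_of_mul_eq_one hdet])
    rw [show g = (w F)⁻¹ * (w F * g) by rw [inv_mul_cancel_left]]
    exact hmul _ _ hwi h2
  · exact key g hc

variable {M : Type*} [AddCommGroup M] (ρ : SL(2, F) →* AddMonoid.End M)

/-- Fixed points of the upper root group. -/
def fixU : AddSubgroup M where
  carrier := {x | ∀ a, ρ (u a) x = x}
  add_mem' := fun {x y} hx hy a => by rw [map_add, hx a, hy a]
  zero_mem' := fun a => map_zero _
  neg_mem' := fun {x} hx a => by rw [map_neg, hx a]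

theorem mem_fixU {x : M} : x ∈ fixU ρ ↔ ∀ a, ρ (u a) x = x := Iff.rfl

/-- Fixed points of the lower root group. -/
def fixL : AddSubgroup M where
  carrier := {x | ∀ a, ρ (l a) x = x}
  add_mem' := fun {x y} hx hy a => by rw [map_add, hx a, hy a]
  zero_mem' := fun a => map_zero _
  neg_mem' := fun {x} hx a => by rw [map_neg, hx a]

theorem mem_fixL {x : M} : x ∈ fixL ρ ↔ ∀ a, ρ (l a) x = x := Iff.rfl

theorem ρ_mul (g h : SL(2, F)) (x : M) : ρ (g * h) x = ρ g (ρ h x) := by rw [map_mul]; rfl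

theorem ρ_one (x : M) : ρ 1 x = x := by rw [map_one]; rfl

theorem ρ_cancel (g : SL(2, F)) (x : M) : ρ g (ρ g⁻¹ x) = x := by rw [← ρ_mul, mul_inv_cancel, ρ_one]

theorem w_mem_fixL {x : M} (hx : x ∈ fixU ρ) : ρ (w F) x ∈ fixL ρ := fun a => by
  rw [← ρ_mul, l_mul_w, ρ_mul, hx]

theorem w_mem_fixU {y : M} (hy : y ∈ fixL ρ) : ρ (w F) y ∈ fixU ρ := fun a => by
  have h : u a * w F = w F * l (-a) := ext2 (by
    simp only [Matrix.SpecialLinearGroup.coe_mul, l_coe, u_coe, w_coe, Matrix.mul_fin_two]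
    simp)
  rw [← ρ_mul, h, ρ_mul, hy]

theorem d_mem_fixU {x : M} (hx : x ∈ fixU ρ) (t : Fˣ) : ρ (d t) x ∈ fixU ρ := fun a => by
  rw [← ρ_mul, u_mul_d, ρ_mul, hx]

theorem d_mem_fixL {y : M} (hy : y ∈ fixL ρ) (t : Fˣ) : ρ (d t) y ∈ fixL ρ := fun a => by
  have h : l a * d t = d t * l (((t : Fˣ) : F) ^ 2 * a) := ext2 (by
    simp only [Matrix.SpecialLinearGroup.coe_mul, l_coe, d_coe, Matrix.mul_fin_two]
    have h := t.ne_zero
    ext i j
    fin_cases i <;> fin_cases j <;> simp <;> field_simp)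
  rw [← ρ_mul, h, ρ_mul, hy]

/-- The part of `fixL` on which the upper root group acts quadratically. -/
def quadPart : AddSubgroup M where
  carrier := {y | y ∈ fixL ρ ∧ ∀ a, ρ (u a) y - y ∈ fixU ρ}
  add_mem' := fun {x y} hx hy => ⟨add_mem hx.1 hy.1, fun a => by
    rw [map_add, add_sub_add_comm]; exact add_mem (hx.2 a) (hy.2 a)⟩
  zero_mem' := ⟨zero_mem _, fun a => by rw [map_zero, sub_zero]; exact zero_mem _⟩
  neg_mem' := fun {x} hx => ⟨neg_mem hx.1, fun a => by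
    rw [map_neg, ← neg_add', ← sub_eq_add_neg]; exact neg_mem (hx.2 a)⟩

theorem mem_quadPart {y : M} : y ∈ quadPart ρ ↔ y ∈ fixL ρ ∧ ∀ a, ρ (u a) y - y ∈ fixU ρ := Iff.rfl

theorem d_mem_quadPart {y : M} (hy : y ∈ quadPart ρ) (t : Fˣ) : ρ (d t) y ∈ quadPart ρ := by
  refine ⟨d_mem_fixL ρ hy.1 t, fun a => ?_⟩
  rw [← ρ_mul, u_mul_d, ρ_mul, ← map_sub]
  exact d_mem_fixU ρ (hy.2 _) t

theorem eq_of_decomp (hdisj : ∀ x ∈ fixU ρ, x ∈ fixL ρ → x = 0) {x x' y y' : M} (hx : x ∈ fixU ρ)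
    (hx' : x' ∈ fixU ρ) (hy : y ∈ fixL ρ) (hy' : y' ∈ fixL ρ) (h : x + y = x' + y') : x = x' ∧ y = y' := by
  have e : x - x' = y' - y := by rw [sub_eq_sub_iff_add_eq_add, h, add_comm]
  have := hdisj (x - x') (sub_mem hx hx') (e ▸ sub_mem hy' hy)
  rw [sub_eq_zero] at this
  subst this
  exact ⟨rfl, add_left_cancel h⟩

/-- On the quadratic part a root element adds the image under a monomial element. -/
theorem u_apply (hdisj : ∀ x ∈ fixU ρ, x ∈ fixL ρ → x = 0)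
    (hdec : ∀ z : M, ∃ x ∈ fixU ρ, ∃ y ∈ fixL ρ, z = x + y) {y : M} (hy : y ∈ quadPart ρ) (a : Fˣ) :
    ρ (u (a : F)) y = y + ρ (d a * w F) y := by
  have hA : ρ (u (a : F)) y - y ∈ fixU ρ := hy.2 _
  obtain ⟨A, hAe⟩ : ∃ A, A = ρ (u (a : F)) y - y := ⟨_, rfl⟩
  rw [← hAe] at hA
  have hua : ρ (u (a : F)) y = y + A := by rw [hAe]; abel
  have hneg : ρ (u (-(a : F))) y = y - A := by
    have h0 : ρ (u (-(a : F))) (ρ (u (a : F)) y) = y := by rw [← ρ_mul, u_mul, neg_add_cancel, u_zero, ρ_one]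
    rw [hua, map_add, hA] at h0
    exact eq_sub_of_add_eq h0
  obtain ⟨z, hz⟩ : ∃ z, z = ρ (d a * w F) y := ⟨_, rfl⟩
  have hz0 : z ∈ fixU ρ := by
    rw [hz, ρ_mul]; exact d_mem_fixU ρ (w_mem_fixU ρ hy.1) a
  have e1 : ρ (l (-((a⁻¹ : Fˣ) : F))) A = z - y := by
    have e : ρ (u (a : F) * l (-((a⁻¹ : Fˣ) : F)) * u (a : F)) y = z := by rw [braid, hz]
    rw [ρ_mul, ρ_mul, hua, map_add, hy.1] at e
    have e' := congrArg (ρ (u (-(a : F)))) e
    rw [← ρ_mul, u_mul, neg_add_cancel, u_zero, ρ_one, hz0] at e'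
    exact eq_sub_of_add_eq' e'
  -- write `A` as an image of an element of `fixL`
  obtain ⟨x', hx'⟩ : ∃ x', x' = ρ (w F)⁻¹ A := ⟨_, rfl⟩
  have hAx : A = ρ (w F) x' := by rw [hx', ρ_cancel]
  have hwi : (w F)⁻¹ = d (-1) * w F := inv_eq_of_mul_eq_one_right (by
    rw [d_mul_w, ← mul_assoc, w_mul_w, inv_neg, inv_one, d_mul]
    simp [d_one])
  have hx'L : x' ∈ fixL ρ := by
    rw [hx', hwi, ρ_mul]
    exact d_mem_fixL ρ (w_mem_fixL ρ hA) _
  have e2 : ρ (u ((a⁻¹ : Fˣ) : F)) x' = ρ (w F)⁻¹ (z - y) := by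
    rw [← e1, hAx, ← ρ_mul ρ (l _), l_mul_w, neg_neg, ρ_mul, ← ρ_mul ρ ((w F)⁻¹), inv_mul_cancel, ρ_one]
  have hy2 : ρ (w F)⁻¹ z = ρ (d a⁻¹) y := by
    rw [hz, ← ρ_mul, d_mul_w, ← mul_assoc, inv_mul_cancel, one_mul]
  obtain ⟨y2, hy2e⟩ : ∃ y2, y2 = ρ (d a⁻¹) y := ⟨_, rfl⟩
  have hy2q : y2 ∈ quadPart ρ := hy2e ▸ d_mem_quadPart ρ hy _
  have hc : ρ (w F)⁻¹ y ∈ fixU ρ := by
    rw [hwi, ρ_mul]; exact d_mem_fixU ρ (w_mem_fixU ρ hy.1) _
  rw [map_sub, hy2, ← hy2e] at e2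
  have e3 := congrArg (ρ (u (-((a⁻¹ : Fˣ) : F)))) e2
  rw [← ρ_mul, u_mul, neg_add_cancel, u_zero, ρ_one, map_sub, hc] at e3
  have hd2 : ρ (u (-((a⁻¹ : Fˣ) : F))) y2 - y2 ∈ fixU ρ := hy2q.2 _
  obtain ⟨-, hxy⟩ := eq_of_decomp ρ hdisj (x := 0) (x' := (ρ (u (-((a⁻¹ : Fˣ) : F))) y2 - y2) - ρ (w F)⁻¹ y)
    (zero_mem _) (sub_mem hd2 hc) hx'L hy2q.1 (by rw [e3]; abel)
  rw [hua, hAx, hxy, hy2e, ← ρ_mul, ← inv_inv a, ← d_mul_w, inv_inv]

/-- The invariant subgroup generated by the quadratic part. -/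
theorem closure_invariant (hdisj : ∀ x ∈ fixU ρ, x ∈ fixL ρ → x = 0)
    (hdec : ∀ z : M, ∃ x ∈ fixU ρ, ∃ y ∈ fixL ρ, z = x + y) (g : SL(2, F)) :
    ∀ z ∈ (quadPart ρ).map (ρ (w F)) ⊔ quadPart ρ, ρ g z ∈ (quadPart ρ).map (ρ (w F)) ⊔ quadPart ρ := by
  induction g using gen_induction with
  | hu a =>
    intro z hz
    obtain ⟨x, hx, y, hy, rfl⟩ := AddSubgroup.mem_sup.1 hz
    obtain ⟨x₀, hx₀, rfl⟩ := hx
    have e : ρ (u a) (ρ (w F) x₀) = ρ (w F) x₀ := w_mem_fixU ρ hx₀.1 a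
    rw [map_add]
    refine add_mem (AddSubgroup.mem_sup_left ⟨x₀, hx₀, e.symm⟩) ?_
    by_cases ha : a = 0
    · rw [ha, u_zero, ρ_one]; exact AddSubgroup.mem_sup_right hy
    · rw [show a = ((Units.mk0 a ha : Fˣ) : F) from rfl, u_apply ρ hdisj hdec hy, d_mul_w, ρ_mul]
      exact add_mem (AddSubgroup.mem_sup_right hy)
        (AddSubgroup.mem_sup_left ⟨_, d_mem_quadPart ρ hy _, rfl⟩)
  | hw =>
    intro z hz
    obtain ⟨x, hx, y, hy, rfl⟩ := AddSubgroup.mem_sup.1 hz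
    obtain ⟨x₀, hx₀, rfl⟩ := hx
    rw [map_add]
    refine add_mem (AddSubgroup.mem_sup_right ?_) (AddSubgroup.mem_sup_left ⟨y, hy, rfl⟩)
    have h2 : ρ (w F) (ρ (w F) x₀) = ρ (d (-1)) x₀ := by rw [← ρ_mul, w_mul_w]
    exact (congrArg (· ∈ quadPart ρ) h2).mpr (d_mem_quadPart ρ hx₀ _)
  | hmul g h hg hh =>
    intro z hz
    rw [ρ_mul]
    exact hg _ (hh _ hz)

/-- A faithful coordinate map of the natural module. -/
theorem exists_natural (hdisj : ∀ x ∈ fixU ρ, x ∈ fixL ρ → x = 0)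
    (hdec : ∀ z : M, ∃ x ∈ fixU ρ, ∃ y ∈ fixL ρ, z = x + y) (hquad : fixL ρ ≤ quadPart ρ) {e : M}
    (he : e ∈ fixU ρ) :
    ∃ Φ : (Fin 2 → F) →+ M, Φ ![1, 0] = e ∧ (e ≠ 0 → Function.Injective Φ) ∧
      ∀ (g : SL(2, F)) v, Φ ((g : Matrix (Fin 2) (Fin 2) F).mulVec v) = ρ g (Φ v) := by
  classical
  obtain ⟨f, hf⟩ : ∃ f : F → M, ∀ a, f a = if h : a = 0 then 0 else ρ (d (Units.mk0 a h)) e :=
    ⟨_, fun a => rfl⟩
  have hf0 : f 0 = 0 := by rw [hf, dif_pos rfl]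
  have hfu : ∀ a : Fˣ, f (a : F) = ρ (d a) e := fun a => by
    rw [hf, dif_neg a.ne_zero]; congr; exact Units.ext rfl
  have hfmem : ∀ a, f a ∈ fixU ρ := fun a => by
    by_cases h : a = 0
    · rw [h, hf0]; exact zero_mem _
    · rw [show a = ((Units.mk0 a h : Fˣ) : F) from rfl, hfu]; exact d_mem_fixU ρ he _
  obtain ⟨ē, hē⟩ : ∃ ē, ē = ρ (w F)⁻¹ e := ⟨_, rfl⟩
  have hwē : ρ (w F) ē = e := by rw [hē, ρ_cancel]
  have hēL : ē ∈ fixL ρ := by
    have : ρ (w F) (ρ (d (-1)) e) = ē := by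
      rw [hē, ← ρ_mul]
      congr 2
      exact (inv_eq_of_mul_eq_one_right (by rw [← mul_assoc, w_mul_w, d_mul]; simp [d_one])).symm
    rw [← this]
    exact w_mem_fixL ρ (d_mem_fixU ρ he _)
  have hshift : ∀ a, ρ (u a) ē = ē + f a := by
    intro a
    by_cases h : a = 0
    · rw [h, u_zero, ρ_one, hf0, add_zero]
    · rw [show a = ((Units.mk0 a h : Fˣ) : F) from rfl, u_apply ρ hdisj hdec (hquad hēL), hfu, ρ_mul, hwē]
  have hfadd : ∀ a b, f (a + b) = f a + f b := by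
    intro a b
    have e1 := hshift (a + b)
    rw [← u_mul, ρ_mul, hshift, map_add, hshift, hfmem b] at e1
    rw [add_assoc] at e1
    exact (add_left_cancel e1).symm
  have hfmul : ∀ (a : F) (t : Fˣ), ρ (d t) (f a) = f ((t : F) * a) := by
    intro a t
    by_cases h : a = 0
    · rw [h, hf0, map_zero, mul_zero, hf0]
    · rw [show a = ((Units.mk0 a h : Fˣ) : F) from rfl, hfu, ← Units.val_mul, hfu, ← d_mul, ρ_mul]
  have hwi : (w F)⁻¹ = w F * d (-1) :=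
    inv_eq_of_mul_eq_one_right (by rw [← mul_assoc, w_mul_w, d_mul]; simp [d_one])
  have hwiL : ∀ b, ρ (w F)⁻¹ (f b) ∈ fixL ρ := fun b => by
    rw [hwi, ρ_mul]; exact w_mem_fixL ρ (d_mem_fixU ρ (hfmem b) _)
  have hub : ∀ a b, ρ (u a) (ρ (w F)⁻¹ (f b)) = f (a * b) + ρ (w F)⁻¹ (f b) := by
    intro a b
    by_cases h : a = 0
    · rw [h, u_zero, ρ_one, zero_mul, hf0, zero_add]
    · rw [show a = ((Units.mk0 a h : Fˣ) : F) from rfl, u_apply ρ hdisj hdec (hquad (hwiL b)), ρ_mul,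
        ρ_cancel, hfmul, add_comm]
  refine ⟨AddMonoidHom.mk' (fun v => f (v 0) + ρ (w F)⁻¹ (f (v 1))) (fun v v' => ?_), ?_, ?_, ?_⟩
  · simp only [Pi.add_apply, hfadd, map_add]
    abel
  · show f ((![1, 0] : Fin 2 → F) 0) + ρ (w F)⁻¹ (f ((![1, 0] : Fin 2 → F) 1)) = e
    simp only [Matrix.cons_val_zero, Matrix.cons_val_one, hf0, map_zero, add_zero]
    rw [show (1 : F) = ((1 : Fˣ) : F) from rfl, hfu, d_one, ρ_one]
  · intro hne v v' h
    have hinj : ∀ a, f a = 0 → a = 0 := by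
      intro a ha
      by_contra hz
      rw [show a = ((Units.mk0 a hz : Fˣ) : F) from rfl, hfu] at ha
      have := congrArg (ρ (d (Units.mk0 a hz)⁻¹)) ha
      rw [← ρ_mul, d_mul, inv_mul_cancel, d_one, ρ_one, map_zero] at this
      exact hne this
    have hsub : ∀ a b, f a = f b → a = b := fun a b hab => by
      have := hfadd (a - b) b
      rw [sub_add_cancel, hab, eq_comm, add_eq_right] at this
      exact sub_eq_zero.1 (hinj _ this)
    obtain ⟨h0, h1⟩ := eq_of_decomp ρ hdisj (hfmem _) (hfmem _) (hwiL _) (hwiL _) h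
    have h1' := congrArg (ρ (w F)) h1
    rw [ρ_cancel, ρ_cancel] at h1'
    funext i
    fin_cases i
    · exact hsub _ _ h0
    · exact hsub _ _ h1'
  · intro g
    induction g using gen_induction with
    | hu a =>
      intro v
      show f ((u a : Matrix (Fin 2) (Fin 2) F).mulVec v 0) + ρ (w F)⁻¹ (f ((u a : Matrix (Fin 2) (Fin 2) F).mulVec v 1)) =
        ρ (u a) (f (v 0) + ρ (w F)⁻¹ (f (v 1)))
      rw [map_add, hfmem _ a, hub]
      simp only [u_coe, Matrix.mulVec, dotProduct, Fin.sum_univ_two, Matrix.of_apply, Matrix.cons_val_zero,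
        Matrix.cons_val_one, one_mul, zero_mul, zero_add, hfadd]
      abel
    | hw =>
      intro v
      show f ((w F : Matrix (Fin 2) (Fin 2) F).mulVec v 0) + ρ (w F)⁻¹ (f ((w F : Matrix (Fin 2) (Fin 2) F).mulVec v 1)) =
        ρ (w F) (f (v 0) + ρ (w F)⁻¹ (f (v 1)))
      simp only [w_coe, Matrix.mulVec, dotProduct, Fin.sum_univ_two, Matrix.of_apply, Matrix.cons_val_zero,
        Matrix.cons_val_one, one_mul, zero_mul, zero_add, add_zero]
      have hn : ρ (d (-1)) (f (v 0)) = f (-1 * v 0) := by rw [hfmul, Units.val_neg, Units.val_one]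
      rw [map_add, ρ_cancel, ← hn, add_comm]
      congr 1
      rw [← ρ_mul]
      congr 2
      rw [hwi, mul_assoc, d_mul]
      simp [d_one]
    | hmul g h hg hh =>
      intro v
      rw [ρ_mul, ← hh, ← hg, Matrix.mulVec_mulVec, Matrix.SpecialLinearGroup.coe_mul]

/-- Elements fixed by both root groups are fixed by the whole group. -/
theorem fixed_of_mem {x : M} (hx : x ∈ fixU ρ) (hx' : x ∈ fixL ρ) (g : SL(2, F)) : ρ g x = x := by
  induction g using gen_induction with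
  | hu a => exact hx a
  | hw =>
    have : w F = u 1 * l (-1) * u 1 := by
      have := braid (1 : Fˣ)
      rw [d_one, one_mul, inv_one, Units.val_one] at this
      exact this.symm
    rw [this, ρ_mul, ρ_mul, hx, hx', hx]
  | hmul g h hg hh => rw [ρ_mul, hh, hg]

/-- A quadratic module with no trivial quotient decomposes. -/
theorem decomp_of_quadratic (hq : ∀ a z, ρ (u a) z - z ∈ fixU ρ)
    (hgen : ∀ K : AddSubgroup M, (∀ g : SL(2, F), ∀ z, ρ g z - z ∈ K) → K = ⊤) (z : M) :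
    ∃ x ∈ fixU ρ, ∃ y ∈ fixL ρ, z = x + y := by
  have hl : ∀ a z, ρ (l a) z - z ∈ fixL ρ := by
    intro a z
    obtain ⟨z', rfl⟩ : ∃ z', z = ρ (w F) z' := ⟨ρ (w F)⁻¹ z, (ρ_cancel ρ _ _).symm⟩
    rw [← ρ_mul, l_mul_w, ρ_mul, ← map_sub]
    exact w_mem_fixL ρ (hq _ _)
  obtain ⟨U, hU⟩ : ∃ U : AddSubgroup M, U = fixU ρ ⊔ fixL ρ := ⟨_, rfl⟩
  have hUtop : U = ⊤ := by
    refine hgen U fun g => ?_
    induction g using gen_induction with
    | hu a => intro z; exact hU ▸ AddSubgroup.mem_sup_left (hq a z)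
    | hw =>
      intro z
      have : w F = u 1 * l (-1) * u 1 := by
        have := braid (1 : Fˣ)
        rw [d_one, one_mul, inv_one, Units.val_one] at this
        exact this.symm
      rw [this, ρ_mul, ρ_mul]
      rw [← sub_add_sub_cancel _ (ρ (l (-1)) (ρ (u 1) z)) z, ← sub_add_sub_cancel (ρ (l (-1)) _) (ρ (u 1) z) z]
      exact hU ▸ add_mem (AddSubgroup.mem_sup_left (hq _ _))
        (add_mem (AddSubgroup.mem_sup_right (hl _ _)) (AddSubgroup.mem_sup_left (hq _ _)))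
    | hmul g h hg hh =>
      intro z
      rw [ρ_mul, ← sub_add_sub_cancel _ (ρ h z) z]
      exact add_mem (hg _) (hh _)
  obtain ⟨x, hx, y, hy, e⟩ := AddSubgroup.mem_sup.1 (show z ∈ fixU ρ ⊔ fixL ρ from hU ▸ hUtop ▸ AddSubgroup.mem_top z)
  exact ⟨x, hx, y, hy, e.symm⟩

/-- If the fixed points of the upper root group are large, the module decomposes. -/
theorem decomp_of_card [Finite M] (hdisj : ∀ x ∈ fixU ρ, x ∈ fixL ρ → x = 0)
    (hc : Nat.card M ≤ Nat.card (fixU ρ) ^ 2) (z : M) : ∃ x ∈ fixU ρ, ∃ y ∈ fixL ρ, z = x + y := by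
  let φ : fixU ρ × fixU ρ → M := fun p => p.1.1 + ρ (w F) p.2.1
  have hinj : Function.Injective φ := by
    intro p p' h
    obtain ⟨h1, h2⟩ := eq_of_decomp ρ hdisj p.1.2 p'.1.2 (w_mem_fixL ρ p.2.2) (w_mem_fixL ρ p'.2.2) h
    have h3 := congrArg (ρ (w F)⁻¹) h2
    rw [← ρ_mul, ← ρ_mul, inv_mul_cancel, ρ_one, ρ_one] at h3
    exact Prod.ext (Subtype.ext h1) (Subtype.ext h3)
  have hbij : Function.Bijective φ :=
    hinj.bijective_of_nat_card_le (by rw [Nat.card_prod, ← pow_two]; exact hc)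
  obtain ⟨p, hp⟩ := hbij.2 z
  exact ⟨_, p.1.2, _, w_mem_fixL ρ p.2.2, hp.symm⟩

/-- A finite module of `p`-power order has a nonzero quadratic part. -/
theorem quadPart_ne_bot [Finite M] [Finite F] {p : ℕ} [Fact p.Prime] [CharP F p]
    (hM : ∀ x : M, p • x = 0) (hdisj : ∀ x ∈ fixU ρ, x ∈ fixL ρ → x = 0)
    (hdec : ∀ z : M, ∃ x ∈ fixU ρ, ∃ y ∈ fixL ρ, z = x + y) (hne : fixU ρ ≠ ⊤) : quadPart ρ ≠ ⊥ := by
  classical
  have hUp : IsPGroup p (Multiplicative F) := fun a => ⟨1, by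
    rw [pow_one, ← ofAdd_toAdd a, ← ofAdd_nsmul, nsmul_eq_mul, CharP.cast_eq_zero, zero_mul, ofAdd_zero]⟩
  let Q := M ⧸ fixU ρ
  have hstab : ∀ a : F, fixU ρ ≤ (fixU ρ).comap (ρ (u a)) := fun a x hx => by
    show ρ (u a) x ∈ fixU ρ
    rw [hx a]; exact hx
  letI act : MulAction (Multiplicative F) Q :=
    { smul := fun a q => QuotientAddGroup.map (fixU ρ) (fixU ρ) (ρ (u a.toAdd)) (hstab _) q
      one_smul := fun q => by
        induction q using QuotientAddGroup.induction_on with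
        | _ z => exact congrArg (QuotientAddGroup.mk (s := fixU ρ)) (show ρ (u (1 : Multiplicative F).toAdd) z = z by rw [toAdd_one, u_zero, ρ_one])
      mul_smul := fun a b q => by
        induction q using QuotientAddGroup.induction_on with
        | _ z => exact congrArg (QuotientAddGroup.mk (s := fixU ρ)) (show ρ (u (a * b).toAdd) z = ρ (u a.toAdd) (ρ (u b.toAdd) z) by rw [toAdd_mul, ← u_mul, ρ_mul]) }
  have hpQ : p ∣ Nat.card Q := by
    obtain ⟨x, -, hx⟩ := SetLike.exists_of_lt (lt_top_iff_ne_top.2 hne)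
    have : addOrderOf (QuotientAddGroup.mk x : Q) = p := addOrderOf_eq_prime
      (by rw [← QuotientAddGroup.mk_nsmul, hM, QuotientAddGroup.mk_zero])
      (by rwa [Ne, QuotientAddGroup.eq_zero_iff])
    exact this ▸ addOrderOf_dvd_natCard _
  have h0 : (0 : Q) ∈ MulAction.fixedPoints (Multiplicative F) Q := fun a => by
    show QuotientAddGroup.map (fixU ρ) (fixU ρ) (ρ (u a.toAdd)) (hstab _) (0 : Q) = 0
    exact map_zero _
  obtain ⟨q, hq, hq0⟩ := hUp.exists_fixed_point_of_prime_dvd_card_of_fixed_point Q hpQ h0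
  obtain ⟨z, rfl⟩ := QuotientAddGroup.mk_surjective q
  obtain ⟨x, hx, y, hy, rfl⟩ := hdec z
  intro hb
  refine hq0 ?_
  have hyq : y ∈ quadPart ρ := by
    refine ⟨hy, fun a => ?_⟩
    have := hq (Multiplicative.ofAdd a)
    change (QuotientAddGroup.mk (ρ (u a) (x + y)) : Q) = QuotientAddGroup.mk (x + y) at this
    rw [QuotientAddGroup.eq_iff_sub_mem, map_add, hx a, add_sub_add_left_eq_sub] at this
    exact this
  rw [hb, AddSubgroup.mem_bot] at hyq
  rw [hyq, add_zero]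
  exact ((QuotientAddGroup.eq_zero_iff x).2 hx).symm

/-- An irreducible decomposed module is the natural module. -/
theorem exists_equiv [Finite M] [Finite F] {p : ℕ} [Fact p.Prime] [CharP F p] (hM : ∀ x : M, p • x = 0)
    (hirr : ∀ K : AddSubgroup M, (∀ g : SL(2, F), ∀ z ∈ K, ρ g z ∈ K) → K = ⊥ ∨ K = ⊤)
    (hnt : ∃ (g : SL(2, F)) (z : M), ρ g z ≠ z)
    (hyp : (∀ a z, ρ (u a) z - z ∈ fixU ρ) ∨ Nat.card M ≤ Nat.card (fixU ρ) ^ 2) :
    ∃ ψ : M ≃+ (Fin 2 → F), ∀ (g : SL(2, F)) z,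
      ψ (ρ g z) = (g : Matrix (Fin 2) (Fin 2) F).mulVec (ψ z) := by
  classical
  obtain ⟨g₀, z₀, hgz⟩ := hnt
  obtain ⟨C, hC⟩ : ∃ C : AddSubgroup M, C = fixU ρ ⊓ fixL ρ := ⟨_, rfl⟩
  have hdisj : ∀ x ∈ fixU ρ, x ∈ fixL ρ → x = 0 := by
    intro x hx hx'
    rcases hirr C (fun g z hz => by rw [hC] at hz ⊢; rw [fixed_of_mem ρ hz.1 hz.2]; exact hz) with h | h
    · exact AddSubgroup.mem_bot.1 (h ▸ hC ▸ ⟨hx, hx'⟩)
    · have hz : z₀ ∈ C := h ▸ AddSubgroup.mem_top z₀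
      rw [hC] at hz
      exact absurd (fixed_of_mem ρ hz.1 hz.2 g₀) hgz
  have hdec : ∀ z : M, ∃ x ∈ fixU ρ, ∃ y ∈ fixL ρ, z = x + y := by
    rcases hyp with h | h
    · refine decomp_of_quadratic ρ h fun K hK => ?_
      rcases hirr K (fun g z hz => by simpa using add_mem (hK g z) hz) with h' | h'
      · exact absurd (sub_eq_zero.1 (AddSubgroup.mem_bot.1 (h' ▸ hK g₀ z₀))) hgz
      · exact h'
    · exact decomp_of_card ρ hdisj h
  have hUne : fixU ρ ≠ ⊤ := by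
    intro h
    have hall : ∀ x : M, x ∈ fixL ρ := fun x => by
      rw [← ρ_cancel ρ (w F) x]; exact w_mem_fixL ρ (h ▸ AddSubgroup.mem_top _)
    exact hgz (fixed_of_mem ρ (h ▸ AddSubgroup.mem_top _) (hall _) g₀)
  have hq0 := quadPart_ne_bot ρ hM hdisj hdec hUne
  have hK : (quadPart ρ).map (ρ (w F)) ⊔ quadPart ρ = ⊤ :=
    (hirr _ (closure_invariant ρ hdisj hdec)).resolve_left fun h =>
      hq0 (le_bot_iff.1 (le_sup_right.trans h.le))
  have hquad : fixL ρ ≤ quadPart ρ := by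
    intro y hy
    obtain ⟨_, ⟨x₀, hx₀, rfl⟩, y', hy', e⟩ := AddSubgroup.mem_sup.1 (show y ∈ _ from hK ▸ AddSubgroup.mem_top y)
    have h2 := (eq_of_decomp ρ hdisj (w_mem_fixU ρ hx₀.1) (zero_mem _) hy'.1 hy
      (e.trans (zero_add y).symm)).2
    rwa [← h2]
  obtain ⟨e, he, he0⟩ : ∃ e ∈ fixU ρ, e ≠ 0 := by
    by_contra hcon
    push Not at hcon
    have hLz : ∀ x ∈ fixL ρ, x = 0 := fun x hx => by
      have := congrArg (ρ (w F)⁻¹) (hcon _ (w_mem_fixU ρ hx))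
      rwa [← ρ_mul, inv_mul_cancel, ρ_one, map_zero] at this
    obtain ⟨x, hx, y, hy, rfl⟩ := hdec z₀
    rw [hcon x hx, hLz y hy, add_zero, map_zero] at hgz
    exact hgz rfl
  obtain ⟨Φ, hΦe, hinj, hΦ⟩ := exists_natural ρ hdisj hdec hquad he
  have hsurj : Φ.range = ⊤ := by
    refine (hirr _ ?_).resolve_left fun h => he0 (AddSubgroup.mem_bot.1 (h ▸ ⟨_, hΦe⟩))
    rintro g _ ⟨v, rfl⟩
    exact ⟨_, hΦ g v⟩
  refine ⟨(AddEquiv.ofBijective Φ ⟨hinj he0, AddMonoidHom.range_eq_top.1 hsurj⟩).symm, fun g z => ?_⟩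
  apply (AddEquiv.ofBijective Φ ⟨hinj he0, AddMonoidHom.range_eq_top.1 hsurj⟩).injective
  rw [AddEquiv.apply_symm_apply]
  show _ = Φ _
  rw [hΦ]
  exact congrArg _ (AddEquiv.apply_symm_apply (AddEquiv.ofBijective Φ ⟨hinj he0, AddMonoidHom.range_eq_top.1 hsurj⟩) z).symm

end Cfsg.Lib.Linear.SLTwoNatural
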