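import Mathlib
import Cfsg.Agent.Lib.Linear.SLTwoNatural

/-!
Abelian two-groups on which `SL₂(2ⁿ)` acts with an element of order three fixing nothing but zero:
they are elementary abelian sums of natural modules.
-/

set_option autoImplicit false

namespace Cfsg.Lib.Linear.SLTwoFPF

open Matrix SLTwoNatural
open scoped MatrixGroups

variable {F : Type*} [Field F] {M : Type*} [AddCommGroup M] (ρ : SL(2, F) →* AddMonoid.End M)

/-- The relation given by fixed point freeness of the elements `u(a) w_a` of order three. -/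
def Rel : Prop := ∀ (a : Fˣ) (v : M),
  ρ (u (a : F)) (ρ (d a * w F) v) + ρ (d a * w F) (ρ (u (a : F)) v) + v = 0

section

variable (h2 : (2 : F) = 0) (hR : Rel ρ)
include h2

theorem add_self' (a : F) : a + a = 0 := by linear_combination a * h2

theorem d_neg_one : d (-1 : Fˣ) = (1 : SL(2, F)) := by
  rw [show (-1 : Fˣ) = 1 from Units.ext (by push_cast; linear_combination (-1 : F) * h2), d_one]

theorem w_w : w F * w F = 1 := by rw [w_mul_w, d_neg_one h2]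

theorem ρ_w_w (x : M) : ρ (w F) (ρ (w F) x) = x := by rw [← ρ_mul, w_w h2, ρ_one]

theorem wd_wd (a : Fˣ) : (d a * w F) * (d a * w F) = 1 := by
  rw [mul_assoc, ← mul_assoc (w F), ← inv_inv a, ← d_mul_w, inv_inv, mul_assoc, w_w h2, mul_one,
    d_mul, mul_inv_cancel, d_one]

include hR

/-- Action of the upper root group on the image of a fixed point. -/
theorem u_wd_fixed {x : M} (hx : x ∈ fixU ρ) (a : Fˣ) :
    ρ (u (a : F)) (ρ (w F) x) = - ρ (w F) x - ρ (d a) x := by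
  have h := hR a (ρ (d a * w F) (ρ (w F) x))
  rw [← ρ_mul ρ (d a * w F) (d a * w F), wd_wd h2, ρ_one] at h
  rw [ρ_mul ρ (d a) (w F) (ρ (w F) x), ρ_w_w ρ h2] at h
  rw [d_mem_fixU ρ hx a, ← ρ_mul, ρ_mul ρ, ρ_mul] at h
  have e : ρ (d a) (ρ (w F) (ρ (d a) x)) = ρ (w F) x := by
    rw [← ρ_mul ρ (w F), ← ρ_mul, ← mul_assoc, d_mul_w, mul_assoc, d_mul, inv_mul_cancel, d_one, mul_one]
  rw [e] at h
  rw [eq_sub_iff_add_eq, eq_neg_iff_add_eq_zero, add_right_comm]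
  exact h

/-- Fixed points of a root group have exponent two and the torus acts additively on them. -/
theorem fixU_two (hM : ∀ v : M, ∃ k : ℕ, (2 ^ k) • v = 0) (hF : ∃ a : Fˣ, (a : F) ≠ 1)
    {x : M} (hx : x ∈ fixU ρ) :
    x + x = 0 ∧ ∀ a b c : Fˣ, (a : F) + b = c → ρ (d c) x = ρ (d a) x + ρ (d b) x := by
  obtain ⟨W, hW⟩ : ∃ W, W = ρ (w F) x := ⟨_, rfl⟩
  have key : ∀ a b c : Fˣ, (a : F) + b = c → W + W + ρ (d c) x + ρ (d b) x - ρ (d a) x = 0 := by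
    intro a b c hc
    have h1 := u_wd_fixed ρ h2 hR hx c
    rw [← hc, add_comm, ← u_mul, ρ_mul, u_wd_fixed ρ h2 hR hx a, map_sub, map_neg, u_wd_fixed ρ h2 hR hx b,
      d_mem_fixU ρ hx a b, ← hW] at h1
    calc W + W + ρ (d c) x + ρ (d b) x - ρ (d a) x
        = (-(-W - ρ (d b) x) - ρ (d a) x) - (-W - ρ (d c) x) := by abel
      _ = 0 := by rw [h1, sub_self]
  have tw : ∀ a b c : Fˣ, (a : F) + b = c → (ρ (d a) x - ρ (d b) x) + (ρ (d a) x - ρ (d b) x) = 0 := by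
    intro a b c hc
    calc (ρ (d a) x - ρ (d b) x) + (ρ (d a) x - ρ (d b) x)
        = (W + W + ρ (d c) x + ρ (d a) x - ρ (d b) x) - (W + W + ρ (d c) x + ρ (d b) x - ρ (d a) x) := by abel
      _ = 0 := by rw [key a b c hc, key b a c (by rw [add_comm]; exact hc), sub_self]
  have hone : ∀ a : Fˣ, (ρ (d a) x - x) + (ρ (d a) x - x) = 0 := by
    intro a
    by_cases ha : (a : F) + 1 = 0
    · have : a = 1 := Units.ext (by push_cast; linear_combination ha - h2)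
      rw [this, d_one, ρ_one, sub_self, add_zero]
    · have := tw a 1 (Units.mk0 _ ha) rfl
      rwa [d_one, ρ_one] at this
  obtain ⟨a, ha⟩ := hF
  have ha0 : (a : F) + 1 ≠ 0 := fun h => ha (by linear_combination h - h2)
  obtain ⟨c, hc⟩ : ∃ c : Fˣ, (c : F) = (a : F) + 1 := ⟨Units.mk0 _ ha0, rfl⟩
  have k1 := key a 1 c (by rw [hc, Units.val_one])
  rw [d_one, ρ_one] at k1
  have e4 : W + W + W + W + (x + x) = 0 := by
    calc W + W + W + W + (x + x) = (W + W + ρ (d c) x + x - ρ (d a) x) + (W + W + ρ (d c) x + x - ρ (d a) x)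
          - ((ρ (d c) x - x) + (ρ (d c) x - x)) + ((ρ (d a) x - x) + (ρ (d a) x - x)) := by abel
      _ = 0 := by rw [k1, hone c, hone a]; simp
  have e5 : x + x + x + x + (W + W) = 0 := by
    have := congrArg (ρ (w F)) e4
    simp only [map_add, map_zero, hW, ρ_w_w ρ h2] at this
    rw [hW]; exact this
  have e6 : (3 : ℕ) • (x + x) = 0 := by
    calc (3 : ℕ) • (x + x) = (x + x + x + x + (W + W)) + (x + x + x + x + (W + W)) - (W + W + W + W + (x + x)) := by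
          abel
      _ = 0 := by rw [e4, e5]; simp
  have hx2 : x + x = 0 := by
    obtain ⟨k, hk⟩ := hM (x + x)
    have h := Nat.dvd_gcd (addOrderOf_dvd_of_nsmul_eq_zero e6) (addOrderOf_dvd_of_nsmul_eq_zero hk)
    rw [show Nat.gcd 3 (2 ^ k) = 1 from Nat.Coprime.pow_right k (by norm_num), Nat.dvd_one,
      AddMonoid.addOrderOf_eq_one_iff] at h
    exact h
  refine ⟨hx2, fun a b c hc => ?_⟩
  have hW2 : W + W = 0 := by rw [hW, ← map_add, hx2, map_zero]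
  have hb2 : ρ (d b) x + ρ (d b) x = 0 := by rw [← map_add, hx2, map_zero]
  calc ρ (d c) x = (W + W + ρ (d c) x + ρ (d b) x - ρ (d a) x) - (W + W) - (ρ (d b) x + ρ (d b) x)
        + ρ (d a) x + ρ (d b) x := by abel
    _ = ρ (d a) x + ρ (d b) x := by rw [key a b c hc, hW2, hb2]; simp

/-- A fixed point free module is decomposed by the two root groups and is elementary abelian. -/
theorem decomposition [Finite M] [Finite F] (hM : ∀ v : M, ∃ k : ℕ, (2 ^ k) • v = 0) (hF : ∃ a : Fˣ, (a : F) ≠ 1) :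
    (∀ v : M, v + v = 0) ∧ (∀ v ∈ fixU ρ, v ∈ fixL ρ → v = 0) ∧
      (∀ z : M, ∃ x ∈ fixU ρ, ∃ y ∈ fixL ρ, z = x + y) ∧ fixL ρ ≤ quadPart ρ := by
  classical
  haveI := Fintype.ofFinite F
  haveI := Fintype.ofFinite M
  have two := fun {x : M} (hx : x ∈ fixU ρ) => (fixU_two ρ h2 hR hM hF hx).1
  have dadd := fun {x : M} (hx : x ∈ fixU ρ) => (fixU_two ρ h2 hR hM hF hx).2
  have negC : ∀ {x : M}, x + x = 0 → -x = x := fun h => (eq_neg_of_add_eq_zero_left h).symm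
  have hLW : ∀ {y : M}, y ∈ fixL ρ → ∃ k ∈ fixU ρ, y = ρ (w F) k := fun {y} hy =>
    ⟨_, w_mem_fixU ρ hy, (ρ_w_w ρ h2 y).symm⟩
  have huw : ∀ {k : M}, k ∈ fixU ρ → ∀ a : Fˣ, ρ (u (a : F)) (ρ (w F) k) = ρ (w F) k + ρ (d a) k := by
    intro k hk a
    rw [u_wd_fixed ρ h2 hR hk a, negC (by rw [← map_add, two hk, map_zero]), sub_eq_add_neg,
      negC (by rw [← map_add, two hk, map_zero])]
  have hdisj : ∀ v ∈ fixU ρ, v ∈ fixL ρ → v = 0 := by
    intro v hv hv'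
    have := hR 1 v
    simp only [fixed_of_mem ρ hv hv'] at this
    rw [two hv, zero_add] at this
    exact this
  obtain ⟨U, hU⟩ : ∃ U : AddSubgroup M, U = fixU ρ ⊔ fixL ρ := ⟨_, rfl⟩
  have hmemU : ∀ {v}, v ∈ U → ∃ x ∈ fixU ρ, ∃ k ∈ fixU ρ, v = x + ρ (w F) k := by
    intro v hv
    rw [hU, AddSubgroup.mem_sup] at hv
    obtain ⟨x, hx, y, hy, rfl⟩ := hv
    obtain ⟨k, hk, rfl⟩ := hLW hy
    exact ⟨x, hx, k, hk, rfl⟩
  have hU2 : ∀ {v}, v ∈ U → v + v = 0 := by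
    intro v hv
    obtain ⟨x, hx, k, hk, rfl⟩ := hmemU hv
    rw [add_add_add_comm, two hx, ← map_add, two hk, map_zero, add_zero]
  have hCU : fixU ρ ≤ U := hU ▸ le_sup_left
  have hwU : ∀ {k}, k ∈ fixU ρ → ρ (w F) k ∈ U := fun hk => hU ▸ AddSubgroup.mem_sup_right (w_mem_fixL ρ hk)
  have huU : ∀ a : F, ∀ v ∈ U, ρ (u a) v ∈ U := by
    intro a v hv
    by_cases ha : a = 0
    · rw [ha, u_zero, ρ_one]; exact hv
    obtain ⟨x, hx, k, hk, rfl⟩ := hmemU hv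
    rw [map_add, hx a, show a = ((Units.mk0 a ha : Fˣ) : F) from rfl, huw hk]
    exact add_mem (hCU hx) (add_mem (hwU hk) (hCU (d_mem_fixU ρ hk _)))
  have htop : U = ⊤ := by
    by_contra hne
    let Q := M ⧸ U
    letI act : MulAction (Multiplicative F) Q :=
      { smul := fun a q => QuotientAddGroup.map U U (ρ (u a.toAdd)) (fun v hv => huU _ v hv) q
        one_smul := fun q => by
          induction q using QuotientAddGroup.induction_on with
          | _ z => exact congrArg (QuotientAddGroup.mk (s := U)) (show ρ (u (1 : Multiplicative F).toAdd) z = z by rw [toAdd_one, u_zero, ρ_one])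
        mul_smul := fun a b q => by
          induction q using QuotientAddGroup.induction_on with
          | _ z => exact congrArg (QuotientAddGroup.mk (s := U)) (show ρ (u (a * b).toAdd) z = ρ (u a.toAdd) (ρ (u b.toAdd) z) by rw [toAdd_mul, ← u_mul, ρ_mul]) }
    have hUp : IsPGroup 2 (Multiplicative F) := fun a => ⟨1, by
      rw [pow_one, ← ofAdd_toAdd a, ← ofAdd_nsmul, two_nsmul, add_self' h2, ofAdd_zero]⟩
    have hQ2 : IsPGroup 2 (Multiplicative Q) := by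
      intro q
      obtain ⟨z, hz⟩ := QuotientAddGroup.mk_surjective q.toAdd
      obtain ⟨k, hk⟩ := hM z
      exact ⟨k, by rw [← ofAdd_toAdd q, ← ofAdd_nsmul, ← hz, ← QuotientAddGroup.mk_nsmul, hk, QuotientAddGroup.mk_zero, ofAdd_zero]⟩
    haveI : Nontrivial Q := QuotientAddGroup.nontrivial_iff.2 hne
    obtain ⟨n, hn, hcard⟩ := hQ2.nontrivial_iff_card.1 inferInstance
    have hdvd : 2 ∣ Nat.card Q := by
      rw [Nat.card_congr Multiplicative.toAdd] at hcard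
      rw [hcard]; exact dvd_pow_self 2 hn.ne'
    have h0 : (0 : Q) ∈ MulAction.fixedPoints (Multiplicative F) Q := fun a => by
      show QuotientAddGroup.map U U (ρ (u a.toAdd)) _ (0 : Q) = 0
      exact map_zero _
    obtain ⟨q, hq, hq0⟩ := hUp.exists_fixed_point_of_prime_dvd_card_of_fixed_point Q hdvd h0
    obtain ⟨c₀, rfl⟩ := QuotientAddGroup.mk_surjective q
    have hc₀ : c₀ ∉ U := fun h => hq0 ((QuotientAddGroup.eq_zero_iff _).2 h).symm
    have hfix₀ : ∀ a : F, ρ (u a) c₀ - c₀ ∈ U := fun a =>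
      QuotientAddGroup.eq_iff_sub_mem.1 (hq (Multiplicative.ofAdd a))
    -- take an element of order two in the quotient
    obtain ⟨c₁, hc₁U, hc₁2, hfix₁⟩ : ∃ c₁, c₁ ∉ U ∧ c₁ + c₁ ∈ U ∧ ∀ a : F, ρ (u a) c₁ - c₁ ∈ U := by
      have hex : ∃ k, (2 ^ k) • c₀ ∈ U := by
        obtain ⟨k, hk⟩ := hM c₀
        exact ⟨k, hk ▸ zero_mem _⟩
      have hspec := Nat.find_spec hex
      rcases hk : Nat.find hex with _ | j
      · rw [hk, pow_zero, one_smul] at hspec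
        exact absurd hspec hc₀
      · refine ⟨(2 ^ j) • c₀, Nat.find_min hex (by omega), ?_, fun a => ?_⟩
        · rw [hk, pow_succ, mul_nsmul, two_nsmul] at hspec
          first
            | exact hspec
            | (rw [← nsmul_add]; exact hspec)
        · rw [map_nsmul, ← nsmul_sub]; exact nsmul_mem (hfix₀ a) _
    have hη : ∀ a : Fˣ, ρ (u (a : F)) c₁ - c₁ ∈ fixU ρ := by
      intro a
      obtain ⟨x, hx, k, hk, e⟩ := hmemU (hfix₁ a)
      have hu1 : ρ (u (a : F)) c₁ = c₁ + (x + ρ (w F) k) := eq_add_of_sub_eq' e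
      have h := congrArg (ρ (u (a : F))) hu1
      rw [← ρ_mul, u_mul, add_self' h2, u_zero, ρ_one, map_add, map_add, hu1, hx, huw hk] at h
      have hd0 : ρ (d a) k = 0 := by
        calc ρ (d a) k = (c₁ + (x + ρ (w F) k) + (x + (ρ (w F) k + ρ (d a) k))) - c₁ - (x + x) -
              (ρ (w F) k + ρ (w F) k) := by abel
          _ = 0 := by rw [← h, two hx, ← map_add (ρ (w F)), two hk, map_zero]; simp
      have hk0 : k = 0 := by
        have := congrArg (ρ (d a⁻¹)) hd0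
        rwa [← ρ_mul, d_mul, inv_mul_cancel, d_one, ρ_one, map_zero] at this
      rw [e, hk0, map_zero, add_zero]; exact hx
    obtain ⟨k₁, hk₁⟩ : ∃ k₁, k₁ = ρ (u ((1 : Fˣ) : F)) c₁ - c₁ := ⟨_, rfl⟩
    have hk₁C : k₁ ∈ fixU ρ := hk₁ ▸ hη 1
    obtain ⟨c, hc⟩ : ∃ c, c = c₁ + ρ (w F) k₁ := ⟨_, rfl⟩
    have hcU : c ∉ U := fun h => hc₁U (by simpa [hc] using sub_mem h (hwU hk₁C))
    obtain ⟨η, hηe⟩ : ∃ η : F → M, ∀ a, η a = ρ (u a) c - c := ⟨_, fun a => rfl⟩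
    have hu : ∀ a, ρ (u a) c = c + η a := fun a => by rw [hηe]; abel
    have hηC : ∀ a, η a ∈ fixU ρ := by
      intro a
      by_cases ha : a = 0
      · rw [hηe, ha, u_zero, ρ_one, sub_self]; exact zero_mem _
      · rw [hηe, show a = ((Units.mk0 a ha : Fˣ) : F) from rfl, hc, map_add, huw hk₁C, add_sub_add_comm,
          add_sub_cancel_left]
        exact add_mem (hη _) (d_mem_fixU ρ hk₁C _)
    have hη1 : η 1 = 0 := by
      rw [hηe, hc, map_add, show (1 : F) = ((1 : Fˣ) : F) from rfl, huw hk₁C, d_one, ρ_one, add_sub_add_comm,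
        add_sub_cancel_left, ← hk₁, two hk₁C]
    have hηadd : ∀ a b, η (a + b) = η a + η b := by
      intro a b
      have h := hu (a + b)
      rw [← u_mul, ρ_mul, hu b, map_add, hu a, hηC b a, add_assoc] at h
      exact (add_left_cancel h).symm
    have hz : c + c ∈ fixU ρ := by
      intro a
      rw [map_add, hu, add_add_add_comm, two (hηC a), add_zero]
    have hz2 := two hz
    -- the action on the image of `c` under the Weyl element
    have hW : ∀ A : Fˣ, ρ (u (A : F)) (ρ (w F) c) =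
        - ρ (d A) c - ρ (w F) c - ρ (w F) (η ((A⁻¹ : Fˣ) : F)) := by
      intro A
      obtain ⟨a, rfl⟩ : ∃ a : Fˣ, A = a⁻¹ := ⟨A⁻¹, (inv_inv A).symm⟩
      rw [inv_inv]
      have h := hR a (ρ (d a * w F) c)
      rw [← ρ_mul ρ (d a * w F) (d a * w F), wd_wd h2, ρ_one, hu] at h
      have h' := congrArg (ρ (d a * w F)) h
      rw [map_add, map_add, map_add, map_zero, ← ρ_mul ρ (d a * w F) (d a * w F), wd_wd h2, ρ_one,
        ← ρ_mul ρ (d a * w F) (d a * w F), wd_wd h2, ρ_one] at h'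
      have h'' := congrArg (ρ (d a⁻¹)) h'
      have hcv : (((a⁻¹ : Fˣ) : F)) ^ 2 * (a : F) = ((a⁻¹ : Fˣ) : F) := by
        rw [pow_two, mul_assoc, Units.inv_mul, mul_one]
      simp only [map_add, map_zero, ρ_mul ρ (d a) (w F)] at h''
      rw [← ρ_mul ρ (u (a : F)) (d a), u_mul_d, hcv, ρ_mul] at h''
      simp only [← ρ_mul ρ (d a⁻¹) (d a), d_mul, inv_mul_cancel, d_one, ρ_one] at h''
      calc ρ (u ((a⁻¹ : Fˣ) : F)) (ρ (w F) c)
          = (ρ (w F) c + ρ (w F) (η a) + ρ (u ((a⁻¹ : Fˣ) : F)) (ρ (w F) c) + ρ (d a⁻¹) c)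
            - ρ (d a⁻¹) c - ρ (w F) c - ρ (w F) (η a) := by abel
        _ = - ρ (d a⁻¹) c - ρ (w F) c - ρ (w F) (η a) := by rw [h'', zero_sub]
    have hud : ∀ (B : F) (A : Fˣ), ρ (u B) (ρ (d A) c) = ρ (d A) c + ρ (d A) (η (((A⁻¹ : Fˣ) : F) ^ 2 * B)) := by
      intro B A
      rw [← ρ_mul, u_mul_d, ρ_mul, hu, map_add]
    -- the basic equation
    have hE : ∀ A : Fˣ, ρ (d A) (η (((A⁻¹ : Fˣ) : F) ^ 2)) + η ((A⁻¹ : Fˣ) : F) + η (A : F) +
        ρ (d A) (c + c) + (c + c) = 0 := by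
      intro A
      obtain ⟨p₁, hp₁⟩ : ∃ p₁, p₁ = ρ (d A) (η (((A⁻¹ : Fˣ) : F) ^ 2)) := ⟨_, rfl⟩
      obtain ⟨p₂, hp₂⟩ : ∃ p₂, p₂ = η ((A⁻¹ : Fˣ) : F) := ⟨_, rfl⟩
      obtain ⟨p₃, hp₃⟩ : ∃ p₃, p₃ = η (A : F) := ⟨_, rfl⟩
      have hp₁2 : p₁ + p₁ = 0 := hp₁ ▸ two (d_mem_fixU ρ (hηC _) _)
      have hp₂2 : p₂ + p₂ = 0 := hp₂ ▸ two (hηC _)
      have hp₃2 : p₃ + p₃ = 0 := hp₃ ▸ two (hηC _)
      have hwp : ρ (w F) p₂ + ρ (w F) p₂ = 0 := by rw [← map_add, hp₂2, map_zero]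
      have hdz : ρ (d A) (c + c) + ρ (d A) (c + c) = 0 := by rw [← map_add, hz2, map_zero]
      have hWA := hW A
      have hW1 := hW 1
      rw [inv_one, Units.val_one, hη1, map_zero, sub_zero, d_one, ρ_one] at hW1
      have l1 : ρ (u 1) (ρ (u (A : F)) (ρ (w F) c)) =
          - (ρ (d A) c + p₁) - (- c - ρ (w F) c) - (ρ (w F) p₂ + p₂) := by
        rw [hWA, ← hp₂, map_sub, map_sub, map_neg, hud, mul_one, ← hp₁, hW1,
          show (1 : F) = ((1 : Fˣ) : F) from rfl, huw (hp₂ ▸ hηC _), d_one, ρ_one]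
      have l2 : ρ (u (A : F)) (ρ (u 1) (ρ (w F) c)) = - (c + p₃) - (- ρ (d A) c - ρ (w F) c - ρ (w F) p₂) := by
        rw [hW1, map_sub, map_neg, hu, ← hp₃, hWA, ← hp₂]
      have hl : ρ (u 1) (ρ (u (A : F)) (ρ (w F) c)) = ρ (u (A : F)) (ρ (u 1) (ρ (w F) c)) := by
        rw [← ρ_mul ρ (u 1) (u (A : F)), ← ρ_mul ρ (u (A : F)) (u 1), u_mul, u_mul, add_comm]
      rw [l1, l2] at hl
      rw [← hp₁, ← hp₂, ← hp₃]
      calc p₁ + p₂ + p₃ + ρ (d A) (c + c) + (c + c)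
          = ((- (ρ (d A) c + p₁) - (- c - ρ (w F) c) - (ρ (w F) p₂ + p₂)) -
              (- (c + p₃) - (- ρ (d A) c - ρ (w F) c - ρ (w F) p₂))) + (p₁ + p₁) + (p₂ + p₂) +
              (ρ (w F) p₂ + ρ (w F) p₂) + (ρ (d A) (c + c) + ρ (d A) (c + c)) := by
            rw [map_add]; abel
        _ = 0 := by rw [hl, sub_self, hp₁2, hp₂2, hwp, hdz]; simp
    -- solve it
    have hcancel : ∀ (a b : Fˣ) (x : M), ρ (d a) (ρ (d b) x) = ρ (d (a * b)) x := fun a b x => by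
      rw [← ρ_mul, d_mul]
    have hval : ∀ A : Fˣ, (((A⁻¹ : Fˣ) : F)) ^ 2 = (((A * A)⁻¹ : Fˣ) : F) := fun A => by
      rw [← Units.val_pow_eq_pow_val, pow_two, mul_inv]
    have hsq : ∀ Y : Fˣ, ∃ A : Fˣ, A * A = Y := by
      intro Y
      have h2c : ringChar F = 2 :=
        ringChar.eq_iff.2 (CharTwo.of_one_ne_zero_of_two_eq_zero one_ne_zero h2)
      obtain ⟨r, hr⟩ := FiniteField.isSquare_of_char_two h2c (Y : F)
      exact ⟨Units.mk0 r (fun h => Y.ne_zero (by rw [hr, h, zero_mul])), Units.ext hr.symm⟩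
    have hrefl : ∀ Y : Fˣ, η ((Y⁻¹ : Fˣ) : F) = ρ (d Y⁻¹) (η (Y : F)) + ρ (d Y⁻¹) (c + c) + (c + c) := by
      intro Y
      obtain ⟨A, rfl⟩ := hsq Y
      have e1 := hE A
      have e2 := hE A⁻¹
      rw [inv_inv, pow_two, ← Units.val_mul] at e2
      rw [hval] at e1
      have f1 := congrArg (ρ (d A⁻¹)) e1
      have f2 := congrArg (ρ (d A⁻¹)) e2
      simp only [map_add, map_zero, hcancel, inv_mul_cancel, d_one, ρ_one, ← mul_inv] at f1 f2
      have t1 := two (d_mem_fixU ρ (hηC ((A⁻¹ : Fˣ) : F)) A⁻¹)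
      have t2 := two (d_mem_fixU ρ (hηC (A : F)) A⁻¹)
      have t3 := two (d_mem_fixU ρ (hηC ((A * A : Fˣ) : F)) (A * A)⁻¹)
      have t4 := two (d_mem_fixU ρ hz (A * A)⁻¹)
      have t5 := two (d_mem_fixU ρ hz A⁻¹)
      rw [map_add] at t4 t5 ⊢
      calc η (((A * A)⁻¹ : Fˣ) : F)
          = ((η (((A * A)⁻¹ : Fˣ) : F) + ρ (d A⁻¹) (η ((A⁻¹ : Fˣ) : F)) + ρ (d A⁻¹) (η (A : F)) + (c + c) +
              (ρ (d A⁻¹) c + ρ (d A⁻¹) c)) +
            (ρ (d (A * A)⁻¹) (η ((A * A : Fˣ) : F)) + ρ (d A⁻¹) (η (A : F)) + ρ (d A⁻¹) (η ((A⁻¹ : Fˣ) : F)) +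
              (ρ (d (A * A)⁻¹) c + ρ (d (A * A)⁻¹) c) + (ρ (d A⁻¹) c + ρ (d A⁻¹) c))) -
            (ρ (d A⁻¹) (η ((A⁻¹ : Fˣ) : F)) + ρ (d A⁻¹) (η ((A⁻¹ : Fˣ) : F))) -
            (ρ (d A⁻¹) (η (A : F)) + ρ (d A⁻¹) (η (A : F))) -
            (ρ (d (A * A)⁻¹) (η ((A * A : Fˣ) : F)) + ρ (d (A * A)⁻¹) (η ((A * A : Fˣ) : F))) -
            ((ρ (d (A * A)⁻¹) c + ρ (d (A * A)⁻¹) c) + (ρ (d (A * A)⁻¹) c + ρ (d (A * A)⁻¹) c)) -
            ((ρ (d A⁻¹) c + ρ (d A⁻¹) c) + (ρ (d A⁻¹) c + ρ (d A⁻¹) c)) -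
            ((c + c) + (c + c)) +
            (ρ (d (A * A)⁻¹) (η ((A * A : Fˣ) : F)) + (ρ (d (A * A)⁻¹) c + ρ (d (A * A)⁻¹) c) + (c + c)) := by abel
        _ = _ := by
            rw [t1, t2, t3, t4, t5, hz2, add_assoc (η (((A * A)⁻¹ : Fˣ) : F))]
            simp only [sub_zero]
            rw [← add_assoc (η (((A * A)⁻¹ : Fˣ) : F)), f1, f2, zero_add, zero_add]
    have hsquare : ∀ A : Fˣ, η ((A : F) * A) = ρ (d A) (η (A : F)) + η (A : F) := by
      intro A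
      have e2 := hE A⁻¹
      rw [inv_inv, hrefl A, pow_two] at e2
      have f2 := congrArg (ρ (d A)) e2
      simp only [map_add, map_zero, hcancel, mul_inv_cancel, d_one, ρ_one] at f2
      have t1 := two (hηC (A : F))
      have t2 := two (d_mem_fixU ρ hz A)
      have t3 := two (d_mem_fixU ρ (hηC (A : F)) A)
      rw [map_add] at t2
      calc η ((A : F) * A)
          = (η ((A : F) * A) + ρ (d A) (η (A : F)) + (η (A : F) + (c + c) + (ρ (d A) c + ρ (d A) c)) + (c + c) +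
              (ρ (d A) c + ρ (d A) c)) - ((c + c) + (c + c)) -
              ((ρ (d A) c + ρ (d A) c) + (ρ (d A) c + ρ (d A) c)) -
              (ρ (d A) (η (A : F)) + ρ (d A) (η (A : F))) - (η (A : F) + η (A : F)) +
              (ρ (d A) (η (A : F)) + η (A : F)) := by abel
        _ = _ := by rw [f2, hz2, t2, t3, t1]; simp
    refine hcU (hCU fun a => ?_)
    rw [hu, add_eq_left]
    by_cases ha0 : a = 0
    · rw [hηe, ha0, u_zero, ρ_one, sub_self]
    by_cases ha1 : a = 1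
    · rw [ha1, hη1]
    obtain ⟨A, hA⟩ : ∃ A : Fˣ, (A : F) = a := ⟨Units.mk0 a ha0, rfl⟩
    have hb0 : a + 1 ≠ 0 := fun h => ha1 (by linear_combination h - h2)
    obtain ⟨B, hB⟩ : ∃ B : Fˣ, (B : F) = a + 1 := ⟨Units.mk0 _ hb0, rfl⟩
    have s1 := hsquare A
    have s2 := hsquare B
    rw [hA] at s1
    rw [hB, hηadd a 1, hη1, add_zero,
      show (a + 1) * (a + 1) = a * a + 1 by linear_combination a * h2, hηadd (a * a) 1, hη1, add_zero, s1,
      add_left_inj, dadd (hηC a) A 1 B (by rw [hA, hB, Units.val_one]), d_one, ρ_one, left_eq_add] at s2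
    exact s2
  have hdec : ∀ z : M, ∃ x ∈ fixU ρ, ∃ y ∈ fixL ρ, z = x + y := fun z => by
    obtain ⟨x, hx, y, hy, e⟩ := AddSubgroup.mem_sup.1 (show z ∈ fixU ρ ⊔ fixL ρ from hU ▸ htop ▸ AddSubgroup.mem_top z)
    exact ⟨x, hx, y, hy, e.symm⟩
  refine ⟨fun v => hU2 (htop ▸ AddSubgroup.mem_top v), hdisj, hdec, fun y hy => ⟨hy, fun a => ?_⟩⟩
  obtain ⟨k, hk, rfl⟩ := hLW hy
  by_cases ha : a = 0
  · rw [ha, u_zero, ρ_one, sub_self]; exact zero_mem _
  · rw [show a = ((Units.mk0 a ha : Fˣ) : F) from rfl, huw hk, add_sub_cancel_left]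
    exact d_mem_fixU ρ hk _

end

/-- A decomposed module is a direct sum of natural modules. -/
theorem exists_sum_natural [Finite M] (hdisj : ∀ x ∈ fixU ρ, x ∈ fixL ρ → x = 0)
    (hdec : ∀ z : M, ∃ x ∈ fixU ρ, ∃ y ∈ fixL ρ, z = x + y) (hquad : fixL ρ ≤ quadPart ρ) :
    ∃ (k : ℕ) (T : (Fin k → Fin 2 → F) →+ M), Function.Bijective T ∧
      ∀ (g : SL(2, F)) (v : Fin k → Fin 2 → F),
        T (fun i => (g : Matrix (Fin 2) (Fin 2) F).mulVec (v i)) = ρ g (T v) := by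
  classical
  let P : AddSubgroup M → Prop := fun U => ∃ (k : ℕ) (T : (Fin k → Fin 2 → F) →+ M), Function.Injective T ∧
      T.range = U ∧ ∀ (g : SL(2, F)) (v : Fin k → Fin 2 → F),
        T (fun i => (g : Matrix (Fin 2) (Fin 2) F).mulVec (v i)) = ρ g (T v)
  have hP : P ⊥ := by
    refine ⟨0, 0, fun a b _ => funext fun i => i.elim0, ?_, fun g v => ?_⟩
    · refine le_bot_iff.1 ?_
      rintro _ ⟨v, rfl⟩
      exact AddSubgroup.mem_bot.2 rfl
    · show (0 : M) = ρ g 0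
      rw [map_zero]
  haveI : Finite (AddSubgroup M) := Finite.of_injective SetLike.coe SetLike.coe_injective
  obtain ⟨U, ⟨k, T, hTi, hTr, hT⟩, hmax⟩ := (Set.toFinite {U | P U}).exists_maximal ⟨⊥, hP⟩
  suffices htop : U = ⊤ from ⟨k, T, ⟨hTi, AddMonoidHom.range_eq_top.1 (hTr.trans htop)⟩, hT⟩
  have hUinv : ∀ (g : SL(2, F)), ∀ z ∈ U, ρ g z ∈ U := by
    intro g z hz
    obtain ⟨v, rfl⟩ := (hTr ▸ hz : z ∈ T.range)
    exact hTr ▸ ⟨_, hT g v⟩
  by_contra hne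
  obtain ⟨e, he, heU⟩ : ∃ e ∈ fixU ρ, e ∉ U := by
    by_contra hcon
    push Not at hcon
    refine hne (top_le_iff.1 fun z _ => ?_)
    obtain ⟨x, hx, y, hy, rfl⟩ := hdec z
    refine add_mem (hcon x hx) ?_
    rw [← ρ_cancel ρ (w F)⁻¹ y]
    exact hUinv _ _ (by rw [inv_inv]; exact hcon _ (w_mem_fixU ρ hy))
  obtain ⟨Φ, hΦe, hΦi, hΦ⟩ := exists_natural ρ hdisj hdec hquad he
  have he0 : e ≠ 0 := fun h => heU (h ▸ zero_mem U)
  -- the new summand meets `U` trivially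
  have hmeet : ∀ v, Φ v ∈ U → v = 0 := by
    by_contra hcon
    push Not at hcon
    obtain ⟨v, hv, hv0⟩ := hcon
    refine heU ?_
    obtain ⟨g, hg⟩ : ∃ g : SL(2, F), (g : Matrix (Fin 2) (Fin 2) F).mulVec v = ![1, 0] := by
      by_cases h1 : v 1 = 0
      · have h0 : v 0 ≠ 0 := fun h0 => hv0 (funext fun i => by fin_cases i <;> assumption)
        refine ⟨⟨!![(v 0)⁻¹, 0; 0, v 0], by simp [det_fin_two, h0]⟩, ?_⟩
        funext i; fin_cases i <;> simp [Matrix.mulVec, dotProduct, Fin.sum_univ_two, h1, h0]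
      · refine ⟨⟨!![0, (v 1)⁻¹; -(v 1), v 0], by simp [det_fin_two, h1]⟩, ?_⟩
        funext i; fin_cases i <;> simp [Matrix.mulVec, dotProduct, Fin.sum_univ_two, h1] <;> ring
    rw [← hΦe, ← hg, hΦ]
    exact hUinv g _ hv
  let T' : (Fin (k + 1) → Fin 2 → F) →+ M :=
    AddMonoidHom.mk' (fun v => T (fun i => v i.succ) + Φ (v 0)) fun v v' => by
      rw [show (fun i : Fin k => (v + v') i.succ) = (fun i => v i.succ) + fun i => v' i.succ from rfl,
        Pi.add_apply, map_add, map_add]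
      abel
  have hT'i : Function.Injective T' := by
    rw [injective_iff_map_eq_zero]
    intro v hv
    have h0 : v 0 = 0 := hmeet _ (by
      rw [← hTr, show Φ (v 0) = - T (fun i => v i.succ) from eq_neg_of_add_eq_zero_right hv]
      exact neg_mem ⟨_, rfl⟩)
    have h1 : T (fun i => v i.succ) = 0 := by
      have : T (fun i => v i.succ) + Φ (v 0) = 0 := hv
      rwa [h0, map_zero, add_zero] at this
    have h2 := hTi (h1.trans (map_zero T).symm)
    funext i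
    refine Fin.cases h0 (fun j => congrFun h2 j) i
  have hP' : P T'.range := ⟨k + 1, T', hT'i, rfl, fun g v => by
    show T _ + Φ _ = ρ g (T _ + Φ _)
    rw [map_add, ← hT, ← hΦ]⟩
  have hle : U ≤ T'.range := by
    rintro z hz
    obtain ⟨v, rfl⟩ := (hTr ▸ hz : z ∈ T.range)
    exact ⟨Fin.cons 0 v, by show T _ + Φ _ = T v; simp⟩
  refine heU (hmax hP' hle ⟨Fin.cons ![1, 0] 0, ?_⟩)
  show T _ + Φ _ = e
  simp only [Fin.cons_succ, Fin.cons_zero]
  rw [show (fun i => (0 : Fin k → Fin 2 → F) i) = 0 from rfl, map_zero, zero_add, hΦe]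

end Cfsg.Lib.Linear.SLTwoFPF

namespace Cfsg.Lib.Linear.SLTwoFPF

open Matrix SLTwoNatural
open scoped MatrixGroups

variable {F : Type*} [Field F]

/-- An element of trace one is conjugate to the companion matrix. -/
theorem exists_conj_companion [Finite F] (h2 : (2 : F) = 0) (C : SL(2, F))
    (hC : (C : Matrix (Fin 2) (Fin 2) F) = !![0, 1; 1, 1]) (A : SL(2, F)) (ht : A 0 0 + A 1 1 = 1) :
    ∃ h : SL(2, F), h * C * h⁻¹ = A := by
  classical
  haveI := Fintype.ofFinite F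
  have hdet : A 0 0 * A 1 1 - A 0 1 * A 1 0 = 1 := (det_fin_two _).symm.trans A.2
  obtain ⟨v, hv⟩ : ∃ v : Fin 2 → F,
      v 0 * ((A : Matrix (Fin 2) (Fin 2) F) *ᵥ v) 1 - v 1 * ((A : Matrix (Fin 2) (Fin 2) F) *ᵥ v) 0 ≠ 0 := by
    by_cases h1 : A 1 0 = 0
    · by_cases h0 : A 0 1 = 0
      · refine ⟨![1, 1], ?_⟩
        simp [Matrix.mulVec, dotProduct, Fin.sum_univ_two, h1, h0]
        intro h
        have : (1 : F) = 0 := by linear_combination h - ht + A 0 0 * h2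
        exact one_ne_zero this
      · refine ⟨![0, 1], ?_⟩
        simpa [Matrix.mulVec, dotProduct, Fin.sum_univ_two] using h0
    · refine ⟨![1, 0], ?_⟩
      simpa [Matrix.mulVec, dotProduct, Fin.sum_univ_two] using h1
  obtain ⟨δ, hδ⟩ : ∃ δ, δ = v 0 * ((A : Matrix (Fin 2) (Fin 2) F) *ᵥ v) 1 - v 1 * ((A : Matrix (Fin 2) (Fin 2) F) *ᵥ v) 0 :=
    ⟨_, rfl⟩
  rw [← hδ] at hv
  obtain ⟨s, hs⟩ := FiniteField.isSquare_of_char_two
    (ringChar.eq_iff.2 (CharTwo.of_one_ne_zero_of_two_eq_zero one_ne_zero h2)) δ⁻¹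
  have hsδ : s * s * δ = 1 := by rw [← hs, inv_mul_cancel₀ hv]
  have hw0 : ((A : Matrix (Fin 2) (Fin 2) F) *ᵥ v) 0 = A 0 0 * v 0 + A 0 1 * v 1 := by
    simp [Matrix.mulVec, dotProduct, Fin.sum_univ_two]
  have hw1 : ((A : Matrix (Fin 2) (Fin 2) F) *ᵥ v) 1 = A 1 0 * v 0 + A 1 1 * v 1 := by
    simp [Matrix.mulVec, dotProduct, Fin.sum_univ_two]
  rw [hw0, hw1] at hδ
  obtain ⟨P, hP⟩ : ∃ P : SL(2, F), (P : Matrix (Fin 2) (Fin 2) F) =
      !![s * v 0, s * (A 0 0 * v 0 + A 0 1 * v 1); s * v 1, s * (A 1 0 * v 0 + A 1 1 * v 1)] := ⟨⟨_, by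
    rw [det_fin_two]
    simp
    linear_combination hsδ - s * s * hδ⟩, rfl⟩
  refine ⟨P, ?_⟩
  rw [mul_inv_eq_iff_eq_mul]
  refine ext2 ?_
  rw [Matrix.SpecialLinearGroup.coe_mul, Matrix.SpecialLinearGroup.coe_mul, hC, hP]
  ext i j
  fin_cases i <;> fin_cases j <;> simp [Matrix.mul_apply, Fin.sum_univ_two] <;>
    first
      | linear_combination (s * v 0) * hdet + (s * v 0) * h2 - (s * v 0 * A 0 0 + s * v 1 * A 0 1) * ht
      | linear_combination (s * v 1) * hdet + (s * v 1) * h2 - (s * v 1 * A 1 1 + s * v 0 * A 1 0) * ht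
      | linear_combination (0 : F) * hdet

variable {M : Type*} [AddCommGroup M] {N : Type*} [AddCommGroup N]

/-- An equivariant symmetric pairing between decomposed modules vanishes. -/
theorem pairing_zero (ρ : SL(2, F) →* AddMonoid.End M) (σ : SL(2, F) →* AddMonoid.End N)
    (hF : ∃ a : Fˣ, (a : F) ≠ 1) (h2 : (2 : F) = 0)
    (hu : ∀ k ∈ fixU ρ, ∀ a : Fˣ, ρ (u (a : F)) (ρ (w F) k) = ρ (w F) k + ρ (d a) k)
    (huσ : ∀ k ∈ fixU σ, ∀ a : Fˣ, σ (u (a : F)) (σ (w F) k) = σ (w F) k + σ (d a) k)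
    (hdecρ : ∀ z : M, ∃ x ∈ fixU ρ, ∃ y ∈ fixU ρ, z = x + ρ (w F) y)
    (hdecσ : ∀ z : N, ∃ x ∈ fixU σ, ∃ y ∈ fixU σ, z = x + σ (w F) y)
    (hdisjσ : ∀ x ∈ fixU σ, x ∈ fixL σ → x = 0)
    (htwo : ∀ y : N, y + y = 0)
    (haddσ : ∀ y ∈ fixU σ, ∀ a b c : Fˣ, (a : F) + b = c → σ (d c) y = σ (d a) y + σ (d b) y)
    (B : M →+ M →+ N) (heq : ∀ g v v', B (ρ g v) (ρ g v') = σ g (B v v')) (hsym : ∀ v v', B v v' = B v' v)
    (v v' : M) : B v v' = 0 := by
  obtain ⟨a, ha⟩ := hF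
  have hww : w F * w F = 1 := by
    rw [w_mul_w, show (-1 : Fˣ) = 1 from Units.ext (by push_cast; linear_combination (-1 : F) * h2), d_one]
  have hwρ : ∀ z, ρ (w F) (ρ (w F) z) = z := fun z => by rw [← ρ_mul, hww, ρ_one]
  have hCC : ∀ c ∈ fixU ρ, ∀ k ∈ fixU ρ, B c k ∈ fixU σ := fun c hc k hk t => by
    rw [← heq, hc, hk]
  have hmain : ∀ c ∈ fixU ρ, ∀ k ∈ fixU ρ, ∀ t : Fˣ,
      ∃ P ∈ fixU σ, B c (ρ (w F) k) = P + σ (w F) (B c k) ∧ B c (ρ (d t) k) = σ (d t) (B c k) := by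
    intro c hc k hk t
    obtain ⟨P, hP, R, hR, hPR⟩ := hdecσ (B c (ρ (w F) k))
    have key : ∀ t : Fˣ, B c (ρ (d t) k) = σ (d t) R := by
      intro t
      have h := heq (u (t : F)) c (ρ (w F) k)
      rw [hc, hu k hk, map_add, hPR, map_add, hP, huσ R hR, ← add_assoc] at h
      exact add_left_cancel h
    have h1 := key 1
    rw [d_one, ρ_one, ρ_one] at h1
    exact ⟨P, hP, by rw [hPR, h1], by rw [key, h1]⟩
  have hlin : ∀ c ∈ fixU ρ, ∀ k ∈ fixU ρ, ∀ t : Fˣ, B c (ρ (d t) k) = σ (d t) (B c k) := fun c hc k hk t => by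
    obtain ⟨_, _, _, h⟩ := hmain c hc k hk t; exact h
  have hfix : ∀ c ∈ fixU ρ, ∀ k ∈ fixU ρ, ∀ t : Fˣ, σ (d t) (B c k) = B c k := by
    intro c hc k hk t
    have h := heq (d t) c k
    rw [hlin _ (d_mem_fixU ρ hc t) k hk, hsym (ρ (d t) c) k, hlin k hk c hc, hsym k c] at h
    have := congrArg (σ (d t⁻¹)) h
    rwa [← ρ_mul, d_mul, inv_mul_cancel, d_one, ρ_one, ← ρ_mul, d_mul, inv_mul_cancel, d_one, ρ_one] at this
  have hCC0 : ∀ c ∈ fixU ρ, ∀ k ∈ fixU ρ, B c k = 0 := by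
    intro c hc k hk
    have hb0 : (a : F) + 1 ≠ 0 := fun h => ha (by linear_combination h - h2)
    have h := haddσ _ (hCC c hc k hk) a (Units.mk0 _ hb0) 1
      (by rw [Units.val_mk0, Units.val_one]; linear_combination (a : F) * h2)
    rwa [hfix c hc k hk, hfix c hc k hk, hfix c hc k hk, htwo] at h
  have hCL : ∀ c ∈ fixU ρ, ∀ k ∈ fixU ρ, B c (ρ (w F) k) = 0 := by
    intro c hc k hk
    obtain ⟨P, hP, e, -⟩ := hmain c hc k hk 1
    rw [hCC0 c hc k hk, map_zero, add_zero] at e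
    obtain ⟨P', hP', e', -⟩ := hmain k hk c hc 1
    rw [hCC0 k hk c hc, map_zero, add_zero] at e'
    have h := heq (w F) c (ρ (w F) k)
    rw [hwρ, hsym, e', e] at h
    have hP0 : P' = 0 := hdisjσ P' hP' (h ▸ w_mem_fixL σ hP)
    rw [e]
    have h' := congrArg (σ (w F)) h
    rw [← ρ_mul, hww, ρ_one, hP0, map_zero] at h'
    exact h'.symm
  obtain ⟨x, hx, y, hy, rfl⟩ := hdecρ v
  obtain ⟨x', hx', y', hy', rfl⟩ := hdecρ v'
  simp only [map_add, AddMonoidHom.add_apply]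
  rw [hCC0 x hx x' hx', hCL x hx y' hy',
    hsym (ρ (w F) y) x', hCL x' hx' y hy, heq, hCC0 y hy y' hy', map_zero]
  simp

end Cfsg.Lib.Linear.SLTwoFPF
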