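import Mathlib
import Cfsg.Agent.Lib.Linear.GLTwo
import Cfsg.Agent.Lib.Linear.SLTwoNatural
import Cfsg.Agent.S2904

/-!
The index of the fixed points of a quadratic root element on a faithful `SL₂(pⁿ)`-module is at least `pⁿ`.
-/

set_option autoImplicit false

namespace Cfsg.Lib.Linear.SLTwoNatural

open Matrix
open scoped MatrixGroups

section Fix

variable {G : Type*} [Group G] {M : Type*} [AddCommGroup M] (ρ : G →* AddMonoid.End M)

/-- Fixed points of one element. -/
def fixOne (g : G) : AddSubgroup M where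
  carrier := {x | ρ g x = x}
  add_mem' := fun {x y} (hx : ρ g x = x) (hy : ρ g y = y) => show ρ g (x + y) = x + y by rw [map_add, hx, hy]
  zero_mem' := map_zero (ρ g)
  neg_mem' := fun {x} (hx : ρ g x = x) => show ρ g (-x) = -x by rw [map_neg, hx]

theorem mem_fixOne {g : G} {x : M} : x ∈ fixOne ρ g ↔ ρ g x = x := Iff.rfl

theorem act_mul (g h : G) (x : M) : ρ (g * h) x = ρ g (ρ h x) := by rw [map_mul]; rfl

theorem act_one (x : M) : ρ 1 x = x := by rw [map_one]; rfl

theorem act_pow_fix {g : G} {x : M} (hx : ρ g x = x) (k : ℕ) : ρ (g ^ k) x = x := by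
  induction k with
  | zero => rw [pow_zero, act_one]
  | succ k ih => rw [pow_succ, act_mul, hx, ih]

/-- A vector moved by `g ^ l ^ r`, `g` of order `l ^ (r+1)`, gives an index congruent to one. -/
theorem index_fix_modEq [Finite M] {l r : ℕ} [Fact l.Prime] (g : G) (hg : g ^ l ^ (r + 1) = 1) :
    (l ^ (r + 1) : ℕ) ∣ Nat.card M - Nat.card (fixOne ρ (g ^ l ^ r)) := by
  classical
  haveI := Fintype.ofFinite M
  let e : Equiv.Perm M :=
    ⟨fun x => ρ g x, fun x => ρ g⁻¹ x, fun x => by simp only; rw [← act_mul, inv_mul_cancel, act_one],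
      fun x => by simp only; rw [← act_mul, mul_inv_cancel, act_one]⟩
  have hek : ∀ k x, (e ^ k) x = ρ (g ^ k) x := by
    intro k
    induction k with
    | zero => intro x; rw [pow_zero, pow_zero, act_one]; rfl
    | succ k ih => intro x; rw [pow_succ', pow_succ', Equiv.Perm.mul_apply, ih, act_mul]; rfl
  have he : e ^ l ^ (r + 1) = 1 := Equiv.ext fun x => by rw [hek, hg, act_one]; rfl
  -- points moved by the last nontrivial power
  obtain ⟨Y, hY⟩ : ∃ Y : Finset M, Y = Finset.univ.filter fun x => (e ^ l ^ r) x ≠ x := ⟨_, rfl⟩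
  have hYc : Y.card = Nat.card M - Nat.card (fixOne ρ (g ^ l ^ r)) := by
    rw [Nat.card_eq_fintype_card, Nat.card_eq_fintype_card,
      Fintype.card_of_subtype (Finset.univ.filter fun x => (e ^ l ^ r) x = x) (fun x => by simp [mem_fixOne, hek]), hY]
    have h := Finset.card_filter_add_card_filter_not (fun x => (e ^ l ^ r) x = x) (s := Finset.univ)
    rw [Finset.card_univ] at h
    exact Nat.eq_sub_of_add_eq' h
  rw [← hYc]
  -- each orbit in `Y` is regular
  haveI : NeZero (l ^ (r + 1)) := ⟨pow_ne_zero _ (Fact.out : l.Prime).ne_zero⟩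
  let H := Subgroup.zpowers e
  have hfree : ∀ x ∈ Y, Nat.card (MulAction.orbit H x) = l ^ (r + 1) := by
    intro x hx
    rw [hY, Finset.mem_filter] at hx
    have h1 : Nat.card H ∣ l ^ (r + 1) := by rw [Nat.card_zpowers]; exact orderOf_dvd_of_pow_eq_one he
    obtain ⟨j, -, hj⟩ := (Nat.dvd_prime_pow (Fact.out : l.Prime)).1 h1
    have h2 : Nat.card (MulAction.orbit H x) ∣ l ^ (r + 1) := by
      refine dvd_trans ?_ h1
      rw [Nat.card_congr (MulAction.orbitEquivQuotientStabilizer H x), ← Subgroup.index]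
      exact Subgroup.index_dvd_card _
    obtain ⟨i, hi, hi'⟩ := (Nat.dvd_prime_pow (Fact.out : l.Prime)).1 h2
    rcases Nat.lt_or_ge i (r + 1) with hlt | hge
    · exfalso
      refine hx.2 ?_
      have hmin : Function.minimalPeriod e x = l ^ i := by
        rw [← hi', Nat.card_congr (MulAction.orbitZPowersEquiv e x).symm.symm, Nat.card_zmod]
        rfl
      have hper : Function.IsPeriodicPt e (l ^ r) x :=
        (Function.isPeriodicPt_minimalPeriod e x).trans_dvd (hmin ▸ pow_dvd_pow l (by omega))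
      rw [Equiv.Perm.coe_pow]
      exact hper
    · rw [hi', le_antisymm hi hge]
  have hinv : ∀ x ∈ Y, ∀ h : H, h • x ∈ Y := by
    intro x hx h
    rw [hY, Finset.mem_filter] at hx ⊢
    refine ⟨Finset.mem_univ _, fun hcon => hx.2 ?_⟩
    have hc : Commute (e ^ l ^ r) h.1 := by
      obtain ⟨k, hk⟩ := h.2
      rw [← hk]
      exact (Commute.refl e).pow_left _ |>.zpow_right _
    have := congrArg (fun z => h.1⁻¹ z) hcon
    rw [show h • x = h.1 x from rfl, ← Equiv.Perm.mul_apply (e ^ l ^ r), hc.eq, Equiv.Perm.mul_apply] at this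
    simpa using this
  -- partition `Y` by orbits
  let f : M → Quotient (MulAction.orbitRel H M) := Quotient.mk''
  rw [Finset.card_eq_sum_card_image f Y]
  refine Finset.dvd_sum fun q hq => ?_
  obtain ⟨x, hx, rfl⟩ := Finset.mem_image.1 hq
  rw [← hfree x hx, Nat.card_eq_card_finite_toFinset (Set.toFinite _)]
  refine dvd_of_eq (congrArg Finset.card ?_)
  ext z
  rw [Set.Finite.mem_toFinset, Finset.mem_filter]
  constructor
  · intro hz
    obtain ⟨h, rfl⟩ := hz
    exact ⟨hinv x hx h, Quotient.sound' ⟨h, rfl⟩⟩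
  · exact fun hz => Quotient.exact' hz.2

/-- The index of the fixed points of a prime power element is large. -/
theorem le_index_fix [Finite M] {p l r N : ℕ} [Fact p.Prime] [Fact l.Prime] (hlp : ¬ l ∣ p)
    (hM : ∀ x : M, p • x = 0) (g : G) (hg : g ^ l ^ (r + 1) = 1) (hne : fixOne ρ (g ^ l ^ r) ≠ ⊤)
    (hN : ∀ k, 0 < k → k < N → ¬ l ^ (r + 1) ∣ p ^ k - 1) : p ^ N ≤ (fixOne ρ (g ^ l ^ r)).index := by
  obtain ⟨C, hC⟩ : ∃ C, C = fixOne ρ (g ^ l ^ r) := ⟨_, rfl⟩
  rw [← hC] at hne ⊢
  have hp : IsPGroup p (Multiplicative M) := fun x => ⟨1, by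
    rw [pow_one, ← ofAdd_toAdd x, ← ofAdd_nsmul, hM, ofAdd_zero]⟩
  obtain ⟨j, hj⟩ : ∃ j, C.index = p ^ j := by
    obtain ⟨m, hm⟩ := hp.exists_card_eq
    rw [Nat.card_congr Multiplicative.toAdd] at hm
    obtain ⟨j, -, hj⟩ := (Nat.dvd_prime_pow (Fact.out : p.Prime)).1 (hm ▸ C.index_dvd_card)
    exact ⟨j, hj⟩
  have hd : l ^ (r + 1) ∣ p ^ j - 1 := by
    have h := index_fix_modEq ρ g hg
    rw [← hC, ← C.card_mul_index, hj, ← Nat.mul_sub_one] at h
    refine Nat.Coprime.dvd_of_dvd_mul_left (Nat.Coprime.pow_left _ ?_) h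
    obtain ⟨m, hm⟩ := (hp.to_subgroup C.toSubgroup).exists_card_eq
    rw [show Nat.card C = p ^ m from hm]
    exact Nat.Coprime.pow_right _ ((Nat.Prime.coprime_iff_not_dvd (Fact.out : l.Prime)).2 hlp)
  have hj0 : 0 < j := by
    by_contra h0
    rw [show j = 0 by omega, pow_zero, AddSubgroup.index_eq_one] at hj
    exact hne hj
  rw [hj]
  refine Nat.pow_le_pow_right (Fact.out : p.Prime).pos ?_
  by_contra hlt
  exact hN j hj0 (by omega) hd

end Fix

section SL

variable {F : Type*} [Field F]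

/-- Conjugation by a diagonal matrix of determinant `c`. -/
def diagConj (c : Fˣ) : SL(2, F) ≃* SL(2, F) where
  toFun g := ⟨!![g 0 0, (c : F) * g 0 1; ((c⁻¹ : Fˣ) : F) * g 1 0, g 1 1], by
    have h : g 0 0 * g 1 1 - g 0 1 * g 1 0 = 1 := (det_fin_two _).symm.trans g.2
    rw [det_fin_two]
    simp
    have hc := c.ne_zero
    field_simp
    linear_combination h⟩
  invFun g := ⟨!![g 0 0, ((c⁻¹ : Fˣ) : F) * g 0 1; (c : F) * g 1 0, g 1 1], by
    have h : g 0 0 * g 1 1 - g 0 1 * g 1 0 = 1 := (det_fin_two _).symm.trans g.2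
    rw [det_fin_two]
    simp
    have hc := c.ne_zero
    field_simp
    linear_combination h⟩
  left_inv g := ext2 (by ext i j; fin_cases i <;> fin_cases j <;> simp)
  right_inv g := ext2 (by ext i j; fin_cases i <;> fin_cases j <;> simp)
  map_mul' g h := ext2 (by
    show !![(g * h : SL(2, F)) 0 0, (c : F) * (g * h : SL(2, F)) 0 1;
        ((c⁻¹ : Fˣ) : F) * (g * h : SL(2, F)) 1 0, (g * h : SL(2, F)) 1 1] =
      !![g 0 0, (c : F) * g 0 1; ((c⁻¹ : Fˣ) : F) * g 1 0, g 1 1] *
        !![h 0 0, (c : F) * h 0 1; ((c⁻¹ : Fˣ) : F) * h 1 0, h 1 1]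
    have hc := c.ne_zero
    rw [Matrix.mul_fin_two]
    ext i j
    fin_cases i <;> fin_cases j <;>
      simp [Matrix.SpecialLinearGroup.coe_mul, Matrix.mul_apply, Fin.sum_univ_two] <;> field_simp)

theorem diagConj_u (c : Fˣ) (a : F) : diagConj c (u a) = u ((c : F) * a) := ext2 (by
  show !![(u a : SL(2, F)) 0 0, (c : F) * (u a : SL(2, F)) 0 1; ((c⁻¹ : Fˣ) : F) * (u a : SL(2, F)) 1 0,
    (u a : SL(2, F)) 1 1] = _
  simp [u_coe])

variable {M : Type*} [AddCommGroup M] (ρ : SL(2, F) →* AddMonoid.End M)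

theorem w_eq : w F = u 1 * l (-1) * u 1 := by
  have := braid (1 : Fˣ)
  rw [d_one, one_mul, inv_one, Units.val_one] at this
  exact this.symm

theorem l_neg_one : l (-1 : F) = w F * u 1 * (w F)⁻¹ := by
  rw [show w F * u 1 = l (-1) * w F by rw [l_mul_w, neg_neg], mul_inv_cancel_right]

theorem d_conj_u (t : Fˣ) (a : F) : d t * u a * (d t)⁻¹ = u ((t : F) ^ 2 * a) := by
  rw [mul_inv_eq_iff_eq_mul, u_mul_d]
  congr 2
  have h := t.ne_zero
  field_simp
  simp

/-- Additive combinations of squares cover the field. -/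
theorem squares_span [Finite F] (P : F → Prop) (hadd : ∀ a b, P a → P b → P (a + b)) (hneg : ∀ a, P a → P (-a))
    (hsq : ∀ c, P (c * c)) (x : F) : P x := by
  haveI := Fintype.ofFinite F
  by_cases h2 : ringChar F = 2
  · obtain ⟨c, rfl⟩ := FiniteField.isSquare_of_char_two h2 x
    exact hsq c
  · have two : (2 : F) ≠ 0 := Ring.two_ne_zero h2
    rw [show x = ((x + 1) / 2) * ((x + 1) / 2) + -(((x - 1) / 2) * ((x - 1) / 2)) by field_simp; ring]
    exact hadd _ _ (hsq _) (hneg _ (hsq _))

/-- If one root element is trivial then so is the whole group. -/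
theorem all_trivial [Finite F] {c : F} (hc : c ≠ 0) (h : ∀ x, ρ (u c) x = x) (g : SL(2, F)) (x : M) : ρ g x = x := by
  have hu : ∀ a, ∀ x, ρ (u a) x = x := by
    suffices ∀ s, ∀ x, ρ (u (s * c)) x = x from fun a x => by simpa [hc] using this (a / c) x
    refine fun s => squares_span (fun s => ∀ x, ρ (u (s * c)) x = x) ?_ ?_ ?_ s
    · intro a b ha hb x
      rw [add_mul, ← u_mul, ρ_mul, hb, ha]
    · intro a ha x
      conv_lhs => rw [← ha x, ← ρ_mul, u_mul, neg_mul, neg_add_cancel, u_zero, ρ_one]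
    · intro t x
      by_cases ht : t = 0
      · rw [ht, mul_zero, zero_mul, u_zero, ρ_one]
      · rw [show t * t * c = ((Units.mk0 t ht : Fˣ) : F) ^ 2 * c by rw [Units.val_mk0]; ring, ← d_conj_u,
          ρ_mul, ρ_mul, h, ← ρ_mul, mul_inv_cancel, ρ_one]
  induction g using gen_induction generalizing x with
  | hu a => exact hu a x
  | hw =>
    have hl : ρ (l (-1)) x = x := by
      rw [l_neg_one, ρ_mul, ρ_mul, hu, ← ρ_mul, mul_inv_cancel, ρ_one]
    rw [w_eq, ρ_mul, ρ_mul, hu 1 x, hl, hu]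
  | hmul g h hg hh => rw [ρ_mul, hh, hg]

/-- A quadratic root element is trivial on a module for the projective group. -/
theorem trivial_of_quadratic_proj [Finite F] {p : ℕ} [Fact p.Prime] [CharP F p] (hp : p ≠ 2)
    (hq : 5 ≤ Nat.card F) (hM : ∀ x : M, p • x = 0) (hz : ∀ x, ρ (d (-1)) x = x)
    (hquad : ∀ x, ρ (u 1) (ρ (u 1) x - x) = ρ (u 1) x - x) (g : SL(2, F)) (x : M) : ρ g x = x := by
  classical
  have hww : ∀ y, ρ (w F) (ρ (w F) y) = y := fun y => by rw [← ρ_mul, w_mul_w, hz]
  obtain ⟨e, he⟩ : ∃ e : M →+ M, ∀ y, e y = ρ (u 1) y - y :=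
    ⟨AddMonoidHom.mk' (fun y => ρ (u 1) y - y) fun a b => by rw [map_add]; abel, fun y => rfl⟩
  obtain ⟨f, hf⟩ : ∃ f : M →+ M, ∀ y, f y = ρ (l (-1)) y - y :=
    ⟨AddMonoidHom.mk' (fun y => ρ (l (-1)) y - y) fun a b => by rw [map_add]; abel, fun y => rfl⟩
  have hu' : ∀ y, ρ (u 1) y = y + e y := fun y => by rw [he]; abel
  have hl' : ∀ y, ρ (l (-1)) y = y + f y := fun y => by rw [hf]; abel
  have hee : ∀ y, e (e y) = 0 := fun y => by rw [he (e y), he y, hquad, sub_self]
  have hwu : ∀ y, ρ (w F) (ρ (u 1) y) = ρ (l (-1)) (ρ (w F) y) := fun y => by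
    rw [← ρ_mul, ← ρ_mul, l_mul_w, neg_neg]
  have hwe : ∀ y, ρ (w F) (e y) = f (ρ (w F) y) := fun y => by rw [he, hf, map_sub, hwu]
  have hff : ∀ y, f (f y) = 0 := by
    intro y
    obtain ⟨y', rfl⟩ : ∃ y', y = ρ (w F) y' := ⟨_, (hww y).symm⟩
    rw [← hwe, ← hwe, hee, map_zero]
  have hw' : ∀ y, ρ (w F) y = y + e y + e y + f y + e (f y) + f (e y) + e (f (e y)) := by
    intro y
    rw [w_eq, ρ_mul, ρ_mul, hu' y, hl', hu']
    simp only [map_add, hee]
    abel
  have r1 : ∀ y, e y + f (e y) + e (f (e y)) = f y + f (f y) + f (e y) + f (e y) + f (e (f y)) + f (f (e y)) +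
      f (e (f (e y))) := by
    intro y
    have := hwe y
    rw [hw' (e y), hw' y] at this
    simp only [map_add, hee, map_zero, add_zero] at this
    rw [this]
    abel
  simp only [hff, add_zero] at r1
  -- apply `f` and `e` to the relation
  have rf : ∀ y, f (e y) + f (e (f (e y))) = 0 := by
    intro y
    have := congrArg f (r1 y)
    simp only [map_add, hff, add_zero] at this
    exact this
  have rel : ∀ y, e y + e (f (e y)) = f y + f (e (f y)) := by
    intro y
    have h1 := r1 y
    have h2 := rf y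
    have : e y + e (f (e y)) + f (e y) = f y + f (e (f y)) + f (e y) + (f (e y) + f (e (f (e y)))) := by
      calc e y + e (f (e y)) + f (e y) = e y + f (e y) + e (f (e y)) := by abel
        _ = _ := h1
        _ = _ := by abel
    rw [h2, add_zero] at this
    exact add_right_cancel this
  have hge : ∀ y, f (e y) + f (e (f (e y))) = 0 := rf
  have ref : ∀ y, e (f y) + e (f (e (f y))) = 0 := by
    intro y
    have := congrArg e (rel y)
    simp only [map_add, hee, zero_add] at this
    exact this.symm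
  have hefe : ∀ y, e (f (e y)) = 0 := by
    intro y
    obtain ⟨g', hg'⟩ : ∃ g', g' = e y + e (f (e y)) := ⟨_, rfl⟩
    have heg : e g' = 0 := by rw [hg', map_add, hee, hee, add_zero]
    have hfg : f g' = 0 := by rw [hg', map_add]; exact hge y
    have h1 : ρ (w F) g' = g' := by
      rw [hw', heg, hfg]
      simp
    have h2 : ρ (w F) (e y) = g' + f (e y) := by
      rw [hg', hw' (e y)]
      simp only [hee, map_zero, add_zero]
      abel
    have h3 : ρ (w F) (f (e y)) = e (f (e y)) := by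
      have h4 : e (f (e y)) + e (f (e (f (e y)))) = 0 := ref (e y)
      rw [hw' (f (e y)), hff]
      simp only [map_zero, add_zero]
      calc f (e y) + e (f (e y)) + e (f (e y)) + f (e (f (e y))) + e (f (e (f (e y))))
          = (f (e y) + f (e (f (e y)))) + (e (f (e y)) + e (f (e (f (e y))))) + e (f (e y)) := by abel
        _ = e (f (e y)) := by rw [hge, h4]; simp
    have h5 := congrArg (ρ (w F)) h2
    rw [hww, map_add, h1, h3, hg'] at h5
    have h6 : e (f (e y)) + e (f (e y)) = 0 := by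
      have := h5
      rw [add_assoc, left_eq_add] at this
      exact this
    have h7 : (2 : ℕ) • e (f (e y)) = 0 := by rw [two_nsmul]; exact h6
    have hcop : Nat.Coprime 2 p := (Nat.coprime_primes Nat.prime_two Fact.out).2 (Ne.symm hp)
    have h8 : addOrderOf (e (f (e y))) ∣ Nat.gcd 2 p :=
      Nat.dvd_gcd (addOrderOf_dvd_of_nsmul_eq_zero h7) (addOrderOf_dvd_of_nsmul_eq_zero (hM _))
    rw [hcop, Nat.dvd_one, AddMonoid.addOrderOf_eq_one_iff] at h8
    exact h8
  have hfef : ∀ y, f (e (f y)) = 0 := by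
    intro y
    obtain ⟨y', rfl⟩ : ∃ y', y = ρ (w F) y' := ⟨_, (hww y).symm⟩
    have hwf : ∀ z, ρ (w F) (f z) = e (ρ (w F) z) := fun z => by
      obtain ⟨z', rfl⟩ : ∃ z', z = ρ (w F) z' := ⟨_, (hww z).symm⟩
      rw [← hwe, hww, hww]
    rw [← hwe, ← hwf, ← hwe, hefe, map_zero]
  have heq : ∀ y, e y = f y := fun y => by
    have := rel y
    rwa [hefe, hfef, add_zero, add_zero] at this
  -- the kernel contains `u(1) l(-1)⁻¹`
  have hk : ∀ y, ρ (u 1) y = ρ (l (-1)) y := fun y => by rw [hu', hl', heq]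
  have hw3 : ∀ y, ρ (w F) y = ρ (u 3) y := fun y => by
    rw [w_eq, ρ_mul, ρ_mul, ← hk, ← ρ_mul, ← ρ_mul, mul_assoc, u_mul, u_mul]
    norm_num
  by_cases hp3 : (3 : F) = 0
  · -- then `w` is trivial, hence so are the squares of diagonal elements
    have hw1 : ∀ y, ρ (w F) y = y := fun y => by rw [hw3, hp3, u_zero, ρ_one]
    have hd : ∀ (t : Fˣ) y, ρ (d (t * t)) y = y := by
      intro t y
      have := hw1 (ρ (d t)⁻¹ y)
      have h2 := congrArg (ρ (d t)) this
      rw [ρ_cancel, ← ρ_mul, d_mul_w, ρ_mul, hw1, ← ρ_mul] at h2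
      have e1 : d t⁻¹ * (d t)⁻¹ = (d (t * t))⁻¹ := by
        rw [← d_mul, _root_.mul_inv_rev]
        congr 1
        exact eq_inv_of_mul_eq_one_left (by rw [d_mul, inv_mul_cancel, d_one])
      rw [e1] at h2
      conv_lhs => rw [← h2]
      rw [ρ_cancel]
    obtain ⟨t, ht⟩ : ∃ t : Fˣ, (t : F) ^ 4 ≠ 1 := by
      by_contra hcon
      push Not at hcon
      haveI := Fintype.ofFinite F
      obtain ⟨t, ht⟩ := IsCyclic.exists_generator (α := Fˣ)
      have h4 : orderOf t ∣ 4 := orderOf_dvd_of_pow_eq_one (Units.ext (by simpa using hcon t))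
      rw [orderOf_eq_card_of_forall_mem_zpowers ht, Nat.card_eq_fintype_card, Fintype.card_units] at h4
      have h5 := Nat.le_of_dvd (by norm_num) h4
      rw [Nat.card_eq_fintype_card] at hq
      have h3' : ringChar F = p := ringChar.eq F p
      have hdiv : 3 ∣ Fintype.card F := by
        obtain ⟨k, hk1, hk2⟩ := FiniteField.card F p
        have : p = 3 := by
          have h3'' : ((3 : ℕ) : F) = 0 := by exact_mod_cast hp3
          exact (Nat.prime_dvd_prime_iff_eq hk1 Nat.prime_three).1 ((CharP.cast_eq_zero_iff F p 3).1 h3'')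
        rw [hk2, this]; exact dvd_pow_self _ k.pos.ne'
      omega
    refine all_trivial ρ (c := (t : F) ^ 4 - 1) (sub_ne_zero.2 ht) (fun y => ?_) g x
    rw [show (t : F) ^ 4 - 1 = ((t * t : Fˣ) : F) ^ 2 * 1 + -1 by push_cast; ring, ← u_mul, ρ_mul, ← d_conj_u,
      ρ_mul, ρ_mul, hd]
    conv_rhs => rw [← ρ_one ρ y, ← u_zero (F := F), ← add_neg_cancel (1 : F), ← u_mul, ρ_mul]
    congr 1
    conv_lhs => rw [← hd t (ρ (u (-1)) y), ← ρ_mul, inv_mul_cancel, ρ_one]
  · refine all_trivial ρ (c := 6) ?_ (fun y => ?_) g x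
    · rw [show (6 : F) = 2 * 3 by norm_num]
      exact mul_ne_zero (Ring.two_ne_zero (by rw [ringChar.eq F p]; exact hp)) hp3
    · rw [show (6 : F) = 3 + 3 by norm_num, ← u_mul, ρ_mul, ← hw3, ← hw3, hww]

/-- The restriction to an invariant subgroup. -/
def restrictRep {G : Type*} [Group G] (σ : G →* AddMonoid.End M) (W : AddSubgroup M)
    (hW : ∀ g, ∀ x ∈ W, σ g x ∈ W) : G →* AddMonoid.End W where
  toFun g := AddMonoidHom.mk' (fun x => ⟨σ g x, hW g x x.2⟩) fun a b => Subtype.ext (map_add (σ g) a.1 b.1)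
  map_one' := AddMonoidHom.ext fun x => Subtype.ext (show σ 1 x.1 = x.1 by rw [map_one]; rfl)
  map_mul' g h := AddMonoidHom.ext fun x => Subtype.ext
    (show σ (g * h) x.1 = σ g (σ h x.1) by rw [map_mul]; rfl)

/-- Powers depend on the trace only. -/
theorem exists_pow_eq (τ : F) (k : ℕ) : ∃ α β : F, ∀ A : Matrix (Fin 2) (Fin 2) F,
    A * A = τ • A - 1 → A ^ k = α • A + β • (1 : Matrix (Fin 2) (Fin 2) F) := by
  induction k with
  | zero => exact ⟨0, 1, fun A _ => by simp⟩
  | succ k ih =>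
    obtain ⟨α, β, h⟩ := ih
    refine ⟨α * τ + β, -α, fun A hA => ?_⟩
    rw [pow_succ, h A hA, add_mul, Matrix.smul_mul, Matrix.smul_mul, hA, one_mul, smul_sub, smul_smul, add_smul,
      neg_smul]
    abel

theorem sq_eq (g : SL(2, F)) : (g : Matrix (Fin 2) (Fin 2) F) * g = (g 0 0 + g 1 1) • (g : Matrix (Fin 2) (Fin 2) F) - 1 := by
  have h : g 0 0 * g 1 1 - g 0 1 * g 1 0 = 1 := (det_fin_two _).symm.trans g.2
  ext i j
  fin_cases i <;> fin_cases j <;> simp [Matrix.mul_apply, Fin.sum_univ_two] <;>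
    first | linear_combination (-1 : F) * h | linear_combination (0 : F) * h | ring

/-- Two elements with the same trace, one not scalar. -/
theorem pow_eq_one_of_trace {g h : SL(2, F)} (ht : g 0 0 + g 1 1 = h 0 0 + h 1 1)
    (hns : ∀ c : F, (g : Matrix (Fin 2) (Fin 2) F) ≠ c • (1 : Matrix (Fin 2) (Fin 2) F)) {k : ℕ}
    (hk : g ^ k = 1) : h ^ k = 1 := by
  obtain ⟨α, β, hab⟩ := exists_pow_eq (g 0 0 + g 1 1) k
  have hg' := hab _ (sq_eq g)
  have hh' := hab _ (ht ▸ sq_eq h)
  rw [← Matrix.SpecialLinearGroup.coe_pow, hk, Matrix.SpecialLinearGroup.coe_one] at hg'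
  have hα : α = 0 := by
    by_contra h0
    refine hns ((1 - β) / α) ?_
    have h' : α • (g : Matrix (Fin 2) (Fin 2) F) = (1 - β) • (1 : Matrix (Fin 2) (Fin 2) F) := by
      rw [sub_smul, one_smul]; exact eq_sub_of_add_eq hg'.symm
    rw [div_eq_inv_mul, ← smul_smul, ← h', smul_smul, inv_mul_cancel₀ h0, one_smul]
  subst hα
  rw [zero_smul, zero_add] at hg' hh'
  refine ext2 ?_
  rw [Matrix.SpecialLinearGroup.coe_pow, hh', ← hg', Matrix.SpecialLinearGroup.coe_one]

/-- The index of the fixed points of `u(1)` is at least the square root of that of a fixed element. -/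
theorem index_sq_le [Finite M] {a a' k y : SL(2, F)} (hconj : a' = k * a * k⁻¹)
    (hle : fixOne ρ a ⊓ fixOne ρ a' ≤ fixOne ρ y) : (fixOne ρ y).index ≤ (fixOne ρ a).index ^ 2 := by
  refine (Nat.le_of_dvd (Nat.pos_of_ne_zero AddSubgroup.index_ne_zero_of_finite)
    (AddSubgroup.index_dvd_of_le hle)).trans (AddSubgroup.index_inf_le.trans (le_of_eq ?_))
  rw [pow_two]
  congr 1
  let e : M ≃+ M :=
    { toFun := fun x => ρ k x, invFun := fun x => ρ k⁻¹ x
      left_inv := fun x => by simp only; rw [← ρ_mul, inv_mul_cancel, ρ_one]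
      right_inv := fun x => by simp only; rw [ρ_cancel]
      map_add' := fun x y => map_add (ρ k) x y }
  have hcard : Nat.card (fixOne ρ a') = Nat.card (fixOne ρ a) := by
    refine (Nat.card_congr (e.toEquiv.subtypeEquiv fun x => ?_)).symm
    show ρ a x = x ↔ ρ a' (ρ k x) = ρ k x
    rw [hconj, ← ρ_mul, inv_mul_cancel_right, ρ_mul]
    exact ⟨fun h => by rw [h], fun h => e.injective h⟩
  have h1 := (fixOne ρ a').card_mul_index
  rw [← (fixOne ρ a).card_mul_index, hcard] at h1
  exact Nat.eq_of_mul_eq_mul_left Nat.card_pos h1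

/-- On a faithful module the index of the fixed points of a quadratic root element is at least `pⁿ`. -/
theorem le_index_fix_u [Finite M] [Fintype F] {p n : ℕ} [Fact p.Prime] [CharP F p]
    (hF : Fintype.card F = p ^ n) (hM : ∀ x : M, p • x = 0)
    (hfaith : ∀ g, (∀ x, ρ g x = x) → g = 1)
    (hquad : ∀ x, ρ (u 1) (ρ (u 1) x - x) = ρ (u 1) x - x) : p ^ n ≤ (fixOne ρ (u 1)).index := by
  classical
  have hp : p.Prime := Fact.out
  have hne : ∀ g : SL(2, F), g ≠ 1 → fixOne ρ g ≠ ⊤ := fun g hg h =>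
    hg (hfaith g fun x => (mem_fixOne ρ).1 (h ▸ AddSubgroup.mem_top x))
  have hu1 : u (1 : F) ≠ 1 := fun h => one_ne_zero (α := F) (by
    have := congrArg (fun g : SL(2, F) => g 0 1) h
    simpa [u_coe] using this)
  rcases Nat.lt_or_ge n 2 with hn | hn
  · -- small fields
    have hi : 1 < (fixOne ρ (u 1)).index := by
      rcases Nat.lt_trichotomy (fixOne ρ (u 1)).index 1 with h | h | h
      · exact absurd (Nat.lt_one_iff.1 h) AddSubgroup.index_ne_zero_of_finite
      · exact absurd (AddSubgroup.index_eq_one.1 h) (hne _ hu1)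
      · exact h
    have hpg : IsPGroup p (Multiplicative M) := fun x => ⟨1, by
      rw [pow_one, ← ofAdd_toAdd x, ← ofAdd_nsmul, hM, ofAdd_zero]⟩
    obtain ⟨m, hm⟩ := hpg.exists_card_eq
    rw [Nat.card_congr Multiplicative.toAdd] at hm
    obtain ⟨j, -, hj⟩ := (Nat.dvd_prime_pow hp).1 (hm ▸ (fixOne ρ (u 1)).index_dvd_card)
    rw [hj] at hi ⊢
    refine Nat.pow_le_pow_right hp.pos ?_
    rcases Nat.eq_zero_or_pos j with rfl | hj0
    · simp at hi
    · omega
  suffices p ^ (2 * n) ≤ (fixOne ρ (u 1)).index ^ 2 from by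
    rw [mul_comm, pow_mul] at this
    exact (Nat.pow_le_pow_iff_left two_ne_zero).1 this
  have hcard : Nat.card SL(2, F) = p ^ n * (p ^ (2 * n) - 1) := by
    rw [Two.card_SL_two, hF, ← pow_mul, mul_comm n 2]
  by_cases hp2 : p = 2
  · subst hp2
    have two : (2 : F) = 0 := by exact_mod_cast CharP.cast_eq_zero F 2
    -- an element of the right order which is a product of two root elements
    obtain ⟨l', r, s, hl', hl2, hs, hsord, hsne, hN⟩ : ∃ (l' r : ℕ) (s : F), l'.Prime ∧ ¬ l' ∣ 2 ∧ s ≠ 0 ∧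
        (u 1 * l s) ^ l' ^ (r + 1) = 1 ∧ (u 1 * l s) ^ l' ^ r ≠ 1 ∧
        ∀ k, 0 < k → k < 2 * n → ¬ l' ^ (r + 1) ∣ 2 ^ k - 1 := by
      have hlne : ∀ s : F, u 1 * l s ≠ 1 := fun s h => one_ne_zero (α := F) (by
        have := congrArg (fun g : SL(2, F) => g 0 1) h
        simpa [Matrix.SpecialLinearGroup.coe_mul, u_coe, l_coe, Matrix.mul_apply, Fin.sum_univ_two] using this)
      by_cases h3 : n = 3
      · subst h3
        obtain ⟨τ, hτ⟩ : ∃ τ : F, τ ^ 3 + τ + 1 = 0 := by
          obtain ⟨t, ht⟩ : ∃ t : F, t ≠ 0 ∧ t ≠ 1 := by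
            by_contra hcon
            push Not at hcon
            have : Fintype.card F ≤ 2 := by
              rw [← Finset.card_univ]
              refine (Finset.card_le_card (t := {0, 1}) fun x _ => ?_).trans Finset.card_le_two
              by_cases hx : x = 0
              · simp [hx]
              · simp [hcon x hx]
            omega
          have h7 : t ^ 7 = 1 := by
            have := FiniteField.pow_card_sub_one_eq_one t ht.1
            rwa [hF] at this
          have hfac : (t - 1) * ((t ^ 3 + t + 1) * (t ^ 3 + t ^ 2 + 1)) = 0 := by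
            linear_combination h7 + (t ^ 4 - t ^ 3) * two
          rcases mul_eq_zero.1 hfac with h | h
          · exact absurd (sub_eq_zero.1 h) ht.2
          rcases mul_eq_zero.1 h with h | h
          · exact ⟨t, h⟩
          · refine ⟨t⁻¹, ?_⟩
            have hne0 := ht.1
            field_simp
            linear_combination h
        have hτ0 : τ ≠ 0 := fun e => by rw [e] at hτ; simp at hτ
        have hA : ((u 1 * l τ : SL(2, F)) : Matrix (Fin 2) (Fin 2) F) = !![1 + τ, 1; τ, 1] := by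
          simp only [Matrix.SpecialLinearGroup.coe_mul, u_coe, l_coe, Matrix.mul_fin_two]
          simp
        refine ⟨3, 1, τ, Nat.prime_three, by norm_num, hτ0, ?_, ?_, ?_⟩
        · refine ext2 ?_
          rw [Matrix.SpecialLinearGroup.coe_pow, Matrix.SpecialLinearGroup.coe_one]
          obtain ⟨A, hAe⟩ : ∃ A : Matrix (Fin 2) (Fin 2) F, A = !![1 + τ, 1; τ, 1] := ⟨_, rfl⟩
          rw [hA, ← hAe]
          have h2 : A * A = τ • A + (1 : F) • (1 : Matrix (Fin 2) (Fin 2) F) := by
            rw [hAe]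
            ext i j
            fin_cases i <;> fin_cases j <;> simp [Matrix.mul_apply, Fin.sum_univ_two] <;>
              first | ring1 | linear_combination τ * two | linear_combination two | linear_combination (τ + 1) * two
          have key : ∀ a b a' b' : F, (a • A + b • (1 : Matrix (Fin 2) (Fin 2) F)) * (a' • A + b' • 1) =
              (a * a' * τ + a * b' + b * a') • A + (a * a' + b * b') • 1 := by
            intro a b a' b'
            rw [add_mul, mul_add, mul_add]
            simp only [Matrix.smul_mul, Matrix.mul_smul, smul_smul, h2, one_mul, mul_one, smul_add, add_smul]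
            module
          rw [show (3 : ℕ) ^ (1 + 1) = 2 * 2 * 2 + 1 by norm_num, pow_succ, pow_mul, pow_mul]
          simp only [pow_two, h2, key]
          have h7 : τ ^ 7 = 1 := by linear_combination (τ ^ 4 - τ ^ 2 - τ + 1) * hτ + (τ ^ 2 - 1) * two
          have e9 : τ ^ 8 + τ ^ 6 + τ ^ 4 + 1 = 0 := by
            linear_combination (τ ^ 5 + τ ^ 2 + τ + 1) * hτ - (τ ^ 5 + τ ^ 3 + τ ^ 2 + τ) * two
          have eα : (τ * τ * τ + τ + τ) * (τ * τ * τ + τ + τ) * τ + (τ * τ * τ + τ + τ) * (τ * τ + 1) +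
              (τ * τ + 1) * (τ * τ * τ + τ + τ) = 1 := by
            linear_combination h7 + (2 * τ ^ 5 + 2 * τ ^ 3 + (τ * τ + 1) * (τ * τ * τ + τ + τ)) * two
          have eβ : (τ * τ * τ + τ + τ) * (τ * τ * τ + τ + τ) + (τ * τ + 1) * (τ * τ + 1) = τ := by
            linear_combination (τ ^ 3 + 1) * hτ + (2 * τ ^ 4 - τ ^ 3 + 3 * τ ^ 2 - τ) * two
          simp only [mul_one, one_mul]
          rw [eα, eβ]
          ext i j
          fin_cases i <;> fin_cases j <;> simp [hAe, Matrix.mul_apply, Fin.sum_univ_two] <;>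
            first
              | linear_combination (2 * τ + τ ^ 2) * two | linear_combination (1 + τ) * two
              | linear_combination (τ + τ ^ 2) * two | linear_combination τ * two
        · intro hc
          have h01 := congrArg (fun g : SL(2, F) => (g : Matrix (Fin 2) (Fin 2) F) 0 1) hc
          rw [show (3 : ℕ) ^ 1 = 2 + 1 by norm_num, pow_succ, pow_two] at h01
          simp only [Matrix.SpecialLinearGroup.coe_mul] at h01
          simp [u_coe, l_coe, Matrix.mul_apply, Fin.sum_univ_two] at h01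
          have hτ1 : τ ^ 2 + 1 = 0 := by linear_combination h01 - (2 * τ + 1) * two
          have h1 : (1 : F) = 0 := by linear_combination hτ - τ * hτ1
          exact one_ne_zero h1
        · intro k hk hk'
          interval_cases k <;> norm_num
      · obtain ⟨q, hq, hqd, hqp⟩ := Cfsg.Agent.S2904.result 2 (2 * n) (by norm_num) (by omega)
          (by omega) (by omega)
        haveI := Fact.mk hq
        have hq2 : ¬ q ∣ 2 := by
          intro hd
          have := (Nat.prime_dvd_prime_iff_eq hq Nat.prime_two).1 hd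
          subst this
          have h2 : 2 ∣ 2 ^ (2 * n) := dvd_pow_self _ (by omega)
          have h1 : 1 ≤ 2 ^ (2 * n) := Nat.one_le_two_pow
          omega
        obtain ⟨g, hg⟩ := exists_prime_orderOf_dvd_card' (G := SL(2, F)) q (hcard ▸ dvd_mul_of_dvd_right hqd _)
        have hgq : g ^ q = 1 := hg ▸ pow_orderOf_eq_one g
        have hns : ∀ c : F, (g : Matrix (Fin 2) (Fin 2) F) ≠ c • (1 : Matrix (Fin 2) (Fin 2) F) := by
          intro c hc
          have hdet : c * c = 1 := by
            have := g.2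
            rw [hc, Matrix.det_smul, Matrix.det_one, mul_one, Fintype.card_fin, pow_two] at this
            exact this
          have hc1 : c = 1 := by
            have h0 : (c - 1) * (c - 1) = 0 := by linear_combination hdet + (1 - c) * two
            exact sub_eq_zero.1 (mul_self_eq_zero.1 h0)
          have : g = 1 := ext2 (by rw [hc, hc1, one_smul, Matrix.SpecialLinearGroup.coe_one])
          rw [this, orderOf_one] at hg
          exact hq.one_lt.ne hg
        refine ⟨q, 0, g 0 0 + g 1 1, hq, hq2, ?_, ?_, ?_, fun k hk hk' => by simpa using hqp k hk hk'⟩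
        · intro h0
          have hA := sq_eq g
          rw [h0, zero_smul, zero_sub] at hA
          have hg2 : g ^ 2 = 1 := by
            refine ext2 ?_
            rw [Matrix.SpecialLinearGroup.coe_pow, pow_two, hA, Matrix.SpecialLinearGroup.coe_one]
            ext i j
            fin_cases i <;> fin_cases j <;> simp
            all_goals linear_combination (-1 : F) * two
          have := orderOf_dvd_of_pow_eq_one hg2
          rw [hg] at this
          exact hq2 this
        · rw [zero_add, pow_one]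
          refine pow_eq_one_of_trace ?_ hns hgq
          simp [Matrix.SpecialLinearGroup.coe_mul, u_coe, l_coe, Matrix.mul_apply, Fin.sum_univ_two]
          linear_combination (-1 : F) * two
        · rw [pow_zero, pow_one]; exact hlne _
    haveI := Fact.mk hl'
    refine (le_index_fix ρ hl2 hM (u 1 * l s) hsord (hne _ hsne) hN).trans ?_
    obtain ⟨c, hc⟩ := FiniteField.isSquare_of_char_two ((ringChar.eq F 2) ▸ rfl) s
    have hc0 : c ≠ 0 := fun e => hs (by rw [hc, e, zero_mul])
    refine index_sq_le ρ (a := u 1) (a' := l s) (k := w F * d (Units.mk0 c hc0)) ?_ ?_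
    · rw [_root_.mul_inv_rev, show w F * d (Units.mk0 c hc0) * u 1 * ((d (Units.mk0 c hc0))⁻¹ * (w F)⁻¹) =
        w F * (d (Units.mk0 c hc0) * u 1 * (d (Units.mk0 c hc0))⁻¹) * (w F)⁻¹ by group, d_conj_u,
        Units.val_mk0, mul_one, show c ^ 2 = - s by rw [hc, pow_two]; linear_combination (c * c) * two,
        ← l_mul_w, mul_inv_cancel_right]
    · rintro x ⟨hx1, hx2⟩
      refine act_pow_fix ρ ?_ _
      rw [ρ_mul, (mem_fixOne ρ).1 hx2, (mem_fixOne ρ).1 hx1]
  · obtain ⟨q, hq, hqd, hqp⟩ := Cfsg.Agent.S2904.result p (2 * n) hp.one_lt (by omega) (by omega) (by omega)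
    haveI := Fact.mk hq
    have hqp' : ¬ q ∣ p := by
      intro hd
      have h1 : q ∣ p ^ (2 * n) := dvd_pow hd (by omega)
      have h2 := Nat.dvd_sub h1 hqd
      rw [Nat.sub_sub_self (Nat.one_le_pow _ _ hp.pos)] at h2
      exact hq.not_dvd_one h2
    obtain ⟨g, hg⟩ := exists_prime_orderOf_dvd_card' (G := SL(2, F)) q (hcard ▸ dvd_mul_of_dvd_right hqd _)
    have hg1 : g ≠ 1 := fun e => hq.one_lt.ne (by rw [← hg, e, orderOf_one])
    have hb := le_index_fix ρ hqp' hM g (r := 0) (N := 2 * n) (by rw [zero_add, pow_one]; exact hg ▸ pow_orderOf_eq_one g)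
      (by rw [pow_zero, pow_one]; exact hne g hg1) (fun k hk hk' => by simpa using hqp k hk hk')
    rw [pow_zero, pow_one] at hb
    refine hb.trans (index_sq_le ρ (a := u 1) (a' := l (-1)) (k := w F) l_neg_one ?_)
    rintro x ⟨hx1, hx2⟩
    have hxw : ρ (w F) x = x := by
      rw [w_eq, ρ_mul, ρ_mul, (mem_fixOne ρ).1 hx1, (mem_fixOne ρ).1 hx2, (mem_fixOne ρ).1 hx1]
    have hxz : x ∈ fixOne ρ (d (-1)) := by
      rw [mem_fixOne, ← w_mul_w, ρ_mul, hxw, hxw]
    have hinv : ∀ h, ∀ y ∈ fixOne ρ (d (-1)), ρ h y ∈ fixOne ρ (d (-1)) := by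
      intro h y hy
      have hc : d (-1 : Fˣ) * h = h * d (-1) := ext2 (by
        simp only [Matrix.SpecialLinearGroup.coe_mul, d_coe]
        ext i j
        fin_cases i <;> fin_cases j <;> simp [Matrix.mul_apply, Fin.sum_univ_two])
      rw [mem_fixOne, ← ρ_mul, hc, ρ_mul, (mem_fixOne ρ).1 hy]
    have hq5 : 5 ≤ Nat.card F := by
      rw [Nat.card_eq_fintype_card, hF]
      have h3 : 3 ≤ p := by have := hp.two_le; omega
      calc 5 ≤ 3 ^ 2 := by norm_num
        _ ≤ p ^ 2 := Nat.pow_le_pow_left h3 2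
        _ ≤ p ^ n := Nat.pow_le_pow_right hp.pos hn
    have htriv := trivial_of_quadratic_proj (restrictRep ρ _ hinv) hp2 hq5
      (fun y => Subtype.ext (by rw [AddSubgroup.coe_nsmul, AddSubgroup.coe_zero]; exact hM y.1))
      (fun y => Subtype.ext y.2) (fun y => Subtype.ext (hquad y.1)) g ⟨x, hxz⟩
    exact congrArg Subtype.val htriv

end SL

end Cfsg.Lib.Linear.SLTwoNatural
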