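import Cfsg.Agent.Lib.Linear.SubfieldHerm

/-!
# Subfield groups of the standard unitary group

The transfer of `SubU.maximal` to `SU_n(q)` along a rational structure for the standard form.
-/

set_option autoImplicit false

namespace Cfsg.Lib.Linear.SubU

open scoped Matrix
open Cfsg.Lib.Linear.Rat0

variable {F : Type*} [Field F] [Fintype F] {n q : ℕ} (hF : Fintype.card F = q ^ 2)
  {F₀ : Subfield F} {ζ : F} {P : GL (Fin n) F}
  (hP : Cfsg.Geo.IsFormRationalStructure (Cfsg.hermForm n F q) F₀ ζ P)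

/-- The scaled Gram matrix of a rational structure. -/
def gram : Matrix (Fin n) (Fin n) F₀ := Matrix.of fun i j =>
  ⟨ζ * Cfsg.hermForm n F q ((P : Matrix (Fin n) (Fin n) F) *ᵥ Pi.single i 1)
      ((P : Matrix (Fin n) (Fin n) F) *ᵥ Pi.single j 1),
    hP _ _ (fun k => by rw [Pi.single_apply]; split_ifs <;> simp [F₀.one_mem, F₀.zero_mem])
      (fun k => by rw [Pi.single_apply]; split_ifs <;> simp [F₀.one_mem, F₀.zero_mem])⟩

theorem gram_map : (gram hP).map F₀.subtype =
    ζ • ((P : Matrix (Fin n) (Fin n) F)ᵀ * (P : Matrix (Fin n) (Fin n) F).map (Herm.frob hF)) := by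
  ext i j
  simp only [gram, Matrix.map_apply, Matrix.of_apply, Matrix.mulVec_single_one,
    Subfield.coe_subtype, Cfsg.hermForm, Matrix.smul_apply, Matrix.mul_apply,
    Matrix.transpose_apply, Herm.frob_apply, smul_eq_mul]
  rfl

theorem frm_gram (u v : Fin n → F) : frm (Herm.frob hF) F₀ (gram hP) u v =
    ζ * Cfsg.hermForm n F q ((P : Matrix (Fin n) (Fin n) F) *ᵥ u)
      ((P : Matrix (Fin n) (Fin n) F) *ᵥ v) := by
  rw [frm, cov, gram_map hF hP, Matrix.smul_mulVec, dotProduct_smul, smul_eq_mul,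
    ← Matrix.mulVec_mulVec, Matrix.dotProduct_mulVec, Matrix.vecMul_transpose]
  congr 1
  refine Finset.sum_congr rfl fun i _ => congrArg _ ?_
  rw [← Herm.frob_apply hF]
  exact (RingHom.map_mulVec (Herm.frob hF) _ v i).symm

theorem skew_gram (hζ : ζ + ζ ^ q = 0) (u v : Fin n → F) :
    frm (Herm.frob hF) F₀ (gram hP) v u = -Herm.frob hF (frm (Herm.frob hF) F₀ (gram hP) u v) := by
  have hz : Herm.frob hF ζ = -ζ := by
    rw [Herm.frob_apply]; exact eq_neg_of_add_eq_zero_right hζ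
  rw [frm_gram, frm_gram, map_mul, hz, neg_mul, neg_neg, Cfsg.hermForm, Cfsg.hermForm, map_sum]
  congr 1
  refine Finset.sum_congr rfl fun i _ => ?_
  rw [← Herm.frob_apply hF, ← Herm.frob_apply hF, map_mul, Herm.frob_frob, mul_comm]

include hF in
theorem det_gram (hζ0 : ζ ≠ 0) : (gram hP).det ≠ 0 := by
  intro h
  have h1 := congrArg F₀.subtype h
  rw [RingHom.map_det, map_zero, RingHom.mapMatrix_apply, gram_map hF hP, Matrix.det_smul,
    Matrix.det_mul, Matrix.det_transpose, ← RingHom.mapMatrix_apply, ← RingHom.map_det] at h1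
  refine mul_ne_zero (pow_ne_zero _ hζ0) (mul_ne_zero
    (Matrix.GeneralLinearGroup.det_ne_zero P) ?_) h1
  simpa using Matrix.GeneralLinearGroup.det_ne_zero P

/-- Transfer of maximality along the rational structure. -/
theorem maximal_transfer (hζ0 : ζ ≠ 0)
    (hmax : Cfsg.Geo.IsMaximalIn (spIso (Herm.frob hF) F₀ (gram hP))
      (ratIso (Herm.frob hF) F₀ (gram hP))) :
    Cfsg.Geo.IsMaximalIn (Cfsg.GU n F q ⊓ Cfsg.Geo.specialLinear (Fin n) F)
      (Cfsg.Geo.subfieldSubgroup F₀ P ⊓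
        (Cfsg.GU n F q ⊓ Cfsg.Geo.specialLinear (Fin n) F)) := by
  have hinj : Function.Injective (MulAut.conj P).toMonoidHom := (MulAut.conj P).injective
  have hsur : Function.Surjective (MulAut.conj P).toMonoidHom := (MulAut.conj P).surjective
  have hG : (spIso (Herm.frob hF) F₀ (gram hP)).map (MulAut.conj P).toMonoidHom =
      Cfsg.GU n F q ⊓ Cfsg.Geo.specialLinear (Fin n) F := by
    ext g
    rw [Subgroup.mem_map_equiv, mem_spIso, Subgroup.mem_inf]
    simp only [frm_gram, MulAut.conj_symm_apply, Units.val_mul, ← Matrix.mulVec_mulVec]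
    have hcan : ∀ v : Fin n → F, (P : Matrix (Fin n) (Fin n) F) *ᵥ
        (((P⁻¹ : GL (Fin n) F) : Matrix (Fin n) (Fin n) F) *ᵥ v) = v := fun v => by
      rw [Matrix.mulVec_mulVec, ← Units.val_mul, mul_inv_cancel, Units.val_one, Matrix.one_mulVec]
    simp only [hcan]
    refine and_congr ⟨fun h u v => ?_, fun h u v => ?_⟩ ?_
    · have := h (((P⁻¹ : GL (Fin n) F) : Matrix (Fin n) (Fin n) F) *ᵥ u)
        (((P⁻¹ : GL (Fin n) F) : Matrix (Fin n) (Fin n) F) *ᵥ v)
      simp only [hcan] at this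
      exact mul_left_cancel₀ hζ0 this
    · exact congrArg (ζ * ·) (h _ _)
    · rw [← Units.val_mul, ← Units.val_mul,
        ← Matrix.GeneralLinearGroup.val_det_apply, map_mul, map_mul, mul_right_comm, ← map_mul,
        inv_mul_cancel, map_one, one_mul]
      rw [Cfsg.Geo.specialLinear, MonoidHom.mem_ker, Units.ext_iff, Units.val_one]
  have hsub : Cfsg.Geo.subfieldSubgroup F₀ P ⊓
      (Cfsg.GU n F q ⊓ Cfsg.Geo.specialLinear (Fin n) F) =
      (ratIso (Herm.frob hF) F₀ (gram hP)).map (MulAut.conj P).toMonoidHom := by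
    rw [ratIso, Subgroup.map_inf_eq _ _ _ hinj, hG]
    congr 1
    rw [Cfsg.Geo.subfieldSubgroup, Cfsg.Geo.subfieldSubgroup]
    congr 1
    ext x
    simp
  rw [hsub, ← hG]
  refine ⟨(Subgroup.map_lt_map_iff_of_injective hinj).mpr hmax.1, fun L h1 h2 => ?_⟩
  rcases hmax.2 (L.comap (MulAut.conj P).toMonoidHom) (Subgroup.map_le_iff_le_comap.mp h1)
      (by rw [← Subgroup.map_le_map_iff_of_injective hinj,
            Subgroup.map_comap_eq_self_of_surjective hsur]; exact h2) with e | e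
  · exact Or.inl (by rw [← e, Subgroup.map_comap_eq_self_of_surjective hsur])
  · exact Or.inr (by rw [← e, Subgroup.map_comap_eq_self_of_surjective hsur])

/-- The rational part is maximal in the special unitary group. -/
theorem maximal_std (hn6 : 6 ≤ n) (hζ0 : ζ ≠ 0) (H : SubHyp (Herm.frob hF) F₀ (gram hP)) {r : ℕ} (hr : r.Prime)
    (hcard : Fintype.card F = Nat.card F₀ ^ r) :
    Cfsg.Geo.IsMaximalIn (Cfsg.GU n F q ⊓ Cfsg.Geo.specialLinear (Fin n) F)
      (Cfsg.Geo.subfieldSubgroup F₀ P ⊓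
        (Cfsg.GU n F q ⊓ Cfsg.Geo.specialLinear (Fin n) F)) := by
  rw [Fintype.card_eq_nat_card] at hcard
  exact maximal_transfer hF hP hζ0 (maximal H (by rw [Fintype.card_fin]; exact hn6) hr hcard)

end Cfsg.Lib.Linear.SubU
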