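import Cfsg.Agent.Lib.Local.OrbitReps
import Mathlib.Algebra.Module.ZMod
import Mathlib.Algebra.Field.ZMod
import Mathlib.FieldTheory.Finite.Basic
import Mathlib.LinearAlgebra.BilinearForm.Orthogonal
import Mathlib.RingTheory.Adjoin.Basic
import Mathlib.Algebra.Polynomial.AlgebraMap
import Mathlib.RingTheory.Adjoin.Polynomial.Basic

/-!
A semiregular isometry of a nondegenerate alternating form of dimension `2n` over `ZMod q` has order
dividing `q ^ n + 1` or `q ^ n - 1`.
-/

set_option autoImplicit false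

namespace Cfsg.Lib.Linear

open Module Polynomial
open LinearMap (BilinForm)

variable {q : ℕ} [hq : Fact q.Prime] {h : ℕ}

/-- Semiregularity on the nonzero vectors. -/
structure Semireg {V : Type*} [AddCommGroup V] [Module (ZMod q) V] (σ : Module.End (ZMod q) V) (h : ℕ) : Prop where
  pow : σ ^ h = 1
  free : ∀ v : V, v ≠ 0 → ∀ t : ℕ, (σ ^ t) v = v → h ∣ t

theorem semireg_dvd {V : Type*} [AddCommGroup V] [Module (ZMod q) V] [FiniteDimensional (ZMod q) V]
    {σ : Module.End (ZMod q) V} (hσ : Semireg σ h) (hh : 0 < h) : h ∣ q ^ finrank (ZMod q) V - 1 := by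
  classical
  haveI : Finite V := Module.finite_of_finite (ZMod q)
  let e : Equiv.Perm V :=
    { toFun := σ
      invFun := fun v => (σ ^ (h - 1)) v
      left_inv := fun v => by
        show (σ ^ (h - 1)) (σ v) = v
        rw [← Module.End.mul_apply, ← pow_succ, Nat.sub_add_cancel hh, hσ.pow]; rfl
      right_inv := fun v => by
        show σ ((σ ^ (h - 1)) v) = v
        rw [← Module.End.mul_apply, ← pow_succ', Nat.sub_add_cancel hh, hσ.pow]; rfl }
  have he : ∀ (t : ℕ) (v : V), (e ^ t) v = (σ ^ t) v := by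
    intro t
    induction t with
    | zero => intro v; rfl
    | succ t ih =>
      intro v
      rw [pow_succ', Equiv.Perm.mul_apply, pow_succ', Module.End.mul_apply, ih]
      rfl
  obtain ⟨T, -, hT, -⟩ := Lib.Local.exists_orbit_reps e (0 : V) hh
    (Equiv.ext fun v => by rw [he, hσ.pow]; rfl) (map_zero σ)
    (fun v hv t ht ht0 e' => ht0 (Nat.eq_zero_of_dvd_of_lt (hσ.free v hv t (by rw [← he]; exact e')) ht))
  have hc : Nat.card V = q ^ finrank (ZMod q) V := by
    haveI := Fintype.ofFinite V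
    rw [Module.natCard_eq_pow_finrank (K := ZMod q), Nat.card_zmod]
  rw [← hc, ← hT]
  exact dvd_mul_left _ _

/-- The action of a polynomial. -/
theorem aeval_mem {V : Type*} [AddCommGroup V] [Module (ZMod q) V] {σ : Module.End (ZMod q) V}
    {U : Submodule (ZMod q) V} (hU : ∀ u ∈ U, σ u ∈ U) (f : (ZMod q)[X]) {u : V} (hu : u ∈ U) : aeval σ f u ∈ U := by
  induction f using Polynomial.induction_on' with
  | add f g hf hg => rw [map_add, LinearMap.add_apply]; exact add_mem hf hg
  | monomial k c =>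
    rw [aeval_monomial, Module.End.mul_apply, Algebra.algebraMap_eq_smul_one, LinearMap.smul_apply,
      Module.End.one_apply]
    refine U.smul_mem _ ?_
    induction k with
    | zero => simpa using hu
    | succ k ih => rw [pow_succ', Module.End.mul_apply]; exact hU _ ih

/-- An irreducible isometry of a nondegenerate form is conjugate to its inverse by a power of Frobenius. -/
theorem exists_pow_modEq_neg_one {V : Type*} [AddCommGroup V] [Module (ZMod q) V] [FiniteDimensional (ZMod q) V]
    [Nontrivial V] (B : BilinForm (ZMod q) V) (hnd : B.Nondegenerate) (hrefl : B.IsRefl) {σ : Module.End (ZMod q) V}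
    (hB : ∀ u v, B (σ u) (σ v) = B u v) (hσ : Semireg σ h) (hh : 0 < h)
    (hirr : ∀ U : Submodule (ZMod q) V, (∀ u ∈ U, σ u ∈ U) → U = ⊥ ∨ U = ⊤) :
    ∃ i : ℕ, h ∣ q ^ i + 1 := by
  classical
  haveI : Finite V := Module.finite_of_finite (ZMod q)
  set τ := σ ^ (h - 1) with hτ
  have hστ : σ * τ = 1 := by rw [hτ, ← pow_succ', Nat.sub_add_cancel hh, hσ.pow]
  have hadj : ∀ (u v : V), B (σ u) v = B u (τ v) := fun u v => by
    have e : σ (τ v) = v := by rw [← Module.End.mul_apply, hστ]; rfl
    conv_lhs => rw [← e]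
    exact hB u (τ v)
  have hadjp : ∀ (f : (ZMod q)[X]) (u v : V), B (aeval σ f u) v = B u (aeval τ f v) := by
    intro f
    induction f using Polynomial.induction_on' with
    | add f g hf hg => intro u v; simp only [map_add, LinearMap.add_apply, hf, hg]
    | monomial k c =>
      intro u v
      simp only [aeval_monomial, Module.End.mul_apply, Algebra.algebraMap_eq_smul_one, LinearMap.smul_apply,
        Module.End.one_apply, map_smul]
      congr 1
      induction k generalizing u v with
      | zero => simp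
      | succ k ih =>
        rw [pow_succ, Module.End.mul_apply, ih, hadj, ← Module.End.mul_apply, ← pow_succ']
  let A := Algebra.adjoin (ZMod q) ({σ} : Set (Module.End (ZMod q) V))
  have hA : ∀ a ∈ A, ∃ f : (ZMod q)[X], aeval σ f = a := fun a ha => by
    rw [show A = (aeval σ).range from Algebra.adjoin_singleton_eq_range_aeval _ σ] at ha
    exact ha
  haveI : Finite (Module.End (ZMod q) V) := Finite.of_injective (fun f => (f : V → V)) DFunLike.coe_injective
  have hinj : ∀ f : (ZMod q)[X], aeval σ f ≠ 0 → Function.Injective (aeval σ f : Module.End (ZMod q) V) := by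
    intro f hf
    have hinv : ∀ u ∈ LinearMap.ker (aeval σ f), σ u ∈ LinearMap.ker (aeval σ f) := fun u hu => by
      rw [LinearMap.mem_ker] at hu ⊢
      have e : aeval σ f * σ = σ * aeval σ f := by
        conv_lhs => arg 2; rw [← aeval_X (R := ZMod q) σ]
        conv_rhs => arg 1; rw [← aeval_X (R := ZMod q) σ]
        rw [← map_mul, ← map_mul, mul_comm]
      rw [← Module.End.mul_apply, e, Module.End.mul_apply, hu, map_zero]
    rcases hirr _ hinv with h1 | h1
    · exact LinearMap.ker_eq_bot.1 h1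
    · exact absurd (LinearMap.ker_eq_top.1 h1) hf
  letI : CommRing A := { (inferInstance : Ring A) with
    mul_comm := fun a b => by
      obtain ⟨f, hf⟩ := hA a a.2
      obtain ⟨g, hg⟩ := hA b b.2
      refine Subtype.ext ?_
      show (a : Module.End (ZMod q) V) * b = b * a
      rw [← hf, ← hg, ← map_mul, ← map_mul, mul_comm] }
  haveI : Nontrivial A := ⟨⟨0, 1, fun e => by
    obtain ⟨v, hv⟩ := exists_ne (0 : V)
    exact hv (LinearMap.congr_fun (congrArg Subtype.val e) v).symm⟩⟩
  haveI : IsDomain A := @NoZeroDivisors.to_isDomain A _ _ ⟨fun {a b} hab => by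
    by_contra hcon
    push Not at hcon
    obtain ⟨f, hf⟩ := hA a a.2
    refine hcon.2 (Subtype.ext (LinearMap.ext fun v => ?_))
    have hfne : aeval σ f ≠ 0 := fun e => hcon.1 (Subtype.ext (hf ▸ e))
    have h2 : (a : Module.End (ZMod q) V) * b = 0 := congrArg Subtype.val hab
    refine hinj f hfne ?_
    show aeval σ f ((b : Module.End (ZMod q) V) v) = aeval σ f 0
    rw [hf, ← Module.End.mul_apply, h2, map_zero]; rfl⟩
  haveI : Finite A := Subtype.finite
  letI : Fintype A := Fintype.ofFinite A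
  letI : Field A := Fintype.fieldOfDomain A
  -- the involution
  have hker : ∀ f : (ZMod q)[X], aeval σ f = 0 → aeval τ f = 0 := fun f hf => LinearMap.ext fun v => by
    refine hnd.2 _ fun u => ?_
    rw [← hadjp, hf, LinearMap.zero_apply, map_zero, LinearMap.zero_apply]
  have hτA : τ ∈ A := pow_mem (Algebra.self_mem_adjoin_singleton _ σ) _
  let s : A := ⟨σ, Algebra.self_mem_adjoin_singleton _ σ⟩
  let ι : A →ₐ[ZMod q] A :=
    { toFun := fun a => aeval (⟨τ, hτA⟩ : A) (hA a a.2).choose
      map_one' := ?_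
      map_mul' := ?_
      map_zero' := ?_
      map_add' := ?_
      commutes' := ?_ }
  case refine_1 =>
    obtain ⟨g, hg⟩ : ∃ g, g = (hA _ (1 : A).2).choose := ⟨_, rfl⟩
    have e : aeval σ g = 1 := by rw [hg]; exact (hA _ (1 : A).2).choose_spec
    rw [← hg, ← sub_eq_zero, ← map_one (aeval (R := ZMod q) (⟨τ, hτA⟩ : A)), ← map_sub]
    refine Subtype.ext ?_
    rw [Polynomial.coe_aeval_mk_apply]
    refine hker _ ?_
    rw [map_sub, map_one, e, sub_self]
  case refine_2 =>
    intro a b
    rw [← map_mul, ← sub_eq_zero, ← map_sub]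
    refine Subtype.ext ?_
    rw [Polynomial.coe_aeval_mk_apply]
    refine hker _ ?_
    rw [map_sub, map_mul, (hA _ (a * b).2).choose_spec, (hA a a.2).choose_spec, (hA b b.2).choose_spec]
    simp
  case refine_3 =>
    refine Subtype.ext ?_
    rw [Polynomial.coe_aeval_mk_apply]
    refine hker _ ?_
    rw [(hA _ (0 : A).2).choose_spec]
    simp
  case refine_4 =>
    intro a b
    rw [← map_add, ← sub_eq_zero, ← map_sub]
    refine Subtype.ext ?_
    rw [Polynomial.coe_aeval_mk_apply]
    refine hker _ ?_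
    rw [map_sub, map_add, (hA _ (a + b).2).choose_spec, (hA a a.2).choose_spec, (hA b b.2).choose_spec]
    simp
  case refine_5 =>
    intro c
    obtain ⟨g, hg⟩ : ∃ g, g = (hA _ (algebraMap (ZMod q) A c).2).choose := ⟨_, rfl⟩
    have e : aeval σ g = algebraMap (ZMod q) (Module.End (ZMod q) V) c := by
      rw [hg]; exact (hA _ (algebraMap (ZMod q) A c).2).choose_spec
    show aeval (⟨τ, hτA⟩ : A) (hA _ (algebraMap (ZMod q) A c).2).choose = _
    rw [← hg, ← sub_eq_zero, ← aeval_C (⟨τ, hτA⟩ : A) c, ← map_sub]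
    refine Subtype.ext ?_
    rw [Polynomial.coe_aeval_mk_apply]
    refine hker _ ?_
    rw [map_sub, e, aeval_C, sub_self]
  have hιs : ι s = ⟨τ, hτA⟩ := by
    show aeval (⟨τ, hτA⟩ : A) (hA s s.2).choose = _
    rw [← sub_eq_zero]
    conv_lhs => arg 2; rw [← aeval_X (R := ZMod q) (⟨τ, hτA⟩ : A)]
    rw [← map_sub]
    refine Subtype.ext ?_
    rw [Polynomial.coe_aeval_mk_apply]
    refine hker _ ?_
    rw [map_sub, (hA s s.2).choose_spec, aeval_X]
    exact sub_self _
  obtain ⟨i, hi⟩ := (FiniteField.bijective_frobeniusAlgHom_pow (ZMod q) A).2 ι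
  refine ⟨i.val, ?_⟩
  have hpow : ∀ (k : ℕ) (a : A), ((FiniteField.frobeniusAlgHom (ZMod q) A) ^ k) a = a ^ q ^ k := by
    intro k a
    rw [AlgHom.coe_pow, FiniteField.coe_frobeniusAlgHom, pow_iterate, Fintype.card_eq_nat_card, Nat.card_zmod]
  have h1 : s ^ q ^ i.val = (⟨τ, hτA⟩ : A) := by
    rw [← hιs, ← hi]
    exact (hpow i.val s).symm
  have h2 : σ ^ (q ^ i.val + 1) = 1 := by
    rw [pow_succ', show σ ^ q ^ i.val = τ from congrArg Subtype.val h1, hστ]
  obtain ⟨v, hv⟩ := exists_ne (0 : V)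
  exact hσ.free v hv _ (by rw [h2]; rfl)

/-- The order of a semiregular isometry of a nondegenerate alternating form. -/
theorem dvd_sub_one_or {V : Type*} [AddCommGroup V] [Module (ZMod q) V] [FiniteDimensional (ZMod q) V]
    (B : BilinForm (ZMod q) V) (hnd : B.Nondegenerate) (halt : ∀ v, B v v = 0) {σ : Module.End (ZMod q) V}
    (hB : ∀ u v, B (σ u) (σ v) = B u v) (hσ : Semireg σ h) (hh : 0 < h) (hhq : h.Coprime q) (n : ℕ)
    (hn : finrank (ZMod q) V = 2 * n) : h ∣ q ^ n - 1 ∨ ∃ i : ℕ, h ∣ q ^ i + 1 := by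
  classical
  induction n using Nat.strong_induction_on generalizing V with
  | _ n ih =>
  rcases Nat.eq_zero_or_pos n with rfl | hn0
  · left; simp
  haveI : Nontrivial V := Module.nontrivial_of_finrank_pos (R := ZMod q) (by omega)
  have hrefl : B.IsRefl := LinearMap.IsAlt.isRefl halt
  obtain ⟨U, ⟨hU1, hU2⟩, hmin⟩ := wellFounded_lt.has_min
    {U : Submodule (ZMod q) V | U ≠ ⊥ ∧ ∀ u ∈ U, σ u ∈ U} ⟨⊤, top_ne_bot, fun _ _ => Submodule.mem_top⟩
  haveI : Nontrivial U := Submodule.nontrivial_iff_ne_bot.2 hU1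
  let σU : Module.End (ZMod q) U := σ.restrict hU2
  have hσU : ∀ (t : ℕ) (u : U), (((σU ^ t) u : U) : V) = (σ ^ t) u := by
    intro t
    induction t with
    | zero => intro u; rfl
    | succ t ih => intro u; rw [pow_succ', pow_succ', Module.End.mul_apply, Module.End.mul_apply, ← ih]; rfl
  have hσUs : Semireg σU h :=
    ⟨LinearMap.ext fun u => Subtype.ext (by rw [hσU, hσ.pow]; rfl),
      fun u hu t e => hσ.free u (fun e' => hu (Subtype.ext e')) t (by rw [← hσU, e])⟩
  have hirrU : ∀ W : Submodule (ZMod q) U, (∀ u ∈ W, σU u ∈ W) → W = ⊥ ∨ W = ⊤ := by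
    intro W hW
    rcases eq_or_ne (W.map U.subtype) ⊥ with h1 | h1
    · left
      exact Submodule.map_injective_of_injective U.subtype_injective (by rw [h1, Submodule.map_bot])
    · right
      refine Submodule.map_injective_of_injective U.subtype_injective ?_
      rw [Submodule.map_top, Submodule.range_subtype]
      refine le_antisymm (Submodule.map_subtype_le _ _) ?_
      have hmem : W.map U.subtype ∈ {U : Submodule (ZMod q) V | U ≠ ⊥ ∧ ∀ u ∈ U, σ u ∈ U} := ⟨h1, by
        rintro _ ⟨u, hu, rfl⟩; exact ⟨σU u, hW u hu, rfl⟩⟩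
      exact (eq_of_le_of_not_lt (Submodule.map_subtype_le _ _) (hmin _ hmem)).ge
  -- the radical of the restricted form
  set Ud := B.orthogonal U with hUd
  have hUdinv : ∀ v ∈ Ud, σ v ∈ Ud := by
    intro v hv u hu
    have e : σ ((σ ^ (h - 1)) u) = u := by
      rw [← Module.End.mul_apply, ← pow_succ', Nat.sub_add_cancel hh, hσ.pow]; rfl
    have hu' : (σ ^ (h - 1)) u ∈ U := by rw [← hσU (h - 1) ⟨u, hu⟩]; exact ((σU ^ (h - 1)) ⟨u, hu⟩).2
    show B u (σ v) = 0
    rw [← e, hB]
    exact hv _ hu'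
  by_cases hiso : U ≤ Ud
  swap
  · right
    refine exists_pow_modEq_neg_one (V := U) (B.restrict U) ?_ (fun u v e => hrefl _ _ e)
      (fun u v => hB u v) hσUs hh hirrU
    have hbot : Disjoint U Ud := by
      rw [disjoint_iff]
      by_contra hne
      refine hiso ?_
      have hmem : U ⊓ Ud ∈ {U : Submodule (ZMod q) V | U ≠ ⊥ ∧ ∀ u ∈ U, σ u ∈ U} :=
        ⟨hne, fun u hu => ⟨hU2 u hu.1, hUdinv u hu.2⟩⟩
      exact (eq_of_le_of_not_lt inf_le_left (hmin _ hmem)).ge.trans inf_le_right
    exact B.nondegenerate_restrict_of_disjoint_orthogonal hrefl hbot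
  -- an isotropic subspace
  have hfr : finrank (ZMod q) Ud = 2 * n - finrank (ZMod q) U := by
    rw [hUd, LinearMap.BilinForm.finrank_orthogonal hnd, hn]
  have hUpos : 0 < finrank (ZMod q) U := Module.finrank_pos
  have hUle : finrank (ZMod q) U ≤ finrank (ZMod q) Ud := Submodule.finrank_mono hiso
  set U' := U.submoduleOf Ud with hU'
  have hfU' : finrank (ZMod q) U' = finrank (ZMod q) U := (Submodule.submoduleOfEquivOfLe hiso).finrank_eq
  have hfQ : finrank (ZMod q) (Ud ⧸ U') = 2 * (n - finrank (ZMod q) U) := by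
    have := Submodule.finrank_quotient_add_finrank U'
    omega
  let σd : Module.End (ZMod q) Ud := σ.restrict hUdinv
  have hσd : ∀ (t : ℕ) (u : Ud), (((σd ^ t) u : Ud) : V) = (σ ^ t) u := by
    intro t
    induction t with
    | zero => intro u; rfl
    | succ t ih => intro u; rw [pow_succ', pow_succ', Module.End.mul_apply, Module.End.mul_apply, ← ih]; rfl
  have hU'inv : U' ≤ U'.comap σd := fun u hu => hU2 _ hu
  let σQ : Module.End (ZMod q) (Ud ⧸ U') := U'.mapQ U' σd hU'inv
  have hσQ : ∀ (t : ℕ) (u : Ud), (σQ ^ t) (Submodule.Quotient.mk u) = Submodule.Quotient.mk ((σd ^ t) u) := by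
    intro t
    induction t with
    | zero => intro u; rfl
    | succ t ih => intro u; rw [pow_succ', pow_succ', Module.End.mul_apply, Module.End.mul_apply, ih]; rfl
  have hperp : ∀ (u : U') (v : Ud), B ((u : Ud) : V) (v : V) = 0 ∧ B (v : V) ((u : Ud) : V) = 0 := fun u v =>
    ⟨v.2 _ u.2, hrefl _ _ (v.2 _ u.2)⟩
  let B1 : Ud →ₗ[ZMod q] (Ud ⧸ U') →ₗ[ZMod q] ZMod q :=
    { toFun := fun u => U'.liftQ (B.restrict Ud u) fun v hv => (hperp ⟨v, hv⟩ u).2
      map_add' := fun u v => LinearMap.ext fun w => by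
        obtain ⟨w, rfl⟩ := Submodule.mkQ_surjective U' w
        simp
      map_smul' := fun c v => LinearMap.ext fun w => by
        obtain ⟨w, rfl⟩ := Submodule.mkQ_surjective U' w
        simp }
  let BQ : BilinForm (ZMod q) (Ud ⧸ U') := U'.liftQ B1 fun u hu => by
    refine LinearMap.mem_ker.2 (LinearMap.ext fun w => ?_)
    obtain ⟨w, rfl⟩ := Submodule.mkQ_surjective U' w
    exact (hperp ⟨u, hu⟩ w).1
  have hBQ : ∀ u v : Ud, BQ (Submodule.Quotient.mk u) (Submodule.Quotient.mk v) = B (u : V) (v : V) := fun _ _ => rfl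
  have hndQ : BQ.Nondegenerate := by
    have hside : ∀ v : Ud, (∀ u : Ud, B (u : V) (v : V) = 0) → (Submodule.Quotient.mk v : Ud ⧸ U') = 0 := by
      intro v hv
      rw [Submodule.Quotient.mk_eq_zero]
      have h1 : (v : V) ∈ B.orthogonal Ud := fun u hu => hv ⟨u, hu⟩
      exact (LinearMap.BilinForm.orthogonal_orthogonal hnd hrefl U).le h1
    constructor
    · intro x hx
      obtain ⟨u, rfl⟩ := Submodule.mkQ_surjective U' x
      exact hside u fun v => hrefl _ _ (hx (Submodule.Quotient.mk v))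
    · intro x hx
      obtain ⟨u, rfl⟩ := Submodule.mkQ_surjective U' x
      exact hside u fun v => hx (Submodule.Quotient.mk v)
  have hsQ : Semireg σQ h := by
    refine ⟨LinearMap.ext fun x => ?_, fun x hx t e => ?_⟩
    · obtain ⟨u, rfl⟩ := Submodule.mkQ_surjective U' x
      exact (hσQ h u).trans (congrArg Submodule.Quotient.mk (Subtype.ext (by rw [hσd, hσ.pow]; rfl)))
    · obtain ⟨u, rfl⟩ := Submodule.mkQ_surjective U' x
      by_contra hnd'
      refine hx ?_
      set w := ∑ k ∈ Finset.range h, (σd ^ (t * k)) u with hw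
      have hfixw : (σd ^ t) w = w := by
        rw [hw, map_sum, ← sub_eq_zero, ← Finset.sum_sub_distrib]
        calc ∑ k ∈ Finset.range h, ((σd ^ t) ((σd ^ (t * k)) u) - (σd ^ (t * k)) u)
            = ∑ k ∈ Finset.range h, ((σd ^ (t * (k + 1))) u - (σd ^ (t * k)) u) := by
              refine Finset.sum_congr rfl fun k _ => ?_
              rw [← Module.End.mul_apply, ← pow_add, show t + t * k = t * (k + 1) by ring]
          _ = (σd ^ (t * h)) u - (σd ^ (t * 0)) u := Finset.sum_range_sub (fun k => (σd ^ (t * k)) u) _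
          _ = 0 := sub_eq_zero.2 (Subtype.ext (by
              rw [hσd, hσd, mul_zero, mul_comm, pow_mul, hσ.pow, one_pow, pow_zero]))
      have hw0 : w = 0 := by
        by_contra hw0
        refine hnd' (hσ.free (w : V) (fun e' => hw0 (Subtype.ext e')) t ?_)
        rw [← hσd, hfixw]
      have hmk : ∀ k, (σQ ^ (t * k)) (Submodule.Quotient.mk u) = Submodule.Quotient.mk u := by
        intro k
        induction k with
        | zero => rfl
        | succ k ihk => rw [Nat.mul_succ, pow_add, Module.End.mul_apply, show (σQ ^ t) (Submodule.Quotient.mk u) = Submodule.Quotient.mk u from e, ihk]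
      have h2 : (h : ZMod q) • (Submodule.Quotient.mk u : Ud ⧸ U') = 0 := by
        rw [Nat.cast_smul_eq_nsmul, ← Submodule.mkQ_apply]
        calc h • U'.mkQ u = ∑ k ∈ Finset.range h, U'.mkQ ((σd ^ (t * k)) u) := by
              conv_lhs => rw [← Finset.card_range h, ← Finset.sum_const]
              refine Finset.sum_congr rfl fun k _ => ?_
              exact ((hσQ (t * k) u).symm.trans (hmk k)).symm
          _ = 0 := by rw [← map_sum, ← hw, hw0, map_zero]
      refine (smul_eq_zero.1 h2).resolve_left ?_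
      exact fun e' => hq.out.coprime_iff_not_dvd.1 hhq.symm ((ZMod.natCast_eq_zero_iff h q).1 e')
  rcases ih (n - finrank (ZMod q) U) (by omega) BQ hndQ (fun x => by
      obtain ⟨u, rfl⟩ := Submodule.mkQ_surjective U' x
      exact halt _) (fun x y => by
      obtain ⟨u, rfl⟩ := Submodule.mkQ_surjective U' x
      obtain ⟨v, rfl⟩ := Submodule.mkQ_surjective U' y
      exact hB _ _) hsQ hfQ with h1 | h1
  · left
    have h2 := semireg_dvd hσUs hh
    have hone : ∀ e, h ∣ q ^ e - 1 → q ^ e ≡ 1 [MOD h] := fun e he =>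
      ((Nat.modEq_iff_dvd' (Nat.one_le_pow _ _ hq.out.pos)).2 he).symm
    refine (Nat.modEq_iff_dvd' (Nat.one_le_pow _ _ hq.out.pos)).1 ?_
    have h3 := (hone _ h1).mul (hone _ h2)
    rw [← pow_add, Nat.sub_add_cancel (by omega), one_mul] at h3
    exact h3.symm
  · exact Or.inr h1

theorem dvd_pow_add_one_or_sub_one {V : Type*} [AddCommGroup V] [Module (ZMod q) V] [FiniteDimensional (ZMod q) V]
    (B : BilinForm (ZMod q) V) (hnd : B.Nondegenerate) (halt : ∀ v, B v v = 0) {σ : Module.End (ZMod q) V}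
    (hB : ∀ u v, B (σ u) (σ v) = B u v) (hσ : Semireg σ h) (hh : 0 < h) (hhq : h.Coprime q) (n : ℕ)
    (hn : finrank (ZMod q) V = 2 * n) : h ∣ q ^ n + 1 ∨ h ∣ q ^ n - 1 := by
  have h2n : h ∣ q ^ (2 * n) - 1 := hn ▸ semireg_dvd hσ hh
  rcases dvd_sub_one_or B hnd halt hB hσ hh hhq n hn with h1 | ⟨i, hi⟩
  · exact Or.inr h1
  set d := orderOf (q : ZMod h) with hd
  have hneg : (q : ZMod h) ^ i = -1 := by
    rw [eq_neg_iff_add_eq_zero]
    have := (ZMod.natCast_eq_zero_iff (q ^ i + 1) h).2 hi
    simpa using this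
  have hone : ((q : ZMod h) ^ n) ^ 2 = 1 := by
    rw [← pow_mul, mul_comm, ← sub_eq_zero]
    have := (ZMod.natCast_eq_zero_iff (q ^ (2 * n) - 1) h).2 h2n
    rwa [Nat.cast_sub (Nat.one_le_pow _ _ hq.out.pos), Nat.cast_pow, Nat.cast_one] at this
  suffices hs : (q : ZMod h) ^ n = 1 ∨ (q : ZMod h) ^ n = -1 by
    rcases hs with hs | hs
    · right
      rw [← ZMod.natCast_eq_zero_iff, Nat.cast_sub (Nat.one_le_pow _ _ hq.out.pos), Nat.cast_pow, Nat.cast_one, hs,
        sub_self]
    · left
      rw [← ZMod.natCast_eq_zero_iff, Nat.cast_add, Nat.cast_pow, Nat.cast_one, hs, neg_add_cancel]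
  by_cases hdn : d ∣ n
  · exact Or.inl (orderOf_dvd_iff_pow_eq_one.1 hdn)
  right
  have hd2n : d ∣ 2 * n := orderOf_dvd_of_pow_eq_one (by rw [mul_comm, pow_mul, hone])
  have hd2i : d ∣ 2 * i := orderOf_dvd_of_pow_eq_one (by rw [mul_comm, pow_mul, hneg, neg_one_sq])
  obtain ⟨a, ha⟩ := hd2n
  have hd0 : 0 < d := by
    rcases Nat.eq_zero_or_pos d with e | e
    · exfalso
      rw [e, zero_mul] at ha
      exact hdn ⟨0, by omega⟩
    · exact e
  obtain ⟨b, hb⟩ := hd2i
  obtain ⟨a', rfl | rfl⟩ := Nat.even_or_odd' a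
  · exact absurd ⟨a', Nat.eq_of_mul_eq_mul_left (by norm_num : 0 < 2) (ha.trans (by ring))⟩ hdn
  obtain ⟨e, hde⟩ : 2 ∣ d := by
    by_contra hodd
    rcases (Nat.prime_two.dvd_mul.1 ⟨n, ha.symm⟩) with h' | h'
    · exact hodd h'
    · omega
  have hn' : n = e * (2 * a' + 1) := by
    rw [hde] at ha; exact Nat.eq_of_mul_eq_mul_left (by norm_num : 0 < 2) (by linarith)
  have hi' : i = e * b := by
    rw [hde] at hb; exact Nat.eq_of_mul_eq_mul_left (by norm_num : 0 < 2) (by linarith)
  have hper : ((q : ZMod h) ^ e) ^ 2 = 1 := by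
    rw [← pow_mul, mul_comm, ← hde, hd, pow_orderOf_eq_one]
  rcases Nat.even_or_odd' b with ⟨b', rfl | rfl⟩
  · rw [hi', pow_mul, pow_mul, hper, one_pow] at hneg
    have hn1 : (q : ZMod h) ^ n = ((q : ZMod h) ^ e) := by
      rw [hn', pow_mul, pow_succ, pow_mul, hper, one_pow, one_mul]
    have h2 : 2 = (0 : ZMod h) := by rw [← one_add_one_eq_two]; nth_rw 2 [hneg]; simp
    have hh2 : h ∣ 2 := (ZMod.natCast_eq_zero_iff 2 h).1 (by exact_mod_cast h2)
    exfalso
    refine hdn ?_
    rcases (Nat.dvd_prime Nat.prime_two).1 hh2 with e1 | e1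
    · subst e1
      exact (orderOf_dvd_of_pow_eq_one (n := 1) (Subsingleton.elim _ _)).trans (one_dvd n)
    · subst e1
      refine (orderOf_dvd_of_pow_eq_one (n := 1) ?_).trans (one_dvd n)
      rw [pow_one]
      have hqodd : Odd q := hq.out.odd_of_ne_two fun hq2 => by simp [hq2] at hhq
      obtain ⟨k, rfl⟩ := hqodd
      push_cast
      rw [show (2 : ZMod 2) = 0 from rfl, zero_mul, zero_add]
  · rw [hn', pow_mul, pow_succ, pow_mul, hper, one_pow, one_mul]
    rwa [hi', pow_mul, pow_succ, pow_mul, hper, one_pow, one_mul] at hneg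

theorem semiregular_pairing_module {M C : Type*} [CommGroup M] [Module (ZMod q) (Additive M)] [Finite M] [CommGroup C] [Finite C]
    (hC : Nat.card C = q)
    (f : M → M → C) (hl : ∀ a b c, f (a * b) c = f a c * f b c)
    (halt : ∀ a, f a a = 1) (hnd : ∀ a, (∀ b, f a b = 1) → a = 1) (σ : MulAut M) (hinv : ∀ a b, f (σ a) (σ b) = f a b)
    (hr : ∀ a b c, f a (b * c) = f a b * f a c)
    (hh : 0 < h) (hhq : h.Coprime q) (hpow : σ ^ h = 1) (hfree : ∀ a : M, a ≠ 1 → ∀ t : ℕ, (σ ^ t) a = a → h ∣ t)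
    (n : ℕ) (hn : Nat.card M = q ^ (2 * n)) : h ∣ q ^ n + 1 ∨ h ∣ q ^ n - 1 := by
  haveI : Finite (Additive M) := inferInstanceAs (Finite M)
  haveI : FiniteDimensional (ZMod q) (Additive M) := Module.Finite.of_finite
  haveI : IsCyclic C := isCyclic_of_prime_card hC
  obtain ⟨eC⟩ : Nonempty (C ≃* Multiplicative (ZMod q)) := ⟨mulEquivOfCyclicCardEq (by
    rw [hC, Nat.card_congr Multiplicative.toAdd, Nat.card_zmod])⟩
  let g : Additive M → Additive M → ZMod q := fun a b => (eC (f a.toMul b.toMul)).toAdd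
  let B0 : Additive M →+ Additive M →+ ZMod q :=
    AddMonoidHom.mk' (fun a => AddMonoidHom.mk' (g a) fun b c => by
      show (eC (f _ (_ * _))).toAdd = _; rw [hr, map_mul, toAdd_mul]) fun a b => by
      ext c
      show (eC (f (_ * _) _)).toAdd = _
      rw [hl, map_mul, toAdd_mul]; rfl
  let B : LinearMap.BilinForm (ZMod q) (Additive M) :=
    { toFun := fun a => (B0 a).toZModLinearMap q
      map_add' := fun a b => LinearMap.ext fun c => by
        show B0 (a + b) c = B0 a c + B0 b c
        rw [map_add]; rfl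
      map_smul' := fun r a => LinearMap.ext fun c => by
        exact ZMod.map_smul (B0.flip c) r a }
  have hB : ∀ a b, B a b = g a b := fun _ _ => rfl
  have hg0 : ∀ {x : C}, (eC x).toAdd = 0 → x = 1 := fun {x} e => eC.injective (by
    rw [map_one]; exact Multiplicative.toAdd.injective e)
  let S : Module.End (ZMod q) (Additive M) :=
    (AddMonoidHom.mk' (fun v : Additive M => Additive.ofMul (σ v.toMul))
      fun v w => congrArg Additive.ofMul (map_mul σ _ _)).toZModLinearMap q
  have hS : ∀ (t : ℕ) (v : Additive M), (S ^ t) v = Additive.ofMul ((σ ^ t) v.toMul) := by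
    intro t
    induction t with
    | zero => intro v; rfl
    | succ t ih => intro v; rw [pow_succ', pow_succ', Module.End.mul_apply, ih]; rfl
  have hskew : ∀ a b, g a b = - g b a := fun a b => by
    rw [eq_neg_iff_add_eq_zero]
    have e := halt (a.toMul * b.toMul)
    rw [hl, hr, hr, halt, halt, one_mul, mul_one] at e
    show (eC (f _ _)).toAdd + (eC (f _ _)).toAdd = 0
    rw [← toAdd_mul, ← map_mul, e, map_one, toAdd_one]
  refine dvd_pow_add_one_or_sub_one B ⟨fun v hv => ?_, fun v hv => ?_⟩ (fun v => ?_) (fun u v => ?_)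
    (σ := S) ⟨LinearMap.ext fun v => ?_, fun v hv t e => ?_⟩ hh hhq n ?_
  · exact Additive.toMul.injective (hnd _ fun b => hg0 (hv (Additive.ofMul b)))
  · exact Additive.toMul.injective (hnd _ fun b => hg0 (by
      have h1 : g v (Additive.ofMul b) = 0 := by rw [hskew, ← hB, hv, neg_zero]
      exact h1))
  · show (eC (f _ _)).toAdd = 0
    rw [halt, map_one, toAdd_one]
  · show (eC (f (σ _) (σ _))).toAdd = _
    rw [hinv]; rfl
  · rw [hS, hpow]; rfl
  · refine hfree v.toMul (fun e' => hv (Additive.toMul.injective e')) t ?_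
    rw [hS] at e
    exact congrArg Additive.toMul e
  · have h1 := Module.natCard_eq_pow_finrank (K := ZMod q) (V := Additive M)
    rw [Nat.card_zmod, Nat.card_congr Additive.toMul, hn] at h1
    exact (Nat.pow_right_injective hq.out.two_le h1).symm

/-- The group-theoretic form: a semiregular automorphism preserving a nondegenerate alternating pairing. -/
theorem semiregular_pairing {M C : Type*} [CommGroup M] [Finite M] [CommGroup C] [Finite C] (hC : Nat.card C = q)
    (hM : ∀ a : M, a ^ q = 1) (f : M → M → C) (hl : ∀ a b c, f (a * b) c = f a c * f b c)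
    (halt : ∀ a, f a a = 1) (hnd : ∀ a, (∀ b, f a b = 1) → a = 1) (σ : MulAut M) (hinv : ∀ a b, f (σ a) (σ b) = f a b)
    (hr : ∀ a b c, f a (b * c) = f a b * f a c)
    (hh : 0 < h) (hhq : h.Coprime q) (hpow : σ ^ h = 1) (hfree : ∀ a : M, a ≠ 1 → ∀ t : ℕ, (σ ^ t) a = a → h ∣ t)
    (n : ℕ) (hn : Nat.card M = q ^ (2 * n)) : h ∣ q ^ n + 1 ∨ h ∣ q ^ n - 1 :=
  letI : Module (ZMod q) (Additive M) := AddCommGroup.zmodModule fun v =>
    Additive.toMul.injective (by rw [toMul_nsmul]; exact hM _)
  semiregular_pairing_module hC f hl halt hnd σ hinv hr hh hhq hpow hfree n hn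

end Cfsg.Lib.Linear
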