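import Cfsg.Prelude.Def_GeometricClasses
import Cfsg.Agent.Lib.Linear.SemisimpleClasses
import Mathlib.FieldTheory.Finite.Trace
import Mathlib.RingTheory.Polynomial.Cyclotomic.Basic

/-!
# Normalisers of field subalgebras of full degree

For a field subalgebra `K` of the `n × n` matrices of prime degree `n`: simple transitivity, elements of
the normaliser with large eigenspaces are scalar, the Frobenius element, and conjugation into the normaliser.
-/

set_option autoImplicit false

namespace Cfsg.Lib.Linear.Singer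

open Module Polynomial
open scoped Matrix

universe u

variable {F : Type u} [Field F] {n : ℕ} {K : Subalgebra F (Matrix (Fin n) (Fin n) F)}

theorem nontrivial_K (hK : Cfsg.Geo.IsFieldSubalgebra n K) (hn : 0 < n) : Nontrivial K :=
  Module.nontrivial_of_finrank_pos (R := F) (by rw [hK.finrank_eq]; exact hn)

/-- The field structure. -/
theorem isField_K (hK : Cfsg.Geo.IsFieldSubalgebra n K) (hn : 0 < n) : IsField K where
  exists_pair_ne := (nontrivial_K hK hn).exists_pair_ne
  mul_comm a b := Subtype.ext (hK.comm _ a.2 _ b.2)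
  mul_inv_cancel {a} ha := by
    obtain ⟨b, hb, hab⟩ := hK.inv _ a.2 (fun h => ha (Subtype.ext h))
    exact ⟨⟨b, hb⟩, Subtype.ext hab⟩

theorem eq_zero_of_mulVec (hK : Cfsg.Geo.IsFieldSubalgebra n K) {k : Matrix (Fin n) (Fin n) F} (hk : k ∈ K)
    {v : Fin n → F} (hv : v ≠ 0) (h : k *ᵥ v = 0) : k = 0 := by
  by_contra h0
  obtain ⟨b, hb, hkb⟩ := hK.inv _ hk h0
  rw [hK.comm _ hk _ hb] at hkb
  refine hv ?_
  rw [← Matrix.one_mulVec v, ← hkb, ← Matrix.mulVec_mulVec, h, Matrix.mulVec_zero]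

/-- `K` acts simply transitively on the nonzero vectors. -/
theorem exists_equiv (hK : Cfsg.Geo.IsFieldSubalgebra n K) {v : Fin n → F} (hv : v ≠ 0) :
    ∃ Φ : K ≃ₗ[F] (Fin n → F), ∀ k : K, Φ k = (k : Matrix (Fin n) (Fin n) F) *ᵥ v := by
  let φ : K →ₗ[F] (Fin n → F) :=
    { toFun := fun k => (k : Matrix (Fin n) (Fin n) F) *ᵥ v
      map_add' := fun a b => Matrix.add_mulVec _ _ _
      map_smul' := fun c a => Matrix.smul_mulVec c _ _ }
  have hinj : Function.Injective φ := (injective_iff_map_eq_zero _).2 fun k hk =>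
    Subtype.ext (eq_zero_of_mulVec hK k.2 hv hk)
  exact ⟨LinearEquiv.ofInjectiveOfFinrankEq φ hinj (by rw [hK.finrank_eq, Module.finrank_fin_fun]), fun k => rfl⟩

/-- A normalising element with a repeated eigenvalue is scalar. -/
theorem scalar_of_eigen (hn : n.Prime) (hK : Cfsg.Geo.IsFieldSubalgebra n K) (g : GL (Fin n) F)
    (hg : g ∈ Cfsg.Geo.subalgebraNormalizer K) (c : F) (v₁ v₂ : Fin n → F) (hli : LinearIndependent F ![v₁, v₂])
    (h₁ : (g : Matrix (Fin n) (Fin n) F) *ᵥ v₁ = c • v₁) (h₂ : (g : Matrix (Fin n) (Fin n) F) *ᵥ v₂ = c • v₂) :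
    (g : Matrix (Fin n) (Fin n) F) = c • 1 := by
  classical
  have hv₁ : v₁ ≠ 0 := hli.ne_zero 0
  obtain ⟨Φ, hΦ⟩ := exists_equiv hK hv₁
  obtain ⟨k, hk⟩ := Φ.surjective v₂
  rw [hΦ] at hk
  have he := (hg _).1 k.2
  obtain ⟨e, hedef⟩ : ∃ e, e = (g : Matrix (Fin n) (Fin n) F) * (k : Matrix (Fin n) (Fin n) F) * ((g⁻¹ : GL (Fin n) F) : Matrix (Fin n) (Fin n) F) := ⟨_, rfl⟩
  rw [← hedef] at he
  have hge : (g : Matrix (Fin n) (Fin n) F) * (k : Matrix (Fin n) (Fin n) F) = e * (g : Matrix (Fin n) (Fin n) F) := by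
    rw [hedef, mul_assoc _ _ (g : Matrix (Fin n) (Fin n) F), Units.inv_mul, mul_one]
  have hc : c ≠ 0 := by
    rintro rfl
    rw [zero_smul] at h₁
    have := congrArg ((((g⁻¹ : GL (Fin n) F) : Matrix (Fin n) (Fin n) F)) *ᵥ ·) h₁
    simp [Matrix.mulVec_mulVec] at this
    exact hv₁ this
  have hek : e = k := by
    have h := congrArg (· *ᵥ v₁) hge
    simp only [← Matrix.mulVec_mulVec, h₁, hk, h₂, Matrix.mulVec_smul] at h
    have h' := smul_right_injective _ hc h
    rw [← hk] at h'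
    refine sub_eq_zero.1 (eq_zero_of_mulVec hK (K.sub_mem he k.2) hv₁ ?_)
    rw [Matrix.sub_mulVec, h', sub_self]
  rw [hek] at hge
  letI := (isField_K hK hn.pos).toField
  let S : Subalgebra F K :=
    { carrier := {a : K | (g : Matrix (Fin n) (Fin n) F) * (a : Matrix (Fin n) (Fin n) F) = (a : Matrix (Fin n) (Fin n) F) * (g : Matrix (Fin n) (Fin n) F)}
      mul_mem' := fun {a b} ha hb => by
        simp only [Set.mem_setOf_eq, Subalgebra.coe_mul] at ha hb ⊢
        rw [← mul_assoc, ha, mul_assoc, hb, ← mul_assoc]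
      add_mem' := fun {a b} ha hb => by
        simp only [Set.mem_setOf_eq, Subalgebra.coe_add] at ha hb ⊢
        rw [mul_add, add_mul, ha, hb]
      algebraMap_mem' := fun r => (Algebra.commutes r (g : Matrix (Fin n) (Fin n) F)).symm }
  haveI : IsDomain K := (isField_K hK hn.pos).isDomain
  haveI := Subalgebra.isSimpleOrder_of_finrank_prime F K (hK.finrank_eq.symm ▸ hn)
  have hS : S = ⊤ := (eq_bot_or_eq_top S).resolve_left fun h => by
    have : k ∈ (⊥ : Subalgebra F K) := h ▸ hge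
    obtain ⟨r, hr⟩ := Algebra.mem_bot.1 this
    have hkr : (k : Matrix (Fin n) (Fin n) F) = r • 1 := by
      rw [← hr]; exact Algebra.algebraMap_eq_smul_one r
    rw [hkr, Matrix.smul_mulVec, Matrix.one_mulVec] at hk
    exact (LinearIndependent.pair_iff' hv₁).1 hli r hk
  refine Matrix.toLin'.injective (LinearMap.ext fun v => ?_)
  obtain ⟨a, rfl⟩ := Φ.surjective v
  have ha : a ∈ S := hS ▸ Algebra.mem_top
  rw [Matrix.toLin'_apply, Matrix.toLin'_apply, hΦ, Matrix.mulVec_mulVec]
  rw [show (g : Matrix (Fin n) (Fin n) F) * (a : Matrix (Fin n) (Fin n) F) = (a : Matrix (Fin n) (Fin n) F) * (g : Matrix (Fin n) (Fin n) F) from ha,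
    ← Matrix.mulVec_mulVec, h₁, Matrix.mulVec_smul, Matrix.smul_mulVec, Matrix.one_mulVec]

/-- To normalise it is enough to map `K` into itself. -/
theorem mem_norm_of_conj (g : GL (Fin n) F)
    (h : ∀ e ∈ K, (g : Matrix (Fin n) (Fin n) F) * e * ((g⁻¹ : GL (Fin n) F) : Matrix (Fin n) (Fin n) F) ∈ K) :
    g ∈ Cfsg.Geo.subalgebraNormalizer K := by
  let φ : K →ₗ[F] K :=
    { toFun := fun a => ⟨_, h _ a.2⟩
      map_add' := fun a b => Subtype.ext (by simp [mul_add, add_mul])
      map_smul' := fun c a => Subtype.ext (by simp) }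
  have hinj : Function.Injective φ := fun a b hab => Subtype.ext (by
    have := congrArg Subtype.val hab
    exact (Units.mul_right_inj g).1 ((Units.mul_left_inj g⁻¹).1 this))
  intro e
  refine ⟨h e, fun he => ?_⟩
  obtain ⟨a, ha⟩ := (LinearMap.injective_iff_surjective.1 hinj) ⟨_, he⟩
  have h2 : (a : Matrix (Fin n) (Fin n) F) = e :=
    (Units.mul_right_inj g).1 ((Units.mul_left_inj g⁻¹).1 (congrArg Subtype.val ha))
  exact h2 ▸ a.2

/-- Elements of `K` have all determinants. -/
theorem exists_det [Finite F] (hK : Cfsg.Geo.IsFieldSubalgebra n K) (hn : 0 < n) (δ : F) :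
    ∃ k ∈ K, k.det = δ := by
  classical
  letI := (isField_K hK hn).toField
  haveI : Module.Finite F K := Module.finite_of_finrank_pos (by rw [hK.finrank_eq]; exact hn)
  haveI : Finite K := Module.finite_of_finite F
  obtain ⟨a, ha⟩ := FiniteField.norm_surjective F K δ
  obtain ⟨Φ, hΦ⟩ := exists_equiv hK (v := Pi.single ⟨0, hn⟩ 1) (by simp)
  refine ⟨a, a.2, ?_⟩
  rw [← LinearMap.det_toLin', ← ha, Algebra.norm_apply]
  rw [show Matrix.toLin' (a : Matrix (Fin n) (Fin n) F) = (Φ : K →ₗ[F] (Fin n → F)) ∘ₗ Algebra.lmul F K a ∘ₗ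
    (Φ.symm : (Fin n → F) →ₗ[F] K) from LinearMap.ext fun v => by
      obtain ⟨b, rfl⟩ := Φ.surjective v
      rw [LinearMap.comp_apply, LinearMap.comp_apply, LinearEquiv.coe_coe, LinearEquiv.coe_coe,
        LinearEquiv.symm_apply_apply, hΦ, hΦ, Matrix.toLin'_apply, Matrix.mulVec_mulVec]
      rfl, LinearMap.det_conj]

/-- The Frobenius element of the normaliser. -/
theorem exists_frob [Fintype F] (hK : Cfsg.Geo.IsFieldSubalgebra n K) (hn : 2 ≤ n) :
    ∃ g : GL (Fin n) F, g ∈ Cfsg.Geo.subalgebraNormalizer K ∧ (g : Matrix (Fin n) (Fin n) F) ^ n = 1 ∧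
      (g : Matrix (Fin n) (Fin n) F) ≠ 1 ∧ minpoly F (g : Matrix (Fin n) (Fin n) F) = X ^ n - 1 := by
  classical
  have hn0 : 0 < n := by omega
  letI := (isField_K hK hn0).toField
  haveI : Module.Finite F K := Module.finite_of_finrank_pos (by rw [hK.finrank_eq]; exact hn0)
  haveI : Finite K := Module.finite_of_finite F
  letI := Fintype.ofFinite K
  obtain ⟨Φ, hΦ⟩ := exists_equiv hK (v := Pi.single ⟨0, hn0⟩ 1) (by simp)
  let σ : K →ₐ[F] K := FiniteField.frobeniusAlgHom F K
  have hσ : ∀ (i : ℕ) (k : K), (σ.toLinearMap ^ i) k = k ^ Fintype.card F ^ i := fun i k => by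
    induction i with
    | zero => simp
    | succ i ih =>
      rw [pow_succ', Module.End.mul_apply, ih]
      show (k ^ Fintype.card F ^ i) ^ Fintype.card F = _
      rw [← pow_mul, ← pow_succ]
  have hcard : Fintype.card K = Fintype.card F ^ n := by
    rw [Module.card_eq_pow_finrank (K := F), hK.finrank_eq]
  have hσn : σ.toLinearMap ^ n = 1 := LinearMap.ext fun k => by
    rw [hσ, ← hcard, FiniteField.pow_card]; rfl
  let L : Module.End F (Fin n → F) ≃ₐ[F] Matrix (Fin n) (Fin n) F := LinearMap.toMatrixAlgEquiv'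
  let Y₀ : Matrix (Fin n) (Fin n) F := L (Φ.conjAlgEquiv F σ.toLinearMap)
  have hYn : Y₀ ^ n = 1 := by simp only [Y₀, ← map_pow, hσn, map_one]
  let g : GL (Fin n) F := Units.ofPowEqOne Y₀ n hYn hn0.ne'
  have hgY : (g : Matrix (Fin n) (Fin n) F) = Y₀ := rfl
  have hYapp : ∀ k : K, Y₀ *ᵥ Φ k = Φ (σ k) := fun k => by
    rw [← Matrix.toLin'_apply]
    show (L.symm Y₀) (Φ k) = _
    simp [Y₀, LinearEquiv.conjAlgEquiv_apply]
  have hYk : ∀ k : K, Y₀ * (k : Matrix (Fin n) (Fin n) F) = (σ k : Matrix (Fin n) (Fin n) F) * Y₀ := fun k => by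
    refine Matrix.toLin'.injective (LinearMap.ext fun v => ?_)
    obtain ⟨b, rfl⟩ := Φ.surjective v
    have e : ∀ a c : K, (a : Matrix (Fin n) (Fin n) F) *ᵥ Φ c = Φ (a * c) := fun a c => by
      rw [hΦ, hΦ, Matrix.mulVec_mulVec]; rfl
    rw [Matrix.toLin'_apply, Matrix.toLin'_apply, ← Matrix.mulVec_mulVec, ← Matrix.mulVec_mulVec, hYapp, e, e, hYapp,
      map_mul]
  have hindep : ∀ P : F[X], P.natDegree < n → aeval Y₀ P = 0 → P = 0 := by
    intro P hdeg hP
    have h0 : aeval σ.toLinearMap P = 0 := by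
      have h1 : L (Φ.conjAlgEquiv F (aeval σ.toLinearMap P)) = 0 := by
        have h2 := Polynomial.aeval_algHom_apply ((Φ.conjAlgEquiv F).trans L).toAlgHom σ.toLinearMap P
        exact h2.symm.trans hP
      have h3 := congrArg L.symm h1
      rw [AlgEquiv.symm_apply_apply, map_zero] at h3
      have h4 := congrArg (Φ.conjAlgEquiv F).symm h3
      rwa [AlgEquiv.symm_apply_apply, map_zero] at h4
    let Q : K[X] := ∑ i ∈ Finset.range n, Polynomial.C (algebraMap F K (P.coeff i)) * X ^ (Fintype.card F ^ i)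
    have hq := Fintype.one_lt_card (α := F)
    have hQev : ∀ k : K, Q.eval k = 0 := fun k => by
      have h5 := LinearMap.congr_fun h0 k
      rw [aeval_eq_sum_range' hdeg, LinearMap.sum_apply] at h5
      rw [Finset.sum_congr rfl (fun i _ => show (P.coeff i • σ.toLinearMap ^ i) k = algebraMap F K (P.coeff i) * k ^ Fintype.card F ^ i by
        rw [LinearMap.smul_apply, hσ, Algebra.smul_def]), LinearMap.zero_apply] at h5
      simpa [Q, Polynomial.eval_finsetSum] using h5
    have hQdeg : Q.natDegree ≤ Fintype.card F ^ (n - 1) := by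
      refine Polynomial.natDegree_sum_le_of_forall_le _ _ fun i hi => (Polynomial.natDegree_C_mul_X_pow_le _ _).trans ?_
      rw [Finset.mem_range] at hi
      exact Nat.pow_le_pow_right (by omega) (by omega)
    have hQ0 : Q = 0 := by
      refine Polynomial.eq_zero_of_natDegree_lt_card_of_eval_eq_zero Q Function.injective_id hQev ?_
      rw [hcard]
      exact hQdeg.trans_lt (Nat.pow_lt_pow_right hq (by omega))
    refine Polynomial.ext fun i => ?_
    rw [coeff_zero]
    rcases Nat.lt_or_ge i n with hi | hi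
    · have h6 := congrArg (fun R => Polynomial.coeff R (Fintype.card F ^ i)) hQ0
      simp only [Q, finsetSum_coeff, coeff_C_mul_X_pow, coeff_zero] at h6
      rw [Finset.sum_eq_single i (fun j _ hj => if_neg fun e => hj (Nat.pow_right_injective hq e).symm)
        (fun h => absurd (Finset.mem_range.2 hi) h), if_pos rfl] at h6
      exact (algebraMap F K).injective (h6.trans (map_zero _).symm)
    · exact coeff_eq_zero_of_natDegree_lt (by omega)
  have hmin : minpoly F Y₀ = X ^ n - 1 := by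
    have hint : IsIntegral F Y₀ := Matrix.isIntegral Y₀
    have hdvd : minpoly F Y₀ ∣ X ^ n - 1 := minpoly.dvd _ _ (by simp [hYn])
    have hdeg : n ≤ (minpoly F Y₀).natDegree := by
      by_contra h
      exact minpoly.ne_zero hint (hindep _ (by omega) (minpoly.aeval _ _))
    refine (Polynomial.eq_of_monic_of_dvd_of_natDegree_le (minpoly.monic hint) (monic_X_pow_sub_C 1 hn0.ne') hdvd ?_).symm
    rwa [natDegree_X_pow_sub_C]
  refine ⟨g, mem_norm_of_conj g fun e he => ?_, hYn, fun h => ?_, hmin⟩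
  · have h1 := hYk ⟨e, he⟩
    rw [hgY, show Y₀ * e = (σ ⟨e, he⟩ : Matrix (Fin n) (Fin n) F) * (g : Matrix (Fin n) (Fin n) F) from h1,
      mul_assoc, Units.mul_inv, mul_one]
    exact (σ ⟨e, he⟩).2
  · have h1 : X - Polynomial.C (1 : F) = 0 := hindep _ (by rw [natDegree_X_sub_C]; omega) (by rw [← hgY, h]; simp)
    exact X_sub_C_ne_zero _ h1

/-- Equal characteristic polynomials bring an element into the normaliser. -/
theorem conj_into [Fintype F] (hK : Cfsg.Geo.IsFieldSubalgebra n K) (hn : 0 < n)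
    (x : Matrix.SpecialLinearGroup (Fin n) F) (g : GL (Fin n) F) (hg : g ∈ Cfsg.Geo.subalgebraNormalizer K) {N : ℕ}
    (hN : (N : F) ≠ 0) (hx : (x : Matrix (Fin n) (Fin n) F) ^ N = 1) (hgN : (g : Matrix (Fin n) (Fin n) F) ^ N = 1)
    (hc : (x : Matrix (Fin n) (Fin n) F).charpoly = (g : Matrix (Fin n) (Fin n) F).charpoly) :
    ∃ P : Matrix.SpecialLinearGroup (Fin n) F,
      P⁻¹ * x * P ∈ (Cfsg.Geo.subalgebraNormalizer K).comap Matrix.SpecialLinearGroup.toGL := by
  classical
  obtain ⟨c, hc'⟩ := Cfsg.Lib.CanonicalForm.isConj_of_charpoly_eq N N hN hN hx hgN hc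
  have hcdet : (c : Matrix (Fin n) (Fin n) F).det ≠ 0 := ((Matrix.isUnit_iff_isUnit_det _).1 c.isUnit).ne_zero
  obtain ⟨k, hk, hkdet⟩ := exists_det hK hn (c : Matrix (Fin n) (Fin n) F).det⁻¹
  obtain ⟨ku, hku⟩ : IsUnit k := (Matrix.isUnit_iff_isUnit_det _).2 (isUnit_iff_ne_zero.2 (hkdet ▸ inv_ne_zero hcdet))
  have hkn : ku ∈ Cfsg.Geo.subalgebraNormalizer K := mem_norm_of_conj ku fun e he => by
    rw [hku, hK.comm _ hk _ he, mul_assoc, ← hku, Units.mul_inv, mul_one]
    exact he
  let M : Matrix.SpecialLinearGroup (Fin n) F := ⟨k * (c : Matrix (Fin n) (Fin n) F), by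
    rw [Matrix.det_mul, hkdet, inv_mul_cancel₀ hcdet]⟩
  refine ⟨M⁻¹, Subgroup.mem_comap.2 ?_⟩
  rw [show Matrix.SpecialLinearGroup.toGL (M⁻¹⁻¹ * x * M⁻¹) = ku * g * ku⁻¹ from ?_]
  · exact mul_mem (mul_mem hkn hg) (inv_mem hkn)
  have hM : Matrix.SpecialLinearGroup.toGL M = ku * c := Units.ext (by rw [Units.val_mul, hku]; rfl)
  rw [inv_inv, map_mul, map_mul, map_inv, hM, mul_inv_rev, mul_assoc ku c, ← mul_assoc (ku * _) c⁻¹ ku⁻¹, mul_assoc ku]
  congr 2
  refine Units.ext ?_
  show (c : Matrix (Fin n) (Fin n) F) * (x : Matrix (Fin n) (Fin n) F) * ((c⁻¹ : GL (Fin n) F) : Matrix (Fin n) (Fin n) F) = g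
  rw [show (c : Matrix (Fin n) (Fin n) F) * (x : Matrix (Fin n) (Fin n) F) = (g : Matrix (Fin n) (Fin n) F) * (c : Matrix (Fin n) (Fin n) F) from hc',
    mul_assoc, Units.mul_inv, mul_one]

/-- An element of prime order `n` when `q` has order `n - 1` modulo `n`. -/
theorem charpoly_eq [Fintype F] (hn : n.Prime) (hn3 : 3 ≤ n) (hc : orderOf (Fintype.card F : ZMod n) = n - 1)
    (T : Matrix (Fin n) (Fin n) F) (hT : T ^ n = 1) (hT1 : T ≠ 1) (hdet : T.det = 1) :
    T.charpoly = X ^ n - 1 := by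
  classical
  haveI : Fact n.Prime := ⟨hn⟩
  have hnF : (n : F) ≠ 0 := by
    intro h0
    have h1 := CharP.cast_eq_zero_iff F (ringChar F) n |>.1 h0
    haveI : Fact (ringChar F).Prime := ⟨CharP.char_is_prime F _⟩
    obtain ⟨k, -, hk⟩ := FiniteField.card F (ringChar F)
    have h2 : ringChar F = n := (Nat.prime_dvd_prime_iff_eq Fact.out hn).1 h1
    rw [hk, h2, Nat.cast_pow, ZMod.natCast_self, zero_pow k.pos.ne', orderOf_zero] at hc
    omega
  have hint : IsIntegral F T := Matrix.isIntegral T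
  have hsep : (minpoly F T).Separable :=
    Separable.of_dvd (Polynomial.X_pow_sub_one_separable_iff.2 hnF) (minpoly.dvd _ _ (by simp [hT]))
  obtain ⟨f, hfi, hfm, hfd, hf1⟩ : ∃ f : F[X], Irreducible f ∧ f.Monic ∧ f ∣ minpoly F T ∧ f ≠ X - Polynomial.C 1 := by
    by_contra h
    push Not at h
    have h1 : minpoly F T ∣ X - Polynomial.C 1 := by
      have hfac : ∀ P : F[X], P ∣ minpoly F T → ¬ IsUnit P → X - Polynomial.C 1 ∣ P := fun P hP hu => by
        obtain ⟨f, hf, hfP⟩ := WfDvdMonoid.exists_irreducible_factor hu (ne_zero_of_dvd_ne_zero (minpoly.ne_zero hint) hP)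
        have hass : Associated f (normalize f) := (normalize_associated f).symm
        rw [← h (normalize f) (hass.irreducible hf) (Polynomial.monic_normalize hf.ne_zero) (hass.symm.dvd.trans (hfP.trans hP))]
        exact hass.symm.dvd.trans hfP
      obtain ⟨W, hW⟩ := hfac _ dvd_rfl (minpoly.not_isUnit F T)
      have hWu : IsUnit W := by
        by_contra hu
        obtain ⟨W', hW'⟩ := hfac W ⟨X - Polynomial.C 1, by rw [hW, mul_comm]⟩ hu
        exact (irreducible_X_sub_C (1 : F)).not_isUnit (hsep.squarefree _ ⟨W', by rw [hW, hW', mul_assoc]⟩)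
      rw [hW]
      exact hWu.mul_right_dvd.2 dvd_rfl
    refine hT1 (sub_eq_zero.1 ?_)
    obtain ⟨w, hw⟩ := h1
    have h2 : aeval T (X - Polynomial.C (1 : F)) = 0 := by rw [hw, map_mul, minpoly.aeval, zero_mul]
    simpa using h2
  have hdvd : f ∣ X ^ n - 1 := hfd.trans (minpoly.dvd _ _ (by simp [hT]))
  haveI : Fact (Irreducible f) := ⟨hfi⟩
  haveI : Module.Finite F (AdjoinRoot f) := hfm.finite_adjoinRoot
  haveI : Finite (AdjoinRoot f) := Module.finite_of_finite F
  letI := Fintype.ofFinite (AdjoinRoot f)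
  have hroot : AdjoinRoot.root f ^ n = 1 := by
    have := AdjoinRoot.mk_eq_zero.2 hdvd
    rwa [map_sub, map_pow, map_one, AdjoinRoot.mk_X, sub_eq_zero] at this
  have hroot1 : AdjoinRoot.root f ≠ 1 := by
    intro h
    have : f ∣ X - Polynomial.C 1 := AdjoinRoot.mk_eq_zero.1 (by rw [map_sub, AdjoinRoot.mk_X, h, Polynomial.C_1, map_one, sub_self])
    exact hf1 (eq_of_monic_of_associated hfm (monic_X_sub_C 1) (hfi.associated_of_dvd (irreducible_X_sub_C _) this))
  have hcard : Fintype.card (AdjoinRoot f) = Fintype.card F ^ f.natDegree := by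
    rw [Module.card_eq_pow_finrank (K := F), (AdjoinRoot.powerBasis' hfm).finrank]; rfl
  have hdeg : n - 1 ∣ f.natDegree := by
    rw [← hc]
    refine orderOf_dvd_of_pow_eq_one ?_
    have h1 : n ∣ Fintype.card F ^ f.natDegree - 1 := by
      rw [← hcard, ← orderOf_eq_prime hroot hroot1]
      exact orderOf_dvd_of_pow_eq_one (FiniteField.pow_card_sub_one_eq_one _ fun h => by
        rw [h, zero_pow hn.ne_zero] at hroot; exact zero_ne_one hroot)
    rw [← ZMod.natCast_eq_zero_iff, Nat.cast_sub (Nat.one_le_pow _ _ Fintype.card_pos), Nat.cast_pow, Nat.cast_one,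
      sub_eq_zero] at h1
    exact h1
  obtain ⟨R, hR⟩ := hfd.trans (Matrix.minpoly_dvd_charpoly T)
  have hTd : T.charpoly.natDegree = n := by rw [Matrix.charpoly_natDegree_eq_dim, Fintype.card_fin]
  have hR0 : R ≠ 0 := fun h => (Matrix.charpoly_monic T).ne_zero (by rw [hR, h, mul_zero])
  have hle : f.natDegree + R.natDegree = n := by rw [← Polynomial.natDegree_mul hfi.ne_zero hR0, ← hR, hTd]
  have hfdeg : f.natDegree = n - 1 := by
    obtain ⟨j, hj⟩ := hdeg
    have h0 : 0 < f.natDegree := hfi.natDegree_pos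
    rcases j with _ | _ | j
    · omega
    · omega
    · rw [mul_add, mul_add] at hj; omega
  have hΦ : (X ^ n - 1 : F[X]) = (∑ i ∈ Finset.range n, X ^ i) * (X - Polynomial.C 1) := by
    rw [Polynomial.C_1, geom_sum_mul]
  have hfΦ : f = ∑ i ∈ Finset.range n, X ^ i := by
    have h1 : f ∣ ∑ i ∈ Finset.range n, X ^ i := by
      rcases hfi.prime.dvd_or_dvd (hΦ ▸ hdvd) with h | h
      · exact h
      · exact absurd (eq_of_monic_of_associated hfm (monic_X_sub_C 1) (hfi.associated_of_dvd (irreducible_X_sub_C _) h)) hf1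
    refine (Polynomial.eq_of_monic_of_dvd_of_natDegree_le hfm (Polynomial.monic_geom_sum_X hn.ne_zero) h1 ?_).symm
    rw [hfdeg]
    refine natDegree_sum_le_of_forall_le _ _ fun i hi => ?_
    rw [Finset.mem_range] at hi
    rw [natDegree_X_pow]; omega
  have hRm : R.Monic := hfm.of_mul_monic_left (hR ▸ Matrix.charpoly_monic T)
  have hR1 : R = X + Polynomial.C (R.coeff 0) := hRm.eq_X_add_C (by omega)
  have h0 := congrArg (fun P => Polynomial.coeff P 0) hR
  rw [hΦ, hR, ← hfΦ]
  congr 1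
  rw [hR1]
  simp only [Polynomial.mul_coeff_zero] at h0
  have hf0 : f.coeff 0 = 1 := by
    rw [hfΦ, finsetSum_coeff, Finset.sum_eq_single 0 (fun i _ hi => by rw [coeff_X_pow, if_neg (Ne.symm hi)]) (by simp; omega),
      pow_zero, coeff_one_zero]
  have hdetc := Matrix.det_eq_sign_charpoly_coeff T
  rw [hdet, Fintype.card_fin, (hn.odd_of_ne_two (by omega)).neg_one_pow, h0, hf0, one_mul] at hdetc
  rw [show R.coeff 0 = -1 by linear_combination hdetc, map_neg, ← sub_eq_add_neg]

end Cfsg.Lib.Linear.Singer
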