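import Cfsg.Agent.S5957
import Mathlib.LinearAlgebra.Determinant
import Mathlib.LinearAlgebra.Matrix.SpecialLinearGroup

/-!
# Linear maps with scalar square

Eigenbases in odd characteristic, determinants of centralisers, and the passage from conjugacy in
`GL` to conjugacy in `SL` for a map `T` with `T ^ 2 = z`.
-/

set_option autoImplicit false

namespace Cfsg.Lib.Linear.SquareScalar

open Module

variable {F V : Type*} [Field F] [AddCommGroup V] [Module F V]

/-- The two eigenspaces give a basis of eigenvectors. -/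
theorem exists_eigenbasis [FiniteDimensional F V] (h2 : (2 : F) ≠ 0) (T : V →ₗ[F] V) {c : F} (hc : c ≠ 0)
    (hT : ∀ v, T (T v) = (c * c) • v) :
    ∃ (a b : ℕ) (β : Basis (Fin a ⊕ Fin b) F V),
      (∀ i, T (β (.inl i)) = c • β (.inl i)) ∧ ∀ i, T (β (.inr i)) = (-c) • β (.inr i) := by
  let P := LinearMap.ker (T - c • LinearMap.id)
  let M := LinearMap.ker (T + c • LinearMap.id)
  let u := Module.finBasis F P
  let w := Module.finBasis F M
  have hu : ∀ k, T (u k : V) = c • (u k : V) := fun k => sub_eq_zero.1 (u k).2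
  have hw : ∀ k, T (w k : V) = (-c) • (w k : V) := fun k => by
    rw [neg_smul]; exact eq_neg_of_add_eq_zero_left (w k).2
  have hPM : IsCompl P M := by
    constructor
    · rw [Submodule.disjoint_def]
      intro x hP hM
      have h1 : T x = c • x := sub_eq_zero.1 hP
      have h3 : T x + c • x = 0 := hM
      rw [h1, ← two_smul F, smul_smul] at h3
      exact (smul_eq_zero.1 h3).resolve_left (mul_ne_zero h2 hc)
    · rw [codisjoint_iff, eq_top_iff]
      intro x _
      have h4 : (2 * c) • x ∈ P ⊔ M := by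
        have e : (2 * c) • x = (c • x + T x) + (c • x - T x) := by module
        rw [e]
        refine Submodule.add_mem_sup ?_ ?_
        · show T (c • x + T x) - c • (c • x + T x) = 0
          rw [map_add, map_smul, hT]; module
        · show T (c • x - T x) + c • (c • x - T x) = 0
          rw [map_sub, map_smul, hT]; module
      have := (P ⊔ M).smul_mem (2 * c)⁻¹ h4
      rwa [smul_smul, inv_mul_cancel₀ (mul_ne_zero h2 hc), one_smul] at this
  refine ⟨_, _, (u.prod w).map (Submodule.prodEquivOfIsCompl P M hPM), fun i => ?_, fun i => ?_⟩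
  · simp [hu]
  · simp [hw]

/-- The determinant of a map with a basis of eigenvectors. -/
theorem det_of_eigenbasis {ι : Type*} [Fintype ι] [DecidableEq ι] (β : Basis ι F V) (T : V →ₗ[F] V) (c : ι → F)
    (h : ∀ i, T (β i) = c i • β i) : LinearMap.det T = ∏ i, c i := by
  have e : T = Matrix.toLin β β (Matrix.diagonal c) := β.ext fun i => by
    rw [h, Matrix.toLin_self, Finset.sum_eq_single i (fun j _ hj => by rw [Matrix.diagonal_apply_ne _ hj, zero_smul])
      (by simp), Matrix.diagonal_apply_eq]
  rw [e, LinearMap.det_toLin, Matrix.det_diagonal]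

/-- Norms from a quadratic extension are surjective. -/
theorem exists_quad [Finite F] {z : F} (hz : z ≠ 0) (δ : F) : ∃ α β : F, α * α - z * (β * β) = δ := by
  classical
  have := Fintype.ofFinite F
  by_cases h : ringChar F = 2
  · obtain ⟨α, hα⟩ := FiniteField.isSquare_of_char_two h δ
    exact ⟨α, 0, by rw [hα]; ring⟩
  · obtain ⟨α, β, hab⟩ := FiniteField.exists_root_sum_quadratic (f := Polynomial.X ^ 2 - Polynomial.C δ)
      (g := Polynomial.C (-z) * Polynomial.X ^ 2) (by rw [Polynomial.degree_X_pow_sub_C (by norm_num)]; norm_num)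
      (by rw [Polynomial.degree_C_mul_X_pow 2 (neg_ne_zero.2 hz)]; norm_num) (FiniteField.odd_card_of_char_ne_two h)
    simp only [Polynomial.eval_sub, Polynomial.eval_pow, Polynomial.eval_X, Polynomial.eval_C,
      Polynomial.eval_mul] at hab
    exact ⟨α, β, by linear_combination hab⟩

/-- The centraliser of a map with scalar square has every determinant. -/
theorem centralizer_det [Finite F] [FiniteDimensional F V] (hpos : 0 < finrank F V) (T : V →ₗ[F] V) {z : F}
    (hz : z ≠ 0) (hT : ∀ v, T (T v) = z • v) (δ : F) :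
    ∃ C : V →ₗ[F] V, LinearMap.det C = δ ∧ ∀ v, C (T v) = T (C v) := by
  classical
  obtain ⟨r, s, b, c, hp, hs⟩ := Cfsg.Agent.S5957.exists_normal_basis T z hz hT
  rcases Nat.eq_zero_or_pos s with rfl | hs0
  · have hr : 0 < r := by
      rw [Module.finrank_eq_card_basis b] at hpos
      simp only [Fintype.card_sum, Fintype.card_prod, Fintype.card_fin] at hpos
      omega
    obtain ⟨α, β, hab⟩ := exists_quad hz δ
    let b' := b.reindex ((Equiv.sumEmpty _ _).trans (Equiv.prodComm (Fin r) (Fin 2)))
    let MC := Matrix.blockDiagonal fun p : Fin r =>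
      if p = ⟨0, hr⟩ then !![α, z * β; β, α] else (1 : Matrix (Fin 2) (Fin 2) F)
    let MT := Matrix.blockDiagonal fun _ : Fin r => (!![0, z; 1, 0] : Matrix (Fin 2) (Fin 2) F)
    have hTM : T = Matrix.toLin b' b' MT := by
      refine b'.ext fun x => ?_
      obtain ⟨i, p⟩ := x
      rw [Matrix.toLin_self, Fintype.sum_prod_type_right, Finset.sum_eq_single p
        (fun p' _ hp' => by simp [MT, Matrix.blockDiagonal_apply_ne _ _ _ hp']) (by simp), Fin.sum_univ_two]
      rcases Fin.exists_fin_two.1 ⟨i, rfl⟩ with rfl | rfl <;> simp [b', MT, (hp p).1, (hp p).2]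
    refine ⟨Matrix.toLin b' b' MC, ?_, fun v => ?_⟩
    · rw [LinearMap.det_toLin, Matrix.det_blockDiagonal, Finset.prod_eq_single ⟨0, hr⟩
        (fun p _ hne => by rw [if_neg hne, Matrix.det_one]) (by simp), if_pos rfl, Matrix.det_fin_two_of, ← hab]
      ring
    · rw [hTM]
      simp only [← LinearMap.comp_apply, ← Matrix.toLin_mul]
      refine congrArg (fun M => Matrix.toLin b' b' M v) ?_
      simp only [MC, MT, ← Matrix.blockDiagonal_mul]
      refine congrArg Matrix.blockDiagonal (funext fun p => ?_)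
      split_ifs
      · rw [Matrix.mul_fin_two, Matrix.mul_fin_two]
        ext i j
        fin_cases i <;> fin_cases j <;> simp [mul_comm]
      · rw [one_mul, mul_one]
  · let w : (Fin r × Fin 2) ⊕ Fin s → F := fun i => if i = .inr ⟨0, hs0⟩ then δ else 1
    have hC : ∀ i, Matrix.toLin b b (Matrix.diagonal w) (b i) = w i • b i := fun i => by
      rw [Matrix.toLin_self, Finset.sum_eq_single i
        (fun j _ hj => by rw [Matrix.diagonal_apply_ne _ hj, zero_smul]) (by simp), Matrix.diagonal_apply_eq]
    refine ⟨Matrix.toLin b b (Matrix.diagonal w), ?_, fun v => ?_⟩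
    · rw [LinearMap.det_toLin, Matrix.det_diagonal]
      simp [w]
    · refine LinearMap.congr_fun (f := (Matrix.toLin b b (Matrix.diagonal w)) ∘ₗ T)
        (g := T ∘ₗ Matrix.toLin b b (Matrix.diagonal w)) (b.ext fun i => ?_) v
      rcases i with ⟨p, i⟩ | l
      · simp only [LinearMap.comp_apply, hC, map_smul]
        rcases Fin.exists_fin_two.1 ⟨i, rfl⟩ with rfl | rfl <;> simp [(hp p).1, (hp p).2, hC, w]
      · simp only [LinearMap.comp_apply, hC, hs, map_smul, smul_smul, mul_comm]

/-- Conjugacy by `GL` improves to conjugacy by `SL`. -/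
theorem exists_SL [Finite F] {n : Type*} [Fintype n] [DecidableEq n] [Nonempty n]
    (x : Matrix.SpecialLinearGroup n F) {z : F} (hz : z ≠ 0)
    (hx : ∀ v, Matrix.toLin' (x : Matrix n n F) (Matrix.toLin' (x : Matrix n n F) v) = z • v)
    (G : (n → F) ≃ₗ[F] (n → F)) (Y : (n → F) →ₗ[F] (n → F))
    (hG : ∀ v, G (Matrix.toLin' (x : Matrix n n F) v) = Y (G v)) :
    ∃ P : Matrix.SpecialLinearGroup n F,
      Matrix.toLin' ((P⁻¹ * x * P : Matrix.SpecialLinearGroup n F) : Matrix n n F) = Y := by
  classical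
  obtain ⟨C, hC, hcomm⟩ := centralizer_det (by rw [Module.finrank_pi]; exact Fintype.card_pos)
    (Matrix.toLin' (x : Matrix n n F)) hz hx (LinearMap.det (G : (n → F) →ₗ[F] (n → F)))⁻¹
  obtain ⟨M, hMdef⟩ : ∃ M, M = LinearMap.toMatrix' ((G : (n → F) →ₗ[F] (n → F)) ∘ₗ C) := ⟨_, rfl⟩
  have hM : Matrix.det M = 1 := by
    rw [hMdef, LinearMap.det_toMatrix', LinearMap.det_comp, hC, mul_inv_cancel₀ (LinearEquiv.isUnit_det' G).ne_zero]
  have hMY : M * (x : Matrix n n F) = LinearMap.toMatrix' Y * M := by
    refine Matrix.toLin'.injective ?_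
    rw [Matrix.toLin'_mul, Matrix.toLin'_mul, Matrix.toLin'_toMatrix', hMdef, Matrix.toLin'_toMatrix']
    refine LinearMap.ext fun v => ?_
    simp only [LinearMap.comp_apply, LinearEquiv.coe_coe]
    rw [hcomm, hG]
  let Q : Matrix.SpecialLinearGroup n F := ⟨M, hM⟩
  refine ⟨Q⁻¹, ?_⟩
  have h1 : (Q : Matrix n n F) * ((Q⁻¹ : Matrix.SpecialLinearGroup n F) : Matrix n n F) = 1 := by
    rw [← Matrix.SpecialLinearGroup.coe_mul, mul_inv_cancel, Matrix.SpecialLinearGroup.coe_one]
  rw [inv_inv, Matrix.SpecialLinearGroup.coe_mul, Matrix.SpecialLinearGroup.coe_mul,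
    show (Q : Matrix n n F) = M from rfl, hMY, mul_assoc]
  rw [show M * ((Q⁻¹ : Matrix.SpecialLinearGroup n F) : Matrix n n F) = 1 from h1, mul_one, Matrix.toLin'_toMatrix']

end Cfsg.Lib.Linear.SquareScalar
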