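import Cfsg.Agent.Lib.Linear.SympOverfield
import Mathlib.FieldTheory.Finite.Basic

/-!
# The unitary group of dimension three inside the symplectic group of dimension six

`θ` generates the quadratic field and is skew for the alternating form `B`.  A group of isometries
containing the unitary transvections either preserves the field or is the whole isometry group.
-/

set_option autoImplicit false

namespace Cfsg.Lib.Linear.SympQ2.Six

open Module
open scoped Matrix
open Cfsg.Lib.Linear.OrthQ2 (kLine mem_kLine)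

variable {ι : Type} [Fintype ι] [DecidableEq ι] {F : Type*} [Field F]
  {B : LinearMap.BilinForm F (ι → F)} {θ : (ι → F) →ₗ[F] (ι → F)} {N : F}

local notation "𝕍" => (ι → F)

/-- The standing hypotheses in dimension six. -/
structure Op (B : LinearMap.BilinForm F (ι → F)) (θ : (ι → F) →ₗ[F] (ι → F)) (N : F) : Prop where
  nondeg : B.Nondegenerate
  alt : B.IsAlt
  card : Fintype.card ι = 6
  two : (2 : F) ≠ 0
  sq : ∀ v, θ (θ v) = -(N • v)
  skew : ∀ u v, B (θ u) v = -B u (θ v)
  neN : N ≠ 0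
  free : ∀ v, v ≠ 0 → ∀ c : F, θ v ≠ c • v

/-- A hyperbolic pair for the hermitian form. -/
structure Hyp (B : LinearMap.BilinForm F (ι → F)) (θ : (ι → F) →ₗ[F] (ι → F)) (e f : ι → F) :
    Prop where
  singE : sQ B θ e = 0
  singF : sQ B θ f = 0
  pair : B e f = 1
  pairOp : B e (θ f) = 0

section

variable (D : Op B θ N)

include D

theorem Op.swap (u v : 𝕍) : B v u = -B u v := (LinearMap.IsAlt.neg D.alt u v).symm

theorem Op.self (u : 𝕍) : B u u = 0 := D.alt.self_eq_zero u

theorem Op.op_op (u v : 𝕍) : B (θ u) (θ v) = N * B u v := by rw [D.skew, D.sq]; simp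

theorem Op.op_right (u v : 𝕍) : B u (θ (θ v)) = -(N * B u v) := by rw [D.sq]; simp

theorem Op.hs (u v : 𝕍) : B v (θ u) = B u (θ v) := by rw [D.swap, D.skew, neg_neg]

theorem Op.Q_add (v w : 𝕍) : sQ B θ (v + w) = sQ B θ v + sQ B θ w + 2 * B v (θ w) := by
  simp only [sQ, map_add, LinearMap.add_apply]
  linear_combination D.hs v w

theorem Op.Q_smul (c : F) (v : 𝕍) : sQ B θ (c • v) = c * c * sQ B θ v := by
  simp only [sQ, map_smul, LinearMap.smul_apply, smul_eq_mul]
  ring

theorem Op.Q_op (v : 𝕍) : sQ B θ (θ v) = N * sQ B θ v := by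
  simp only [sQ]; rw [D.op_op]

theorem Op.Q_kline (v : 𝕍) (a b : F) :
    sQ B θ (a • v + b • θ v) = (a * a + N * (b * b)) * sQ B θ v := by
  rw [D.Q_add, D.Q_smul, D.Q_smul, D.Q_op]
  simp [D.sq, D.self]
  ring

theorem Op.nontriv : ∃ v : 𝕍, v ≠ 0 := by
  obtain ⟨i⟩ : Nonempty ι := Fintype.card_pos_iff.mp (by have := D.card; omega)
  exact ⟨Pi.single i 1, by simp⟩

/-- The norm form of the quadratic field is anisotropic. -/
theorem Op.kap_ne {p q : F} (h : p ≠ 0 ∨ q ≠ 0) : N * (p * p) + q * q ≠ 0 := by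
  obtain ⟨v, hv⟩ := D.nontriv
  intro h0
  rcases eq_or_ne p 0 with rfl | hp
  · simp at h h0
    exact h h0
  set ρ := q / p with hρ
  have hρρ : ρ * ρ = -N := by
    rw [hρ, div_mul_div_comm, div_eq_iff (mul_ne_zero hp hp)]
    linear_combination h0
  by_cases hw : θ v - ρ • v = 0
  · exact D.free v hv ρ (sub_eq_zero.mp hw)
  · refine D.free _ hw (-ρ) ?_
    rw [map_sub, map_smul, D.sq, smul_sub, smul_smul, neg_mul, hρρ, neg_neg, neg_smul]
    abel

theorem Op.norm_ne {a b : F} (h : a ≠ 0 ∨ b ≠ 0) : a * a + N * (b * b) ≠ 0 := fun h0 =>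
  D.kap_ne (p := b) (q := a) h.symm (by linear_combination h0)

theorem Op.norm_surj [Finite F] (t : F) : ∃ a b : F, a * a + N * (b * b) = t := by
  classical
  letI := Fintype.ofFinite F
  have hodd : Fintype.card F % 2 = 1 := by
    refine Nat.mod_two_ne_zero.mp fun h => D.two ?_
    haveI : CharP F 2 := by
      rw [← FiniteField.even_card_iff_char_two] at h
      exact h ▸ ringChar.charP F
    exact CharTwo.two_eq_zero
  obtain ⟨a, b, hab⟩ := FiniteField.exists_root_sum_quadratic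
    (f := Polynomial.X ^ 2 - Polynomial.C t) (g := Polynomial.C N * Polynomial.X ^ 2)
    (Polynomial.degree_X_pow_sub_C (by norm_num) t) (Polynomial.degree_C_mul_X_pow 2 D.neN) hodd
  simp at hab
  exact ⟨a, b, by linear_combination hab⟩

theorem Op.kLine_symm {v w : 𝕍} (h : w ∈ kLine θ v) (hw : w ≠ 0) : v ∈ kLine θ w := by
  obtain ⟨a, b, rfl⟩ := mem_kLine.mp h
  have hab : a ≠ 0 ∨ b ≠ 0 := by
    by_contra hc
    push Not at hc
    exact hw (by rw [hc.1, hc.2]; simp)
  have hd := D.norm_ne hab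
  set d := a * a + N * (b * b) with hdd
  refine mem_kLine.mpr ⟨d⁻¹ * a, -(d⁻¹ * b), ?_⟩
  rw [map_add, map_smul, map_smul, D.sq]
  match_scalars <;> field_simp <;> rw [hdd] <;> ring

theorem Op.li_two {x : 𝕍} (hx : x ≠ 0) : LinearIndependent F ![x, θ x] :=
  (LinearIndependent.pair_iff' hx).mpr fun c h => D.free x hx c h.symm

theorem Op.li_four {x y : 𝕍} (hx : x ≠ 0) (hy : y ∉ kLine θ x) :
    LinearIndependent F ![x, θ x, y, θ y] := by
  rw [Fintype.linearIndependent_iff]
  intro g hg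
  rw [Fin.sum_univ_four] at hg
  simp only [Matrix.cons_val_zero, Matrix.cons_val_one, Matrix.cons_val_two, Matrix.cons_val_three,
    Matrix.head_cons, Matrix.tail_cons] at hg
  have hcd : g 2 = 0 ∧ g 3 = 0 := by
    by_contra hc
    have hd := D.norm_ne (a := g 2) (b := g 3) (not_and_or.mp hc)
    have e := congrArg θ hg
    simp only [map_add, map_smul, D.sq, map_zero] at e
    apply hy
    refine mem_kLine.mpr ⟨-((g 2 * g 2 + N * (g 3 * g 3))⁻¹ * (g 2 * g 0 + N * (g 3 * g 1))),
      -((g 2 * g 2 + N * (g 3 * g 3))⁻¹ * (g 2 * g 1 - g 3 * g 0)), ?_⟩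
    have key : (g 2 * g 2 + N * (g 3 * g 3)) • y =
        -((g 2 * g 0 + N * (g 3 * g 1)) • x + (g 2 * g 1 - g 3 * g 0) • θ x) := by
      linear_combination (norm := module) g 2 • hg - g 3 • e
    refine smul_right_injective 𝕍 hd ?_
    dsimp only
    rw [key]
    match_scalars <;>
      rw [mul_one, mul_neg, ← mul_assoc, mul_inv_cancel₀ hd, one_mul, mul_one]
  rw [hcd.1, hcd.2, zero_smul, zero_smul, add_zero, add_zero] at hg
  have h01 := LinearIndependent.pair_iff.mp (D.li_two hx) (g 0) (g 1) hg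
  intro i
  fin_cases i
  exacts [h01.1, h01.2, hcd.1, hcd.2]

/-- Prescribed pairings against an independent family. -/
theorem Op.exists_rep {κ : Type} [Fintype κ] {v : κ → 𝕍} (li : LinearIndependent F v) (val : κ → F) :
    ∃ w, ∀ k, B w (v k) = val k := by
  classical
  let b := Basis.span li
  obtain ⟨φ, hφ⟩ := LinearMap.exists_extend (b.constr F val)
  refine ⟨(B.toDual D.nondeg).symm φ, fun k => ?_⟩
  rw [LinearMap.BilinForm.apply_toDual_symm_apply]
  have h := LinearMap.congr_fun hφ (b k)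
  rw [Basis.constr_basis] at h
  simpa [b, Basis.span_apply] using h

/-- A vector perpendicular over the field to two vectors. -/
theorem Op.exists_perp (x y : 𝕍) :
    ∃ n : 𝕍, n ≠ 0 ∧ B x n = 0 ∧ B x (θ n) = 0 ∧ B y n = 0 ∧ B y (θ n) = 0 := by
  let Φ : 𝕍 →ₗ[F] (Fin 4 → F) := LinearMap.pi ![B x, (B x).comp θ, B y, (B y).comp θ]
  have h1 := Φ.finrank_range_add_finrank_ker
  have h2 := Submodule.finrank_le (LinearMap.range Φ)
  rw [finrank_fin_fun] at h2
  rw [finrank_fintype_fun_eq_card, D.card] at h1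
  obtain ⟨n, hn, hn0⟩ := Submodule.exists_mem_ne_zero_of_ne_bot
    (p := LinearMap.ker Φ) fun h => by rw [h, finrank_bot] at h1; omega
  have h := LinearMap.mem_ker.mp hn
  exact ⟨n, hn0, congrFun h 0, congrFun h 1, congrFun h 2, congrFun h 3⟩

theorem Hyp.ne_zero {e f : 𝕍} (h : Hyp B θ e f) : e ≠ 0 := fun h0 => by simpa [h0] using h.pair

/-- The coordinates along a hyperbolic pair and a perpendicular vector. -/
theorem Op.decomp {e f n : 𝕍} (h : Hyp B θ e f) (hn : n ≠ 0) (h1 : B e n = 0) (h2 : B e (θ n) = 0)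
    (h3 : B f n = 0) (h4 : B f (θ n) = 0) (v : 𝕍) :
    ∃ a b c d γ δ : F, v = a • e + b • θ e + c • f + d • θ f + γ • n + δ • θ n := by
  have he1 : B e (θ e) = 0 := h.singE
  have hf1 : B f (θ f) = 0 := h.singF
  have li : LinearIndependent F ![e, θ e, f, θ f, n, θ n] := by
    rw [Fintype.linearIndependent_iff]
    intro g hg
    rw [Fin.sum_univ_six] at hg
    simp only [Matrix.cons_val] at hg
    have hfe : B f e = -1 := by rw [D.swap, h.pair]
    have hfe' : B f (θ e) = 0 := by rw [D.hs]; exact h.pairOp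
    have c0 : g 0 = 0 := by
      have := congrArg (B f) hg
      simpa [D.self, hfe, hfe', hf1, h3, h4] using this
    have c1 : g 1 = 0 := by
      have := congrArg (fun z => B f (θ z)) hg
      simpa [D.sq, D.self, hfe, hfe', hf1, h3, h4, D.neN] using this
    have c2 : g 2 = 0 := by
      have := congrArg (B e) hg
      simpa [D.self, h.pair, h.pairOp, he1, h1, h2] using this
    have c3 : g 3 = 0 := by
      have := congrArg (fun z => B e (θ z)) hg
      simpa [D.sq, D.self, h.pair, h.pairOp, he1, h1, h2, D.neN] using this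
    rw [c0, c1, c2, c3] at hg
    simp only [zero_smul, add_zero, zero_add] at hg
    have h45 := LinearIndependent.pair_iff.mp (D.li_two hn) (g 4) (g 5) hg
    intro i
    fin_cases i
    exacts [c0, c1, c2, c3, h45.1, h45.2]
  have htop := li.span_eq_top_of_card_eq_finrank
    (by rw [Fintype.card_fin, finrank_fintype_fun_eq_card, D.card])
  obtain ⟨g, hg⟩ := (Submodule.mem_span_range_iff_exists_fun F).mp (htop ▸ Submodule.mem_top : v ∈ _)
  refine ⟨g 0, g 1, g 2, g 3, g 4, g 5, ?_⟩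
  rw [← hg, Fin.sum_univ_six]
  simp only [Matrix.cons_val]

/-- The perpendicular of a hyperbolic pair is anisotropic. -/
theorem Op.perp_aniso {e f n : 𝕍} (h : Hyp B θ e f) (hn : n ≠ 0) (h1 : B e n = 0)
    (h2 : B e (θ n) = 0) (h3 : B f n = 0) (h4 : B f (θ n) = 0) : sQ B θ n ≠ 0 := by
  intro hQ
  refine hn (D.nondeg.1 n fun v => ?_)
  obtain ⟨a, b, c, d, γ, δ, rfl⟩ := D.decomp h hn h1 h2 h3 h4 v
  have e1 : B n e = 0 := by rw [D.swap, h1, neg_zero]
  have e2 : B n (θ e) = 0 := by rw [D.hs]; exact h2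
  have e3 : B n f = 0 := by rw [D.swap, h3, neg_zero]
  have e4 : B n (θ f) = 0 := by rw [D.hs]; exact h4
  have e5 : B n (θ n) = 0 := hQ
  simp [e1, e2, e3, e4, e5, D.self]

/-- A partner of an isotropic vector. -/
theorem Op.partner {u : 𝕍} (hu : sQ B θ u = 0) (hu0 : u ≠ 0) : ∃ z, Hyp B θ u z := by
  obtain ⟨w, hw⟩ := D.exists_rep (D.li_two hu0) ![-1, 0]
  have w0 : B w u = -1 := hw 0
  have w1 : B w (θ u) = 0 := hw 1
  have hu' : B u (θ u) = 0 := hu
  have h2 := D.two
  have hN := D.neN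
  refine ⟨w + (-(sQ B θ w) / (2 * N)) • θ u, hu, ?_, ?_, ?_⟩
  · rw [D.Q_add, D.Q_smul, D.Q_op, hu, map_smul, map_smul, D.op_right, w0, smul_eq_mul]
    field_simp
    ring
  · rw [map_add, map_smul, hu', D.swap w u, w0]
    simp
  · rw [map_add, map_smul, map_add, map_smul, D.op_right, D.self, D.hs, w1]
    simp

/-- An isotropic vector with prescribed pairings against a hyperbolic pair. -/
theorem Op.exists_iso [Finite F] {e f : 𝕍} (h : Hyp B θ e f) (a b c d : F) :
    ∃ w, sQ B θ w = 0 ∧ B e w = a ∧ B e (θ w) = b ∧ B f w = c ∧ B f (θ w) = d := by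
  obtain ⟨n, hn, h1, h2, h3, h4⟩ := D.exists_perp e f
  have hQn := D.perp_aniso h hn h1 h2 h3 h4
  have he1 : B e (θ e) = 0 := h.singE
  have hf1 : B f (θ f) = 0 := h.singF
  have hfe : B f e = -1 := by rw [D.swap, h.pair]
  have hfe' : B f (θ e) = 0 := by rw [D.hs]; exact h.pairOp
  set w₀ := (-c) • e + (d / N) • θ e + a • f + (-b / N) • θ f with hw₀
  obtain ⟨s, t, hst⟩ := D.norm_surj (-(sQ B θ w₀) / sQ B θ n)
  have hN := D.neN
  refine ⟨w₀ + (s • n + t • θ n), ?_, ?_, ?_, ?_, ?_⟩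
  · rw [D.Q_add, D.Q_kline, hst, div_mul_cancel₀ _ hQn]
    have : B w₀ (θ (s • n + t • θ n)) = 0 := by
      simp [hw₀, D.sq, D.skew, h1, h2, h3, h4]
    rw [this]; ring
  · simp [hw₀, D.self, h.pair, h.pairOp, he1, h1, h2]
  · simp [hw₀, D.sq, D.self, h.pair, h.pairOp, he1, h1, h2]
    field_simp
  · simp [hw₀, D.self, hfe, hfe', hf1, h3, h4]
  · simp [hw₀, D.sq, D.self, hfe, hfe', hf1, h3, h4]
    field_simp

/-- An isotropic vector. -/
theorem Op.exists_sing [Finite F] : ∃ e : 𝕍, e ≠ 0 ∧ sQ B θ e = 0 := by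
  obtain ⟨v, hv⟩ := D.nontriv
  obtain ⟨n, hn, h1, h2, -, -⟩ := D.exists_perp v v
  by_cases hQn : sQ B θ n = 0
  · exact ⟨n, hn, hQn⟩
  obtain ⟨s, t, hst⟩ := D.norm_surj (-(sQ B θ v) / sQ B θ n)
  refine ⟨v + (s • n + t • θ n), fun h0 => ?_, ?_⟩
  · by_cases hQv : sQ B θ v = 0
    · have : B n (θ n) = 0 := by
        rw [hQv, neg_zero, zero_div] at hst
        by_cases hs : s = 0 ∧ t = 0
        · rw [hs.1, hs.2, zero_smul, zero_smul, add_zero, add_zero] at h0
          exact absurd h0 hv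
        · exact absurd hst (D.norm_ne (not_and_or.mp hs))
      exact hQn this
    · have := congrArg (fun z => B z (θ v)) h0
      simp [D.skew, D.hs v n, h1, h2, D.sq, D.swap v n] at this
      exact hQv this
  · rw [D.Q_add, D.Q_kline, hst, div_mul_cancel₀ _ hQn, map_add, map_smul, map_smul, map_add,
      map_smul, map_smul, D.op_right, h1, h2]
    simp only [smul_eq_mul]
    ring

theorem Op.uT_apply {u : 𝕍} (hu : sQ B θ u = 0) (c : F) (z : 𝕍) :
    uT D.alt θ N u c z = z + (c * N * B z u) • u + (c * B z (θ u)) • θ u := by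
  have h : B (θ u) u = 0 := by rw [D.swap]; exact neg_eq_zero.mpr hu
  simp only [uT, LinearEquiv.mul_apply, Symp.tv_apply, map_add, map_smul, LinearMap.add_apply,
    LinearMap.smul_apply, h, smul_zero, mul_zero, zero_smul, add_zero]

theorem Op.uT_comm {u : 𝕍} (hu : sQ B θ u = 0) (c : F) (z : 𝕍) :
    θ (uT D.alt θ N u c z) = uT D.alt θ N u c (θ z) := by
  rw [D.uT_apply hu, D.uT_apply hu, map_add, map_add, map_smul, map_smul, D.sq, D.skew, D.op_op]
  module

end

variable [Finite F] (D : Op B θ N) {H : Subgroup ((ι → F) ≃ₗ[F] (ι → F))}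
  (hH : H ≤ Symp.iso B) (hroot : ∀ u, sQ B θ u = 0 → ∀ c, uT D.alt θ N u c ∈ H)

variable (B) in
/-- The element with centre `a` and direction `v` lies in the group. -/
def El (H : Subgroup ((ι → F) ≃ₗ[F] (ι → F))) (a v : 𝕍) (l : F) : Prop :=
  ∃ g ∈ H, ∀ z, g z = z + (2 * B z a) • v + (2 * B z v) • a + (l * B z a) • a

omit [Finite F] in
include D in
theorem El.comm {a v v' : 𝕍} {l l' : F} (h : El B H a v l) (h' : El B H a v' l') (hv : B v a = 0)
    (hv' : B v' a = 0) : Symp.tv D.alt a (8 * B v' v) ∈ H := by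
  obtain ⟨g, hg, hga⟩ := h
  obtain ⟨g', hg', hga'⟩ := h'
  have ha : B a v = 0 := by rw [D.swap, hv, neg_zero]
  have ha' : B a v' = 0 := by rw [D.swap, hv', neg_zero]
  have heq : g * g' = Symp.tv D.alt a (8 * B v' v) * (g' * g) := by
    refine LinearEquiv.ext fun z => ?_
    simp only [LinearEquiv.mul_apply, Symp.tv_apply, hga, hga', map_add, map_smul,
      LinearMap.add_apply, LinearMap.smul_apply, smul_eq_mul, hv, hv', ha, ha', D.self,
      D.swap v' v]
    module
  have := mul_mem (mul_mem hg hg') (inv_mem (mul_mem hg' hg))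
  rwa [heq, mul_inv_cancel_right] at this

include D hH hroot

/-- A moved line gives the elements centred at a combination of its image. -/
theorem exists_el {g : 𝕍 ≃ₗ[F] 𝕍} (hg : g ∈ H) {u₀ : 𝕍} (hu₀ : sQ B θ u₀ = 0) {x y : 𝕍}
    (hgx : g u₀ = x) (hgy : g (θ u₀) = y) {u v : 𝕍} (hu : sQ B θ u = 0)
    (huv : sQ B θ (u + v) = 0) (hxu : B (θ u) x = 0) (hyu : B (θ u) y = 0)
    (hpq : B u x ≠ 0 ∨ B u y ≠ 0) (b1 : B x v = 0) (b2 : B y v = 0) (c1 : B (θ v) x = 0)
    (c2 : B (θ v) y = 0) :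
    El B H ((N * (B u x * B u x) + B u y * B u y)⁻¹ • ((N * B u x) • x + B u y • y)) v
      (4 * B v u) := by
  classical
  have hxy : B x y = 0 := by rw [← hgx, ← hgy, hH hg]; exact hu₀
  have hg1 : ∀ μ : F, Symp.tv D.alt x (μ * N) * Symp.tv D.alt y μ ∈ H := fun μ => by
    have h := mul_mem (mul_mem hg (hroot u₀ hu₀ μ)) (inv_mem hg)
    rwa [uT, ← mul_assoc, mul_assoc (g * _), show g * Symp.tv D.alt u₀ (μ * N) *
      (Symp.tv D.alt (θ u₀) μ * g⁻¹) = g * Symp.tv D.alt u₀ (μ * N) * g⁻¹ *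
        (g * Symp.tv D.alt (θ u₀) μ * g⁻¹) by group, Symp.tv_conj D.alt (hH hg),
      Symp.tv_conj D.alt (hH hg), hgx, hgy] at h
  set κ := N * (B u x * B u x) + B u y * B u y with hκ
  have hκ0 : κ ≠ 0 := D.kap_ne hpq
  set a := κ⁻¹ • ((N * B u x) • x + B u y • y) with ha
  -- the rank two elements
  have key : ∀ u' : 𝕍, sQ B θ u' = 0 → B (θ u') x = 0 → B (θ u') y = 0 → B u' x = B u x →
      B u' y = B u y → ∀ k c : F,
        Symp.tv D.alt (u' + k • a) c * Symp.tv D.alt u' (-c) ∈ H := by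
    intro u' hu' h1 h2 h3 h4 k c
    set g1 := Symp.tv D.alt x (k / κ * N) * Symp.tv D.alt y (k / κ) with hg1'
    have hact : ∀ v, g1 v = v + (k / κ * N * B v x) • x + (k / κ * B v y) • y := fun v => by
      simp only [hg1', LinearEquiv.mul_apply, Symp.tv_apply, map_add, map_smul,
        LinearMap.add_apply, LinearMap.smul_apply, D.swap x y, hxy, neg_zero, smul_zero, mul_zero,
        zero_smul, add_zero]
    have e1 : g1 u' = u' + k • a := by
      rw [hact, h3, h4, ha]; module
    have e2 : g1 (θ u') = θ u' := by rw [hact, h1, h2]; simp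
    have h := mul_mem (mul_mem (mul_mem (hg1 (k / κ)) (hroot u' hu' (c / N)))
      (inv_mem (hg1 (k / κ)))) (inv_mem (hroot u' hu' (c / N)))
    rw [← hg1', uT, show g1 * (Symp.tv D.alt u' (c / N * N) * Symp.tv D.alt (θ u') (c / N)) * g1⁻¹ *
        (Symp.tv D.alt u' (c / N * N) * Symp.tv D.alt (θ u') (c / N))⁻¹ =
        (g1 * Symp.tv D.alt u' (c / N * N) * g1⁻¹) * ((g1 * Symp.tv D.alt (θ u') (c / N) * g1⁻¹) *
        (Symp.tv D.alt (θ u') (c / N))⁻¹) * (Symp.tv D.alt u' (c / N * N))⁻¹ by group,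
      Symp.tv_conj D.alt (hH (hg1 _)), Symp.tv_conj D.alt (hH (hg1 _)), e1, e2, mul_inv_cancel,
      mul_one, div_mul_cancel₀ _ D.neN] at h
    have hinv : (Symp.tv D.alt u' c)⁻¹ = Symp.tv D.alt u' (-c) := inv_eq_of_mul_eq_one_right (by
      rw [Symp.tv_mul_tv, neg_add_cancel, Symp.tv_zero])
    rwa [hinv] at h
  obtain ⟨p, hpF⟩ := CharP.exists F
  have hpodd : Odd p := by
    rcases (CharP.char_is_prime F p).eq_two_or_odd' with rfl | h
    · exact absurd (CharTwo.two_eq_zero (R := F)) D.two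
    · exact h
  have powtv : ∀ (v : 𝕍) (i : ℕ), Symp.tv D.alt v (1 : F) ^ i = Symp.tv D.alt v (i : F) := by
    intro v i
    induction i with
    | zero => simp [Symp.tv_zero]
    | succ i ih => rw [pow_succ, ih, Symp.tv_mul_tv]; push_cast; rw [add_comm]
  -- minus one on the planes
  have minus : ∀ u' : 𝕍, sQ B θ u' = 0 → B (θ u') x = 0 → B (θ u') y = 0 →
      B u' x = B u x → B u' y = B u y → ∃ r ∈ H,
        ∀ z, r z = z + (2 * B a z) • u' - (2 * B u' z) • a := by
    intro u' hu' h1 h2 h3 h4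
    have hua : B u' a = 1 := by
      rw [ha, map_smul, map_add, map_smul, map_smul, h3, h4]
      simp only [smul_eq_mul]
      rw [show N * B u x * B u x + B u y * B u y = κ by rw [hκ]; ring, inv_mul_cancel₀ hκ0]
    have hau : B a u' = -1 := by rw [D.swap, hua]
    set w := Symp.tv D.alt u' (1 : F) * Symp.tv D.alt a (1 : F) * Symp.tv D.alt u' (1 : F) with hw
    have hr : ∀ z, (w * w) z = z + (2 * B a z) • u' - (2 * B u' z) • a := by
      intro z
      simp only [hw, LinearEquiv.mul_apply, Symp.tv_apply, map_add, map_smul, LinearMap.add_apply,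
        LinearMap.smul_apply, smul_eq_mul, hua, hau, D.self, D.swap a z, D.swap u' z]
      module
    have h4' : w ^ 4 = 1 := by
      rw [show w ^ 4 = (w * w) * (w * w) by simp [pow_succ, mul_assoc]]
      refine LinearEquiv.ext fun z => ?_
      show (w * w) ((w * w) z) = z
      rw [hr z, hr]
      simp only [map_add, map_sub, map_smul, smul_eq_mul, hua, hau, D.self]
      module
    have hwH : w ∈ H := mem_of_comms H hpodd
      (by rw [powtv, CharP.cast_eq_zero, Symp.tv_zero])
      (by rw [powtv, CharP.cast_eq_zero, Symp.tv_zero])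
      (fun i j => by
        rw [powtv, powtv, commutatorElement_def,
          Symp.tv_conj D.alt (Symp.tv_mem_iso D.alt a _),
          show (Symp.tv D.alt u' (j : F))⁻¹ = Symp.tv D.alt u' (-(j : F)) from
            inv_eq_of_mul_eq_one_right (by rw [Symp.tv_mul_tv, neg_add_cancel, Symp.tv_zero]),
          Symp.tv_apply, hua, mul_one]
        exact key u' hu' h1 h2 h3 h4 _ _) h4'
    exact ⟨w * w, mul_mem hwH hwH, hr⟩
  have hua : B u a = 1 := by
    rw [ha, map_smul, map_add, map_smul, map_smul]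
    simp only [smul_eq_mul]
    rw [show N * B u x * B u x + B u y * B u y = κ by rw [hκ]; ring, inv_mul_cancel₀ hκ0]
  have hau : B a u = -1 := by rw [D.swap, hua]
  have hav : B a v = 0 := by
    rw [ha]; simp [b1, b2]
  have hva : B v a = 0 := by rw [D.swap, hav, neg_zero]
  obtain ⟨r, hrH, hr⟩ := minus u hu hxu hyu rfl rfl
  obtain ⟨r', hr'H, hr'⟩ := minus (u + v) huv
    (by rw [map_add, map_add, LinearMap.add_apply, hxu, c1, add_zero])
    (by rw [map_add, map_add, LinearMap.add_apply, hyu, c2, add_zero])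
    (by rw [map_add, LinearMap.add_apply, D.swap x v, b1, neg_zero, add_zero])
    (by rw [map_add, LinearMap.add_apply, D.swap y v, b2, neg_zero, add_zero])
  refine ⟨r' * r, mul_mem hr'H hrH, fun z => ?_⟩
  rw [LinearEquiv.mul_apply, hr z, hr']
  simp only [map_add, map_sub, map_smul, LinearMap.add_apply, smul_eq_mul, hua, hau, hav, hva,
    D.self, D.swap z a, D.swap z v]
  module

/-- A moved line gives one transvection. -/
theorem exists_tv {g : 𝕍 ≃ₗ[F] 𝕍} (hg : g ∈ H) {u₀ : 𝕍} (hu₀ : sQ B θ u₀ = 0)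
    (hne : g (θ u₀) ∉ kLine θ (g u₀)) :
    ∃ (a : 𝕍) (c : F), a ≠ 0 ∧ c ≠ 0 ∧ Symp.tv D.alt a c ∈ H := by
  classical
  have h2 := D.two
  have hN := D.neN
  have hu0 : u₀ ≠ 0 := fun h => hne (by simp [h])
  obtain ⟨x, hgx⟩ : ∃ x, g u₀ = x := ⟨_, rfl⟩
  obtain ⟨y, hgy⟩ : ∃ y, g (θ u₀) = y := ⟨_, rfl⟩
  rw [hgx, hgy] at hne
  have hx0 : x ≠ 0 := fun h => hu0 (g.injective (by rw [hgx, h, map_zero]))
  have hxy : B x y = 0 := by rw [← hgx, ← hgy, hH hg]; exact hu₀
  have hyx : B y x = 0 := by rw [D.swap, hxy, neg_zero]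
  have li := D.li_four hx0 hne
  have h80 : (8 : F) ≠ 0 := by
    rw [show (8 : F) = 2 * 2 * 2 by norm_num]
    exact mul_ne_zero (mul_ne_zero h2 h2) h2
  set A := B x (θ x) with hA
  set K := B x (θ y) with hK
  set C := B y (θ y) with hC
  have hK' : B y (θ x) = K := D.hs x y
  obtain ⟨n, hn, n1, n2, n3, n4⟩ := D.exists_perp x y
  by_cases hQn : sQ B θ n = 0
  · -- the image plane spans a degenerate plane over the field
    obtain ⟨al, be, hab, hA', hC'⟩ : ∃ al be : F, (al ≠ 0 ∨ be ≠ 0) ∧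
        al * A + be * K = 0 ∧ al * K + be * C = 0 := by
      obtain ⟨z, hnz⟩ := D.partner hQn hn
      obtain ⟨m, hm, m1, m2, m3, m4⟩ := D.exists_perp n z
      set S := Submodule.span F (({n, θ n, m, θ m} : Finset 𝕍) : Set 𝕍) with hS
      have hmem : ∀ v, B n v = 0 → B n (θ v) = 0 → v ∈ S ∧ θ v ∈ S := by
        intro v e1 e2
        obtain ⟨a, b, c, d, γ, δ, rfl⟩ := D.decomp hnz hm m1 m2 m3 m4 v
        have hn1 : B n (θ n) = 0 := hQn
        simp [D.self, hnz.pair, hnz.pairOp, hn1, m1, m2] at e1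
        simp [D.sq, D.self, hnz.pair, hnz.pairOp, hn1, m1, m2, hN] at e2
        subst e1 e2
        constructor
        · simp only [zero_smul, add_zero]
          refine add_mem (add_mem (add_mem ?_ ?_) ?_) ?_ <;>
            exact S.smul_mem _ (Submodule.subset_span (by simp))
        · simp only [zero_smul, add_zero, map_add, map_smul, D.sq, smul_neg, smul_smul]
          refine add_mem (add_mem (add_mem ?_ ?_) ?_) ?_ <;>
            first
              | exact S.smul_mem _ (Submodule.subset_span (by simp))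
              | exact S.neg_mem (S.smul_mem _ (Submodule.subset_span (by simp)))
      have hx' := hmem x (by rw [D.swap, n1, neg_zero]) (by rw [D.hs]; exact n2)
      have hy' := hmem y (by rw [D.swap, n3, neg_zero]) (by rw [D.hs]; exact n4)
      have hle : Submodule.span F (Set.range ![x, θ x, y, θ y]) ≤ S := by
        rw [Submodule.span_le]
        rintro _ ⟨i, rfl⟩
        fin_cases i
        exacts [hx'.1, hx'.2, hy'.1, hy'.2]
      have heq := Submodule.eq_of_le_of_finrank_le hle (by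
        rw [finrank_span_eq_card li, Fintype.card_fin]
        exact (finrank_span_finset_le_card _).trans Finset.card_le_four)
      obtain ⟨w, hw⟩ := (Submodule.mem_span_range_iff_exists_fun F).mp
        (heq ▸ Submodule.subset_span (by simp) : n ∈ Submodule.span F (Set.range ![x, θ x, y, θ y]))
      rw [Fin.sum_univ_four] at hw
      simp only [Matrix.cons_val] at hw
      rw [← hw] at n1 n2 n3 n4
      simp [D.sq, D.self, hxy, hyx, hK', ← hA, ← hK, ← hC] at n1 n2 n3 n4
      by_cases h13 : w 1 = 0 ∧ w 3 = 0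
      · refine ⟨w 0, w 2, ?_, by linear_combination n2, by linear_combination n4⟩
        by_contra hc
        push Not at hc
        exact hn (by rw [← hw, hc.1, hc.2, h13.1, h13.2]; simp)
      · exact ⟨w 1, w 3, not_and_or.mp h13, by linear_combination n1, by linear_combination n3⟩
    obtain ⟨p, r, hd, he⟩ : ∃ p r : F, N * p * be - r * al ≠ 0 ∧ al * p + be * r ≠ 0 := by
      rcases eq_or_ne be 0 with rfl | hb
      · have ha : al ≠ 0 := hab.resolve_right (by simp)
        exact ⟨1, 1, by simpa using ha, by simpa using ha⟩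
      rcases eq_or_ne al 0 with rfl | ha
      · exact ⟨1, 1, by simpa using mul_ne_zero hN hb, by simpa using hb⟩
      · exact ⟨1, 0, by simpa using mul_ne_zero hN hb, by simpa using ha⟩
    set n' := al • x + be • y with hn'
    have x1 : B x n' = 0 := by simp [hn', D.self, hxy]
    have y1 : B y n' = 0 := by simp [hn', D.self, hyx]
    have x2 : B x (θ n') = 0 := by simp [hn', ← hA, ← hK]; linear_combination hA'
    have y2 : B y (θ n') = 0 := by simp [hn', hK', ← hC]; linear_combination hC'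
    have hQn' : sQ B θ n' = 0 := by
      rw [sQ, hn', map_add, map_smul, map_smul, LinearMap.add_apply, LinearMap.smul_apply,
        LinearMap.smul_apply, ← hn', x2, y2]
      simp
    obtain ⟨w, hw⟩ := D.exists_rep li ![p, 0, r, 0]
    have w0 : B w x = p := hw 0
    have w1 : B w (θ x) = 0 := hw 1
    have w2 : B w y = r := hw 2
    have w3 : B w (θ y) = 0 := hw 3
    have wn : B w n' = al * p + be * r := by simp [hn', w0, w2]
    have wn' : B w (θ n') = 0 := by simp [hn', w1, w3]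
    set b := sQ B θ w / (2 * N * (al * p + be * r)) with hb
    set u := w + b • θ n' with hu
    have hnθ : B n' (θ n') = 0 := hQn'
    have hQu : sQ B θ u = 0 := by
      rw [hu, D.Q_add, D.Q_smul, D.Q_op, hQn', map_smul, map_smul, D.op_right, wn, hb,
        smul_eq_mul]
      field_simp
      ring
    have hun : B u (θ n') = 0 := by simp [hu, wn', D.self]
    have hQuv : sQ B θ (u + n') = 0 := by rw [D.Q_add, hQu, hQn', hun]; ring
    have u0 : B u x = p := by simp [hu, w0, D.swap x (θ n'), x2]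
    have u2 : B u y = r := by simp [hu, w2, D.swap y (θ n'), y2]
    have u1 : B (θ u) x = 0 := by
      simp [hu, D.skew, w1, D.op_right, D.swap x n', x1]
    have u3 : B (θ u) y = 0 := by
      simp [hu, D.skew, w3, D.op_right, D.swap y n', y1]
    have hpr : p ≠ 0 ∨ r ≠ 0 := by
      by_contra hc
      push Not at hc
      exact he (by rw [hc.1, hc.2]; ring)
    have hpq : B u x ≠ 0 ∨ B u y ≠ 0 := by rw [u0, u2]; exact hpr
    have hel := exists_el D hH hroot hg hu₀ hgx hgy hQu hQuv u1 u3 hpq x1 y1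
      (by rw [D.swap, x2, neg_zero]) (by rw [D.swap, y2, neg_zero])
    rw [u0, u2] at hel
    set κ := N * (p * p) + r * r with hκ
    have hκ0 : κ ≠ 0 := D.kap_ne hpr
    set a := κ⁻¹ • ((N * p) • x + r • y) with ha
    set dd := N * p * be - r * al with hdd
    obtain ⟨m₀, hm₀⟩ := D.exists_rep li ![0, -r / dd, 0, N * p / dd]
    have p0 : B m₀ x = 0 := hm₀ 0
    have p1 : B m₀ (θ x) = -r / dd := hm₀ 1
    have p2 : B m₀ y = 0 := hm₀ 2
    have p3 : B m₀ (θ y) = N * p / dd := hm₀ 3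
    have ma : B m₀ a = 0 := by simp [ha, p0, p2]
    have mθa : B m₀ (θ a) = 0 := by
      simp [ha, p1, p3]
      ring
    have mn : B m₀ n' = 0 := by simp [hn', p0, p2]
    have mθn : B m₀ (θ n') = 1 := by
      simp [hn', p1, p3]
      field_simp
      rw [hdd]; ring
    have an : B a n' = 0 := by simp [ha, x1, y1]
    have aθn : B a (θ n') = 0 := by simp [ha, x2, y2]
    set m := m₀ + (-(sQ B θ m₀) / 2) • n' with hm
    have hQm : sQ B θ m = 0 := by
      rw [hm, D.Q_add, D.Q_smul, hQn', map_smul, map_smul, mθn, smul_eq_mul]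
      field_simp
      ring
    have am : B a m = 0 := by simp [hm, D.swap m₀ a, ma, an]
    have aθm : B a (θ m) = 0 := by simp [hm, D.hs m₀ a, mθa, aθn]
    have nm : B n' m = 0 := by simp [hm, D.swap m₀ n', mn, D.self]
    have nθm : B n' (θ m) = 1 := by simp [hm, D.hs m₀ n', mθn, hnθ]
    have mna : B n' a = 0 := by rw [D.swap, an, neg_zero]
    obtain ⟨e, heH, hea⟩ := hel
    have hU : uT D.alt θ N m 1 ∈ H := hroot m hQm 1
    have e1 : e m = m := by
      rw [hea, D.swap a m, am, D.swap n' m, nm]; simp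
    have e2 : e (θ m) = θ m + (-2 : F) • a := by
      rw [hea, D.swap a (θ m), aθm, D.swap n' (θ m), nθm]
      module
    -- the commutator with a unitary transvection
    have hel' : El B H a (-θ m) 4 := by
      refine ⟨e * uT D.alt θ N m 1 * e⁻¹ * (uT D.alt θ N m 1)⁻¹,
        mul_mem (mul_mem (mul_mem heH hU) (inv_mem heH)) (inv_mem hU), fun z => ?_⟩
      set U := uT D.alt θ N m 1 with hUdef
      have hconj : e * U * e⁻¹ = Symp.tv D.alt m (1 * N) * Symp.tv D.alt (θ m + (-2 : F) • a) 1 := by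
        rw [hUdef, uT, show e * (Symp.tv D.alt m (1 * N) * Symp.tv D.alt (θ m) 1) * e⁻¹ =
          (e * Symp.tv D.alt m (1 * N) * e⁻¹) * (e * Symp.tv D.alt (θ m) 1 * e⁻¹) by group,
          Symp.tv_conj D.alt (hH heH), Symp.tv_conj D.alt (hH heH), e1, e2]
      rw [hconj]
      obtain ⟨z', rfl⟩ : ∃ z', U z' = z := ⟨U⁻¹ z, U.apply_symm_apply z⟩
      have hθm : B (θ m) m = 0 := by rw [D.swap]; exact neg_eq_zero.mpr hQm
      have hmθ : B m (θ m) = 0 := hQm
      have ma' : B m a = 0 := by rw [D.swap, am, neg_zero]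
      have mθa' : B (θ m) a = 0 := by rw [D.swap, aθm, neg_zero]
      rw [LinearEquiv.mul_apply, show (U⁻¹ : 𝕍 ≃ₗ[F] 𝕍) (U z') = z' from U.symm_apply_apply z',
        hUdef, D.uT_apply hQm, LinearEquiv.mul_apply]
      simp only [Symp.tv_apply, map_add, map_neg, map_smul, LinearMap.add_apply,
        LinearMap.smul_apply, smul_eq_mul, hθm, hmθ, ma', mθa', am, aθm, D.self]
      module
    obtain ⟨v', hv'⟩ : ∃ v', v' = -θ m := ⟨_, rfl⟩
    rw [← hv'] at hel'
    refine ⟨a, 8 * B v' n', fun h0 => ?_, ?_, El.comm D ⟨e, heH, hea⟩ hel' mna ?_⟩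
    · have h := congrArg (B u) h0
      rw [map_zero, ha, map_smul, map_add, map_smul, map_smul, u0, u2] at h
      simp only [smul_eq_mul] at h
      rw [show N * p * p + r * r = κ by rw [hκ]; ring, inv_mul_cancel₀ hκ0] at h
      exact one_ne_zero h
    · rw [hv', map_neg, LinearMap.neg_apply, D.swap n' (θ m), nθm]
      simpa using h80
    · rw [hv', map_neg, LinearMap.neg_apply, D.swap a (θ m), aθm]; simp
  · -- the image plane spans a non-degenerate plane over the field
    obtain ⟨al, be, hf⟩ : ∃ al be : F, al * al * A + 2 * (al * be) * K + be * be * C ≠ 0 := by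
      by_contra hc
      push Not at hc
      have eA : A = 0 := by simpa using hc 1 0
      have eC : C = 0 := by simpa using hc 0 1
      have eK : K = 0 := by
        have := hc 1 1
        rw [eA, eC] at this
        simpa [h2] using this
      obtain ⟨z, hxz⟩ := D.partner (u := x) eA hx0
      obtain ⟨m, hm, m1, m2, m3, m4⟩ := D.exists_perp x z
      have hQm := D.perp_aniso hxz hm m1 m2 m3 m4
      obtain ⟨a, b, c, d, γ, δ, hy⟩ := D.decomp hxz hm m1 m2 m3 m4 y
      have hx1 : B x (θ x) = 0 := eA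
      have q1 : c = 0 := by
        have := hxy
        rw [hy] at this
        simpa [D.self, hxz.pair, hxz.pairOp, hx1, m1, m2] using this
      have q2 : d = 0 := by
        have := eK
        rw [hK, hy] at this
        simpa [D.sq, D.self, hxz.pair, hxz.pairOp, hx1, m1, m2, hN] using this
      rw [q1, q2, zero_smul, zero_smul, add_zero, add_zero, add_assoc] at hy
      have hcross : B (a • x + b • θ x) (θ (γ • m + δ • θ m)) = 0 := by
        simp [D.sq, D.skew, m1, m2]
      have hQy : sQ B θ y = 0 := eC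
      rw [hy, D.Q_add, hcross, D.Q_kline, D.Q_kline, show sQ B θ x = 0 from eA] at hQy
      have hγ : ¬ (γ ≠ 0 ∨ δ ≠ 0) := fun h => D.norm_ne h (by
        have : (γ * γ + N * (δ * δ)) * sQ B θ m = 0 := by linear_combination hQy
        exact (mul_eq_zero.mp this).resolve_right hQm)
      push Not at hγ
      exact hne (mem_kLine.mpr ⟨a, b, by rw [hy, hγ.1, hγ.2]; simp⟩)
    set w := al • θ x + be • θ y with hw
    have wn : B w (θ n) = 0 := by simp [hw, D.op_op, n1, n3]
    have wn' : B w n = 0 := by simp [hw, D.skew, n2, n4]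
    have hQw : sQ B θ w ≠ 0 := by
      have : sQ B θ w = N * (al * al * A + 2 * (al * be) * K + be * be * C) := by
        simp only [hw, sQ, map_add, map_smul, LinearMap.add_apply, LinearMap.smul_apply, D.op_op,
          smul_eq_mul, hK', ← hA, ← hK, ← hC]
        ring
      rw [this]
      exact mul_ne_zero hN hf
    obtain ⟨s, t, hst⟩ := D.norm_surj (-(sQ B θ w) / sQ B θ n)
    set n₀ := s • n + t • θ n with hn₀
    have perp : ∀ c d : F, B x (c • n + d • θ n) = 0 ∧ B y (c • n + d • θ n) = 0 ∧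
        B (θ (c • n + d • θ n)) x = 0 ∧ B (θ (c • n + d • θ n)) y = 0 := fun c d => by
      refine ⟨by simp [n1, n2], by simp [n3, n4], ?_, ?_⟩ <;>
      · rw [D.swap]
        simp [D.sq, n1, n2, n3, n4]
    have hwc : ∀ c d : F, B w (θ (c • n + d • θ n)) = 0 := fun c d => by
      simp [D.sq, wn, wn']
    obtain ⟨u, hu⟩ : ∃ u, u = w + n₀ := ⟨_, rfl⟩
    have hQu : sQ B θ u = 0 := by
      rw [hu, D.Q_add, hn₀, hwc, D.Q_kline, hst, div_mul_cancel₀ _ hQn]
      ring
    obtain ⟨q0, q1, q2, q3⟩ := perp s t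
    have uw : B u x = B w x ∧ B u y = B w y := by
      constructor
      · rw [hu, map_add, LinearMap.add_apply, hn₀, D.swap x (s • n + t • θ n), q0, neg_zero, add_zero]
      · rw [hu, map_add, LinearMap.add_apply, hn₀, D.swap y (s • n + t • θ n), q1, neg_zero, add_zero]
    have u1 : B (θ u) x = 0 := by
      rw [hu, map_add, map_add, LinearMap.add_apply, hn₀, q2, add_zero, hw]
      simp [D.sq, D.self, hyx]
    have u3 : B (θ u) y = 0 := by
      rw [hu, map_add, map_add, LinearMap.add_apply, hn₀, q3, add_zero, hw]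
      simp [D.sq, D.self, hxy]
    have hpq : B u x ≠ 0 ∨ B u y ≠ 0 := by
      by_contra hc
      push Not at hc
      rw [uw.1, uw.2] at hc
      simp [hw, D.skew, hK', ← hA, ← hK, ← hC] at hc
      exact hf (by linear_combination (-al) * hc.1 - be * hc.2)
    have h1N : N * (1 * 1) + 1 * 1 ≠ 0 := D.kap_ne (Or.inl one_ne_zero)
    set z1 := (1 - N) / (1 + N) with hz1
    set z2 := 2 / (1 + N) with hz2
    have hN1 : (1 : F) + N ≠ 0 := fun h => h1N (by linear_combination h)
    have hnorm : z1 * z1 + N * (z2 * z2) = 1 := by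
      rw [hz1, hz2]; field_simp; ring
    set v1 := (-(2 * s)) • n + (-(2 * t)) • θ n with hv1
    set v2 := (s * z1 - N * t * z2 - s) • n + (s * z2 + t * z1 - t) • θ n with hv2
    have hQ1 : sQ B θ (u + v1) = 0 := by
      have : u + v1 = w + ((-s) • n + (-t) • θ n) := by rw [hu, hn₀, hv1]; module
      rw [this, D.Q_add, hwc, D.Q_kline, show -s * -s + N * (-t * -t) = s * s + N * (t * t) by ring,
        hst, div_mul_cancel₀ _ hQn]
      ring
    have hQ2 : sQ B θ (u + v2) = 0 := by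
      have : u + v2 = w + ((s * z1 - N * t * z2) • n + (s * z2 + t * z1) • θ n) := by
        rw [hu, hn₀, hv2]; module
      rw [this, D.Q_add, hwc, D.Q_kline,
        show (s * z1 - N * t * z2) * (s * z1 - N * t * z2) + N * ((s * z2 + t * z1) *
          (s * z2 + t * z1)) = (s * s + N * (t * t)) * (z1 * z1 + N * (z2 * z2)) by ring, hnorm,
        mul_one, hst, div_mul_cancel₀ _ hQn]
      ring
    have p1 := perp (-(2 * s)) (-(2 * t))
    have p2 := perp (s * z1 - N * t * z2 - s) (s * z2 + t * z1 - t)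
    have e1 := exists_el D hH hroot hg hu₀ hgx hgy hQu hQ1 u1 u3 hpq p1.1 p1.2.1 p1.2.2.1 p1.2.2.2
    have e2 := exists_el D hH hroot hg hu₀ hgx hgy hQu hQ2 u1 u3 hpq p2.1 p2.2.1 p2.2.2.1 p2.2.2.2
    set a := (N * (B u x * B u x) + B u y * B u y)⁻¹ • ((N * B u x) • x + B u y • y) with ha
    have hvv : B v1 v2 = 2 * z2 * sQ B θ w := by
      have hnn : B (θ n) n = -sQ B θ n := by rw [D.swap]; rfl
      have : B v1 v2 = -2 * z2 * ((s * s + N * (t * t)) * sQ B θ n) := by
        simp only [hv1, hv2, map_add, map_smul, LinearMap.add_apply, LinearMap.smul_apply,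
          D.self, hnn, smul_eq_mul]
        simp only [sQ]
        ring
      rw [this, hst, div_mul_cancel₀ _ hQn]
      ring
    refine ⟨a, 8 * B v1 v2, fun h0 => ?_, ?_, El.comm D e2 e1 ?_ ?_⟩
    · have h := congrArg (B u) h0
      rw [map_zero, ha, map_smul, map_add, map_smul, map_smul] at h
      simp only [smul_eq_mul] at h
      rw [show N * B u x * B u x + B u y * B u y = N * (B u x * B u x) + B u y * B u y by ring,
        inv_mul_cancel₀ (D.kap_ne hpq)] at h
      exact one_ne_zero h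
    · rw [hvv]
      exact mul_ne_zero h80 (mul_ne_zero (mul_ne_zero h2 (div_ne_zero h2 hN1)) hQw)
    · rw [D.swap, ha]; simp [hv2, n1, n2, n3, n4]
    · rw [D.swap, ha]; simp [hv1, n1, n2, n3, n4]

/-- One step between transvection centres. -/
theorem move {ξ z : 𝕍} {c₀ : F} (hc₀ : c₀ ≠ 0) (hξ : Symp.tv D.alt ξ c₀ ∈ H) (hz : sQ B θ z = 0)
    (hzθ : B ξ (θ z) = 0) (hb : B ξ z ≠ 0) :
    Symp.tv D.alt ((c₀ * B ξ z)⁻¹ • z) c₀ ∈ H := by
  set c := (c₀ * N * (B ξ z * B ξ z))⁻¹ with hc
  have hmap : ∀ {t : 𝕍 ≃ₗ[F] 𝕍}, t ∈ H → ∀ {v : 𝕍}, Symp.tv D.alt v c₀ ∈ H →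
      Symp.tv D.alt (t v) c₀ ∈ H := fun ht _ hv => by
    rw [← Symp.tv_conj D.alt (hH ht)]
    exact mul_mem (mul_mem ht hv) (inv_mem ht)
  have h := hmap hξ (hmap (hroot z hz c) hξ)
  have e : Symp.tv D.alt ξ c₀ (uT D.alt θ N z c ξ) = (c₀ * B ξ z)⁻¹ • z := by
    have hN := D.neN
    rw [D.uT_apply hz, hzθ, Symp.tv_apply]
    simp only [map_add, map_smul, LinearMap.add_apply, LinearMap.smul_apply, D.self, mul_zero,
      zero_smul, add_zero, zero_add, smul_eq_mul, D.swap ξ z]
    rw [show c₀ * (c * N * B ξ z * -B ξ z) = -1 by rw [hc]; field_simp,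
      show c * N * B ξ z = (c₀ * B ξ z)⁻¹ by rw [hc]; field_simp]
    module
  rwa [e] at h

/-- A linked isotropic line contains a centre. -/
theorem move' {ξ u : 𝕍} {c₀ : F} (hc₀ : c₀ ≠ 0) (hξ : Symp.tv D.alt ξ c₀ ∈ H)
    (hu : sQ B θ u = 0) (hlink : B ξ u ≠ 0 ∨ B ξ (θ u) ≠ 0) :
    ∃ z ∈ kLine θ u, z ≠ 0 ∧ sQ B θ z = 0 ∧ Symp.tv D.alt z c₀ ∈ H := by
  set z := (N * B ξ u) • u + B ξ (θ u) • θ u with hz
  have hb : B ξ z = N * (B ξ u * B ξ u) + B ξ (θ u) * B ξ (θ u) := by
    simp [hz]; ring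
  have hb0 : B ξ z ≠ 0 := hb ▸ D.kap_ne hlink
  have hθ : B ξ (θ z) = 0 := by simp [hz, D.sq]; ring
  have hQz : sQ B θ z = 0 := by rw [hz, D.Q_kline, hu, mul_zero]
  refine ⟨_, Submodule.smul_mem _ _ (mem_kLine.mpr ⟨_, _, rfl⟩),
    smul_ne_zero (inv_ne_zero (mul_ne_zero hc₀ hb0)) fun h => hb0 (by rw [show z = 0 from h, map_zero]),
    ?_, move D hH hroot hc₀ hξ hQz hθ hb0⟩
  rw [D.Q_smul, hQz, mul_zero]

/-- One transvection at an isotropic vector gives those of the whole line over the field. -/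
theorem line_centres {ξ : 𝕍} {c₀ : F} (hξ0 : ξ ≠ 0) (hξQ : sQ B θ ξ = 0) (hc₀ : c₀ ≠ 0)
    (hξ : Symp.tv D.alt ξ c₀ ∈ H) {v : 𝕍} (hv : v ∈ kLine θ ξ) :
    v ∈ Symp.centres D.alt H := by
  obtain ⟨z, hz⟩ := D.partner hξQ hξ0
  have hz1 := move D hH hroot hc₀ hξ hz.singF hz.pairOp (by rw [hz.pair]; exact one_ne_zero)
  rw [hz.pair, mul_one] at hz1
  have scale : ∀ al be : F, (al ≠ 0 ∨ be ≠ 0) → Symp.tv D.alt (al • ξ + be • θ ξ) c₀ ∈ H := by
    intro al be hab
    have hd := D.norm_ne hab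
    set d := al * al + N * (be * be) with hdd
    obtain ⟨w, hw, w1, w2, w3, w4⟩ := D.exists_iso hz (-al / (c₀ * d)) (N * be / (c₀ * d)) 1 0
    have h1 := move D hH hroot hc₀ hz1 hw
      (by rw [LinearMap.BilinForm.smul_left, w4, mul_zero])
      (by rw [LinearMap.BilinForm.smul_left, w3, mul_one]; exact inv_ne_zero hc₀)
    rw [LinearMap.BilinForm.smul_left, w3, mul_one, mul_inv_cancel₀ hc₀, inv_one, one_smul] at h1
    have g1 : B w (al • ξ + be • θ ξ) = c₀⁻¹ := by
      rw [map_add, map_smul, map_smul, D.swap ξ w, w1, D.hs, w2, smul_eq_mul, smul_eq_mul]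
      field_simp
      rw [hdd]; ring
    have g2 : B w (θ (al • ξ + be • θ ξ)) = 0 := by
      rw [map_add, map_smul, map_smul, map_add, map_smul, map_smul, D.op_right, D.swap ξ w, w1,
        D.hs, w2, smul_eq_mul, smul_eq_mul]
      field_simp
      ring
    have h2 := move D hH hroot hc₀ h1 (by rw [D.Q_kline, hξQ, mul_zero]) g2
      (by rw [g1]; exact inv_ne_zero hc₀)
    rwa [g1, mul_inv_cancel₀ hc₀, inv_one, one_smul] at h2
  obtain ⟨al, be, rfl⟩ := mem_kLine.mp hv
  by_cases hab : al ≠ 0 ∨ be ≠ 0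
  swap
  · push Not at hab
    rw [hab.1, hab.2]
    intro c
    rw [show Symp.tv D.alt ((0 : F) • ξ + (0 : F) • θ ξ) c = 1 from
      LinearEquiv.ext fun x => by simp]
    exact one_mem H
  have hsq : ∀ l : F, Symp.tv D.alt (al • ξ + be • θ ξ) (l * l * c₀) ∈ H := by
    intro l
    rcases eq_or_ne l 0 with rfl | hl
    · rw [mul_zero, zero_mul, Symp.tv_zero]; exact one_mem H
    have h := scale (l * al) (l * be)
      (hab.imp (mul_ne_zero hl) (mul_ne_zero hl))
    rw [← smul_smul, ← smul_smul, ← smul_add, Symp.tv_smul] at h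
    rwa [pow_two] at h
  intro c
  have h2 := D.two
  set t := c / c₀ with ht
  have e : c = (t + 1) / 2 * ((t + 1) / 2) * c₀ + -((t - 1) / 2 * ((t - 1) / 2) * c₀) := by
    rw [ht]; field_simp; ring
  rw [e, ← Symp.tv_mul_tv]
  refine mul_mem ?_ (hsq _)
  have he : (Symp.tv D.alt (al • ξ + be • θ ξ) ((t - 1) / 2 * ((t - 1) / 2) * c₀))⁻¹ =
    Symp.tv D.alt (al • ξ + be • θ ξ) (-((t - 1) / 2 * ((t - 1) / 2) * c₀)) :=
    inv_eq_of_mul_eq_one_right (by rw [Symp.tv_mul_tv, neg_add_cancel, Symp.tv_zero])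
  rw [← he]
  exact inv_mem (hsq _)

omit hH hroot in
/-- Some isotropic vector is not perpendicular to a given one. -/
theorem exists_link {v : 𝕍} (hv : v ≠ 0) :
    ∃ u, sQ B θ u = 0 ∧ (B v u ≠ 0 ∨ B v (θ u) ≠ 0) := by
  obtain ⟨e, he0, he⟩ := D.exists_sing
  obtain ⟨f, hf⟩ := D.partner he he0
  by_cases h1 : B v e ≠ 0 ∨ B v (θ e) ≠ 0
  · exact ⟨e, he, h1⟩
  by_cases h2 : B v f ≠ 0 ∨ B v (θ f) ≠ 0
  · exact ⟨f, hf.singF, h2⟩
  push Not at h1 h2
  have q1 : B e v = 0 := by rw [D.swap, h1.1, neg_zero]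
  have q2 : B e (θ v) = 0 := by rw [D.hs]; exact h1.2
  have q3 : B f v = 0 := by rw [D.swap, h2.1, neg_zero]
  have q4 : B f (θ v) = 0 := by rw [D.hs]; exact h2.2
  have hQv := D.perp_aniso hf hv q1 q2 q3 q4
  refine ⟨e + (sQ B θ v / (2 * N)) • θ f + v, ?_, Or.inr ?_⟩
  · have he1 : B e (θ e) = 0 := he
    rw [D.Q_add, D.Q_add, D.Q_smul, D.Q_op, hf.singF, he, map_smul, map_smul, D.op_right,
      hf.pair, map_add, map_smul, LinearMap.add_apply, LinearMap.smul_apply, q2, D.skew,
      D.op_right, q3, smul_eq_mul]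
    have h2' := D.two
    have hN := D.neN
    field_simp
    simp only [smul_eq_mul]
    ring
  · rw [map_add, map_add, map_add, map_add, map_smul, map_smul, D.op_right, h2.1, h1.2]
    simp only [mul_zero, neg_zero, smul_zero, add_zero, zero_add]
    exact hQv

theorem top_of_tv {a : 𝕍} {c₀ : F} (ha : a ≠ 0) (hc₀ : c₀ ≠ 0)
    (h : Symp.tv D.alt a c₀ ∈ H) : H = Symp.iso B := by
  obtain ⟨u, hu, hlink⟩ := exists_link D ha
  obtain ⟨ξ, -, hξ0, hξQ, hξ⟩ := move' D hH hroot hc₀ h hu hlink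
  set C := Symp.centres D.alt H
  have sing : ∀ z, sQ B θ z = 0 → z ∈ C := by
    intro z hz
    by_cases hl : B ξ z ≠ 0 ∨ B ξ (θ z) ≠ 0
    · obtain ⟨z', hz', hz'0, hz'Q, hz'H⟩ := move' D hH hroot hc₀ hξ hz hl
      exact line_centres D hH hroot hz'0 hz'Q hc₀ hz'H (D.kLine_symm hz' hz'0)
    · push Not at hl
      obtain ⟨f, hf⟩ := D.partner hξQ hξ0
      obtain ⟨n, hn, h1, h2, h3, h4⟩ := D.exists_perp ξ f
      have hQn := D.perp_aniso hf hn h1 h2 h3 h4
      obtain ⟨a', b, c, d, γ, δ, hzd⟩ := D.decomp hf hn h1 h2 h3 h4 z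
      have hx1 : B ξ (θ ξ) = 0 := hξQ
      have e1 : c = 0 := by
        have := hl.1
        rw [hzd] at this
        simpa [D.self, hf.pair, hf.pairOp, hx1, h1, h2] using this
      have e2 : d = 0 := by
        have := hl.2
        rw [hzd] at this
        simpa [D.sq, D.self, hf.pair, hf.pairOp, hx1, h1, h2, D.neN] using this
      rw [e1, e2, zero_smul, zero_smul, add_zero, add_zero, add_assoc] at hzd
      have hcross : B (a' • ξ + b • θ ξ) (θ (γ • n + δ • θ n)) = 0 := by
        simp [D.sq, D.skew, h1, h2]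
      rw [hzd, D.Q_add, hcross, D.Q_kline, D.Q_kline, hξQ] at hz
      have hγ : ¬ (γ ≠ 0 ∨ δ ≠ 0) := fun h => D.norm_ne h (by
        have : (γ * γ + N * (δ * δ)) * sQ B θ n = 0 := by linear_combination hz
        exact (mul_eq_zero.mp this).resolve_right hQn)
      push Not at hγ
      rw [hzd, hγ.1, hγ.2, zero_smul, zero_smul, add_zero, add_zero]
      exact line_centres D hH hroot hξ0 hξQ hc₀ hξ (mem_kLine.mpr ⟨_, _, rfl⟩)
  refine Symp.eq_iso_of_centres D.nondeg D.alt hH fun v => ?_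
  by_cases hQv : sQ B θ v = 0
  · exact sing v hQv
  have hv0 : v ≠ 0 := fun h => hQv (by simp [sQ, h])
  obtain ⟨u, hu, hl⟩ := exists_link D hv0
  set κ := N * (B v u * B v u) + B v (θ u) * B v (θ u) with hκ
  have hκ0 : κ ≠ 0 := D.kap_ne hl
  set z' := (N * B v u) • u + B v (θ u) • θ u with hz'
  have p1 : B v z' = κ := by simp [hz', hκ]; ring
  have p2 : B v (θ z') = 0 := by simp [hz', D.sq]; ring
  set z := z' + θ z' with hz
  have r1 : B v z = κ := by rw [hz, map_add, p1, p2, add_zero]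
  have r2 : B v (θ z) = -(N * κ) := by rw [hz, map_add, map_add, p2, D.op_right, p1, zero_add]
  have hQz : sQ B θ z = 0 := by
    have h1 : sQ B θ z' = 0 := by rw [hz', D.Q_kline, hu, mul_zero]
    rw [hz, D.Q_add, D.Q_op, h1, D.op_right, D.self]; ring
  set k := sQ B θ v / (2 * (N * κ)) with hk
  have h1 : v + k • z ∈ C := sing _ (by
    have h2 := D.two
    have hN := D.neN
    rw [D.Q_add, D.Q_smul, hQz, map_smul, map_smul, r2, hk, smul_eq_mul]
    field_simp
    ring)
  have hb : B z (v + k • z) ≠ 0 := by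
    rw [map_add, map_smul, D.self, smul_zero, add_zero, D.swap, r1]
    exact neg_ne_zero.mpr hκ0
  -- conjugate a centre by a transvection
  intro c
  rcases eq_or_ne k 0 with hk0 | hk0
  · have := h1 c
    rwa [hk0, zero_smul, add_zero] at this
  have hzv : B (v + k • z) z ≠ 0 := by rw [D.swap]; exact neg_ne_zero.mpr hb
  have h3 := Symp.centres_invariant D.alt hH (sing z hQz (-k / B (v + k • z) z)) h1 c
  rw [Symp.tv_apply, div_mul_cancel₀ _ hzv, neg_smul, add_neg_cancel_right] at h3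
  exact h3

omit hH hroot in
/-- A map preserving the isotropic lines over the field is a scalar of the field. -/
theorem scalar_of_lines (φ : 𝕍 →ₗ[F] 𝕍) (hφ : ∀ u, sQ B θ u = 0 → φ u ∈ kLine θ u) :
    ∃ a b : F, ∀ w, φ w = a • w + b • θ w := by
  obtain ⟨u, hu0, hu⟩ := D.exists_sing
  obtain ⟨z, hz⟩ := D.partner hu hu0
  obtain ⟨n, hn, h1, h2, h3, h4⟩ := D.exists_perp u z
  obtain ⟨a, b, hab⟩ := mem_kLine.mp (hφ u hu)
  refine ⟨a, b, ?_⟩
  let E : 𝕍 → Prop := fun w => φ w = a • w + b • θ w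
  have hEu : E u := hab.symm
  have link : ∀ e f, E e → e ≠ 0 → f ∉ kLine θ e → sQ B θ e = 0 → sQ B θ f = 0 →
      B e (θ f) = 0 → E f := by
    intro e f hEe he0 hind heQ hfQ hcross
    obtain ⟨p, q, hpq⟩ := mem_kLine.mp (hφ f hfQ)
    obtain ⟨r, s, hrs⟩ := mem_kLine.mp (hφ (e + f) (by rw [D.Q_add, heQ, hfQ, hcross]; ring))
    rw [map_add, map_add, show φ e = a • e + b • θ e from hEe, ← hpq] at hrs
    have li := Fintype.linearIndependent_iff.mp (D.li_four he0 hind) ![r - a, s - b, r - p, s - q]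
      (by
        rw [Fin.sum_univ_four]
        simp only [Matrix.cons_val]
        linear_combination (norm := module) hrs)
    have q0 : r - a = 0 := li 0
    have q1 : s - b = 0 := li 1
    have q2 : r - p = 0 := li 2
    have q3 : s - q = 0 := li 3
    show φ f = _
    rw [← hpq, show p = a by linear_combination q0 - q2, show q = b by linear_combination q1 - q3]
  have hu1 : B u (θ u) = 0 := hu
  have hz1 : B z (θ z) = 0 := hz.singF
  have hzu : B z u = -1 := by rw [D.swap, hz.pair]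
  have hzu' : B z (θ u) = 0 := by rw [D.hs]; exact hz.pairOp
  have hzK : z ∉ kLine θ u := fun hm => by
    obtain ⟨p, q, e⟩ := mem_kLine.mp hm
    have := congrArg (B u) e
    simp [D.self, hu1, hz.pair] at this
  have hEz : E z := link u z hEu hu0 hzK hu hz.singF hz.pairOp
  -- a vector with a component along the perpendicular line
  have hg : ∀ m : 𝕍, m ≠ 0 → B u m = 0 → B u (θ m) = 0 → B z m = 0 → B z (θ m) = 0 →
      ∃ δ : F, E (u + δ • θ z + m) ∧ sQ B θ (u + δ • θ z + m) = 0 ∧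
        θ u ∉ kLine θ (u + δ • θ z + m) ∧ B (u + δ • θ z + m) (θ (θ u)) = 0 ∧
        u + δ • θ z + m ≠ 0 := by
    intro m hm m1 m2 m3 m4
    have hQm := D.perp_aniso hz hm m1 m2 m3 m4
    refine ⟨sQ B θ m / (2 * N), ?_⟩
    set δ := sQ B θ m / (2 * N) with hδ
    set g := u + δ • θ z + m with hgdef
    have hgQ : sQ B θ g = 0 := by
      have c1 : B (θ z) (θ m) = 0 := by rw [D.op_op, m3, mul_zero]
      rw [hgdef, D.Q_add, D.Q_add, D.Q_smul, D.Q_op, hz.singF, hu, map_smul, map_smul,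
        D.op_right, hz.pair, map_add, map_smul, LinearMap.add_apply, LinearMap.smul_apply, m2, c1,
        hδ, smul_eq_mul, smul_eq_mul]
      have h2' := D.two
      have hN := D.neN
      field_simp
      ring
    have hgm : B g (θ m) = sQ B θ m := by
      rw [hgdef, map_add, map_add, map_smul, LinearMap.add_apply, LinearMap.add_apply,
        LinearMap.smul_apply, m2, D.op_op, m3]
      simp [sQ]
    have hg0 : g ≠ 0 := fun h => hQm (by rw [← hgm, h, map_zero, LinearMap.zero_apply])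
    have hout : ∀ w, B w m = 0 → B w (θ m) = 0 → g ∉ kLine θ w := by
      intro w w1 w2 hmem
      obtain ⟨p, q, e⟩ := mem_kLine.mp hmem
      refine hQm ?_
      rw [← hgm, ← e]
      simp [w2, D.op_op, w1]
    have hzg : B z (θ g) = 0 := by
      simp [hgdef, hzu', D.op_right, D.self, m4]
    have hEg : E g := link z g hEz (fun h => by simp [h] at hzu) (hout z m3 m4) hz.singF hgQ hzg
    refine ⟨hEg, hgQ, fun hmem => ?_, ?_, hg0⟩
    · refine hout (θ u) ?_ ?_ (D.kLine_symm hmem fun h => D.free u hu0 0 (by rw [h, zero_smul]))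
      · rw [D.skew, m2, neg_zero]
      · rw [D.op_op, m1, mul_zero]
    · rw [D.op_right, hgdef]
      simp [D.self, D.skew, hzu', D.swap u m, m1]
  obtain ⟨δ, hEg, hgQ, hgu, hgc, hg0⟩ := hg n hn h1 h2 h3 h4
  have hEθu : E (θ u) := link _ _ hEg hg0 hgu hgQ (by rw [D.Q_op, hu, mul_zero]) hgc
  have hθu0 : θ u ≠ 0 := fun h => D.free u hu0 0 (by rw [h, zero_smul])
  have hEθz : E (θ z) := by
    refine link (θ u) (θ z) hEθu hθu0 (fun hm => hzK ?_) (by rw [D.Q_op, hu, mul_zero])
      (by rw [D.Q_op, hz.singF, mul_zero]) ?_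
    · obtain ⟨p, q, e⟩ := mem_kLine.mp hm
      refine mem_kLine.mpr ⟨p, q, ?_⟩
      have := congrArg θ e
      simp only [map_add, map_smul, D.sq, map_neg, smul_neg, smul_smul] at this
      have hN := D.neN
      have h' : N • (p • u + q • θ u) = N • z := by linear_combination (norm := module) -this
      exact smul_right_injective 𝕍 hN h'
    · rw [D.op_op, hz.pairOp, mul_zero]
  have hsub : ∀ {v w : 𝕍}, E v → E w → E (v + w) := fun hv hw => by
    simp only [E] at hv hw ⊢
    simp only [map_add, hv, hw, smul_add]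
    abel
  have hsm : ∀ (c : F) {v : 𝕍}, E v → E (c • v) := fun c v hv => by
    simp only [E] at hv ⊢
    simp only [map_smul, hv, smul_add, smul_smul, mul_comm c]
  have hEn : E n := by
    have : n = (u + δ • θ z + n) + ((-1 : F) • u + (-δ) • θ z) := by module
    rw [this]; exact hsub hEg (hsub (hsm _ hEu) (hsm _ hEθz))
  obtain ⟨δ', hEg', -⟩ := hg (θ n) (fun h => D.free n hn 0 (by rw [h, zero_smul])) h2
    (by rw [D.op_right, h1, mul_zero, neg_zero]) h4 (by rw [D.op_right, h3, mul_zero, neg_zero])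
  have hEθn : E (θ n) := by
    have : θ n = (u + δ' • θ z + θ n) + ((-1 : F) • u + (-δ') • θ z) := by module
    rw [this]; exact hsub hEg' (hsub (hsm _ hEu) (hsm _ hEθz))
  intro w
  obtain ⟨c1, c2, c3, c4, c5, c6, rfl⟩ := D.decomp hz hn h1 h2 h3 h4 w
  exact hsub (hsub (hsub (hsub (hsub (hsm _ hEu) (hsm _ hEθu)) (hsm _ hEz)) (hsm _ hEθz))
    (hsm _ hEn)) (hsm _ hEθn)

/-- Either the group preserves the field, or it is everything. -/
theorem normalises_or_top :
    (∀ g ∈ H, ∃ a b : F, ∀ w, g.symm (θ (g w)) = a • w + b • θ w) ∨ H = Symp.iso B := by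
  by_cases h : ∀ g ∈ H, ∀ u, sQ B θ u = 0 → g (θ u) ∈ kLine θ (g u)
  · refine Or.inl fun g hg => scalar_of_lines D
      (g.symm.toLinearMap.comp (θ.comp g.toLinearMap)) fun u hu => ?_
    show g.symm (θ (g u)) ∈ kLine θ u
    obtain ⟨a, b, hab⟩ := mem_kLine.mp (h g hg u hu)
    by_cases hu0 : u = 0
    · simp [hu0]
    have hb : b ≠ 0 := fun hb => by
      rw [hb, zero_smul, add_zero, ← map_smul] at hab
      exact D.free u hu0 a (g.injective hab).symm
    refine mem_kLine.mpr ⟨-(b⁻¹ * a), b⁻¹, ?_⟩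
    refine g.injective ?_
    rw [LinearEquiv.apply_symm_apply, map_add, map_smul, map_smul, ← hab, smul_add, smul_smul,
      smul_smul, inv_mul_cancel₀ hb, one_smul, neg_smul, neg_add_cancel_left]
  · push Not at h
    obtain ⟨g, hg, u, hu, hne⟩ := h
    obtain ⟨a, c, ha, hc, htv⟩ := exists_tv D hH hroot hg hu hne
    exact Or.inr (top_of_tv D hH hroot ha hc htv)

end Cfsg.Lib.Linear.SympQ2.Six
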