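import Cfsg.Agent.Lib.Linear.AschOrth.OddPower
import Cfsg.Agent.Lib.Linear.FrameNotMax

/-!
# Normalisers of spaces of anticommuting matrices in tensor powers over fields of characteristic two

The matrices of trace zero in the factors of a tensor power span a space in which every element has scalar
square; its normaliser lies strictly between the stabiliser of the tensor power and `Ω`.
-/

set_option autoImplicit false
set_option linter.unusedSectionVars false
set_option linter.style.haveILetI false

namespace Cfsg.Lib.Linear.Spin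

open Cfsg.Geo Cfsg.Lib.Linear Cfsg.Lib.Linear.AschOrth
open Cfsg.Lib.Linear.AschGen (pureTens pureTens_mul pureTens_one powStd powStd_apply powStd_mul powStd_one
  powStdLin conjA conjA_apply)
open Cfsg.Lib.Linear.AschSp (pureVec pureTens_mulVec pureVec_dot wreath_pureVec scalar_of_comm_powStd
  powStd_transpose)
open scoped Matrix MatrixGroups

variable {ι : Type} [Fintype ι] [DecidableEq ι] {F : Type*} [Field F]
  {Q : (ι → F) → F} {B : LinearMap.BilinForm F (ι → F)} {d t : ℕ}
  {e : ι ≃ (Fin t → Fin d)} {P : GL ι F}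

/-- The conditions on a space of matrices in one factor. -/
structure FactorData (A : Matrix (Fin d) (Fin d) F) (S : Submodule F (Matrix (Fin d) (Fin d) F))
    (X Y : Matrix (Fin d) (Fin d) F) : Prop where
  one : (1 : Matrix (Fin d) (Fin d) F) ∈ S
  sq : ∀ M ∈ S, ∃ s : F, M * M = s • 1
  inv : ∀ (a : GL (Fin d) F) (ν : F), a.valᵀ * A * a.val = ν • A → ∀ M ∈ S, a.val * M * (a⁻¹).val ∈ S
  memX : X ∈ S
  memY : Y ∈ S
  xx : X * X = 0
  yy : Y * Y = 0
  xy : X * Y + Y * X = 1
  selfX : Xᵀ * A = A * X
  selfY : Yᵀ * A = A * Y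
  top : Algebra.adjoin F (S : Set (Matrix (Fin d) (Fin d) F)) = ⊤

theorem rank_add (M N : Matrix ι ι F) : (M + N).rank ≤ M.rank + N.rank := by
  unfold Matrix.rank
  refine le_trans (Submodule.finrank_mono (t := LinearMap.range M.mulVecLin ⊔ LinearMap.range N.mulVecLin) ?_)
    (Submodule.finrank_add_le_finrank_add_finrank _ _)
  rintro _ ⟨v, rfl⟩
  rw [Matrix.mulVecLin_add]
  exact Submodule.add_mem_sup ⟨v, rfl⟩ ⟨v, rfl⟩

theorem rank_neg' (M : Matrix ι ι F) : (-M).rank = M.rank := by
  unfold Matrix.rank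
  rw [show (-M).mulVecLin = -M.mulVecLin from LinearMap.ext fun v => Matrix.neg_mulVec v M, LinearMap.range_neg]

theorem rank_sub (M N : Matrix ι ι F) : (M - N).rank ≤ M.rank + N.rank := by
  rw [sub_eq_add_neg, ← rank_neg' N]
  exact rank_add M (-N)

theorem rank_scalar {s : F} (hs : s ≠ 0) : (s • (1 : Matrix ι ι F)).rank = Fintype.card ι :=
  Matrix.rank_of_isUnit _ (IsUnit.of_mul_eq_one (s⁻¹ • (1 : Matrix ι ι F))
    (by rw [Matrix.smul_mul, Matrix.one_mul, smul_smul, mul_inv_cancel₀ hs, one_smul]))

theorem tm_add' {β : Type} [Fintype β] [DecidableEq β] (e : ι ≃ β) (P : GL ι F) (X Y : Matrix β β F) :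
    tm e P (X + Y) = tm e P X + tm e P Y := by rw [tm, tm, tm, ← map_add]; rfl

theorem tm_smul' {β : Type} [Fintype β] [DecidableEq β] (e : ι ≃ β) (P : GL ι F) (c : F) (X : Matrix β β F) :
    tm e P (c • X) = c • tm e P X := by rw [tm, tm, ← map_smul]; rfl

theorem tm_surj {β : Type} [Fintype β] [DecidableEq β] (e : ι ≃ β) (P : GL ι F) (M : Matrix ι ι F) :
    ∃ X : Matrix β β F, M = tm e P X :=
  ⟨((conjA P).symm M).submatrix e.symm e.symm, by
    rw [tm, Matrix.submatrix_submatrix, Equiv.symm_comp_self, Matrix.submatrix_id_id, AlgEquiv.apply_symm_apply]⟩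

/-- The group normalising a set of matrices. -/
def normSet [Finite F] (T : Set (Matrix ι ι F)) : Subgroup (GL ι F) where
  carrier := {g | ∀ Z ∈ T, g.val * Z * (g⁻¹).val ∈ T}
  mul_mem' {a b} ha hb Z hZ := by
    have h := ha _ (hb Z hZ)
    rwa [Units.val_mul, mul_inv_rev, Units.val_mul,
      show a.val * b.val * Z * ((b⁻¹).val * (a⁻¹).val) = a.val * (b.val * Z * (b⁻¹).val) * (a⁻¹).val from by
        simp only [Matrix.mul_assoc]]
  one_mem' Z hZ := by simpa using hZ
  inv_mem' {a} ha Z hZ := by
    haveI : Finite (Matrix ι ι F) := inferInstanceAs (Finite (ι → ι → F))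
    let φ : T → T := fun W => ⟨_, ha W W.2⟩
    have hφ : Function.Injective φ := fun W W' h => Subtype.ext ((conjA a).injective (by
      rw [conjA_apply, conjA_apply]
      exact congrArg Subtype.val h))
    obtain ⟨W, hW⟩ := Finite.injective_iff_surjective.1 hφ ⟨Z, hZ⟩
    have h : a.val * (W : Matrix ι ι F) * (a⁻¹).val = Z := congrArg Subtype.val hW
    rw [inv_inv, ← h]
    simp only [← Matrix.mul_assoc, ← Units.val_mul, inv_mul_cancel, Units.val_one, Matrix.one_mul]
    rw [Matrix.mul_assoc, ← Units.val_mul, inv_mul_cancel, Units.val_one, Matrix.mul_one]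
    exact W.2

theorem powStd_comm {i j : Fin t} (h : i ≠ j) (M N : Matrix (Fin d) (Fin d) F) :
    powStd i M * powStd j N = powStd j N * powStd i M := by
  rw [powStd, powStd, pureTens_mul, pureTens_mul]
  congr 1
  funext l
  by_cases hi : l = i
  · subst hi; simp [h]
  · by_cases hj : l = j
    · subst hj; simp [hi]
    · simp [hi, hj]

theorem powStd_pureVec (i : Fin t) (M : Matrix (Fin d) (Fin d) F) (u : Fin t → Fin d → F) :
    powStd i M *ᵥ pureVec u = pureVec (Function.update u i (M *ᵥ u i)) := by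
  rw [powStd, pureTens_mulVec]
  congr 1
  funext l
  by_cases hl : l = i
  · subst hl; simp
  · simp [hl]

theorem mat_ext_pure {M N : Matrix (Fin t → Fin d) (Fin t → Fin d) F}
    (h : ∀ u, M *ᵥ pureVec u = N *ᵥ pureVec u) : M = N := by
  ext x y
  have h1 := congrFun (h fun i => Pi.single (y i) 1) x
  rwa [pureVec_single, Matrix.mulVec_single_one, Matrix.mulVec_single_one] at h1

/-- An isometry of a tensor power acts on the factors by similarities. -/
theorem factor_similar {A : Matrix (Fin d) (Fin d) F} {p q : Fin d} (hpq : A p q ≠ 0)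
    {a : Fin t → Matrix (Fin d) (Fin d) F} {σ : Equiv.Perm (Fin t)}
    (h : ∀ u v : Fin t → Fin d → F, ∏ k, (a k *ᵥ u (σ k)) ⬝ᵥ A *ᵥ (a k *ᵥ v (σ k)) = ∏ k, u k ⬝ᵥ A *ᵥ v k) :
    ∀ k, ∃ ν : F, (a k)ᵀ * A * a k = ν • A := by
  classical
  intro k
  let N : Fin t → Matrix (Fin d) (Fin d) F := fun l => (a l)ᵀ * A * a l
  have hN : ∀ l r s, (a l *ᵥ (Pi.single r (1 : F) : Fin d → F)) ⬝ᵥ A *ᵥ (a l *ᵥ Pi.single s 1) = N l r s := by
    intro l r s
    show _ = ((a l)ᵀ * A * a l) r s
    rw [← Matrix.vecMul_transpose, ← Matrix.dotProduct_mulVec, Matrix.mulVec_mulVec, Matrix.mulVec_mulVec,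
      single_dotProduct, one_mul, Matrix.mulVec_single_one, Matrix.col_apply, Matrix.mul_assoc]
  have hA : ∀ r s, (Pi.single r (1 : F) : Fin d → F) ⬝ᵥ A *ᵥ Pi.single s 1 = A r s := fun r s => by
    rw [single_dotProduct, one_mul, Matrix.mulVec_single_one, Matrix.col_apply]
  have key : ∀ r s, N k r s * ∏ l ∈ Finset.univ.erase k, N l p q = A r s * ∏ l ∈ Finset.univ.erase (σ k), A p q := by
    intro r s
    have h1 := h (fun l => Pi.single (Function.update (fun _ => p) (σ k) r l) 1)
      (fun l => Pi.single (Function.update (fun _ => q) (σ k) s l) 1)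
    simp only [hN, hA] at h1
    rw [← Finset.mul_prod_erase _ _ (Finset.mem_univ k), ← Finset.mul_prod_erase _ _ (Finset.mem_univ (σ k)),
      Function.update_self, Function.update_self] at h1
    have e1 : ∏ l ∈ Finset.univ.erase k,
        N l (Function.update (fun _ => p) (σ k) r (σ l)) (Function.update (fun _ => q) (σ k) s (σ l)) =
        ∏ l ∈ Finset.univ.erase k, N l p q := Finset.prod_congr rfl fun l hl => by
      have hne : σ l ≠ σ k := fun h => (Finset.mem_erase.1 hl).1 (σ.injective h)
      rw [Function.update_of_ne hne, Function.update_of_ne hne]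
    have e2 : ∏ l ∈ Finset.univ.erase (σ k),
        A (Function.update (fun _ => p) (σ k) r l) (Function.update (fun _ => q) (σ k) s l) =
        ∏ l ∈ Finset.univ.erase (σ k), A p q := Finset.prod_congr rfl fun l hl => by
      rw [Function.update_of_ne (Finset.mem_erase.1 hl).1, Function.update_of_ne (Finset.mem_erase.1 hl).1]
    rwa [e1, e2] at h1
  set R := ∏ l ∈ Finset.univ.erase k, N l p q
  have hR : R ≠ 0 := fun h0 => by
    have h1 := key p q
    rw [h0, mul_zero] at h1
    exact mul_ne_zero hpq (Finset.prod_ne_zero_iff.2 fun _ _ => hpq) h1.symm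
  refine ⟨(∏ l ∈ Finset.univ.erase (σ k), A p q) / R, Matrix.ext fun r s => ?_⟩
  rw [Matrix.smul_apply, smul_eq_mul, div_mul_eq_mul_div, eq_div_iff hR, mul_comm _ (A r s)]
  exact key r s

set_option maxHeartbeats 1000000 in
/-- The stabiliser of a tensor power in characteristic two lies strictly below a proper subgroup of `Ω`. -/
theorem spin_not_max [Fintype F] (C : Orth.Space Q B) (h2 : (2 : F) = 0) (ht : 2 ≤ t) (h9 : 9 ≤ Fintype.card ι)
    {c : F} (hc : c ≠ 0) {A : Matrix (Fin d) (Fin d) F} (hA0 : A ≠ 0) (halt : ∀ u : Fin d → F, u ⬝ᵥ A *ᵥ u = 0)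
    (hG : gO e P Q = c • pureTens fun _ : Fin t => A)
    (hpure : ∀ u : Fin t → Fin d → F, Q (P.val *ᵥ (pureVec u ∘ e)) = 0)
    {S : Submodule F (Matrix (Fin d) (Fin d) F)} {X Y : Matrix (Fin d) (Fin d) F} (D : FactorData A S X Y)
    (h3 : 3 ≤ t ∨ ∀ u : Fin d → F, u ⬝ᵥ A *ᵥ (X *ᵥ u) = 0) {α β : Fin d} (hab : α ≠ β)
    (hX : X *ᵥ Pi.single β 1 = Pi.single α 1) :
    ∃ K : Subgroup (GL ι F), tensorWreathSubgroup d t e P ⊓ omegaGL Q < K ∧ K < omegaGL Q := by
  classical
  haveI : NeZero d := ⟨fun h => by subst h; exact α.elim0⟩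
  have h5 : 5 ≤ Fintype.card ι := by omega
  have hO := Orth.omegaGL_eq C h5
  obtain ⟨p, q, hpq⟩ : ∃ p q, A p q ≠ 0 := by
    by_contra hne
    push Not at hne
    exact hA0 (Matrix.ext hne)
  have hneg : ∀ {V : Type _} [AddCommGroup V] [Module F V] (v : V), -v = v := fun v => by
    refine neg_eq_of_add_eq_zero_left ?_
    rw [← two_smul F v, h2, zero_smul]
  let Gen : Set (Matrix (Fin t → Fin d) (Fin t → Fin d) F) := {Z | ∃ i, ∃ M ∈ S, Z = powStd i M}
  let L := Submodule.span F Gen
  have hgen : ∀ i {M}, M ∈ S → powStd i M ∈ L := fun i M hM => Submodule.subset_span ⟨i, M, hM, rfl⟩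
  have padd : ∀ (i : Fin t) (M N : Matrix (Fin d) (Fin d) F), powStd i (M + N) = powStd i M + powStd i N :=
    fun i => (powStdLin i).map_add
  have psmul : ∀ (i : Fin t) (s : F) (M : Matrix (Fin d) (Fin d) F), powStd i (s • M) = s • powStd i M :=
    fun i => (powStdLin i).map_smul
  have brS : ∀ M ∈ S, ∀ N ∈ S, ∃ s : F, M * N + N * M = s • 1 := by
    intro M hM N hN
    obtain ⟨a, ha⟩ := D.sq M hM
    obtain ⟨b, hb⟩ := D.sq N hN
    obtain ⟨s, hs⟩ := D.sq (M + N) (S.add_mem hM hN)
    refine ⟨s - a - b, ?_⟩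
    rw [sub_smul, sub_smul, ← hs, ← ha, ← hb]
    noncomm_ring
  have brL : ∀ Z ∈ L, ∀ W ∈ L, ∃ s : F, Z * W + W * Z = s • 1 := by
    intro Z hZ
    induction hZ using Submodule.span_induction with
    | mem Z hZ =>
      obtain ⟨i, M, hM, rfl⟩ := hZ
      intro W hW
      induction hW using Submodule.span_induction with
      | mem W hW =>
        obtain ⟨j, N, hN, rfl⟩ := hW
        by_cases hij : i = j
        · subst hij
          obtain ⟨s, hs⟩ := brS M hM N hN
          exact ⟨s, by rw [powStd_mul, powStd_mul, ← padd, hs, psmul, powStd_one]⟩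
        · refine ⟨0, ?_⟩
          rw [powStd_comm hij, zero_smul, ← two_smul F, h2, zero_smul]
      | zero => exact ⟨0, by simp⟩
      | add a b _ _ ha hb =>
        obtain ⟨s, hs⟩ := ha
        obtain ⟨r, hr⟩ := hb
        exact ⟨s + r, by rw [add_smul, ← hs, ← hr]; noncomm_ring⟩
      | smul x a _ ha =>
        obtain ⟨s, hs⟩ := ha
        exact ⟨x * s, by rw [Matrix.mul_smul, Matrix.smul_mul, ← smul_add, hs, smul_smul]⟩
    | zero => intro W _; exact ⟨0, by simp⟩
    | add a b _ _ ha hb =>
      intro W hW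
      obtain ⟨s, hs⟩ := ha W hW
      obtain ⟨r, hr⟩ := hb W hW
      exact ⟨s + r, by rw [add_smul, ← hs, ← hr]; noncomm_ring⟩
    | smul x a _ ha =>
      intro W hW
      obtain ⟨s, hs⟩ := ha W hW
      exact ⟨x * s, by rw [Matrix.mul_smul, Matrix.smul_mul, ← smul_add, hs, smul_smul]⟩
  let T : Set (Matrix ι ι F) := {Z | ∃ W ∈ L, Z = tm e P W}
  -- a conjugation in the frame
  have conj_gen : ∀ (g : GL ι F) (x x' : Matrix (Fin t → Fin d) (Fin t → Fin d) F), g.val = tm e P x → x * x' = 1 →
      (∀ i, ∀ M ∈ S, x * powStd i M * x' ∈ L) → g ∈ normSet T := by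
    rintro g x x' hg hxx hgens _ ⟨W, hW, rfl⟩
    have hinv : (g⁻¹).val = tm e P x' := by
      have h1 : g.val * tm e P x' = 1 := by rw [hg, ← tm_mul, hxx, tm_one]
      calc (g⁻¹).val = (g⁻¹).val * (g.val * tm e P x') := by rw [h1, Matrix.mul_one]
        _ = tm e P x' := by rw [← Matrix.mul_assoc, ← Units.val_mul, inv_mul_cancel, Units.val_one, Matrix.one_mul]
    refine ⟨x * W * x', ?_, by rw [hg, hinv, ← tm_mul, ← tm_mul]⟩
    induction hW using Submodule.span_induction with
    | mem W hW => obtain ⟨i, M, hM, rfl⟩ := hW; exact hgens i M hM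
    | zero => simp
    | add a b _ _ ha hb => rw [Matrix.mul_add, Matrix.add_mul]; exact L.add_mem ha hb
    | smul s a _ ha => rw [Matrix.mul_smul, Matrix.smul_mul]; exact L.smul_mem s ha
  have hpureG : ∀ (u v : Fin t → Fin d → F), B (P.val *ᵥ (pureVec u ∘ e)) (P.val *ᵥ (pureVec v ∘ e)) =
      c * ∏ k, u k ⬝ᵥ A *ᵥ v k := fun u v => by
    rw [coord_form C, hG, Matrix.smul_mulVec, pureTens_mulVec, dotProduct_smul, pureVec_dot, smul_eq_mul]
  refine ⟨normSet T ⊓ omegaGL Q, lt_of_le_not_ge (fun g hg => ⟨?_, hg.2⟩) fun hle => ?_,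
    lt_of_le_not_ge inf_le_right fun hle => ?_⟩
  · -- the stabiliser normalises the space
    have hgI : g ∈ isometryGroup F Q := Orth.root_le_iso C _ (hO ▸ hg.2)
    obtain ⟨_, ⟨x, hx, rfl⟩, hxg⟩ := hg.1
    have hgv : g.val = tm e P x.val := by rw [← hxg]; rfl
    obtain ⟨a, σ, hax⟩ := standard_act hx
    have hsim : ∀ k, ∃ ν : F, (a k).valᵀ * A * (a k).val = ν • A := by
      refine factor_similar hpq (σ := σ) fun u v => mul_left_cancel₀ hc ?_
      rw [← hpureG, ← hpureG, ← hax, ← hax, ← tm_act, ← tm_act, ← hgv, C.B_act hgI]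
    refine conj_gen g x.val (x⁻¹).val hgv (by rw [← Units.val_mul, mul_inv_cancel, Units.val_one]) fun i M hM => ?_
    obtain ⟨k, rfl⟩ := σ.surjective i
    obtain ⟨ν, hν⟩ := hsim k
    have hcomm : x.val * powStd (σ k) M = powStd k ((a k).val * M * ((a k)⁻¹).val) * x.val := by
      refine mat_ext_pure fun u => ?_
      rw [← Matrix.mulVec_mulVec, ← Matrix.mulVec_mulVec, powStd_pureVec, hax, hax, powStd_pureVec]
      congr 1
      funext l
      by_cases hl : l = k
      · subst hl
        rw [Function.update_self, Function.update_self, Matrix.mulVec_mulVec, Matrix.mulVec_mulVec, Matrix.mul_assoc,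
          ← Units.val_mul, inv_mul_cancel, Units.val_one, Matrix.mul_one]
      · rw [Function.update_of_ne hl, Function.update_of_ne (fun h => hl (σ.injective h))]
    rw [hcomm, Matrix.mul_assoc, ← Units.val_mul, mul_inv_cancel, Units.val_one, Matrix.mul_one]
    exact hgen k (D.inv (a k) ν hν M hM)
  · -- a commutator mixing two factors
    let i0 : Fin t := ⟨0, by omega⟩
    let i1 : Fin t := ⟨1, by omega⟩
    have h01 : i0 ≠ i1 := by simp [i0, i1]
    have flip : ∀ N : Matrix (Fin t → Fin d) (Fin t → Fin d) F, N * N = 0 → Nᵀ * gO e P Q = gO e P Q * N →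
        (∀ u, ∃ v, N *ᵥ pureVec u = pureVec v ∧ ∃ k, u k ⬝ᵥ A *ᵥ v k = 0) →
        ∃ h : GL ι F, h.val = tm e P (1 + N) ∧ h ∈ isometryGroup F Q := by
      intro N hN hself hp
      have hsq : (1 + N) * (1 + N) = 1 := by
        rw [show (1 + N) * (1 + N) = 1 + (N + N) + N * N by noncomm_ring, hN, ← two_smul F N, h2, zero_smul,
          add_zero, add_zero]
      refine ⟨⟨tm e P (1 + N), tm e P (1 + N), by rw [← tm_mul, hsq, tm_one], by rw [← tm_mul, hsq, tm_one]⟩, rfl,
        Orth.mem_iso.2 fun y => ?_⟩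
      have hB : ∀ v w : (Fin t → Fin d) → F, B (tm e P (1 + N) *ᵥ (P.val *ᵥ (v ∘ e))) (tm e P (1 + N) *ᵥ (P.val *ᵥ (w ∘ e))) =
          B (P.val *ᵥ (v ∘ e)) (P.val *ᵥ (w ∘ e)) := fun v w => by
        rw [tm_act, tm_act, coord_form C, coord_form C, ← Matrix.vecMul_transpose, ← Matrix.dotProduct_mulVec,
          Matrix.mulVec_mulVec, Matrix.mulVec_mulVec]
        congr 2
        rw [Matrix.transpose_add, Matrix.transpose_one, Matrix.add_mul, Matrix.one_mul, hself,
          show gO e P Q + gO e P Q * N = gO e P Q * (1 + N) by rw [Matrix.mul_add, Matrix.mul_one],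
          Matrix.mul_assoc, hsq, Matrix.mul_one]
      have hP : ∀ y : ι → F, ∃ v : (Fin t → Fin d) → F, y = P.val *ᵥ (v ∘ e) := fun y =>
        ⟨((P⁻¹).val *ᵥ y) ∘ e.symm, by
          rw [Function.comp_assoc, Equiv.symm_comp_self, Function.comp_id, Matrix.mulVec_mulVec, ← Units.val_mul,
            mul_inv_cancel, Units.val_one, Matrix.one_mulVec]⟩
      show Q (tm e P (1 + N) *ᵥ y) = Q y
      obtain ⟨v, rfl⟩ := hP y
      let W : Submodule F ((Fin t → Fin d) → F) :=
        { carrier := {v | Q (tm e P (1 + N) *ᵥ (P.val *ᵥ (v ∘ e))) = Q (P.val *ᵥ (v ∘ e))}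
          add_mem' := fun {v w} hv hw => by
            show Q _ = Q _
            rw [show ((v + w) ∘ e) = v ∘ e + w ∘ e from rfl, Matrix.mulVec_add, Matrix.mulVec_add, C.add, C.add, hB]
            simp only [Set.mem_setOf_eq] at hv hw
            rw [hv, hw]
          zero_mem' := by
            show Q _ = Q _
            rw [show ((0 : (Fin t → Fin d) → F) ∘ e) = 0 from rfl, Matrix.mulVec_zero, Matrix.mulVec_zero]
          smul_mem' := fun s v hv => by
            show Q _ = Q _
            rw [show ((s • v) ∘ e) = s • (v ∘ e) from rfl, Matrix.mulVec_smul, Matrix.mulVec_smul, C.smul, C.smul]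
            simp only [Set.mem_setOf_eq] at hv
            rw [hv] }
      suffices hW : v ∈ W from hW
      rw [← Finset.univ_sum_single v]
      refine W.sum_mem fun x _ => ?_
      rw [show (Pi.single x (v x) : (Fin t → Fin d) → F) = v x • Pi.single x 1 from by
        rw [← Pi.single_smul', smul_eq_mul, mul_one], ← pureVec_single]
      refine W.smul_mem _ ?_
      set u : Fin t → Fin d → F := fun i => Pi.single (x i) 1
      obtain ⟨w, hw, k, hk⟩ := hp u
      show Q _ = Q _
      rw [tm_act, Matrix.add_mulVec, Matrix.one_mulVec, hw, hpure,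
        show ((pureVec u + pureVec w) ∘ e) = pureVec u ∘ e + pureVec w ∘ e from rfl, Matrix.mulVec_add, C.add, hpure,
        hpure, hpureG, Finset.prod_eq_zero (Finset.mem_univ k) hk]
      ring
    have hGs : ∀ (i : Fin t) (M : Matrix (Fin d) (Fin d) F), Mᵀ * A = A * M →
        (powStd i M)ᵀ * gO e P Q = gO e P Q * powStd i M := fun i M hM => by
      rw [hG, powStd_transpose, Matrix.mul_smul, Matrix.smul_mul, powStd, powStd, pureTens_mul, pureTens_mul]
      congr 2
      funext l
      by_cases hl : l = i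
      · subst hl; simp [hM]
      · simp [hl]
    set A0 := powStd i0 X * powStd i1 Y with hA0'
    set B1 := powStd i1 X with hB1
    have hAA : A0 * A0 = 0 := by
      rw [hA0', show powStd i0 X * powStd i1 Y * (powStd i0 X * powStd i1 Y) =
        powStd i0 X * (powStd i1 Y * powStd i0 X) * powStd i1 Y by noncomm_ring, powStd_comm h01.symm,
        show powStd i0 X * (powStd i0 X * powStd i1 Y) * powStd i1 Y =
        (powStd i0 X * powStd i0 X) * (powStd i1 Y * powStd i1 Y) by noncomm_ring, powStd_mul, D.xx,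
        show powStd i0 (0 : Matrix (Fin d) (Fin d) F) = 0 from (powStdLin i0).map_zero, Matrix.zero_mul]
    have hBB : B1 * B1 = 0 := by
      rw [hB1, powStd_mul, D.xx]
      exact (powStdLin i1).map_zero
    obtain ⟨k1, hk1, hk1I⟩ := flip A0 hAA (by
      rw [hA0', Matrix.transpose_mul, Matrix.mul_assoc, hGs _ _ D.selfX, ← Matrix.mul_assoc, hGs _ _ D.selfY,
        Matrix.mul_assoc, powStd_comm h01.symm]) (fun u => ⟨_, by
        rw [hA0', ← Matrix.mulVec_mulVec, powStd_pureVec, powStd_pureVec], by
        rcases h3 with h3 | h3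
        · refine ⟨⟨2, by omega⟩, ?_⟩
          rw [Function.update_of_ne (by simp [i0]), Function.update_of_ne (by simp [i1])]
          exact halt _
        · refine ⟨i0, ?_⟩
          rw [Function.update_self, Function.update_of_ne h01]
          exact h3 _⟩)
    obtain ⟨k2, hk2, hk2I⟩ := flip B1 hBB (hGs _ _ D.selfX) (fun u => ⟨_, powStd_pureVec _ _ _, i0, by
      rw [Function.update_of_ne h01]; exact halt _⟩)
    have hsq1 : (1 + A0) * (1 + A0) = 1 := by
      rw [show (1 + A0) * (1 + A0) = 1 + (A0 + A0) + A0 * A0 by noncomm_ring, hAA, ← two_smul F A0, h2, zero_smul,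
        add_zero, add_zero]
    have hsq2 : (1 + B1) * (1 + B1) = 1 := by
      rw [show (1 + B1) * (1 + B1) = 1 + (B1 + B1) + B1 * B1 by noncomm_ring, hBB, ← two_smul F B1, h2, zero_smul,
        add_zero, add_zero]
    have hinv : ∀ {h : GL ι F} {N : Matrix (Fin t → Fin d) (Fin t → Fin d) F}, h.val = tm e P (1 + N) →
        (1 + N) * (1 + N) = 1 → h⁻¹ = h := fun {h N} hh hN => inv_eq_of_mul_eq_one_right (Units.ext (by
      rw [Units.val_mul, hh, ← tm_mul, hN, tm_one, Units.val_one]))
    have hk1N : k1 ∈ normSet T := by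
      refine conj_gen k1 _ _ hk1 hsq1 fun l M hM => ?_
      obtain ⟨s, hs⟩ := brS X D.memX M hM
      obtain ⟨r, hr⟩ := brS Y D.memY M hM
      rw [show (1 + A0) * powStd l M * (1 + A0) =
        powStd l M + (A0 * powStd l M + powStd l M * A0) + A0 * powStd l M * A0 by noncomm_ring]
      by_cases hl0 : l = i0
      · subst hl0
        have e1 : A0 * powStd i0 M + powStd i0 M * A0 = s • powStd i1 Y := by
          rw [hA0', Matrix.mul_assoc, powStd_comm h01.symm, ← Matrix.mul_assoc, ← Matrix.mul_assoc, ← Matrix.add_mul,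
            powStd_mul, powStd_mul, ← padd, hs, psmul, powStd_one, Matrix.smul_mul, Matrix.one_mul]
        have e2 : A0 * powStd i0 M * A0 = 0 := by
          rw [hA0', Matrix.mul_assoc (powStd i0 X), powStd_comm h01.symm,
            show powStd i0 X * (powStd i0 M * powStd i1 Y) * (powStd i0 X * powStd i1 Y) =
              powStd i0 X * powStd i0 M * (powStd i1 Y * powStd i0 X) * powStd i1 Y by noncomm_ring,
            powStd_comm h01.symm, show powStd i0 X * powStd i0 M * (powStd i0 X * powStd i1 Y) * powStd i1 Y =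
              powStd i0 X * powStd i0 M * powStd i0 X * (powStd i1 Y * powStd i1 Y) by noncomm_ring, powStd_mul i1,
            D.yy, show powStd i1 (0 : Matrix (Fin d) (Fin d) F) = 0 from (powStdLin i1).map_zero, Matrix.mul_zero]
        rw [e1, e2, add_zero]
        exact L.add_mem (hgen _ hM) (L.smul_mem _ (hgen _ D.memY))
      by_cases hl1 : l = i1
      · subst hl1
        have e1 : A0 * powStd i1 M + powStd i1 M * A0 = r • powStd i0 X := by
          rw [hA0', Matrix.mul_assoc, ← Matrix.mul_assoc (powStd i1 M), powStd_comm h01.symm, Matrix.mul_assoc,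
            ← Matrix.mul_add, powStd_mul, powStd_mul, ← padd, hr, psmul, powStd_one, Matrix.mul_smul, Matrix.mul_one]
        have e2 : A0 * powStd i1 M * A0 = 0 := by
          rw [hA0', Matrix.mul_assoc (powStd i0 X) (powStd i1 Y) (powStd i1 M), powStd_mul,
            Matrix.mul_assoc (powStd i0 X), ← Matrix.mul_assoc (powStd i1 (Y * M)), powStd_comm h01.symm,
            Matrix.mul_assoc (powStd i0 X), ← Matrix.mul_assoc, powStd_mul, D.xx,
            show powStd i0 (0 : Matrix (Fin d) (Fin d) F) = 0 from (powStdLin i0).map_zero, Matrix.zero_mul]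
        rw [e1, e2, add_zero]
        exact L.add_mem (hgen _ hM) (L.smul_mem _ (hgen _ D.memX))
      · have e0 : A0 * powStd l M = powStd l M * A0 := by
          rw [hA0', Matrix.mul_assoc, powStd_comm (Ne.symm hl1), ← Matrix.mul_assoc, powStd_comm (Ne.symm hl0),
            Matrix.mul_assoc]
        rw [e0, Matrix.mul_assoc, hAA, Matrix.mul_zero, add_zero, ← two_smul F, h2, zero_smul, add_zero]
        exact hgen _ hM
    have hk2N : k2 ∈ normSet T := by
      refine conj_gen k2 _ _ hk2 hsq2 fun l M hM => ?_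
      obtain ⟨s, hs⟩ := brS X D.memX M hM
      rw [show (1 + B1) * powStd l M * (1 + B1) =
        powStd l M + (B1 * powStd l M + powStd l M * B1) + B1 * powStd l M * B1 by noncomm_ring]
      by_cases hl : l = i1
      · subst hl
        have hxmx : X * M * X = s • X := by
          have h' : M * X = s • 1 - X * M := by rw [← hs]; abel
          rw [Matrix.mul_assoc, h', Matrix.mul_sub, Matrix.mul_smul, Matrix.mul_one, ← Matrix.mul_assoc, D.xx,
            Matrix.zero_mul, sub_zero]
        rw [hB1, powStd_mul, powStd_mul, ← padd, hs, powStd_mul, hxmx, psmul, psmul, powStd_one, ← powStd_one i1]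
        exact L.add_mem (L.add_mem (hgen _ hM) (L.smul_mem _ (hgen _ D.one))) (L.smul_mem _ (hgen _ D.memX))
      · rw [hB1, powStd_comm (Ne.symm hl), Matrix.mul_assoc, powStd_mul, D.xx,
          show powStd i1 (0 : Matrix (Fin d) (Fin d) F) = 0 from (powStdLin i1).map_zero, Matrix.mul_zero, add_zero,
          ← two_smul F, h2, zero_smul, add_zero]
        exact hgen _ hM
    have hgΩ : k1 * k2 * k1⁻¹ * k2⁻¹ ∈ omegaGL Q := by
      rw [hO, ← Orth.comm_eq_root C h5]
      exact Subgroup.commutator_mem_commutator hk1I hk2I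
    obtain ⟨_, ⟨x, hx, rfl⟩, hxg⟩ := (hle
      ⟨(normSet T).mul_mem ((normSet T).mul_mem ((normSet T).mul_mem hk1N hk2N) ((normSet T).inv_mem hk1N))
        ((normSet T).inv_mem hk2N), hgΩ⟩).1
    have hxv : x.val = 1 + powStd i0 X + powStd i0 X * powStd i1 X := by
      apply tm_inj e P
      have h' : tm e P x.val = (k1 * k2 * k1⁻¹ * k2⁻¹).val := by rw [← hxg]; rfl
      rw [h', hinv hk1 hsq1, hinv hk2 hsq2, Units.val_mul, Units.val_mul, Units.val_mul, hk1, hk2, ← tm_mul, ← tm_mul,
        ← tm_mul]
      congr 1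
      have hAB : A0 * B1 + B1 * A0 = powStd i0 X := by
        rw [hA0', hB1, Matrix.mul_assoc, ← Matrix.mul_assoc (powStd i1 X), powStd_comm h01.symm, Matrix.mul_assoc,
          ← Matrix.mul_add, powStd_mul, powStd_mul, ← padd, add_comm, D.xy, powStd_one, Matrix.mul_one]
      have hBAB : B1 * A0 * B1 = powStd i0 X * powStd i1 X := by
        have hxyx : X * Y * X = X := by
          have h' : Y * X = 1 - X * Y := by rw [← D.xy]; abel
          rw [Matrix.mul_assoc, h', Matrix.mul_sub, Matrix.mul_one, ← Matrix.mul_assoc, D.xx, Matrix.zero_mul,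
            sub_zero]
        rw [hA0', hB1, ← Matrix.mul_assoc, powStd_comm h01.symm, Matrix.mul_assoc (powStd i0 X), powStd_mul,
          Matrix.mul_assoc, powStd_mul, hxyx]
      have hABA : A0 * B1 * A0 = 0 := by
        rw [hA0', hB1, Matrix.mul_assoc (powStd i0 X) (powStd i1 Y) (powStd i1 X), powStd_mul,
          Matrix.mul_assoc (powStd i0 X), ← Matrix.mul_assoc (powStd i1 (Y * X)), powStd_comm h01.symm,
          Matrix.mul_assoc (powStd i0 X), ← Matrix.mul_assoc, powStd_mul, D.xx,
          show powStd i0 (0 : Matrix (Fin d) (Fin d) F) = 0 from (powStdLin i0).map_zero, Matrix.zero_mul]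
      have expand : (1 + A0) * (1 + B1) * (1 + A0) * (1 + B1) =
          1 + (A0 + A0) + (B1 + B1) + (A0 * B1 + B1 * A0) + (A0 * B1 + A0 * B1) + A0 * A0 + B1 * B1 +
          A0 * A0 * B1 + A0 * B1 * A0 + B1 * A0 * B1 + A0 * (B1 * B1) + A0 * B1 * A0 * B1 := by
        noncomm_ring
      have hd : ∀ N : Matrix (Fin t → Fin d) (Fin t → Fin d) F, N + N = 0 := fun N => by
        rw [← two_smul F N, h2, zero_smul]
      rw [expand, hd, hd, hd, hAB, hAA, hBB, hABA, hBAB]
      simp
    obtain ⟨u', hu'⟩ := wreath_pureVec hx (fun _ => (Pi.single β (1 : F) : Fin d → F))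
    have heval : ∀ w : Fin t → Fin d, (x.val *ᵥ pureVec fun _ => (Pi.single β (1 : F) : Fin d → F)) w =
        (if w = fun _ => β then 1 else 0) + (if w = Function.update (fun _ => β) i0 α then 1 else 0) +
        (if w = Function.update (Function.update (fun _ => β) i1 α) i0 α then 1 else 0) := by
      intro w
      have hs : ∀ (u : Fin t → Fin d) (i : Fin t), u i = β →
          powStd i X *ᵥ pureVec (fun l => (Pi.single (u l) (1 : F) : Fin d → F)) =
            pureVec fun l => (Pi.single (Function.update u i α l) (1 : F) : Fin d → F) := by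
        intro u i hui
        rw [powStd_pureVec, hui, hX]
        congr 1
        funext l
        by_cases hl : l = i
        · subst hl; simp
        · simp [hl]
      rw [hxv, Matrix.add_mulVec, Matrix.add_mulVec, Matrix.one_mulVec, ← Matrix.mulVec_mulVec, hs _ _ rfl, hs _ _ rfl,
        hs _ _ (by simp [h01]), pureVec_single, pureVec_single, pureVec_single]
      simp only [Pi.add_apply, Pi.single_apply]
    simp only [hu'] at heval
    let bb : Fin t → Fin d := fun _ => β
    let ab := Function.update bb i0 α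
    let ba := Function.update bb i1 α
    let aa := Function.update ba i0 α
    have hid : pureVec u' ba * pureVec u' ab = pureVec u' bb * pureVec u' aa := by
      simp only [pureVec, ← Finset.prod_mul_distrib]
      refine Finset.prod_congr rfl fun l _ => ?_
      by_cases h0 : l = i0
      · subst h0; simp [ba, ab, aa, bb, h01]
      · simp [ba, ab, aa, bb, h0, mul_comm]
    have n1 : ba ≠ bb := fun h => hab (by simpa [ba, bb] using congrFun h i1)
    have n2 : ba ≠ ab := fun h => hab (by simpa [ba, ab, bb, h01.symm] using congrFun h i1)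
    have n3 : ba ≠ aa := fun h => hab (by simpa [ba, aa, bb, h01] using (congrFun h i0).symm)
    have n4 : bb ≠ ab := fun h => hab (by simpa [ab, bb] using (congrFun h i0).symm)
    have n5 : bb ≠ aa := fun h => hab (by simpa [aa, bb] using (congrFun h i0).symm)
    have n6 : ab ≠ aa := fun h => hab (by simpa [ab, aa, ba, bb, h01.symm] using (congrFun h i1).symm)
    rw [heval, heval, heval, heval] at hid
    simp only [show (fun _ : Fin t => β) = bb from rfl,
      show Function.update bb i0 α = ab from rfl, show Function.update bb i1 α = ba from rfl,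
      show Function.update ba i0 α = aa from rfl] at hid
    simp [n1, n2, n3, n4, n5, n6, n4.symm, n5.symm, n6.symm] at hid
  · -- a Siegel element moving the space
    set u := P.val *ᵥ (pureVec (fun _ : Fin t => (Pi.single β (1 : F) : Fin d → F)) ∘ e) with hu
    have hQu : Q u = 0 := hpure _
    have hu0 : u ≠ 0 := fun h => by
      have h' := congrArg (fun z => ((P⁻¹).val *ᵥ z) (e.symm fun _ => β)) h
      simp [hu, Matrix.mulVec_mulVec, pureVec_single] at h'
    obtain ⟨a, hua, hau⟩ : ∃ a, B u a = 0 ∧ a ∉ Submodule.span F {u} := by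
      by_contra hcon
      push Not at hcon
      have hle' : LinearMap.ker (B u) ≤ Submodule.span F {u} := fun v hv => hcon v hv
      have h1 := Submodule.finrank_mono hle'
      rw [finrank_span_singleton hu0] at h1
      have h3' := LinearMap.finrank_range_add_finrank_ker (B u)
      have h4 : Module.finrank F (LinearMap.range (B u)) ≤ 1 :=
        le_trans (Submodule.finrank_le _) (le_of_eq (Module.finrank_self F))
      rw [Module.finrank_fintype_fun_eq_card] at h3'
      omega
    have hgΩ : Orth.sGL Q B u a ∈ omegaGL Q := hO ▸ Orth.sGL_mem_root trivial trivial hQu hua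
    have hgN := (hle hgΩ).1
    set g := Orth.sGL Q B u a with hg
    have hrank : (g.val - 1).rank ≤ 2 := by
      rw [hg, Orth.sGL_val C hQu hua, Orth.sMat, add_sub_assoc, add_sub_cancel_left]
      exact le_trans (rank_sub _ _) (Nat.add_le_add (Matrix.rank_vecMulVec_le _ _) (Matrix.rank_vecMulVec_le _ _))
    obtain ⟨x, hx⟩ := tm_surj e P g.val
    have hfix : ∀ i, ∀ M ∈ S, Commute x (powStd i M) := by
      intro i M hM
      obtain ⟨W, hW, hWe⟩ := hgN _ ⟨_, hgen i hM, rfl⟩
      set Z := tm e P (powStd i M) with hZ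
      set Δ := W - powStd i M with hΔ
      have hΔL : Δ ∈ L := L.sub_mem hW (hgen i hM)
      have hΔr : (tm e P Δ).rank ≤ 4 := by
        have e1 : tm e P Δ = ((g.val - 1) * Z - Z * (g.val - 1)) * (g⁻¹).val := by
          rw [hΔ, tm_sub, ← hWe, ← hZ, show (g.val - 1) * Z - Z * (g.val - 1) = g.val * Z - Z * g.val by noncomm_ring,
            Matrix.sub_mul, Matrix.mul_assoc Z g.val, ← Units.val_mul, mul_inv_cancel, Units.val_one, Matrix.mul_one]
        rw [e1]
        refine le_trans (Matrix.rank_mul_le_left _ _) (le_trans (rank_sub _ _) ?_)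
        exact le_trans (Nat.add_le_add (Matrix.rank_mul_le_left _ _) (Matrix.rank_mul_le_right _ _)) (by omega)
      have hcomm : ∀ j, ∀ N ∈ S, Commute Δ (powStd j N) := by
        intro j N hN
        obtain ⟨s, hs⟩ := brL Δ hΔL _ (hgen j hN)
        have hs0 : s = 0 := by
          by_contra hne
          have h1 : (s • (1 : Matrix ι ι F)).rank ≤ 8 := by
            rw [← tm_one e P, ← tm_smul', ← hs, tm_add', tm_mul, tm_mul]
            refine le_trans (rank_add _ _) ?_
            have := Matrix.rank_mul_le_left (tm e P Δ) (tm e P (powStd j N))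
            have := Matrix.rank_mul_le_right (tm e P (powStd j N)) (tm e P Δ)
            omega
          rw [rank_scalar hne] at h1
          omega
        rw [hs0, zero_smul, ← neg_eq_iff_add_eq_zero, hneg] at hs
        exact hs
      obtain ⟨s, hs⟩ := scalar_of_comm_powStd (M := Δ) fun j b => by
        have hb : b ∈ Algebra.adjoin F (S : Set (Matrix (Fin d) (Fin d) F)) := D.top ▸ Algebra.mem_top
        induction hb using Algebra.adjoin_induction with
        | mem N hN => exact hcomm j N hN
        | algebraMap r =>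
          rw [Algebra.algebraMap_eq_smul_one, psmul, powStd_one]
          exact (Commute.one_right Δ).smul_right r
        | add b b' _ _ hb hb' => rw [padd]; exact hb.add_right hb'
        | mul b b' _ _ hb hb' => rw [← powStd_mul]; exact hb.mul_right hb'
      have hs0 : s = 0 := by
        by_contra hne
        rw [hs, tm_smul', tm_one, rank_scalar hne] at hΔr
        omega
      have hWeq : W = powStd i M := sub_eq_zero.1 (by rw [← hΔ, hs, hs0, zero_smul])
      have h1 : g.val * Z = Z * g.val := by
        calc g.val * Z = g.val * Z * (g⁻¹).val * g.val := by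
              rw [Matrix.mul_assoc, ← Units.val_mul, inv_mul_cancel, Units.val_one, Matrix.mul_one]
          _ = Z * g.val := by rw [hWe, hWeq]
      exact tm_inj e P (by rw [tm_mul, tm_mul, ← hx]; exact h1)
    obtain ⟨s, hs⟩ := scalar_of_comm_powStd (M := x) fun j b => by
      have hb : b ∈ Algebra.adjoin F (S : Set (Matrix (Fin d) (Fin d) F)) := D.top ▸ Algebra.mem_top
      induction hb using Algebra.adjoin_induction with
      | mem N hN => exact hfix j N hN
      | algebraMap r =>
        rw [Algebra.algebraMap_eq_smul_one, psmul, powStd_one]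
        exact (Commute.one_right x).smul_right r
      | add b b' _ _ hb hb' => rw [padd]; exact hb.add_right hb'
      | mul b b' _ _ hb hb' => rw [← powStd_mul]; exact hb.mul_right hb'
    have hact : ∀ v, g.val *ᵥ v = s • v := fun v => by
      rw [hx, hs, tm_smul', tm_one, Matrix.smul_mulVec, Matrix.one_mulVec]
    have h1 := hact u
    rw [Orth.sGL_act C hQu hua, C.self_zero hQu, zero_smul, add_zero, C.symm a u, hua, mul_zero, add_zero, zero_smul,
      sub_zero] at h1
    have hs1 : s = 1 := by
      have h' : (1 - s) • u = 0 := by rw [sub_smul, one_smul, ← h1, sub_self]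
      exact (sub_eq_zero.1 ((smul_eq_zero.1 h').resolve_right hu0)).symm
    obtain ⟨z, hz⟩ := C.exists_pair hu0
    have h4 := hact z
    rw [Orth.sGL_act C hQu hua, hz, one_smul, hs1, one_smul, add_sub_assoc, add_eq_left, sub_eq_zero] at h4
    exact hau (h4 ▸ Submodule.smul_mem _ _ (Submodule.mem_span_singleton_self u))

end Cfsg.Lib.Linear.Spin
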