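import Cfsg.Agent.Lib.Linear.SpinNormalizer
import Cfsg.Agent.Lib.Linear.PrimeClasses.SympReal

/-!
# Tensor powers of symplectic planes and spaces of dimension four in characteristic two
-/

set_option autoImplicit false
set_option linter.unusedSectionVars false
set_option linter.style.haveILetI false

namespace Cfsg.Lib.Linear.Spin

open Cfsg.Geo Cfsg.Lib.Linear Cfsg.Lib.Linear.AschOrth
open Cfsg.Lib.Linear.AschGen (pureTens pureTens_mul pureTens_one)
open Cfsg.Lib.Linear.AschSp (pureVec pureTens_mulVec pureTens_transpose)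
open scoped Matrix MatrixGroups

variable {ι : Type} [Fintype ι] [DecidableEq ι] {F : Type*} [Field F]
  {Q : (ι → F) → F} {B : LinearMap.BilinForm F (ι → F)} {d t : ℕ}
  {e : ι ≃ (Fin t → Fin d)} {P : GL ι F}

theorem adjoin_top {s : Set (Matrix (Fin d) (Fin d) F)} (h : ∀ i j, Matrix.single i j (1 : F) ∈ Algebra.adjoin F s) :
    Algebra.adjoin F s = ⊤ := by
  refine eq_top_iff.2 fun M _ => ?_
  rw [Matrix.matrix_eq_sum_single M]
  refine Subalgebra.sum_mem _ fun i _ => Subalgebra.sum_mem _ fun j _ => ?_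
  rw [show Matrix.single i j (M i j) = M i j • Matrix.single i j (1 : F) by rw [Matrix.smul_single, smul_eq_mul, mul_one]]
  exact Subalgebra.smul_mem _ (h i j) _

/-- Matrices whose product with `A` is alternating and whose first two diagonal entries agree. -/
def altSpace (A : Matrix (Fin 4) (Fin 4) F) : Submodule F (Matrix (Fin 4) (Fin 4) F) where
  carrier := {M | (∀ u : Fin 4 → F, u ⬝ᵥ (A * M) *ᵥ u = 0) ∧ M 0 0 = M 1 1}
  add_mem' := fun {M N} hM hN => ⟨fun u => by
    rw [Matrix.mul_add, Matrix.add_mulVec, dotProduct_add, hM.1, hN.1, add_zero], by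
    rw [Matrix.add_apply, Matrix.add_apply, hM.2, hN.2]⟩
  zero_mem' := ⟨fun u => by simp, rfl⟩
  smul_mem' := fun s M hM => ⟨fun u => by
    rw [Matrix.mul_smul, Matrix.smul_mulVec, dotProduct_smul, hM.1, smul_zero], by
    rw [Matrix.smul_apply, Matrix.smul_apply, hM.2]⟩

/-- The alternating form on four coordinates. -/
def altFour (F : Type*) [Field F] : Matrix (Fin 4) (Fin 4) F :=
  !![0, 0, 1, 0; 0, 0, 0, 1; 1, 0, 0, 0; 0, 1, 0, 0]

theorem altFour_alt (h2 : (2 : F) = 0) (u : Fin 4 → F) : u ⬝ᵥ altFour F *ᵥ u = 0 := by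
  simp only [altFour, Matrix.mulVec, dotProduct, Fin.sum_univ_four]
  simp
  linear_combination (u 0 * u 2 + u 1 * u 3) * h2

theorem mem_altSpace (h2 : (2 : F) = 0) {M : Matrix (Fin 4) (Fin 4) F}
    (hM : ∀ u : Fin 4 → F, u ⬝ᵥ (altFour F * M) *ᵥ u = 0) :
    M 2 0 = 0 ∧ M 3 1 = 0 ∧ M 0 2 = 0 ∧ M 1 3 = 0 ∧ M 2 1 = M 3 0 ∧ M 2 2 = M 0 0 ∧ M 2 3 = M 1 0 ∧
      M 3 2 = M 0 1 ∧ M 3 3 = M 1 1 ∧ M 0 3 = M 1 2 := by
  have hd : ∀ i, (altFour F * M) i i = 0 := fun i => by
    simpa [Matrix.mulVec_single_one] using hM (Pi.single i 1)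
  have ho : ∀ i j, (altFour F * M) i j + (altFour F * M) j i = 0 := fun i j => by
    have h := hM (Pi.single i 1 + Pi.single j 1)
    simp [Matrix.mulVec_add, add_dotProduct, dotProduct_add, Matrix.mulVec_single_one, hd] at h
    linear_combination h
  have e1 := hd 0; have e2 := hd 1; have e3 := hd 2; have e4 := hd 3
  have f1 := ho 0 1; have f2 := ho 0 2; have f3 := ho 0 3; have f4 := ho 1 2; have f5 := ho 1 3; have f6 := ho 2 3
  simp [altFour, Matrix.mul_apply, Fin.sum_univ_four] at e1 e2 e3 e4 f1 f2 f3 f4 f5 f6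
  refine ⟨e1, e2, e3, e4, ?_, ?_, ?_, ?_, ?_, ?_⟩
  · linear_combination f1 - M 3 0 * h2
  · linear_combination f2 - M 0 0 * h2
  · linear_combination f3 - M 1 0 * h2
  · linear_combination f4 - M 0 1 * h2
  · linear_combination f5 - M 1 1 * h2
  · linear_combination f6 - M 1 2 * h2

/-- The trace-zero space of a symplectic plane. -/
theorem data_two (h2 : (2 : F) = 0) {a : F} :
    FactorData (a • !![0, 1; 1, 0] : Matrix (Fin 2) (Fin 2) F) (LinearMap.ker (Matrix.traceLinearMap (Fin 2) F F))
      (Matrix.single 0 1 1) (Matrix.single 1 0 1) := by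
  have htr : ∀ M : Matrix (Fin 2) (Fin 2) F, M ∈ LinearMap.ker (Matrix.traceLinearMap (Fin 2) F F) ↔
      M 0 0 + M 1 1 = 0 := fun M => by simp [Matrix.trace_fin_two]
  refine
    { one := (htr _).2 (by simp only [Matrix.one_apply_eq]; linear_combination h2)
      sq := fun M hM => ⟨M 0 0 * M 0 0 + M 0 1 * M 1 0, ?_⟩
      inv := fun g _ _ M hM => ?_
      memX := (htr _).2 (by simp)
      memY := (htr _).2 (by simp)
      xx := by simp
      yy := by simp
      xy := ?_
      selfX := ?_
      selfY := ?_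
      top := ?_ }
  · have h := (htr M).1 hM
    ext i j
    fin_cases i <;> fin_cases j <;> simp [Matrix.mul_apply, Fin.sum_univ_two]
    · linear_combination M 0 1 * h
    · linear_combination M 1 0 * h
    · linear_combination (M 1 1 - M 0 0) * h
  · have h := (htr M).1 hM
    rw [← Matrix.trace_fin_two] at h
    show Matrix.traceLinearMap (Fin 2) F F (g.val * M * (g⁻¹).val) = 0
    rw [Matrix.traceLinearMap_apply, Matrix.trace_units_conj, h]
  · ext i j; fin_cases i <;> fin_cases j <;> simp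
  · ext i j; fin_cases i <;> fin_cases j <;> simp [Matrix.mul_apply, Fin.sum_univ_two]
  · ext i j; fin_cases i <;> fin_cases j <;> simp [Matrix.mul_apply, Fin.sum_univ_two]
  · refine adjoin_top fun i j => ?_
    have hX : Matrix.single (0 : Fin 2) (1 : Fin 2) (1 : F) ∈
        Algebra.adjoin F ((LinearMap.ker (Matrix.traceLinearMap (Fin 2) F F)) : Set (Matrix (Fin 2) (Fin 2) F)) :=
      Algebra.subset_adjoin ((htr _).2 (by simp))
    have hY : Matrix.single (1 : Fin 2) (0 : Fin 2) (1 : F) ∈
        Algebra.adjoin F ((LinearMap.ker (Matrix.traceLinearMap (Fin 2) F F)) : Set (Matrix (Fin 2) (Fin 2) F)) :=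
      Algebra.subset_adjoin ((htr _).2 (by simp))
    fin_cases i <;> fin_cases j
    · simpa using Subalgebra.mul_mem _ hX hY
    · exact hX
    · exact hY
    · simpa using Subalgebra.mul_mem _ hY hX

theorem sq_four (h2 : (2 : F) = 0) {M : Matrix (Fin 4) (Fin 4) F} (hM : M ∈ altSpace (altFour F)) :
    M * M = (M 0 0 * M 0 0 + M 0 1 * M 1 0 + M 0 3 * M 3 0) • 1 := by
  obtain ⟨a1, a2, a3, a4, a5, a6, a7, a8, a9, a10⟩ := mem_altSpace h2 hM.1
  have a0 := hM.2
  ext i j
  fin_cases i <;> fin_cases j <;> simp [Matrix.mul_apply, Fin.sum_univ_four, a1, a2, a3, a4, a5, a6, a7, a8, a9, a10,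
    ← a0]
  all_goals (ring_nf; try simp [h2])

set_option maxHeartbeats 1000000 in
/-- The space of alternating matrices with scalar square of a symplectic space of dimension four. -/
theorem data_four (h2 : (2 : F) = 0) :
    FactorData (altFour F) (altSpace (altFour F))
      (Matrix.single 0 1 1 + Matrix.single 3 2 1) (Matrix.single 1 0 1 + Matrix.single 2 3 1) := by
  have hmem : ∀ M : Matrix (Fin 4) (Fin 4) F, (∀ u : Fin 4 → F, u ⬝ᵥ (altFour F * M) *ᵥ u = 0) → M 0 0 = M 1 1 →
      M ∈ altSpace (altFour F) := fun M h h' => ⟨h, h'⟩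
  have hX : (Matrix.single 0 1 1 + Matrix.single 3 2 1 : Matrix (Fin 4) (Fin 4) F) ∈ altSpace (altFour F) :=
    hmem _ (fun u => by
      simp [altFour, Matrix.mulVec, dotProduct, Matrix.mul_apply, Fin.sum_univ_four, Matrix.single_apply]
      linear_combination (u 1 * u 2) * h2) (by simp)
  have hY : (Matrix.single 1 0 1 + Matrix.single 2 3 1 : Matrix (Fin 4) (Fin 4) F) ∈ altSpace (altFour F) :=
    hmem _ (fun u => by
      simp [altFour, Matrix.mulVec, dotProduct, Matrix.mul_apply, Fin.sum_univ_four, Matrix.single_apply]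
      linear_combination (u 0 * u 3) * h2) (by simp)
  refine
    { one := hmem _ (fun u => by rw [Matrix.mul_one]; exact altFour_alt h2 u) rfl
      sq := fun M hM => ⟨M 0 0 * M 0 0 + M 0 1 * M 1 0 + M 0 3 * M 3 0, ?_⟩
      inv := fun g ν hg M hM => ?_
      memX := hX
      memY := hY
      xx := ?_
      yy := ?_
      xy := ?_
      selfX := ?_
      selfY := ?_
      top := ?_ }
  · exact sq_four h2 hM
  · have h1 : ∀ u : Fin 4 → F, u ⬝ᵥ (altFour F * (g.val * M * (g⁻¹).val)) *ᵥ u = 0 := fun u => by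
      have hw : g.val *ᵥ ((g⁻¹).val *ᵥ u) = u := by
        rw [Matrix.mulVec_mulVec, ← Units.val_mul, mul_inv_cancel, Units.val_one, Matrix.one_mulVec]
      generalize hwe : (g⁻¹).val *ᵥ u = w at hw
      rw [show altFour F * (g.val * M * (g⁻¹).val) = altFour F * g.val * M * (g⁻¹).val by
        simp only [Matrix.mul_assoc], ← Matrix.mulVec_mulVec, hwe, ← hw, ← Matrix.vecMul_transpose,
        ← Matrix.dotProduct_mulVec, Matrix.mulVec_mulVec,
        show g.valᵀ * (altFour F * g.val * M) = g.valᵀ * altFour F * g.val * M by simp only [Matrix.mul_assoc],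
        hg, Matrix.smul_mul, Matrix.smul_mulVec, dotProduct_smul, hM.1, smul_zero]
    refine hmem _ h1 ?_
    obtain ⟨s, hs⟩ : ∃ s : F, g.val * M * (g⁻¹).val * (g.val * M * (g⁻¹).val) = s • 1 := by
      refine ⟨M 0 0 * M 0 0 + M 0 1 * M 1 0 + M 0 3 * M 3 0, ?_⟩
      have hsq := sq_four h2 hM
      rw [show g.val * M * (g⁻¹).val * (g.val * M * (g⁻¹).val) = g.val * M * ((g⁻¹).val * g.val) * M * (g⁻¹).val by
        simp only [Matrix.mul_assoc], ← Units.val_mul, inv_mul_cancel, Units.val_one, Matrix.mul_one,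
        Matrix.mul_assoc g.val M M, hsq, Matrix.mul_smul, Matrix.smul_mul, Matrix.mul_one, ← Units.val_mul,
        mul_inv_cancel, Units.val_one]
    generalize g.val * M * (g⁻¹).val = N at h1 hs ⊢
    obtain ⟨a1, a2, a3, a4, a5, a6, a7, a8, a9, a10⟩ := mem_altSpace h2 h1
    have e0 := congrFun (congrFun hs 0) 0
    have e1 := congrFun (congrFun hs 1) 1
    simp [Matrix.mul_apply, Fin.sum_univ_four, a1, a2, a3, a4, a5, a10] at e0 e1
    have h0 : (N 0 0 - N 1 1) * (N 0 0 - N 1 1) = 0 := by
      linear_combination e0 - e1 - N 1 1 * (N 0 0 - N 1 1) * h2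
    exact sub_eq_zero.1 (mul_self_eq_zero.1 h0)
  · ext i j; fin_cases i <;> fin_cases j <;> simp [Matrix.mul_apply, Fin.sum_univ_four, Matrix.single_apply]
  · ext i j; fin_cases i <;> fin_cases j <;> simp [Matrix.mul_apply, Fin.sum_univ_four, Matrix.single_apply]
  · ext i j; fin_cases i <;> fin_cases j <;> simp [Matrix.mul_apply, Fin.sum_univ_four, Matrix.single_apply]
  · ext i j; fin_cases i <;> fin_cases j <;>
      simp [altFour, Matrix.mul_apply, Fin.sum_univ_four, Matrix.single_apply]
  · ext i j; fin_cases i <;> fin_cases j <;>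
      simp [altFour, Matrix.mul_apply, Fin.sum_univ_four, Matrix.single_apply]
  · set T := Algebra.adjoin F (altSpace (altFour F) : Set (Matrix (Fin 4) (Fin 4) F))
    have mR : (Matrix.single 0 3 1 + Matrix.single 1 2 1 : Matrix (Fin 4) (Fin 4) F) ∈ T :=
      Algebra.subset_adjoin (hmem _ (fun u => by
        simp [altFour, Matrix.mulVec, dotProduct, Matrix.mul_apply, Fin.sum_univ_four, Matrix.single_apply]
        linear_combination (u 2 * u 3) * h2) (by simp))
    have mU : (Matrix.single 2 1 1 + Matrix.single 3 0 1 : Matrix (Fin 4) (Fin 4) F) ∈ T :=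
      Algebra.subset_adjoin (hmem _ (fun u => by
        simp [altFour, Matrix.mulVec, dotProduct, Matrix.mul_apply, Fin.sum_univ_four, Matrix.single_apply]
        linear_combination (u 0 * u 1) * h2) (by simp))
    have mX := (Algebra.subset_adjoin hX : _ ∈ T)
    have mY := (Algebra.subset_adjoin hY : _ ∈ T)
    have mp : (Matrix.single 0 0 1 + Matrix.single 1 1 1 : Matrix (Fin 4) (Fin 4) F) ∈ T := by
      have h := T.mul_mem mR mU
      simp [Matrix.add_mul, Matrix.mul_add] at h
      rwa [add_comm]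
    have h01 : (Matrix.single 0 1 1 : Matrix (Fin 4) (Fin 4) F) ∈ T := by
      simpa [Matrix.add_mul, Matrix.mul_add] using T.mul_mem mp mX
    have h10 : (Matrix.single 1 0 1 : Matrix (Fin 4) (Fin 4) F) ∈ T := by
      simpa [Matrix.add_mul, Matrix.mul_add] using T.mul_mem mp mY
    have h32 : (Matrix.single 3 2 1 : Matrix (Fin 4) (Fin 4) F) ∈ T := by
      simpa using T.sub_mem mX h01
    have h23 : (Matrix.single 2 3 1 : Matrix (Fin 4) (Fin 4) F) ∈ T := by
      simpa using T.sub_mem mY h10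
    have h00 : (Matrix.single 0 0 1 : Matrix (Fin 4) (Fin 4) F) ∈ T := by simpa using T.mul_mem h01 h10
    have h11 : (Matrix.single 1 1 1 : Matrix (Fin 4) (Fin 4) F) ∈ T := by simpa using T.mul_mem h10 h01
    have h22 : (Matrix.single 2 2 1 : Matrix (Fin 4) (Fin 4) F) ∈ T := by simpa using T.mul_mem h23 h32
    have h33 : (Matrix.single 3 3 1 : Matrix (Fin 4) (Fin 4) F) ∈ T := by simpa using T.mul_mem h32 h23
    have h03 : (Matrix.single 0 3 1 : Matrix (Fin 4) (Fin 4) F) ∈ T := by
      simpa [Matrix.mul_add] using T.mul_mem h00 mR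
    have h12 : (Matrix.single 1 2 1 : Matrix (Fin 4) (Fin 4) F) ∈ T := by
      simpa [Matrix.mul_add] using T.mul_mem h11 mR
    have h21 : (Matrix.single 2 1 1 : Matrix (Fin 4) (Fin 4) F) ∈ T := by
      simpa [Matrix.mul_add] using T.mul_mem h22 mU
    have h30 : (Matrix.single 3 0 1 : Matrix (Fin 4) (Fin 4) F) ∈ T := by
      simpa [Matrix.mul_add] using T.mul_mem h33 mU
    have h02 : (Matrix.single 0 2 1 : Matrix (Fin 4) (Fin 4) F) ∈ T := by simpa using T.mul_mem h03 h32
    have h13 : (Matrix.single 1 3 1 : Matrix (Fin 4) (Fin 4) F) ∈ T := by simpa using T.mul_mem h12 h23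
    have h20 : (Matrix.single 2 0 1 : Matrix (Fin 4) (Fin 4) F) ∈ T := by simpa using T.mul_mem h21 h10
    have h31 : (Matrix.single 3 1 1 : Matrix (Fin 4) (Fin 4) F) ∈ T := by simpa using T.mul_mem h30 h01
    refine adjoin_top fun i j => ?_
    fin_cases i <;> fin_cases j <;> assumption

set_option maxHeartbeats 800000 in
/-- The stabiliser of a tensor power of symplectic spaces of dimension at most four is not maximal in `Ω`. -/
theorem symp_power_not_max [Fintype F] (C : Orth.Space Q B) (h2 : (2 : F) = 0) (ht : 2 ≤ t)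
    (hn : 13 ≤ Fintype.card ι) (hd : d ≤ 4) {c : F} (hc : c ≠ 0) {A : Matrix (Fin d) (Fin d) F}
    (hdiag : ∀ i, A i i = 0) (hsym : ∀ i j, A i j = A j i) (hG : gO e P Q = c • pureTens fun _ : Fin t => A)
    (hpure : ∀ u : Fin t → Fin d → F, Q (P.val *ᵥ (pureVec u ∘ e)) = 0) :
    ∃ K : Subgroup (GL ι F), tensorWreathSubgroup d t e P ⊓ omegaGL Q < K ∧ K < omegaGL Q := by
  classical
  have hcard : Fintype.card ι = d ^ t := by
    rw [Fintype.card_congr e, Fintype.card_fun, Fintype.card_fin, Fintype.card_fin]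
  have hAu : IsUnit A.det := by
    refine isUnit_iff_ne_zero.2 fun h0 => ?_
    obtain ⟨v, hv, hAv⟩ := Matrix.exists_mulVec_eq_zero_iff.2 h0
    have hu := (gO_isUnit (e := e) (P := P) C).ne_zero
    refine hu (Matrix.exists_mulVec_eq_zero_iff.1 ⟨pureVec fun _ => v, fun h => ?_, ?_⟩)
    · obtain ⟨i, hi⟩ := Function.ne_iff.1 hv
      have h' := congrFun h fun _ => i
      simp only [pureVec, Pi.zero_apply, Finset.prod_const] at h'
      exact hi (eq_zero_of_pow_eq_zero h')
    · rw [hG, Matrix.smul_mulVec, pureTens_mulVec, hAv]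
      funext x
      rw [Pi.smul_apply, Pi.zero_apply, smul_eq_mul]
      exact mul_eq_zero_of_right _ (Finset.prod_eq_zero (Finset.mem_univ ⟨0, by omega⟩) rfl)
  interval_cases d
  · rw [zero_pow (by omega)] at hcard; omega
  · rw [one_pow] at hcard; omega
  · have ht3 : 3 ≤ t := by
      by_contra hlt
      obtain rfl : t = 2 := by omega
      omega
    have hA : A = A 0 1 • (!![0, 1; 1, 0] : Matrix (Fin 2) (Fin 2) F) := by
      ext i j; fin_cases i <;> fin_cases j <;> simp [hdiag]
      exact hsym 1 0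
    generalize A 0 1 = a at hA
    subst hA
    refine spin_not_max C h2 ht (by omega) hc (A := a • !![0, 1; 1, 0]) ?_ (fun u => ?_) hG hpure
      (data_two h2) (Or.inl ht3) (α := 0) (β := 1) (by decide) ?_
    · intro h0; rw [h0, Matrix.det_zero] at hAu; exact not_isUnit_zero hAu
    · simp [Matrix.mulVec, dotProduct, Fin.sum_univ_two]
      linear_combination (a * u 0 * u 1) * h2
    · funext i; fin_cases i <;> simp
  · exfalso
    rw [Matrix.det_fin_three, hdiag, hdiag, hdiag, hsym 1 0, hsym 2 0, hsym 2 1] at hAu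
    refine hAu.ne_zero ?_
    linear_combination (A 0 1 * A 1 2 * A 0 2) * h2
  · let σ : Fin 2 ⊕ Fin 2 ≃ Fin 4 := finSumFinEquiv
    have halt : ∀ u : Fin 4 → F, u ⬝ᵥ A *ᵥ u = 0 := fun u => by
      simp [Matrix.mulVec, dotProduct, Fin.sum_univ_four, hdiag, hsym 1 0, hsym 2 0, hsym 3 0, hsym 2 1, hsym 3 1,
        hsym 3 2]
      linear_combination (u 0 * (A 0 1 * u 1 + A 0 2 * u 2 + A 0 3 * u 3) + u 1 * (A 1 2 * u 2 + A 1 3 * u 3) +
        u 2 * A 2 3 * u 3) * h2
    obtain ⟨T0, hT0, hT⟩ := Cfsg.Agent.Lib.Linear.PrimeClasses.exists_congr_sympJ (A.submatrix σ σ) (fun v => by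
        rw [Matrix.submatrix_mulVec_equiv, ← comp_equiv_symm_dotProduct]
        exact halt _) (by
        rw [Matrix.isUnit_iff_isUnit_det, Matrix.det_submatrix_equiv_self]; exact hAu)
    let T : GL (Fin 4) F := Matrix.GeneralLinearGroup.mk'' (T0.submatrix σ.symm σ.symm)
      (by rw [Matrix.det_submatrix_equiv_self]; exact (Matrix.isUnit_iff_isUnit_det _).1 hT0)
    have hTA : T.valᵀ * A * T.val = altFour F := by
      show (T0.submatrix σ.symm σ.symm)ᵀ * A * T0.submatrix σ.symm σ.symm = _
      rw [show A = (A.submatrix σ σ).submatrix σ.symm σ.symm by simp, Matrix.transpose_submatrix,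
        Matrix.submatrix_mul_equiv, Matrix.submatrix_mul_equiv, hT]
      have h1 : (-1 : F) = 1 := by linear_combination h2 * (-1 : F)
      ext i j
      fin_cases i <;> fin_cases j <;> simp [σ, altFour, Matrix.J, finSumFinEquiv, Fin.addCases, h1]
    let x : GL (Fin t → Fin 4) F := ⟨pureTens fun _ => T.val, pureTens fun _ => (T⁻¹).val,
      by rw [pureTens_mul]; simp only [Units.mul_inv, pureTens_one],
      by rw [pureTens_mul]; simp only [Units.inv_mul, pureTens_one]⟩
    have hx : x ∈ tensorWreathStandard 4 t F := Subgroup.subset_closure (Or.inl ⟨fun _ => T, fun p q => rfl⟩)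
    have hG' : gO e (P * glReindex e.symm x) Q = c • pureTens fun _ : Fin t => altFour F := by
      rw [gO_change (e := e) (P := P) (Q := Q) x (P * glReindex e.symm x) rfl, hG]
      show (pureTens fun _ : Fin t => T.val)ᵀ * (c • pureTens fun _ => A) * pureTens (fun _ => T.val) = _
      rw [pureTens_transpose, Matrix.mul_smul, Matrix.smul_mul, pureTens_mul, pureTens_mul]
      simp only [hTA]
    obtain ⟨K, h1, h3⟩ := spin_not_max C h2 ht (by omega) hc (A := altFour F)
      (fun h0 => by have := congrFun (congrFun h0 0) 2; simp [altFour] at this)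
      (altFour_alt h2) hG' (fun u => by
        have hx' : (glReindex e.symm x).val *ᵥ (pureVec u ∘ e) = pureVec (fun i => T.val *ᵥ u i) ∘ e := by
          show (x.val.submatrix e e) *ᵥ (pureVec u ∘ e) = _
          rw [Matrix.submatrix_mulVec_equiv]
          simp only [Function.comp_assoc, Equiv.self_comp_symm, Function.comp_id]
          show ((pureTens fun _ : Fin t => T.val) *ᵥ pureVec u) ∘ e = _
          rw [pureTens_mulVec]
        rw [Units.val_mul, ← Matrix.mulVec_mulVec, hx']
        exact hpure _)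
      (data_four h2) (Or.inr fun u => by
        rw [Matrix.mulVec_mulVec]; exact (data_four h2).memX.1 u) (α := 0) (β := 1) (by decide)
      (by funext i; fin_cases i <;> simp [Matrix.add_mulVec, Matrix.single_apply])
    exact ⟨K, lt_of_le_of_lt (inf_le_inf_right _ (wreath_change hx)) h1, h3⟩

end Cfsg.Lib.Linear.Spin
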