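import Cfsg.Agent.Lib.Linear.SubfieldInvol
import Cfsg.Agent.Lib.Linear.UnitaryGen
import Cfsg.Agent.Lib.Dickson.TwoTransvections
import Mathlib.LinearAlgebra.Matrix.SchurComplement

/-!
# Subfield groups of special unitary groups

A skew-Hermitian form `f` (linear in the first variable) whose Gram matrix has entries in a
subfield `F₀`. When `F₀` has prime index and the rational vectors have enough isotropic ones, the
rational part of the special isometry group is maximal in it.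
-/

set_option autoImplicit false
set_option linter.unusedSectionVars false

namespace Cfsg.Lib.Linear.SubU

open scoped Matrix
open Cfsg.Lib.Linear.Rat0

variable {ι : Type} [Fintype ι] [DecidableEq ι] {F : Type*} [Field F] (σ : F →+* F)
  (F₀ : Subfield F) (J : Matrix ι ι F₀)

/-- The covector of a vector. -/
def cov (v : ι → F) : ι → F := J.map F₀.subtype *ᵥ fun i => σ (v i)

/-- The form of `J`. -/
def frm (u v : ι → F) : F := u ⬝ᵥ cov σ F₀ J v

/-- The special isometry group of the form. -/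
def spIso : Subgroup (GL ι F) :=
  Cfsg.preserving (Cfsg.glToMat ι F) (frm σ F₀ J) ⊓ Cfsg.Geo.specialLinear ι F

/-- The rational part of the special isometry group. -/
def ratIso : Subgroup (GL ι F) := Cfsg.Geo.subfieldSubgroup F₀ 1 ⊓ spIso σ F₀ J

/-- The rank one map `v ↦ f(v, q) p`. -/
def emat (p q : ι → F) : Matrix ι ι F := Matrix.vecMulVec p (cov σ F₀ J q)

/-- The root element with centre `q`. -/
def rootMat (p q : ι → F) (l : F) : Matrix ι ι F :=
  1 + (emat σ F₀ J p q + emat σ F₀ J q p) + l • emat σ F₀ J q q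

/-- A rational vector is isotropic. -/
def IsoR (x : ι → F₀) : Prop := frm σ F₀ J (rv F₀ x) (rv F₀ x) = 0

/-- Two rational vectors are perpendicular. -/
def PerpR (x y : ι → F₀) : Prop := frm σ F₀ J (rv F₀ x) (rv F₀ y) = 0

/-- The standing hypotheses on the rational structure. -/
structure SubHyp : Prop where
  inv : ∀ x, σ (σ x) = x
  ne : σ ≠ RingHom.id F
  mem : ∀ x ∈ F₀, σ x ∈ F₀
  det : J.det ≠ 0
  skew : ∀ u v, frm σ F₀ J v u = -σ (frm σ F₀ J u v)
  htr : ∀ x : ι → F₀, ∃ l : F₀, (l : F) - σ l = frm σ F₀ J (rv F₀ x) (rv F₀ x)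
  span1 : ∀ x a : ι → F₀, PerpR σ F₀ J x a →
    x ∈ AddSubgroup.closure {w | IsoR σ F₀ J w ∧ PerpR σ F₀ J w a}
  span2 : 6 ≤ Fintype.card ι → ∀ x a b : ι → F₀, PerpR σ F₀ J x a → PerpR σ F₀ J x b →
    x ∈ AddSubgroup.closure {w | IsoR σ F₀ J w ∧ PerpR σ F₀ J w a ∧ PerpR σ F₀ J w b}
  iso2 : ∀ c w : ι → F₀, c ≠ 0 → (∀ t : F₀, w ≠ t • c) →
    ∃ s t : F₀, s • c + t • w ≠ 0 ∧ IsoR σ F₀ J (s • c + t • w)
  card : 4 ≤ Fintype.card ι

variable {σ F₀ J}

theorem mem_spIso {g : GL ι F} : g ∈ spIso σ F₀ J ↔ (∀ u v,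
    frm σ F₀ J ((g : Matrix ι ι F) *ᵥ u) ((g : Matrix ι ι F) *ᵥ v) = frm σ F₀ J u v) ∧
    (g : Matrix ι ι F).det = 1 := by
  rw [spIso, Subgroup.mem_inf]
  exact and_congr Iff.rfl (Units.ext_iff (α := F))

theorem cov_add (x y : ι → F) : cov σ F₀ J (x + y) = cov σ F₀ J x + cov σ F₀ J y := by
  rw [cov, cov, cov, ← Matrix.mulVec_add]
  exact congrArg _ (funext fun i => map_add σ _ _)

theorem cov_smul (c : F) (x : ι → F) : cov σ F₀ J (c • x) = σ c • cov σ F₀ J x := by
  rw [cov, cov, ← Matrix.mulVec_smul]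
  exact congrArg _ (funext fun i => map_mul σ _ _)

theorem cov_zero : cov σ F₀ J (0 : ι → F) = 0 := by
  rw [← zero_smul F (0 : ι → F), cov_smul, map_zero, zero_smul, zero_smul]

theorem frm_add_left (x y z : ι → F) :
    frm σ F₀ J (x + y) z = frm σ F₀ J x z + frm σ F₀ J y z := add_dotProduct _ _ _
theorem frm_sub_left (x y z : ι → F) :
    frm σ F₀ J (x - y) z = frm σ F₀ J x z - frm σ F₀ J y z := sub_dotProduct _ _ _
theorem frm_neg_left (x z : ι → F) : frm σ F₀ J (-x) z = -frm σ F₀ J x z := neg_dotProduct _ _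
theorem frm_add_right (x y z : ι → F) :
    frm σ F₀ J z (x + y) = frm σ F₀ J z x + frm σ F₀ J z y := by
  rw [frm, cov_add, dotProduct_add]; rfl
theorem frm_smul_left (c : F) (x z : ι → F) : frm σ F₀ J (c • x) z = c * frm σ F₀ J x z :=
  smul_dotProduct _ _ _
theorem frm_smul_right (c : F) (x z : ι → F) : frm σ F₀ J z (c • x) = σ c * frm σ F₀ J z x := by
  rw [frm, cov_smul, dotProduct_smul]; rfl
theorem frm_neg_right (x z : ι → F) : frm σ F₀ J z (-x) = -frm σ F₀ J z x := by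
  rw [← neg_one_smul F x, frm_smul_right, map_neg, map_one, neg_one_mul]
theorem frm_sub_right (x y z : ι → F) :
    frm σ F₀ J z (x - y) = frm σ F₀ J z x - frm σ F₀ J z y := by
  rw [sub_eq_add_neg, frm_add_right, frm_neg_right, sub_eq_add_neg]
theorem frm_zero_left (z : ι → F) : frm σ F₀ J 0 z = 0 := zero_dotProduct _
theorem frm_zero_right (z : ι → F) : frm σ F₀ J z 0 = 0 := by
  rw [frm, cov_zero, dotProduct_zero]

theorem emat_mul (p q r s : ι → F) :
    emat σ F₀ J p q * emat σ F₀ J r s = frm σ F₀ J r q • emat σ F₀ J p s := by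
  rw [emat, emat, Matrix.vecMulVec_mul_vecMulVec, Matrix.vecMulVec_smul, dotProduct_comm]
  rfl

theorem emat_mulVec (p q v : ι → F) : emat σ F₀ J p q *ᵥ v = frm σ F₀ J v q • p := by
  rw [emat, Matrix.vecMulVec_mulVec, dotProduct_comm]
  funext i
  simp [frm, mul_comm]

theorem emat_add_left (p p' q : ι → F) :
    emat σ F₀ J (p + p') q = emat σ F₀ J p q + emat σ F₀ J p' q := Matrix.add_vecMulVec _ _ _
theorem emat_add_right (p q q' : ι → F) :
    emat σ F₀ J p (q + q') = emat σ F₀ J p q + emat σ F₀ J p q' := by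
  rw [emat, cov_add, Matrix.vecMulVec_add]; rfl
theorem emat_smul_left (c : F) (p q : ι → F) : emat σ F₀ J (c • p) q = c • emat σ F₀ J p q :=
  Matrix.smul_vecMulVec _ _ _
theorem emat_smul_right (c : F) (p q : ι → F) : emat σ F₀ J p (c • q) = σ c • emat σ F₀ J p q := by
  rw [emat, cov_smul, Matrix.vecMulVec_smul]; rfl
theorem emat_zero_left (q : ι → F) : emat σ F₀ J 0 q = 0 := Matrix.zero_vecMulVec _
theorem emat_zero_right (q : ι → F) : emat σ F₀ J q 0 = 0 := by
  rw [emat, cov_zero, Matrix.vecMulVec_zero]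

theorem root_mulVec (p q v : ι → F) (l : F) : rootMat σ F₀ J p q l *ᵥ v =
    v + (frm σ F₀ J v q • p + frm σ F₀ J v p • q) + (l * frm σ F₀ J v q) • q := by
  rw [rootMat, Matrix.add_mulVec, Matrix.add_mulVec, Matrix.add_mulVec, Matrix.one_mulVec,
    Matrix.smul_mulVec, emat_mulVec, emat_mulVec, emat_mulVec, smul_smul]

theorem root_zero (q : ι → F) : rootMat σ F₀ J 0 q 0 = 1 := by
  simp [rootMat, emat_zero_left, emat_zero_right]

theorem frm_perp (H : SubHyp σ F₀ J) {u v : ι → F} (h : frm σ F₀ J u v = 0) :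
    frm σ F₀ J v u = 0 := by
  rw [H.skew, h, map_zero, neg_zero]

theorem root_mul (H : SubHyp σ F₀ J) {p p' q : ι → F} (hq : frm σ F₀ J q q = 0)
    (h : frm σ F₀ J p q = 0) (h' : frm σ F₀ J p' q = 0) (l l' : F) :
    rootMat σ F₀ J p q l * rootMat σ F₀ J p' q l' =
      rootMat σ F₀ J (p + p') q (l + l' + frm σ F₀ J p' p) := by
  simp only [rootMat, add_mul, mul_add, one_mul, mul_one, smul_mul_assoc, mul_smul_comm, emat_mul,
    h', frm_perp H h, hq, zero_smul, smul_zero, add_zero, zero_add, emat_add_left, emat_add_right,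
    add_smul]
  abel

theorem root_mul_inv (H : SubHyp σ F₀ J) {p q : ι → F} (hq : frm σ F₀ J q q = 0)
    (h : frm σ F₀ J p q = 0) (l : F) :
    rootMat σ F₀ J p q l * rootMat σ F₀ J (-p) q (-l + frm σ F₀ J p p) = 1 := by
  rw [root_mul H hq h (by rw [frm_neg_left, h, neg_zero]), add_neg_cancel, frm_neg_left,
    show l + (-l + frm σ F₀ J p p) + -frm σ F₀ J p p = 0 by ring, root_zero]

/-- The root element as a unit. -/
def rootU (H : SubHyp σ F₀ J) (p q : ι → F) (l : F) (h : frm σ F₀ J p q = 0)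
    (hq : frm σ F₀ J q q = 0) : GL ι F :=
  ⟨rootMat σ F₀ J p q l, rootMat σ F₀ J (-p) q (-l + frm σ F₀ J p p), root_mul_inv H hq h l, by
    have h2 := root_mul_inv H hq (p := -p)
      (by rw [frm_neg_left, h, neg_zero]) (-l + frm σ F₀ J p p)
    rwa [neg_neg, frm_neg_left, frm_neg_right, neg_neg,
      show -(-l + frm σ F₀ J p p) + frm σ F₀ J p p = l by ring] at h2⟩

theorem coe_rootU (H : SubHyp σ F₀ J) (p q : ι → F) (l : F) (h : frm σ F₀ J p q = 0)
    (hq : frm σ F₀ J q q = 0) :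
    (rootU H p q l h hq : Matrix ι ι F) = rootMat σ F₀ J p q l := rfl

theorem det_root (H : SubHyp σ F₀ J) {p q : ι → F} (hq : frm σ F₀ J q q = 0)
    (h : frm σ F₀ J p q = 0) (l : F) : (rootMat σ F₀ J p q l).det = 1 := by
  let U : Matrix ι (Fin 2) F := Matrix.of fun i j => ![p i, q i] j
  let V : Matrix (Fin 2) ι F := Matrix.of ![cov σ F₀ J q, cov σ F₀ J p + l • cov σ F₀ J q]
  have e : rootMat σ F₀ J p q l = 1 + U * V := by
    ext i j
    simp [rootMat, emat, U, V, Matrix.vecMulVec_apply, Matrix.mul_apply, Fin.sum_univ_two]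
    ring
  have hrow : ∀ v w : ι → F, ∑ i, cov σ F₀ J v i * w i = frm σ F₀ J w v := fun v w => by
    rw [frm, dotProduct_comm]; rfl
  have e00 : (V * U) 0 0 = 0 := (hrow q p).trans h
  have e01 : (V * U) 0 1 = 0 := (hrow q q).trans hq
  have e11 : (V * U) 1 1 = 0 := by
    simp only [Matrix.mul_apply, U, V, Matrix.of_apply, Matrix.cons_val_one, Matrix.cons_val_zero,
      Pi.add_apply, Pi.smul_apply, smul_eq_mul, add_mul, mul_assoc, Finset.sum_add_distrib,
      ← Finset.mul_sum, hrow, frm_perp H h, hq, mul_zero, add_zero]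
  rw [e, Matrix.det_one_add_mul_comm, Matrix.det_fin_two]
  simp [e00, e01, e11]

theorem rootU_mem (H : SubHyp σ F₀ J) (p q : ι → F) (l : F) (h : frm σ F₀ J p q = 0)
    (hq : frm σ F₀ J q q = 0) (hl : l - σ l = frm σ F₀ J p p) :
    rootU H p q l h hq ∈ spIso σ F₀ J := by
  refine mem_spIso.mpr ⟨fun u v => ?_, det_root H hq h l⟩
  simp only [coe_rootU, root_mulVec, frm_add_left, frm_add_right, frm_smul_left, frm_smul_right,
    map_mul, h, frm_perp H h, hq, H.skew v p, H.skew v q]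
  linear_combination -(frm σ F₀ J u q * σ (frm σ F₀ J v q)) * hl

variable {L : Subgroup (GL ι F)}

/-- The root element lies in `L`. -/
def Root (σ : F →+* F) (F₀ : Subfield F) (J : Matrix ι ι F₀) (L : Subgroup (GL ι F))
    (p q : ι → F) (l : F) : Prop :=
  frm σ F₀ J p q = 0 ∧ frm σ F₀ J q q = 0 ∧ l - σ l = frm σ F₀ J p p ∧
    ∃ g ∈ L, (g : Matrix ι ι F) = rootMat σ F₀ J p q l

local notation "M[" L ", " p ", " q ", " l "]" => Root σ F₀ J L p q l

theorem Root.mul (H : SubHyp σ F₀ J) {p p' q : ι → F} {l l' : F} (h : M[L, p, q, l])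
    (h' : M[L, p', q, l']) : M[L, p + p', q, l + l' + frm σ F₀ J p' p] := by
  obtain ⟨h, hq, hl, g, hg, hge⟩ := h
  obtain ⟨h', -, hl', g', hg', hge'⟩ := h'
  refine ⟨by rw [frm_add_left, h, h', add_zero], hq, ?_, g * g', L.mul_mem hg hg',
    by rw [Units.val_mul, hge, hge', root_mul H hq h h']⟩
  simp only [frm_add_left, frm_add_right, map_add, H.skew p' p]
  linear_combination hl + hl'

theorem Root.inv' (H : SubHyp σ F₀ J) {p q : ι → F} {l : F} (h : M[L, p, q, l]) :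
    M[L, -p, q, -l + frm σ F₀ J p p] := by
  obtain ⟨h, hq, hl, g, hg, hge⟩ := h
  refine ⟨by rw [frm_neg_left, h, neg_zero], hq, ?_, g⁻¹, L.inv_mem hg, ?_⟩
  · rw [frm_neg_left, frm_neg_right, neg_neg, map_add, map_neg]
    have hs := H.skew p p
    linear_combination -hl - hs
  · rw [show g = rootU H p q l h hq from Units.ext hge]
    rfl

theorem root_one_zero {q : ι → F} (hq : frm σ F₀ J q q = 0) : M[L, 0, q, 0] :=
  ⟨frm_zero_left _, hq, by rw [map_zero, sub_zero, frm_zero_left], 1, L.one_mem,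
    by rw [root_zero, Units.val_one]⟩

theorem root_zero_center {p : ι → F} (hp : frm σ F₀ J p p = 0) : M[L, p, 0, 0] :=
  ⟨frm_zero_right _, frm_zero_left _, by rw [map_zero, sub_zero, hp], 1, L.one_mem, by
    rw [rootMat, emat_zero_left, emat_zero_right]; simp⟩

theorem Root.smul (H : SubHyp σ F₀ J) {p q : ι → F} {s l : F} (h : M[L, p, s • q, l])
    (hs : s ≠ 0) : M[L, σ s • p, q, l * (s * σ s)] := by
  obtain ⟨h, hq, hl, g, hg, hge⟩ := h
  have hs' : σ s ≠ 0 := by simpa using hs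
  rw [frm_smul_right, mul_eq_zero] at h
  rw [frm_smul_left, frm_smul_right, mul_eq_zero, mul_eq_zero] at hq
  refine ⟨by rw [frm_smul_left, h.resolve_left hs', mul_zero],
    (hq.resolve_left hs).resolve_left hs', ?_, g, hg, ?_⟩
  · rw [frm_smul_left, frm_smul_right, map_mul, map_mul, H.inv]
    linear_combination (s * σ s) * hl
  · rw [hge, rootMat, rootMat]
    simp only [emat_smul_left, emat_smul_right, smul_smul, H.inv, mul_comm s (σ s)]

/-- Scale a long root element. -/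
theorem Root.long_smul (H : SubHyp σ F₀ J) {q : ι → F} {s l : F}
    (h : M[L, 0, q, l * (s * σ s)]) (hs : s ≠ 0) : M[L, 0, s • q, l] := by
  have h' : M[L, 0, s⁻¹ • (s • q), l * (s * σ s)] := by rwa [inv_smul_smul₀ hs]
  have := h'.smul H (inv_ne_zero hs)
  rwa [smul_zero, map_inv₀, ← mul_inv, mul_inv_cancel_right₀
    (mul_ne_zero hs (by simpa using hs))] at this

theorem Root.flip (H : SubHyp σ F₀ J) {x y : ι → F} {s : F} (hx : frm σ F₀ J x x = 0)
    (h : M[L, s • x, y, 0]) : M[L, σ s • y, x, 0] := by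
  rcases eq_or_ne s 0 with rfl | hs
  · rw [map_zero, zero_smul]
    exact root_one_zero hx
  obtain ⟨h, hy, -, g, hg, hge⟩ := h
  rw [frm_smul_left, mul_eq_zero] at h
  refine ⟨by rw [frm_smul_left, frm_perp H (h.resolve_left hs), mul_zero], hx, ?_, g, hg, ?_⟩
  · rw [map_zero, sub_zero, frm_smul_left, frm_smul_right, hy, mul_zero, mul_zero]
  · rw [hge, rootMat, rootMat]
    simp only [emat_smul_left, emat_smul_right, zero_smul, add_zero, H.inv]
    rw [add_comm (s • _)]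

theorem cov_conj {g : GL ι F} (hg : g ∈ spIso σ F₀ J) (v : ι → F) :
    cov σ F₀ J ((g : Matrix ι ι F) *ᵥ v) =
      cov σ F₀ J v ᵥ* ((g⁻¹ : GL ι F) : Matrix ι ι F) := by
  refine dotProduct_eq _ _ fun w => ?_
  rw [← Matrix.dotProduct_mulVec, dotProduct_comm, dotProduct_comm (cov σ F₀ J v)]
  have := (mem_spIso.mp hg).1 (((g⁻¹ : GL ι F) : Matrix ι ι F) *ᵥ w) v
  rw [Matrix.mulVec_mulVec, ← Units.val_mul, mul_inv_cancel, Units.val_one,
    Matrix.one_mulVec] at this
  exact this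

theorem Root.conj (hLG : L ≤ spIso σ F₀ J) {g : GL ι F} (hg : g ∈ L) {p q : ι → F} {l : F}
    (h : M[L, p, q, l]) :
    M[L, (g : Matrix ι ι F) *ᵥ p, (g : Matrix ι ι F) *ᵥ q, l] := by
  obtain ⟨h, hq, hl, x, hx, hxe⟩ := h
  have hf := (mem_spIso.mp (hLG hg)).1
  refine ⟨by rw [hf, h], by rw [hf, hq], by rw [hf, hl], g * x * g⁻¹,
    L.mul_mem (L.mul_mem hg hx) (L.inv_mem hg), ?_⟩
  rw [Units.val_mul, Units.val_mul, hxe, rootMat, rootMat, emat, emat, emat, emat, emat, emat]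
  simp only [cov_conj (hLG hg), mul_add, add_mul, mul_one, mul_smul_comm, smul_mul_assoc,
    Matrix.mul_vecMulVec, Matrix.vecMulVec_mul]
  rw [← Units.val_mul, mul_inv_cancel, Units.val_one]

/-- Conjugation by a root element. -/
theorem Root.conj' (hLG : L ≤ spIso σ F₀ J) {p q u v : ι → F} {l m : F}
    (hg : M[L, p, q, l]) (h : M[L, u, v, m]) :
    M[L, u + (frm σ F₀ J u q • p + frm σ F₀ J u p • q) + (l * frm σ F₀ J u q) • q,
      v + (frm σ F₀ J v q • p + frm σ F₀ J v p • q) + (l * frm σ F₀ J v q) • q, m] := by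
  obtain ⟨-, -, -, g, hg, hge⟩ := hg
  have := Root.conj hLG hg h
  rwa [hge, root_mulVec, root_mulVec] at this

/-- Two long root elements give a mixed one. -/
theorem root_of_long (H : SubHyp σ F₀ J) {u x : ι → F} {c : F} (hux : frm σ F₀ J u x = 0)
    (h1 : M[L, 0, u + x, c]) (h2 : M[L, 0, u, c]) : M[L, c • u, x, c] := by
  obtain ⟨-, hq1, hc, g, hg, hge⟩ := h1
  obtain ⟨-, hu, -, g', hg', hge'⟩ := h2.inv' H
  rw [frm_zero_left] at hc
  have hcf : σ c = c := (sub_eq_zero.mp hc).symm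
  have hxu : frm σ F₀ J x u = 0 := frm_perp H hux
  have hx : frm σ F₀ J x x = 0 := by
    simpa [frm_add_left, frm_add_right, hu, hux, hxu] using hq1
  refine ⟨by rw [frm_smul_left, hux, mul_zero], hx, by
    rw [hcf, sub_self, frm_smul_left, frm_smul_right, hu, mul_zero, mul_zero],
    g * g', L.mul_mem hg hg', ?_⟩
  rw [Units.val_mul, hge, hge']
  simp only [rootMat, neg_zero, emat_zero_left, emat_zero_right, frm_zero_left, add_zero,
    emat_smul_left, emat_smul_right, hcf, emat_add_left, emat_add_right, add_mul, mul_add, one_mul,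
    mul_one, smul_mul_assoc, mul_smul_comm, emat_mul, hu, hux, zero_smul, smul_zero, smul_add]
  module

/-! ### Rational vectors -/

theorem rv_zero : rv F₀ (0 : ι → F₀) = 0 := rfl

theorem rv_sub (x y : ι → F₀) : rv F₀ (x - y) = rv F₀ x - rv F₀ y := rfl

theorem rv_neg (x : ι → F₀) : rv F₀ (-x) = -rv F₀ x := rfl

theorem cov_rv_mem (H : SubHyp σ F₀ J) (x : ι → F₀) (i : ι) : cov σ F₀ J (rv F₀ x) i ∈ F₀ := by
  rw [cov, Matrix.mulVec, dotProduct]
  exact F₀.sum_mem fun j _ => F₀.mul_mem (J i j).2 (H.mem _ (x j).2)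

theorem frm_rv_mem (H : SubHyp σ F₀ J) (x y : ι → F₀) :
    frm σ F₀ J (rv F₀ x) (rv F₀ y) ∈ F₀ := by
  rw [frm, dotProduct]
  exact F₀.sum_mem fun j _ => F₀.mul_mem (x j).2 (cov_rv_mem H y j)

theorem exists_rv_cov (H : SubHyp σ F₀ J) (q : ι → F₀) :
    ∃ p : ι → F₀, cov σ F₀ J (rv F₀ p) = rv F₀ q := by
  refine ⟨fun i => ⟨σ ((J⁻¹ *ᵥ q) i : F), H.mem _ ((J⁻¹ *ᵥ q) i).2⟩, ?_⟩
  rw [cov]
  simp only [rv, H.inv]
  have h : J *ᵥ (J⁻¹ *ᵥ q) = q := by
    rw [Matrix.mulVec_mulVec, Matrix.mul_nonsing_inv _ (isUnit_iff_ne_zero.mpr H.det),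
      Matrix.one_mulVec]
  funext i
  have := congrArg F₀.subtype (congrFun h i)
  rwa [RingHom.map_mulVec] at this

theorem exists_frm_triple (H : SubHyp σ F₀ J) {x y w : ι → F₀}
    (h : ∀ s t : F₀, x ≠ s • y + t • w) :
    ∃ p : ι → F₀, frm σ F₀ J (rv F₀ x) (rv F₀ p) = 1 ∧ PerpR σ F₀ J y p ∧
      PerpR σ F₀ J w p := by
  obtain ⟨q, h1, h2, h3⟩ := exists_dot3 h
  obtain ⟨p, hp⟩ := exists_rv_cov H q
  refine ⟨p, ?_, ?_, ?_⟩
  · rw [frm, hp, rv_dot, h1]; rfl
  · rw [PerpR, frm, hp, rv_dot, h2]; rfl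
  · rw [PerpR, frm, hp, rv_dot, h3]; rfl

theorem PerpR.symm (H : SubHyp σ F₀ J) {x y : ι → F₀} (h : PerpR σ F₀ J x y) :
    PerpR σ F₀ J y x := frm_perp H h

theorem PerpR.add_left {x y z : ι → F₀} (h : PerpR σ F₀ J x z) (h' : PerpR σ F₀ J y z) :
    PerpR σ F₀ J (x + y) z := by
  rw [PerpR, rv_add, frm_add_left, show frm σ F₀ J (rv F₀ x) (rv F₀ z) = 0 from h,
    show frm σ F₀ J (rv F₀ y) (rv F₀ z) = 0 from h', add_zero]

theorem PerpR.smul_left (c : F₀) {x z : ι → F₀} (h : PerpR σ F₀ J x z) :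
    PerpR σ F₀ J (c • x) z := by
  rw [PerpR, rv_smul, frm_smul_left, show frm σ F₀ J (rv F₀ x) (rv F₀ z) = 0 from h, mul_zero]

theorem IsoR.smul (c : F₀) {x : ι → F₀} (h : IsoR σ F₀ J x) : IsoR σ F₀ J (c • x) := by
  rw [IsoR, rv_smul, frm_smul_left, frm_smul_right,
    show frm σ F₀ J (rv F₀ x) (rv F₀ x) = 0 from h, mul_zero, mul_zero]

theorem exists_iso_pair1 (H : SubHyp σ F₀ J) {x y : ι → F₀}
    (h : ∀ s : F₀, x ≠ s • y) :
    ∃ p : ι → F₀, IsoR σ F₀ J p ∧ frm σ F₀ J (rv F₀ x) (rv F₀ p) = 1 ∧ PerpR σ F₀ J p y := by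
  obtain ⟨p₀, h1, h2, -⟩ := exists_frm_triple H (x := x) (y := y) (w := y)
    fun a b e => h (a + b) (by rw [e, add_smul])
  obtain ⟨p', hp', hy, hne⟩ : ∃ p', IsoR σ F₀ J p' ∧ PerpR σ F₀ J p' y ∧
      frm σ F₀ J (rv F₀ x) (rv F₀ p') ≠ 0 := by
    by_contra hne
    push Not at hne
    let K : AddSubgroup (ι → F₀) :=
      { carrier := {z | frm σ F₀ J (rv F₀ x) (rv F₀ z) = 0}
        add_mem' := fun {a b} ha hb => by
          simp only [Set.mem_ofPred_eq] at ha hb ⊢
          rw [rv_add, frm_add_right, ha, hb, add_zero]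
        zero_mem' := frm_zero_right _
        neg_mem' := fun {a} ha => by
          simp only [Set.mem_ofPred_eq] at ha ⊢
          rw [rv_neg, frm_neg_right, ha, neg_zero] }
    have h4 := (AddSubgroup.closure_le K).mpr (fun z hz => hne z hz.1 hz.2)
      (H.span1 p₀ y (h2.symm H))
    exact one_ne_zero (h1.symm.trans h4)
  set δ := frm σ F₀ J (rv F₀ x) (rv F₀ p')
  refine ⟨(⟨σ δ⁻¹, H.mem _ (F₀.inv_mem (frm_rv_mem H x p'))⟩ : F₀) • p', hp'.smul _, ?_,
    hy.smul_left _⟩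
  rw [rv_smul, frm_smul_right, H.inv, inv_mul_cancel₀ hne]

/-- Two perpendicular conditions. -/
theorem exists_iso_pair (H : SubHyp σ F₀ J) (h6 : 6 ≤ Fintype.card ι) {x y w : ι → F₀}
    (h : ∀ s t : F₀, x ≠ s • y + t • w) :
    ∃ p : ι → F₀, IsoR σ F₀ J p ∧ frm σ F₀ J (rv F₀ x) (rv F₀ p) = 1 ∧ PerpR σ F₀ J p y ∧
      PerpR σ F₀ J p w := by
  obtain ⟨p₀, h1, h2, h3⟩ := exists_frm_triple H h
  obtain ⟨p', hp', hy, hw, hne⟩ : ∃ p', IsoR σ F₀ J p' ∧ PerpR σ F₀ J p' y ∧ PerpR σ F₀ J p' w ∧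
      frm σ F₀ J (rv F₀ x) (rv F₀ p') ≠ 0 := by
    by_contra hne
    push Not at hne
    let K : AddSubgroup (ι → F₀) :=
      { carrier := {z | frm σ F₀ J (rv F₀ x) (rv F₀ z) = 0}
        add_mem' := fun {a b} ha hb => by
          simp only [Set.mem_ofPred_eq] at ha hb ⊢
          rw [rv_add, frm_add_right, ha, hb, add_zero]
        zero_mem' := frm_zero_right _
        neg_mem' := fun {a} ha => by
          simp only [Set.mem_ofPred_eq] at ha ⊢
          rw [rv_neg, frm_neg_right, ha, neg_zero] }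
    have h4 := (AddSubgroup.closure_le K).mpr (fun z hz => hne z hz.1 hz.2.1 hz.2.2)
      (H.span2 h6 p₀ y w (h2.symm H) (h3.symm H))
    exact one_ne_zero (h1.symm.trans h4)
  set δ := frm σ F₀ J (rv F₀ x) (rv F₀ p')
  refine ⟨(⟨σ δ⁻¹, H.mem _ (F₀.inv_mem (frm_rv_mem H x p'))⟩ : F₀) • p', hp'.smul _, ?_,
    hy.smul_left _, hw.smul_left _⟩
  rw [rv_smul, frm_smul_right, H.inv, inv_mul_cancel₀ hne]

theorem exists_fresh (H : SubHyp σ F₀ J) (h6 : 6 ≤ Fintype.card ι) (a b : ι → F₀) :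
    ∃ z : ι → F₀, IsoR σ F₀ J z ∧ PerpR σ F₀ J z a ∧ PerpR σ F₀ J z b ∧
      ∀ r₁ r₂ : F₀, z ≠ r₁ • a + r₂ • b := by
  let cv : (ι → F₀) → ι → F₀ := fun v i => ⟨cov σ F₀ J (rv F₀ v) i, cov_rv_mem H v i⟩
  let Φ : (ι → F₀) →ₗ[F₀] (Fin 2 → F₀) := Matrix.mulVecLin (Matrix.of ![cv a, cv b])
  have hp : ∀ z v : ι → F₀, cv v ⬝ᵥ z = 0 → PerpR σ F₀ J z v := fun z v h => by
    rw [PerpR, frm, show cov σ F₀ J (rv F₀ v) = rv F₀ (cv v) from rfl, rv_dot, dotProduct_comm, h]
    rfl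
  let Ψ : (Fin 2 → F₀) →ₗ[F₀] (ι → F₀) := Matrix.mulVecLin (Matrix.of ![a, b]).transpose
  have h1 := LinearMap.finrank_range_add_finrank_ker Φ
  have h2 := Submodule.finrank_le (LinearMap.range Φ)
  have h3 := LinearMap.finrank_range_le Ψ
  rw [Module.finrank_fintype_fun_eq_card] at h1
  rw [Module.finrank_fin_fun] at h2 h3
  have hnle : ¬ LinearMap.ker Φ ≤ LinearMap.range Ψ := fun hle => by
    have := Submodule.finrank_mono hle
    have := H.card
    omega
  obtain ⟨z₀, hz, hz'⟩ := SetLike.not_le_iff_exists.mp hnle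
  have hz0 := LinearMap.mem_ker.mp hz
  have hmem := H.span2 h6 z₀ a b (hp _ _ (congrFun hz0 0)) (hp _ _ (congrFun hz0 1))
  by_contra hne
  push Not at hne
  refine hz' ((AddSubgroup.closure_le (LinearMap.range Ψ).toAddSubgroup).mpr ?_ hmem)
  rintro z ⟨hi, ha, hb⟩
  obtain ⟨r₁, r₂, e⟩ := hne z hi ha hb
  refine ⟨![r₁, r₂], ?_⟩
  rw [e]
  funext i
  simp [Ψ, Fin.sum_univ_two, mul_comm]

/-- An isotropic vector in a space of dimension two. -/
theorem exists_iso_of_two (H : SubHyp σ F₀ J) (U : Submodule F₀ (ι → F₀))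
    (hU : 2 ≤ Module.finrank F₀ U) : ∃ z ∈ U, z ≠ 0 ∧ IsoR σ F₀ J z := by
  have hU0 : U ≠ ⊥ := fun h => by rw [h, finrank_bot] at hU; omega
  obtain ⟨c, hc, hc0⟩ := Submodule.exists_mem_ne_zero_of_ne_bot hU0
  obtain ⟨w, hw, hwc⟩ : ∃ w ∈ U, ∀ t : F₀, w ≠ t • c := by
    by_contra hne
    push Not at hne
    have := Submodule.finrank_mono (show U ≤ Submodule.span F₀ {c} from fun w hw => by
      obtain ⟨t, rfl⟩ := hne w hw
      exact Submodule.smul_mem _ _ (Submodule.mem_span_singleton_self c))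
    rw [finrank_span_singleton hc0] at this
    omega
  obtain ⟨s, t, h1, h2⟩ := H.iso2 c w hc0 hwc
  exact ⟨_, U.add_mem (U.smul_mem s hc) (U.smul_mem t hw), h1, h2⟩

/-- A non-zero isotropic vector perpendicular to two vectors. -/
theorem exists_iso_perp (H : SubHyp σ F₀ J) (a b : ι → F₀) :
    ∃ z : ι → F₀, z ≠ 0 ∧ IsoR σ F₀ J z ∧ PerpR σ F₀ J z a ∧ PerpR σ F₀ J z b := by
  let cv : (ι → F₀) → ι → F₀ := fun v i => ⟨cov σ F₀ J (rv F₀ v) i, cov_rv_mem H v i⟩
  let Φ : (ι → F₀) →ₗ[F₀] (Fin 2 → F₀) := Matrix.mulVecLin (Matrix.of ![cv a, cv b])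
  have hp : ∀ z v : ι → F₀, cv v ⬝ᵥ z = 0 → PerpR σ F₀ J z v := fun z v h => by
    rw [PerpR, frm, show cov σ F₀ J (rv F₀ v) = rv F₀ (cv v) from rfl, rv_dot, dotProduct_comm, h]
    rfl
  have h1 := LinearMap.finrank_range_add_finrank_ker Φ
  have h2 := Submodule.finrank_le (LinearMap.range Φ)
  rw [Module.finrank_fintype_fun_eq_card] at h1
  rw [Module.finrank_fin_fun] at h2
  obtain ⟨z, hzΦ, hz0, hzi⟩ := exists_iso_of_two H (LinearMap.ker Φ) (by have := H.card; omega)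
  have hz := LinearMap.mem_ker.mp hzΦ
  exact ⟨z, hz0, hzi, hp _ _ (congrFun hz 0), hp _ _ (congrFun hz 1)⟩

/-- An isotropic vector perpendicular to a given one, off its line. -/
theorem exists_off1 (H : SubHyp σ F₀ J) (a : ι → F₀) :
    ∃ z : ι → F₀, IsoR σ F₀ J z ∧ PerpR σ F₀ J z a ∧ ∀ t : F₀, z ≠ t • a := by
  let cv : (ι → F₀) → ι → F₀ := fun v i => ⟨cov σ F₀ J (rv F₀ v) i, cov_rv_mem H v i⟩
  let Φ : (ι → F₀) →ₗ[F₀] (Fin 1 → F₀) := Matrix.mulVecLin (Matrix.of ![cv a])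
  have hp : ∀ z v : ι → F₀, cv v ⬝ᵥ z = 0 → PerpR σ F₀ J z v := fun z v h => by
    rw [PerpR, frm, show cov σ F₀ J (rv F₀ v) = rv F₀ (cv v) from rfl, rv_dot, dotProduct_comm, h]
    rfl
  have h1 := LinearMap.finrank_range_add_finrank_ker Φ
  have h2 := Submodule.finrank_le (LinearMap.range Φ)
  rw [Module.finrank_fintype_fun_eq_card] at h1
  rw [Module.finrank_fin_fun] at h2
  by_contra hne
  push Not at hne
  have hle : LinearMap.ker Φ ≤ Submodule.span F₀ {a} := fun z hz =>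
    (AddSubgroup.closure_le (Submodule.span F₀ {a}).toAddSubgroup).mpr (fun w hw => by
      obtain ⟨t, ht⟩ := hne w hw.1 hw.2
      exact ht ▸ Submodule.smul_mem _ t (Submodule.mem_span_singleton_self a))
      (H.span1 z a (hp _ _ (congrFun (LinearMap.mem_ker.mp hz) 0)))
  have h3 := Submodule.finrank_mono hle
  have h4 : Module.finrank F₀ (Submodule.span F₀ {a}) ≤ 1 := by
    by_cases h0 : a = 0
    · rw [h0, Submodule.span_zero_singleton, finrank_bot]; omega
    · rw [finrank_span_singleton h0]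
  have := H.card
  omega

/-- An isotropic vector perpendicular to three vectors, off a given line. -/
theorem exists_fresh_three (H : SubHyp σ F₀ J) (h6 : 6 ≤ Fintype.card ι) (a b c y : ι → F₀) :
    ∃ z : ι → F₀, IsoR σ F₀ J z ∧ PerpR σ F₀ J z a ∧ PerpR σ F₀ J z b ∧ PerpR σ F₀ J z c ∧
      ∀ t : F₀, z ≠ t • y := by
  let cv : (ι → F₀) → ι → F₀ := fun v i => ⟨cov σ F₀ J (rv F₀ v) i, cov_rv_mem H v i⟩
  let Φ : (ι → F₀) →ₗ[F₀] (Fin 3 → F₀) := Matrix.mulVecLin (Matrix.of ![cv a, cv b, cv c])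
  have hp : ∀ z v : ι → F₀, cv v ⬝ᵥ z = 0 → PerpR σ F₀ J z v := fun z v h => by
    rw [PerpR, frm, show cov σ F₀ J (rv F₀ v) = rv F₀ (cv v) from rfl, rv_dot, dotProduct_comm, h]
    rfl
  have h1 := LinearMap.finrank_range_add_finrank_ker Φ
  have h2 := Submodule.finrank_le (LinearMap.range Φ)
  rw [Module.finrank_fintype_fun_eq_card] at h1
  rw [Module.finrank_fin_fun] at h2
  obtain ⟨C, hC⟩ := Submodule.exists_isCompl (Submodule.span F₀ {y})
  have h3 := Submodule.finrank_add_eq_of_isCompl hC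
  have h4 := Submodule.finrank_sup_add_finrank_inf_eq (LinearMap.ker Φ) C
  have h5 := Submodule.finrank_le (LinearMap.ker Φ ⊔ C)
  have h6 : Module.finrank F₀ (Submodule.span F₀ {y}) ≤ 1 := by
    by_cases h0 : y = 0
    · rw [h0, Submodule.span_zero_singleton, finrank_bot]; omega
    · rw [finrank_span_singleton h0]
  rw [Module.finrank_fintype_fun_eq_card] at h3 h5
  obtain ⟨z, ⟨hzΦ, hzC⟩, hz0, hzi⟩ := exists_iso_of_two H (LinearMap.ker Φ ⊓ C)
    (by have := H.card; omega)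
  have hz := LinearMap.mem_ker.mp hzΦ
  refine ⟨z, hzi, hp _ _ (congrFun hz 0), hp _ _ (congrFun hz 1), hp _ _ (congrFun hz 2),
    fun t e => hz0 ?_⟩
  exact Submodule.disjoint_def.mp hC.disjoint z
    (e ▸ Submodule.smul_mem _ t (Submodule.mem_span_singleton_self y)) hzC

/-- A non-zero isotropic vector perpendicular to four vectors. -/
theorem exists_iso_four (H : SubHyp σ F₀ J) (h6 : 6 ≤ Fintype.card ι) (a b c d : ι → F₀) :
    ∃ z : ι → F₀, z ≠ 0 ∧ IsoR σ F₀ J z ∧ PerpR σ F₀ J z a ∧ PerpR σ F₀ J z b ∧ PerpR σ F₀ J z c ∧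
      PerpR σ F₀ J z d := by
  let cv : (ι → F₀) → ι → F₀ := fun v i => ⟨cov σ F₀ J (rv F₀ v) i, cov_rv_mem H v i⟩
  let Φ : (ι → F₀) →ₗ[F₀] (Fin 4 → F₀) := Matrix.mulVecLin (Matrix.of ![cv a, cv b, cv c, cv d])
  have hp : ∀ z v : ι → F₀, cv v ⬝ᵥ z = 0 → PerpR σ F₀ J z v := fun z v h => by
    rw [PerpR, frm, show cov σ F₀ J (rv F₀ v) = rv F₀ (cv v) from rfl, rv_dot, dotProduct_comm, h]
    rfl
  have h1 := LinearMap.finrank_range_add_finrank_ker Φ
  have h2 := Submodule.finrank_le (LinearMap.range Φ)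
  rw [Module.finrank_fintype_fun_eq_card] at h1
  rw [Module.finrank_fin_fun] at h2
  obtain ⟨z, hzΦ, hz0, hzi⟩ := exists_iso_of_two H (LinearMap.ker Φ) (by have := H.card; omega)
  have hz := LinearMap.mem_ker.mp hzΦ
  exact ⟨z, hz0, hzi, hp _ _ (congrFun hz 0), hp _ _ (congrFun hz 1), hp _ _ (congrFun hz 2),
    hp _ _ (congrFun hz 3)⟩

section Rational

variable (H : SubHyp σ F₀ J) (hN : ratIso σ F₀ J ≤ L) (hLG : L ≤ spIso σ F₀ J)

include H hN in
theorem rat (p q : ι → F₀) (l : F₀) (h : PerpR σ F₀ J p q) (hq : IsoR σ F₀ J q)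
    (hl : (l : F) - σ l = frm σ F₀ J (rv F₀ p) (rv F₀ p)) :
    M[L, rv F₀ p, rv F₀ q, (l : F)] := by
  refine ⟨h, hq, hl, rootU H _ _ _ h hq, hN (Subgroup.mem_inf.mpr
    ⟨(mem_subfieldSubgroup_one F₀ _).mpr ⟨1, one_ne_zero, fun i j => ?_⟩,
      rootU_mem H _ _ _ h hq hl⟩), rfl⟩
  have hE : ∀ x y : ι → F₀, emat σ F₀ J (rv F₀ x) (rv F₀ y) i j ∈ F₀ := fun x y => by
    rw [emat, Matrix.vecMulVec_apply]
    exact F₀.mul_mem (x i).2 (cov_rv_mem H y j)
  rw [one_mul]
  show rootMat σ F₀ J (rv F₀ p) (rv F₀ q) l i j ∈ F₀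
  rw [rootMat]
  refine F₀.add_mem (F₀.add_mem ?_ (F₀.add_mem (hE _ _) (hE _ _))) (F₀.mul_mem l.2 (hE _ _))
  rw [Matrix.one_apply]
  split_ifs
  · exact F₀.one_mem
  · exact F₀.zero_mem

include H hN in
theorem rat_short (p q : ι → F₀) (h : PerpR σ F₀ J p q) (hp : IsoR σ F₀ J p)
    (hq : IsoR σ F₀ J q) : M[L, rv F₀ p, rv F₀ q, 0] := by
  have := rat H hN p q 0 h hq (by rw [ZeroMemClass.coe_zero, map_zero, sub_zero]; exact hp.symm)
  rwa [ZeroMemClass.coe_zero] at this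

include H hN in
theorem rat_long (q : ι → F₀) (hq : IsoR σ F₀ J q) : M[L, 0, rv F₀ q, 1] := by
  have := rat H hN 0 q 1 (frm_zero_left _) hq
    (by rw [OneMemClass.coe_one, map_one, sub_self, rv_zero, frm_zero_left])
  rwa [rv_zero, OneMemClass.coe_one] at this

include H hN hLG in
theorem spread_step (h6 : 6 ≤ Fintype.card ι) {x y w : ι → F₀} {s l : F} (h : M[L, s • rv F₀ x, rv F₀ y, l])
    (hw : IsoR σ F₀ J w) (hwx : PerpR σ F₀ J w x) (hwy : PerpR σ F₀ J w y)
    (hind : ∀ a b : F₀, x ≠ a • y + b • w) : M[L, s • rv F₀ w, rv F₀ y, 0] := by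
  obtain ⟨p, hp, hxp, hpy, hpw⟩ := exists_iso_pair H h6 hind
  have h1 := Root.conj' hLG (rat_short H hN w p (hpw.symm H) hw hp) h
  have a1 : frm σ F₀ J (rv F₀ x) (rv F₀ w) = 0 := hwx.symm H
  have a2 : frm σ F₀ J (rv F₀ y) (rv F₀ p) = 0 := hpy.symm H
  have a3 : frm σ F₀ J (rv F₀ y) (rv F₀ w) = 0 := hwy.symm H
  simp only [frm_smul_left, hxp, a1, a2, a3, mul_one, mul_zero, zero_mul, zero_smul,
    add_zero] at h1
  have h2 := (h.inv' H).mul H h1
  rw [neg_add_cancel_left] at h2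
  convert h2 using 1
  simp only [frm_add_left, frm_neg_right, frm_smul_left, frm_smul_right,
    show frm σ F₀ J (rv F₀ w) (rv F₀ x) = 0 from hwx]
  ring

include H hN hLG in
theorem spread (h6 : 6 ≤ Fintype.card ι) {x y w : ι → F₀} {s l : F} (h : M[L, s • rv F₀ x, rv F₀ y, l]) (hy : y ≠ 0)
    (hxy : ∀ t : F₀, x ≠ t • y) (hw : IsoR σ F₀ J w) (hwy : PerpR σ F₀ J w y) :
    M[L, s • rv F₀ w, rv F₀ y, 0] := by
  obtain ⟨z, hz, hzx, hzy, hz'⟩ := exists_fresh H h6 x y
  have h₁ : M[L, s • rv F₀ z, rv F₀ y, 0] := spread_step H hN hLG h6 h hz hzx hzy fun a b e => by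
    rcases eq_or_ne b 0 with rfl | hb
    · exact hxy a (by rw [e, zero_smul, add_zero])
    · refine hz' b⁻¹ (-(b⁻¹ * a)) ?_
      rw [e, smul_add, smul_smul, smul_smul, inv_mul_cancel₀ hb, one_smul, neg_smul]
      abel
  have hzy' : ∀ t : F₀, z ≠ t • y := fun t e => hz' 0 t (by rw [e]; simp)
  by_cases hd : PerpR σ F₀ J w z ∧ ∀ a b : F₀, z ≠ a • y + b • w
  · exact spread_step H hN hLG h6 h₁ hw hd.1 hwy hd.2
  -- an intermediate vector perpendicular to both, off the line of `y`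
  suffices hu : ∃ u, IsoR σ F₀ J u ∧ PerpR σ F₀ J u y ∧ PerpR σ F₀ J u z ∧ PerpR σ F₀ J u w ∧
      (∀ a b : F₀, z ≠ a • y + b • u) ∧ ∀ a b : F₀, u ≠ a • y + b • w by
    obtain ⟨u, hu, huy, huz, huw, h2, h3⟩ := hu
    exact spread_step H hN hLG h6 (spread_step H hN hLG h6 h₁ hu huz huy h2) hw (huw.symm H) hwy h3
  have hswap : ∀ u : ι → F₀, (∀ a b : F₀, u ≠ a • y + b • z) → ∀ a b : F₀, z ≠ a • y + b • u := by
    intro u h' a b e
    rcases eq_or_ne b 0 with rfl | hb
    · exact hzy' a (by rw [e, zero_smul, add_zero])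
    · refine h' (-(b⁻¹ * a)) b⁻¹ ?_
      rw [e, smul_add, smul_smul, smul_smul, inv_mul_cancel₀ hb, one_smul, neg_smul]
      abel
  by_cases hzw : PerpR σ F₀ J w z
  · -- `z` is in the plane of `y` and `w`
    push Not at hd
    obtain ⟨a₀, b₀, e₀⟩ := hd hzw
    have hb₀ : b₀ ≠ 0 := fun h0 => hzy' a₀ (by rw [e₀, h0, zero_smul, add_zero])
    obtain ⟨u, hu, huy, huz, hu'⟩ := exists_fresh H h6 y z
    have huw : PerpR σ F₀ J u w := by
      have h5 : frm σ F₀ J (rv F₀ u) (rv F₀ z) = 0 := huz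
      rw [e₀, rv_add, rv_smul, rv_smul, frm_add_right, frm_smul_right, frm_smul_right,
        show frm σ F₀ J (rv F₀ u) (rv F₀ y) = 0 from huy, mul_zero, zero_add, mul_eq_zero] at h5
      exact h5.resolve_left (fun e => hb₀ (Subtype.ext (σ.injective (e.trans (map_zero σ).symm))))
    refine ⟨u, hu, huy, huz, huw, hswap u hu', fun a b e => hu' (a - b * b₀⁻¹ * a₀) (b * b₀⁻¹) ?_⟩
    rw [e, e₀, smul_add, smul_smul, smul_smul, show b * b₀⁻¹ * b₀ = b by field_simp, sub_smul]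
    abel
  · obtain ⟨u, hu, huy, huz, huw, hu'⟩ := exists_fresh_three H h6 y z w y
    refine ⟨u, hu, huy, huz, huw, hswap u fun a b e => ?_, fun a b e => ?_⟩
    · have h5 : frm σ F₀ J (rv F₀ u) (rv F₀ w) = 0 := huw
      rw [e, rv_add, rv_smul, rv_smul, frm_add_left, frm_smul_left, frm_smul_left,
        show frm σ F₀ J (rv F₀ y) (rv F₀ w) = 0 from hwy.symm H, mul_zero, zero_add,
        mul_eq_zero] at h5
      have hb : b = 0 := Subtype.ext (h5.resolve_right fun e' => hzw (frm_perp H e'))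
      exact hu' a (by rw [e, hb, zero_smul, add_zero])
    · have h5 : frm σ F₀ J (rv F₀ u) (rv F₀ z) = 0 := huz
      rw [e, rv_add, rv_smul, rv_smul, frm_add_left, frm_smul_left, frm_smul_left,
        show frm σ F₀ J (rv F₀ y) (rv F₀ z) = 0 from hzy.symm H, mul_zero, zero_add,
        mul_eq_zero] at h5
      have hb : b = 0 := Subtype.ext (h5.resolve_right hzw)
      exact hu' a (by rw [e, hb, zero_smul, add_zero])

/-- Short root elements of coefficient `s` with rational isotropic centres. -/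
def Good (σ : F →+* F) (F₀ : Subfield F) (J : Matrix ι ι F₀) (L : Subgroup (GL ι F)) (s : F) :
    Prop :=
  ∀ x y : ι → F₀, IsoR σ F₀ J x → IsoR σ F₀ J y → PerpR σ F₀ J x y →
    Root σ F₀ J L (s • rv F₀ x) (rv F₀ y) 0

/-- An irrational root element. -/
def CaseA (σ : F →+* F) (F₀ : Subfield F) (J : Matrix ι ι F₀) (L : Subgroup (GL ι F)) : Prop :=
  ∃ x y : ι → F₀, IsoR σ F₀ J y ∧ y ≠ 0 ∧ (∀ t : F₀, x ≠ t • y) ∧
    ∃ s : F, s ∉ F₀ ∧ ∃ l : F, Root σ F₀ J L (s • rv F₀ x) (rv F₀ y) l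

include H hN hLG in
theorem good_of_short (h6 : 6 ≤ Fintype.card ι) {x y : ι → F₀} (hy : IsoR σ F₀ J y) (hy0 : y ≠ 0)
    (hxy : ∀ t : F₀, x ≠ t • y) {s l : F} (h : M[L, s • rv F₀ x, rv F₀ y, l]) :
    Good σ F₀ J L s := by
  intro p q hp hq hpq
  by_cases hq0 : q = 0
  · rw [hq0, rv_zero]
    refine root_zero_center ?_
    rw [frm_smul_left, frm_smul_right, show frm σ F₀ J (rv F₀ p) (rv F₀ p) = 0 from hp, mul_zero,
      mul_zero]
  obtain ⟨z, hz, hzy, hzq, hz'⟩ := exists_fresh H h6 y q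
  have hzq' : ∀ t : F₀, z ≠ t • q := fun t e => hz' 0 t (by rw [e]; simp)
  have hz0 : z ≠ 0 := fun e => hzq' 0 (by rw [e, zero_smul])
  have hyz : ∀ t : F₀, y ≠ t • z := fun t e => by
    rcases eq_or_ne t 0 with rfl | ht
    · exact hy0 (by rw [e, zero_smul])
    · exact hz' t⁻¹ 0 (by rw [e, smul_smul, inv_mul_cancel₀ ht]; simp)
  have h1 := (spread H hN hLG h6 h hy0 hxy hz hzy).flip H hz
  have h2 := (spread H hN hLG h6 h1 hz0 hyz hq (hzq.symm H)).flip H hq
  rw [H.inv] at h2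
  exact spread H hN hLG h6 h2 hq0 hzq' hp hpq

include H hN hLG in
theorem caseA_of_long (h6 : 6 ≤ Fintype.card ι) {x : ι → F₀} (hx : IsoR σ F₀ J x) (hx0 : x ≠ 0) {c : F} (hc : c ∉ F₀)
    (h : M[L, 0, rv F₀ x, c]) : CaseA σ F₀ J L := by
  obtain ⟨w, hw, hwx, -, hw'⟩ := exists_fresh H h6 x x
  have hw0 : w ≠ 0 := fun e => hw' 0 0 (by rw [e]; simp)
  have hxw : ∀ t : F₀, x ≠ t • w := fun t e => by
    rcases eq_or_ne t 0 with rfl | ht
    · exact hx0 (by rw [e, zero_smul])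
    · exact hw' t⁻¹ 0 (by rw [e, smul_smul, inv_mul_cancel₀ ht]; simp)
  obtain ⟨p, hp, hxp, hpw, -⟩ := exists_iso_pair H h6 (x := x) (y := w) (w := w) fun a b e =>
    hxw (a + b) (by rw [e, add_smul])
  have h1 := Root.conj' hLG (rat_short H hN w p (hpw.symm H) hw hp) h
  simp only [frm_zero_left, hxp, show frm σ F₀ J (rv F₀ x) (rv F₀ w) = 0 from hwx.symm H,
    zero_smul, one_smul, zero_mul, add_zero] at h1
  exact ⟨x, w, hw, hw0, hxw, c, hc, c, root_of_long H (hwx.symm H) h1 h⟩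

include H hN hLG in
theorem good_neg {s : F} (hs : Good σ F₀ J L s) : Good σ F₀ J L (-s) := by
  intro x y hx hy hxy
  have h := hs (-x) y (by rw [IsoR, rv_neg, frm_neg_left, frm_neg_right, neg_neg]; exact hx) hy
    (by rw [PerpR, rv_neg, frm_neg_left, show frm σ F₀ J (rv F₀ x) (rv F₀ y) = 0 from hxy, neg_zero])
  rwa [rv_neg, smul_neg, ← neg_smul] at h

include H hN hLG in
theorem good_mul (h6 : 6 ≤ Fintype.card ι) {s t : F} (hs : Good σ F₀ J L s) (ht : Good σ F₀ J L t) :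
    Good σ F₀ J L (t * s) := by
  obtain ⟨x, hx, -, -, hx'⟩ := exists_fresh H h6 0 0
  have hx0 : x ≠ 0 := fun e => hx' 0 0 (by rw [e]; simp)
  obtain ⟨y, hy, hxy, -⟩ := exists_iso_pair H h6 (x := x) (y := 0) (w := 0)
    (fun a b e => hx0 (by rw [e]; simp))
  obtain ⟨z, hz, hzx, hzy, hz'⟩ := exists_fresh H h6 x y
  have hz0 : z ≠ 0 := fun e => hz' 0 0 (by rw [e]; simp)
  obtain ⟨w, hw, hwx, hwy, hwz, hwz'⟩ := exists_fresh_three H h6 x y z z
  have h := ht x z hx hz (hzx.symm H)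
  have h1 := Root.conj' hLG (hs w y hw hy hwy) h
  have a1 : frm σ F₀ J (rv F₀ x) (rv F₀ w) = 0 := hwx.symm H
  have a2 : frm σ F₀ J (rv F₀ z) (rv F₀ y) = 0 := hzy
  have a3 : frm σ F₀ J (rv F₀ z) (rv F₀ w) = 0 := hwz.symm H
  simp only [frm_smul_left, frm_smul_right, hxy, a1, a2, a3, mul_one, mul_zero, zero_mul,
    zero_smul, add_zero, smul_smul] at h1
  have h2 := (h.inv' H).mul H h1
  rw [neg_add_cancel_left] at h2
  exact good_of_short H hN hLG h6 hz hz0 hwz' h2

include H hN hLG in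
theorem good_all (h6 : 6 ≤ Fintype.card ι) [Finite F] {r : ℕ} (hr : r.Prime) (hcard : Nat.card F = Nat.card F₀ ^ r)
    (hC : CaseA σ F₀ J L) (s : F) : Good σ F₀ J L s := by
  obtain ⟨x, y, hy, hy0, hxy, c, hc, l, h⟩ := hC
  have hcg := good_of_short H hN hLG h6 hy hy0 hxy h
  let S : Subalgebra F₀ F :=
    { carrier := {x | Good σ F₀ J L x}
      mul_mem' := fun {a b} ha hb => good_mul H hN hLG h6 hb ha
      add_mem' := by
        intro s t hs ht x y hx hy hxy
        have h := (hs x y hx hy hxy).mul H (ht x y hx hy hxy)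
        rw [frm_smul_left, frm_smul_right, show frm σ F₀ J (rv F₀ x) (rv F₀ x) = 0 from hx,
          mul_zero, mul_zero, add_zero, add_zero, ← add_smul] at h
        exact h
      algebraMap_mem' := by
        intro t x y hx hy hxy
        exact rat_short H hN (t • x) y (hxy.smul_left t) (hx.smul t) hy }
  have hfr : (Module.finrank F₀ F).Prime := by
    have h1 := Module.natCard_eq_pow_finrank (K := F₀) (V := F)
    rw [hcard] at h1
    rwa [← Nat.pow_right_injective Finite.one_lt_card h1]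
  haveI := Subalgebra.isSimpleOrder_of_finrank_prime F₀ F hfr
  have htop : S = ⊤ := by
    refine (eq_bot_or_eq_top S).resolve_left fun hb => hc ?_
    have hcS : c ∈ S := hcg
    rw [hb, Algebra.mem_bot] at hcS
    obtain ⟨t, ht⟩ := hcS
    exact ht ▸ t.2
  exact show s ∈ S by rw [htop]; exact Algebra.mem_top

include H hN hLG in
/-- Long root elements with rational centre. -/
theorem long_all [Finite F] (hall : ∀ s, Good σ F₀ J L s) {v : ι → F₀} (hv : IsoR σ F₀ J v)
    {c : F} (hc : σ c = c) : M[L, 0, rv F₀ v, c] := by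
  rcases eq_or_ne c 0 with rfl | hc0
  · exact root_one_zero hv
  obtain ⟨s, rfl⟩ := Herm.exists_norm_fixed H.ne H.inv hc0 hc
  obtain ⟨b, hb, hbv, hb'⟩ := exists_off1 H v
  obtain ⟨b', hib, hbb, hb'v⟩ := exists_iso_pair1 H (x := b) (y := v) hb'
  have e1 : frm σ F₀ J (rv F₀ b') (rv F₀ b) = -1 := by rw [H.skew, hbb, map_one]
  have e2 : frm σ F₀ J (rv F₀ b') (rv F₀ v) = 0 := hb'v
  have e2' : frm σ F₀ J (rv F₀ v) (rv F₀ b') = 0 := hb'v.symm H
  have hl := rat_long H hN b' hib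
  have h1 := Root.conj' hLG (hall s v b hv hb (hbv.symm H)) hl
  simp only [frm_zero_left, frm_smul_right, e1, e2, mul_zero, zero_mul, zero_smul, add_zero,
    neg_smul, one_smul] at h1
  have h2 := root_of_long H (by rw [frm_neg_right, frm_smul_right, e2, mul_zero, neg_zero]) h1 hl
  rw [one_smul, ← neg_smul] at h2
  rcases eq_or_ne s 0 with rfl | hs
  · exact absurd (mul_zero _) hc0
  have h3 := h2.smul H (neg_ne_zero.mpr hs)
  have h4 := (good_neg H hN hLG (hall (σ s))) b' v hib hv hb'v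
  have h5 := h3.mul H (h4.inv' H)
  rw [map_neg, add_neg_cancel] at h5
  convert h5 using 1
  simp only [frm_neg_left, frm_smul_left, frm_smul_right, map_neg, H.inv,
    show frm σ F₀ J (rv F₀ b') (rv F₀ b') = 0 from hib]
  ring

include H hN hLG in
/-- Every root element with rational centre. -/
theorem root_all [Finite F] (hall : ∀ s, Good σ F₀ J L s) {y : ι → F₀} (hy : IsoR σ F₀ J y)
    (hy0 : y ≠ 0) {p : ι → F} (hp : frm σ F₀ J p (rv F₀ y) = 0) {l : F}
    (hl : l - σ l = frm σ F₀ J p p) : M[L, p, rv F₀ y, l] := by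
  let K : AddSubgroup (ι → F) :=
    { carrier := {p | ∃ l, M[L, p, rv F₀ y, l]}
      add_mem' := fun ⟨a, ha⟩ ⟨b, hb⟩ => ⟨_, ha.mul H hb⟩
      zero_mem' := ⟨0, root_one_zero hy⟩
      neg_mem' := fun ⟨a, ha⟩ => ⟨_, ha.inv' H⟩ }
  have hrat : ∀ (z : ι → F₀), PerpR σ F₀ J z y → ∀ t : F, t • rv F₀ z ∈ K := by
    intro z hz t
    let K' : AddSubgroup (ι → F₀) :=
      { carrier := {z | ∀ t : F, t • rv F₀ z ∈ K}
        add_mem' := fun {a b} ha hb t => by rw [rv_add, smul_add]; exact K.add_mem (ha t) (hb t)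
        zero_mem' := fun t => by rw [rv_zero, smul_zero]; exact K.zero_mem
        neg_mem' := fun {a} ha t => by rw [rv_neg, smul_neg]; exact K.neg_mem (ha t) }
    exact (AddSubgroup.closure_le K').mpr (fun w hw t => ⟨0, hall t w y hw.1 hy hw.2⟩)
      (H.span1 z y hz) t
  obtain ⟨m, hm, -, -⟩ := exists_frm_triple H (x := y) (y := 0) (w := 0)
    (fun a b e => hy0 (by rw [e]; simp))
  have hm' : frm σ F₀ J (rv F₀ m) (rv F₀ y) = -1 := by rw [H.skew, hm, map_one]
  let φ : ι → F₀ := fun i => ⟨cov σ F₀ J (rv F₀ y) i, cov_rv_mem H y i⟩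
  let z : ι → ι → F₀ := fun i => Pi.single i 1 + φ i • m
  have hφ : ∀ i, frm σ F₀ J (Pi.single i 1) (rv F₀ y) = φ i := fun i => by
    rw [frm, single_dotProduct, one_mul]
  have hz : ∀ i, PerpR σ F₀ J (z i) y := fun i => by
    rw [PerpR, rv_add, rv_smul, frm_add_left, frm_smul_left, hm', rv_single, hφ]
    ring
  have hsum : p = ∑ i, p i • rv F₀ (z i) := by
    have h0 : ∑ i, p i * (φ i : F) = 0 := hp
    simp only [z, rv_add, rv_smul, rv_single, smul_add, Finset.sum_add_distrib, smul_smul,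
      ← Finset.sum_smul, h0, zero_smul, add_zero]
    exact pi_eq_sum_univ' p
  obtain ⟨l₀, h₀⟩ : p ∈ K := by rw [hsum]; exact K.sum_mem fun i _ => hrat _ (hz i) _
  have hfix : σ (l - l₀) = l - l₀ := by
    rw [map_sub]
    linear_combination -hl + h₀.2.2.1
  have h := h₀.mul H (long_all H hN hLG hall hy hfix)
  rwa [add_zero, frm_zero_left, add_zero, add_sub_cancel] at h

include H hN hLG in
/-- Long root elements with any centre. -/
theorem long_any [Finite F] (hall : ∀ s, Good σ F₀ J L s) {u : ι → F}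
    (hu : frm σ F₀ J u u = 0) {c : F} (hc : σ c = c) : M[L, 0, u, c] := by
  rcases eq_or_ne u 0 with rfl | hu0
  · exact ⟨frm_zero_left _, hu, by rw [hc, sub_self, hu], 1, L.one_mem,
      by simp [rootMat, emat_zero_left]⟩
  obtain ⟨y, hy, hy0, hδ⟩ : ∃ y : ι → F₀, IsoR σ F₀ J y ∧ y ≠ 0 ∧
      frm σ F₀ J u (rv F₀ y) ≠ 0 := by
    by_contra hne
    push Not at hne
    let K' : AddSubgroup (ι → F₀) :=
      { carrier := {z | frm σ F₀ J u (rv F₀ z) = 0}
        add_mem' := fun {a b} ha hb => by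
          simp only [Set.mem_ofPred_eq] at ha hb ⊢
          rw [rv_add, frm_add_right, ha, hb, add_zero]
        zero_mem' := frm_zero_right _
        neg_mem' := fun {a} ha => by
          simp only [Set.mem_ofPred_eq] at ha ⊢
          rw [rv_neg, frm_neg_right, ha, neg_zero] }
    have hall0 : ∀ z : ι → F₀, frm σ F₀ J u (rv F₀ z) = 0 := fun z => by
      refine (AddSubgroup.closure_le K').mpr (fun w hw => ?_)
        (H.span1 z 0 (frm_zero_right _))
      by_cases hw0 : w = 0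
      · rw [hw0]; exact K'.zero_mem
      · exact hne w hw.1 hw0
    refine hu0 (funext fun i => ?_)
    obtain ⟨q, hq⟩ := exists_rv_cov H (Pi.single i 1)
    have := hall0 q
    rwa [frm, hq, rv_single, dotProduct_single, mul_one] at this
  obtain ⟨y', hy', hyy, -⟩ := exists_iso_pair1 H (x := y) (y := 0)
    (fun a e => hy0 (by rw [e]; simp))
  set δ := frm σ F₀ J u (rv F₀ y) with hδdef
  set η := frm σ F₀ J u (rv F₀ y') with hηdef
  -- `u ↦ δ y''` for the partner `y'' = -y'`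
  set p : ι → F := -rv F₀ y' - δ⁻¹ • u with hpdef
  have e1 : frm σ F₀ J (rv F₀ y') (rv F₀ y) = -1 := by rw [H.skew, hyy, map_one]
  have e3 : frm σ F₀ J (rv F₀ y') u = -σ η := by rw [H.skew u]
  have hpy : frm σ F₀ J p (rv F₀ y) = 0 := by
    rw [frm_sub_left, frm_neg_left, e1, frm_smul_left, ← hδdef, inv_mul_cancel₀ hδ, neg_neg,
      sub_self]
  have hup : frm σ F₀ J u p = -η := by
    rw [frm_sub_right, frm_neg_right, frm_smul_right, hu, mul_zero, sub_zero, ← hηdef]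
  have hl : η / δ - σ (η / δ) = frm σ F₀ J p p := by
    simp only [hpdef, frm_sub_left, frm_sub_right, frm_neg_left, frm_neg_right, frm_smul_left,
      frm_smul_right, hu, show frm σ F₀ J (rv F₀ y') (rv F₀ y') = 0 from hy', e3, ← hηdef,
      map_inv₀, map_div₀]
    ring
  obtain ⟨-, -, -, g, hg, hge⟩ := root_all H hN hLG hall hy hy0 hpy hl
  have himg : (g : Matrix ι ι F) *ᵥ u = -δ • rv F₀ y' := by
    rw [hge, root_mulVec, hup, ← hδdef, hpdef, smul_sub, smul_smul, mul_inv_cancel₀ hδ, one_smul,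
      div_mul_cancel₀ _ hδ]
    module
  have hδ' : -δ ≠ 0 := neg_ne_zero.mpr hδ
  have h1 := (long_all H hN hLG hall hy' (c := c * (-δ * σ (-δ)))
    (by rw [map_mul, map_mul, hc, H.inv, mul_comm (σ (-δ))])).long_smul H hδ'
  rw [← himg] at h1
  have h2 := Root.conj hLG (L.inv_mem hg) h1
  rwa [Matrix.mulVec_zero, Matrix.mulVec_mulVec, ← Units.val_mul, inv_mul_cancel, Units.val_one,
    Matrix.one_mulVec] at h2

include H hN hLG in
theorem full_of_good [Finite F] (hall : ∀ s, Good σ F₀ J L s) : spIso σ F₀ J ≤ L := by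
  obtain ⟨z, hz0, hz⟩ := Herm.exists_trace_zero H.ne H.inv
  let B : (ι → F) →ₛₗ[σ] (ι → F) →ₗ[F] F :=
    LinearMap.mk₂'ₛₗ σ (RingHom.id F) (fun u v => z * frm σ F₀ J v u)
      (fun a b v => by simp only [frm_add_right, mul_add])
      (fun c a v => by simp only [frm_smul_right, smul_eq_mul]; ring)
      (fun a u v => by simp only [frm_add_left, mul_add])
      (fun c a v => by simp only [frm_smul_left, smul_eq_mul, RingHom.id_apply]; ring)
  have hB : ∀ u v, B u v = z * frm σ F₀ J v u := fun u v => rfl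
  have hS : B.IsSymm := ⟨fun u v => by
    rw [hB, hB, map_mul, eq_neg_of_add_eq_zero_right hz, H.skew v u]
    ring⟩
  have hB' : B.Nondegenerate := by
    have hright : ∀ v, (∀ u, B u v = 0) → v = 0 := fun v hv => funext fun i => by
      obtain ⟨q, hq⟩ := exists_rv_cov H (Pi.single i 1)
      have h := (mul_eq_zero.mp ((hB (rv F₀ q) v).symm.trans (hv _))).resolve_left hz0
      rwa [frm, hq, rv_single, dotProduct_single, mul_one] at h
    exact ⟨fun u hu => hright u fun w => hS.isRefl _ _ (hu w), hright⟩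
  let φ : GL ι F →* ((ι → F) ≃ₗ[F] (ι → F)) :=
    { toFun := fun g => LinearEquiv.ofLinear (Matrix.toLin' (g : Matrix ι ι F))
        (Matrix.toLin' ((g⁻¹ : GL ι F) : Matrix ι ι F))
        (by rw [← Matrix.toLin'_mul, ← Units.val_mul, mul_inv_cancel, Units.val_one,
          Matrix.toLin'_one])
        (by rw [← Matrix.toLin'_mul, ← Units.val_mul, inv_mul_cancel, Units.val_one,
          Matrix.toLin'_one])
      map_one' := LinearEquiv.ext fun x => by simp
      map_mul' := fun g g' => LinearEquiv.ext fun x => (Matrix.mulVec_mulVec x _ _).symm }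
  have hle : Herm.tvGroup B ≤ L.map φ := by
    rw [Herm.tvGroup, Subgroup.closure_le]
    rintro _ ⟨w, m, hm, hw, rfl⟩
    have hm' : m + σ m = 0 := by rwa [hw, mul_zero, add_zero] at hm
    have hw' : frm σ F₀ J w w = 0 :=
      (mul_eq_zero.mp ((hB w w).symm.trans hw)).resolve_left hz0
    obtain ⟨-, -, -, g, hg, hge⟩ := long_any H hN hLG hall hw' (c := m * z) (by
      rw [map_mul, eq_neg_of_add_eq_zero_right hm', eq_neg_of_add_eq_zero_right hz, neg_mul_neg])
    refine ⟨g, hg, LinearEquiv.ext fun x => ?_⟩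
    show (g : Matrix ι ι F) *ᵥ x = _
    rw [hge, root_mulVec, Herm.qrefl_apply, hB]
    simp [frm_zero_right, mul_assoc]
  intro g hg
  obtain ⟨hgf, hgd⟩ := mem_spIso.mp hg
  have hdim : 4 ≤ Module.finrank F (ι → F) := by
    rw [Module.finrank_fintype_fun_eq_card]; have := H.card; omega
  have hmem : φ g ∈ Herm.tvGroup B := by
    refine (Herm.mem_tvGroup_iff H.ne H.inv hS hB' (Or.inl hdim) _).mpr ⟨fun u v => ?_, ?_⟩
    · show z * frm σ F₀ J _ _ = z * _
      exact congrArg (z * ·) (hgf v u)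
    · refine Units.ext ?_
      rw [LinearEquiv.coe_det]
      show LinearMap.det (Matrix.toLin' (g : Matrix ι ι F)) = 1
      rw [LinearMap.det_toLin', hgd]
  obtain ⟨g', hg', he⟩ := hle hmem
  rwa [show g = g' from Units.ext (Matrix.toLin'.injective (LinearMap.ext fun x =>
    (LinearEquiv.congr_fun he x).symm))]

include H hN hLG in
theorem caseA_full (h6 : 6 ≤ Fintype.card ι) [Finite F] {r : ℕ} (hr : r.Prime) (hcard : Nat.card F = Nat.card F₀ ^ r)
    (hC : CaseA σ F₀ J L) : spIso σ F₀ J ≤ L :=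
  full_of_good H hN hLG (good_all H hN hLG h6 hr hcard hC)

include H in
theorem eq_zero_of_perp {v : ι → F} (h : ∀ z : ι → F₀, frm σ F₀ J v (rv F₀ z) = 0) : v = 0 :=
  funext fun i => by
    obtain ⟨q, hq⟩ := exists_rv_cov H (Pi.single i 1)
    have := h q
    rwa [frm, hq, rv_single, dotProduct_single, mul_one] at this

include H hN hLG in
theorem products_rat (h6 : 6 ≤ Fintype.card ι) (hC : ¬CaseA σ F₀ J L) {u : ι → F} (hu : M[L, 0, u, 1]) {x : ι → F₀}
    (hx : IsoR σ F₀ J x) (hx0 : x ≠ 0) (hxu : frm σ F₀ J u (rv F₀ x) = 0) (i k : ι) :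
    σ (u i) * u k ∈ F₀ := by
  have main : ∀ x : ι → F₀, IsoR σ F₀ J x → x ≠ 0 → frm σ F₀ J u (rv F₀ x) = 0 →
      ∀ y₀ y, PerpR σ F₀ J y₀ x → PerpR σ F₀ J y x →
      σ (frm σ F₀ J u (rv F₀ y₀)) * frm σ F₀ J u (rv F₀ y) ∈ F₀ := by
    intro x hx hx0 hxu y₀ y' hy₀ hy'
    set β := frm σ F₀ J u (rv F₀ y₀) with hβdef
    rcases eq_or_ne β 0 with hβ | hβ
    · rw [hβ, map_zero, zero_mul]; exact F₀.zero_mem
    let K : AddSubgroup (ι → F₀) :=
      { carrier := {y | σ β * frm σ F₀ J u (rv F₀ y) ∈ F₀}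
        add_mem' := fun {a b} ha hb => by
          simp only [Set.mem_ofPred_eq] at ha hb ⊢
          rw [rv_add, frm_add_right, mul_add]; exact F₀.add_mem ha hb
        zero_mem' := by
          simp only [Set.mem_ofPred_eq]
          rw [rv_zero, frm_zero_right, mul_zero]; exact F₀.zero_mem
        neg_mem' := fun {a} ha => by
          simp only [Set.mem_ofPred_eq] at ha ⊢
          rw [rv_neg, frm_neg_right, mul_neg]; exact F₀.neg_mem ha }
    refine (AddSubgroup.closure_le K).mpr ?_ (H.span1 y' x hy')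
    rintro y ⟨hy, hyx⟩
    show σ β * frm σ F₀ J u (rv F₀ y) ∈ F₀
    by_cases hsp : ∃ t : F₀, y = t • x
    · obtain ⟨t, rfl⟩ := hsp
      rw [rv_smul, frm_smul_right, hxu, mul_zero, mul_zero]
      exact F₀.zero_mem
    push Not at hsp
    obtain ⟨l₀, hl₀⟩ := H.htr y₀
    have h1 := Root.conj' hLG (rat H hN y₀ x l₀ hy₀ hx hl₀) hu
    simp only [frm_zero_left, hxu, mul_zero, zero_smul, add_zero, zero_add] at h1
    rw [← hβdef] at h1
    have h2 := root_of_long H (by rw [frm_smul_right, hxu, mul_zero]) h1 hu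
    rw [one_smul] at h2
    have hU := h2.smul H hβ
    have h3 := Root.conj' hLG (rat_long H hN y hy) hU
    simp only [frm_zero_right, smul_zero, zero_smul, zero_add, frm_smul_left, one_mul, add_zero,
      show frm σ F₀ J (rv F₀ x) (rv F₀ y) = 0 from (PerpR.symm H hyx)] at h3
    rw [← one_mul (β * σ β)] at h3
    have h4 := (hU.inv' H).mul H h3
    rw [neg_add_cancel_left] at h4
    by_contra hm
    exact hC ⟨y, x, hx, hx0, hsp, _, hm, _, h4⟩
  have hγ : ∀ y y' : ι → F₀,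
      σ (frm σ F₀ J u (rv F₀ y')) * frm σ F₀ J u (rv F₀ y) ∈ F₀ := by
    intro y y'
    obtain ⟨p, hp, -, -⟩ := exists_frm_triple H (x := x) (y := 0) (w := 0)
      (fun a b e => hx0 (by rw [e]; simp))
    -- projection to the hyperplane
    have hproj : ∀ z : ι → F₀, ∃ z' : ι → F₀, PerpR σ F₀ J z' x ∧
        frm σ F₀ J u (rv F₀ z') = frm σ F₀ J u (rv F₀ z) -
          frm σ F₀ J (rv F₀ x) (rv F₀ z) * frm σ F₀ J u (rv F₀ p) := by
      intro z
      refine ⟨z - (⟨_, H.mem _ (frm_rv_mem H x z)⟩ : F₀) • p, frm_perp H ?_, ?_⟩ <;>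
        rw [rv_sub, rv_smul, frm_sub_right, frm_smul_right, H.inv]
      rw [hp, mul_one, sub_self]
    by_cases h0 : ∀ z : ι → F₀, PerpR σ F₀ J z x → frm σ F₀ J u (rv F₀ z) = 0
    · set μ := frm σ F₀ J u (rv F₀ p)
      have hu' : u = μ • rv F₀ x := by
        rw [← sub_eq_zero]
        refine eq_zero_of_perp H fun z => ?_
        obtain ⟨z', hz', e⟩ := hproj z
        rw [h0 z' hz'] at e
        rw [frm_sub_left, frm_smul_left]
        linear_combination -e
      have hμμ : μ * σ μ ∈ F₀ := by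
        by_contra hm
        rcases eq_or_ne μ 0 with e | hμ0
        · exact hm (by rw [e, zero_mul]; exact F₀.zero_mem)
        have hu2 := hu
        rw [hu'] at hu2
        have h := hu2.smul H hμ0
        rw [smul_zero, one_mul] at h
        exact hC (caseA_of_long H hN hLG h6 hx hx0 hm h)
      rw [hu', frm_smul_left, frm_smul_left, map_mul, mul_mul_mul_comm, mul_comm (σ μ)]
      exact F₀.mul_mem hμμ (F₀.mul_mem (H.mem _ (frm_rv_mem H x y')) (frm_rv_mem H x y))
    push Not at h0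
    obtain ⟨y₀, hy₀, hβ⟩ := h0
    set β := frm σ F₀ J u (rv F₀ y₀) with hβdef
    set D := σ β • u - (σ β * frm σ F₀ J u (rv F₀ p)) • rv F₀ x with hD
    have hDmem : ∀ l, D l ∈ F₀ := by
      intro l
      obtain ⟨q, hq⟩ := exists_rv_cov H (Pi.single l 1)
      have e : D l = frm σ F₀ J D (rv F₀ q) := by
        rw [frm, hq, rv_single, dotProduct_single, mul_one]
      obtain ⟨z', hz', e'⟩ := hproj q
      rw [e, hD, frm_sub_left, frm_smul_left, frm_smul_left, mul_assoc, ← mul_sub]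
      have h := main x hx hx0 hxu y₀ z' hy₀ hz'
      rw [e', ← hβdef] at h
      convert h using 2
      ring
    let d : ι → F₀ := fun l => ⟨D l, hDmem l⟩
    obtain ⟨x', hx'0, hx', hx'x, hx'd, hx'y, hx'y'⟩ := exists_iso_four H h6 x d y y'
    have hx'u : frm σ F₀ J u (rv F₀ x') = 0 := by
      have h : frm σ F₀ J D (rv F₀ x') = 0 := hx'd.symm H
      rw [hD, frm_sub_left, frm_smul_left, frm_smul_left,
        show frm σ F₀ J (rv F₀ x) (rv F₀ x') = 0 from hx'x.symm H, mul_zero, sub_zero,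
        mul_eq_zero] at h
      exact h.resolve_left (by simpa using hβ)
    exact main x' hx' hx'0 hx'u y' y (hx'y'.symm H) (hx'y.symm H)
  have hcoord : ∀ l, ∃ q : ι → F₀, frm σ F₀ J u (rv F₀ q) = u l := fun l => by
    obtain ⟨q, hq⟩ := exists_rv_cov H (Pi.single l 1)
    exact ⟨q, by rw [frm, hq, rv_single, dotProduct_single, mul_one]⟩
  obtain ⟨q, hq⟩ := hcoord i
  obtain ⟨q', hq'⟩ := hcoord k
  have := hγ q' q
  rwa [hq, hq'] at this

include H hN hLG in
theorem ratG_of' (hprod : ∀ (u : ι → F) (x : ι → F₀), M[L, 0, u, 1] → IsoR σ F₀ J x → x ≠ 0 →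
      frm σ F₀ J u (rv F₀ x) = 0 → ∀ i k : ι, σ (u i) * u k ∈ F₀) {h : GL ι F} (hh : h ∈ L) {c x : ι → F₀}
    (hc : IsoR σ F₀ J c) (hc0 : c ≠ 0) (hx : IsoR σ F₀ J x) (hx0 : x ≠ 0)
    (he : frm σ F₀ J ((h : Matrix ι ι F) *ᵥ rv F₀ c) (rv F₀ x) = 0) : RatG F₀ h := by
  set A := (h : Matrix ι ι F)
  have hinj : Function.Injective (A *ᵥ ·) := Matrix.mulVec_injective_of_isUnit h.isUnit
  have hnz : ∀ v : ι → F₀, v ≠ 0 → ∃ i, (A *ᵥ rv F₀ v) i ≠ 0 := by
    intro v hv
    refine Function.ne_iff.mp fun e => rv_ne_zero F₀ hv ?_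
    exact hinj (e.trans (Matrix.mulVec_zero _).symm)
  have prod : ∀ v x : ι → F₀, IsoR σ F₀ J v → IsoR σ F₀ J x → x ≠ 0 →
      frm σ F₀ J (A *ᵥ rv F₀ v) (rv F₀ x) = 0 →
      ∀ i k, σ ((A *ᵥ rv F₀ v) i) * (A *ᵥ rv F₀ v) k ∈ F₀ := by
    intro v x hv hx hx0 hxv
    have h2 := Root.conj hLG hh (rat_long H hN v hv)
    rw [Matrix.mulVec_zero] at h2
    exact hprod _ x h2 hx hx0 hxv
  -- columns proportional to one rational column
  have step : ∀ c : ι → F₀, IsoR σ F₀ J c → c ≠ 0 →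
      (∀ i k, σ ((A *ᵥ rv F₀ c) i) * (A *ᵥ rv F₀ c) k ∈ F₀) →
      ∀ v : ι → F₀, IsoR σ F₀ J v → PerpR σ F₀ J v c → ∀ i, (A *ᵥ rv F₀ c) i ≠ 0 →
      (∀ j, (A *ᵥ rv F₀ v) j / (A *ᵥ rv F₀ c) i ∈ F₀) ∧
        ∀ i k, σ ((A *ᵥ rv F₀ v) i) * (A *ᵥ rv F₀ v) k ∈ F₀ := by
    intro c hc hc0 hcp v hv hvc i hi
    set u := A *ᵥ rv F₀ c with hudef
    let x₁ : ι → F₀ := fun l => ⟨σ (u i) * u l, hcp i l⟩
    have hσi : σ (u i) ≠ 0 := by simpa using hi
    have hx₁ : x₁ ≠ 0 := fun e => mul_ne_zero hσi hi (congrArg Subtype.val (congrFun e i))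
    have hx₁' : rv F₀ x₁ = σ (u i) • u := rfl
    have hf := (mem_spIso.mp (hLG hh)).1
    have hx₁iso : IsoR σ F₀ J x₁ := by
      rw [IsoR, hx₁', frm_smul_left, frm_smul_right, hudef, hf,
        show frm σ F₀ J (rv F₀ c) (rv F₀ c) = 0 from hc, mul_zero, mul_zero]
    have hperp : ∀ v : ι → F₀, PerpR σ F₀ J v c →
        frm σ F₀ J (A *ᵥ rv F₀ v) (rv F₀ x₁) = 0 := by
      intro v hv
      rw [hx₁', frm_smul_right, hudef, hf,
        show frm σ F₀ J (rv F₀ v) (rv F₀ c) = 0 from hv, mul_zero]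
    have hvp := prod v x₁ hv hx₁iso hx₁ (hperp v hvc)
    refine ⟨fun j => ?_, hvp⟩
    have hcv : IsoR σ F₀ J (c + v) := by
      rw [IsoR, rv_add, frm_add_left, frm_add_right, frm_add_right,
        show frm σ F₀ J (rv F₀ c) (rv F₀ c) = 0 from hc,
        show frm σ F₀ J (rv F₀ v) (rv F₀ v) = 0 from hv,
        show frm σ F₀ J (rv F₀ v) (rv F₀ c) = 0 from hvc,
        show frm σ F₀ J (rv F₀ c) (rv F₀ v) = 0 from hvc.symm H, add_zero, add_zero]
    have hsp := prod (c + v) x₁ hcv hx₁iso hx₁ (hperp _ (PerpR.add_left hc hvc))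
    set b := A *ᵥ rv F₀ v with hbdef
    rw [show A *ᵥ rv F₀ (c + v) = u + b by rw [rv_add, Matrix.mulVec_add]] at hsp
    have hcross : ∀ p q, σ (u p) * b q + σ (b p) * u q ∈ F₀ := by
      intro p q
      have h3 := F₀.sub_mem (F₀.sub_mem (hsp p q) (hcp p q)) (hvp p q)
      rw [Pi.add_apply, Pi.add_apply, map_add] at h3
      convert h3 using 1
      ring
    rcases eq_or_ne (b j) 0 with hj | hj
    · rw [hj, zero_div]; exact F₀.zero_mem
    by_cases hR : ∀ k, u i * b k - u k * b i = 0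
    · have hb : b = (b i / u i) • u := by
        funext q
        rw [Pi.smul_apply, smul_eq_mul]
        field_simp
        linear_combination hR q
      set μ := b i / u i
      have hμ : rv F₀ v = μ • rv F₀ c := by
        refine hinj ?_
        show A *ᵥ _ = A *ᵥ _
        rw [Matrix.mulVec_smul]
        exact hb
      obtain ⟨l, hl⟩ := Function.ne_iff.mp hc0
      have hμm : μ ∈ F₀ := by
        have h4 := F₀.div_mem (v l).2 (c l).2
        have h5 := congrFun hμ l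
        simp only [rv, Pi.smul_apply, smul_eq_mul] at h5
        rwa [h5, mul_div_cancel_right₀ _ (fun e => hl (Subtype.ext e))] at h4
      have h6 := F₀.mul_mem hμm (F₀.div_mem (hcp i j) (hcp i i))
      rw [hb, Pi.smul_apply, smul_eq_mul]
      convert h6 using 1
      field_simp
    · push Not at hR
      obtain ⟨k, hk⟩ := hR
      have R1 := F₀.sub_mem (F₀.mul_mem (hvp j k) (hcross j i)) (F₀.mul_mem (hvp j i) (hcross j k))
      have R2 := F₀.sub_mem (hvp j k) (F₀.mul_mem (F₀.div_mem (hcp i k) (hcp i i)) (hvp j i))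
      have hσj : σ (b j) ≠ 0 := by simpa using hj
      have e1 : σ (b j) * b k * (σ (u j) * b i + σ (b j) * u i) -
          σ (b j) * b i * (σ (u j) * b k + σ (b j) * u k) =
          σ (b j) * σ (b j) * (u i * b k - u k * b i) := by ring
      have e2 : σ (b j) * b k - σ (u i) * u k / (σ (u i) * u i) * (σ (b j) * b i) =
          σ (b j) * (u i * b k - u k * b i) / u i := by field_simp
      rw [e1] at R1
      rw [e2] at R2
      have h7 := H.mem _ (F₀.div_mem (F₀.div_mem R1 R2) (hcp i i))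
      convert h7 using 1
      simp only [map_div₀, map_mul, H.inv]
      have hσk : σ (u i * b k - u k * b i) ≠ 0 := fun e =>
        hk (σ.injective (e.trans (map_zero σ).symm))
      field_simp
  have hlin : ∀ c : ι → F₀, IsoR σ F₀ J c → c ≠ 0 →
      (∀ i k, σ ((A *ᵥ rv F₀ c) i) * (A *ᵥ rv F₀ c) k ∈ F₀) →
      ∀ v : ι → F₀, PerpR σ F₀ J v c → ∀ i, (A *ᵥ rv F₀ c) i ≠ 0 →
      ∀ j, (A *ᵥ rv F₀ v) j / (A *ᵥ rv F₀ c) i ∈ F₀ := by
    intro c hc hc0 hcp v hvc i hi j
    let K : AddSubgroup (ι → F₀) :=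
      { carrier := {w | (A *ᵥ rv F₀ w) j / (A *ᵥ rv F₀ c) i ∈ F₀}
        add_mem' := fun {a b} ha hb => by
          simp only [Set.mem_ofPred_eq] at ha hb ⊢
          rw [rv_add, Matrix.mulVec_add, Pi.add_apply, add_div]; exact F₀.add_mem ha hb
        zero_mem' := by
          simp only [Set.mem_ofPred_eq]
          rw [rv_zero, Matrix.mulVec_zero, Pi.zero_apply, zero_div]; exact F₀.zero_mem
        neg_mem' := fun {a} ha => by
          simp only [Set.mem_ofPred_eq] at ha ⊢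
          rw [rv_neg, Matrix.mulVec_neg, Pi.neg_apply, neg_div]; exact F₀.neg_mem ha }
    exact (AddSubgroup.closure_le K).mpr (fun w hw => (step c hc hc0 hcp w hw.1 hw.2 i hi).1 j)
      (H.span1 v c hvc)
  have hcp := prod c x hc hx hx0 he
  obtain ⟨i, hi⟩ := hnz c hc0
  refine ⟨((A *ᵥ rv F₀ c) i)⁻¹, inv_ne_zero hi, fun k l => ?_⟩
  let v : ι → F₀ := Pi.single l 1
  have hkl : A k l = (A *ᵥ rv F₀ v) k := by rw [rv_single, Matrix.mulVec_single_one]; rfl
  show _ * A k l ∈ F₀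
  obtain ⟨c', hc'0, hc', hc'c, hc'v⟩ := exists_iso_perp H c v
  obtain ⟨m, hm⟩ := hnz c' hc'0
  obtain ⟨e1, hp'⟩ := step c hc hc0 hcp c' hc' hc'c i hi
  have e2 := hlin c' hc' hc'0 hp' v (hc'v.symm H) m hm k
  rw [hkl]
  convert F₀.mul_mem (e1 m) e2 using 1
  field_simp

include H hN hLG in
theorem ratG_of (h6 : 6 ≤ Fintype.card ι) (hC : ¬CaseA σ F₀ J L) {h : GL ι F} (hh : h ∈ L) {c x : ι → F₀}
    (hc : IsoR σ F₀ J c) (hc0 : c ≠ 0) (hx : IsoR σ F₀ J x) (hx0 : x ≠ 0)
    (he : frm σ F₀ J ((h : Matrix ι ι F) *ᵥ rv F₀ c) (rv F₀ x) = 0) : RatG F₀ h :=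
  ratG_of' H hN hLG (fun _ _ hu hy hy0 hyu => products_rat H hN hLG h6 hC hu hy hy0 hyu) hh hc hc0 hx hx0 he

omit H hN hLG in
/-- In characteristic two an involution fixes at least half of the space. -/
theorem fixedSp_two (h2 : (2 : F) = 0) {b : GL ι F} (hb : b * b = 1) :
    Fintype.card ι ≤ 2 * Module.finrank F (fixedSp b) := by
  set T := Matrix.toLin' (b : Matrix ι ι F) - 1 with hT
  have h1 := LinearMap.finrank_range_add_finrank_ker T
  rw [Module.finrank_fintype_fun_eq_card] at h1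
  have hle : LinearMap.range T ≤ LinearMap.ker T := by
    rintro _ ⟨v, rfl⟩
    rw [LinearMap.mem_ker]
    simp only [hT, LinearMap.sub_apply, Matrix.toLin'_apply, Module.End.one_apply, Matrix.mulVec_sub,
      Matrix.mulVec_mulVec, ← Units.val_mul, hb, Units.val_one, Matrix.one_mulVec]
    funext i
    simp only [Pi.sub_apply, Pi.zero_apply]
    linear_combination (v i - ((b : Matrix ι ι F) *ᵥ v) i) * h2
  have h3 := Submodule.finrank_mono hle
  show _ ≤ 2 * Module.finrank F (LinearMap.ker T)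
  omega

include H hN hLG in
theorem hfail (h6 : 6 ≤ Fintype.card ι) [Finite F] (hC : ¬CaseA σ F₀ J L) (hbig : 10 ≤ Fintype.card ι ∨ (2 : F) = 0)
    {g a b : GL ι F} (hg : g ∈ L) (ha : a ∈ L)
    (hb : b ∈ L) (har : RatInvol F₀ a 6) (hbr : RatInvol F₀ b 6) (hab : g * a = b * g) :
    RatG F₀ g := by
  obtain ⟨hae, ha2, ha1, -⟩ := har
  obtain ⟨hbe, hb2, -, hbd⟩ := hbr
  obtain ⟨haf, had⟩ := mem_spIso.mp (hLG ha)
  let M : Matrix ι ι F₀ := Matrix.of (fun i j => (⟨_, hae i j⟩ : F₀)) - 1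
  have hM : M.map F₀.subtype = (a : Matrix ι ι F) - 1 := by
    ext i j
    simp [M, Matrix.one_apply, apply_ite Subtype.val]
  have hcol : ∀ w : ι → F₀,
      rv F₀ (M *ᵥ w) = (a : Matrix ι ι F) *ᵥ rv F₀ w - rv F₀ w := fun w => by
    rw [show rv F₀ (M *ᵥ w) = M.map F₀.subtype *ᵥ rv F₀ w from
      funext fun i => RingHom.map_mulVec F₀.subtype M w i, hM, Matrix.sub_mulVec,
      Matrix.one_mulVec]
  -- an isotropic vector in the moved space of `a`
  obtain ⟨w, hw, hw0⟩ : ∃ w : ι → F₀, IsoR σ F₀ J (M *ᵥ w) ∧ M *ᵥ w ≠ 0 := by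
    obtain ⟨l, hl⟩ := exists_moved' ha1
    let e : ι → F₀ := Pi.single l 1
    have hc₀ : M *ᵥ e ≠ 0 := fun h => hl (by
      have h1 := hcol e
      rw [h, rv_zero, eq_comm, sub_eq_zero, rv_single] at h1
      exact h1)
    by_cases hci : IsoR σ F₀ J (M *ᵥ e)
    · exact ⟨e, hci, hc₀⟩
    by_cases hind : ∃ w : ι → F₀, ∀ t : F₀, M *ᵥ w ≠ t • (M *ᵥ e)
    · obtain ⟨w, hw⟩ := hind
      obtain ⟨s, t, h1, h2⟩ := H.iso2 _ _ hc₀ hw
      refine ⟨s • e + t • w, ?_, ?_⟩ <;>
        rw [Matrix.mulVec_add, Matrix.mulVec_smul, Matrix.mulVec_smul]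
      exacts [h2, h1]
    exfalso
    push Not at hind
    choose t ht using fun j => hind (Pi.single j 1)
    set c := rv F₀ (M *ᵥ e)
    set T : ι → F := rv F₀ t
    have hrank : (a : Matrix ι ι F) = 1 + Matrix.vecMulVec c T := by
      rw [eq_add_of_sub_eq hM.symm, add_comm]
      congr 1
      ext i j
      have h1 : M i j = t j * (M *ᵥ e) i := by
        have := congrFun (ht j) i
        rwa [Matrix.mulVec_single_one] at this
      show ((M i j : F₀) : F) = _
      rw [h1, Matrix.vecMulVec_apply]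
      exact mul_comm _ _
    have hdet : T ⬝ᵥ c = 0 := by
      have h1 := had
      rw [hrank, Matrix.vecMulVec_eq Unit, Matrix.det_one_add_replicateCol_mul_replicateRow] at h1
      exact left_eq_add.mp h1.symm
    have h2 : (2 : F) = 0 := by
      have hsq : (1 + Matrix.vecMulVec c T) * (1 + Matrix.vecMulVec c T) = 1 := by
        rw [← hrank, ← Units.val_mul, ha2, Units.val_one]
      simp only [add_mul, mul_add, one_mul, mul_one, Matrix.vecMulVec_mul_vecMulVec, hdet,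
        zero_smul, Matrix.vecMulVec_zero, add_zero] at hsq
      rw [add_assoc, add_eq_left, ← two_smul F] at hsq
      refine (smul_eq_zero.mp hsq).resolve_right fun h0 => ha1 (Units.ext ?_)
      rw [hrank, h0, add_zero, Units.val_one]
    refine hci ?_
    set v := rv F₀ e
    rw [IsoR, hcol]
    have h3 := haf v v
    have h4 := haf ((a : Matrix ι ι F) *ᵥ v) v
    rw [Matrix.mulVec_mulVec, ← Units.val_mul, ha2, Units.val_one, Matrix.one_mulVec] at h4
    rw [frm_sub_left, frm_sub_right, frm_sub_right, h3, ← h4]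
    linear_combination (frm σ F₀ J v v - frm σ F₀ J v ((a : Matrix ι ι F) *ᵥ v)) * h2
  -- an isotropic rational vector fixed by `b`
  obtain ⟨x₁, y₁, hx₁, hxy, hbx, hby⟩ := exists_rat_fixed2 hbe (by
    rcases hbig with hn | h2
    · omega
    · have := fixedSp_two h2 hb2
      have := H.card
      omega)
  obtain ⟨s, t, hne, hiso⟩ := H.iso2 x₁ y₁ hx₁ hxy
  refine ratG_of H hN hLG h6 hC hg hw hw0 hiso hne ?_
  set x := rv F₀ (s • x₁ + t • y₁) with hxdef
  have hbx' : (b : Matrix ι ι F) *ᵥ x = x := by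
    rw [hxdef, rv_add, rv_smul, rv_smul, Matrix.mulVec_add, Matrix.mulVec_smul, Matrix.mulVec_smul,
      hbx, hby]
  rw [hcol, Matrix.mulVec_sub, Matrix.mulVec_mulVec, ← Units.val_mul, hab, Units.val_mul,
    ← Matrix.mulVec_mulVec, frm_sub_left]
  nth_rw 1 [← hbx']
  rw [(mem_spIso.mp (hLG hb)).1, sub_self]

include H hN hLG in
/-- In odd characteristic the norm of a coefficient of an image of a rational long root is rational. -/
theorem norm_coeff_mem [Finite F] {r : ℕ} (hro : Odd r) (hcard : Nat.card F = Nat.card F₀ ^ r)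
    (h2 : (2 : F) ≠ 0)
    (hA : ∀ (x : ι → F₀) (c : F), IsoR σ F₀ J x → x ≠ 0 → M[L, 0, rv F₀ x, c] → c ∈ F₀)
    {u : ι → F} (hu : M[L, 0, u, 1]) {x : ι → F₀}
    (hx : IsoR σ F₀ J x) : frm σ F₀ J u (rv F₀ x) * σ (frm σ F₀ J u (rv F₀ x)) ∈ F₀ := by
  by_contra hm
  set β := frm σ F₀ J u (rv F₀ x) with hβdef
  set lam := -(β * σ β) with hlam
  have hm' : lam ∉ F₀ := fun h => hm (by simpa [hlam] using F₀.neg_mem h)
  have hl0 : lam ≠ 0 := fun h => hm' (h ▸ F₀.zero_mem)
  have hβ0 : β ≠ 0 := fun h => hl0 (by rw [hlam, h, zero_mul, neg_zero])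
  have hx0 : x ≠ 0 := fun h => hβ0 (by rw [hβdef, h, rv_zero, frm_zero_right])
  have hσl : σ lam = lam := by rw [hlam, map_neg, map_mul, H.inv, mul_comm]
  have hxx : frm σ F₀ J (rv F₀ x) (rv F₀ x) = 0 := hx
  have hxu : frm σ F₀ J (rv F₀ x) u = lam / β := by
    rw [H.skew u, ← hβdef, hlam]; field_simp
  -- the matrices of the plane spanned by `u` and the rational centre
  let E := emat σ F₀ J
  let Φ : Matrix (Fin 2) (Fin 2) F → Matrix ι ι F := fun g =>
    1 + ((g 0 0 - 1) / β) • E u (rv F₀ x) + (g 0 1 / lam) • E u u +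
      g 1 0 • E (rv F₀ x) (rv F₀ x) + ((g 1 1 - 1) * β / lam) • E (rv F₀ x) u
  have hmul : ∀ g g', Φ g * Φ g' = Φ (g * g') := by
    intro g g'
    simp only [Φ, E, add_mul, mul_add, one_mul, mul_one, smul_mul_assoc, mul_smul_comm, emat_mul,
      hu.2.1, hxx, hxu, ← hβdef, zero_smul, smul_zero, add_zero, zero_add, smul_smul,
      Matrix.mul_apply, Fin.sum_univ_two]
    match_scalars <;> field_simp <;> ring
  obtain ⟨-, -, -, gu, hgu, hgue⟩ := hu
  obtain ⟨-, -, -, gx, hgx, hgxe⟩ := rat_long H hN x hx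
  let K : Subfield F := Subfield.closure {lam}
  let lam' : K := ⟨lam, Subfield.subset_closure rfl⟩
  haveI : Finite K := Finite.of_injective _ Subtype.val_injective
  haveI : Fintype K := Fintype.ofFinite K
  have hgen : Subfield.closure ({lam'} : Set K) = ⊤ := by
    have h : (Subfield.closure ({lam'} : Set K)).map K.subtype = K := by
      rw [K.subtype.map_field_closure, Set.image_singleton]; rfl
    refine eq_top_iff.mpr fun z _ => ?_
    have hz : (z : F) ∈ (Subfield.closure ({lam'} : Set K)).map K.subtype := by rw [h]; exact z.2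
    obtain ⟨w, hw, hwz⟩ := hz
    exact (Subtype.ext hwz : w = z) ▸ hw
  let coe' : Matrix.SpecialLinearGroup (Fin 2) K → Matrix (Fin 2) (Fin 2) F :=
    fun g => (g : Matrix (Fin 2) (Fin 2) K).map K.subtype
  let S : Subgroup (Matrix.SpecialLinearGroup (Fin 2) K) :=
    { carrier := {g | ∃ l ∈ L, (l : Matrix ι ι F) = Φ (coe' g)}
      one_mem' := ⟨1, L.one_mem, by simp [Φ, coe']⟩
      mul_mem' := fun {a b} ⟨l, hl, e⟩ ⟨l', hl', e'⟩ => ⟨l * l', L.mul_mem hl hl', by
        rw [Units.val_mul, e, e', hmul]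
        simp only [coe', Matrix.SpecialLinearGroup.coe_mul, Matrix.map_mul]⟩
      inv_mem' := fun {a} ⟨l, hl, e⟩ => ⟨l⁻¹, L.inv_mem hl, by
        refine Units.inv_eq_of_mul_eq_one_right ?_
        rw [e, hmul]
        simp only [coe', ← Matrix.map_mul, ← Matrix.SpecialLinearGroup.coe_mul, mul_inv_cancel]
        simp [Φ]⟩ }
  have hS : Subgroup.closure {g : Matrix.SpecialLinearGroup (Fin 2) K |
      (g : Matrix (Fin 2) (Fin 2) K) = !![1, 0; 1, 1] ∨
        (g : Matrix (Fin 2) (Fin 2) K) = !![1, lam'; 0, 1]} ≤ S := by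
    rw [Subgroup.closure_le]
    rintro g (hg | hg)
    · refine ⟨gx, hgx, ?_⟩
      rw [hgxe]
      simp [Φ, coe', E, hg, rootMat, emat_zero_left, emat_zero_right]
    · refine ⟨gu, hgu, ?_⟩
      rw [hgue]
      simp [Φ, coe', E, hg, lam', hl0, rootMat, emat_zero_left, emat_zero_right]
  have h2K : (2 : K) ≠ 0 := fun h => h2 (by
    have := congrArg K.subtype h
    rwa [map_ofNat, map_zero] at this)
  rcases Cfsg.Lib.Dickson.two_transvections h2K lam'
    (fun h => hl0 (congrArg Subtype.val h)) hgen with ⟨htop, -⟩ | ⟨-, hsq, -⟩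
  · let T : Matrix.SpecialLinearGroup (Fin 2) K :=
      ⟨!![1, 0; lam', 1], by simp [Matrix.det_fin_two]⟩
    obtain ⟨l, hl, hle⟩ : T ∈ S := hS (htop ▸ Subgroup.mem_top T)
    refine hm' (hA x lam hx hx0 ⟨frm_zero_left _, hxx, ?_, l, hl, ?_⟩)
    · rw [hσl, sub_self, frm_zero_left]
    · rw [hle]
      simp [Φ, coe', E, T, lam', rootMat, emat_zero_left, emat_zero_right]
  · -- a square root of `-1` lies in a subfield of odd index
    have h1 : lam ^ 2 = -1 := by
      have := congrArg K.subtype hsq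
      simpa [lam'] using this
    rcases mul_self_eq_mul_self_iff.mp (show frobRel F₀ lam * frobRel F₀ lam = lam * lam by
        rw [← map_mul, ← pow_two, h1, map_neg, map_one]) with h | h
    · exact hm' (mem_of_frobRel_eq F₀ h)
    have hit : ∀ k : ℕ, ((frobRel F₀) ^ k : F →+* F) lam = (-1) ^ k * lam := by
      intro k
      induction k with
      | zero => simp
      | succ k ih =>
        rw [pow_succ', RingHom.mul_def, RingHom.comp_apply, ih, map_mul, map_pow, map_neg, map_one, h]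
        ring
    have hr1 : ((frobRel F₀) ^ r : F →+* F) lam = lam := by
      letI := Fintype.ofFinite F₀
      letI := Fintype.ofFinite F
      have hpow : ∀ k : ℕ, ((frobRel F₀) ^ k : F →+* F) lam = lam ^ (Fintype.card F₀ ^ k) := by
        intro k
        induction k with
        | zero => simp
        | succ k ih =>
          rw [pow_succ', RingHom.mul_def, RingHom.comp_apply, ih, pow_succ, pow_mul]
          rfl
      rw [hpow, ← Nat.card_eq_fintype_card, ← hcard, Nat.card_eq_fintype_card, FiniteField.pow_card]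
    rw [hit, hro.neg_one_pow, neg_one_mul, neg_eq_iff_add_eq_zero, ← two_mul, mul_eq_zero] at hr1
    exact hr1.elim h2 hl0

include H in
/-- `σ` moves a rational scalar if the index is odd. -/
theorem exists_moved_scalar [Finite F] {r : ℕ} (hro : Odd r) (hcard : Nat.card F = Nat.card F₀ ^ r) :
    ∃ s : F₀, σ (s : F) ≠ s := by
  by_contra hc
  push Not at hc
  let g : F ≃ₐ[F₀] F := AlgEquiv.ofRingEquiv (f := RingEquiv.ofBijective σ
    (Finite.injective_iff_bijective.mp σ.injective)) fun s => hc s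
  have hg2 : g ^ 2 = 1 := AlgEquiv.ext fun x => H.inv x
  have hd : orderOf g ∣ r := by
    have h1 := orderOf_dvd_natCard g
    rw [IsGalois.card_aut_eq_finrank] at h1
    have h2 := Module.natCard_eq_pow_finrank (K := F₀) (V := F)
    rw [hcard] at h2
    rwa [← Nat.pow_right_injective Finite.one_lt_card h2] at h1
  have h1 : orderOf g ∣ 1 := (Nat.coprime_two_left.mpr hro).symm ▸
    (Nat.dvd_gcd hd (orderOf_dvd_of_pow_eq_one hg2))
  exact H.ne (RingHom.ext fun x => by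
    have := AlgEquiv.congr_fun (orderOf_eq_one_iff.mp (Nat.dvd_one.mp h1)) x
    exact this)

include H hN hLG in
/-- An image of a rational isotropic vector is perpendicular to a rational isotropic one. -/
theorem exists_perp_image (h6 : 6 ≤ Fintype.card ι) [Finite F] {r : ℕ} (hr : r.Prime) (hcard : Nat.card F = Nat.card F₀ ^ r)
    (h2 : (2 : F) ≠ 0) (hC : ¬CaseA σ F₀ J L) {g : GL ι F} (hg : g ∈ L) {c : ι → F₀}
    (hc : IsoR σ F₀ J c) : ∃ x : ι → F₀, x ≠ 0 ∧ IsoR σ F₀ J x ∧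
      frm σ F₀ J ((g : Matrix ι ι F) *ᵥ rv F₀ c) (rv F₀ x) = 0 := by
  set u := (g : Matrix ι ι F) *ᵥ rv F₀ c
  rcases hr.eq_two_or_odd' with rfl | hro
  · -- index two: the perpendicular rational vectors have codimension two
    let d : ι → F := fun i => σ ((u ᵥ* J.map F₀.subtype) i)
    let Φ : (ι → F₀) →ₗ[F₀] F :=
      { toFun := fun x => d ⬝ᵥ rv F₀ x
        map_add' := fun a b => by rw [rv_add, dotProduct_add]
        map_smul' := fun t a => by rw [rv_smul, dotProduct_smul]; rfl }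
    have h1 := LinearMap.finrank_range_add_finrank_ker Φ
    have h3 := Submodule.finrank_le (LinearMap.range Φ)
    rw [Module.finrank_fintype_fun_eq_card] at h1
    have hF : Module.finrank F₀ F = 2 := by
      have h2 := Module.natCard_eq_pow_finrank (K := F₀) (V := F)
      rw [hcard] at h2
      exact (Nat.pow_right_injective Finite.one_lt_card h2).symm
    obtain ⟨x, hxk, hx0, hxi⟩ := exists_iso_of_two H (LinearMap.ker Φ) (by have := H.card; omega)
    refine ⟨x, hx0, hxi, σ.injective ?_⟩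
    rw [map_zero, frm, cov, Matrix.dotProduct_mulVec, dotProduct, map_sum]
    have h : d ⬝ᵥ rv F₀ x = 0 := hxk
    rw [← h, dotProduct]
    exact Finset.sum_congr rfl fun i _ => by rw [map_mul, H.inv]
  by_contra hne
  push Not at hne
  have hroot : M[L, 0, u, 1] := by
    have h := Root.conj hLG hg (rat_long H hN c hc)
    rwa [Matrix.mulVec_zero] at h
  have hN' : ∀ x : ι → F₀, IsoR σ F₀ J x →
      frm σ F₀ J u (rv F₀ x) * σ (frm σ F₀ J u (rv F₀ x)) ∈ F₀ :=
    fun x hx => norm_coeff_mem H hN hLG hro hcard h2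
      (fun y c hy hy0 h => by_contra fun hc => hC (caseA_of_long H hN hLG h6 hy hy0 hc h)) hroot hx
  obtain ⟨x, hx, -, -, hx'⟩ := exists_fresh H h6 0 0
  have hx0 : x ≠ 0 := fun e => hx' 0 0 (by rw [e]; simp)
  obtain ⟨y, hy, hyx, -, hy'⟩ := exists_fresh H h6 x x
  set β := frm σ F₀ J u (rv F₀ x) with hβ
  set γ := frm σ F₀ J u (rv F₀ y) with hγ
  have hpoly : ∀ s : F₀, σ s * (γ * σ β) + s * (β * σ γ) ∈ F₀ := by
    intro s
    have hi : IsoR σ F₀ J (x + s • y) := by
      rw [IsoR, rv_add, rv_smul, frm_add_left, frm_add_right, frm_add_right, frm_smul_left,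
        frm_smul_left, frm_smul_right, frm_smul_right, show frm σ F₀ J (rv F₀ x) (rv F₀ x) = 0 from hx,
        show frm σ F₀ J (rv F₀ y) (rv F₀ y) = 0 from hy,
        show frm σ F₀ J (rv F₀ y) (rv F₀ x) = 0 from hyx,
        show frm σ F₀ J (rv F₀ x) (rv F₀ y) = 0 from hyx.symm H]
      simp
    have h := hN' _ hi
    rw [rv_add, rv_smul, frm_add_right, frm_smul_right, ← hβ, ← hγ, map_add, map_mul, H.inv] at h
    have h' := F₀.sub_mem (F₀.sub_mem h (hN' x hx))
      (F₀.mul_mem (F₀.mul_mem s.2 (H.mem _ s.2)) (hN' y hy))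
    rw [← hβ, ← hγ] at h'
    convert h' using 1
    ring
  obtain ⟨s₀, hs₀⟩ := exists_moved_scalar H hro hcard
  have hA : γ * σ β ∈ F₀ := by
    have h0 := hpoly 1
    rw [OneMemClass.coe_one, map_one, one_mul, one_mul] at h0
    have h1 := F₀.div_mem (F₀.sub_mem (hpoly s₀) (F₀.mul_mem s₀.2 h0))
      (F₀.sub_mem (H.mem _ s₀.2) s₀.2)
    convert h1 using 1
    rw [eq_div_iff (sub_ne_zero.mpr hs₀)]
    ring
  have hβ0 : β ≠ 0 := hne x hx0 hx
  let ρ : F₀ := ⟨γ * σ β / (β * σ β), F₀.div_mem hA (hN' x hx)⟩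
  let t : F₀ := ⟨σ ρ, H.mem _ ρ.2⟩
  refine hne (y - t • x) (fun e => hy' t 0 ?_) ?_ ?_
  · rw [zero_smul, add_zero]; exact sub_eq_zero.mp e
  · rw [IsoR, rv_sub, rv_smul, frm_sub_left, frm_sub_right, frm_sub_right, frm_smul_left,
      frm_smul_left, frm_smul_right, frm_smul_right, show frm σ F₀ J (rv F₀ x) (rv F₀ x) = 0 from hx,
      show frm σ F₀ J (rv F₀ y) (rv F₀ y) = 0 from hy,
      show frm σ F₀ J (rv F₀ y) (rv F₀ x) = 0 from hyx,
      show frm σ F₀ J (rv F₀ x) (rv F₀ y) = 0 from hyx.symm H]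
    simp
  · rw [rv_sub, rv_smul, frm_sub_right, frm_smul_right, ← hβ, ← hγ]
    have hσβ : σ β ≠ 0 := by simpa using hβ0
    simp only [t, ρ, H.inv]
    field_simp
    ring

include H in
theorem exists_pair (h6 : 6 ≤ Fintype.card ι) [Finite F] :
    ∃ j k : GL ι F, j ∈ ratIso σ F₀ J ∧ k ∈ ratIso σ F₀ J ∧ RatInvol F₀ j 2 ∧ RatInvol F₀ k 4 ∧
      (∀ C : GL ι F, k ≠ C * j * C⁻¹) ∧ ((2 : F) = 0 ∨ ∃ x y : ι → F₀, x ≠ 0 ∧ y ≠ 0 ∧
        (j : Matrix ι ι F) *ᵥ rv F₀ x = -rv F₀ x ∧ (k : Matrix ι ι F) *ᵥ rv F₀ y = -rv F₀ y) := by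
  obtain ⟨e, hie, -, -, he'⟩ := exists_fresh H h6 0 0
  have he : e ≠ 0 := fun h => he' 0 0 (by rw [h]; simp)
  obtain ⟨e', hie', g1, -, -⟩ := exists_iso_pair H h6 (x := e) (y := 0) (w := 0)
    (fun a b h => he (by rw [h]; simp))
  obtain ⟨d, hid, d1, d2, d3⟩ := exists_fresh H h6 e e'
  have hdn : d ≠ 0 := fun h => d3 0 0 (by rw [h]; simp)
  obtain ⟨d', hid', g2, g5, g6⟩ := exists_iso_pair H h6 (x := d) (y := e) (w := e')
    (fun a b h => d3 a b h)
  have g3 : frm σ F₀ J (rv F₀ d) (rv F₀ e) = 0 := d1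
  have g4 : frm σ F₀ J (rv F₀ d) (rv F₀ e') = 0 := d2
  have g3' : frm σ F₀ J (rv F₀ e) (rv F₀ d) = 0 := d1.symm H
  have g4' : frm σ F₀ J (rv F₀ e') (rv F₀ d) = 0 := d2.symm H
  have g5' : frm σ F₀ J (rv F₀ e) (rv F₀ d') = 0 := g5.symm H
  have g6' : frm σ F₀ J (rv F₀ e') (rv F₀ d') = 0 := g6.symm H
  change frm σ F₀ J (rv F₀ d') (rv F₀ e) = 0 at g5
  change frm σ F₀ J (rv F₀ d') (rv F₀ e') = 0 at g6
  have g1' : frm σ F₀ J (rv F₀ e') (rv F₀ e) = -1 := by rw [H.skew, g1, map_one]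
  have g2' : frm σ F₀ J (rv F₀ d') (rv F₀ d) = -1 := by rw [H.skew, g2, map_one]
  have hee : frm σ F₀ J (rv F₀ e) (rv F₀ e) = 0 := hie
  have hee' : frm σ F₀ J (rv F₀ e') (rv F₀ e') = 0 := hie'
  have hdd : frm σ F₀ J (rv F₀ d) (rv F₀ d) = 0 := hid
  have hdd' : frm σ F₀ J (rv F₀ d') (rv F₀ d') = 0 := hid'
  have hEr : ∀ (x y : ι → F₀) a b, emat σ F₀ J (rv F₀ x) (rv F₀ y) a b ∈ F₀ := fun x y a b => by
    rw [emat, Matrix.vecMulVec_apply]
    exact F₀.mul_mem (x a).2 (cov_rv_mem H y b)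
  have h1r : ∀ a b, (1 : Matrix ι ι F) a b ∈ F₀ := fun a b => by
    rw [Matrix.one_apply]
    split_ifs
    · exact F₀.one_mem
    · exact F₀.zero_mem
  have mk : ∀ g : GL ι F, g ∈ spIso σ F₀ J → (∀ a b, (g : Matrix ι ι F) a b ∈ F₀) →
      g ∈ ratIso σ F₀ J := fun g hg hr => Subgroup.mem_inf.mpr ⟨(mem_subfieldSubgroup_one F₀ _).mpr
      ⟨1, one_ne_zero, fun a b => by rw [one_mul]; exact hr a b⟩, hg⟩
  have fixed_rank : ∀ {g : GL ι F} {m : ℕ} (B : Matrix (Fin m) ι F),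
      (∀ v, B *ᵥ v = 0 → (g : Matrix ι ι F) *ᵥ v = v) →
      Fintype.card ι ≤ Module.finrank F (fixedSp g) + m := by
    intro g m B h
    have h1 := LinearMap.finrank_range_add_finrank_ker (Matrix.mulVecLin B)
    have h2 := Submodule.finrank_le (LinearMap.range (Matrix.mulVecLin B))
    rw [Module.finrank_fintype_fun_eq_card] at h1
    rw [Module.finrank_fin_fun] at h2
    have h3 := Submodule.finrank_mono (show LinearMap.ker (Matrix.mulVecLin B) ≤ fixedSp g from
      fun v hv => (mem_fixedSp g v).mpr (h v (LinearMap.mem_ker.mp hv)))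
    omega
  by_cases h2 : (2 : F) = 0
  · have h11 : (1 : F) + 1 = 0 := by rw [one_add_one_eq_two, h2]
    let j := rootU H 0 (rv F₀ e) 1 (frm_zero_left _) hee
    let k := j * rootU H 0 (rv F₀ d) 1 (frm_zero_left _) hdd
    have hj : (j : Matrix ι ι F) = 1 + emat σ F₀ J (rv F₀ e) (rv F₀ e) := by
      simp [j, coe_rootU, rootMat, emat_zero_left, emat_zero_right]
    have hk : (k : Matrix ι ι F) =
        1 + emat σ F₀ J (rv F₀ e) (rv F₀ e) + emat σ F₀ J (rv F₀ d) (rv F₀ d) := by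
      rw [show k = j * rootU H 0 (rv F₀ d) 1 (frm_zero_left _) hdd from rfl, Units.val_mul, hj, coe_rootU,
        rootMat]
      simp [emat_zero_left, emat_zero_right, add_mul, mul_add, emat_mul, g3]
    have hjG : j ∈ spIso σ F₀ J := rootU_mem H _ _ _ _ _ (by rw [map_one, sub_self, frm_zero_left])
    have hkG : k ∈ spIso σ F₀ J := Subgroup.mul_mem _ hjG (rootU_mem H _ _ _ _ _ (by rw [map_one, sub_self, frm_zero_left]))
    have hjr : ∀ a b, (j : Matrix ι ι F) a b ∈ F₀ := fun a b => by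
      rw [hj]; exact F₀.add_mem (h1r a b) (hEr e e a b)
    have hkr : ∀ a b, (k : Matrix ι ι F) a b ∈ F₀ := fun a b => by
      rw [hk]; exact F₀.add_mem (F₀.add_mem (h1r a b) (hEr e e a b)) (hEr d d a b)
    have hjv : ∀ v, (j : Matrix ι ι F) *ᵥ v = v + frm σ F₀ J v (rv F₀ e) • rv F₀ e := fun v => by
      rw [hj, Matrix.add_mulVec, Matrix.one_mulVec, emat_mulVec]
    have hkv : ∀ v, (k : Matrix ι ι F) *ᵥ v =
        v + frm σ F₀ J v (rv F₀ e) • rv F₀ e + frm σ F₀ J v (rv F₀ d) • rv F₀ d := fun v => by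
      rw [hk, Matrix.add_mulVec, Matrix.add_mulVec, Matrix.one_mulVec, emat_mulVec, emat_mulVec]
    have sq : ∀ X : Matrix ι ι F, X * X = 0 → (1 + X) * (1 + X) = 1 := fun X hX => by
      simp only [add_mul, mul_add, one_mul, mul_one, hX, add_zero]
      rw [add_assoc, ← one_smul F X, ← add_smul, h11, zero_smul, add_zero]
    refine ⟨j, k, mk j hjG hjr, mk k hkG hkr, ⟨hjr, ?_, ?_, ?_⟩, ⟨hkr, ?_, ?_, ?_⟩, ?_, Or.inl h2⟩
    · refine Units.ext ?_
      rw [Units.val_mul, hj, sq _ (by rw [emat_mul, hee, zero_smul]), Units.val_one]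
    · intro h
      have := hjv (rv F₀ e')
      rw [h, Units.val_one, Matrix.one_mulVec, g1', left_eq_add, smul_eq_zero] at this
      exact this.elim (neg_ne_zero.mpr one_ne_zero) (rv_ne_zero F₀ he)
    · refine fixed_rank (Matrix.of ![cov σ F₀ J (rv F₀ e), cov σ F₀ J (rv F₀ e)]) fun v hv => ?_
      have h0 : frm σ F₀ J v (rv F₀ e) = 0 := (dotProduct_comm _ _).trans (congrFun hv 0)
      rw [hjv, h0, zero_smul, add_zero]
    · refine Units.ext ?_
      rw [Units.val_mul, hk, add_assoc, sq _ (by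
        simp [add_mul, mul_add, emat_mul, hee, hdd, g3, g3']), Units.val_one]
    · intro h
      have := hkv (rv F₀ e')
      rw [h, Units.val_one, Matrix.one_mulVec, g1', g4', zero_smul, add_zero, left_eq_add,
        smul_eq_zero] at this
      exact this.elim (neg_ne_zero.mpr one_ne_zero) (rv_ne_zero F₀ he)
    · refine fixed_rank (Matrix.of ![cov σ F₀ J (rv F₀ e), cov σ F₀ J (rv F₀ d), cov σ F₀ J (rv F₀ e),
        cov σ F₀ J (rv F₀ d)]) fun v hv => ?_
      have h0 : frm σ F₀ J v (rv F₀ e) = 0 := (dotProduct_comm _ _).trans (congrFun hv 0)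
      have h0' : frm σ F₀ J v (rv F₀ d) = 0 := (dotProduct_comm _ _).trans (congrFun hv 1)
      rw [hkv, h0, h0', zero_smul, add_zero, zero_smul, add_zero]
    · intro C hC
      set u := (C : Matrix ι ι F) *ᵥ rv F₀ e
      have hi : ∀ v, ∃ t : F, (k : Matrix ι ι F) *ᵥ v = v + t • u := fun v => by
        refine ⟨frm σ F₀ J (((C⁻¹ : GL ι F) : Matrix ι ι F) *ᵥ v) (rv F₀ e), ?_⟩
        rw [hC, Units.val_mul, Units.val_mul, ← Matrix.mulVec_mulVec, ← Matrix.mulVec_mulVec, hjv,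
          Matrix.mulVec_add, Matrix.mulVec_smul, Matrix.mulVec_mulVec, ← Units.val_mul,
          mul_inv_cancel, Units.val_one, Matrix.one_mulVec]
      obtain ⟨s, hs⟩ := hi (rv F₀ e')
      obtain ⟨t, ht⟩ := hi (rv F₀ d')
      rw [hkv, g1', g4', zero_smul, add_zero] at hs
      rw [hkv, g5, g2', zero_smul, add_zero] at ht
      have hs' := add_left_cancel hs
      have ht' := add_left_cancel ht
      have hzero := congrArg (fun v => frm σ F₀ J v (rv F₀ e')) ht'
      have hone := congrArg (fun v => frm σ F₀ J v (rv F₀ e')) hs'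
      simp only [frm_smul_left, g1, g4] at hzero hone
      have hu : frm σ F₀ J u (rv F₀ e') ≠ 0 := fun h => by
        rw [h, mul_zero, mul_one] at hone
        exact one_ne_zero (neg_eq_zero.mp hone)
      rw [mul_zero] at hzero
      rw [(mul_eq_zero.mp hzero.symm).resolve_right hu, zero_smul, smul_eq_zero] at ht'
      exact ht'.elim (neg_ne_zero.mpr one_ne_zero) (rv_ne_zero F₀ hdn)
  · let P : Matrix ι ι F := emat σ F₀ J (rv F₀ e) (rv F₀ e') - emat σ F₀ J (rv F₀ e') (rv F₀ e)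
    let Q : Matrix ι ι F := emat σ F₀ J (rv F₀ d) (rv F₀ d') - emat σ F₀ J (rv F₀ d') (rv F₀ d)
    have hPP : P * P = P := by
      simp [P, sub_mul, mul_sub, emat_mul, g1, g1', hee, hee']
    have hQQ : Q * Q = Q := by
      simp [Q, sub_mul, mul_sub, emat_mul, g2, g2', hdd, hdd']
    have hPQ : P * Q = 0 := by simp [P, Q, sub_mul, mul_sub, emat_mul, g3, g4, g5, g6]
    have hQP : Q * P = 0 := by simp [P, Q, sub_mul, mul_sub, emat_mul, g3', g4', g5', g6']
    have inv2 : ∀ X : Matrix ι ι F, X * X = X → (1 - (2 : F) • X) * (1 - (2 : F) • X) = 1 := by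
      intro X hX
      simp only [sub_mul, mul_sub, one_mul, mul_one, smul_mul_smul_comm, hX]
      module
    let j : GL ι F := ⟨1 - (2 : F) • P, 1 - (2 : F) • P, inv2 P hPP, inv2 P hPP⟩
    let j' : GL ι F := ⟨1 - (2 : F) • Q, 1 - (2 : F) • Q, inv2 Q hQQ, inv2 Q hQQ⟩
    have hPQ' : (P + Q) * (P + Q) = P + Q := by
      simp [add_mul, mul_add, hPP, hQQ, hPQ, hQP]
    let k := j * j'
    have hk : (k : Matrix ι ι F) = 1 - (2 : F) • (P + Q) := by
      show (1 - (2 : F) • P) * (1 - (2 : F) • Q) = _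
      simp only [sub_mul, mul_sub, one_mul, mul_one, smul_mul_smul_comm, hPQ, smul_zero, sub_zero,
        smul_add]
      abel
    have refl : ∀ (x y : ι → F), frm σ F₀ J x y = 1 → frm σ F₀ J y x = -1 →
        frm σ F₀ J x x = 0 → frm σ F₀ J y y = 0 →
        (∀ u v, frm σ F₀ J ((1 - (2 : F) • (emat σ F₀ J x y - emat σ F₀ J y x)) *ᵥ u)
          ((1 - (2 : F) • (emat σ F₀ J x y - emat σ F₀ J y x)) *ᵥ v) = frm σ F₀ J u v) ∧
        (1 - (2 : F) • (emat σ F₀ J x y - emat σ F₀ J y x)).det = 1 := by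
      intro x y h h' hx hy
      refine ⟨fun u v => ?_, ?_⟩
      · simp only [Matrix.sub_mulVec, Matrix.one_mulVec, Matrix.smul_mulVec, emat_mulVec, smul_sub,
          smul_smul]
        simp only [frm_sub_left, frm_sub_right, frm_smul_left, frm_smul_right, h, h', hx, hy,
          map_mul, map_ofNat, H.skew v x, H.skew v y]
        ring
      · let U : Matrix ι (Fin 2) F := Matrix.of fun i j => ![x i, y i] j
        let V : Matrix (Fin 2) ι F :=
          Matrix.of ![(-2 : F) • cov σ F₀ J y, (2 : F) • cov σ F₀ J x]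
        have e : 1 - (2 : F) • (emat σ F₀ J x y - emat σ F₀ J y x) = 1 + U * V := by
          ext i j
          simp [emat, U, V, Matrix.vecMulVec_apply, Matrix.mul_apply, Fin.sum_univ_two]
          ring
        have hrow : ∀ v w : ι → F, ∑ i, cov σ F₀ J v i * w i = frm σ F₀ J w v := fun v w => by
          rw [frm, dotProduct_comm]; rfl
        have e00 : (V * U) 0 0 = -2 := by
          simp [U, V, Matrix.mul_apply, mul_assoc, ← Finset.mul_sum, hrow, h]
        have e01 : (V * U) 0 1 = 0 := by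
          simp [U, V, Matrix.mul_apply, mul_assoc, ← Finset.mul_sum, hrow, hy]
        have e11 : (V * U) 1 1 = -2 := by
          simp [U, V, Matrix.mul_apply, mul_assoc, ← Finset.mul_sum, hrow, h']
        rw [e, Matrix.det_one_add_mul_comm, Matrix.det_fin_two]
        simp [e00, e01, e11]
        ring
    have hjG : j ∈ spIso σ F₀ J := mem_spIso.mpr (refl _ _ g1 g1' hee hee')
    have hj'G : j' ∈ spIso σ F₀ J := mem_spIso.mpr (refl _ _ g2 g2' hdd hdd')
    have hkG : k ∈ spIso σ F₀ J := Subgroup.mul_mem _ hjG hj'G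
    have h2r : (2 : F) ∈ F₀ := by rw [← one_add_one_eq_two]; exact F₀.add_mem F₀.one_mem F₀.one_mem
    have hjr : ∀ a b, (j : Matrix ι ι F) a b ∈ F₀ := fun a b =>
      F₀.sub_mem (h1r a b) (F₀.mul_mem h2r (F₀.sub_mem (hEr e e' a b) (hEr e' e a b)))
    have hkr : ∀ a b, (k : Matrix ι ι F) a b ∈ F₀ := fun a b => by
      rw [hk]
      exact F₀.sub_mem (h1r a b) (F₀.mul_mem h2r (F₀.add_mem
        (F₀.sub_mem (hEr e e' a b) (hEr e' e a b)) (F₀.sub_mem (hEr d d' a b) (hEr d' d a b))))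
    have htrE : ∀ x y : ι → F, (emat σ F₀ J x y).trace = frm σ F₀ J x y := fun x y => by
      simp [emat, Matrix.trace_vecMulVec, frm]
    have htP : P.trace = 2 := by simp [P, htrE, g1, g1']; norm_num
    have htQ : Q.trace = 2 := by simp [Q, htrE, g2, g2']; norm_num
    refine ⟨j, k, mk j hjG hjr, mk k hkG hkr, ⟨hjr, ?_, ?_, ?_⟩, ⟨hkr, ?_, ?_, ?_⟩, ?_,
      Or.inr ⟨e, d, he, hdn, ?_, ?_⟩⟩
    rotate_right
    rotate_right
    · show (1 - (2 : F) • P) *ᵥ rv F₀ e = -rv F₀ e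
      simp [P, Matrix.sub_mulVec, Matrix.smul_mulVec, emat_mulVec, g1, hee]
      module
    rotate_left
    rotate_right
    · rw [hk]
      simp [P, Q, Matrix.sub_mulVec, Matrix.smul_mulVec, Matrix.add_mulVec, emat_mulVec, g3, g4, g2, hdd]
      module
    · exact Units.ext (inv2 P hPP)
    · intro h
      have hh : (j : Matrix ι ι F).trace = (1 : Matrix ι ι F).trace := by rw [h, Units.val_one]
      change (1 - (2 : F) • P).trace = _ at hh
      rw [Matrix.trace_sub, Matrix.trace_smul, htP, smul_eq_mul, sub_eq_self] at hh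
      exact h2 (mul_self_eq_zero.mp hh)
    · refine fixed_rank (Matrix.of ![cov σ F₀ J (rv F₀ e), cov σ F₀ J (rv F₀ e')]) fun v hv => ?_
      have h0 : frm σ F₀ J v (rv F₀ e) = 0 := (dotProduct_comm _ _).trans (congrFun hv 0)
      have h0' : frm σ F₀ J v (rv F₀ e') = 0 := (dotProduct_comm _ _).trans (congrFun hv 1)
      show (1 - (2 : F) • P) *ᵥ v = v
      simp [P, Matrix.sub_mulVec, Matrix.smul_mulVec, emat_mulVec, h0, h0']
    · refine Units.ext ?_
      rw [Units.val_mul, hk, inv2 _ hPQ', Units.val_one]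
    · intro h
      have hh := congrArg (fun g : GL ι F => ((g : Matrix ι ι F) * P).trace) h
      simp only [hk, Units.val_one, one_mul, sub_mul, smul_mul_assoc, add_mul, hPP, hQP, add_zero,
        Matrix.trace_sub, Matrix.trace_smul, htP, smul_eq_mul, sub_eq_self] at hh
      exact h2 (mul_self_eq_zero.mp hh)
    · refine fixed_rank (Matrix.of ![cov σ F₀ J (rv F₀ e), cov σ F₀ J (rv F₀ e'), cov σ F₀ J (rv F₀ d),
        cov σ F₀ J (rv F₀ d')]) fun v hv => ?_
      have h0 : frm σ F₀ J v (rv F₀ e) = 0 := (dotProduct_comm _ _).trans (congrFun hv 0)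
      have h0' : frm σ F₀ J v (rv F₀ e') = 0 := (dotProduct_comm _ _).trans (congrFun hv 1)
      have h0'' : frm σ F₀ J v (rv F₀ d) = 0 := (dotProduct_comm _ _).trans (congrFun hv 2)
      have h0d : frm σ F₀ J v (rv F₀ d') = 0 := (dotProduct_comm _ _).trans (congrFun hv 3)
      rw [hk]
      simp [P, Q, Matrix.sub_mulVec, Matrix.smul_mulVec, Matrix.add_mulVec, emat_mulVec, h0, h0',
        h0'', h0d]
    · intro C hC
      have h := congrArg (fun x : GL ι F => (x : Matrix ι ι F).trace) hC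
      rw [hk, Units.val_mul, Units.val_mul, Matrix.trace_units_conj] at h
      change _ = (1 - (2 : F) • P).trace at h
      rw [Matrix.trace_sub, Matrix.trace_sub, Matrix.trace_smul, Matrix.trace_smul,
        Matrix.trace_add, htP, htQ, smul_eq_mul, smul_eq_mul] at h
      exact h2 (mul_self_eq_zero.mp (by linear_combination -h))

end Rational

/-- The rational part is maximal in the special isometry group. -/
theorem maximal [Finite F] (H : SubHyp σ F₀ J) (h6 : 6 ≤ Fintype.card ι) {r : ℕ} (hr : r.Prime)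
    (hcard : Nat.card F = Nat.card F₀ ^ r) :
    Cfsg.Geo.IsMaximalIn (spIso σ F₀ J) (ratIso σ F₀ J) := by
  refine ⟨lt_of_le_of_ne inf_le_right fun e => ?_, fun L hN hLG => ?_⟩
  · obtain ⟨s, hs⟩ : ∃ s : F, s ∉ F₀ := by
      by_contra hc
      push Not at hc
      have : Nat.card F₀ = Nat.card F := Nat.card_congr (Equiv.subtypeUnivEquiv hc)
      rw [this] at hcard
      exact hr.ne_one (Nat.pow_right_injective (Finite.one_lt_card (α := F)) (a₁ := 1) (a₂ := r)
        (by simpa using hcard)).symm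
    obtain ⟨y, hy, -, -, hy'⟩ := exists_fresh H h6 0 0
    have hy0 : y ≠ 0 := fun h => hy' 0 0 (by rw [h]; simp)
    obtain ⟨x, hx, hxy, -, hx'⟩ := exists_fresh H h6 y y
    have hx0 : x ≠ 0 := fun h => hx' 0 0 (by rw [h]; simp)
    have hyx : ∀ t : F₀, y ≠ t • x := fun t h => by
      rcases eq_or_ne t 0 with rfl | ht
      · exact hy0 (by rw [h, zero_smul])
      · exact hx' t⁻¹ 0 (by rw [h, smul_smul, inv_mul_cancel₀ ht]; simp)
    obtain ⟨p, -, hyp, hpx, -⟩ := exists_iso_pair H h6 (x := y) (y := x) (w := x)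
      (fun a b h => hyx (a + b) (by rw [h, add_smul]))
    have hpy : frm σ F₀ J (rv F₀ p) (rv F₀ y) = -1 := by rw [H.skew, hyp, map_one]
    have h : frm σ F₀ J (s • rv F₀ x) (rv F₀ y) = 0 := by
      rw [frm_smul_left, show frm σ F₀ J (rv F₀ x) (rv F₀ y) = 0 from hxy, mul_zero]
    have hl : (0 : F) - σ 0 = frm σ F₀ J (s • rv F₀ x) (s • rv F₀ x) := by
      rw [map_zero, sub_zero, frm_smul_left, frm_smul_right,
        show frm σ F₀ J (rv F₀ x) (rv F₀ x) = 0 from hx, mul_zero, mul_zero]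
    have hm : rootU H _ _ 0 h hy ∈ ratIso σ F₀ J := by rw [e]; exact rootU_mem H _ _ _ h hy hl
    obtain ⟨c, hc, hrat⟩ := (mem_subfieldSubgroup_one F₀ _).mp hm.1
    have himg : ∀ z : ι → F₀, ∀ i,
        c * (rootMat σ F₀ J (s • rv F₀ x) (rv F₀ y) 0 *ᵥ rv F₀ z) i ∈ F₀ := fun z i => by
      rw [Matrix.mulVec, dotProduct, Finset.mul_sum]
      exact F₀.sum_mem fun j _ => by rw [← mul_assoc]; exact F₀.mul_mem (hrat i j) (z j).2
    obtain ⟨i, hi⟩ := Function.ne_iff.mp hx0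
    have hxi : (x i : F) ≠ 0 := fun h => hi (Subtype.ext h)
    have hcm : c ∈ F₀ := by
      have h1 := himg x i
      rw [root_mulVec, show frm σ F₀ J (rv F₀ x) (rv F₀ y) = 0 from hxy, frm_smul_right,
        show frm σ F₀ J (rv F₀ x) (rv F₀ x) = 0 from hx] at h1
      simp only [zero_smul, mul_zero, add_zero] at h1
      have h2 := F₀.div_mem h1 (x i).2
      rwa [show (rv F₀ x) i = (x i : F) from rfl, mul_div_cancel_right₀ _ hxi] at h2
    have h1 := himg p i
    rw [root_mulVec, hpy, frm_smul_right,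
      show frm σ F₀ J (rv F₀ p) (rv F₀ x) = 0 from hpx] at h1
    simp only [zero_smul, mul_zero, zero_mul, add_zero, Pi.add_apply, Pi.smul_apply, smul_eq_mul,
      Pi.zero_apply, rv] at h1
    apply hs
    have h2 := F₀.div_mem (F₀.sub_mem (F₀.mul_mem hcm (p i).2) h1) (F₀.mul_mem hcm (x i).2)
    convert h2 using 1
    field_simp
    ring
  · by_cases hC : CaseA σ F₀ J L
    · exact Or.inr (le_antisymm hLG (caseA_full H hN hLG h6 hr hcard hC))
    · refine Or.inl (le_antisymm (fun g hg => Subgroup.mem_inf.mpr ⟨?_, hLG hg⟩) hN)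
      have hι : Nonempty ι := Fintype.card_pos_iff.mp (by have := H.card; omega)
      by_cases hbig : 10 ≤ Fintype.card ι ∨ (2 : F) = 0
      · obtain ⟨j, k, hj, hk, hj', hk', hne, hx⟩ := exists_pair H h6
        refine (mem_subfieldSubgroup_one F₀ g).mpr (ratG_of_involutions''' ?_ (hN hj) (hN hk) hj' hk'
          (fun C _ => hne C) (fun g hg a ha b hb har hbr hab _ =>
            hfail H hN hLG h6 hC hbig hg ha hb har hbr hab) hg)
        by_cases h2 : (2 : F) = 0
        · exact Or.inr (Or.inr (Or.inr (Or.inr ⟨h2, hι⟩)))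
        have hcard' := hbig.resolve_right h2
        rcases Nat.lt_or_ge (Fintype.card ι) 12 with hlt | hge
        · rcases Nat.even_or_odd (Fintype.card ι) with he | ho
          · refine Or.inr (Or.inr (Or.inr (Or.inl ⟨h2, fun w hw hw2 he' => ?_⟩)))
            obtain ⟨m, hm⟩ := even_moved h2 hw2 (mem_spIso.mp (hLG hw)).2
            obtain ⟨l, hl⟩ := he
            omega
          · exact Or.inr (Or.inl ho)
        · exact Or.inr (Or.inr (Or.inl ⟨by omega, h2, hx.resolve_left h2⟩))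
      · push Not at hbig
        obtain ⟨c, hc, -, -, hc'⟩ := exists_fresh H h6 0 0
        obtain ⟨x, hx0, hx, he⟩ := exists_perp_image H hN hLG h6 hr hcard hbig.2 hC hg hc
        exact (mem_subfieldSubgroup_one F₀ g).mpr (ratG_of H hN hLG h6 hC hg hc
          (fun e => hc' 0 0 (by rw [e]; simp)) hx hx0 he)

end Cfsg.Lib.Linear.SubU
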