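import Mathlib

/-!
# Counting subspaces over a finite field
-/

set_option autoImplicit false

universe u v

namespace Cfsg.Lib.Linear.SubCount

open Module Finset

variable {F : Type u} [Field F] [Fintype F] {V : Type v} [AddCommGroup V] [Module F V] [Finite V]

theorem card_mul {m : ℕ} (hm : m ≤ finrank F V) :
    Nat.card {W : Submodule F V // finrank F W = m} * ∏ i ∈ range m, (Fintype.card F ^ (m - i) - 1) =
      ∏ i ∈ range m, (Fintype.card F ^ (finrank F V - i) - 1) := by
  classical
  haveI := Module.Finite.of_finite (R := F) (M := V)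
  have hW : ∀ W : {W : Submodule F V // finrank F W = m},
      Nat.card {s : Fin m → W.1 // LinearIndependent F s} = ∏ i : Fin m, (Fintype.card F ^ m - Fintype.card F ^ i.val) := by
    intro W
    rw [card_linearIndependent W.2.ge, W.2]
  let φ : (Σ W : {W : Submodule F V // finrank F W = m}, {s : Fin m → W.1 // LinearIndependent F s}) →
      {s : Fin m → V // LinearIndependent F s} := fun z =>
    ⟨fun i => (z.2.1 i : V), z.2.2.map' z.1.1.subtype z.1.1.ker_subtype⟩
  have hspan : ∀ z, Submodule.span F (Set.range (φ z).1) = z.1.1 := fun z => by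
    refine Submodule.eq_of_le_of_finrank_eq (Submodule.span_le.2 ?_) ?_
    · rintro _ ⟨i, rfl⟩
      exact (z.2.1 i).2
    · rw [finrank_span_eq_card (φ z).2, Fintype.card_fin, z.1.2]
  have hφ : Function.Bijective φ := by
    constructor
    · intro z z' h
      have h1 : z.1 = z'.1 := Subtype.ext (by rw [← hspan z, ← hspan z', h])
      obtain ⟨W, s⟩ := z
      obtain ⟨W', s'⟩ := z'
      subst h1
      exact congrArg (Sigma.mk W) (Subtype.ext (funext fun i => Subtype.ext (congrFun (congrArg Subtype.val h) i)))
    · intro s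
      let W : {W : Submodule F V // finrank F W = m} :=
        ⟨Submodule.span F (Set.range s.1), by rw [finrank_span_eq_card s.2, Fintype.card_fin]⟩
      exact ⟨⟨W, fun i => ⟨s.1 i, Submodule.subset_span ⟨i, rfl⟩⟩, LinearIndependent.of_comp W.1.subtype s.2⟩,
        Subtype.ext rfl⟩
  have h := Nat.card_eq_of_bijective φ hφ
  haveI : Finite {W : Submodule F V // finrank F W = m} := Subtype.finite
  letI := Fintype.ofFinite {W : Submodule F V // finrank F W = m}
  rw [Nat.card_sigma, Finset.sum_congr rfl fun W _ => hW W, Finset.sum_const, smul_eq_mul, Finset.card_univ,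
    ← Nat.card_eq_fintype_card, card_linearIndependent hm, Fin.prod_univ_eq_prod_range (fun i => Fintype.card F ^ m - Fintype.card F ^ i) m,
    Fin.prod_univ_eq_prod_range (fun i => Fintype.card F ^ finrank F V - Fintype.card F ^ i) m] at h
  have key : ∀ N, m ≤ N → ∏ i ∈ range m, (Fintype.card F ^ N - Fintype.card F ^ i) =
      (∏ i ∈ range m, Fintype.card F ^ i) * ∏ i ∈ range m, (Fintype.card F ^ (N - i) - 1) := by
    intro N hN
    rw [← Finset.prod_mul_distrib]
    refine Finset.prod_congr rfl fun i hi => ?_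
    rw [Finset.mem_range] at hi
    rw [Nat.mul_sub, mul_one, ← pow_add, show i + (N - i) = N by omega]
  rw [key m le_rfl, key _ hm, mul_left_comm] at h
  exact Nat.eq_of_mul_eq_mul_left (Finset.prod_pos fun i _ => pow_pos Fintype.card_pos _) h

/-- The characteristic does not divide the number of subspaces. -/
theorem not_dvd_card {p : ℕ} [Fact p.Prime] (hp : p ∣ Fintype.card F) {m : ℕ} (hm : m ≤ finrank F V) :
    ¬ p ∣ Nat.card {W : Submodule F V // finrank F W = m} := fun hd => by
  have h := congrArg (Nat.cast : ℕ → ZMod p) (card_mul (V := V) hm)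
  have hq : (Fintype.card F : ZMod p) = 0 := (ZMod.natCast_eq_zero_iff _ _).2 hp
  have key : ∀ N, m ≤ N → ((∏ i ∈ range m, (Fintype.card F ^ (N - i) - 1) : ℕ) : ZMod p) = (-1) ^ m := by
    intro N hN
    rw [Nat.cast_prod, Finset.prod_congr rfl (g := fun _ => (-1 : ZMod p)), Finset.prod_const, Finset.card_range]
    intro i hi
    rw [Finset.mem_range] at hi
    rw [Nat.cast_sub (Nat.one_le_pow _ _ Fintype.card_pos), Nat.cast_pow, hq, zero_pow (by omega), Nat.cast_one, zero_sub]
  rw [Nat.cast_mul, key m le_rfl, key _ hm, (ZMod.natCast_eq_zero_iff _ _).2 hd, zero_mul] at h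
  exact pow_ne_zero m (neg_ne_zero.2 one_ne_zero) h.symm

theorem mod_lt_of_dvd_card {r : ℕ} [Fact r.Prime] {m : ℕ} (hm : m ≤ finrank F V)
    (hd : r ∣ Nat.card {W : Submodule F V // finrank F W = m}) :
    finrank F V % orderOf (Fintype.card F : ZMod r) < m := by
  have h : r ∣ ∏ i ∈ range m, (Fintype.card F ^ (finrank F V - i) - 1) := card_mul (V := V) hm ▸ hd.mul_right _
  obtain ⟨i, hi, hr⟩ := ((Fact.out : r.Prime).prime.dvd_finsetProd_iff _).1 h
  rw [Finset.mem_range] at hi
  have h1 : orderOf (Fintype.card F : ZMod r) ∣ finrank F V - i := by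
    refine orderOf_dvd_of_pow_eq_one ?_
    have h2 := (ZMod.natCast_eq_zero_iff _ _).2 hr
    rwa [Nat.cast_sub (Nat.one_le_pow _ _ Fintype.card_pos), Nat.cast_pow, Nat.cast_one, sub_eq_zero] at h2
  obtain ⟨j, hj⟩ := h1
  have h2 : finrank F V = i + orderOf (Fintype.card F : ZMod r) * j := by omega
  rw [h2, Nat.add_mul_mod_self_left]
  exact lt_of_le_of_lt (Nat.mod_le _ _) hi

theorem finrank_map_mkQ {U W : Submodule F V} (h : U ≤ W) :
    finrank F (W.map U.mkQ) + finrank F U = finrank F W := by
  haveI := Module.Finite.of_finite (R := F) (M := V)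
  have h1 := LinearMap.finrank_range_add_finrank_ker (U.mkQ.comp W.subtype)
  rw [LinearMap.range_comp, Submodule.range_subtype, LinearMap.ker_comp, Submodule.ker_mkQ,
    (Submodule.comapSubtypeEquivOfLe h).finrank_eq] at h1
  exact h1

theorem card_complements (U : Submodule F V) :
    Nat.card {W : Submodule F V // IsCompl U W} = Fintype.card F ^ (finrank F V * finrank F U - finrank F U * finrank F U) := by
  classical
  haveI := Module.Finite.of_finite (R := F) (M := V)
  rw [Nat.card_congr (Submodule.isComplEquivProj U)]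
  obtain ⟨W, hW⟩ := Submodule.exists_isCompl U
  obtain ⟨f0, hf0⟩ := Submodule.isComplEquivProj U ⟨W, hW⟩
  let res : (V →ₗ[F] U) →ₗ[F] (U →ₗ[F] U) := LinearMap.lcomp F U U.subtype
  have hsurj : LinearMap.range res = ⊤ := LinearMap.range_eq_top.2 fun g =>
    ⟨g.comp f0, LinearMap.ext fun x => by simp [res, hf0 x]⟩
  let E : {f : V →ₗ[F] U // ∀ x : U, f x = x} ≃ LinearMap.ker res :=
    { toFun := fun f => ⟨f.1 - f0, LinearMap.mem_ker.2 (LinearMap.ext fun x => by simp [res, f.2 x, hf0 x])⟩
      invFun := fun g => ⟨g.1 + f0, fun x => by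
        have := LinearMap.congr_fun (LinearMap.mem_ker.1 g.2) x
        simp only [res, LinearMap.lcomp_apply, Submodule.coe_subtype, LinearMap.zero_apply] at this
        rw [LinearMap.add_apply, this, zero_add, hf0 x]⟩
      left_inv := fun f => Subtype.ext (sub_add_cancel f.1 f0)
      right_inv := fun g => Subtype.ext (add_sub_cancel_right g.1 f0) }
  rw [Nat.card_congr E, Module.natCard_eq_pow_finrank (K := F), Nat.card_eq_fintype_card]
  have h1 := LinearMap.finrank_range_add_finrank_ker res
  rw [hsurj, finrank_top, Module.finrank_linearMap, Module.finrank_linearMap] at h1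
  congr 1
  omega

theorem card_pairs (m : ℕ) :
    Nat.card {P : Submodule F V × Submodule F V // IsCompl P.1 P.2 ∧ finrank F P.1 = m} =
      Nat.card {W : Submodule F V // finrank F W = m} * Fintype.card F ^ (finrank F V * m - m * m) := by
  classical
  let e : {P : Submodule F V × Submodule F V // IsCompl P.1 P.2 ∧ finrank F P.1 = m} ≃
      Σ U : {W : Submodule F V // finrank F W = m}, {W : Submodule F V // IsCompl U.1 W} :=
    { toFun := fun P => ⟨⟨P.1.1, P.2.2⟩, ⟨P.1.2, P.2.1⟩⟩
      invFun := fun z => ⟨(z.1.1, z.2.1), z.2.2, z.1.2⟩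
      left_inv := fun P => rfl
      right_inv := fun z => rfl }
  haveI : Finite {W : Submodule F V // finrank F W = m} := Subtype.finite
  letI := Fintype.ofFinite {W : Submodule F V // finrank F W = m}
  rw [Nat.card_congr e, Nat.card_sigma, Finset.sum_congr rfl fun U _ => (card_complements U.1).trans (by rw [U.2]),
    Finset.sum_const, smul_eq_mul, Finset.card_univ, Nat.card_eq_fintype_card]

theorem dvd_card_flags {r : ℕ} [Fact r.Prime] {m : ℕ} (hm : 2 * m ≤ finrank F V)
    (hd : r ∣ Nat.card {P : Submodule F V × Submodule F V // P.1 ≤ P.2 ∧ finrank F P.1 = m ∧ finrank F P.2 = finrank F V - m}) :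
    r ∣ Nat.card {W : Submodule F V // finrank F W = m} ∨ ∃ U : Submodule F V, finrank F U = m ∧
      r ∣ Nat.card {W : Submodule F (V ⧸ U) // finrank F W = finrank F V - 2 * m} := by
  classical
  by_contra hne
  push Not at hne
  haveI := Module.Finite.of_finite (R := F) (M := V)
  let e : {P : Submodule F V × Submodule F V // P.1 ≤ P.2 ∧ finrank F P.1 = m ∧ finrank F P.2 = finrank F V - m} ≃
      Σ U : {W : Submodule F V // finrank F W = m}, {W : Submodule F (V ⧸ U.1) // finrank F W = finrank F V - 2 * m} :=
    { toFun := fun P => ⟨⟨P.1.1, P.2.2.1⟩, ⟨P.1.2.map P.1.1.mkQ, by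
        have := finrank_map_mkQ P.2.1
        have h1 := P.2.2.1
        have h2 := P.2.2.2
        show finrank F (P.1.2.map P.1.1.mkQ) = finrank F V - 2 * m
        omega⟩⟩
      invFun := fun z => ⟨(z.1.1, z.2.1.comap z.1.1.mkQ), (Submodule.ker_mkQ z.1.1).ge.trans (Submodule.comap_mono bot_le), z.1.2, by
        have hle : z.1.1 ≤ z.2.1.comap z.1.1.mkQ := (Submodule.ker_mkQ z.1.1).ge.trans (Submodule.comap_mono bot_le)
        have := finrank_map_mkQ hle
        rw [Submodule.map_comap_eq_of_surjective (Submodule.mkQ_surjective _), z.2.2, z.1.2] at this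
        dsimp only
        omega⟩
      left_inv := fun P => Subtype.ext (Prod.ext rfl (by
        show (P.1.2.map P.1.1.mkQ).comap P.1.1.mkQ = P.1.2
        rw [Submodule.comap_map_mkQ, sup_eq_right.2 P.2.1]))
      right_inv := fun z => Sigma.ext rfl (heq_of_eq (Subtype.ext (Submodule.map_comap_eq_of_surjective (Submodule.mkQ_surjective _) _))) }
  haveI : Finite {W : Submodule F V // finrank F W = m} := Subtype.finite
  letI := Fintype.ofFinite {W : Submodule F V // finrank F W = m}
  haveI : ∀ U : {W : Submodule F V // finrank F W = m},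
      Finite {W : Submodule F (V ⧸ U.1) // finrank F W = finrank F V - 2 * m} := fun U => by
    haveI : Finite (V ⧸ U.1) := Quotient.finite _
    infer_instance
  rw [Nat.card_congr e, Nat.card_sigma] at hd
  refine hne.1 ?_
  by_cases h0 : IsEmpty {W : Submodule F V // finrank F W = m}
  · simp
  rw [not_isEmpty_iff] at h0
  obtain ⟨U0⟩ := h0
  have hall : ∀ U : {W : Submodule F V // finrank F W = m},
      Nat.card {W : Submodule F (V ⧸ U.1) // finrank F W = finrank F V - 2 * m} =
        Nat.card {W : Submodule F (V ⧸ U0.1) // finrank F W = finrank F V - 2 * m} := by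
    intro U
    have hq : finrank F (V ⧸ U.1) = finrank F (V ⧸ U0.1) := by
      have h1 := Submodule.finrank_quotient_add_finrank U.1
      have h2 := Submodule.finrank_quotient_add_finrank U0.1
      rw [U.2] at h1; rw [U0.2] at h2
      omega
    let l := LinearEquiv.ofFinrankEq _ _ hq
    exact Nat.card_congr ((Submodule.orderIsoMapComap l).toEquiv.subtypeEquiv fun W => by
      show finrank F W = _ ↔ finrank F (W.map (l : (V ⧸ U.1) →ₗ[F] V ⧸ U0.1)) = _
      rw [LinearEquiv.finrank_map_eq])
  rw [Finset.sum_congr rfl fun U _ => hall U, Finset.sum_const, smul_eq_mul, Finset.card_univ, ← Nat.card_eq_fintype_card,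
    (Fact.out : r.Prime).dvd_mul] at hd
  exact hd.resolve_right (hne.2 U0.1 U0.2)

end Cfsg.Lib.Linear.SubCount
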