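import Mathlib
import Cfsg.Agent.Lib.Linear.SymIndex
import Cfsg.Agent.Lib.Linear.GLTwo
import Cfsg.Agent.S0266

/-! The subgroups of index six of the symmetric group of degree six. -/

set_option autoImplicit false

namespace Cfsg.Lib.Linear.SymIdx

open Equiv Equiv.Perm MulAction
open scoped Pointwise

variable {α : Type*} [Fintype α] [DecidableEq α]

theorem swap_all (ψ : Perm α ≃* Perm α) (σ : Perm α) (hσ : σ.IsSwap) (hψ : (ψ σ).IsSwap)
    (τ : Perm α) (hτ : τ.IsSwap) : (ψ τ).IsSwap := by
  obtain ⟨g, hg⟩ := isConj_iff.1 (isConj_iff_cycleType_eq.2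
    ((isSwap_iff_cycleType.1 hσ).trans (isSwap_iff_cycleType.1 hτ).symm))
  rw [isSwap_iff_cycleType, ← hg, map_mul, map_mul, map_inv, cycleType_conj]
  exact isSwap_iff_cycleType.1 hψ

theorem card_swaps (h6 : Fintype.card α = 6) :
    (Finset.univ.filter fun g : Perm α => g.cycleType = {2}).card = 15 := by
  rw [card_of_cycleType_singleton le_rfl (by omega), h6]; rfl

theorem card_triples (h6 : Fintype.card α = 6) :
    (Finset.univ.filter fun g : Perm α => g.cycleType = {2, 2, 2}).card = 15 := by
  rw [card_of_cycleType, if_pos ⟨by rw [h6]; simp, by simp⟩, h6]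
  simp [Multiset.count_cons, Nat.factorial]

/-- A transitive subgroup of index six yields an isomorphism exchanging the two classes of involutions. -/
theorem exists_outer (h6 : Fintype.card α = 6) (H : Subgroup (Perm α)) (hH : H.index = 6)
    (hp : IsPretransitive H α) : ∃ (ψ : Perm α ≃* Perm α) (c : α),
      H = (stabilizer (Perm α) c).map ψ.toMonoidHom ∧
      (∀ σ : Perm α, σ.IsSwap → (ψ σ).cycleType = {2, 2, 2}) ∧
      ∀ σ : Perm α, σ.cycleType = {2, 2, 2} → (ψ σ).IsSwap := by
  classical
  obtain ⟨ψ, c, hψc⟩ := exists_iso_of_index H (by omega) (hH.trans h6.symm)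
  have htri : ∀ σ : Perm α, σ.IsSwap → (ψ σ).cycleType = {2, 2, 2} := by
    intro σ hσ
    rcases image_swap ψ rfl (by omega) hσ with h | ⟨-, h⟩
    · exact absurd (hψc ▸ hp) (not_pretransitive_of_swap_iso ψ (swap_all ψ σ hσ h) c (by omega))
    · exact h
  refine ⟨ψ, c, hψc, htri, fun τ hτ => ?_⟩
  -- the class of transpositions maps onto the class of triple transpositions
  have himg : (Finset.univ.filter fun g : Perm α => g.cycleType = {2}).image ψ =
      Finset.univ.filter fun g : Perm α => g.cycleType = {2, 2, 2} := by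
    refine Finset.eq_of_subset_of_card_le ?_ ?_
    · intro x hx
      obtain ⟨σ, hσ, rfl⟩ := Finset.mem_image.1 hx
      exact Finset.mem_filter.2 ⟨Finset.mem_univ _, htri σ (isSwap_iff_cycleType.2 (Finset.mem_filter.1 hσ).2)⟩
    · rw [Finset.card_image_of_injective _ ψ.injective, card_swaps h6, card_triples h6]
  have h2 : (ψ τ) ^ 2 = 1 := by
    rw [← map_pow, show τ ^ 2 = 1 from orderOf_dvd_iff_pow_eq_one.1 (by rw [← lcm_cycleType, hτ]; decide), map_one]
  have h2' : τ ^ 2 = 1 := orderOf_dvd_iff_pow_eq_one.1 (by rw [← lcm_cycleType, hτ]; decide)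
  obtain ⟨hc0, -⟩ := card_centralizer_sq h2' (k := 3) (by rw [hτ]; rfl)
  obtain ⟨hc, hle⟩ := card_centralizer_sq h2 rfl
  have he : Nat.card (Subgroup.centralizer {τ}) = Nat.card (Subgroup.centralizer {ψ τ}) :=
    Nat.card_congr (ψ.toEquiv.subtypeEquiv fun g => by
      simp only [Subgroup.mem_centralizer_singleton_iff]
      show _ ↔ ψ g * ψ τ = ψ τ * ψ g
      rw [← map_mul, ← map_mul, ψ.injective.eq_iff])
  rw [hc, hc0, h6] at he
  rw [h6] at hle
  have hk := centralizer_arith (n := 6) (by norm_num) hle (he.symm.trans (by decide))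
  have hct := cycleType_of_sq h2
  rcases hk with hk | ⟨-, hk⟩
  · exact isSwap_iff_cycleType.2 (by rw [hct, hk]; rfl)
  · exfalso
    rw [hk] at hct
    have hmem : ψ τ ∈ (Finset.univ.filter fun g : Perm α => g.cycleType = {2}).image ψ := by
      rw [himg]; exact Finset.mem_filter.2 ⟨Finset.mem_univ _, hct.trans rfl⟩
    obtain ⟨σ, hσ, hσe⟩ := Finset.mem_image.1 hmem
    have h3 := (Finset.mem_filter.1 hσ).2
    rw [ψ.injective hσe, hτ] at h3
    exact absurd h3 (by decide)

/-- Two transitive subgroups of index six are images of point stabilisers under the same isomorphism. -/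
theorem transitive_classify (h6 : Fintype.card α = 6) (ψ : Perm α ≃* Perm α)
    (hψ : ∀ σ : Perm α, σ.IsSwap → (ψ σ).cycleType = {2, 2, 2})
    (hψ' : ∀ σ : Perm α, σ.cycleType = {2, 2, 2} → (ψ σ).IsSwap)
    (K : Subgroup (Perm α)) (hK : K.index = 6) (hp : IsPretransitive K α) :
    ∃ d : α, K = (stabilizer (Perm α) d).map ψ.toMonoidHom := by
  obtain ⟨χ, c, hχc, hχ, hχ'⟩ := exists_outer h6 K hK hp
  let ξ : Perm α ≃* Perm α := χ.trans ψ.symm
  have hξ : ∀ σ : Perm α, σ.IsSwap → (ξ σ).IsSwap := by
    intro σ hσ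
    show (ψ.symm (χ σ)).IsSwap
    have h1 := hχ σ hσ
    rcases image_swap ψ.symm rfl (by omega) hσ with h | ⟨-, h⟩
    · have := hψ _ h
      rw [MulEquiv.apply_symm_apply, isSwap_iff_cycleType.1 hσ] at this
      exact absurd this (by decide)
    · -- `ψ.symm` sends transpositions to triples, hence triples to transpositions
      by_contra hns
      obtain ⟨hc, hle⟩ := card_centralizer_sq (g := ψ.symm (χ σ))
        (by obtain ⟨x, y, -, rfl⟩ := hσ; rw [← map_pow, ← map_pow, sq, swap_mul_self, map_one, map_one]) rfl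
      obtain ⟨hc0, -⟩ := card_centralizer_sq (g := σ)
        (by obtain ⟨x, y, -, rfl⟩ := hσ; rw [sq, swap_mul_self]) (k := 1) (by rw [isSwap_iff_cycleType.1 hσ]; rfl)
      have he : Nat.card (Subgroup.centralizer {σ}) = Nat.card (Subgroup.centralizer {ψ.symm (χ σ)}) :=
        Nat.card_congr (ξ.toEquiv.subtypeEquiv fun g => by
          simp only [Subgroup.mem_centralizer_singleton_iff]
          show _ ↔ ξ g * ξ σ = ξ σ * ξ g
          rw [← map_mul, ← map_mul, ξ.injective.eq_iff])
      rw [hc, hc0, h6] at he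
      rw [h6] at hle
      have hct := cycleType_of_sq (g := ψ.symm (χ σ))
        (by obtain ⟨x, y, -, rfl⟩ := hσ; rw [← map_pow, ← map_pow, sq, swap_mul_self, map_one, map_one])
      rcases centralizer_arith (n := 6) (by norm_num) hle (he.symm.trans (by decide)) with hk | ⟨-, hk⟩
      · exact hns (isSwap_iff_cycleType.2 (by rw [hct, hk]; rfl))
      · have h3 := hψ' _ (hct.trans (by rw [hk]; rfl))
        rw [MulEquiv.apply_symm_apply, isSwap_iff_cycleType, h1] at h3
        exact absurd h3 (by decide)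
  have hK' : ((stabilizer (Perm α) c).map ξ.toMonoidHom).index = Fintype.card α :=
    (Subgroup.index_map_equiv _ ξ).trans (card_stabilizer_perm c)
  obtain ⟨d, hd⟩ := eq_stabilizer_of_not_pretransitive _ hK' (not_pretransitive_of_swap_iso ξ hξ c (by omega))
  refine ⟨d, ?_⟩
  rw [← hd, hχc, Subgroup.map_map]
  congr 1
  ext x
  simp [ξ]

theorem conj_map (ψ : Perm α ≃* Perm α) (c d : α) :
    ((stabilizer (Perm α) c).map ψ.toMonoidHom).map (MulAut.conj (ψ (swap c d))).toMonoidHom =
      (stabilizer (Perm α) d).map ψ.toMonoidHom := by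
  have h : stabilizer (Perm α) d = (stabilizer (Perm α) c).map (MulAut.conj (swap c d)).toMonoidHom := by
    rw [← stabilizer_smul_eq_stabilizer_map_conj, Perm.smul_def, swap_apply_left]
  rw [h, Subgroup.map_map, Subgroup.map_map]
  refine congrArg (fun f => Subgroup.map f _) (MonoidHom.ext fun x => ?_)
  show ψ (swap c d) * ψ x * (ψ (swap c d))⁻¹ = ψ (swap c d * x * (swap c d)⁻¹)
  rw [map_mul, map_mul, map_inv]

theorem stabilizer_injective (h3 : 3 ≤ Fintype.card α) :
    Function.Injective (fun a : α => stabilizer (Perm α) a) := by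
  intro a b h
  by_contra hab
  obtain ⟨c, hc⟩ : ∃ c : α, c ∉ ({a, b} : Finset α) := by
    by_contra hh
    push_neg at hh
    have := Finset.card_le_card (fun x (_ : x ∈ (Finset.univ : Finset α)) => hh x)
    rw [Finset.card_univ] at this
    have := Finset.card_le_two (a := a) (b := b)
    omega
  simp only [Finset.mem_insert, Finset.mem_singleton, not_or] at hc
  have hm : swap b c ∈ stabilizer (Perm α) a := swap_apply_of_ne_of_ne hab (Ne.symm hc.1)
  have h' : stabilizer (Perm α) a = stabilizer (Perm α) b := h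
  rw [h', mem_stabilizer_iff, Perm.smul_def, swap_apply_left] at hm
  exact hc.2 hm

theorem exists_transitive_six (h6 : Fintype.card α = 6) :
    ∃ H : Subgroup (Perm α), H.index = 6 ∧ IsPretransitive H α := by
  classical
  haveI : Fact (Nat.Prime 5) := ⟨by norm_num⟩
  let P := Projectivization (ZMod 5) (Fin 2 → ZMod 5)
  have hP : Nat.card P = 6 := by
    rw [Projectivization.card_of_finrank_two (ZMod 5) _ (by simp), Nat.card_zmod]
  haveI : Finite P := Nat.finite_of_card_ne_zero (by rw [hP]; norm_num)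
  haveI := (Cfsg.Agent.S0266.result (F := ZMod 5)).1
  let e : P ≃ α := (Finite.equivFin P).trans ((finCongr (by rw [hP, h6])).trans (Fintype.equivFin α).symm)
  let G := Matrix.ProjGenLinGroup (Fin 2) (ZMod 5)
  let f : G →* Perm α := e.permCongrHom.toMonoidHom.comp (toPermHom G P)
  have hf : Function.Injective f := by
    refine e.permCongrHom.injective.comp ((injective_iff_map_eq_one _).2 fun g hg => ?_)
    have hfix : ∀ a : P, g • a = a := fun a => Equiv.ext_iff.1 hg a
    haveI : Fintype P := Fintype.ofFinite P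
    obtain ⟨a, -, b, -, c, -, hab, hac, hbc⟩ := Finset.two_lt_card.1 (show 2 < (Finset.univ : Finset P).card by
      rw [Finset.card_univ, ← Nat.card_eq_fintype_card, hP]; norm_num)
    exact (Cfsg.Agent.S0266.result (F := ZMod 5)).2 g a b c hab hac hbc (hfix a) (hfix b) (hfix c)
  refine ⟨f.range, ?_, ?_⟩
  · have hc := Subgroup.card_mul_index f.range
    rw [← Nat.card_congr (MonoidHom.ofInjective hf).toEquiv, Cfsg.Lib.Linear.card_PGL_eq_card_SL,
      Cfsg.Lib.Linear.Two.card_SL_two, ZMod.card, Nat.card_perm, Nat.card_eq_fintype_card, h6] at hc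
    norm_num [Nat.factorial] at hc
    omega
  · haveI : IsMultiplyPretransitive G P 2 := MulAction.isMultiplyPretransitive_of_le' (n := 3) (by norm_num)
      (by rw [ENat.card_eq_coe_natCard, hP]; norm_num)
    haveI : IsPretransitive G P := MulAction.isPretransitive_of_is_two_pretransitive
    refine ⟨fun x y => ?_⟩
    obtain ⟨g, hg⟩ := exists_smul_eq G (e.symm x) (e.symm y)
    refine ⟨⟨f g, g, rfl⟩, ?_⟩
    show e (g • e.symm x) = y
    rw [hg, e.apply_symm_apply]

theorem not_pretransitive_stabilizer (a : α) (h2 : 2 ≤ Fintype.card α) :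
    ¬ IsPretransitive (stabilizer (Perm α) a) α := by
  intro hp
  obtain ⟨b, hb⟩ := Fintype.exists_ne_of_one_lt_card (by omega) a
  obtain ⟨⟨g, hg⟩, hgb⟩ := hp.exists_smul_eq a b
  exact hb (hgb.symm.trans hg)

end Cfsg.Lib.Linear.SymIdx
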