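import Cfsg.Agent.Lib.Linear.CrossCharSymp

/-!
# Sizes of congruence classes of symmetric matrices over finite fields of odd order

A non-zero symmetric matrix of size `n` has at least `(q ^ n - 1) / 2` congruents: in rank one these are the
multiples `c • v vᵀ` of one scalar class, in higher rank every first row with non-zero corner occurs.
-/

set_option autoImplicit false

namespace Cfsg.Lib.Linear.SymmCongr

open Matrix

variable {F : Type*} [Field F] {n : ℕ}

/-- An invertible matrix with a prescribed column. -/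
theorem exists_column (v : Fin n → F) (hv : v ≠ 0) (i : Fin n) :
    ∃ B B' : Matrix (Fin n) (Fin n) F, B * B' = 1 ∧ B *ᵥ Pi.single i 1 = v := by
  obtain ⟨k, hk⟩ := Function.ne_iff.mp hv
  obtain ⟨C, hC⟩ : ∃ C : Matrix (Fin n) (Fin n) F, C = Matrix.updateCol 1 k v := ⟨_, rfl⟩
  have hdet : C.det ≠ 0 := by
    rw [hC, ← Matrix.cramer_apply, Matrix.cramer_one]
    exact hk
  obtain ⟨P, hP⟩ : ∃ P : Matrix (Fin n) (Fin n) F, P = (1 : Matrix (Fin n) (Fin n) F).submatrix (Equiv.swap i k) id := ⟨_, rfl⟩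
  have hPe : P *ᵥ Pi.single i 1 = Pi.single k 1 := by
    funext r
    rw [hP, Matrix.mulVec_single_one]
    simp only [Matrix.col_apply, Matrix.submatrix_apply, id, Matrix.one_apply, Pi.single_apply]
    exact if_congr (Equiv.swap_apply_eq_iff.trans (by rw [Equiv.swap_apply_left])) rfl rfl
  have hPP : P * P = 1 := by
    rw [hP]
    ext a b
    simp [Matrix.mul_apply, Matrix.one_apply, ← Equiv.eq_symm_apply]
  refine ⟨C * P, P * C⁻¹, ?_, ?_⟩
  · rw [mul_assoc, ← mul_assoc P P, hPP, one_mul, Matrix.mul_nonsing_inv _ (isUnit_iff_ne_zero.mpr hdet)]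
  · rw [← mulVec_mulVec, hPe, hC, Matrix.mulVec_single_one]
    funext r
    simp

theorem congr_mulVec (B N : Matrix (Fin n) (Fin n) F) (x y : Fin n → F) :
    x ⬝ᵥ ((Bᵀ * N * B) *ᵥ y) = (B *ᵥ x) ⬝ᵥ (N *ᵥ (B *ᵥ y)) := by
  rw [← mulVec_mulVec, ← mulVec_mulVec, dotProduct_mulVec, vecMul_transpose]

theorem rank_one_congr (B : Matrix (Fin n) (Fin n) F) (c : F) (w : Fin n → F) :
    Bᵀ * (c • vecMulVec w w) * B = c • vecMulVec (Bᵀ *ᵥ w) (Bᵀ *ᵥ w) := by
  rw [Matrix.mul_smul, Matrix.smul_mul, mul_vecMulVec, vecMulVec_mul, mulVec_transpose]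

/-- In rank one all vectors occur. -/
theorem class_ge_rank_one [Fintype F] [DecidableEq F] (c : F) (hc : c ≠ 0) (w : Fin n → F) (i : Fin n)
    (hw : w i ≠ 0) (O : Finset (Matrix (Fin n) (Fin n) F))
    (hO : ∀ B B' : Matrix (Fin n) (Fin n) F, B * B' = 1 → Bᵀ * (c • vecMulVec w w) * B ∈ O) :
    Fintype.card F ^ n - 1 ≤ 2 * O.card := by
  classical
  obtain ⟨D, hD⟩ : ∃ D : Finset (Fin n → F), D = Finset.univ.erase 0 := ⟨_, rfl⟩
  have hDcard : D.card = Fintype.card F ^ n - 1 := by
    rw [hD, Finset.card_erase_of_mem (Finset.mem_univ _), Finset.card_univ, Fintype.card_fun, Fintype.card_fin]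
  rw [← hDcard]
  refine (Finset.card_le_mul_card_image (f := fun v => c • vecMulVec v v) D 2 fun M hM => ?_).trans
    (Nat.mul_le_mul_left 2 (Finset.card_le_card fun M hM => ?_))
  · rw [Finset.mem_image] at hM
    obtain ⟨u, hu, rfl⟩ := hM
    refine (Finset.card_le_card (t := {u, -u}) fun v hv => ?_).trans Finset.card_le_two
    rw [Finset.mem_filter] at hv
    rw [hD, Finset.mem_erase] at hu
    obtain ⟨k, hk⟩ := Function.ne_iff.mp hu.1
    have h1 : ∀ a b, v a * v b = u a * u b := fun a b => by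
      have := congrFun (congrFun hv.2 a) b
      simpa [vecMulVec_apply, hc] using this
    simp only [Finset.mem_insert, Finset.mem_singleton]
    rcases sq_eq_sq_iff_eq_or_eq_neg.mp (show v k ^ 2 = u k ^ 2 by rw [sq, sq]; exact h1 k k) with e | e
    · refine Or.inl (funext fun r => ?_)
      have := h1 k r
      rw [e] at this
      exact mul_left_cancel₀ hk this
    · refine Or.inr (funext fun r => ?_)
      have := h1 k r
      rw [e] at this
      rw [Pi.neg_apply]
      exact mul_left_cancel₀ hk (by linear_combination -this)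
  · rw [Finset.mem_image] at hM
    obtain ⟨v, hv, rfl⟩ := hM
    rw [hD, Finset.mem_erase] at hv
    obtain ⟨X, X', hX, hXe⟩ := exists_column v hv.1 i
    obtain ⟨Y, Y', hY, hYe⟩ := exists_column w (fun e => hw (by rw [e]; rfl)) i
    -- the transpose of the sought matrix maps w to v
    have hY' : Y' * Y = 1 := mul_eq_one_comm.mp hY
    have hX' : X' * X = 1 := mul_eq_one_comm.mp hX
    have := hO (X * Y')ᵀ (Y * X')ᵀ (by
      rw [← transpose_mul, mul_assoc, ← mul_assoc X' X, hX', one_mul, hY, transpose_one])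
    rwa [rank_one_congr, transpose_transpose, ← mulVec_mulVec,
      show Y' *ᵥ w = Pi.single i 1 by rw [← hYe, mulVec_mulVec, hY', one_mulVec], hXe] at this

/-- A symmetric matrix of higher rank represents every non-zero value. -/
theorem represents [Fintype F] (h2 : (2 : F) ≠ 0) {N : Matrix (Fin n) (Fin n) F} (hN : Nᵀ = N) (i : Fin n)
    (hi : N i i ≠ 0) (hrk : ∃ a b, N a b * N i i ≠ N a i * N i b) (t : F) :
    ∃ v : Fin n → F, v ⬝ᵥ (N *ᵥ v) = t := by
  classical
  have hs : ∀ a b, N b a = N a b := fun a b => congrFun (congrFun hN a) b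
  obtain ⟨M, hM⟩ : ∃ M : Matrix (Fin n) (Fin n) F, ∀ a b, M a b = N a b * N i i - N a i * N i b :=
    ⟨fun a b => N a b * N i i - N a i * N i b, fun a b => rfl⟩
  have hMs : ∀ a b, M b a = M a b := fun a b => by rw [hM, hM, hs a b, hs i b, hs a i]; ring
  obtain ⟨u, hu⟩ : ∃ u : Fin n → F, u ⬝ᵥ (M *ᵥ u) ≠ 0 := by
    obtain ⟨a, b, hab⟩ := hrk
    by_cases hd : ∃ a, M a a ≠ 0
    · obtain ⟨a, ha⟩ := hd
      exact ⟨Pi.single a 1, by simpa using ha⟩
    · push Not at hd
      refine ⟨Pi.single a 1 + Pi.single b 1, ?_⟩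
      simp only [mulVec_add, dotProduct_add, add_dotProduct, single_dotProduct, mulVec_single_one, one_mul,
        Matrix.col_apply, hd, zero_add, add_zero]
      rw [hMs a b, ← two_mul]
      exact mul_ne_zero h2 (by rw [hM]; exact sub_ne_zero.mpr hab)
  -- the vector orthogonal to the i-th coordinate
  obtain ⟨r, hr⟩ : ∃ r, r = (N *ᵥ u) i := ⟨_, rfl⟩
  obtain ⟨u', hu'⟩ : ∃ u' : Fin n → F, u' = (N i i) • u - r • Pi.single i 1 := ⟨_, rfl⟩
  have hNu' : (N *ᵥ u') i = 0 := by
    rw [hu', mulVec_sub, mulVec_smul, mulVec_smul, Pi.sub_apply, Pi.smul_apply, Pi.smul_apply, mulVec_single_one,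
      Matrix.col_apply, smul_eq_mul, smul_eq_mul, ← hr]
    ring
  have hcol : u ⬝ᵥ N.col i = r := by
    rw [hr]
    simp only [dotProduct, Matrix.col_apply, mulVec]
    exact Finset.sum_congr rfl fun a _ => by rw [hs i a, mul_comm]
  have hq : u' ⬝ᵥ (N *ᵥ u') = N i i * (u ⬝ᵥ (M *ᵥ u)) := by
    have hMu : u ⬝ᵥ (M *ᵥ u) = N i i * (u ⬝ᵥ (N *ᵥ u)) - r * r := by
      have e : M = N i i • N - vecMulVec (N.col i) (N i) := by
        ext a b
        rw [hM]
        simp [vecMulVec_apply, mul_comm]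
      rw [e, sub_mulVec, smul_mulVec, dotProduct_sub, dotProduct_smul, vecMulVec_mulVec, smul_eq_mul,
        show (N i) ⬝ᵥ u = r by rw [hr]; rfl]
      simp [hcol, mul_comm]
    rw [hMu, hu', mulVec_sub, mulVec_smul, mulVec_smul, mulVec_single_one]
    simp only [dotProduct_sub, sub_dotProduct, dotProduct_smul, smul_dotProduct, single_dotProduct, one_mul,
      Matrix.col_apply, smul_eq_mul, hcol, ← hr]
    ring
  have hval : u' ⬝ᵥ (N *ᵥ u') ≠ 0 := by rw [hq]; exact mul_ne_zero hi hu
  have hcross : u' ⬝ᵥ N.col i = 0 := by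
    rw [← hNu']
    simp only [dotProduct, Matrix.col_apply, mulVec]
    exact Finset.sum_congr rfl fun a _ => by rw [hs i a, mul_comm]
  have hodd : Fintype.card F % 2 = 1 := FiniteField.odd_card_of_char_ne_two fun hc => h2 (by
    have : CharP F 2 := ringChar.of_eq hc
    exact_mod_cast CharP.cast_eq_zero F 2)
  obtain ⟨a, b, hab⟩ := FiniteField.exists_root_sum_quadratic
    (f := Polynomial.C (N i i) * Polynomial.X ^ 2 - Polynomial.C t)
    (g := Polynomial.C (u' ⬝ᵥ (N *ᵥ u')) * Polynomial.X ^ 2)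
    (by rw [Polynomial.degree_sub_eq_left_of_degree_lt, Polynomial.degree_C_mul_X_pow 2 hi]
        · rfl
        · rw [Polynomial.degree_C_mul_X_pow 2 hi]
          exact lt_of_le_of_lt Polynomial.degree_C_le (by norm_num))
    (by rw [Polynomial.degree_C_mul_X_pow 2 hval]; rfl) hodd
  refine ⟨a • Pi.single i 1 + b • u', ?_⟩
  simp only [Polynomial.eval_sub, Polynomial.eval_mul, Polynomial.eval_C, Polynomial.eval_pow, Polynomial.eval_X] at hab
  simp only [mulVec_add, mulVec_smul, mulVec_single_one, dotProduct_add, add_dotProduct, dotProduct_smul,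
    smul_dotProduct, single_dotProduct, one_mul, Matrix.col_apply, smul_eq_mul, hcross, hNu']
  linear_combination hab

/-- Every congruence class with a non-zero diagonal entry is large. -/
theorem class_ge [Fintype F] [DecidableEq F] (h2 : (2 : F) ≠ 0) {N : Matrix (Fin n) (Fin n) F} (hN : Nᵀ = N)
    (i : Fin n) (hi : N i i ≠ 0) (O : Finset (Matrix (Fin n) (Fin n) F))
    (hO : ∀ B B' : Matrix (Fin n) (Fin n) F, B * B' = 1 → Bᵀ * N * B ∈ O) :
    Fintype.card F ^ n - 1 ≤ 2 * O.card := by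
  classical
  by_cases hrk : ∃ a b, N a b * N i i ≠ N a i * N i b
  · -- every row with a non-zero corner occurs
    have hrow : ∀ t : F, t ≠ 0 → ∀ r : {j : Fin n // j ≠ i} → F,
        ∃ M ∈ O, M i i = t ∧ ∀ j : {j : Fin n // j ≠ i}, M i j.1 = r j := by
      intro t ht r
      obtain ⟨v, hv⟩ := represents h2 hN i hi hrk t
      obtain ⟨B, B', hB, hBe⟩ := exists_column v (fun e => ht (by rw [← hv, e, zero_dotProduct])) i
      have hN0 : (Bᵀ * N * B) i i = t := by
        rw [← hv, ← hBe, ← congr_mulVec, mulVec_single_one, single_dotProduct, one_mul]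
        rfl
      obtain ⟨w, hw⟩ : ∃ w : Fin n → F, w = fun j => if hj : j = i then 0 else (r ⟨j, hj⟩ - (Bᵀ * N * B) i j) / t :=
        ⟨_, rfl⟩
      have hwi : w i = 0 := by rw [hw]; simp
      refine ⟨(1 + vecMulVec (Pi.single i 1) w)ᵀ * (Bᵀ * N * B) * (1 + vecMulVec (Pi.single i 1) w), ?_, ?_, ?_⟩
      · have h1 := CrossCharSymp.rank_one_inverse i w (by rw [hwi, add_zero]; exact one_ne_zero)
        have := hO (B * (1 + vecMulVec (Pi.single i 1) w))
          ((1 - (1 + w i)⁻¹ • vecMulVec (Pi.single i 1) w) * B') (by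
            rw [mul_assoc, ← mul_assoc (1 + vecMulVec (Pi.single i 1) w), h1, one_mul, hB])
        rwa [transpose_mul, show (1 + vecMulVec (Pi.single i 1) w)ᵀ * Bᵀ * N * (B * (1 + vecMulVec (Pi.single i 1) w)) =
          (1 + vecMulVec (Pi.single i 1) w)ᵀ * (Bᵀ * N * B) * (1 + vecMulVec (Pi.single i 1) w) by
            simp only [Matrix.mul_assoc]] at this
      · rw [CrossCharSymp.congr_entry, hwi, hN0]; ring
      · intro j
        rw [CrossCharSymp.congr_entry, hwi, hN0, hw]
        simp only [dif_neg j.2]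
        field_simp
        ring
    choose f hfO hfi hfj using hrow
    obtain ⟨φ, hφ⟩ : ∃ φ : {t : F // t ≠ 0} × ({j : Fin n // j ≠ i} → F) → ↥O,
        ∀ z, (φ z).1 = f z.1.1 z.1.2 z.2 := ⟨fun z => ⟨_, hfO z.1.1 z.1.2 z.2⟩, fun z => rfl⟩
    have hinj : Function.Injective φ := by
      intro z z' e
      have e' : f z.1.1 z.1.2 z.2 = f z'.1.1 z'.1.2 z'.2 := by rw [← hφ, ← hφ, e]
      refine Prod.ext (Subtype.ext ?_) (funext fun j => ?_)
      · rw [← hfi z.1.1 z.1.2 z.2, e', hfi]
      · rw [← hfj z.1.1 z.1.2 z.2 j, e', hfj]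
    have hle := Fintype.card_le_of_injective φ hinj
    rw [Fintype.card_prod, Fintype.card_subtype_compl, Fintype.card_subtype_eq, Fintype.card_fun,
      Fintype.card_subtype_compl, Fintype.card_subtype_eq, Fintype.card_fin, Fintype.card_coe] at hle
    have hq : 2 ≤ Fintype.card F := Fintype.one_lt_card
    rw [show Fintype.card F ^ n = Fintype.card F ^ (n - 1) * Fintype.card F by
      rw [← pow_succ]; congr 1; have := i.2; omega]
    have h1 : Fintype.card F ≤ 2 * (Fintype.card F - 1) := by omega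
    calc Fintype.card F ^ (n - 1) * Fintype.card F - 1 ≤ Fintype.card F ^ (n - 1) * (2 * (Fintype.card F - 1)) :=
          (Nat.sub_le _ _).trans (Nat.mul_le_mul_left _ h1)
      _ = 2 * ((Fintype.card F - 1) * Fintype.card F ^ (n - 1)) := by ring
      _ ≤ 2 * O.card := Nat.mul_le_mul_left 2 hle
  · push Not at hrk
    have e : N = (N i i)⁻¹ • vecMulVec (N i) (N i) := by
      ext a b
      have hs : N i a = N a i := congrFun (congrFun hN a) i
      simp only [Matrix.smul_apply, vecMulVec_apply, smul_eq_mul, hs]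
      rw [← hrk a b]
      field_simp
    exact class_ge_rank_one (N i i)⁻¹ (inv_ne_zero hi) (N i) i hi O
      (fun B B' hB => by rw [← e]; exact hO B B' hB)

end Cfsg.Lib.Linear.SymmCongr
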