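import Cfsg.Agent.Lib.Linear.HermitianNorm
import Cfsg.Agent.Lib.Linear.SymplecticDecomp

/-!
# Square roots of symmetric matrices in centralisers of semisimple symplectic matrices
-/

set_option autoImplicit false

namespace Cfsg.Lib.Linear.SympConj

open scoped Matrix

variable {F : Type*} [Field F] {n : Type*} [Fintype n] [DecidableEq n]

/-- On the image of a symmetric idempotent the two alternating forms are congruent. -/
theorem exists_local (J H f : Matrix n n F) (hJ : IsUnit J) (hH : IsUnit H) (hJalt : ∀ u, u ⬝ᵥ (J *ᵥ u) = 0)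
    (hHalt : ∀ u, u ⬝ᵥ ((J * H) *ᵥ u) = 0) (hff : f * f = f) (hfJ : fᵀ * J = J * f) (hfH : f * H = H * f) :
    ∃ S : Matrix n n F, f * S = S ∧ S * f = S ∧ Sᵀ * J * S = J * H * f := by
  classical
  let B₁ : LinearMap.BilinForm F (n → F) := Matrix.toBilin' J
  let B₂ : LinearMap.BilinForm F (n → F) := Matrix.toBilin' (J * H)
  let P : LinearMap.BilinForm F ((n → F) × (n → F)) :=
    B₂.compl₁₂ (LinearMap.fst F _ _) (LinearMap.fst F _ _) + B₁.compl₁₂ (LinearMap.snd F _ _) (LinearMap.snd F _ _)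
  have hP : ∀ x y, P x y = x.1 ⬝ᵥ ((J * H) *ᵥ y.1) + x.2 ⬝ᵥ (J *ᵥ y.2) := fun x y => by
    simp [P, B₁, B₂, Matrix.toBilin'_apply']
  have hA : P.IsAlt := fun x => by rw [hP, hHalt, hJalt, add_zero]
  let U : Submodule F (n → F) := LinearMap.range (Matrix.toLin' f)
  have hU : ∀ x, x ∈ U → f *ᵥ x = x := by
    rintro _ ⟨y, rfl⟩
    rw [Matrix.toLin'_apply, Matrix.mulVec_mulVec, hff]
  have hUm : ∀ y, f *ᵥ y ∈ U := fun y => ⟨y, Matrix.toLin'_apply _ _⟩
  let X := U.map (LinearMap.inl F (n → F) (n → F))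
  let Y := U.map (LinearMap.inr F (n → F) (n → F))
  have nd : ∀ (M : Matrix n n F), IsUnit M → fᵀ * M = M * f → ∀ x ∈ U, x ≠ 0 → ∃ y ∈ U, x ⬝ᵥ (M *ᵥ y) ≠ 0 := by
    intro M hM hfM x hx hx0
    obtain ⟨v, hv⟩ : ∃ v, x ⬝ᵥ (M *ᵥ v) ≠ 0 := by
      by_contra h
      push Not at h
      obtain ⟨Mi, hMi⟩ := hM.exists_right_inv
      refine hx0 (funext fun i => ?_)
      have h' := h (Mi *ᵥ Pi.single i 1)
      rw [Matrix.mulVec_mulVec, hMi, Matrix.one_mulVec, dotProduct_single, mul_one] at h'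
      exact h'
    refine ⟨f *ᵥ v, hUm v, ?_⟩
    rwa [Matrix.mulVec_mulVec, ← hfM, ← Matrix.mulVec_mulVec, Matrix.dotProduct_mulVec, Matrix.vecMul_transpose, hU x hx]
  have hX : Cfsg.Lib.Linear.Symp.NondegOn P X := by
    rintro _ ⟨x, hx, rfl⟩ hne
    have hx0 : x ≠ 0 := fun h => hne (by rw [h, map_zero])
    obtain ⟨y, hy, hxy⟩ := nd (J * H) (hJ.mul hH) (by rw [← mul_assoc, hfJ, mul_assoc, hfH, mul_assoc]) x hx hx0
    exact ⟨_, ⟨y, hy, rfl⟩, by simpa [hP] using hxy⟩
  have hY : Cfsg.Lib.Linear.Symp.NondegOn P Y := by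
    rintro _ ⟨x, hx, rfl⟩ hne
    have hx0 : x ≠ 0 := fun h => hne (by rw [h, map_zero])
    obtain ⟨y, hy, hxy⟩ := nd J hJ hfJ x hx hx0
    exact ⟨_, ⟨y, hy, rfl⟩, by simpa [hP] using hxy⟩
  have hdim : Module.finrank F X ≤ Module.finrank F Y := by
    rw [← (Submodule.equivMapOfInjective _ LinearMap.inl_injective U).finrank_eq,
      ← (Submodule.equivMapOfInjective _ LinearMap.inr_injective U).finrank_eq]
  obtain ⟨φ, hφY, hφ⟩ := Cfsg.Lib.Linear.Symp.exists_isometry_between hA _ X Y le_rfl hX hY hdim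
  let into : (n → F) →ₗ[F] X := ((LinearMap.inl F (n → F) (n → F)).comp (Matrix.toLin' f)).codRestrict X
    (fun y => ⟨_, LinearMap.mem_range_self _ y, rfl⟩)
  let L : (n → F) →ₗ[F] (n → F) := (LinearMap.snd F _ _).comp (φ.comp into)
  have hLU : ∀ y, L y ∈ U ∧ φ (into y) = ((0 : n → F), L y) := by
    intro y
    obtain ⟨u, hu, he⟩ := hφY (into y)
    have e : L y = u := by show (φ (into y)).2 = u; rw [← he]; rfl
    exact ⟨e ▸ hu, by rw [e, ← he]; rfl⟩
  have hSv : ∀ y, LinearMap.toMatrix' L *ᵥ y = L y := fun y => LinearMap.toMatrix'_mulVec _ _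
  refine ⟨LinearMap.toMatrix' L, ?_, ?_, ?_⟩
  · refine Matrix.ext_iff_mulVec.mpr fun y => ?_
    rw [← Matrix.mulVec_mulVec, hSv, hU _ (hLU y).1]
  · refine Matrix.ext_iff_mulVec.mpr fun y => ?_
    rw [← Matrix.mulVec_mulVec, hSv, hSv]
    show (φ (into (f *ᵥ y))).2 = (φ (into y)).2
    have e : into (f *ᵥ y) = into y := Subtype.ext (by
      show ((Matrix.toLin' f (f *ᵥ y), 0) : (n → F) × (n → F)) = (Matrix.toLin' f y, 0)
      rw [Matrix.toLin'_apply, Matrix.toLin'_apply, Matrix.mulVec_mulVec, hff])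
    rw [e]
  · refine Matrix.ext fun i j => ?_
    have h := hφ (into (Pi.single i 1)) (into (Pi.single j 1))
    rw [(hLU _).2, (hLU _).2, hP, hP] at h
    have e : ∀ y, ((into y : X) : (n → F) × (n → F)) = (f *ᵥ y, 0) := fun y => rfl
    rw [e, e] at h
    simp only [Matrix.mulVec_zero, zero_dotProduct, dotProduct_zero, zero_add, add_zero] at h
    rw [← hSv, ← hSv, Matrix.mulVec_mulVec, Matrix.mulVec_mulVec, ← Matrix.vecMul_transpose,
      ← Matrix.dotProduct_mulVec, Matrix.mulVec_mulVec, ← mul_assoc, ← Matrix.vecMul_transpose f,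
      ← Matrix.dotProduct_mulVec, Matrix.mulVec_mulVec, Matrix.mulVec_single_one, single_one_dotProduct,
      Matrix.mulVec_single_one, single_one_dotProduct] at h
    have e' : fᵀ * (J * H * f) = J * H * f := by
      rw [← mul_assoc, ← mul_assoc, hfJ, mul_assoc J, hfH, ← mul_assoc, mul_assoc _ f, hff]
    rw [e'] at h
    exact h

theorem idem_inv {R : Type*} [CommRing R] {e x y : R} (he : e * e = e) (hxy : e * (x * y) = e) :
    (e * x + (1 - e)) * (e * y + (1 - e)) = 1 := by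
  linear_combination e * hxy + (-(x + y) + 2) * he + 0 * hxy

theorem idem_disc {R : Type*} [CommRing R] {e t : R} (he : e * e = e) :
    (e * t + (1 - e)) ^ 2 - 4 * e = e * (t ^ 2 - 4) + (1 - e) := by
  linear_combination (t ^ 2 - 2 * t + 1) * he

theorem idem_repr {R : Type*} [CommRing R] {e t a b h : R} (he : e * e = e)
    (hab : a ^ 2 + (e * t + (1 - e)) * a * b + e * b ^ 2 = e * h + (1 - e)) :
    e * (a * a + t * a * b + b * b) = e * h := by
  linear_combination e * hab + (-(t * a * b) + a * b - b ^ 2 + h - 1) * he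

/-- In a finite monoid some power of an element is idempotent. -/
theorem exists_idempotent_pow {M : Type*} [Monoid M] [Finite M] (x : M) : ∃ k, 1 ≤ k ∧ x ^ k * x ^ k = x ^ k := by
  obtain ⟨a, b, hne, hab⟩ := Finite.exists_ne_map_eq_of_infinite (fun i : ℕ => x ^ i)
  wlog h : a < b generalizing a b
  · exact this b a (Ne.symm hne) hab.symm (lt_of_le_of_ne (not_lt.mp h) (Ne.symm hne))
  have hper : ∀ j, ∀ i, a ≤ i → x ^ (i + j * (b - a)) = x ^ i := by
    intro j
    induction j with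
    | zero => simp
    | succ j ih =>
      intro i hi
      have e : i + (j + 1) * (b - a) = (i - a) + b + j * (b - a) := by rw [add_one_mul]; omega
      rw [e, ih ((i - a) + b) (by omega), pow_add, ← hab, ← pow_add, Nat.sub_add_cancel hi]
  refine ⟨(a + 1) * (b - a), Nat.mul_pos (Nat.succ_pos _) (Nat.sub_pos_of_lt h), ?_⟩
  rw [← pow_add]
  exact hper (a + 1) _ (le_trans (Nat.le_succ a) (Nat.le_mul_of_pos_right _ (Nat.sub_pos_of_lt h)))

/-- Polynomials in a matrix of order prime to the characteristic are never nonzero nilpotents. -/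
theorem eq_zero_of_nilpotent [Finite F] {A : Matrix n n F} {N : ℕ} (hN : (N : F) ≠ 0) (hAN : A ^ N = 1)
    {y : Matrix n n F} (hy : y ∈ Algebra.adjoin F ({A} : Set (Matrix n n F))) (hnil : IsNilpotent y) : y = 0 := by
  rw [Algebra.adjoin_singleton_eq_range_aeval] at hy
  obtain ⟨P, rfl⟩ := hy
  obtain ⟨k, hk⟩ := hnil
  have hsq : Squarefree (Polynomial.X ^ N - 1 : Polynomial F) :=
    ((Polynomial.X_pow_sub_one_separable_iff).mpr hN).squarefree
  have h1 : minpoly F A ∣ Polynomial.X ^ N - 1 := minpoly.dvd _ _ (by simp [hAN])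
  have h2 : minpoly F A ∣ P ^ k := minpoly.dvd _ _ (by rw [map_pow]; exact hk)
  obtain ⟨R, hR⟩ := (hsq.squarefree_of_dvd h1).isRadical k P h2
  show Polynomial.aeval A P = 0
  rw [hR, map_mul, minpoly.aeval, zero_mul]

/-- A symmetric invertible matrix commuting with a semisimple symplectic matrix is `S° S` in its centraliser. -/
theorem exists_factor [Fintype F] {J A Ai H : Matrix n n F} {N : ℕ} (hN : (N : F) ≠ 0) (hAN : A ^ N = 1)
    (hJ : IsUnit J) (hJT : Jᵀ = -J) (hJalt : ∀ u, u ⬝ᵥ (J *ᵥ u) = 0) (hAJ : Aᵀ * J * A = J) (hAi : A * Ai = 1)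
    (hH : IsUnit H) (hHalt : ∀ u, u ⬝ᵥ ((J * H) *ᵥ u) = 0) (hHA : Commute A H) (hHT : Hᵀ * J = J * H) :
    ∃ S : Matrix n n F, IsUnit S ∧ Commute A S ∧ Sᵀ * J * S = J * H := by
  classical
  obtain ⟨Ji, hJi⟩ := hJ.exists_left_inv
  have hJi' : J * Ji = 1 := mul_eq_one_comm.mp hJi
  have hAi' : Ai * A = 1 := mul_eq_one_comm.mp hAi
  have hN0 : N ≠ 0 := fun h => hN (by rw [h, Nat.cast_zero])
  have hAiN : Ai = A ^ (N - 1) := by
    calc Ai = Ai * A ^ N := by rw [hAN, mul_one]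
      _ = Ai * A * A ^ (N - 1) := by rw [mul_assoc, ← pow_succ', Nat.sub_add_cancel (Nat.one_le_iff_ne_zero.mpr hN0)]
      _ = A ^ (N - 1) := by rw [hAi', one_mul]
  have hAT : Aᵀ * J = J * Ai := by
    calc Aᵀ * J = Aᵀ * J * (A * Ai) := by rw [hAi, mul_one]
      _ = J * Ai := by rw [← mul_assoc, hAJ]
  let R : Subalgebra F (Matrix n n F) := Algebra.adjoin F ({A, H} : Set (Matrix n n F))
  have hAR : A ∈ R := Algebra.subset_adjoin (Set.mem_insert _ _)
  have hHR : H ∈ R := Algebra.subset_adjoin (Set.mem_insert_of_mem _ rfl)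
  have hAiR : Ai ∈ R := hAiN ▸ R.pow_mem hAR _
  have hcomm : ∀ x ∈ R, ∀ y ∈ R, x * y = y * x := by
    intro x hx y hy
    exact congrArg Subtype.val ((Algebra.adjoinCommRingOfComm F (s := ({A, H} : Set (Matrix n n F))) (by
      intro a ha b hb
      simp only [Set.mem_insert_iff, Set.mem_singleton_iff] at ha hb
      rcases ha with rfl | rfl <;> rcases hb with rfl | rfl <;> first | rfl | exact hHA.eq | exact hHA.eq.symm)).mul_comm
        ⟨x, hx⟩ ⟨y, hy⟩)
  letI : CommRing R := { (inferInstance : Ring R) with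
    mul_comm := fun x y => Subtype.ext (hcomm _ x.2 _ y.2) }
  let R₀ : Subring R :=
    { carrier := {r | (r : Matrix n n F)ᵀ * J = J * (r : Matrix n n F)}
      mul_mem' := fun {x y} hx hy => by
        show ((x : Matrix n n F) * (y : Matrix n n F))ᵀ * J = J * ((x : Matrix n n F) * (y : Matrix n n F))
        rw [Matrix.transpose_mul, mul_assoc, hx, ← mul_assoc, hy, mul_assoc, hcomm _ x.2 _ y.2]
      one_mem' := by show (1 : Matrix n n F)ᵀ * J = J * 1; simp
      add_mem' := fun {x y} hx hy => by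
        show ((x : Matrix n n F) + (y : Matrix n n F))ᵀ * J = J * ((x : Matrix n n F) + (y : Matrix n n F))
        rw [Matrix.transpose_add, add_mul, hx, hy, mul_add]
      zero_mem' := by show (0 : Matrix n n F)ᵀ * J = J * 0; simp
      neg_mem' := fun {x} hx => by
        show (-(x : Matrix n n F))ᵀ * J = J * (-(x : Matrix n n F))
        rw [Matrix.transpose_neg, neg_mul, hx, mul_neg] }
  have hAiT : Aiᵀ * J = J * A := by
    calc Aiᵀ * J = Aiᵀ * J * (Ai * A) := by rw [hAi', mul_one]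
      _ = Aiᵀ * (Aᵀ * J) * A := by rw [hAT]; simp only [mul_assoc]
      _ = (A * Ai)ᵀ * J * A := by rw [Matrix.transpose_mul]; simp only [mul_assoc]
      _ = J * A := by rw [hAi, Matrix.transpose_one, one_mul]
  let t : R₀ := ⟨⟨A + Ai, R.add_mem hAR hAiR⟩, by
    show (A + Ai)ᵀ * J = J * (A + Ai)
    rw [Matrix.transpose_add, add_mul, hAT, hAiT, mul_add, add_comm]⟩
  let D : R₀ := t ^ 2 - 4
  obtain ⟨k, hk1, hk⟩ := exists_idempotent_pow D
  set e : R₀ := D ^ k with he
  let hh : R₀ := ⟨⟨H, hHR⟩, hHT⟩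
  have hhu : IsUnit hh := IsUnit.isUnit_iff_mulLeft_bijective.mpr (Finite.injective_iff_bijective.mp fun x y hxy =>
    Subtype.ext (Subtype.ext (hH.mul_left_cancel
      (congrArg (fun r : R₀ => ((r : R) : Matrix n n F)) hxy))))
  obtain ⟨hi, hhi⟩ := hhu.exists_left_inv
  have h1e : e * e = e := hk
  obtain ⟨a, b, hab⟩ := Cfsg.Lib.Linear.HermitianNorm.exists_repr (e * t + (1 - e)) e
    (by
      refine IsUnit.of_mul_eq_one (e * D ^ (k - 1) + (1 - e)) ?_
      rw [idem_disc h1e]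
      refine idem_inv h1e ?_
      rw [← pow_succ', Nat.sub_add_cancel hk1]
      exact h1e)
    (by
      rcases eq_or_ne (2 : F) 0 with h | h
      · right
        refine Subtype.ext (Subtype.ext ?_)
        show (2 : Matrix n n F) = 0
        rw [← map_ofNat (algebraMap F (Matrix n n F)) 2, h, map_zero]
      · left
        refine IsUnit.of_mul_eq_one (⟨algebraMap F R (2 : F)⁻¹, ?_⟩ : R₀) (Subtype.ext (Subtype.ext ?_))
        · show (algebraMap F (Matrix n n F) (2 : F)⁻¹)ᵀ * J = J * algebraMap F (Matrix n n F) (2 : F)⁻¹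
          rw [Algebra.algebraMap_eq_smul_one, Matrix.transpose_smul, Matrix.transpose_one, smul_mul_assoc, one_mul,
            mul_smul_comm, mul_one]
        · show (2 : Matrix n n F) * algebraMap F (Matrix n n F) (2 : F)⁻¹ = 1
          rw [← map_ofNat (algebraMap F (Matrix n n F)) 2, ← map_mul, mul_inv_cancel₀ h, map_one])
    (h := e * hh + (1 - e))
    (IsUnit.of_mul_eq_one (e * hi + (1 - e)) (idem_inv h1e (by rw [mul_comm hh, hhi, mul_one])))
  -- matrices
  set a' : Matrix n n F := ((a : R) : Matrix n n F) with ha'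
  set b' : Matrix n n F := ((b : R) : Matrix n n F) with hb'
  set e' : Matrix n n F := ((e : R) : Matrix n n F) with he'
  have heT : e'ᵀ * J = J * e' := e.2
  have he2 : e' * e' = e' := congrArg (fun r : R₀ => ((r : R) : Matrix n n F)) h1e
  have heR : e' ∈ R := (e : R).2
  have habe : e' * (a' * a' + (A + Ai) * a' * b' + b' * b') = e' * H := by
    have h := congrArg (fun r : R₀ => ((r : R) : Matrix n n F))
      (idem_repr h1e hab)
    exact h
  have heA : e' ∈ Algebra.adjoin F ({A} : Set (Matrix n n F)) := by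
    have hA1 : A ∈ Algebra.adjoin F ({A} : Set (Matrix n n F)) := Algebra.self_mem_adjoin_singleton F A
    have hA2 : Ai ∈ Algebra.adjoin F ({A} : Set (Matrix n n F)) := hAiN ▸ Subalgebra.pow_mem _ hA1 _
    have h : e' = ((A + Ai) ^ 2 - 4) ^ k := rfl
    rw [h]
    refine Subalgebra.pow_mem _ (Subalgebra.sub_mem _ (Subalgebra.pow_mem _ (Subalgebra.add_mem _ hA1 hA2) _) ?_) _
    rw [← map_ofNat (algebraMap F (Matrix n n F)) 4]
    exact Subalgebra.algebraMap_mem _ _
  -- on the complement `A` is an involution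
  have hinv : (A - Ai) * (1 - e') = 0 := by
    have hA1 : A ∈ Algebra.adjoin F ({A} : Set (Matrix n n F)) := Algebra.self_mem_adjoin_singleton F A
    refine eq_zero_of_nilpotent hN hAN (Subalgebra.mul_mem _ (Subalgebra.sub_mem _ hA1
      (hAiN ▸ Subalgebra.pow_mem _ hA1 _)) (Subalgebra.sub_mem _ (Subalgebra.one_mem _) heA)) ⟨2 * k, ?_⟩
    have h0 : (((⟨A, hAR⟩ : R) - ⟨Ai, hAiR⟩) * (1 - (e : R))) ^ (2 * k) = 0 := by
      have hAA : (⟨A, hAR⟩ : R) * ⟨Ai, hAiR⟩ = 1 := Subtype.ext hAi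
      have hDR : ((⟨A, hAR⟩ : R) - ⟨Ai, hAiR⟩) ^ 2 = (D : R) := by
        show _ = ((⟨A, hAR⟩ : R) + ⟨Ai, hAiR⟩) ^ 2 - 4
        linear_combination (-4 : R) * hAA
      have hee : (e : R) * (e : R) = (e : R) := congrArg Subtype.val h1e
      have hidem : IsIdempotentElem (1 - (e : R)) :=
        IsIdempotentElem.one_sub (show IsIdempotentElem (e : R) from hee)
      rw [mul_pow, pow_mul, hDR, hidem.pow_eq (by omega)]
      show (e : R) * (1 - (e : R)) = 0
      rw [mul_sub, mul_one, hee, sub_self]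
    exact congrArg (Subtype.val : R → Matrix n n F) h0
  obtain ⟨fp, fm, hsum, hfpm, hp, hm, hAp, hAm, hpR, hmR⟩ : ∃ fp fm : Matrix n n F,
      fp + fm = 1 - e' ∧ fp * fm = 0 ∧ (fp * fp = fp ∧ fpᵀ * J = J * fp) ∧ (fm * fm = fm ∧ fmᵀ * J = J * fm) ∧
      A * fp = fp ∧ A * fm = -fm ∧ fp ∈ R ∧ fm ∈ R := by
    have he1 : (1 - e') * (1 - e') = 1 - e' := by
      rw [mul_sub, mul_one, sub_mul, one_mul, he2, sub_self, sub_zero]
    have h1T : (1 - e')ᵀ * J = J * (1 - e') := by
      rw [Matrix.transpose_sub, Matrix.transpose_one, sub_mul, one_mul, heT, mul_sub, mul_one]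
    have hA2 : A * A * (1 - e') = 1 - e' := by
      have h := hinv
      rw [sub_mul, sub_eq_zero] at h
      rw [mul_assoc, h, ← mul_assoc, hAi, one_mul]
    have hAe : A * (1 - e') = (1 - e') * A := hcomm _ hAR _ (R.sub_mem R.one_mem heR)
    rcases eq_or_ne (2 : F) 0 with h | h
    · refine ⟨1 - e', 0, add_zero _, mul_zero _, ⟨he1, h1T⟩, ⟨mul_zero _, by simp⟩, ?_, by simp,
        R.sub_mem R.one_mem heR, R.zero_mem⟩
      have h2 : (2 : Matrix n n F) = 0 := by rw [← map_ofNat (algebraMap F (Matrix n n F)) 2, h, map_zero]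
      have hz : (A - 1) * (1 - e') = 0 := by
        refine eq_zero_of_nilpotent hN hAN (Subalgebra.mul_mem _ (Subalgebra.sub_mem _
          (Algebra.self_mem_adjoin_singleton F A) (Subalgebra.one_mem _))
          (Subalgebra.sub_mem _ (Subalgebra.one_mem _) heA)) ⟨2, ?_⟩
        calc ((A - 1) * (1 - e')) ^ 2 = (A - 1) * ((1 - e') * A - (1 - e')) * (1 - e') := by
              rw [pow_two]; noncomm_ring
          _ = (A - 1) * (A - 1) * ((1 - e') * (1 - e')) := by rw [← hAe]; noncomm_ring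
          _ = (A * A + 1 - 2 * A) * (1 - e') := by rw [he1]; noncomm_ring
          _ = 2 * (1 - e') := by
              rw [h2, zero_mul, sub_zero, add_mul, hA2, one_mul, zero_mul, ← two_mul, h2, zero_mul]
          _ = 0 := by rw [h2, zero_mul]
      rwa [sub_mul, one_mul, sub_eq_zero] at hz
    · set g : Matrix n n F := (1 - e') with hg
      have hAg : Ai * g = A * g := by rw [eq_comm, ← sub_eq_zero, ← sub_mul]; exact hinv
      have hgA : gᵀ * J = J * g := h1T
      have hgR : g ∈ R := R.sub_mem R.one_mem heR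
      clear_value g
      have hAgT : (A * g)ᵀ * J = J * (A * g) := by
        rw [Matrix.transpose_mul, mul_assoc, hAT, ← mul_assoc, hgA, mul_assoc, ← hAg]
        exact congrArg (J * ·) (hcomm _ hgR _ hAiR)
      have hhalf : (2 : F)⁻¹ + (2 : F)⁻¹ = 1 := by rw [← two_mul, mul_inv_cancel₀ h]
      have hgAg : g * (A * g) = A * g := by rw [← mul_assoc, ← hAe, mul_assoc, he1]
      have hAgAg : A * g * (A * g) = g := by rw [mul_assoc, hgAg, ← mul_assoc, hA2]
      have hAgg : A * g * g = A * g := by rw [mul_assoc, he1]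
      have hAAg : A * (A * g) = g := by rw [← mul_assoc, hA2]
      refine ⟨(2 : F)⁻¹ • (g + A * g), (2 : F)⁻¹ • (g - A * g), ?_, ?_, ⟨?_, ?_⟩, ⟨?_, ?_⟩, ?_, ?_,
        R.smul_mem (R.add_mem hgR (R.mul_mem hAR hgR)) _, R.smul_mem (R.sub_mem hgR (R.mul_mem hAR hgR)) _⟩
      · rw [← smul_add, add_add_sub_cancel, smul_add, ← add_smul, hhalf, one_smul]
      · rw [smul_mul_smul_comm, add_mul, mul_sub, mul_sub, he1, hgAg, hAgg, hAgAg]
        simp
      · rw [smul_mul_smul_comm, add_mul, mul_add, mul_add, he1, hgAg, hAgg, hAgAg,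
          show g + A * g + (A * g + g) = (2 : F) • (g + A * g) by rw [two_smul]; abel, smul_smul, mul_assoc,
          inv_mul_cancel₀ h, mul_one]
      · rw [Matrix.transpose_smul, Matrix.transpose_add, smul_mul_assoc, add_mul, hgA, hAgT, mul_smul_comm, mul_add]
      · rw [smul_mul_smul_comm, sub_mul, mul_sub, mul_sub, he1, hgAg, hAgg, hAgAg,
          show g - A * g - (A * g - g) = (2 : F) • (g - A * g) by rw [two_smul]; abel, smul_smul, mul_assoc,
          inv_mul_cancel₀ h, mul_one]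
      · rw [Matrix.transpose_smul, Matrix.transpose_sub, smul_mul_assoc, sub_mul, hgA, hAgT, mul_smul_comm, mul_sub]
      · rw [mul_smul_comm, mul_add, hAAg, add_comm]
      · rw [mul_smul_comm, mul_sub, hAAg, ← smul_neg, neg_sub]
  obtain ⟨Sp, hp1, hp2, hp3⟩ := exists_local J H fp hJ hH hJalt hHalt hp.1 hp.2 (hcomm _ hpR _ hHR)
  obtain ⟨Sm, hm1, hm2, hm3⟩ := exists_local J H fm hJ hH hJalt hHalt hm.1 hm.2 (hcomm _ hmR _ hHR)
  set s : Matrix n n F := e' * (a' + b' * A) with hs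
  refine ⟨s + Sp + Sm, ?_⟩
  have key : (s + Sp + Sm)ᵀ * J * (s + Sp + Sm) = J * H := by
    have hpe : fp * e' = 0 ∧ fm * e' = 0 := by
      have hz : (fp + fm) * e' = 0 := by rw [hsum, sub_mul, one_mul, he2, sub_self]
      constructor
      · calc fp * e' = fp * ((fp + fm) * e') := by rw [add_mul fp fm, mul_add, ← mul_assoc, ← mul_assoc, hp.1, hfpm,
              zero_mul, add_zero]
          _ = 0 := by rw [hz, mul_zero]
      · calc fm * e' = fm * ((fp + fm) * e') := by rw [add_mul fp fm, mul_add, ← mul_assoc, ← mul_assoc, hm.1,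
              hcomm _ hmR _ hpR, hfpm, zero_mul, zero_add]
          _ = 0 := by rw [hz, mul_zero]
    have cross : ∀ u v X Y : Matrix n n F, uᵀ * J = J * u → u * v = 0 → (u * X)ᵀ * J * (v * Y) = 0 := by
      intro u v X Y hu huv
      rw [Matrix.transpose_mul, show Xᵀ * uᵀ * J * (v * Y) = Xᵀ * (uᵀ * J) * v * Y by simp only [mul_assoc], hu,
        show Xᵀ * (J * u) * v * Y = Xᵀ * J * (u * v) * Y by simp only [mul_assoc], huv, mul_zero, zero_mul]
    have c1 : sᵀ * J * Sp = 0 := by rw [← hp1]; exact cross _ _ _ _ heT (by rw [hcomm _ heR _ hpR]; exact hpe.1)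
    have c2 : sᵀ * J * Sm = 0 := by rw [← hm1]; exact cross _ _ _ _ heT (by rw [hcomm _ heR _ hmR]; exact hpe.2)
    have c3 : Spᵀ * J * s = 0 := by rw [← hp1]; exact cross _ _ _ _ hp.2 hpe.1
    have c4 : Smᵀ * J * s = 0 := by rw [← hm1]; exact cross _ _ _ _ hm.2 hpe.2
    have c5 : Spᵀ * J * Sm = 0 := by rw [← hp1, ← hm1]; exact cross _ _ _ _ hp.2 hfpm
    have c6 : Smᵀ * J * Sp = 0 := by
      rw [← hp1, ← hm1]; exact cross _ _ _ _ hm.2 (by rw [hcomm _ hmR _ hpR]; exact hfpm)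
    have c0 : sᵀ * J * s = J * H * e' := by
      have haT : a'ᵀ * J = J * a' := a.2
      have hbT : b'ᵀ * J = J * b' := b.2
      have h1 : (a' + b' * A)ᵀ * J = J * (a' + Ai * b') := by
        rw [Matrix.transpose_add, Matrix.transpose_mul, add_mul, haT, mul_assoc, hbT, ← mul_assoc, hAT, mul_add,
          mul_assoc]
      have hRR : (⟨e', heR⟩ : R) * ((⟨a', (a : R).2⟩ : R) + ⟨Ai, hAiR⟩ * ⟨b', (b : R).2⟩) *
          (⟨e', heR⟩ * ((⟨a', (a : R).2⟩ : R) + ⟨b', (b : R).2⟩ * ⟨A, hAR⟩)) = ⟨H, hHR⟩ * ⟨e', heR⟩ := by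
        have hAA : (⟨A, hAR⟩ : R) * ⟨Ai, hAiR⟩ = 1 := Subtype.ext hAi
        have hee : (⟨e', heR⟩ : R) * ⟨e', heR⟩ = ⟨e', heR⟩ := Subtype.ext he2
        have hE : (⟨e', heR⟩ : R) * ((⟨a', (a : R).2⟩ : R) * ⟨a', (a : R).2⟩ + (⟨A, hAR⟩ + ⟨Ai, hAiR⟩) * ⟨a', (a : R).2⟩ * ⟨b', (b : R).2⟩ +
            ⟨b', (b : R).2⟩ * ⟨b', (b : R).2⟩) = ⟨e', heR⟩ * ⟨H, hHR⟩ := Subtype.ext habe
        linear_combination hE + ((⟨a', (a : R).2⟩ : R) + ⟨Ai, hAiR⟩ * ⟨b', (b : R).2⟩) *
          ((⟨a', (a : R).2⟩ : R) + ⟨b', (b : R).2⟩ * ⟨A, hAR⟩) * hee +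
          (⟨e', heR⟩ : R) * ⟨b', (b : R).2⟩ * ⟨b', (b : R).2⟩ * hAA
      have hM : e' * (a' + Ai * b') * (e' * (a' + b' * A)) = H * e' := congrArg Subtype.val hRR
      have hc : (a' + Ai * b') * e' = e' * (a' + Ai * b') :=
        hcomm _ (R.add_mem (a : R).2 (R.mul_mem hAiR (b : R).2)) _ heR
      calc sᵀ * J * s = (a' + b' * A)ᵀ * (e'ᵀ * J) * (e' * (a' + b' * A)) := by
            rw [hs, Matrix.transpose_mul]; simp only [mul_assoc]
        _ = ((a' + b' * A)ᵀ * J) * e' * (e' * (a' + b' * A)) := by rw [heT]; simp only [mul_assoc]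
        _ = J * ((a' + Ai * b') * e') * (e' * (a' + b' * A)) := by rw [h1]; simp only [mul_assoc]
        _ = J * (e' * (a' + Ai * b') * (e' * (a' + b' * A))) := by rw [hc]; simp only [mul_assoc]
        _ = J * H * e' := by rw [hM, mul_assoc]
    simp only [Matrix.transpose_add, add_mul, mul_add, c0, c1, c2, c3, c4, c5, c6, hp3, hm3, add_zero, zero_add]
    rw [add_assoc, ← mul_add, hsum, mul_sub, mul_one, add_sub_cancel]
  refine ⟨?_, ?_, key⟩
  · have hu : IsUnit ((s + Sp + Sm).det) := by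
      have h := congrArg Matrix.det key
      rw [Matrix.det_mul, Matrix.det_mul, Matrix.det_transpose, Matrix.det_mul] at h
      have hne : (J.det * H.det) ≠ 0 :=
        mul_ne_zero ((Matrix.isUnit_iff_isUnit_det J).mp hJ).ne_zero ((Matrix.isUnit_iff_isUnit_det H).mp hH).ne_zero
      exact isUnit_iff_ne_zero.mpr fun h0 => hne (by rw [← h, h0, mul_zero])
    exact (Matrix.isUnit_iff_isUnit_det _).mpr hu
  · refine Commute.add_right (Commute.add_right ?_ ?_) ?_
    · exact hcomm _ hAR _ (R.mul_mem heR (R.add_mem (a : R).2 (R.mul_mem (b : R).2 hAR)))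
    · show A * Sp = Sp * A
      calc A * Sp = A * (fp * Sp) := by rw [hp1]
        _ = Sp := by rw [← mul_assoc, hAp, hp1]
        _ = Sp * (fp * A) := by rw [← hcomm _ hAR _ hpR, hAp, hp2]
        _ = Sp * A := by rw [← mul_assoc, hp2]
    · show A * Sm = Sm * A
      calc A * Sm = A * (fm * Sm) := by rw [hm1]
        _ = -Sm := by rw [← mul_assoc, hAm, neg_mul, hm1]
        _ = Sm * (fm * A) := by rw [← hcomm _ hAR _ hmR, hAm, mul_neg, hm2]
        _ = Sm * A := by rw [← mul_assoc, hm2]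

end Cfsg.Lib.Linear.SympConj
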