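import Cfsg.Agent.Lib.Linear.ExtField.Basic

/-!
# Overgroups of a symplectic group over an extension field of prime degree

`h` is an alternating `K`-form and `B` its trace.  If a group of isometries of `B` contains the
root elements of `h` and moves some line, then some image of a line pairs with some line in rank
one, and then commutators of root elements produce a transvection of `B`.
-/

set_option autoImplicit false

namespace Cfsg.Lib.Linear.SympExt

open Module Cfsg.Lib.Linear.ExtField

variable {F K V : Type*} [Field F] [Field K] [Algebra F K] [AddCommGroup V] [Module F V]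
  [Module K V] [IsScalarTower F K V]
  {B : LinearMap.BilinForm F V} {h : LinearMap.BilinForm K V} {G : Subgroup (V ≃ₗ[F] V)}

/-- The root map at a vector. -/
def root (h : LinearMap.BilinForm K V) (v : V) (a : K) : V →ₗ[F] V :=
  ((a • h v).smulRight v).restrictScalars F

@[simp] theorem root_apply (v x : V) (a : K) : root (F := F) h v a x = (a * h v x) • v := rfl

/-- The symmetric map of two vectors. -/
def symMap (B : LinearMap.BilinForm F V) (v w : V) : V →ₗ[F] V :=
  (B v).smulRight w + (B w).smulRight v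

@[simp] theorem symMap_apply (v w x : V) : symMap B v w x = B v x • w + B w x • v := rfl

/-- The transvection map. -/
def qMap (B : LinearMap.BilinForm F V) (c : F) (v : V) : V →ₗ[F] V := (c • B v).smulRight v

@[simp] theorem qMap_apply (v x : V) (c : F) : qMap B c v x = (c * B v x) • v := rfl

/-- The trace of a non-degenerate alternating form over the extension. -/
structure Data (B : LinearMap.BilinForm F V) (h : LinearMap.BilinForm K V) : Prop where
  alt : ∀ v, h v v = 0
  tr : ∀ x y, B x y = Algebra.trace F K (h x y)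
  sep : ∀ x, (∀ y, h x y = 0) → x = 0

/-- A group of isometries containing the root elements and moving a line. -/
structure Over (B : LinearMap.BilinForm F V) (h : LinearMap.BilinForm K V)
    (G : Subgroup (V ≃ₗ[F] V)) : Prop where
  isom : ∀ g ∈ G, ∀ x y, B (g x) (g y) = B x y
  roots : ∀ v a, InG G (root h v a)
  moved : ∃ g ∈ G, ∃ (v : V) (k : K), g (k • v) ∉ K ∙ g v

theorem Data.skew (D : Data B h) (x y : V) : h y x = -h x y := by
  have := D.alt (x + y)
  simp only [map_add, LinearMap.add_apply, D.alt] at this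
  linear_combination this

theorem Data.alt' (D : Data B h) (v : V) : B v v = 0 := by rw [D.tr, D.alt, map_zero]

theorem Data.smul_left (D : Data B h) (k : K) (x y : V) :
    B (k • x) y = Algebra.trace F K (k * h x y) := by
  rw [D.tr, map_smul, LinearMap.smul_apply, smul_eq_mul]

theorem Data.smul_right (D : Data B h) (k : K) (x y : V) :
    B x (k • y) = Algebra.trace F K (k * h x y) := by
  rw [D.tr, map_smul, smul_eq_mul]

theorem trace_algebraMap_mul (c : F) (k : K) :
    Algebra.trace F K (algebraMap F K c * k) = c * Algebra.trace F K k := by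
  rw [← Algebra.smul_def, map_smul, smul_eq_mul]

theorem InG.symConj (hG : Over B h G) {v w : V} (hv : InG G (symMap B v w)) {g : V ≃ₗ[F] V}
    (hg : g ∈ G) : InG G (symMap B (g v) (g w)) := by
  refine InG.conj hv hg fun x => ?_
  simp [map_add, map_smul, hG.isom g hg]

section Finite

variable [Finite K] [FiniteDimensional F K] [FiniteDimensional K V]

theorem ext_trace {a b : K} (e : ∀ k, Algebra.trace F K (k * a) = Algebra.trace F K (k * b)) :
    a = b := by
  haveI : Finite F := Finite.of_injective _ (algebraMap F K).injective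
  refine sub_eq_zero.1 ((traceForm_nondegenerate F K).1 _ fun k => ?_)
  rw [Algebra.traceForm_apply, mul_comm, mul_sub, map_sub, e, sub_self]

theorem exists_dual (D : Data B h) (μ : V →ₗ[K] K) : ∃ v, ∀ x, h v x = μ x := by
  have hinj : Function.Injective (h : V →ₗ[K] (V →ₗ[K] K)) := by
    rw [← LinearMap.ker_eq_bot, eq_bot_iff]
    exact fun x hx => (Submodule.mem_bot K).2
      (D.sep x fun y => by rw [LinearMap.mem_ker.1 hx, LinearMap.zero_apply])
  obtain ⟨v, hv⟩ := (LinearMap.injective_iff_surjective_of_finrank_eq_finrank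
    (Subspace.dual_finrank_eq (K := K) (V := V)).symm).1 hinj μ
  exact ⟨v, fun x => by rw [hv]⟩

omit [Finite K] [FiniteDimensional F K] [FiniteDimensional K V] in
/-- The pairing of an image of a line with a line. -/
def pair (h : LinearMap.BilinForm K V) (g : V ≃ₗ[F] V) (u p : V) : K →ₗ[F] K :=
  (h p).restrictScalars F ∘ₗ (g : V →ₗ[F] V) ∘ₗ
    (LinearMap.toSpanSingleton K V u).restrictScalars F

omit [Finite K] [FiniteDimensional F K] [FiniteDimensional K V] in
@[simp] theorem pair_apply (g : V ≃ₗ[F] V) (u p : V) (k : K) :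
    pair h g u p k = h p (g (k • u)) := rfl

theorem exists_pair (D : Data B h) (hG : Over B h G) :
    ∃ g ∈ G, ∃ u p, pair h g u p ≠ 0 ∧ LinearMap.ker (pair h g u p) ≠ ⊥ := by
  obtain ⟨g, hg, v, k, hk⟩ := hG.moved
  obtain ⟨μ, hμ, hμ1⟩ := exists_functional _ hk
  obtain ⟨p, hp⟩ := exists_dual D μ
  refine ⟨g, hg, v, p, fun e => ?_, fun e => ?_⟩
  · have := LinearMap.congr_fun e k
    rw [pair_apply, hp, hμ1] at this
    simp at this
  · have : (1 : K) ∈ LinearMap.ker (pair h g v p) := by
      rw [LinearMap.mem_ker, pair_apply, one_smul, hp]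
      exact hμ _ (Submodule.mem_span_singleton_self _)
    rw [e, Submodule.mem_bot] at this
    exact one_ne_zero this

/-- Some image of a line pairs with some line in rank one. -/
theorem exists_rankOne (D : Data B h) (hG : Over B h G) (hr : (finrank F K).Prime) :
    ∃ g ∈ G, ∃ (u p : V) (τ : K →ₗ[F] F), τ ≠ 0 ∧
      ∀ k, h p (g (k • u)) = algebraMap F K (τ k) := by
  classical
  let P : ℕ → Prop := fun s => ∃ g ∈ G, ∃ u p, finrank F (LinearMap.range (pair h g u p)) = s ∧
    0 < s ∧ s < finrank F K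
  have hex : ∃ s, P s := by
    obtain ⟨g, hg, u, p, h0, hker⟩ := exists_pair D hG
    have h1 := (pair h g u p).finrank_range_add_finrank_ker
    refine ⟨_, g, hg, u, p, rfl, Nat.pos_of_ne_zero fun e => h0 ?_, ?_⟩
    · exact LinearMap.range_eq_bot.1 (Submodule.finrank_eq_zero.1 e)
    · have : finrank F (LinearMap.ker (pair h g u p)) ≠ 0 := fun e =>
        hker (Submodule.finrank_eq_zero.1 e)
      omega
  obtain ⟨g, hg, u, p, hs, hs0, hsr⟩ := Nat.find_spec hex
  set f := pair h g u p
  set J := LinearMap.range f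
  -- the annihilator of the values
  let T : K →ₗ[F] Module.Dual F J :=
    (LinearMap.domRestrict' J) ∘ₗ (Algebra.traceForm F K)
  set K₀ := LinearMap.ker T
  have hK₀ : ∀ c, c ∈ K₀ ↔ ∀ k, Algebra.trace F K (c * f k) = 0 := fun c => by
    constructor
    · intro hc k
      exact LinearMap.congr_fun (LinearMap.mem_ker.1 hc) ⟨f k, k, rfl⟩
    · intro hc
      refine LinearMap.mem_ker.2 (LinearMap.ext fun ⟨z, k, hk⟩ => ?_)
      subst hk
      exact hc k
  have hK₀bot : K₀ ≠ ⊥ := by
    intro e
    have h1 := T.finrank_range_add_finrank_ker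
    rw [show LinearMap.ker T = ⊥ from e, finrank_bot, add_zero] at h1
    have h2 := Submodule.finrank_le (LinearMap.range T)
    rw [Subspace.dual_finrank_eq, h1, hs] at h2
    omega
  have key : ∀ c ∈ K₀, ∀ k₀, f k₀ ≠ 0 → ∀ k₁, (f k₁ / f k₀) * c ∈ K₀ := by
    intro c hc k₀ hk₀ k₁
    set b := c / f k₀
    obtain ⟨X, hX, hXa⟩ := hG.roots p b
    set g₂ : V ≃ₗ[F] V := g⁻¹ * X * g
    have hg₂ : g₂ ∈ G := G.mul_mem (G.mul_mem (G.inv_mem hg) hX) hg
    have happ : ∀ k : K, g (g₂ (k • u)) = g (k • u) + (b * f k) • p := fun k => by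
      show g (g.symm (X (g (k • u)))) = _
      rw [g.apply_symm_apply, hXa]
      rfl
    set f' := pair h g₂ u u
    have htr : ∀ k' k, Algebra.trace F K (k' * f' k) = -Algebra.trace F K (b * f k * f k') := by
      intro k' k
      rw [show f' k = h u (g₂ (k • u)) from rfl, ← D.smul_left, ← hG.isom g hg, happ, map_add,
        hG.isom g hg, D.smul_left, map_smul, D.alt, smul_zero, mul_zero, map_zero, zero_add,
        D.smul_right, D.skew p, show h p (g (k' • u)) = f k' from rfl, mul_neg, map_neg]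
    have hker : LinearMap.ker f ≤ LinearMap.ker f' := by
      intro k hk
      rw [LinearMap.mem_ker] at hk ⊢
      refine ext_trace (F := F) fun k' => ?_
      rw [htr, hk, mul_zero, zero_mul, map_zero, neg_zero, mul_zero, map_zero]
    have hk₀' : k₀ ∈ LinearMap.ker f' := by
      refine LinearMap.mem_ker.2 (ext_trace (F := F) fun k' => ?_)
      rw [htr, div_mul_cancel₀ _ hk₀, (hK₀ c).1 hc k', neg_zero, mul_zero, map_zero]
    have hlt : LinearMap.ker f < LinearMap.ker f' :=
      lt_of_le_of_ne hker fun e => hk₀ (LinearMap.mem_ker.1 (e ▸ hk₀'))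
    have h1 := Submodule.finrank_lt_finrank_of_lt hlt
    have h2 := f.finrank_range_add_finrank_ker
    have h3 := f'.finrank_range_add_finrank_ker
    have h4 : finrank F (LinearMap.range f') = 0 := by
      by_contra hne
      have h5 : finrank F (LinearMap.range f) = Nat.find hex := hs
      refine Nat.find_min hex (m := finrank F (LinearMap.range f')) (by omega)
        ⟨g₂, hg₂, u, u, rfl, Nat.pos_of_ne_zero hne, by omega⟩
    have h5 : f' = 0 := LinearMap.range_eq_bot.1 (Submodule.finrank_eq_zero.1 h4)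
    refine (hK₀ _).2 fun k' => ?_
    have h6 := htr k' k₁
    rw [h5, LinearMap.zero_apply, mul_zero, map_zero, eq_comm, neg_eq_zero] at h6
    rw [show f k₁ / f k₀ * c = b * f k₁ by simp only [b]; ring]
    exact h6
  obtain ⟨k₀, hk₀⟩ : ∃ k₀, f k₀ ≠ 0 := by
    by_contra hc
    push Not at hc
    have : J = ⊥ := LinearMap.range_eq_bot.2 (LinearMap.ext hc)
    rw [this, finrank_bot] at hs
    omega
  let S : Subalgebra F K :=
    { carrier := {a | ∀ c ∈ K₀, a * c ∈ K₀}
      mul_mem' := fun {a b} ha hb c hc => by rw [mul_assoc]; exact ha _ (hb _ hc)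
      one_mem' := fun c hc => by rwa [one_mul]
      add_mem' := fun {a b} ha hb c hc => by rw [add_mul]; exact K₀.add_mem (ha _ hc) (hb _ hc)
      zero_mem' := fun c _ => by rw [zero_mul]; exact K₀.zero_mem
      algebraMap_mem' := fun a c hc => by rw [← Algebra.smul_def]; exact K₀.smul_mem a hc }
  have hS : ∀ k, f k / f k₀ ∈ S := fun k c hc => key c hc k₀ hk₀ k
  have hbot : S = ⊥ := by
    have := Subalgebra.isSimpleOrder_of_finrank_prime F K hr
    refine (eq_bot_or_eq_top S).resolve_right fun e => hk₀ ?_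
    obtain ⟨c, hc, hc0⟩ := (Submodule.ne_bot_iff _).1 hK₀bot
    refine ext_trace (F := F) fun z => ?_
    have hz : z ∈ K₀ := by
      have h1 : z / c ∈ S := e ▸ Algebra.mem_top
      have h2 := h1 c hc
      rwa [div_mul_cancel₀ _ hc0] at h2
    rw [(hK₀ z).1 hz k₀, mul_zero, map_zero]
  let p' := (f k₀)⁻¹ • p
  have hval : ∀ k, ∃ t : F, h p' (g (k • u)) = algebraMap F K t := fun k => by
    obtain ⟨t, ht⟩ := Algebra.mem_bot.1 (hbot ▸ hS k)
    refine ⟨t, ?_⟩
    rw [ht, map_smul, LinearMap.smul_apply, smul_eq_mul, div_eq_mul_inv, mul_comm]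
    rfl
  choose τ hτ using hval
  have hinj := (algebraMap F K).injective
  let τ' : K →ₗ[F] F :=
    { toFun := τ
      map_add' := fun a b => hinj (by
        rw [← hτ, map_add, ← hτ, ← hτ, add_smul, map_add, map_add])
      map_smul' := fun c a => hinj (by
        rw [RingHom.id_apply, smul_eq_mul, map_mul, ← hτ, ← hτ, smul_assoc, g.map_smul,
          ← algebraMap_smul K c (g _), (h p').map_smul, smul_eq_mul]) }
  refine ⟨g, hg, u, p', τ', fun e => ?_, hτ⟩
  have h1 := hτ k₀
  rw [show τ k₀ = τ' k₀ from rfl, e, LinearMap.zero_apply, map_zero, map_smul, LinearMap.smul_apply,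
    smul_eq_mul, show h p (g (k₀ • u)) = f k₀ from rfl, inv_mul_cancel₀ hk₀] at h1
  exact one_ne_zero h1

/-- An element scaling `p` and fixing `e`. -/
theorem exists_torus (D : Data B h) (hG : Over B h G) {p e : V} (hp : p ∉ K ∙ e)
    (hpe : h p e = 0) {k : K} (hk : k ≠ 0) :
    ∃ M ∈ G, (∀ s : K, M (s • p) = (k * s) • p) ∧ M e = e := by
  obtain ⟨μ, hμe, hμp⟩ := exists_functional _ hp
  obtain ⟨p', hp'⟩ := exists_dual D μ
  have h1 : h p' p = 1 := by rw [hp', hμp]
  have h2 : h p' e = 0 := by rw [hp']; exact hμe _ (Submodule.mem_span_singleton_self _)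
  have h3 : h p p' = -1 := by rw [D.skew p' p, h1]
  have hpp := D.alt p
  have hpp' := D.alt p'
  obtain ⟨X₁, hX₁, hX₁a⟩ := hG.roots p 1
  obtain ⟨Y₁, hY₁, hY₁a⟩ := hG.roots p' 1
  obtain ⟨X, hX, hXa⟩ := hG.roots p (-k⁻¹)
  obtain ⟨Y, hY, hYa⟩ := hG.roots p' (-k)
  refine ⟨X₁ * Y₁ * X₁ * (X * Y * X), G.mul_mem (G.mul_mem (G.mul_mem hX₁ hY₁) hX₁)
    (G.mul_mem (G.mul_mem hX hY) hX), fun s => ?_, ?_⟩
  · show X₁ (Y₁ (X₁ (X (Y (X (s • p)))))) = _
    have e1 : X (s • p) = s • p := by simp [hXa, hpp]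
    have e2 : Y (s • p) = s • p + (-(k * s)) • p' := by simp [hYa, h1, mul_comm]
    have e3 : X (s • p + (-(k * s)) • p') = (-(k * s)) • p' := by
      rw [hXa]
      simp [hpp, h3, hk]
    have e4 : X₁ ((-(k * s)) • p') = (-(k * s)) • p' + (k * s) • p := by simp [hX₁a, h3]
    have e5 : Y₁ ((-(k * s)) • p' + (k * s) • p) = (k * s) • p := by
      rw [hY₁a]
      simp [hpp', h1]
    have e6 : X₁ ((k * s) • p) = (k * s) • p := by simp [hX₁a, hpp]
    rw [e1, e2, e3, e4, e5, e6]
  · show X₁ (Y₁ (X₁ (X (Y (X e))))) = _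
    simp [hX₁a, hY₁a, hXa, hYa, hpe, h2]

/-- A pairing of rank one. -/
structure RankOne (h : LinearMap.BilinForm K V) (G : Subgroup (V ≃ₗ[F] V)) (g : V ≃ₗ[F] V)
    (u p : V) (τ : K →ₗ[F] F) : Prop where
  mem : g ∈ G
  ne : τ ≠ 0
  eq : ∀ k, h p (g (k • u)) = algebraMap F K (τ k)

variable {g : V ≃ₗ[F] V} {u p : V} {τ : K →ₗ[F] F}

/-- The commutators of the two root groups. -/
theorem RankOne.inG (D : Data B h) (hG : Over B h G) (R : RankOne h G g u p τ) {c : K}
    (hc : τ c = 0) (b : K) :
    InG G (symMap B (b • p) (g (c • u)) - qMap B (Algebra.trace F K b) (g (c • u))) := by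
  set e := g (c • u) with he
  obtain ⟨k₀, hk₀⟩ := Algebra.trace_surjective F K 1
  set t : K := -h u (g.symm (k₀ • p)) with ht
  have key : ∀ k' k, Algebra.trace F K (k' * h u (g.symm (k • p))) =
      -(Algebra.trace F K k * τ k') := fun k' k => by
    rw [← D.smul_left, ← hG.isom g R.mem, g.apply_symm_apply, D.smul_right, D.skew p, R.eq,
      mul_neg, map_neg, mul_comm, trace_algebraMap_mul, mul_comm]
  have hadj : ∀ k, h u (g.symm (k • p)) = -(algebraMap F K (Algebra.trace F K k) * t) := fun k => by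
    refine ext_trace (F := F) fun k' => ?_
    simp only [key, ht, mul_neg, neg_neg]
    rw [mul_left_comm, trace_algebraMap_mul, key, hk₀]
    ring
  have ht0 : t ≠ 0 := fun e0 => R.ne (LinearMap.ext fun k' => by
    have := key k' k₀
    rw [hadj, e0, mul_zero, neg_zero, mul_zero, map_zero, hk₀, one_mul, eq_comm,
      neg_eq_zero] at this
    exact this)
  let s : V →ₗ[F] V := (g : V →ₗ[F] V) ∘ₗ root h u (c / t) ∘ₗ (g.symm : V →ₗ[F] V)
  obtain ⟨A, hA, hAs⟩ : InG G s := InG.conj (hG.roots u (c / t)) R.mem fun x => by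
    simp [s]
  have hAp : ∀ k, A (k • p) = k • p - Algebra.trace F K k • e := fun k => by
    rw [hAs, sub_eq_add_neg, add_right_inj]
    show g ((c / t * h u (g.symm (k • p))) • u) = _
    rw [hadj, mul_neg, mul_left_comm, div_mul_cancel₀ _ ht0, neg_smul, mul_smul, algebraMap_smul,
      map_neg, map_smul]
  have hAinv : ∀ x, h p (A.symm x) = h p x - algebraMap F K (B e x) := fun x => by
    refine ext_trace (F := F) fun k => ?_
    rw [← D.smul_left, ← hG.isom A hA, A.apply_symm_apply, hAp, map_sub, LinearMap.sub_apply,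
      D.smul_left, map_smul, LinearMap.smul_apply, smul_eq_mul, mul_sub, map_sub,
      mul_comm k (algebraMap F K _), trace_algebraMap_mul]
    ring
  set d := symMap B (b • p) e - qMap B (Algebra.trace F K b) e with hd
  have h1 : InG G (d + root h p (-b)) := by
    refine InG.conj (hG.roots p (-b)) hA fun x => ?_
    rw [root_apply, hAp]
    have e1 : h p x = h p (A x) - algebraMap F K (B e (A x)) := by
      have := hAinv (A x)
      rwa [A.symm_apply_apply] at this
    have e2 : Algebra.trace F K (-b * h p x) = -B (b • p) (A x) + B e (A x) * Algebra.trace F K b := by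
      rw [e1, D.smul_left, neg_mul, map_neg, mul_sub, map_sub, mul_comm b (algebraMap F K _),
        trace_algebraMap_mul]
      ring
    rw [e2, e1]
    simp only [hd, LinearMap.add_apply, LinearMap.sub_apply, symMap_apply, qMap_apply, root_apply]
    rw [← algebraMap_smul K (B e (A x)) (b • p), smul_smul]
    module
  refine (h1.add (hG.roots p b) fun x => ?_).congr fun x => ?_
  · have e1 : ∀ k : K, B e (k • p) = 0 := fun k => by
      rw [D.smul_right, D.skew p, he, R.eq, hc, map_zero, neg_zero, mul_zero, map_zero]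
    have e2 : ∀ k : K, B (b • p) (k • p) = 0 := fun k => by
      rw [D.smul_left, map_smul, D.alt, smul_zero, mul_zero, map_zero]
    simp [hd, e1, e2, D.alt]
  · rw [LinearMap.add_apply, LinearMap.add_apply, add_assoc, root_apply, root_apply, ← add_smul,
      ← add_mul, neg_add_cancel, zero_mul, zero_smul, add_zero]

theorem RankOne.sym_inG (D : Data B h) (hG : Over B h G) (R : RankOne h G g u p τ) {c : K}
    (hc : τ c = 0) {b : K} (hb : Algebra.trace F K b = 0) :
    InG G (symMap B (b • p) (g (c • u))) := by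
  refine (R.inG D hG hc b).congr fun x => ?_
  simp [hb]

/-- A symmetric element for every multiplier gives a transvection. -/
theorem RankOne.tv (D : Data B h) (hG : Over B h G) (R : RankOne h G g u p τ) {c : K}
    (hc : τ c = 0) (hall : ∀ b : K, InG G (symMap B (b • p) (g (c • u)))) (a : F) :
    InG G (qMap B a (g (c • u))) := by
  obtain ⟨b, hb⟩ := Algebra.trace_surjective F K (-a)
  refine ((R.inG D hG hc b).add (hall (-b)) fun x => ?_).congr fun x => ?_
  · have e1 : ∀ k : K, B (g (c • u)) (k • p) = 0 := fun k => by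
      rw [D.smul_right, D.skew p, R.eq, hc, map_zero, neg_zero, mul_zero, map_zero]
    have e2 : ∀ j k : K, B (j • p) (k • p) = 0 := fun j k => by
      rw [D.smul_left, map_smul, D.alt, smul_zero, mul_zero, map_zero]
    have e3 : ∀ j : K, B (j • p) (g (c • u)) = 0 := fun j => by
      rw [D.smul_left, R.eq, hc, map_zero, mul_zero, map_zero]
    simp only [LinearMap.sub_apply, symMap_apply, qMap_apply, map_add, map_smul, e1, e2, e3,
      D.alt', smul_eq_mul, mul_zero, zero_smul, smul_zero, add_zero, sub_zero]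
  · simp only [LinearMap.add_apply, LinearMap.sub_apply, symMap_apply, qMap_apply, hb, neg_smul,
      map_neg, LinearMap.neg_apply, smul_neg, neg_mul]
    abel

theorem finrank_trace_ker :
    finrank F (LinearMap.ker (Algebra.trace F K)) + 1 = finrank F K := by
  haveI : Finite F := Finite.of_injective _ (algebraMap F K).injective
  have h1 := (Algebra.trace F K).finrank_range_add_finrank_ker
  rw [LinearMap.range_eq_top.2 (Algebra.trace_surjective F K), finrank_top, finrank_self] at h1
  omega

/-- A pairing of rank one yields a transvection. -/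
theorem exists_tv (D : Data B h) (hG : Over B h G) (hr : (finrank F K).Prime)
    (hn : 3 ≤ finrank F K ∨ 4 ≤ finrank K V) :
    ∃ e : V, e ≠ 0 ∧ ∀ a, InG G (qMap B a e) := by
  obtain ⟨g, hg, u, p, τ, hτ, hp⟩ := exists_rankOne D hG hr
  have R : RankOne h G g u p τ := ⟨hg, hτ, hp⟩
  have hr2 := hr.two_le
  have hu : u ≠ 0 := fun e => hτ (LinearMap.ext fun k => (algebraMap F K).injective (by
    rw [← hp, e, smul_zero, map_zero, map_zero, LinearMap.zero_apply, map_zero]))
  let Φ : K →ₗ[F] V :=
    (g : V →ₗ[F] V) ∘ₗ (LinearMap.toSpanSingleton K V u).restrictScalars F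
  have hΦ : Function.Injective Φ := g.injective.comp (smul_left_injective K hu)
  have hτsurj : Function.Surjective τ := LinearMap.surjective hτ
  have hkerτ : finrank F (LinearMap.ker τ) + 1 = finrank F K := by
    have h1 := τ.finrank_range_add_finrank_ker
    rw [LinearMap.range_eq_top.2 hτsurj, finrank_top, finrank_self] at h1
    omega
  obtain ⟨c, hcτ, hc0⟩ := (Submodule.ne_bot_iff _).1 (show LinearMap.ker τ ≠ ⊥ from fun e => by
    rw [e, finrank_bot] at hkerτ; omega)
  rw [LinearMap.mem_ker] at hcτ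
  obtain ⟨b₀, hb₀, hb₀0⟩ := (Submodule.ne_bot_iff _).1
    (show LinearMap.ker (Algebra.trace F K) ≠ ⊥ from fun e => by
      have := finrank_trace_ker (F := F) (K := K)
      rw [e, finrank_bot] at this; omega)
  rw [LinearMap.mem_ker] at hb₀
  have hne : ∀ (p' : V) (τ' : K →ₗ[F] F), RankOne h G g u p' τ' → ∀ c', τ' c' = 0 →
      Φ c' ≠ 0 → p' ∉ K ∙ Φ c' → ∀ a, InG G (qMap B a (Φ c')) := by
    intro p' τ' R' c' hc' _ hnot
    refine R'.tv D hG hc' fun b => ?_
    rcases eq_or_ne b 0 with rfl | hb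
    · exact InG.zero.congr fun x => by simp
    obtain ⟨M, hM, hMp, hMe⟩ := exists_torus D hG hnot
      (by show h p' (g (c' • u)) = 0; rw [R'.eq, hc', map_zero])
      (show b / b₀ ≠ 0 from div_ne_zero hb hb₀0)
    have := InG.symConj hG (R'.sym_inG D hG hc' hb₀) hM
    rwa [hMp, div_mul_cancel₀ _ hb₀0, show M (g (c' • u)) = g (c' • u) from hMe] at this
  have hp0 : p ≠ 0 := fun e => hτ (LinearMap.ext fun k => (algebraMap F K).injective (by
    rw [← hp, e, map_zero, LinearMap.zero_apply, LinearMap.zero_apply, map_zero]))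
  by_cases hcase : ∃ c' ∈ LinearMap.ker τ, Φ c' ≠ 0 ∧ p ∉ K ∙ Φ c'
  · obtain ⟨c', hc', h0, hnot⟩ := hcase
    exact ⟨_, h0, hne p τ R c' (LinearMap.mem_ker.1 hc') h0 hnot⟩
  push Not at hcase
  have hline : ∀ c' ∈ LinearMap.ker τ, ∃ γ : K, Φ c' = γ • p := fun c' hc' => by
    rcases eq_or_ne (Φ c') 0 with h0 | h0
    · exact ⟨0, by rw [h0, zero_smul]⟩
    · obtain ⟨a, ha⟩ := Submodule.mem_span_singleton.1 (hcase c' hc' h0)
      have ha0 : a ≠ 0 := fun e => hp0 (by rw [← ha, e, zero_smul])
      exact ⟨a⁻¹, by rw [← ha, smul_smul, inv_mul_cancel₀ ha0, one_smul]⟩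
  have he0 : Φ c ≠ 0 := fun e => hc0 (hΦ (by rw [e, map_zero]))
  obtain ⟨γ, hγ⟩ := hline c (LinearMap.mem_ker.2 hcτ)
  have hγ0 : γ ≠ 0 := fun e => he0 (by rw [hγ, e, zero_smul])
  rcases Nat.lt_or_ge (finrank F K) 3 with hlt | hge
  · -- move `p` by a vector orthogonal to the image of the line
    have h4 : 4 ≤ finrank K V := hn.resolve_left (by omega)
    let bas := Module.finBasis F K
    let ψ : V →ₗ[K] (Fin (finrank F K) → K) := LinearMap.pi fun i => h (g (bas i • u))
    have h1 := ψ.finrank_range_add_finrank_ker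
    have h2 := Submodule.finrank_le (LinearMap.range ψ)
    rw [finrank_fin_fun] at h2
    obtain ⟨z, hz, hzp⟩ : ∃ z ∈ LinearMap.ker ψ, z ∉ K ∙ p := by
      by_contra hcon
      push Not at hcon
      have h3 := Submodule.finrank_mono (show LinearMap.ker ψ ≤ K ∙ p from hcon)
      rw [finrank_span_singleton hp0] at h3
      omega
    have hz' : pair h g u z = 0 := bas.ext fun i => by
      have : h (g (bas i • u)) z = 0 := congrFun (LinearMap.mem_ker.1 hz) i
      rw [pair_apply, D.skew, this, neg_zero, LinearMap.zero_apply]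
    have R' : RankOne h G g u (p + z) τ := ⟨hg, hτ, fun k => by
      rw [map_add, LinearMap.add_apply, hp,
        show h z (g (k • u)) = 0 from LinearMap.congr_fun hz' k, add_zero]⟩
    refine ⟨_, he0, hne (p + z) τ R' c hcτ he0 fun hm => hzp ?_⟩
    obtain ⟨a, ha⟩ := Submodule.mem_span_singleton.1 hm
    rw [hγ, smul_smul] at ha
    refine Submodule.mem_span_singleton.2 ⟨a * γ - 1, ?_⟩
    rw [sub_smul, one_smul, ha, add_sub_cancel_left]
  · refine ⟨_, he0, R.tv D hG hcτ fun b => ?_⟩
    rcases eq_or_ne b 0 with rfl | hb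
    · exact InG.zero.congr fun x => by simp
    let L : K →ₗ[F] V := (LinearMap.toSpanSingleton K V p).restrictScalars F
    have hL : Function.Injective L := smul_left_injective K hp0
    set Γ := ((LinearMap.ker τ).map Φ).comap L
    have hΓ : finrank F (LinearMap.ker τ) ≤ finrank F Γ := by
      have h1 : Γ.map L = (LinearMap.ker τ).map Φ := Submodule.map_comap_eq_of_le (by
        rintro _ ⟨c', hc', rfl⟩
        obtain ⟨γ', hγ'⟩ := hline c' hc'
        exact ⟨γ', hγ'.symm⟩)
      rw [(Submodule.equivMapOfInjective L hL Γ).finrank_eq, h1,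
        ← (Submodule.equivMapOfInjective Φ hΦ (LinearMap.ker τ)).finrank_eq]
    let Mb : K ≃ₗ[F] K := LinearEquiv.ofBijective (LinearMap.mulRight F b)
      ⟨mul_left_injective₀ hb, fun y => ⟨y / b, div_mul_cancel₀ _ hb⟩⟩
    let Mγ : K ≃ₗ[F] K := LinearEquiv.ofBijective (LinearMap.mulRight F γ)
      ⟨mul_left_injective₀ hγ0, fun y => ⟨y / γ, div_mul_cancel₀ _ hγ0⟩⟩
    have h1 := Submodule.finrank_sup_add_finrank_inf_eq
      ((LinearMap.ker (Algebra.trace F K)).map (Mb.symm : K →ₗ[F] K)) (Γ.map (Mγ.symm : K →ₗ[F] K))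
    have h2 := Submodule.finrank_le
      ((LinearMap.ker (Algebra.trace F K)).map (Mb.symm : K →ₗ[F] K) ⊔ Γ.map (Mγ.symm : K →ₗ[F] K))
    rw [LinearEquiv.finrank_map_eq, LinearEquiv.finrank_map_eq] at h1
    have h3 := finrank_trace_ker (F := F) (K := K)
    obtain ⟨k, hk, hk0⟩ := (Submodule.ne_bot_iff _).1
      (show (LinearMap.ker (Algebra.trace F K)).map (Mb.symm : K →ₗ[F] K) ⊓
        Γ.map (Mγ.symm : K →ₗ[F] K) ≠ ⊥ from fun e => by
          rw [e, finrank_bot] at h1; omega)
    have hk1 : Algebra.trace F K (k * b) = 0 :=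
      LinearMap.mem_ker.1 ((Submodule.mem_map_equiv _).1 hk.1)
    obtain ⟨c', hc', hc'e⟩ : k * γ ∈ Γ := (Submodule.mem_map_equiv _).1 hk.2
    obtain ⟨M, hM, hMp, -⟩ := exists_torus D hG (p := p) (e := 0) (by simpa using hp0)
      (map_zero _) (inv_ne_zero hk0)
    have hsym := InG.symConj hG (R.sym_inG D hG (LinearMap.mem_ker.1 hc') hk1) hM
    rw [show g (c' • u) = (k * γ) • p from hc'e, hMp, hMp, inv_mul_cancel_left₀ hk0,
      inv_mul_cancel_left₀ hk0] at hsym
    show InG G (symMap B (b • p) (Φ c))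
    rwa [hγ]

/-- Some root element moves a vector to another which is not orthogonal to it. -/
theorem exists_move (D : Data B h) (hG : Over B h G) {e v : V} (he : e ≠ 0) (hv : v ≠ 0) :
    ∃ M ∈ G, M e = v := by
  have step : ∀ x y : V, h x y ≠ 0 → ∃ M ∈ G, M x = y := by
    intro x y hxy
    have hd : h (y - x) x = -h x y := by
      rw [map_sub, LinearMap.sub_apply, D.alt, sub_zero, D.skew x y]
    obtain ⟨M, hM, hMa⟩ := hG.roots (y - x) (-h x y)⁻¹
    refine ⟨M, hM, ?_⟩
    rw [hMa, root_apply, hd, inv_mul_cancel₀ (neg_ne_zero.2 hxy), one_smul, add_sub_cancel]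
  obtain ⟨a, ha⟩ : ∃ a, h e a ≠ 0 := by
    by_contra hc
    push Not at hc
    exact he (D.sep e hc)
  obtain ⟨b, hb⟩ : ∃ b, h v b ≠ 0 := by
    by_contra hc
    push Not at hc
    exact hv (D.sep v hc)
  obtain ⟨w, hw1, hw2⟩ : ∃ w, h e w ≠ 0 ∧ h v w ≠ 0 := by
    by_cases h1 : h v a = 0
    · by_cases h2 : h e b = 0
      · exact ⟨a + b, by rwa [map_add, h2, add_zero], by rwa [map_add, h1, zero_add]⟩
      · exact ⟨b, h2, hb⟩
    · exact ⟨a, ha, h1⟩
  obtain ⟨M₁, hM₁, e1⟩ := step e w hw1
  obtain ⟨M₂, hM₂, e2⟩ := step w v (by rwa [D.skew v, neg_ne_zero])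
  exact ⟨M₂ * M₁, G.mul_mem hM₂ hM₁, by show M₂ (M₁ e) = v; rw [e1, e2]⟩

/-- Every transvection lies in the group. -/
theorem tv_mem (D : Data B h) (hG : Over B h G) (hr : (finrank F K).Prime)
    (hn : 3 ≤ finrank F K ∨ 4 ≤ finrank K V) (v : V) (a : F) : InG G (qMap B a v) := by
  obtain ⟨e, he, htv⟩ := exists_tv D hG hr hn
  rcases eq_or_ne v 0 with rfl | hv
  · exact InG.zero.congr fun x => by simp
  obtain ⟨M, hM, hMe⟩ := exists_move D hG he hv
  refine InG.conj (htv a) hM fun x => ?_
  rw [← hMe]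
  simp [hG.isom M hM]

end Finite

end Cfsg.Lib.Linear.SympExt
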