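import Cfsg.Agent.Lib.Linear.OrthOverfield
import Cfsg.Agent.Lib.Linear.SymplecticMax
import Cfsg.Agent.Lib.Linear.OrthTrans

/-!
# The unitary group over a quadratic overfield inside a symplectic group of odd characteristic

`θ` generates the quadratic field, `θ² = -N`, and it is skew for the alternating form `B`.  The
quadratic form `v ↦ B v (θ v)` detects the isotropic vectors of the hermitian form.
-/

set_option autoImplicit false

namespace Cfsg.Lib.Linear.SympQ2

open Module
open scoped Matrix commutatorElement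
open Cfsg.Lib.Linear.Orth Cfsg.Lib.Linear.OrthQ2

/-- An element built from two elements of odd order lies in a subgroup containing their
commutators, if it has order dividing four. -/
theorem mem_of_comms {G : Type*} [Group G] (H : Subgroup G) {A U : G} {p : ℕ} (hp : Odd p)
    (hA : A ^ p = 1) (hU : U ^ p = 1) (hc : ∀ i j : ℕ, ⁅A ^ i, U ^ j⁆ ∈ H)
    (hw : (U * A * U) ^ 4 = 1) : U * A * U ∈ H := by
  set S : Set G := {x | ∃ i j : ℕ, x = ⁅A ^ i, U ^ j⁆}
  set N := Subgroup.closure S with hN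
  have hNH : N ≤ H := (Subgroup.closure_le H).mpr fun x ⟨i, j, e⟩ => e ▸ hc i j
  have hS : ∀ i j : ℕ, ⁅A ^ i, U ^ j⁆ ∈ N := fun i j => Subgroup.subset_closure ⟨i, j, rfl⟩
  have conjN : ∀ g : G, (∀ i j : ℕ, g * ⁅A ^ i, U ^ j⁆ * g⁻¹ ∈ N) → ∀ n ∈ N, g * n * g⁻¹ ∈ N := by
    intro g hg n hn
    refine Subgroup.closure_induction (p := fun n _ => g * n * g⁻¹ ∈ N) ?_ ?_ ?_ ?_ hn
    · rintro x ⟨i, j, rfl⟩; exact hg i j
    · simp
    · intro a b _ _ ha hb
      rw [show g * (a * b) * g⁻¹ = g * a * g⁻¹ * (g * b * g⁻¹) by group]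
      exact mul_mem ha hb
    · intro a _ ha
      rw [show g * a⁻¹ * g⁻¹ = (g * a * g⁻¹)⁻¹ by group]
      exact inv_mem ha
  have hAN : ∀ n ∈ N, A * n * A⁻¹ ∈ N := conjN A fun i j => by
    rw [show A * ⁅A ^ i, U ^ j⁆ * A⁻¹ = ⁅A ^ (i + 1), U ^ j⁆ * ⁅A ^ 1, U ^ j⁆⁻¹ by
      rw [pow_succ' A i, pow_one A]; simp only [commutatorElement_def]; group]
    exact mul_mem (hS _ _) (inv_mem (hS _ _))
  have hUN : ∀ n ∈ N, U * n * U⁻¹ ∈ N := conjN U fun i j => by
    rw [show U * ⁅A ^ i, U ^ j⁆ * U⁻¹ = ⁅A ^ i, U ^ 1⁆⁻¹ * ⁅A ^ i, U ^ (j + 1)⁆ by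
      rw [pow_succ' U j, pow_one U]; simp only [commutatorElement_def]; group]
    exact mul_mem (inv_mem (hS _ _)) (hS _ _)
  have powN : ∀ g : G, (∀ n ∈ N, g * n * g⁻¹ ∈ N) → ∀ (k : ℕ), ∀ n ∈ N,
      g ^ k * n * (g ^ k)⁻¹ ∈ N := by
    intro g hg k
    induction k with
    | zero => simp
    | succ k ih =>
      intro n hn
      rw [show g ^ (k + 1) * n * (g ^ (k + 1))⁻¹ = g * (g ^ k * n * (g ^ k)⁻¹) * g⁻¹ by
        rw [pow_succ']; group]
      exact hg _ (ih n hn)
  set K := Subgroup.closure ({A, U} : Set G)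
  have hAK : A ∈ K := Subgroup.subset_closure (by simp)
  have hUK : U ∈ K := Subgroup.subset_closure (by simp)
  have invs : A⁻¹ = A ^ (p - 1) ∧ U⁻¹ = U ^ (p - 1) := by
    have h1 : p - 1 + 1 = p := by obtain ⟨k, rfl⟩ := hp; omega
    exact ⟨inv_eq_of_mul_eq_one_left (by rw [← pow_succ, h1, hA]),
      inv_eq_of_mul_eq_one_left (by rw [← pow_succ, h1, hU])⟩
  have hKN : ∀ g ∈ K, (∀ n ∈ N, g * n * g⁻¹ ∈ N) ∧ ∀ n ∈ N, g⁻¹ * n * g⁻¹⁻¹ ∈ N := by
    intro g hg
    refine Subgroup.closure_induction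
      (p := fun g _ => (∀ n ∈ N, g * n * g⁻¹ ∈ N) ∧ ∀ n ∈ N, g⁻¹ * n * g⁻¹⁻¹ ∈ N) ?_ ?_ ?_ ?_ hg
    · rintro x (rfl | rfl)
      · exact ⟨hAN, fun n hn => by rw [invs.1]; exact powN x hAN _ n hn⟩
      · exact ⟨hUN, fun n hn => by rw [invs.2]; exact powN x hUN _ n hn⟩
    · simp
    · intro a b _ _ ha hb
      refine ⟨fun n hn => ?_, fun n hn => ?_⟩
      · rw [show a * b * n * (a * b)⁻¹ = a * (b * n * b⁻¹) * a⁻¹ by group]
        exact ha.1 _ (hb.1 n hn)
      · rw [show (a * b)⁻¹ * n * (a * b)⁻¹⁻¹ = b⁻¹ * (a⁻¹ * n * a⁻¹⁻¹) * b⁻¹⁻¹ by group]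
        exact hb.2 _ (ha.2 n hn)
    · intro a _ ha
      exact ⟨ha.2, fun n hn => by rw [inv_inv]; exact ha.1 n hn⟩
  haveI : (N.subgroupOf K).Normal := ⟨fun n hn g => by
    rw [Subgroup.mem_subgroupOf] at hn ⊢
    exact (hKN g g.2).1 _ hn⟩
  set q := QuotientGroup.mk' (N.subgroupOf K)
  set A' : K := ⟨A, hAK⟩
  set U' : K := ⟨U, hUK⟩
  have hcomm : Commute (q A') (q U') := by
    rw [← commutatorElement_eq_one_iff_commute, ← map_commutatorElement, QuotientGroup.mk'_apply,
      QuotientGroup.eq_one_iff, Subgroup.mem_subgroupOf]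
    have := hS 1 1
    rwa [pow_one, pow_one] at this
  have h4 : (q (U' * A' * U')) ^ 4 = 1 := by
    rw [← map_pow, show (U' * A' * U') ^ 4 = 1 from Subtype.ext hw, map_one]
  have hpA : q A' ^ p = 1 := by
    rw [← map_pow, show A' ^ p = 1 from Subtype.ext hA, map_one]
  have hpU : q U' ^ p = 1 := by
    rw [← map_pow, show U' ^ p = 1 from Subtype.ext hU, map_one]
  have hpw : (q (U' * A' * U')) ^ p = 1 := by
    rw [map_mul, map_mul, ← hcomm.eq, mul_assoc, hcomm.mul_right hcomm |>.mul_pow,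
      (Commute.refl (q U')).mul_pow, hpA, hpU, mul_one, mul_one]
  have hgcd : Nat.gcd 4 p = 1 := by
    have h2 : Nat.Coprime 2 p := by
      obtain ⟨k, rfl⟩ := hp
      simp
    exact Nat.Coprime.pow_left 2 h2
  have h1 : q (U' * A' * U') = 1 := by
    have := pow_gcd_eq_one.mpr ⟨h4, hpw⟩
    rwa [hgcd, pow_one] at this
  rw [QuotientGroup.mk'_apply, QuotientGroup.eq_one_iff, Subgroup.mem_subgroupOf] at h1
  exact hNH h1

variable {ι : Type} [Fintype ι] [DecidableEq ι] {F : Type*} [Field F]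
  {B : LinearMap.BilinForm F (ι → F)}

/-- The standing hypotheses: `θ` skew for `B`, with `θ² = -N`. -/
structure SkewOp (B : LinearMap.BilinForm F (ι → F)) (θ : (ι → F) →ₗ[F] (ι → F)) (N : F) : Prop where
  nondeg : B.Nondegenerate
  alt : B.IsAlt
  card : 10 ≤ Fintype.card ι
  two : (2 : F) ≠ 0
  sq : ∀ v, θ (θ v) = -(N • v)
  skew : ∀ u v, B (θ u) v = -B u (θ v)
  neN : N ≠ 0
  free : ∀ v, v ≠ 0 → ∀ c : F, θ v ≠ c • v

/-- The quadratic form `v ↦ B v (θ v)`. -/
def sQ (B : LinearMap.BilinForm F (ι → F)) (θ : (ι → F) →ₗ[F] (ι → F)) (v : ι → F) : F := B v (θ v)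

/-- Its polar form. -/
def sP (B : LinearMap.BilinForm F (ι → F)) (θ : (ι → F) →ₗ[F] (ι → F)) :
    LinearMap.BilinForm F (ι → F) := (2 : F) • B.compl₂ θ

variable {θ : (ι → F) →ₗ[F] (ι → F)} {N : F}

theorem sP_apply (u v : ι → F) : sP B θ u v = 2 * B u (θ v) := by simp [sP]

section

variable (D : SkewOp B θ N)

include D

theorem SkewOp.swap (u v : ι → F) : B v u = -B u v := (LinearMap.IsAlt.neg D.alt u v).symm

theorem SkewOp.op_op (u v : ι → F) : B (θ u) (θ v) = N * B u v := by
  rw [D.skew, D.sq]; simp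

theorem SkewOp.quadOp : QuadOp (sQ B θ) (sP B θ) θ 0 N := by
  have hs : ∀ u v, B v (θ u) = B u (θ v) := fun u v => by rw [D.swap, D.skew, neg_neg]
  refine ⟨⟨fun c v => ?_, fun u v => ?_, fun v hv => ?_⟩, (by have := D.card; omega), fun v => ?_, fun u v => ?_,
    fun v => ?_, fun v _ => ?_, D.neN, D.free⟩
  · simp [sQ]; ring
  · simp only [QuadraticMap.polar, sQ, sP_apply, map_add, LinearMap.add_apply]
    linear_combination hs u v
  · have h0 : θ v = 0 := D.nondeg.2 _ fun u => by
      have := hv u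
      rw [sP_apply] at this
      exact (mul_eq_zero.mp this).resolve_left D.two
    by_contra hne
    exact D.free v hne 0 (by rw [h0, zero_smul])
  · rw [D.sq]; simp
  · simp only [sP_apply, zero_smul, zero_sub, map_neg]
    rw [D.skew]; ring
  · simp only [sQ]; rw [D.op_op]
  · simp only [sP_apply]
    rw [D.sq]; simp [D.alt.self_eq_zero v]

theorem SkewOp.perp_iff {u v : ι → F} :
    sP B θ u v = 0 ↔ B u (θ v) = 0 := by
  rw [sP_apply, mul_eq_zero]
  exact ⟨fun h => h.resolve_left D.two, Or.inr⟩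

theorem SkewOp.op_perp_iff {u v : ι → F} : sP B θ (θ u) v = 0 ↔ B u v = 0 := by
  rw [D.perp_iff, D.op_op, mul_eq_zero]
  exact ⟨fun h => h.resolve_left D.neN, Or.inr⟩

/-- The norm of the hermitian form. -/
theorem SkewOp.kap_ne {v : ι → F} (hv : v ≠ 0) {p q : F} (h : p ≠ 0 ∨ q ≠ 0) :
    N * p ^ 2 + q ^ 2 ≠ 0 := by
  have := D.quadOp.norm_ne hv (a := q) (b := p) h.symm
  intro h0
  exact this (by linear_combination h0)

/-- The unitary transvection on a singular line. -/
def uT (hA : B.IsAlt) (θ : (ι → F) →ₗ[F] (ι → F)) (N : F) (u : ι → F) (c : F) :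
    (ι → F) ≃ₗ[F] (ι → F) :=
  Symp.tv hA u (c * N) * Symp.tv hA (θ u) c

theorem SkewOp.uT_apply {u : ι → F} (hu : sQ B θ u = 0) (c : F) (z : ι → F) :
    uT D.alt θ N u c z = z + (c * N * B z u) • u + (c * B z (θ u)) • θ u := by
  have h : B (θ u) u = 0 := by rw [D.swap]; exact neg_eq_zero.mpr hu
  simp only [uT, LinearEquiv.mul_apply, Symp.tv_apply, map_add, map_smul, LinearMap.add_apply,
    LinearMap.smul_apply, h, smul_zero, mul_zero, zero_smul, add_zero]

theorem SkewOp.uT_comm {u : ι → F} (hu : sQ B θ u = 0) (c : F) (z : ι → F) :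
    θ (uT D.alt θ N u c z) = uT D.alt θ N u c (θ z) := by
  rw [D.uT_apply hu, D.uT_apply hu, map_add, map_add, map_smul, map_smul, D.sq, D.skew, D.op_op]
  module

end

variable [Finite F] (D : SkewOp B θ N) {H : Subgroup ((ι → F) ≃ₗ[F] (ι → F))}
  (hH : H ≤ Symp.iso B) (hroot : ∀ u, sQ B θ u = 0 → ∀ c, uT D.alt θ N u c ∈ H)

include hH

theorem SkewOp.centres_join {v w : ι → F} (hv : v ∈ Symp.centres D.alt H)
    (hw : w ∈ Symp.centres D.alt H) (h : B v w ≠ 0) (s t : F) :
    s • v + t • w ∈ Symp.centres D.alt H := by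
  have hs : ∀ {x : ι → F}, x ∈ Symp.centres D.alt H → ∀ k : F, k • x ∈ Symp.centres D.alt H :=
    fun hx k c => by rw [Symp.tv_smul]; exact hx _
  by_cases ht : t = 0
  · rw [ht, zero_smul, add_zero]; exact hs hv s
  have h1 := Symp.centres_invariant D.alt hH (hv (s / t / B w v)) hw
  have hne : B w v ≠ 0 := by rw [D.swap]; exact neg_ne_zero.mpr h
  rw [Symp.tv_apply, div_mul_cancel₀ _ hne] at h1
  have h2 := hs h1 t
  rwa [smul_add, smul_smul, mul_div_cancel₀ _ ht, add_comm] at h2

include hroot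

/-- A plane that is not a line over the field gives a transvection. -/
theorem SkewOp.exists_centre {g : (ι → F) ≃ₗ[F] (ι → F)} (hg : g ∈ H) {u₀ : ι → F}
    (hu₀ : sQ B θ u₀ = 0) (hne : g (θ u₀) ∉ kLine θ (g u₀)) :
    ∃ a, a ≠ 0 ∧ a ∈ Symp.centres D.alt H := by
  classical
  have Dq := D.quadOp
  have hu0 : u₀ ≠ 0 := fun h => hne (by simp [h])
  set x := g u₀ with hx
  set y := g (θ u₀) with hy
  have hx0 : x ≠ 0 := fun h => hu0 (g.injective (by rw [← hx, h, map_zero]))
  have hxy : B x y = 0 := by rw [hx, hy, hH hg]; exact hu₀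
  have hg1 : ∀ μ : F, Symp.tv D.alt x (μ * N) * Symp.tv D.alt y μ ∈ H := fun μ => by
    have h := mul_mem (mul_mem hg (hroot u₀ hu₀ μ)) (inv_mem hg)
    rwa [uT, ← mul_assoc, mul_assoc (g * _), show g * Symp.tv D.alt u₀ (μ * N) *
      (Symp.tv D.alt (θ u₀) μ * g⁻¹) = g * Symp.tv D.alt u₀ (μ * N) * g⁻¹ *
        (g * Symp.tv D.alt (θ u₀) μ * g⁻¹) by group, Symp.tv_conj D.alt (hH hg),
      Symp.tv_conj D.alt (hH hg)] at h
  set P := Submodule.span F (({x, y} : Finset (ι → F)) : Set (ι → F)) with hP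
  have hxP : x ∈ P := Submodule.subset_span (by simp)
  have hyP : y ∈ P := Submodule.subset_span (by simp)
  obtain ⟨z, hz, hzP⟩ : ∃ z ∈ ({x, y} : Finset (ι → F)), θ z ∉ P := by
    by_contra hc
    push Not at hc
    have h1 : kLine θ x ≤ P := Submodule.span_le.mpr (by
      rintro _ (rfl | rfl)
      · exact hxP
      · exact hc x (by simp))
    have h2 : finrank F P ≤ finrank F (kLine θ x) := by
      have h3 : finrank F P ≤ 2 := by
        rw [hP, Finset.coe_insert, Finset.coe_singleton]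
        exact finrank_span_pair_le x y
      have hli : LinearIndependent F ![x, θ x] :=
        (LinearIndependent.pair_iff' hx0).mpr fun c h => D.free x hx0 c h.symm
      have h4 := finrank_span_eq_card hli
      rw [show Set.range ![x, θ x] = ({x, θ x} : Set (ι → F)) by
        simp [Matrix.range_cons, Set.pair_comm], Fintype.card_fin] at h4
      rw [kLine, h4]
      exact h3
    exact hne ((Submodule.eq_of_le_of_finrank_le h1 h2) ▸ hyP)
  obtain ⟨u, hu, hzu, hus⟩ :=
    Dq.exists_sing {x, y} (Finset.card_le_two.trans (by norm_num)) hzP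
  have hxu : B (θ u) x = 0 := by
    rw [D.swap, D.perp_iff.mp (hus x (by simp)), neg_zero]
  have hyu : B (θ u) y = 0 := by
    rw [D.swap, D.perp_iff.mp (hus y (by simp)), neg_zero]
  have hpq : B u x ≠ 0 ∨ B u y ≠ 0 := by
    have h : B z u ≠ 0 := fun h => by
      rw [D.op_perp_iff.mpr h] at hzu; exact zero_ne_one hzu
    simp only [Finset.mem_insert, Finset.mem_singleton] at hz
    rw [D.swap] at h
    rcases hz with rfl | rfl
    · exact Or.inl fun e => h (by rw [e, neg_zero])
    · exact Or.inr fun e => h (by rw [e, neg_zero])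
  set κ := N * B u x ^ 2 + B u y ^ 2 with hκ
  have hκ0 : κ ≠ 0 := D.kap_ne hx0 hpq
  set a := κ⁻¹ • ((N * B u x) • x + B u y • y) with ha
  -- the rank two elements
  have key : ∀ u' : ι → F, sQ B θ u' = 0 → B (θ u') x = 0 → B (θ u') y = 0 → B u' x = B u x →
      B u' y = B u y → ∀ k c : F,
        Symp.tv D.alt (u' + k • a) c * Symp.tv D.alt u' (-c) ∈ H := by
    intro u' hu' h1 h2 h3 h4 k c
    set g1 := Symp.tv D.alt x (k / κ * N) * Symp.tv D.alt y (k / κ) with hg1'
    have hact : ∀ v, g1 v = v + (k / κ * N * B v x) • x + (k / κ * B v y) • y := fun v => by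
      simp only [hg1', LinearEquiv.mul_apply, Symp.tv_apply, map_add, map_smul,
        LinearMap.add_apply, LinearMap.smul_apply, D.swap x y, hxy, neg_zero, smul_zero, mul_zero, zero_smul, add_zero]
    have e1 : g1 u' = u' + k • a := by
      rw [hact, h3, h4, ha]; module
    have e2 : g1 (θ u') = θ u' := by rw [hact, h1, h2]; simp
    have h := mul_mem (mul_mem (mul_mem (hg1 (k / κ)) (hroot u' hu' (c / N)))
      (inv_mem (hg1 (k / κ)))) (inv_mem (hroot u' hu' (c / N)))
    rw [← hg1', uT, show g1 * (Symp.tv D.alt u' (c / N * N) * Symp.tv D.alt (θ u') (c / N)) * g1⁻¹ *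
        (Symp.tv D.alt u' (c / N * N) * Symp.tv D.alt (θ u') (c / N))⁻¹ =
        (g1 * Symp.tv D.alt u' (c / N * N) * g1⁻¹) * ((g1 * Symp.tv D.alt (θ u') (c / N) * g1⁻¹) *
        (Symp.tv D.alt (θ u') (c / N))⁻¹) * (Symp.tv D.alt u' (c / N * N))⁻¹ by group,
      Symp.tv_conj D.alt (hH (hg1 _)), Symp.tv_conj D.alt (hH (hg1 _)), e1, e2, mul_inv_cancel,
      mul_one, div_mul_cancel₀ _ D.neN] at h
    have hinv : (Symp.tv D.alt u' c)⁻¹ = Symp.tv D.alt u' (-c) := inv_eq_of_mul_eq_one_right (by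
      rw [Symp.tv_mul_tv, neg_add_cancel, Symp.tv_zero])
    rwa [hinv] at h
  obtain ⟨p, hpF⟩ := CharP.exists F
  have hpodd : Odd p := by
    rcases (CharP.char_is_prime F p).eq_two_or_odd' with rfl | h
    · exact absurd (CharTwo.two_eq_zero (R := F)) D.two
    · exact h
  have powtv : ∀ (v : ι → F) (i : ℕ), Symp.tv D.alt v (1 : F) ^ i = Symp.tv D.alt v (i : F) := by
    intro v i
    induction i with
    | zero => simp [Symp.tv_zero]
    | succ i ih => rw [pow_succ, ih, Symp.tv_mul_tv]; push_cast; rw [add_comm]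
  -- minus one on the planes
  have minus : ∀ u' : ι → F, sQ B θ u' = 0 → B (θ u') x = 0 → B (θ u') y = 0 →
      B u' x = B u x → B u' y = B u y → ∃ r ∈ H,
        ∀ z, r z = z + (2 * B a z) • u' - (2 * B u' z) • a := by
    intro u' hu' h1 h2 h3 h4
    have hua : B u' a = 1 := by
      rw [ha, map_smul, map_add, map_smul, map_smul, h3, h4]
      simp only [smul_eq_mul]
      field_simp
      rfl
    have hau : B a u' = -1 := by rw [D.swap, hua]
    set w := Symp.tv D.alt u' (1 : F) * Symp.tv D.alt a (1 : F) * Symp.tv D.alt u' (1 : F) with hw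
    have hr : ∀ z, (w * w) z = z + (2 * B a z) • u' - (2 * B u' z) • a := by
      intro z
      simp only [hw, LinearEquiv.mul_apply, Symp.tv_apply, map_add, map_smul, LinearMap.add_apply,
        LinearMap.smul_apply, smul_eq_mul, hua, hau, D.alt.self_eq_zero, D.swap a z, D.swap u' z]
      module
    have h4' : w ^ 4 = 1 := by
      rw [show w ^ 4 = (w * w) * (w * w) by simp [pow_succ, mul_assoc]]
      refine LinearEquiv.ext fun z => ?_
      show (w * w) ((w * w) z) = z
      rw [hr z, hr]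
      simp only [map_add, map_sub, map_smul, smul_eq_mul, hua, hau, D.alt.self_eq_zero]
      module
    have hwH : w ∈ H := mem_of_comms H hpodd
      (by rw [powtv, CharP.cast_eq_zero, Symp.tv_zero])
      (by rw [powtv, CharP.cast_eq_zero, Symp.tv_zero])
      (fun i j => by
        rw [powtv, powtv, commutatorElement_def,
          Symp.tv_conj D.alt (Symp.tv_mem_iso D.alt a _),
          show (Symp.tv D.alt u' (j : F))⁻¹ = Symp.tv D.alt u' (-(j : F)) from
            inv_eq_of_mul_eq_one_right (by rw [Symp.tv_mul_tv, neg_add_cancel, Symp.tv_zero]),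
          Symp.tv_apply, hua, mul_one]
        exact key u' hu' h1 h2 h3 h4 _ _) h4'
    exact ⟨w * w, mul_mem hwH hwH, hr⟩
  set s : Finset (ι → F) := {x, θ x, y, θ y} with hs
  set Z := Submodule.span F (s : Set (ι → F)) with hZ
  set U := perpIn (sP B θ) ⊤ Z with hU
  have hθZ : Z ≤ Z.comap θ := Submodule.span_le.mpr fun d hd => by
    show θ d ∈ Z
    simp only [hs, Finset.coe_insert, Finset.coe_singleton, Set.mem_insert_iff,
      Set.mem_singleton_iff] at hd
    have mm : ∀ {d}, d ∈ s → d ∈ Z := fun h => Submodule.subset_span h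
    rcases hd with rfl | rfl | rfl | rfl
    · exact mm (by simp [hs])
    · rw [D.sq]; exact Z.neg_mem (Z.smul_mem _ (mm (by simp [hs])))
    · exact mm (by simp [hs])
    · rw [D.sq]; exact Z.neg_mem (Z.smul_mem _ (mm (by simp [hs])))
  have hθU : ∀ v ∈ U, θ v ∈ U := fun v hv => ⟨trivial, fun c hc => by
    rw [Dq.b_op, hv.2 c hc, hv.2 _ (hθZ hc)]; simp⟩
  have hua : B u a = 1 := by
    rw [ha, map_smul, map_add, map_smul, map_smul]
    simp only [smul_eq_mul]
    field_simp
    rfl
  have hau : B a u = -1 := by rw [D.swap, hua]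
  have hw : ∀ v ∈ U, sQ B θ (u + v) = 0 → B v a = 0 ∧ ∃ r ∈ H, ∀ z,
      r z = z - (2 * B a z) • v - (2 * B v z) • a - (4 * B v u * B a z) • a := by
    intro v hv hQv
    have hm : ∀ {c}, c ∈ s → sP B θ c v = 0 := fun hc => hv.2 _ (Submodule.subset_span hc)
    have b1 : B x v = 0 := D.op_perp_iff.mp (hm (by simp [hs]))
    have b2 : B y v = 0 := D.op_perp_iff.mp (hm (by simp [hs]))
    have c1 : B (θ v) x = 0 := by rw [D.swap, D.perp_iff.mp (hm (by simp [hs])), neg_zero]
    have c2 : B (θ v) y = 0 := by rw [D.swap, D.perp_iff.mp (hm (by simp [hs])), neg_zero]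
    have hva : B v a = 0 := by
      rw [ha, map_smul, map_add, map_smul, map_smul, D.swap x v, D.swap y v, b1, b2]
      simp
    refine ⟨hva, ?_⟩
    have hav : B a v = 0 := by rw [D.swap, hva, neg_zero]
    obtain ⟨r, hrH, hr⟩ := minus u hu hxu hyu rfl rfl
    obtain ⟨r', hr'H, hr'⟩ := minus (u + v) hQv
      (by rw [map_add, map_add, LinearMap.add_apply, hxu, c1, add_zero])
      (by rw [map_add, map_add, LinearMap.add_apply, hyu, c2, add_zero])
      (by rw [map_add, LinearMap.add_apply, D.swap x v, b1, neg_zero, add_zero])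
      (by rw [map_add, LinearMap.add_apply, D.swap y v, b2, neg_zero, add_zero])
    refine ⟨r' * r, mul_mem hr'H hrH, fun z => ?_⟩
    rw [LinearEquiv.mul_apply, hr z, hr']
    simp only [map_add, map_sub, map_smul, LinearMap.add_apply, smul_eq_mul, hua, hau, hav,
      hva, D.alt.self_eq_zero]
    module
  have fin : (∀ c : F, ∃ v₁ ∈ U, ∃ v₂ ∈ U, sQ B θ (u + v₁) = 0 ∧ sQ B θ (u + v₂) = 0 ∧
      B v₁ v₂ = c) → ∃ a, a ≠ 0 ∧ a ∈ Symp.centres D.alt H := by
    intro hfam
    refine ⟨a, fun h => ?_, fun c => ?_⟩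
    · rw [h, map_zero] at hua
      exact zero_ne_one hua
    have h80 : (8 : F) ≠ 0 := by
      rw [show (8 : F) = 2 * 2 * 2 by norm_num]
      exact mul_ne_zero (mul_ne_zero D.two D.two) D.two
    obtain ⟨v₁, hv₁, v₂, hv₂, q₁, q₂, hvv⟩ := hfam (-c / 8)
    obtain ⟨e₁, r₁, hr₁H, hr₁⟩ := hw v₁ hv₁ q₁
    obtain ⟨e₂, r₂, hr₂H, hr₂⟩ := hw v₂ hv₂ q₂
    have e₁' : B a v₁ = 0 := by rw [D.swap, e₁, neg_zero]
    have e₂' : B a v₂ = 0 := by rw [D.swap, e₂, neg_zero]
    have hvv' : B v₂ v₁ = c / 8 := by rw [D.swap, hvv, neg_div, neg_neg]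
    have heq : r₁ * r₂ = Symp.tv D.alt a c * (r₂ * r₁) := by
      refine LinearEquiv.ext fun z => ?_
      simp only [LinearEquiv.mul_apply, Symp.tv_apply, hr₁, hr₂, map_sub, map_smul,
        LinearMap.sub_apply, smul_eq_mul, e₁, e₂, e₁', e₂', hvv, hvv', D.alt.self_eq_zero,
        D.swap a z, LinearMap.smul_apply]
      match_scalars <;> field_simp <;> ring
    have := mul_mem (mul_mem hr₁H hr₂H) (inv_mem (mul_mem hr₂H hr₁H))
    rwa [heq, mul_inv_cancel_right] at this
  have h7 := D.card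
  have hU6 : finrank F (⊤ : Submodule F (ι → F)) ≤ finrank F U + 4 := by
    have h4 := finrank_perpIn (B := sP B θ) ⊤ Z
    have h5 := finrank_span_finset_le_card (R := F) s
    have h6 : s.card ≤ 4 := Finset.card_le_four
    unfold Set.finrank at h5
    rw [← hZ] at h5
    rw [← hU] at h4
    omega
  rw [finrank_top, finrank_fintype_fun_eq_card] at hU6
  have hadd : ∀ v w, sQ B θ (v + w) = sQ B θ v + sQ B θ w + sP B θ v w := Dq.space.add
  by_cases hZU : Z ≤ U
  · -- the span is totally singular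
    obtain ⟨z, hzZ, hzu⟩ : ∃ z ∈ Z, sP B θ u z ≠ 0 := by
      rcases hpq with hp | hp
      · refine ⟨θ x, Submodule.subset_span (by simp [hs]), ?_⟩
        rw [sP_apply, D.sq, map_neg, map_smul, smul_eq_mul]
        exact mul_ne_zero D.two (neg_ne_zero.mpr (mul_ne_zero D.neN hp))
      · refine ⟨θ y, Submodule.subset_span (by simp [hs]), ?_⟩
        rw [sP_apply, D.sq, map_neg, map_smul, smul_eq_mul]
        exact mul_ne_zero D.two (neg_ne_zero.mpr (mul_ne_zero D.neN hp))
    have hzU : z ∈ U := hZU hzZ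
    have hmz : ∀ m ∈ U, sP B θ m z = 0 := fun m hm => by
      rw [Dq.space.symm]; exact hm.2 z hzZ
    have hQz : sQ B θ z = 0 := by
      have h2 := hzU.2 z hzZ
      rw [Dq.space.self] at h2
      exact (mul_eq_zero.mp h2).resolve_left D.two
    obtain ⟨m, hm, hQm⟩ : ∃ m ∈ U, sQ B θ m ≠ 0 := by
      by_contra hc
      push Not at hc
      have := ts_bound Dq.space hc
      omega
    have cor : ∀ m ∈ U, ∃ t : F, sQ B θ (u + (m + t • z)) = 0 := fun m hm => by
      refine ⟨-(sQ B θ (u + m)) / sP B θ u z, ?_⟩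
      rw [← add_assoc, hadd (u + m), Dq.space.smul, hQz, map_smul, map_add, LinearMap.add_apply,
        hmz m hm, mul_zero, add_zero, add_zero, smul_eq_mul, div_mul_cancel₀ _ hzu, add_neg_cancel]
    have hBz : ∀ m ∈ U, B m z = 0 := fun m hm => by
      have := hm.2 (θ z) (hθZ hzZ)
      rw [D.op_perp_iff] at this
      rw [D.swap, this, neg_zero]
    refine fin fun c => ?_
    obtain ⟨t₁, h₁⟩ := cor m hm
    have hkm : (c / B m (θ m)) • θ m ∈ U := U.smul_mem _ (hθU m hm)
    obtain ⟨t₂, h₂⟩ := cor _ hkm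
    refine ⟨_, U.add_mem hm (U.smul_mem _ hzU), _, U.add_mem hkm (U.smul_mem _ hzU), h₁, h₂, ?_⟩
    have hzk : B z (θ m) = 0 := by rw [D.swap, hBz _ (hθU m hm), neg_zero]
    have hQm' : B m (θ m) ≠ 0 := hQm
    simp only [map_add, map_smul, LinearMap.add_apply, LinearMap.smul_apply, hBz m hm,
      D.alt.self_eq_zero, smul_eq_mul, mul_zero, add_zero, hzk, div_mul_cancel₀ _ hQm']
  · -- the radical of the span is at most a line over the quadratic field
    have hR : finrank F (U ⊓ Z : Submodule F (ι → F)) ≤ 2 := by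
      have h5 := finrank_span_finset_le_card (R := F) s
      have h6 : s.card ≤ 4 := Finset.card_le_four
      unfold Set.finrank at h5
      rw [← hZ] at h5
      have h8 : finrank F (U ⊓ Z : Submodule F (ι → F)) < finrank F Z :=
        Submodule.finrank_lt_finrank_of_lt (lt_of_le_of_ne inf_le_right fun h =>
          hZU (h ▸ inf_le_left))
      by_contra h3
      have h3' : finrank F (U ⊓ Z : Submodule F (ι → F)) = 3 := by omega
      -- an operator with negative square on an odd-dimensional space has an eigenvector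
      let θR : Module.End F (U ⊓ Z : Submodule F (ι → F)) :=
        θ.restrict fun v hv => ⟨hθU v hv.1, hθZ hv.2⟩
      have hsq : θR * θR = (-N) • 1 := LinearMap.ext fun v => Subtype.ext (by
        show θ (θ v) = (-N) • (v : ι → F)
        rw [D.sq, neg_smul])
      have hdet := congrArg LinearMap.det hsq
      rw [map_mul, LinearMap.det_smul, map_one, mul_one, h3'] at hdet
      set d := LinearMap.det θR / N
      have hd : d * d = -N := by
        rw [div_mul_div_comm, hdet]
        have := D.neN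
        field_simp
      obtain ⟨v, hv, hv0⟩ := Submodule.exists_mem_ne_zero_of_ne_bot
        (fun h : (U ⊓ Z : Submodule F (ι → F)) = ⊥ => by rw [h, finrank_bot] at h3'; omega)
      by_cases hd1 : θ v + d • v = 0
      · exact D.free v hv0 (-d) (by rw [neg_smul]; exact eq_neg_of_add_eq_zero_left hd1)
      · refine D.free _ hd1 d ?_
        rw [map_add, map_smul, D.sq, smul_add, smul_smul, hd, neg_smul]
        abel
    set W₁ := perpIn (sP B θ) U (Submodule.span F {u}) with hW₁
    obtain ⟨A', hA'⟩ := Submodule.exists_isCompl (U ⊓ Z)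
    obtain ⟨e, he, he0, hQe⟩ := Sing.exists_singular Dq.space.smul Dq.space.polar (W₁ ⊓ A') (by
      have h1 := Submodule.finrank_sup_add_finrank_inf_eq W₁ A'
      have h2 := Submodule.finrank_le (W₁ ⊔ A')
      have h3 := Submodule.finrank_add_eq_of_isCompl hA'
      have h4 := finrank_perpIn (B := sP B θ) U (Submodule.span F {u})
      have h5 : finrank F (Submodule.span F {u}) ≤ 1 := by
        have hu0 : u ≠ 0 := fun h => by simp [h] at hpq
        rw [finrank_span_singleton hu0]
      rw [finrank_fintype_fun_eq_card] at h2 h3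
      rw [← hW₁] at h4
      omega)
    have heU : e ∈ U := he.1.1
    have hue : sP B θ u e = 0 := he.1.2 u (Submodule.mem_span_singleton_self u)
    have heZ : e ∉ Z := fun h => he0 (by
      have hm : e ∈ (U ⊓ Z) ⊓ A' := ⟨⟨heU, h⟩, he.2⟩
      rwa [hA'.inf_eq_bot, Submodule.mem_bot] at hm)
    obtain ⟨z₁, hz₁, hez₁⟩ := exists_perpIn Dq.space Dq.split le_top trivial heZ
    obtain ⟨z, hzU, hPz, hBz⟩ : ∃ z ∈ U, sP B θ e z ≠ 0 ∧ B e z ≠ 0 := by
      by_cases hb : B e z₁ = 0
      · refine ⟨z₁ + θ z₁, U.add_mem hz₁ (hθU _ hz₁), ?_, ?_⟩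
        · rw [map_add, hez₁, sP_apply e (θ z₁), D.sq, map_neg, map_smul, hb]
          simp
        · intro h
          rw [map_add, hb, zero_add] at h
          rw [sP_apply, h, mul_zero] at hez₁
          exact zero_ne_one hez₁
      · exact ⟨z₁, hz₁, by rw [hez₁]; exact one_ne_zero, hb⟩
    set t := -(sQ B θ (u + z)) / sP B θ e z
    have h₁ : sQ B θ (u + (z + t • e)) = 0 := by
      rw [← add_assoc, hadd (u + z), Dq.space.smul, hQe, map_smul, map_add, LinearMap.add_apply,
        hue, mul_zero, add_zero, zero_add, Dq.space.symm z e, smul_eq_mul, div_mul_cancel₀ _ hPz,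
        add_neg_cancel]
    refine fin fun c => ⟨_, U.add_mem hzU (U.smul_mem _ heU), (c / B z e) • e,
      U.smul_mem _ heU, h₁, ?_, ?_⟩
    · rw [hadd u, hu, Dq.space.smul, hQe, map_smul, hue]
      simp
    · have hze : B z e ≠ 0 := by rw [D.swap]; exact neg_ne_zero.mpr hBz
      simp only [map_add, map_smul, LinearMap.add_apply, LinearMap.smul_apply,
        D.alt.self_eq_zero, smul_eq_mul, mul_zero, add_zero]
      exact div_mul_cancel₀ _ hze

/-- A transvection gives the whole isometry group. -/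
theorem SkewOp.top_of_centre {a : ι → F} (ha0 : a ≠ 0) (ha : a ∈ Symp.centres D.alt H) :
    H = Symp.iso B := by
  classical
  have Dq := D.quadOp
  set C := Symp.centres D.alt H
  have zero : (0 : ι → F) ∈ C := fun c => by
    have : Symp.tv D.alt (0 : ι → F) c = 1 := LinearEquiv.ext fun z => by simp
    rw [this]; exact one_mem H
  have hsm : ∀ {x}, x ∈ C → ∀ k : F, k • x ∈ C :=
    fun hx k c => by rw [Symp.tv_smul]; exact hx _
  have step : ∀ v ∈ C, ∀ u, sQ B θ u = 0 → (B v u ≠ 0 ∨ B v (θ u) ≠ 0) → v ≠ 0 →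
      (N * B v u) • u + B v (θ u) • θ u ∈ C := by
    intro v hv u hu hne hv0
    have h1 := Symp.centres_invariant D.alt hH (hroot u hu 1) hv
    rw [D.uT_apply hu, one_mul, one_mul, add_assoc] at h1
    set ξ := (N * B v u) • u + B v (θ u) • θ u with hξ
    have hb : B v (v + ξ) ≠ 0 := by
      rw [map_add, D.alt.self_eq_zero, zero_add, hξ, map_add, map_smul, map_smul]
      simp only [smul_eq_mul]
      have := D.kap_ne hv0 hne
      intro h0
      exact this (by linear_combination h0)
    have := D.centres_join hH hv h1 hb (-1) 1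
    rwa [neg_smul, one_smul, one_smul, neg_add_cancel_left] at this
  obtain ⟨e, he0, heS, he⟩ : ∃ e, e ≠ 0 ∧ sQ B θ e = 0 ∧ e ∈ C := by
    have hθa : θ a ∉ Submodule.span F ((∅ : Finset (ι → F)) : Set (ι → F)) := by
      simp only [Finset.coe_empty, Submodule.span_empty, Submodule.mem_bot]
      exact fun h => D.free a ha0 0 (by rw [h, zero_smul])
    obtain ⟨u, hu, hau, -⟩ := Dq.exists_sing ∅ (by simp) hθa
    have hne : B a u ≠ 0 := fun h => by rw [D.op_perp_iff.mpr h] at hau; exact zero_ne_one hau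
    have hu0 : u ≠ 0 := fun h => hne (by simp [h])
    refine ⟨_, fun h0 => ?_, ?_, step a ha u hu (Or.inl hne) ha0⟩
    · by_cases hb : B a (θ u) = 0
      · rw [hb, zero_smul, add_zero, smul_eq_zero] at h0
        exact h0.elim (fun h => mul_ne_zero D.neN hne h) hu0
      · refine D.free u hu0 (-((B a (θ u))⁻¹ * (N * B a u))) ?_
        rw [neg_smul, ← smul_smul, ← smul_neg, neg_eq_of_add_eq_zero_right h0, smul_smul,
          inv_mul_cancel₀ hb, one_smul]
    · rw [Dq.space.smul_add, hu, Dq.op_sing hu, Dq.line u hu]; ring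
  have near : ∀ e z, e ∈ C → e ≠ 0 → sQ B θ e = 0 → sQ B θ z = 0 →
      KPerp (sP B θ) θ e z → z ∉ kLine θ e → z ∈ C := by
    intro e z he he0 heS hz hez hind
    have hx : θ e ∉ Submodule.span F (({e, z, θ z - θ e} : Finset (ι → F)) : Set (ι → F)) := by
      simp only [Finset.coe_insert, Finset.coe_singleton]
      intro h
      obtain ⟨p, w, hw, hpw⟩ := Submodule.mem_span_insert.mp h
      obtain ⟨q, r, rfl⟩ := Submodule.mem_span_pair.mp hw
      have e1 : q • z + r • θ z = (-p) • e + (1 + r) • θ e := by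
        rw [smul_sub] at hpw
        linear_combination (norm := module) -hpw
      by_cases h0 : q • z + r • θ z = 0
      · rw [h0] at e1
        by_cases hr : 1 + r = 0
        · rw [hr, zero_smul, add_zero, eq_comm, smul_eq_zero, neg_eq_zero] at e1
          have hp : p = 0 := e1.resolve_right he0
          by_cases hq : q = 0
          · rw [hq, zero_smul, zero_add, smul_eq_zero] at h0
            rcases h0 with hr0 | hz0
            · rw [hr0, add_zero] at hr; exact one_ne_zero hr
            · refine hind ?_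
              have : z = 0 := by
                by_contra hne
                exact D.free z hne 0 (by rw [hz0, zero_smul])
              rw [this]; exact Submodule.zero_mem _
          · have hz0 : z = 0 := by
              by_contra hne
              have hr0 : r = 0 := by
                by_contra hr1
                refine D.free z hne (-(r⁻¹ * q)) ?_
                rw [neg_smul, ← smul_smul, ← smul_neg, neg_eq_of_add_eq_zero_right h0, smul_smul,
                  inv_mul_cancel₀ hr1, one_smul]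
              rw [hr0, zero_smul, add_zero, smul_eq_zero] at h0
              exact h0.elim hq hne
            exact hind (hz0 ▸ Submodule.zero_mem _)
        · refine D.free e he0 ((1 + r)⁻¹ * p) ?_
          have e2 : (1 + r) • θ e = p • e := by linear_combination (norm := module) -e1
          rw [← smul_smul, ← e2, smul_smul, inv_mul_cancel₀ hr, one_smul]
      · exact hind (Dq.kLine_mono (v := e) (w := q • z + r • θ z)
          (e1 ▸ mem_kLine.mpr ⟨_, _, rfl⟩) (Dq.kLine_symm (mem_kLine.mpr ⟨_, _, rfl⟩) h0))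
    obtain ⟨u, hu, heu, hus⟩ := Dq.exists_sing {e, z, θ z - θ e}
      (Finset.card_le_three.trans (by norm_num)) hx
    have heθu : B e (θ u) = 0 := D.perp_iff.mp (hus e (by simp))
    have hbeu : B e u ≠ 0 := fun h => by rw [D.op_perp_iff.mpr h] at heu; exact zero_ne_one heu
    have hu0 : u ≠ 0 := fun h => hbeu (by simp [h])
    have huC : u ∈ C := by
      have h := step e he u hu (Or.inl hbeu) he0
      rw [heθu, zero_smul, add_zero] at h
      have := hsm h (N * B e u)⁻¹
      rwa [smul_smul, inv_mul_cancel₀ (mul_ne_zero D.neN hbeu), one_smul] at this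
    have hzθ : sP B θ (θ z) u = 1 := by
      have := hus (θ z - θ e) (by simp)
      rw [map_sub, LinearMap.sub_apply, heu, sub_eq_zero] at this
      exact this
    have hbuz : B u z ≠ 0 := fun h => by
      rw [D.op_perp_iff.mpr (by rw [D.swap, h, neg_zero])] at hzθ
      exact zero_ne_one hzθ
    have huθz : B u (θ z) = 0 := by
      have := hus z (by simp)
      rw [Dq.space.symm] at this
      exact D.perp_iff.mp this
    have h := step u huC z hz (Or.inl hbuz) hu0
    rw [huθz, zero_smul, add_zero] at h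
    have := hsm h (N * B u z)⁻¹
    rwa [smul_smul, inv_mul_cancel₀ (mul_ne_zero D.neN hbuz), one_smul] at this
  have sing : ∀ z, sQ B θ z = 0 → z ∈ C := by
    intro z hz
    by_cases hz0 : z = 0
    · exact hz0 ▸ zero
    rcases Dq.exists_mid heS he0 hz hz0 with ⟨hez, hze⟩ | ⟨w, hw, hw0, hew, hwz, hwe, hzw⟩
    · exact near e z he he0 heS hz hez hze
    · exact near w z (near e w he he0 heS hw hew hwe) hw0 hw hz hwz hzw
  refine Symp.eq_iso_of_centres D.nondeg D.alt hH fun v => ?_
  by_cases hv0 : v = 0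
  · exact hv0 ▸ zero
  have hx : θ v ∉ Submodule.span F (({θ v - v} : Finset (ι → F)) : Set (ι → F)) := by
    rw [Finset.coe_singleton]
    intro h
    obtain ⟨k, hk⟩ := Submodule.mem_span_singleton.mp h
    by_cases hk1 : k - 1 = 0
    · rw [sub_eq_zero] at hk1
      rw [hk1, one_smul, sub_eq_self] at hk
      exact hv0 hk
    · refine D.free v hv0 (k / (k - 1)) ?_
      have e2 : (k - 1) • θ v = k • v := by linear_combination (norm := module) hk
      rw [div_eq_inv_mul, ← smul_smul, ← e2, smul_smul, inv_mul_cancel₀ hk1, one_smul]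
  obtain ⟨z, hz, hvz, hzs⟩ := Dq.exists_sing {θ v - v} (by simp) hx
  have hvz' : sP B θ v z = 1 := by
    have := hzs (θ v - v) (by simp)
    rw [map_sub, LinearMap.sub_apply, hvz, sub_eq_zero] at this
    exact this.symm
  have hb : B v z ≠ 0 := fun h => by rw [D.op_perp_iff.mpr h] at hvz; exact zero_ne_one hvz
  set k := -sQ B θ v
  have h1 : v + k • z ∈ C := sing _ (by
    rw [Dq.space.add, Dq.space.smul, hz, map_smul, hvz', smul_eq_mul]; ring)
  have hb' : B (v + k • z) z ≠ 0 := by
    rw [map_add, map_smul, LinearMap.add_apply, LinearMap.smul_apply, D.alt.self_eq_zero,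
      smul_zero, add_zero]
    exact hb
  have := D.centres_join hH h1 (sing z hz) hb' 1 (-k)
  convert this using 1
  module

/-- Either `H` preserves the field, or it is everything. -/
theorem SkewOp.normalises_or_top :
    (∀ g ∈ H, ∃ a b : F, ∀ w, g.symm (θ (g w)) = a • w + b • θ w) ∨ H = Symp.iso B := by
  have Dq := D.quadOp
  by_cases h : ∀ g ∈ H, ∀ u, sQ B θ u = 0 → g (θ u) ∈ kLine θ (g u)
  · refine Or.inl fun g hg => Dq.scalar_of_lines
      (g.symm.toLinearMap.comp (θ.comp g.toLinearMap)) fun u hu => ?_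
    show g.symm (θ (g u)) ∈ kLine θ u
    obtain ⟨a, b, hab⟩ := mem_kLine.mp (h g hg u hu)
    by_cases hu0 : u = 0
    · simp [hu0]
    have hb : b ≠ 0 := fun hb => by
      rw [hb, zero_smul, add_zero, ← map_smul] at hab
      exact D.free u hu0 a (g.injective hab).symm
    refine mem_kLine.mpr ⟨-(b⁻¹ * a), b⁻¹, ?_⟩
    refine g.injective ?_
    rw [LinearEquiv.apply_symm_apply, map_add, map_smul, map_smul, ← hab, smul_add, smul_smul,
      smul_smul, inv_mul_cancel₀ hb, one_smul, neg_smul, neg_add_cancel_left]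
  · push Not at h
    obtain ⟨g, hg, u, hu, hne⟩ := h
    obtain ⟨a, ha0, ha⟩ := D.exists_centre hH hroot hg hu hne
    exact Or.inr (D.top_of_centre hH hroot ha0 ha)

end Cfsg.Lib.Linear.SympQ2
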