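import Cfsg.Agent.Lib.Linear.SymplecticGroup
import Cfsg.Agent.S2574

/-!
# Regular nilpotent elements of the symplectic Lie algebra and regular unipotent elements

A regular nilpotent `T` with adjoint `-T` has the commutant `F[T]`; the norm `g ↦ g* g` on its units has as
image the squares of the self-adjoint units, of index two.
-/

set_option autoImplicit false

namespace Cfsg.Lib.Linear.SympReg

open Module Matrix

variable {F : Type*} [Field F] {m : ℕ}

local notation "M" => Matrix (Fin m ⊕ Fin m) (Fin m ⊕ Fin m) F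

/-- The adjoint with respect to the standard alternating form. -/
def adj (A : M) : M := -(Matrix.J (Fin m) F * Aᵀ * Matrix.J (Fin m) F)

theorem J_mul_J : Matrix.J (Fin m) F * Matrix.J (Fin m) F = -1 := Matrix.J_squared (Fin m) F

theorem adj_one : adj (1 : M) = 1 := by
  rw [adj, transpose_one, mul_one, J_mul_J, neg_neg]

theorem adj_mul (A B : M) : adj (A * B) = adj B * adj A := by
  rw [adj, adj, adj, transpose_mul, neg_mul_neg]
  calc -(Matrix.J (Fin m) F * (Bᵀ * Aᵀ) * Matrix.J (Fin m) F) =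
      Matrix.J (Fin m) F * Bᵀ * (-1) * Aᵀ * Matrix.J (Fin m) F := by
        simp only [mul_neg, mul_one, neg_mul, mul_assoc]
    _ = _ := by rw [← J_mul_J (F := F) (m := m)]; simp only [mul_assoc]

theorem adj_add (A B : M) : adj (A + B) = adj A + adj B := by
  rw [adj, adj, adj, transpose_add, mul_add, add_mul, neg_add]

theorem adj_smul (c : F) (A : M) : adj (c • A) = c • adj A := by
  rw [adj, adj, transpose_smul, mul_smul_comm, smul_mul_assoc, smul_neg]

theorem adj_sub (A B : M) : adj (A - B) = adj A - adj B := by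
  rw [sub_eq_add_neg, adj_add, ← neg_one_smul F B, adj_smul, neg_one_smul, ← sub_eq_add_neg]

theorem adj_adj (A : M) : adj (adj A) = A := by
  rw [adj, adj, transpose_neg, transpose_mul, transpose_mul, transpose_transpose, Matrix.J_transpose,
    mul_neg, neg_mul, neg_neg]
  simp only [mul_neg, neg_mul, neg_neg]
  calc Matrix.J (Fin m) F * (Matrix.J (Fin m) F * (A * Matrix.J (Fin m) F)) * Matrix.J (Fin m) F =
      (Matrix.J (Fin m) F * Matrix.J (Fin m) F) * A * (Matrix.J (Fin m) F * Matrix.J (Fin m) F) := by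
        simp only [mul_assoc]
    _ = A := by rw [J_mul_J]; simp

theorem mem_sp {A : M} : A ∈ Matrix.symplecticGroup (Fin m) F ↔ adj A * A = 1 := by
  rw [SymplecticGroup.mem_iff', adj]
  constructor
  · intro h
    rw [neg_mul, mul_assoc, mul_assoc, ← mul_assoc Aᵀ, h, J_mul_J, neg_neg]
  · intro h
    calc Aᵀ * Matrix.J (Fin m) F * A =
        -(Matrix.J (Fin m) F * Matrix.J (Fin m) F) * (Aᵀ * Matrix.J (Fin m) F * A) := by
          rw [J_mul_J, neg_neg, one_mul]
      _ = Matrix.J (Fin m) F * (-(Matrix.J (Fin m) F * Aᵀ * Matrix.J (Fin m) F) * A) := by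
          simp only [neg_mul, mul_neg, mul_assoc]
      _ = _ := by rw [h, mul_one]

theorem adj_pow (A : M) (k : ℕ) : adj (A ^ k) = adj A ^ k := by
  induction k with
  | zero => rw [pow_zero, pow_zero, adj_one]
  | succ k ih => rw [pow_succ', adj_mul, ih, ← pow_succ]

/-- A regular nilpotent element of the symplectic Lie algebra. -/
structure Reg (T : M) : Prop where
  skew : adj T = -T
  nil : T ^ (2 * m) = 0
  ne : T ^ (2 * m - 1) ≠ 0

variable {T : Matrix (Fin m ⊕ Fin m) (Fin m ⊕ Fin m) F}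

theorem Reg.pos (h : Reg T) : 0 < 2 * m := by
  rcases Nat.eq_zero_or_pos (2 * m) with h0 | h0
  · have := h.nil
    rw [h0] at this
    exact absurd (show T ^ (2 * m - 1) = 0 by rw [h0]; exact this) h.ne
  · exact h0

theorem Reg.pow_zero_of_le (h : Reg T) {k : ℕ} (hk : 2 * m ≤ k) : T ^ k = 0 := by
  rw [← Nat.sub_add_cancel hk, pow_add, h.nil, mul_zero]

theorem Reg.exists_basis (h : Reg T) :
    ∃ e, ∃ b : Basis (Fin (2 * m)) F (Fin m ⊕ Fin m → F), ∀ j, b j = (T ^ (j : ℕ)) *ᵥ e := by
  classical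
  obtain ⟨e, he⟩ : ∃ e, (T ^ (2 * m - 1)) *ᵥ e ≠ 0 := by
    by_contra hc
    push Not at hc
    exact h.ne (Matrix.toLin'.injective (LinearMap.ext fun v => by
      rw [Matrix.toLin'_apply, hc v, map_zero]; rfl))
  have : Nonempty (Fin (2 * m)) := ⟨⟨0, h.pos⟩⟩
  have hli : LinearIndependent F fun j : Fin (2 * m) => (T ^ (j : ℕ)) *ᵥ e := by
    rw [Fintype.linearIndependent_iff]
    intro c hc
    by_contra hne
    push Not at hne
    obtain ⟨i, hi, hmin⟩ : ∃ i : Fin (2 * m), c i ≠ 0 ∧ ∀ j, c j ≠ 0 → i ≤ j := by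
      obtain ⟨i, hi, hmin⟩ := Finset.exists_min_image (Finset.univ.filter fun j => c j ≠ 0) id
        (by obtain ⟨j, hj⟩ := hne; exact ⟨j, by simpa using hj⟩)
      exact ⟨i, (Finset.mem_filter.1 hi).2, fun j hj => hmin j (by simpa using hj)⟩
    have h1 := congrArg (fun v => (T ^ (2 * m - 1 - (i : ℕ))) *ᵥ v) hc
    simp only [Matrix.mulVec_sum, Matrix.mulVec_smul, Matrix.mulVec_zero, Matrix.mulVec_mulVec, ← pow_add] at h1
    rw [Finset.sum_eq_single i] at h1
    · rw [show 2 * m - 1 - (i : ℕ) + i = 2 * m - 1 by omega, smul_eq_zero] at h1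
      exact h1.elim hi he
    · intro j _ hji
      by_cases hj : c j = 0
      · rw [hj, zero_smul]
      · have hlt : (i : ℕ) < j := lt_of_le_of_ne (hmin j hj) fun e => hji (Fin.ext e.symm)
        rw [h.pow_zero_of_le (by omega), Matrix.zero_mulVec, smul_zero]
    · simp
  exact ⟨e, basisOfLinearIndependentOfCardEqFinrank hli (by simp; omega), fun j => by
    rw [coe_basisOfLinearIndependentOfCardEqFinrank]⟩

theorem Reg.rank (h : Reg T) : T.rank = 2 * m - 1 := by
  classical
  obtain ⟨e, b, hb⟩ := h.exists_basis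
  have hle : 2 * m - 1 ≤ T.rank := by
    have hli := b.linearIndependent.comp (fun i : Fin (2 * m - 1) => (⟨i.1 + 1, by omega⟩ : Fin (2 * m)))
      (fun i j hij => Fin.ext (by simpa [Fin.ext_iff] using hij))
    have hmem : ∀ i : Fin (2 * m - 1), b ⟨i.1 + 1, by omega⟩ ∈ LinearMap.range T.mulVecLin := fun i => by
      refine ⟨(T ^ (i : ℕ)) *ᵥ e, ?_⟩
      rw [hb, Matrix.mulVecLin_apply, Matrix.mulVec_mulVec, ← pow_succ']
    have h1 : LinearIndependent F (fun i => (⟨_, hmem i⟩ : LinearMap.range T.mulVecLin)) :=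
      LinearIndependent.of_comp (LinearMap.range T.mulVecLin).subtype hli
    simpa [Matrix.rank] using h1.fintype_card_le_finrank
  have hlt : T.rank ≠ 2 * m := fun heq => by
    have hu : IsUnit T := by
      rw [← Matrix.mulVec_surjective_iff_isUnit]
      have htop : LinearMap.range T.mulVecLin = ⊤ :=
        Submodule.eq_top_of_finrank_eq (by
          rw [show finrank F (LinearMap.range T.mulVecLin) = T.rank from rfl, heq]; simp; omega)
      exact LinearMap.range_eq_top.1 htop
    exact h.ne ((hu.pow (2 * m)).mul_left_eq_zero.1 (by rw [h.nil, mul_zero]))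
  have hle' : T.rank ≤ 2 * m := (Matrix.rank_le_card_width _).trans (by simp; omega)
  omega

/-- Evaluation of coefficient vectors at `T`. -/
def ev (T : M) (c : Fin (2 * m) → F) : M := ∑ j, c j • T ^ (j : ℕ)

theorem commute_ev (c : Fin (2 * m) → F) : Commute T (ev T c) :=
  Commute.sum_right _ _ _ fun _ _ => (Commute.pow_right (Commute.refl T) _).smul_right _

theorem Reg.ev_injective (h : Reg T) : Function.Injective (ev T) := by
  classical
  obtain ⟨e, b, hb⟩ := h.exists_basis
  intro c d hcd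
  have h1 : ∀ c, ev T c *ᵥ e = ∑ j, c j • b j := fun c => by
    simp [ev, Matrix.sum_mulVec, Matrix.smul_mulVec, hb]
  have h2 := congrArg (fun A : M => b.repr (A *ᵥ e)) hcd
  simp only [h1] at h2
  funext j
  simpa [map_sum, Finsupp.single_apply] using DFunLike.congr_fun h2 j

theorem Reg.commutant (h : Reg T) {A : M} (hA : Commute T A) : ∃ c, A = ev T c := by
  classical
  obtain ⟨e, b, hb⟩ := h.exists_basis
  refine ⟨fun j => b.repr (A *ᵥ e) j, ?_⟩
  have hc : ∀ X : M, Commute T X → ∀ j, X *ᵥ b j = (T ^ (j : ℕ)) *ᵥ (X *ᵥ e) := fun X hX j => by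
    rw [hb, Matrix.mulVec_mulVec, Matrix.mulVec_mulVec, (hX.pow_left _).eq]
  apply Matrix.toLin'.injective
  refine b.ext fun j => ?_
  rw [Matrix.toLin'_apply, Matrix.toLin'_apply, hc A hA, hc _ (commute_ev _)]
  congr 1
  conv_lhs => rw [← b.sum_repr (A *ᵥ e)]
  simp [ev, Matrix.sum_mulVec, Matrix.smul_mulVec, hb]

/-- The constant coefficient. -/
theorem Reg.ev_mul_top (h : Reg T) (c : Fin (2 * m) → F) :
    ev T c * T ^ (2 * m - 1) = c ⟨0, h.pos⟩ • T ^ (2 * m - 1) := by
  rw [ev, Finset.sum_mul, Finset.sum_eq_single ⟨0, h.pos⟩]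
  · rw [pow_zero, smul_mul_assoc, one_mul]
  · intro j _ hj
    have : (j : ℕ) ≠ 0 := fun e => hj (Fin.ext e)
    rw [smul_mul_assoc, ← pow_add, h.pow_zero_of_le (by omega), smul_zero]
  · simp

theorem Reg.isUnit_ev (h : Reg T) (c : Fin (2 * m) → F) : IsUnit (ev T c) ↔ c ⟨0, h.pos⟩ ≠ 0 := by
  classical
  constructor
  · intro hu h0
    have := h.ev_mul_top c
    rw [h0, zero_smul] at this
    exact h.ne (hu.mul_right_eq_zero.1 this)
  · intro h0
    have hn : IsNilpotent (ev T c - c ⟨0, h.pos⟩ • 1) := by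
      rw [ev, ← Finset.add_sum_erase _ _ (Finset.mem_univ (⟨0, h.pos⟩ : Fin (2 * m))), pow_zero, add_sub_cancel_left]
      refine Commute.isNilpotent_sum (fun j hj => ?_) fun i j _ _ =>
        ((Commute.pow_pow_self T _ _).smul_right _).smul_left _
      have : (j : ℕ) ≠ 0 := fun e => (Finset.ne_of_mem_erase hj) (Fin.ext e)
      exact (IsNilpotent.pow_of_pos ⟨_, h.nil⟩ this).smul _
    have hu : IsUnit (c ⟨0, h.pos⟩ • (1 : M)) := by
      rw [Matrix.isUnit_iff_isUnit_det, det_smul, det_one, mul_one]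
      exact (Ne.isUnit h0).pow _
    have := hn.isUnit_add_left_of_commute hu ((Commute.one_right _).smul_right _)
    rwa [add_sub_cancel] at this

theorem adj_sum {κ : Type*} (s : Finset κ) (f : κ → M) : adj (∑ i ∈ s, f i) = ∑ i ∈ s, adj (f i) := by
  classical
  induction s using Finset.induction with
  | empty => simp [adj]
  | insert a s ha ih => rw [Finset.sum_insert ha, Finset.sum_insert ha, adj_add, ih]

theorem Reg.adj_ev (h : Reg T) (c : Fin (2 * m) → F) :
    adj (ev T c) = ev T fun j => (-1) ^ (j : ℕ) * c j := by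
  rw [ev, ev, adj_sum]
  refine Finset.sum_congr rfl fun j _ => ?_
  rw [adj_smul, adj_pow, h.skew, ← neg_one_smul F T, _root_.smul_pow, smul_smul, mul_comm]

/-- The adjoint of a unit. -/
def adjU (g : Mˣ) : Mˣ :=
  ⟨adj g.val, adj g.inv, by rw [← adj_mul, g.inv_val, adj_one], by rw [← adj_mul, g.val_inv, adj_one]⟩

/-- The units of the commutant. -/
def CT (T : M) : Subgroup Mˣ where
  carrier := {g | Commute T g.val}
  one_mem' := Commute.one_right T
  mul_mem' ha hb := ha.mul_right hb
  inv_mem' ha := ha.units_inv_right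

theorem Reg.comm (h : Reg T) (a b : CT T) : a * b = b * a := by
  obtain ⟨c, hc⟩ := h.commutant a.2
  refine Subtype.ext (Units.ext ?_)
  show a.1.val * b.1.val = b.1.val * a.1.val
  rw [hc]
  exact (Commute.sum_left _ _ _ fun _ _ => ((show Commute T b.1.val from b.2).pow_left _).smul_left _).eq

theorem Reg.adjU_mem (h : Reg T) {g : Mˣ} (hg : g ∈ CT T) : adjU g ∈ CT T := by
  have h1 := congrArg adj (show Commute T g.val from hg).eq
  rw [adj_mul, adj_mul, h.skew, mul_neg, neg_mul, neg_inj] at h1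
  exact h1.symm

/-- The norm `g ↦ g* g`. -/
def Reg.norm (h : Reg T) : CT T →* CT T where
  toFun g := ⟨adjU g.1, h.adjU_mem g.2⟩ * g
  map_one' := Subtype.ext (Units.ext (by
    show adj ((1 : Mˣ) : M) * ((1 : Mˣ) : M) = ((1 : Mˣ) : M)
    rw [Units.val_one, adj_one, mul_one]))
  map_mul' a b := by
    have e : (⟨adjU (a * b).1, h.adjU_mem (a * b).2⟩ : CT T) =
        ⟨adjU b.1, h.adjU_mem b.2⟩ * ⟨adjU a.1, h.adjU_mem a.2⟩ :=
      Subtype.ext (Units.ext (adj_mul _ _))
    set x : CT T := ⟨adjU a.1, h.adjU_mem a.2⟩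
    set y : CT T := ⟨adjU b.1, h.adjU_mem b.2⟩
    rw [e]
    calc y * x * (a * b) = y * (x * a) * b := by simp only [mul_assoc]
      _ = x * a * y * b := by rw [h.comm y (x * a)]
      _ = x * a * (y * b) := by simp only [mul_assoc]

/-- The self-adjoint units. -/
def Reg.fixed (h : Reg T) : Subgroup (CT T) where
  carrier := {g | adj g.1.val = g.1.val}
  one_mem' := adj_one
  mul_mem' {a b} ha hb := by
    show adj (a.1.val * b.1.val) = a.1.val * b.1.val
    rw [adj_mul, ha, hb]
    exact congrArg (fun g : CT T => g.1.val) (h.comm b a)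
  inv_mem' {a} ha := by
    have h1 : adjU a.1 = a.1 := Units.ext ha
    exact congrArg (fun g : Mˣ => g.inv) h1

theorem Reg.norm_fixed (h : Reg T) {g : CT T} (hg : g ∈ h.fixed) : h.norm g = g ^ 2 := by
  refine Subtype.ext (Units.ext ?_)
  show adj g.1.val * g.1.val = (g.1 ^ 2 : Mˣ).val
  rw [hg, sq, Units.val_mul]

theorem Reg.norm_mem_fixed (h : Reg T) (g : CT T) : h.norm g ∈ h.fixed := by
  show adj (adj g.1.val * g.1.val) = adj g.1.val * g.1.val
  rw [adj_mul, adj_adj]

/-- Units of the commutant are coefficient vectors with non-zero constant term. -/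
noncomputable def Reg.coeffEquiv (h : Reg T) : {c : Fin (2 * m) → F // c ⟨0, h.pos⟩ ≠ 0} ≃ CT T :=
  Equiv.ofBijective (fun c => ⟨((h.isUnit_ev c.1).2 c.2).unit, commute_ev c.1⟩) ⟨fun c d hcd =>
    Subtype.ext (h.ev_injective (congrArg (fun g : CT T => g.1.val) hcd)), fun g => by
    obtain ⟨c, hc⟩ := h.commutant g.2
    exact ⟨⟨c, (h.isUnit_ev c).1 (hc ▸ g.1.isUnit)⟩, Subtype.ext (Units.ext hc.symm)⟩⟩

theorem Reg.coeffEquiv_val (h : Reg T) (c : {c : Fin (2 * m) → F // c ⟨0, h.pos⟩ ≠ 0}) :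
    (h.coeffEquiv c).1.val = ev T c.1 := rfl

variable [Fintype F]

theorem card_head_ne (n : ℕ) :
    Nat.card {c : Fin (n + 1) → F // c 0 ≠ 0} = (Fintype.card F - 1) * Fintype.card F ^ n := by
  classical
  rw [Nat.card_congr ({
    toFun := fun c => (⟨c.1 0, c.2⟩, Fin.tail c.1)
    invFun := fun p => ⟨Fin.cons p.1.1 p.2, by simpa using p.1.2⟩
    left_inv := fun c => Subtype.ext (Fin.cons_self_tail c.1)
    right_inv := fun p => by simp } :
    {c : Fin (n + 1) → F // c 0 ≠ 0} ≃ {x : F // x ≠ 0} × (Fin n → F))]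
  simp [Nat.card_eq_fintype_card, Fintype.card_subtype_compl]

theorem Reg.card_CT (h : Reg T) :
    Nat.card (CT T) = (Fintype.card F - 1) * Fintype.card F ^ (2 * m - 1) := by
  rw [← Nat.card_congr h.coeffEquiv, ← card_head_ne (F := F) (2 * m - 1)]
  have e : 2 * m - 1 + 1 = 2 * m := Nat.sub_add_cancel h.pos
  exact Nat.card_congr ((Equiv.arrowCongr (finCongr e.symm) (Equiv.refl F)).subtypeEquiv fun c => Iff.rfl)

theorem Reg.card_fixed (h : Reg T) (h2 : (2 : F) ≠ 0) :
    Nat.card h.fixed = (Fintype.card F - 1) * Fintype.card F ^ (m - 1) := by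
  classical
  have hm : m - 1 + 1 = m := by have := h.pos; omega
  rw [← card_head_ne (F := F) (m - 1)]
  have hfix : ∀ c : {c : Fin (2 * m) → F // c ⟨0, h.pos⟩ ≠ 0}, h.coeffEquiv c ∈ h.fixed ↔
      ∀ j : Fin (2 * m), Odd (j : ℕ) → c.1 j = 0 := fun c => by
    show adj (h.coeffEquiv c).1.val = (h.coeffEquiv c).1.val ↔ _
    rw [h.coeffEquiv_val, h.adj_ev, h.ev_injective.eq_iff, funext_iff]
    refine forall_congr' fun j => ⟨fun e hj => ?_, fun e => ?_⟩
    · rw [hj.neg_one_pow] at e
      exact (mul_eq_zero.1 (show (2 : F) * c.1 j = 0 by linear_combination -e)).resolve_left h2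
    · rcases Nat.even_or_odd (j : ℕ) with hj | hj
      · rw [hj.neg_one_pow, one_mul]
      · rw [e hj, mul_zero]
  refine Nat.card_congr (((h.coeffEquiv.subtypeEquiv fun c => (hfix c).symm).symm).trans
    { toFun := fun c => ⟨fun i => c.1.1 ⟨2 * i.1, by omega⟩, c.1.2⟩
      invFun := fun d => ⟨⟨fun j => if Even (j : ℕ) then d.1 ⟨j.1 / 2, by omega⟩ else 0, by
          simpa using d.2⟩, fun j hj => if_neg (Nat.not_even_iff_odd.2 hj)⟩
      left_inv := fun c => Subtype.ext (Subtype.ext (funext fun j => ?_))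
      right_inv := fun d => Subtype.ext (funext fun i => ?_) })
  · show (if Even (j : ℕ) then c.1.1 ⟨2 * (j.1 / 2), _⟩ else 0) = c.1.1 j
    rcases Nat.even_or_odd (j : ℕ) with hj | hj
    · rw [if_pos hj]
      exact congrArg c.1.1 (Fin.ext (Nat.two_mul_div_two_of_even hj))
    · rw [if_neg (Nat.not_even_iff_odd.2 hj), c.2 j hj]
  · show (if Even (2 * i.1) then d.1 ⟨2 * i.1 / 2, _⟩ else 0) = d.1 i
    rw [if_pos ⟨i.1, two_mul _⟩]
    exact congrArg d.1 (Fin.ext (by simp))

/-- A scalar unit. -/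
def scal (T : M) (δ : Fˣ) : CT T :=
  ⟨⟨(δ : F) • 1, ((δ⁻¹ : Fˣ) : F) • 1, by simp [smul_smul], by simp [smul_smul]⟩,
    (Commute.one_right T).smul_right _⟩

theorem Reg.scal_mem_fixed (h : Reg T) (δ : Fˣ) : scal T δ ∈ h.fixed := by
  show adj ((δ : F) • (1 : M)) = (δ : F) • 1
  rw [adj_smul, adj_one]

theorem Reg.scal_not_mem_range (h : Reg T) {δ : Fˣ} (hδ : ¬ IsSquare (δ : F)) :
    scal T δ ∉ h.norm.range := by
  rintro ⟨g, hg⟩
  obtain ⟨c, hc⟩ := h.commutant g.2
  have h1 : adj g.1.val * g.1.val = (δ : F) • (1 : M) := congrArg (fun x : CT T => x.1.val) hg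
  have h3 := h.ev_mul_top c
  have h4 := h.ev_mul_top fun j => (-1) ^ (j : ℕ) * c j
  rw [← hc] at h3
  rw [← h.adj_ev, ← hc] at h4
  simp only [pow_zero, one_mul] at h4
  have h5 := congrArg (fun X : M => X * T ^ (2 * m - 1)) h1
  simp only [mul_assoc, h3, mul_smul_comm, h4, smul_smul, smul_mul_assoc, one_mul] at h5
  exact hδ ⟨c ⟨0, h.pos⟩, ((smul_left_injective F h.ne) h5).symm⟩

/-- The units with self-adjoint norm image: the image has index two. -/
theorem Reg.two_card_range (h : Reg T) (h2 : (2 : F) ≠ 0) {δ : Fˣ} (hδ : ¬ IsSquare (δ : F)) :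
    2 * Nat.card h.norm.range = Nat.card h.fixed ∧
      ∀ A ∈ h.fixed, A ∉ h.norm.range → A * (scal T δ)⁻¹ ∈ h.norm.range := by
  classical
  have : Finite (CT T) := inferInstance
  have hle : h.norm.range ≤ h.fixed := by
    rintro _ ⟨g, rfl⟩
    exact h.norm_mem_fixed g
  let sq : h.fixed →* h.fixed :=
    { toFun := fun g => g ^ 2
      map_one' := one_pow 2
      map_mul' := fun a b => Commute.mul_pow (Subtype.ext (h.comm a b)) 2 }
  have hker : Nat.card sq.ker ≤ 2 := by
    have hp : ∀ x : sq.ker, x.1.1.1.val = 1 ∨ x.1.1.1.val = -1 := fun x => by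
      obtain ⟨c, hc⟩ := h.commutant x.1.1.2
      have hx : x.1.1.1.val * x.1.1.1.val = 1 := by
        have := congrArg (fun y : h.fixed => y.1.1.val) x.2
        simpa [sq, pow_two] using this
      have h3 := h.ev_mul_top c
      rw [← hc] at h3
      have h5 := congrArg (fun X : M => X * T ^ (2 * m - 1)) hx
      simp only [mul_assoc, h3, mul_smul_comm, smul_smul, one_mul] at h5
      have h6 : c ⟨0, h.pos⟩ * c ⟨0, h.pos⟩ = 1 :=
        (smul_left_injective F h.ne) (h5.trans (one_smul F _).symm)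
      have key : ∀ s : M, s * s = 1 → Commute T s → (x.1.1.1.val + s) * T ^ (2 * m - 1) = (2 * c ⟨0, h.pos⟩) • T ^ (2 * m - 1) →
          Commute x.1.1.1.val s → x.1.1.1.val = s := fun s hs hTs htop hcs => by
        obtain ⟨d, hd⟩ := h.commutant ((show Commute T x.1.1.1.val from x.1.1.2).add_right hTs)
        rw [hd, h.ev_mul_top] at htop
        have hu : IsUnit (x.1.1.1.val + s) := by
          rw [hd, h.isUnit_ev, (smul_left_injective F h.ne) htop]
          exact mul_ne_zero h2 fun e => by rw [e, mul_zero] at h6; exact zero_ne_one h6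
        refine sub_eq_zero.1 (hu.mul_right_eq_zero.1 ?_)
        rw [add_mul, mul_sub, mul_sub, hx, hs, hcs.eq]
        abel
      rcases mul_self_eq_one_iff.1 h6 with h7 | h7
      · refine Or.inl (key 1 (one_mul 1) (Commute.one_right T) ?_ (Commute.one_right _))
        rw [add_mul, h3, one_mul, h7, one_smul, mul_one, two_smul]
      · refine Or.inr (key (-1) (by simp) (Commute.one_right T).neg_right ?_ (Commute.one_right _).neg_right)
        rw [add_mul, h3, neg_mul, one_mul, h7, neg_one_smul, mul_neg, mul_one, neg_smul, two_smul, neg_add]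
    refine (Nat.card_le_card_of_injective (fun x : sq.ker => decide (x.1.1.1.val = 1)) fun x y hxy => ?_).trans
      (by simp)
    simp only [decide_eq_decide] at hxy
    refine Subtype.ext (Subtype.ext (Subtype.ext (Units.ext ?_)))
    rcases hp x with hx | hx
    · rw [hx, hxy.1 hx]
    · rcases hp y with hy | hy
      · rw [hy, hxy.2 hy]
      · rw [hx, hy]
  have hsq : sq.range.map h.fixed.subtype ≤ h.norm.range := by
    rintro _ ⟨_, ⟨g, rfl⟩, rfl⟩
    exact ⟨g.1, h.norm_fixed g.2⟩
  have hcard1 : Nat.card sq.range ≤ Nat.card h.norm.range := by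
    rw [← Subgroup.card_map_of_injective h.fixed.subtype_injective]
    exact Subgroup.card_le_of_le hsq
  have hmul : Nat.card sq.ker * Nat.card sq.range = Nat.card h.fixed := by
    rw [← Subgroup.index_ker, Subgroup.card_mul_index]
  obtain ⟨k, hk⟩ := Subgroup.card_dvd_of_le hle
  have hne : h.norm.range ≠ h.fixed := fun e => h.scal_not_mem_range hδ (e ▸ h.scal_mem_fixed δ)
  have hlt : Nat.card h.norm.range < Nat.card h.fixed := lt_of_le_of_ne (Subgroup.card_le_of_le hle)
    fun e => hne (SetLike.coe_injective (Set.eq_of_subset_of_ncard_le hle e.ge))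
  have hk2 : k = 2 := by
    have hpos : 0 < Nat.card h.norm.range := Nat.card_pos
    have : Nat.card h.norm.range * k ≤ Nat.card h.norm.range * 2 := by
      rw [← hk, ← hmul, mul_comm _ 2]
      exact Nat.mul_le_mul hker hcard1
    have := Nat.le_of_mul_le_mul_left this hpos
    have : k ≠ 1 := fun e => by rw [e, mul_one] at hk; omega
    have : k ≠ 0 := fun e => by rw [e, mul_zero] at hk; omega
    omega
  refine ⟨by rw [hk, hk2, mul_comm], fun A hA hAn => ?_⟩
  have hidx : (h.norm.range.subgroupOf h.fixed).index = 2 := by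
    refine Nat.eq_of_mul_eq_mul_left (Nat.card_pos (α := h.norm.range)) ?_
    rw [← hk2, ← hk, ← Nat.card_congr (Subgroup.subgroupOfEquivOfLe hle).toEquiv, Subgroup.card_mul_index]
  have hnot : (scal T δ)⁻¹ ∉ h.norm.range := fun e => h.scal_not_mem_range hδ ((inv_mem_iff).1 e)
  exact Subgroup.mem_subgroupOf.1 ((Subgroup.mul_mem_iff_of_index_two hidx
    (a := ⟨A, hA⟩) (b := ⟨_, inv_mem (h.scal_mem_fixed δ)⟩)).2 (iff_of_false hAn hnot))

theorem Reg.card_ker (h : Reg T) (h2 : (2 : F) ≠ 0) :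
    Nat.card h.norm.ker = 2 * Fintype.card F ^ m := by
  obtain ⟨δ, hδ⟩ := FiniteField.exists_nonsquare (F := F) fun h0 => h2 (by
    haveI := ringChar.charP F
    have := CharP.cast_eq_zero F (ringChar F)
    rw [h0] at this
    exact_mod_cast this)
  have hδ0 : δ ≠ 0 := fun e => hδ (e ▸ IsSquare.zero)
  have hr := (h.two_card_range h2 (δ := Units.mk0 δ hδ0) hδ).1
  rw [h.card_fixed h2] at hr
  have hmul : Nat.card h.norm.ker * Nat.card h.norm.range = Nat.card (CT T) := by
    rw [← Subgroup.index_ker, Subgroup.card_mul_index]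
  rw [h.card_CT] at hmul
  refine Nat.eq_of_mul_eq_mul_right (Nat.card_pos (α := h.norm.range)) ?_
  rw [hmul, show 2 * m - 1 = m - 1 + m by have := h.pos; omega, pow_add, ← mul_assoc, ← hr]
  ring

end Cfsg.Lib.Linear.SympReg
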