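import Cfsg.Agent.Lib.Linear.SympRegular

/-!
# Regular unipotent classes of symplectic groups in odd characteristic
-/

set_option autoImplicit false

namespace Cfsg.Lib.Linear.SympReg

open Module Matrix

variable {F : Type*} [Field F] {m : ℕ}

local notation "M" => Matrix (Fin m ⊕ Fin m) (Fin m ⊕ Fin m) F

/-- A regular unipotent element in matrix terms. -/
def RegU (u : Matrix.symplecticGroup (Fin m) F) : Prop :=
  ((u : M) - 1) ^ (2 * m) = 0 ∧ ((u : M) - 1).rank = 2 * m - 1

theorem isUnit_two_smul (h2 : (2 : F) ≠ 0) : IsUnit ((2 : F) • (1 : M)) := by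
  rw [Matrix.isUnit_iff_isUnit_det, det_smul, det_one, mul_one]
  exact (Ne.isUnit h2).pow _

/-- The Cayley transform of a regular unipotent element. -/
theorem exists_reg (h2 : (2 : F) ≠ 0) (hm : 1 ≤ m) {u : Matrix.symplecticGroup (Fin m) F} (hu : RegU u) :
    ∃ T : M, Reg T ∧ (u : M) * (1 - T) = 1 + T ∧ Commute (u : M) T := by
  classical
  obtain ⟨hnil, hrk⟩ := hu
  obtain ⟨U, hU⟩ : IsUnit ((u : M) + 1) := by
    have h1 : IsUnit ((2 : F) • (1 : M) + ((u : M) - 1)) :=
      IsNilpotent.isUnit_add_left_of_commute ⟨_, hnil⟩ (isUnit_two_smul h2) ((Commute.one_right _).smul_right _)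
    rwa [two_smul, show (1 : M) + 1 + ((u : M) - 1) = (u : M) + 1 by abel] at h1
  have hcU : Commute (u : M) (U⁻¹ : Mˣ).val := by
    refine Commute.units_inv_right ?_
    rw [hU]
    exact (Commute.refl _).add_right (Commute.one_right _)
  set T : M := ((u : M) - 1) * (U⁻¹ : Mˣ).val with hTdef
  have huT : Commute (u : M) T := ((Commute.refl _).sub_right (Commute.one_right _)).mul_right hcU
  have hTU : T * ((u : M) + 1) = (u : M) - 1 := by
    rw [hTdef, mul_assoc, ← hU, Units.inv_mul, mul_one]
  have hrel : (u : M) * (1 - T) = 1 + T := by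
    have h1 : T * (u : M) + T = (u : M) - 1 := by rwa [mul_add, mul_one] at hTU
    rw [mul_sub, mul_one, huT.eq, eq_comm, ← sub_eq_zero]
    rw [show 1 + T - ((u : M) - T * (u : M)) = T * (u : M) + T - ((u : M) - 1) by abel, h1, sub_self]
  refine ⟨T, ⟨?_, ?_, ?_⟩, hrel, huT⟩
  · have huu : adj (u : M) * (u : M) = 1 := mem_sp.1 u.2
    have huu' : (u : M) * adj (u : M) = 1 := mul_eq_one_comm.1 huu
    have e := congrArg adj hTU
    rw [adj_mul, adj_add, adj_sub, adj_one] at e
    have e2 := congrArg (fun X : M => (u : M) * X) e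
    simp only [← mul_assoc, mul_add, mul_sub, mul_one, huu'] at e2
    have e3 : ((u : M) + 1) * adj T = ((u : M) + 1) * (-T) := by
      rw [show (u : M) + 1 = 1 + (u : M) from add_comm _ _, e2, mul_neg,
        (show Commute (1 + (u : M)) T from (Commute.one_left T).add_left huT).eq, add_comm, hTU, neg_sub]
    exact (hU ▸ U.isUnit : IsUnit ((u : M) + 1)).mul_left_cancel e3
  · rw [hTdef, ((hcU.sub_left (Commute.one_left _)) : Commute ((u : M) - 1) _).mul_pow, hnil, zero_mul]
  · intro h0
    rw [hTdef, ((hcU.sub_left (Commute.one_left _)) : Commute ((u : M) - 1) _).mul_pow] at h0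
    have h0' : ((u : M) - 1) ^ (2 * m - 1) = 0 := ((U⁻¹ : Mˣ).isUnit.pow _).mul_left_eq_zero.1 h0
    set N := ((u : M) - 1).mulVecLin with hN
    have hker : finrank F (LinearMap.ker N) ≤ 1 := by
      have h1 := LinearMap.finrank_range_add_finrank_ker N
      rw [show finrank F (LinearMap.range N) = 2 * m - 1 from hrk] at h1
      simp at h1
      omega
    have h3 := Cfsg.Agent.S2574.finrank_ker_pow_le N hker (2 * m - 1)
    rw [hN, ← Matrix.toLin'_apply', ← Matrix.toLin'_pow, h0', map_zero, LinearMap.ker_zero, finrank_top] at h3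
    simp at h3
    omega

theorem isUnit_one_sub {T : M} (h : Reg T) : IsUnit (1 - T) := IsNilpotent.isUnit_one_sub ⟨_, h.nil⟩

theorem intertwine_iff (h2 : (2 : F) ≠ 0) {u u' T T' g : M} (hT : Reg T) (hu : u * (1 - T) = 1 + T)
    (hu' : u' * (1 - T') = 1 + T') (hc' : Commute u' T') : g * u = u' * g ↔ g * T = T' * g := by
  constructor
  · intro hg
    have e1 : (u' + 1) * (g * T) = (u' + 1) * (T' * g) := by
      have h1 : g * (u * (1 - T)) = u' * g * (1 - T) := by rw [← mul_assoc, hg]
      rw [hu, mul_add, mul_one, mul_sub, mul_one] at h1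
      have h3 : (u' + 1) * (g * T) = u' * g - g := by
        rw [add_mul, one_mul, ← mul_assoc, ← sub_eq_zero,
          show u' * g * T + g * T - (u' * g - g) = g + g * T - (u' * g - u' * g * T) by abel, h1, sub_self]
      have h4 : (u' + 1) * (T' * g) = u' * g - g := by
        have h5 : u' * T' + T' = u' - 1 := by
          rw [mul_sub, mul_one] at hu'
          rw [← sub_eq_zero, show u' * T' + T' - (u' - 1) = 1 + T' - (u' - u' * T') by abel, hu', sub_self]
        rw [← mul_assoc, add_mul u' 1 T', one_mul, h5, sub_mul, one_mul]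
      rw [h3, h4]
    have hU : IsUnit (u' + 1) := by
      have e : (u' + 1) * (1 - T') = (2 : F) • 1 := by
        rw [add_mul, hu', one_mul, two_smul]; abel
      exact (isUnit_two_smul (F := F) (m := m) h2) |> fun hu2 => by
        rw [← e] at hu2
        exact (Commute.isUnit_mul_iff ((Commute.one_right _).sub_right ((hc'.add_left (Commute.one_left _))))).1 hu2 |>.1
    exact hU.mul_left_cancel e1
  · intro hg
    refine (isUnit_one_sub hT).mul_right_cancel ?_
    rw [mul_assoc, hu, mul_add, mul_one, mul_assoc, mul_sub, mul_one, hg,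
      show g - T' * g = (1 - T') * g by rw [sub_mul, one_mul], ← mul_assoc, hu', add_mul, one_mul]

/-- An explicit regular nilpotent element. -/
theorem exists_regT (hm : 1 ≤ m) : ∃ T : M, Reg T := by
  classical
  let last : Fin m := ⟨m - 1, by omega⟩
  let X : Matrix (Fin m) (Fin m) F := Matrix.of fun i j => if j.val = i.val + 1 then 1 else 0
  let S : Matrix (Fin m) (Fin m) F := Matrix.single last last 1
  set T : M := fromBlocks X S 0 (-Xᵀ) with hT
  let v : ℕ → Fin m ⊕ Fin m → F := fun k =>
    if h : k < m then (-1 : F) ^ k • Pi.single (Sum.inr ⟨k, h⟩) 1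
    else if h' : k < 2 * m then (-1 : F) ^ (m - 1) • Pi.single (Sum.inl ⟨2 * m - 1 - k, by omega⟩) 1 else 0
  have hcol : ∀ k, T *ᵥ v k = v (k + 1) := by
    intro k
    by_cases h : k < m
    · simp only [v, dif_pos h, Matrix.mulVec_smul, Matrix.mulVec_single_one]
      by_cases h' : k + 1 < m
      · rw [dif_pos h']
        funext j
        rcases j with j | j
        · have hk : (⟨k, h⟩ : Fin m) ≠ last := fun e => by simp [last] at e; omega
          simp [hT, Matrix.col, S, Matrix.single, Ne.symm hk, hk]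
        · simp only [hT, Matrix.col, X, Pi.smul_apply, Matrix.transpose_apply, fromBlocks_apply₂₂,
            Matrix.neg_apply, Matrix.of_apply, Pi.single_apply, Sum.inr.injEq, Fin.ext_iff, smul_eq_mul]
          split_ifs <;> first | omega | ring
      · obtain rfl : k = m - 1 := by omega
        rw [dif_neg h', dif_pos (by omega : m - 1 + 1 < 2 * m)]
        have hk' : (⟨2 * m - 1 - (m - 1 + 1), by omega⟩ : Fin m) = last := Fin.ext (by simp [last]; omega)
        rw [hk']
        funext j
        rcases j with j | j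
        · simp [hT, Matrix.col, S, Matrix.single, Pi.single_apply, show (⟨m - 1, by omega⟩ : Fin m) = last from rfl,
            eq_comm]
        · simp only [hT, Matrix.col, X, Pi.smul_apply, Matrix.transpose_apply, fromBlocks_apply₂₂,
            Matrix.neg_apply, Matrix.of_apply, Pi.single_apply, reduceCtorEq, if_false, smul_eq_mul, mul_zero]
          split_ifs <;> first | omega | ring
    · by_cases h' : k < 2 * m
      · simp only [v, dif_neg h, dif_pos h', Matrix.mulVec_smul, Matrix.mulVec_single_one,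
          dif_neg (show ¬ k + 1 < m by omega)]
        by_cases h'' : k + 1 < 2 * m
        · rw [dif_pos h'']
          funext j
          rcases j with j | j
          · simp only [hT, Matrix.col, X, Pi.smul_apply, Matrix.transpose_apply, fromBlocks_apply₁₁,
              Matrix.of_apply, Pi.single_apply, Sum.inl.injEq, Fin.ext_iff, smul_eq_mul]
            congr 1
            exact if_congr ⟨fun e => by omega, fun e => by omega⟩ rfl rfl
          · simp [hT, Matrix.col]
        · rw [dif_neg h'']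
          funext j
          rcases j with j | j
          · simp only [hT, Matrix.col, X, Pi.smul_apply, Matrix.transpose_apply, fromBlocks_apply₁₁,
              Matrix.of_apply, Pi.zero_apply, smul_eq_mul]
            rw [if_neg (by omega), mul_zero]
          · simp [hT, Matrix.col]
      · simp [v, h, h', show ¬ k + 1 < m by omega, show ¬ k + 1 < 2 * m by omega]
  have hpow : ∀ j k, (T ^ j) *ᵥ v k = v (k + j) := fun j => by
    induction j with
    | zero => intro k; simp
    | succ j ih => intro k; rw [pow_succ, ← Matrix.mulVec_mulVec, hcol, ih, add_assoc, add_comm 1]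
  refine ⟨T, ?_, ?_, ?_⟩
  · have hSt : Sᵀ = S := Matrix.transpose_single _ _ _
    rw [adj, hT, Matrix.J, fromBlocks_transpose, fromBlocks_multiply, fromBlocks_multiply, fromBlocks_neg,
      fromBlocks_neg]
    simp [hSt]
  · apply Matrix.ext_of_mulVec_single
    intro i
    rcases i with i | i
    · have hv : v (2 * m - 1 - i) = (-1 : F) ^ (m - 1) • Pi.single (Sum.inl i) 1 := by
        simp only [v]
        rw [dif_neg (by omega), dif_pos (by omega)]
        congr 3
        exact Fin.ext (by simp; omega)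
      have h1 := hpow (2 * m) (2 * m - 1 - i)
      rw [hv, Matrix.mulVec_smul] at h1
      rw [Matrix.zero_mulVec]
      refine (smul_eq_zero.1 (h1.trans ?_)).resolve_left (pow_ne_zero _ (neg_ne_zero.2 one_ne_zero))
      simp [v, show ¬ 2 * m - 1 - (i : ℕ) + 2 * m < m by omega, show ¬ 2 * m - 1 - (i : ℕ) + 2 * m < 2 * m by omega]
    · have h1 := hpow (2 * m) i
      simp only [v, dif_pos i.isLt, Matrix.mulVec_smul] at h1
      rw [Matrix.zero_mulVec]
      refine (smul_eq_zero.1 (h1.trans ?_)).resolve_left (pow_ne_zero _ (neg_ne_zero.2 one_ne_zero))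
      simp [show ¬ (i : ℕ) + 2 * m < m by omega]
  · intro h0
    have h1 := hpow (2 * m - 1) 0
    rw [h0, Matrix.zero_mulVec, zero_add] at h1
    simp only [v] at h1
    rw [dif_neg (by omega), dif_pos (by omega)] at h1
    have h3 := congrFun h1 (Sum.inl ⟨2 * m - 1 - (2 * m - 1), by omega⟩)
    simp at h3
    exact pow_ne_zero _ (neg_ne_zero.2 one_ne_zero) h3.symm

/-- The regular unipotent element of a regular nilpotent one. -/
theorem exists_regU (h2 : (2 : F) ≠ 0) {T : M} (h : Reg T) :
    ∃ u : Matrix.symplecticGroup (Fin m) F, RegU u ∧ (u : M) * (1 - T) = 1 + T ∧ Commute (u : M) T := by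
  obtain ⟨W, hW⟩ := isUnit_one_sub h
  have hcW : Commute T (W⁻¹ : Mˣ).val := by
    refine Commute.units_inv_right ?_
    rw [hW]
    exact (Commute.one_right _).sub_right (Commute.refl _)
  set u : M := (1 + T) * (W⁻¹ : Mˣ).val with hu
  have hrel : u * (1 - T) = 1 + T := by rw [hu, mul_assoc, ← hW, Units.inv_mul, mul_one]
  have hcu : Commute u T := ((Commute.one_left T).add_left (Commute.refl T)).mul_left hcW.symm
  have hsp : u ∈ Matrix.symplecticGroup (Fin m) F := by
    rw [mem_sp]
    have h1 : IsUnit (1 + T) := IsNilpotent.isUnit_one_add ⟨_, h.nil⟩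
    refine h1.mul_left_cancel ?_
    have e := congrArg adj hrel
    rw [adj_mul, adj_sub, adj_add, adj_one, h.skew, sub_neg_eq_add, ← sub_eq_add_neg] at e
    rw [← mul_assoc, e, ← ((Commute.one_right u).sub_right hcu).eq, hrel, mul_one]
  refine ⟨⟨u, hsp⟩, ⟨?_, ?_⟩, hrel, hcu⟩
  · have hsub : (u - 1) * (1 - T) = (2 : F) • T := by rw [sub_mul, hrel, one_mul, two_smul]; abel
    have hcT : Commute (u - 1) (1 - T) :=
      (Commute.one_right _).sub_right (hcu.sub_left (Commute.one_left _))
    refine ((isUnit_one_sub h).pow (2 * m)).mul_left_eq_zero.1 ?_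
    show (u - 1) ^ (2 * m) * (1 - T) ^ (2 * m) = 0
    rw [← hcT.mul_pow, hsub, _root_.smul_pow, h.nil, smul_zero]
  · have hsub : (u - 1) * (1 - T) = (2 : F) • T := by rw [sub_mul, hrel, one_mul, two_smul]; abel
    show (u - 1).rank = _
    rw [← Matrix.rank_mul_eq_left_of_isUnit_det (1 - T) (u - 1) ((Matrix.isUnit_iff_isUnit_det _).1 (isUnit_one_sub h)),
      hsub, Matrix.rank_smul_of_mem_nonZeroDivisors _ (mem_nonZeroDivisors_of_ne_zero h2), h.rank]

variable [Fintype F]

/-- The centraliser of a regular unipotent element. -/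
theorem card_centralizer (h2 : (2 : F) ≠ 0) (hm : 1 ≤ m) {u : Matrix.symplecticGroup (Fin m) F} (hu : RegU u) :
    Nat.card ↥(Subgroup.centralizer ({u} : Set ↥(Matrix.symplecticGroup (Fin m) F))) = 2 * Fintype.card F ^ m := by
  obtain ⟨T, hT, hrel, hc⟩ := exists_reg h2 hm hu
  rw [← hT.card_ker h2]
  let toU : Matrix.symplecticGroup (Fin m) F → Mˣ := fun g =>
    ⟨g, adj (g : M), mul_eq_one_comm.1 (mem_sp.1 g.2), mem_sp.1 g.2⟩
  refine Nat.card_congr
    { toFun := fun g => ⟨⟨toU g.1, ((intertwine_iff h2 hT hrel hrel hc).1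
          (congrArg Subtype.val (Subgroup.mem_centralizer_singleton_iff.1 g.2))).symm⟩,
        Subtype.ext (Units.ext (mem_sp.1 g.1.2))⟩
      invFun := fun g => ⟨⟨g.1.1.val, mem_sp.2 (congrArg (fun x : CT T => x.1.val) g.2)⟩,
        Subgroup.mem_centralizer_singleton_iff.2 (Subtype.ext
          ((intertwine_iff h2 hT hrel hrel hc).2 (show Commute T g.1.1.val from g.1.2).eq.symm))⟩
      left_inv := fun g => rfl
      right_inv := fun g => Subtype.ext (Subtype.ext (Units.ext rfl)) }

/-- There are two classes of regular unipotent elements. -/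
theorem card_classes (h2 : (2 : F) ≠ 0) (hm : 1 ≤ m) :
    Nat.card {C : ConjClasses ↥(Matrix.symplecticGroup (Fin m) F) //
      ∃ u : Matrix.symplecticGroup (Fin m) F, ConjClasses.mk u = C ∧ RegU u} = 2 := by
  classical
  obtain ⟨T, hT⟩ := exists_regT (F := F) hm
  obtain ⟨u, hu, hrel, hc⟩ := exists_regU h2 hT
  obtain ⟨δ, hδ⟩ := FiniteField.exists_nonsquare (F := F) fun h0 => h2 (by
    haveI := ringChar.charP F
    have := CharP.cast_eq_zero F (ringChar F)
    rw [h0] at this
    exact_mod_cast this)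
  have hδ0 : δ ≠ 0 := fun e => hδ (e ▸ IsSquare.zero)
  set d := Units.mk0 δ hδ0
  -- a similitude of multiplier `δ`
  set S : M := fromBlocks (δ • 1) 0 0 1 with hS
  set Si : M := fromBlocks (δ⁻¹ • 1) 0 0 1 with hSi
  have hSS : S * Si = 1 ∧ Si * S = 1 := by
    constructor <;>
      · rw [hS, hSi, fromBlocks_multiply, ← fromBlocks_one]
        simp [smul_smul, hδ0]
  have hadjS : adj S * S = δ • (1 : M) := by
    rw [adj, hS, Matrix.J, fromBlocks_transpose, fromBlocks_multiply, fromBlocks_multiply, fromBlocks_neg,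
      fromBlocks_multiply, ← fromBlocks_one, fromBlocks_smul]
    simp
  have hadjS' : adj S = δ • Si := by
    rw [← mul_one (adj S), ← hSS.1, ← mul_assoc, hadjS, smul_mul_assoc, one_mul]
  set T₁ : M := S * T * Si with hT₁
  have hinj : ∀ k, T₁ ^ k = S * T ^ k * Si := fun k => by
    induction k with
    | zero => rw [pow_zero, pow_zero, mul_one, hSS.1]
    | succ k ih =>
      rw [pow_succ, ih, hT₁, pow_succ]
      simp only [mul_assoc]
      rw [← mul_assoc Si S, hSS.2, one_mul]
  have hadjSi : adj Si = δ⁻¹ • S := by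
    have := congrArg adj hadjS'
    rw [adj_adj, adj_smul] at this
    rw [this, smul_smul, inv_mul_cancel₀ hδ0, one_smul]
  have hT1 : Reg T₁ := by
    refine ⟨?_, by rw [hinj, hT.nil, mul_zero, zero_mul], fun h0 => hT.ne ?_⟩
    · rw [hT₁, adj_mul, adj_mul, hT.skew, hadjS', hadjSi]
      simp [smul_smul, hδ0, mul_assoc]
    · have := congrArg (fun X : M => Si * X * S) (hinj (2 * m - 1) ▸ h0 : S * T ^ (2 * m - 1) * Si = 0)
      simpa [mul_assoc, hSS.2, ← mul_assoc Si S] using this
  obtain ⟨u₁, hu₁, hrel₁, hc₁⟩ := exists_regU h2 hT1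
  have hnc : ¬ IsConj u u₁ := by
    intro hcj
    obtain ⟨g, hg⟩ := isConj_iff.1 hcj
    have hgu : (g : M) * (u : M) = (u₁ : M) * (g : M) := congrArg Subtype.val (mul_inv_eq_iff_eq_mul.1 hg)
    have hgT := (intertwine_iff h2 hT hrel hrel₁ hc₁).1 hgu
    have hgg := mem_sp.1 g.2
    have hgU : IsUnit (g : M) := IsUnit.of_mul_eq_one_right _ hgg
    -- `k = adj g * S` lies in the commutant and has norm `δ`
    set k : M := adj (g : M) * S with hk
    have hkT : Commute T k := by
      have h1 : adj (g : M) * T₁ = T * adj (g : M) := by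
        have h5 := congrArg (fun X : M => adj (g : M) * X * adj (g : M)) hgT
        have h6 := mul_eq_one_comm.1 hgg
        simp only [← mul_assoc, hgg, one_mul] at h5
        rw [mul_assoc (adj (g : M) * T₁), h6, mul_one] at h5
        exact h5.symm
      show T * k = k * T
      rw [hk, ← mul_assoc, ← h1, hT₁]
      simp only [mul_assoc, hSS.2, mul_one]
    have hku : IsUnit k := by
      rw [hk]
      exact (IsUnit.of_mul_eq_one _ hgg).mul (IsUnit.of_mul_eq_one _ hSS.1)
    refine hT.scal_not_mem_range (δ := d) hδ ⟨⟨hku.unit, hkT⟩, Subtype.ext (Units.ext ?_)⟩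
    show adj k * k = δ • 1
    rw [hk, adj_mul, adj_adj, mul_assoc, ← mul_assoc (g : M), mul_eq_one_comm.1 hgg, one_mul, hadjS]
  refine Nat.card_eq_two_iff.2 ⟨⟨_, u, rfl, hu⟩, ⟨_, u₁, rfl, hu₁⟩, fun e => hnc
    (ConjClasses.mk_eq_mk_iff_isConj.1 (congrArg Subtype.val e)), Set.eq_univ_of_forall ?_⟩
  rintro ⟨C, u', rfl, hu'⟩
  obtain ⟨T', hT', hrel', hc'⟩ := exists_reg h2 hm hu'
  obtain ⟨e, b, hb⟩ := hT.exists_basis
  obtain ⟨e', b', hb'⟩ := hT'.exists_basis
  set H : M := LinearMap.toMatrix' (b.equiv b' (Equiv.refl _)).toLinearMap with hH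
  have hHb : ∀ j, H *ᵥ b j = b' j := fun j => by
    rw [hH, ← Matrix.toLin'_apply, Matrix.toLin'_toMatrix']
    simp
  have hHU : IsUnit H := by
    rw [← Matrix.mulVec_injective_iff_isUnit]
    intro x y hxy
    rw [hH] at hxy
    simpa [← Matrix.toLin'_apply, Matrix.toLin'_toMatrix'] using hxy
  have hHT : H * T = T' * H := by
    apply Matrix.toLin'.injective
    refine b.ext fun j => ?_
    rw [Matrix.toLin'_apply, Matrix.toLin'_apply, ← Matrix.mulVec_mulVec, ← Matrix.mulVec_mulVec, hHb, hb, hb',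
      Matrix.mulVec_mulVec, Matrix.mulVec_mulVec, Matrix.mulVec_mulVec, mul_assoc, ← pow_succ', ← pow_succ']
    by_cases hj : (j : ℕ) + 1 < 2 * m
    · have := hHb ⟨j + 1, hj⟩
      rw [hb, hb', Matrix.mulVec_mulVec] at this
      exact this
    · rw [hT.pow_zero_of_le (by omega), hT'.pow_zero_of_le (by omega)]
      simp
  set A : M := adj H * H with hA
  have hAT : Commute T A := by
    have h1 := congrArg adj hHT
    rw [adj_mul, adj_mul, hT.skew, hT'.skew, mul_neg, neg_mul, neg_inj] at h1
    show T * A = A * T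
    rw [hA, ← mul_assoc, h1, mul_assoc, ← hHT, mul_assoc]
  have hAU : IsUnit A := by
    obtain ⟨HU, hHU'⟩ := hHU
    rw [hA, ← hHU']
    exact (adjU HU).isUnit.mul HU.isUnit
  have hfix : (⟨hAU.unit, hAT⟩ : CT T) ∈ hT.fixed := by
    show adj A = A
    rw [hA, adj_mul, adj_adj]
  have close : ∀ (v : Matrix.symplecticGroup (Fin m) F) (S₀ T₀ : M), (v : M) * (1 - T₀) = 1 + T₀ → Reg T₀ →
      S₀ * T = T₀ * S₀ → ∀ G : M, G * T = T' * G → adj G * G = adj S₀ * S₀ → IsUnit S₀ → IsConj v u' := by
    intro v S₀ T₀ hv hT₀ hS0 G hG hnorm hSU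
    obtain ⟨SU, rfl⟩ := hSU
    have hmem : G * (SU⁻¹ : Mˣ).val ∈ Matrix.symplecticGroup (Fin m) F := by
      rw [mem_sp, adj_mul, mul_assoc, ← mul_assoc (adj G), hnorm]
      simp only [mul_assoc, Units.mul_inv, mul_one]
      rw [← adj_mul, Units.mul_inv, adj_one]
    refine isConj_iff.2 ⟨⟨_, hmem⟩, mul_inv_eq_iff_eq_mul.2 (Subtype.ext ?_)⟩
    show G * (SU⁻¹ : Mˣ).val * (v : M) = (u' : M) * (G * (SU⁻¹ : Mˣ).val)
    refine (intertwine_iff h2 hT₀ hv hrel' hc').2 ?_
    have e1 : (SU⁻¹ : Mˣ).val * T₀ = T * (SU⁻¹ : Mˣ).val := by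
      rw [Units.inv_mul_eq_iff_eq_mul, ← mul_assoc, hS0, mul_assoc, Units.mul_inv, mul_one]
    rw [mul_assoc, e1, ← mul_assoc, hG, mul_assoc]
  by_cases hAr : (⟨hAU.unit, hAT⟩ : CT T) ∈ hT.norm.range
  · obtain ⟨k, hk⟩ := hAr
    have hk' : adj k.1.val * k.1.val = A := congrArg (fun x : CT T => x.1.val) hk
    refine Or.inl (Subtype.ext (ConjClasses.mk_eq_mk_iff_isConj.2 (IsConj.symm ?_)))
    exact close u _ T hrel hT (show Commute T k.1.val from k.2).eq.symm H hHT (by rw [hk', hA]) k.1.isUnit
  · obtain ⟨k, hk⟩ := (hT.two_card_range h2 (δ := d) hδ).2 _ hfix hAr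
    have hk' : adj k.1.val * k.1.val = A * ((δ⁻¹ : F) • 1) := by
      refine (congrArg (fun x : CT T => x.1.val) hk).trans ?_
      show A * ((d⁻¹ : Fˣ) : F) • 1 = _
      rw [Units.val_inv_eq_inv_val]
      rfl
    refine Or.inr (Subtype.ext (ConjClasses.mk_eq_mk_iff_isConj.2 (IsConj.symm ?_)))
    refine close u₁ (S * k.1.val) T₁ hrel₁ hT1 ?_ H hHT ?_ ((IsUnit.of_mul_eq_one _ hSS.1).mul k.1.isUnit)
    · rw [mul_assoc, ← (show Commute T k.1.val from k.2).eq, hT₁]
      simp only [mul_assoc]
      rw [← mul_assoc Si S, hSS.2, one_mul]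
    · rw [adj_mul, mul_assoc, ← mul_assoc (adj S), hadjS, smul_mul_assoc, one_mul, mul_smul_comm, hk', hA,
        mul_smul_comm, mul_one, smul_smul, mul_inv_cancel₀ hδ0, one_smul]

end Cfsg.Lib.Linear.SympReg
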