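import Mathlib

/-!
# Conjugacy in `GL_2` and `SL_2`: normal forms
-/

set_option autoImplicit false

namespace Cfsg.Agent.Lib.Linear.TwoClasses

open Matrix
open scoped MatrixGroups

universe u

variable {F : Type u} [Field F]

/-- The companion matrix of `X² - tX + d`. -/
def cmp (t d : F) : Matrix (Fin 2) (Fin 2) F := !![0, -d; 1, t]

/-- The matrix with columns `v` and `A v`. -/
def cyc (A : Matrix (Fin 2) (Fin 2) F) (v : Fin 2 → F) : Matrix (Fin 2) (Fin 2) F :=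
  !![v 0, (A *ᵥ v) 0; v 1, (A *ᵥ v) 1]

theorem trace_cmp (t d : F) : (cmp t d).trace = t := by simp [cmp, Matrix.trace_fin_two]

theorem det_cmp (t d : F) : (cmp t d).det = d := by simp [cmp, Matrix.det_fin_two]

theorem mul_cyc (A : Matrix (Fin 2) (Fin 2) F) (v : Fin 2 → F) :
    A * cyc A v = cyc A v * cmp A.trace A.det := by
  ext i j
  fin_cases i <;> fin_cases j <;>
    simp [cyc, cmp, Matrix.mul_apply, Matrix.mulVec, dotProduct, Fin.sum_univ_two, Matrix.trace_fin_two,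
      Matrix.det_fin_two] <;> ring

theorem exists_cyc (A : Matrix (Fin 2) (Fin 2) F) (hA : ∀ c : F, A ≠ c • 1) :
    ∃ v, (cyc A v).det ≠ 0 := by
  by_contra! h
  have h1 := h ![1, 0]
  have h2 := h ![0, 1]
  have h3 := h ![1, 1]
  simp [cyc, Matrix.det_fin_two, Matrix.mulVec, dotProduct, Fin.sum_univ_two] at h1 h2 h3
  refine hA (A 0 0) ?_
  ext i j
  fin_cases i <;> fin_cases j <;> simp [h1, h2]
  simp [h1, h2] at h3
  linear_combination h3

theorem cmp_ne_smul (t d c : F) : cmp t d ≠ c • 1 := fun h => by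
  have := congrFun₂ h 1 0
  simp [cmp] at this

/-- The norm form of the commutant of a companion matrix. -/
theorem det_of_comm {t d : F} {Z : Matrix (Fin 2) (Fin 2) F} (h : Z * cmp t d = cmp t d * Z) :
    Z.det = Z 0 0 ^ 2 + t * Z 0 0 * Z 1 0 + d * Z 1 0 ^ 2 := by
  have h1 := congrFun₂ h 0 0
  have h2 := congrFun₂ h 1 0
  simp [cmp, Matrix.mul_apply, Fin.sum_univ_two] at h1 h2
  rw [Matrix.det_fin_two, h1, h2]
  ring

theorem comm_cmp (t d x y : F) :
    (x • 1 + y • cmp t d) * cmp t d = cmp t d * (x • 1 + y • cmp t d) := by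
  simp [add_mul, mul_add]

theorem det_comm_cmp (t d x y : F) :
    (x • 1 + y • cmp t d : Matrix (Fin 2) (Fin 2) F).det = x ^ 2 + t * x * y + d * y ^ 2 := by
  rw [det_of_comm (comm_cmp t d x y)]
  simp [cmp]

theorem trace_of_semiconj {A B C : Matrix (Fin 2) (Fin 2) F} (hC : C.det ≠ 0) (h : C * A = B * C) :
    A.trace = B.trace ∧ A.det = B.det := by
  constructor
  · have h1 : A = C⁻¹ * B * C := by
      rw [mul_assoc, ← h, ← mul_assoc, Matrix.nonsing_inv_mul _ (Ne.isUnit hC), one_mul]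
    rw [h1, Matrix.trace_mul_cycle, Matrix.mul_nonsing_inv _ (Ne.isUnit hC), one_mul]
  · have h1 := congrArg Matrix.det h
    rw [Matrix.det_mul, Matrix.det_mul, mul_comm] at h1
    exact mul_right_cancel₀ hC h1

theorem eq_smul_of_semiconj {B C : Matrix (Fin 2) (Fin 2) F} {c : F} (hC : C.det ≠ 0)
    (h : C * (c • 1) = B * C) : B = c • 1 := by
  have h1 : B * C * C⁻¹ = C * (c • 1) * C⁻¹ := by rw [h]
  rwa [mul_assoc, Matrix.mul_nonsing_inv _ (Ne.isUnit hC), mul_one, mul_smul_comm, mul_one, smul_mul_assoc,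
    Matrix.mul_nonsing_inv _ (Ne.isUnit hC)] at h1

/-! ### the special linear group -/

/-- A normal form in `SL_2`. -/
def R (t : F) (δ : Fˣ) : SL(2, F) :=
  ⟨!![0, -(δ : F); (↑δ⁻¹ : F), t], by simp [Matrix.det_fin_two]⟩

theorem R_mul (t : F) (δ : Fˣ) :
    (R t δ : Matrix (Fin 2) (Fin 2) F) * !![(δ : F), 0; 0, 1] = !![(δ : F), 0; 0, 1] * cmp t 1 := by
  ext i j
  fin_cases i <;> fin_cases j <;> simp [R, cmp, Matrix.mul_apply, Fin.sum_univ_two]

theorem trace_R (t : F) (δ : Fˣ) : (R t δ : Matrix (Fin 2) (Fin 2) F).trace = t := by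
  simp [R, Matrix.trace_fin_two]

theorem R_ne_smul (t : F) (δ : Fˣ) (c : F) : (R t δ : Matrix (Fin 2) (Fin 2) F) ≠ c • 1 := fun h => by
  have := congrFun₂ h 1 0
  simp [R] at this

theorem isConj_R (A : SL(2, F)) (P : Matrix (Fin 2) (Fin 2) F) (t : F) (δ : Fˣ)
    (hP : (A : Matrix (Fin 2) (Fin 2) F) * P = P * cmp t 1) (hd : P.det = δ) : IsConj A (R t δ) := by
  have hPu : IsUnit P.det := by rw [hd]; exact δ.isUnit
  let M : Matrix (Fin 2) (Fin 2) F := !![(δ : F), 0; 0, 1]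
  let g : SL(2, F) := ⟨M * P⁻¹, by
    rw [Matrix.det_mul, Matrix.det_nonsing_inv, hd]
    simp [M, Matrix.det_fin_two]⟩
  refine isConj_iff.mpr ⟨g, ?_⟩
  rw [mul_inv_eq_iff_eq_mul]
  apply Subtype.ext
  show M * P⁻¹ * (A : Matrix (Fin 2) (Fin 2) F) = (R t δ : Matrix (Fin 2) (Fin 2) F) * (M * P⁻¹)
  rw [← mul_assoc, R_mul, mul_assoc, mul_assoc]
  congr 1
  rw [← Matrix.mul_nonsing_inv_cancel_right (A := P) (A : Matrix (Fin 2) (Fin 2) F) hPu, hP, ← mul_assoc,
    ← mul_assoc, Matrix.nonsing_inv_mul _ hPu, one_mul]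

theorem of_isConj_R {t t' : F} {δ δ' : Fˣ} (h : IsConj (R t δ) (R t' δ')) :
    t = t' ∧ ∃ x y : F, (δ : F) = δ' * (x ^ 2 + t * x * y + y ^ 2) := by
  obtain ⟨c, hc⟩ := isConj_iff.mp h
  rw [mul_inv_eq_iff_eq_mul] at hc
  have hc' : (c : Matrix (Fin 2) (Fin 2) F) * (R t δ : Matrix (Fin 2) (Fin 2) F) =
      (R t' δ' : Matrix (Fin 2) (Fin 2) F) * (c : Matrix (Fin 2) (Fin 2) F) := congrArg Subtype.val hc
  have ht : t = t' := by
    have := (trace_of_semiconj (by rw [c.2]; exact one_ne_zero) hc').1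
    rwa [trace_R, trace_R] at this
  subst ht
  refine ⟨rfl, ?_⟩
  let M : Matrix (Fin 2) (Fin 2) F := !![(δ : F), 0; 0, 1]
  let M' : Matrix (Fin 2) (Fin 2) F := !![(δ' : F), 0; 0, 1]
  have hM' : IsUnit M'.det := by simp [M', Matrix.det_fin_two]
  let Z := M'⁻¹ * (c : Matrix (Fin 2) (Fin 2) F) * M
  have hZ : Z * cmp t 1 = cmp t 1 * Z := by
    calc Z * cmp t 1 = M'⁻¹ * ((c : Matrix (Fin 2) (Fin 2) F) * (R t δ : Matrix (Fin 2) (Fin 2) F)) * M := by
          simp only [Z, M, mul_assoc, R_mul]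
      _ = M'⁻¹ * ((R t δ' : Matrix (Fin 2) (Fin 2) F) * M') * Z := by
          rw [hc']
          simp only [Z, ← mul_assoc]
          rw [Matrix.mul_nonsing_inv_cancel_right _ _ hM']
      _ = _ := by
          rw [R_mul]
          show M'⁻¹ * (M' * cmp t 1) * Z = _
          rw [← mul_assoc M'⁻¹, Matrix.nonsing_inv_mul _ hM', one_mul]
  refine ⟨Z 0 0, Z 1 0, ?_⟩
  have := det_of_comm hZ
  rw [one_mul] at this
  rw [← this]
  simp [Z, M, M', Matrix.det_nonsing_inv, Matrix.det_fin_two, c.2]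

theorem exists_isConj_R (A : SL(2, F)) (hA : ∀ c : F, (A : Matrix (Fin 2) (Fin 2) F) ≠ c • 1) :
    ∃ δ : Fˣ, ∀ x y : F, x ^ 2 + (A : Matrix (Fin 2) (Fin 2) F).trace * x * y + y ^ 2 ≠ 0 →
      ∀ ε : Fˣ, (ε : F) = δ * (x ^ 2 + (A : Matrix (Fin 2) (Fin 2) F).trace * x * y + y ^ 2) →
        IsConj A (R (A : Matrix (Fin 2) (Fin 2) F).trace ε) := by
  obtain ⟨v, hv⟩ := exists_cyc _ hA
  refine ⟨Units.mk0 _ hv, fun x y hxy ε hε => ?_⟩
  refine isConj_R A (cyc (A : Matrix (Fin 2) (Fin 2) F) v * (x • 1 + y • cmp (A : Matrix (Fin 2) (Fin 2) F).trace 1)) _ ε ?_ ?_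
  · rw [← mul_assoc, mul_cyc, A.2, mul_assoc, ← comm_cmp, ← mul_assoc]
  · rw [Matrix.det_mul, det_comm_cmp, hε, Units.val_mk0, one_mul]

variable [Fintype F]

theorem exists_norm_eq (h2 : ringChar F ≠ 2) (t d : F) (ht : t ^ 2 ≠ 4) :
    ∃ x y : F, x ^ 2 + t * x * y + y ^ 2 = d := by
  have h20 : (2 : F) ≠ 0 := Ring.two_ne_zero h2
  have hk : 1 - t ^ 2 / 4 ≠ 0 := fun h => ht (by
    have h40 : (4 : F) ≠ 0 := by
      rw [show (4 : F) = 2 * 2 by norm_num]
      exact mul_ne_zero h20 h20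
    field_simp at h
    linear_combination -h)
  obtain ⟨a, b, hab⟩ := FiniteField.exists_root_sum_quadratic (f := Polynomial.X ^ 2 + Polynomial.C (-d))
    (g := Polynomial.C (1 - t ^ 2 / 4) * Polynomial.X ^ 2) (Polynomial.degree_X_pow_add_C two_pos _)
    (Polynomial.degree_C_mul_X_pow 2 hk) (FiniteField.odd_card_of_char_ne_two h2)
  refine ⟨a - t * b / 2, b, ?_⟩
  simp at hab
  have h4 : (4 : F) = 2 * 2 := by norm_num
  rw [h4] at hab
  field_simp at hab ⊢
  linear_combination hab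

end Cfsg.Agent.Lib.Linear.TwoClasses

namespace Cfsg.Agent.Lib.Linear.TwoClasses

open Matrix
open scoped MatrixGroups

universe v

variable {F : Type v} [Field F]

theorem R_one_spec (A : SL(2, F)) (c : F) (h : (A : Matrix (Fin 2) (Fin 2) F) = c • 1) : c ^ 2 = 1 := by
  have := A.2
  rwa [h, Matrix.det_smul, Matrix.det_one, mul_one, Fintype.card_fin] at this

theorem scalar_unique {c c' : F} (h : (c • 1 : Matrix (Fin 2) (Fin 2) F) = c' • 1) : c = c' := by
  simpa using congrFun₂ h 0 0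

theorem eq_of_isConj_smul {A B : SL(2, F)} {c : F} (hA : (A : Matrix (Fin 2) (Fin 2) F) = c • 1)
    (h : IsConj A B) : (B : Matrix (Fin 2) (Fin 2) F) = c • 1 := by
  obtain ⟨g, hg⟩ := isConj_iff.mp h
  rw [mul_inv_eq_iff_eq_mul] at hg
  have h' : (g : Matrix (Fin 2) (Fin 2) F) * (A : Matrix (Fin 2) (Fin 2) F) =
      (B : Matrix (Fin 2) (Fin 2) F) * (g : Matrix (Fin 2) (Fin 2) F) := congrArg Subtype.val hg
  rw [hA] at h'
  exact eq_smul_of_semiconj (by rw [g.2]; exact one_ne_zero) h'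

theorem exists_scalar (c : F) (hc : c ^ 2 = 1) : ∃ A : SL(2, F), (A : Matrix (Fin 2) (Fin 2) F) = c • 1 :=
  ⟨⟨c • 1, by rw [Matrix.det_smul, Matrix.det_one, mul_one, Fintype.card_fin, hc]⟩, rfl⟩

variable [Fintype F]

/-- In odd characteristic every element is conjugate to a scalar, to `R t 1`, or, if `t² = 4`, to `R t ν`. -/
theorem exists_normal_form (h2 : ringChar F ≠ 2) (ν : Fˣ) (hν : ¬ IsSquare (ν : F)) (A : SL(2, F))
    (hA : ∀ c : F, (A : Matrix (Fin 2) (Fin 2) F) ≠ c • 1) :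
    IsConj A (R (A : Matrix (Fin 2) (Fin 2) F).trace 1) ∨
      ((A : Matrix (Fin 2) (Fin 2) F).trace ^ 2 = 4 ∧ IsConj A (R (A : Matrix (Fin 2) (Fin 2) F).trace ν)) := by
  obtain ⟨δ, hδ⟩ := exists_isConj_R A hA
  set t := (A : Matrix (Fin 2) (Fin 2) F).trace
  by_cases ht : t ^ 2 = 4
  · by_cases hs : IsSquare (δ : F)
    · obtain ⟨s, hs⟩ := hs
      have hs0 : s ≠ 0 := fun h => δ.ne_zero (by rw [hs, h, mul_zero])
      refine Or.inl (hδ s⁻¹ 0 (by simp [hs0]) 1 ?_)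
      rw [hs, Units.val_one]
      field_simp
      ring
    · have hmul : IsSquare ((δ : F) * ν) := by
        classical
        rw [← quadraticChar_one_iff_isSquare (mul_ne_zero δ.ne_zero ν.ne_zero), map_mul,
          (quadraticChar_neg_one_iff_not_isSquare).mpr hs, (quadraticChar_neg_one_iff_not_isSquare).mpr hν]
        rfl
      obtain ⟨s, hs'⟩ := hmul
      have hs0 : s ≠ 0 := fun h => mul_ne_zero δ.ne_zero ν.ne_zero (by rw [hs', h, mul_zero])
      refine Or.inr ⟨ht, hδ (s / δ) 0 (by simp [hs0]) ν ?_⟩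
      have := δ.ne_zero
      field_simp
      linear_combination hs'
  · obtain ⟨x, y, hxy⟩ := exists_norm_eq h2 t (↑δ⁻¹ : F) ht
    exact Or.inl (hδ x y (by rw [hxy]; exact Units.ne_zero _) 1 (by rw [hxy, Units.val_one, Units.mul_inv]))

omit [Fintype F] in
theorem not_isConj_R (h2 : ringChar F ≠ 2) (ν : Fˣ) (hν : ¬ IsSquare (ν : F)) (t : F) (ht : t ^ 2 = 4) :
    ¬ IsConj (R t ν) (R t 1) := fun h => by
  obtain ⟨-, x, y, hxy⟩ := of_isConj_R h
  refine hν ⟨x + t * y / 2, ?_⟩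
  have h20 : (2 : F) ≠ 0 := Ring.two_ne_zero h2
  rw [hxy, Units.val_one, one_mul]
  field_simp
  linear_combination -(y ^ 2) * ht

end Cfsg.Agent.Lib.Linear.TwoClasses
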