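import Cfsg.Agent.Lib.Linear.OrthSympTransfer
import Cfsg.Agent.Lib.Linear.OrthTorusSign

/-!
# Commuting linear maps of two different prime orders

Dimension bounds used for adjacency of two primes prime to the characteristic.
-/

set_option autoImplicit false

namespace Cfsg.Lib.Linear.TwoPrime

open Module

variable {F : Type*} [Field F] [Fintype F] {V : Type*} [AddCommGroup V] [Module F V] [FiniteDimensional F V]

local notation "q" => Fintype.card F

omit [FiniteDimensional F V] in
theorem finite_space [FiniteDimensional F V] : Finite V := Module.finite_of_finite F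

/-- A map of prime order fixing only zero forces a multiple of the order of `q`. -/
theorem dvd_finrank {r : ℕ} [Fact r.Prime] {g : Module.End F V} (hg : g ^ r = 1)
    (hfix : ∀ v, g v = v → v = 0) : orderOf ((q : ℕ) : ZMod r) ∣ finrank F V := by
  classical
  haveI := finite_space (F := F) (V := V)
  letI := Fintype.ofFinite V
  let f : Function.End V := (g : V → V)
  have hf : f ^ r ^ 1 = 1 := by
    have e : ∀ (i : ℕ), (f ^ i : Function.End V) = ((g ^ i : Module.End F V) : V → V) := by
      intro i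
      induction i with
      | zero => rfl
      | succ i ih => rw [pow_succ', ih, pow_succ']; rfl
    rw [pow_one, e, hg]; rfl
  have h := Equiv.Perm.card_fixedPoints_modEq hf
  have h1 : Fintype.card (Function.fixedPoints f) = 1 :=
    Fintype.card_eq_one_iff.2 ⟨⟨0, map_zero g⟩, fun v => Subtype.ext (hfix v.1 v.2)⟩
  rw [h1, Module.card_eq_pow_finrank (K := F), ← ZMod.natCast_eq_natCast_iff, Nat.cast_pow, Nat.cast_one] at h
  exact orderOf_dvd_of_pow_eq_one h

/-- Restriction of a map to an invariant subspace, as a power-compatible map. -/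
theorem restrict_pow_apply {g : Module.End F V} {U : Submodule F V} (hU : ∀ a ∈ U, g a ∈ U) (i : ℕ) (v : U) :
    (((g.restrict hU) ^ i) v : V) = (g ^ i) v := by
  induction i with
  | zero => rfl
  | succ i ih => rw [pow_succ', pow_succ', Module.End.mul_apply, Module.End.mul_apply, ← ih]; rfl

theorem restrict_pow_eq_one {g : Module.End F V} {U : Submodule F V} (hU : ∀ a ∈ U, g a ∈ U) {i : ℕ}
    (h : g ^ i = 1) : (g.restrict hU) ^ i = 1 :=
  LinearMap.ext fun v => Subtype.ext (by rw [restrict_pow_apply, h]; rfl)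

theorem dvd_finrank_sub {r : ℕ} [Fact r.Prime] {g : Module.End F V} (hg : g ^ r = 1)
    {U : Submodule F V} (hU : ∀ a ∈ U, g a ∈ U) (hfix : ∀ v ∈ U, g v = v → v = 0) :
    orderOf ((q : ℕ) : ZMod r) ∣ finrank F U :=
  dvd_finrank (restrict_pow_eq_one hU hg) fun v hv => Subtype.ext (hfix v.1 v.2 (congrArg Subtype.val hv))

/-- The splitting of a space by a map of order prime to the characteristic. -/
theorem split {g : Module.End F V} {r : ℕ} (hr : (r : F) ≠ 0) (hg : g ^ r = 1) :
    IsCompl (LinearMap.range (g - 1)) (LinearMap.ker (g - 1)) :=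
  (Cfsg.Lib.Linear.OrthSympTransfer.split_of_pow (0 : LinearMap.BilinForm F V) hr hg (fun _ _ => rfl)).1

theorem range_ne_bot {g : Module.End F V} (hg : g ≠ 1) : LinearMap.range (g - 1) ≠ ⊥ :=
  fun h => hg (sub_eq_zero.1 (LinearMap.range_eq_bot.1 h))

theorem fpf_range {g : Module.End F V} {r : ℕ} (hr : (r : F) ≠ 0) (hg : g ^ r = 1)
    {v : V} (hv : v ∈ LinearMap.range (g - 1)) (hfix : g v = v) : v = 0 :=
  Submodule.disjoint_def.1 (split hr hg).disjoint v hv (by
    rw [LinearMap.mem_ker, LinearMap.sub_apply, Module.End.one_apply, hfix, sub_self])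

theorem range_stable {g h : Module.End F V} (hc : Commute h g) :
    ∀ a ∈ LinearMap.range (g - 1), h a ∈ LinearMap.range (g - 1) := by
  rintro _ ⟨a, rfl⟩
  exact ⟨h a, (LinearMap.congr_fun (hc.sub_right (Commute.one_right h)).eq a).symm⟩

/-- Two commuting maps of orders `r` and `s`: either their supports are independent, or some
invariant subspace is moved fixed-point-freely by both. -/
theorem dichotomy {a b : Module.End F V} {r s : ℕ} [Fact r.Prime] [Fact s.Prime] (hr : (r : F) ≠ 0)
    (hs : (s : F) ≠ 0) (ha : a ^ r = 1) (hb : b ^ s = 1) (hab : Commute a b) :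
    finrank F (LinearMap.range (a - 1)) + finrank F (LinearMap.range (b - 1)) ≤ finrank F V ∨
    ∃ W : Submodule F V, W ≠ ⊥ ∧ (∀ v ∈ W, a v ∈ W) ∧ (∀ v ∈ W, b v ∈ W) ∧
      (∀ v ∈ W, a v = v → v = 0) ∧ (∀ v ∈ W, b v = v → v = 0) := by
  by_cases h : LinearMap.range (a - 1) ⊓ LinearMap.range (b - 1) = ⊥
  · left
    rw [← Submodule.finrank_sup_add_finrank_inf_eq, h, finrank_bot, add_zero]
    exact Submodule.finrank_le _
  · exact Or.inr ⟨_, h, fun v hv => ⟨range_stable (Commute.refl a) v hv.1, range_stable hab v hv.2⟩,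
      fun v hv => ⟨range_stable hab.symm v hv.1, range_stable (Commute.refl b) v hv.2⟩,
      fun v hv => fpf_range hr ha hv.1, fun v hv => fpf_range hs hb hv.2⟩

/-- A nonzero invariant subspace contains a minimal one. -/
theorem exists_minimal {g : Module.End F V} {W : Submodule F V} (hW : W ≠ ⊥) (hg : ∀ v ∈ W, g v ∈ W) :
    ∃ U : Submodule F V, U ≤ W ∧ U ≠ ⊥ ∧ (∀ v ∈ U, g v ∈ U) ∧
      ∀ U' : Submodule F V, U' ≤ U → (∀ v ∈ U', g v ∈ U') → U' = ⊥ ∨ U' = U := by
  haveI := finite_space (F := F) (V := V)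
  haveI : Finite (Submodule F V) := Finite.of_injective (fun X => (X : Set V)) SetLike.coe_injective
  obtain ⟨U, hU⟩ := Set.Finite.exists_minimal (Set.toFinite {X : Submodule F V | X ≤ W ∧ X ≠ ⊥ ∧ ∀ v ∈ X, g v ∈ X})
    ⟨W, le_rfl, hW, hg⟩
  refine ⟨U, hU.1.1, hU.1.2.1, hU.1.2.2, fun U' hle hinv => ?_⟩
  by_cases hbot : U' = ⊥
  · exact Or.inl hbot
  · exact Or.inr (le_antisymm hle (hU.2 ⟨hle.trans hU.1.1, hbot, hinv⟩ hle))

/-- An irreducible isometry of a non-degenerate form is inverted by a power of Frobenius. -/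
theorem exists_pow_eq_neg (B : LinearMap.BilinForm F V) (hnd : ∀ v, (∀ w, B v w = 0) → v = 0)
    {y : Module.End F V} (hyB : ∀ v w, B (y v) (y w) = B v w) [Nontrivial V]
    (hsimple : ∀ U : Submodule F V, (∀ a ∈ U, y a ∈ U) → U = ⊥ ∨ U = ⊤) {N : ℕ} (hN : N ≠ 0)
    (hy : y ^ N = 1) : ∃ i : ℕ, y ^ (q ^ i + 1) = 1 := by
  classical
  haveI := finite_space (F := F) (V := V)
  set A := Algebra.adjoin F ({y} : Set (Module.End F V))
  letI : Field A := (Cfsg.Lib.Linear.TorusSign.adjoin_isField hsimple).toField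
  haveI : Finite (Module.End F V) := Finite.of_injective (fun g => (g : V → V)) DFunLike.coe_injective
  let Y : A := ⟨y, Algebra.subset_adjoin (Set.mem_singleton y)⟩
  have hYN : Y ^ N = 1 := Subtype.ext hy
  set Yi : A := Y ^ (N - 1)
  have hYi : Y * Yi = 1 := by
    rw [← pow_succ', Nat.sub_add_cancel (Nat.one_le_iff_ne_zero.2 hN), hYN]
  have hadj : ∀ P : Polynomial F, ∀ v w, B (((Polynomial.aeval Yi P : A) : Module.End F V) v) w =
      B v (((Polynomial.aeval Y P : A) : Module.End F V) w) := by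
    intro P
    induction P using Polynomial.induction_on' with
    | add P Q hP hQ => intro v w; simp [hP, hQ]
    | monomial n c =>
      intro v w
      simp only [Polynomial.aeval_monomial, ← Algebra.smul_def]
      have key : ∀ (n : ℕ) v w, B (((Yi ^ n : A) : Module.End F V) v) w = B v (((Y ^ n : A) : Module.End F V) w) := by
        intro n
        induction n with
        | zero => intro v w; rfl
        | succ n ih =>
          intro v w
          rw [pow_succ, pow_succ' Y]
          show B (((Yi ^ n : A) : Module.End F V) ((Yi : Module.End F V) v)) w = B v (y (((Y ^ n : A) : Module.End F V) w))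
          rw [ih]
          conv_rhs => rw [show v = y ((Yi : Module.End F V) v) from
            (LinearMap.congr_fun (congrArg Subtype.val hYi) v).symm]
          rw [hyB]
      have := key n v w
      simp only [SubmonoidClass.coe_pow] at this
      simp [this]
  have hroot : Polynomial.aeval Yi (minpoly F Y) = 0 := by
    refine Subtype.ext (LinearMap.ext fun v => hnd _ fun w => ?_)
    rw [hadj, minpoly.aeval]
    simp
  obtain ⟨σ, hσ⟩ := minpoly.exists_algEquiv_of_root' (K := F) (L := A) (Algebra.IsAlgebraic.isAlgebraic Y) hroot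
  obtain ⟨i, hi⟩ := (FiniteField.bijective_frobeniusAlgHom_pow F A).2 σ.toAlgHom
  refine ⟨i.1, ?_⟩
  have hpow : ∀ (j : ℕ) (z : A), (FiniteField.frobeniusAlgHom F A ^ j) z = z ^ (q ^ j) := by
    intro j
    induction j with
    | zero => intro z; simp
    | succ j ih =>
      intro z
      rw [pow_succ', AlgHom.mul_apply, ih, FiniteField.coe_frobeniusAlgHom]
      show (z ^ q ^ j) ^ q = _
      rw [← pow_mul, ← pow_succ]
  have h1 : Y ^ (q ^ i.1) = Yi := by
    rw [← hpow, ← hσ]
    exact AlgHom.congr_fun hi Y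
  have h2 : Y ^ (q ^ i.1 + 1) = 1 := by rw [pow_succ', h1, hYi]
  simpa [Y] using congrArg Subtype.val h2

/-- The bound for two commuting isometries of a symplectic space moving a common subspace
fixed-point-freely. -/
theorem symp_bound (B : LinearMap.BilinForm F V) (hnd : B.Nondegenerate) (halt : B.IsAlt) {r s : ℕ}
    [hr' : Fact r.Prime] [hs' : Fact s.Prime] (hr2 : r ≠ 2) (hs2 : s ≠ 2) {g : Module.End F V} (hgB : ∀ v w, B (g v) (g w) = B v w)
    (hg : g ^ (r * s) = 1) {W : Submodule F V} (hW : W ≠ ⊥) (hgW : ∀ v ∈ W, g v ∈ W)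
    (ha : ∀ v ∈ W, (g ^ s) v = v → v = 0) (hb : ∀ v ∈ W, (g ^ r) v = v → v = 0) :
    ∃ d : ℕ, 0 < d ∧ orderOf ((q : ℕ) : ZMod r) ∣ d ∧ orderOf ((q : ℕ) : ZMod s) ∣ d ∧
      (2 * d ≤ finrank F V ∨ (d ≤ finrank F V ∧
        ∃ i : ℕ, ((q : ℕ) : ZMod r) ^ i = -1 ∧ ((q : ℕ) : ZMod s) ^ i = -1)) := by
  classical
  obtain ⟨U, hUW, hU0, hgU, hmin⟩ := exists_minimal hW hgW
  have hpow : ∀ i : ℕ, ∀ v ∈ U, (g ^ i) v ∈ U := fun i => by
    induction i with
    | zero => exact fun v hv => hv
    | succ i ih => exact fun v hv => by rw [pow_succ', Module.End.mul_apply]; exact hgU _ (ih v hv)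
  have hkr : orderOf ((q : ℕ) : ZMod r) ∣ finrank F U :=
    dvd_finrank_sub (g := g ^ s) (by rw [← pow_mul, mul_comm s r, hg]) (hpow s) fun v hv => ha v (hUW hv)
  have hks : orderOf ((q : ℕ) : ZMod s) ∣ finrank F U :=
    dvd_finrank_sub (g := g ^ r) (by rw [← pow_mul, hg]) (hpow r) fun v hv => hb v (hUW hv)
  refine ⟨finrank F U, ?_, hkr, hks, ?_⟩
  · exact Nat.pos_of_ne_zero fun h => hU0 (Submodule.finrank_eq_zero.1 h)
  have hN : r * s ≠ 0 := mul_ne_zero hr'.out.ne_zero hs'.out.ne_zero
  have hinv : ∀ v ∈ U ⊓ B.orthogonal U, g v ∈ U ⊓ B.orthogonal U := by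
    rintro v ⟨hv, hvo⟩
    refine ⟨hgU v hv, fun w hw => ?_⟩
    obtain ⟨w', hw', rfl⟩ : ∃ w' ∈ U, g w' = w := by
      refine ⟨(g ^ (r * s - 1)) w, hpow _ w hw, ?_⟩
      rw [← Module.End.mul_apply, ← pow_succ', Nat.sub_add_cancel (Nat.one_le_iff_ne_zero.2 hN), hg, Module.End.one_apply]
    show B (g w') (g v) = 0
    rw [hgB]
    exact hvo w' hw'
  rcases hmin (U ⊓ B.orthogonal U) inf_le_left hinv with h | h
  · right
    refine ⟨Submodule.finrank_le U, ?_⟩
    haveI : Nontrivial U := Submodule.nontrivial_iff_ne_bot.2 hU0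
    have hndU : ∀ v : U, (∀ w : U, (B.restrict U) v w = 0) → v = 0 := by
      intro v hv
      refine Subtype.ext ((Submodule.mem_bot F).1 (h ▸ ⟨v.2, ?_⟩))
      intro w hw
      exact halt.isRefl _ _ (hv ⟨w, hw⟩)
    have hsU : ∀ X : Submodule F U, (∀ a ∈ X, (g.restrict hgU) a ∈ X) → X = ⊥ ∨ X = ⊤ := by
      intro X hX
      rcases hmin (X.map U.subtype) (Submodule.map_subtype_le U X) (by
          rintro _ ⟨x, hx, rfl⟩; exact ⟨_, hX x hx, rfl⟩) with h' | h'
      · exact Or.inl (Submodule.map_injective_of_injective U.subtype_injective (h'.trans (Submodule.map_bot _).symm))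
      · exact Or.inr (Submodule.map_injective_of_injective U.subtype_injective (h'.trans (Submodule.map_subtype_top U).symm))
    obtain ⟨i, hi⟩ := exists_pow_eq_neg (B.restrict U) (y := g.restrict hgU) hndU
      (fun v w => hgB v.1 w.1) hsU hN (restrict_pow_eq_one hgU hg)
    refine ⟨i, ?_⟩
    have key : ∀ {t u : ℕ} [Fact t.Prime], r * s = t * u → (∀ v ∈ U, (g ^ u) v = v → v = 0) →
        ((q : ℕ) : ZMod t) ^ i = -1 := by
      intro t u ht htu hfix
      by_contra hne
      have hnd' : ¬ t ∣ q ^ i + 1 := fun hd => hne (eq_neg_of_add_eq_zero_left (by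
        have := (ZMod.natCast_eq_zero_iff (q ^ i + 1) t).2 hd
        simpa using this))
      have hco : Nat.Coprime (q ^ i + 1) t := Nat.Coprime.symm ((ht.out.coprime_iff_not_dvd).2 hnd')
      have h1 : (g.restrict hgU ^ u) ^ (q ^ i + 1) = 1 := by rw [← pow_mul, mul_comm u, pow_mul, hi, one_pow]
      have h2 : (g.restrict hgU ^ u) ^ t = 1 := by
        rw [← pow_mul, mul_comm u, ← htu, restrict_pow_eq_one hgU hg]
      have h3 : g.restrict hgU ^ u = 1 := by
        have := pow_gcd_eq_one.2 ⟨h1, h2⟩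
        rwa [hco.gcd_eq_one, pow_one] at this
      obtain ⟨v, hv⟩ := exists_ne (0 : U)
      refine hv (Subtype.ext (hfix v.1 v.2 ?_))
      rw [← restrict_pow_apply hgU, h3]
      rfl
    exact ⟨key rfl (fun v hv => ha v (hUW hv)), key (mul_comm r s) (fun v hv => hb v (hUW hv))⟩
  · left
    have hle : U ≤ B.orthogonal U := inf_eq_left.1 h
    have h1 := Submodule.finrank_mono hle
    rw [LinearMap.BilinForm.finrank_orthogonal hnd] at h1
    have := Submodule.finrank_le U
    omega

end Cfsg.Lib.Linear.TwoPrime
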