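import Cfsg.Agent.Lib.Linear.UnipotentClasses

set_option autoImplicit false

namespace Cfsg.Agent.Lib.Linear.UnipotentCommutant

open Polynomial
open Cfsg.Lib

universe u

variable {F : Type u} [Field F] [Fintype F] {n : ℕ}

theorem rank_sub_one {A : Matrix (Fin n) (Fin n) F} {ι : Type u} [Fintype ι] {e : ι → ℕ}
    (h : CanonicalForm.HasForm A fun i => (X - C (1 : F)) ^ e i) : (A - 1).rank = ∑ i, (e i - 1) := by
  classical
  apply Nat.pow_right_injective (Fintype.one_lt_card (α := F))
  show Fintype.card F ^ (A - 1).rank = Fintype.card F ^ (∑ i, (e i - 1))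
  rw [← h.card_range UnipotentClasses.monic_Y UnipotentClasses.natDegree_Y 1, UnipotentClasses.aeval_Y, pow_one,
    Matrix.rank, ← Nat.card_eq_fintype_card, ← Module.natCard_eq_pow_finrank]
  exact Nat.card_congr (Equiv.setCongr (LinearMap.coe_range _))

theorem det_unipotent {B : Matrix (Fin n) (Fin n) F} (N : ℕ) (hB : (B - 1) ^ N = 0) : B.det = 1 := by
  obtain ⟨μ, -, ι, hι, e, -, hmap, h⟩ := UnipotentClasses.exists_type N hB
  rw [Matrix.det_eq_sign_charpoly_coeff, h.charpoly fun i => UnipotentClasses.monic_Y.pow _,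
    Finset.prod_pow_eq_pow_sum, show ∑ i, e i = n by
      conv_rhs => rw [← μ.parts_sum, ← hmap]
      rfl,
    coeff_zero_eq_eval_zero, eval_pow, eval_sub, eval_X, eval_C, zero_sub, Fintype.card_fin, ← mul_pow,
    neg_one_mul, neg_neg, one_pow]

theorem det_aeval {A : Matrix (Fin n) (Fin n) F} (N : ℕ) (hA : (A - 1) ^ N = 0) (g : F[X]) :
    (aeval A g).det = g.eval 1 ^ n := by
  obtain ⟨k, hk⟩ : X - C (1 : F) ∣ g - C (g.eval 1) := X_sub_C_dvd_sub_C_eval
  have hg : g = C (g.eval 1) + (X - C (1 : F)) * k := by rw [← hk, add_sub_cancel]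
  have hnil : ((X - C (1 : F)) * k) ^ N ∈ RingHom.ker (aeval A : F[X] →ₐ[F] Matrix (Fin n) (Fin n) F) := by
    rw [RingHom.mem_ker, mul_pow, map_mul, UnipotentClasses.aeval_Y, hA, zero_mul]
  rw [RingHom.mem_ker] at hnil
  generalize hc : g.eval 1 = c at hg ⊢
  by_cases hc0 : c = 0
  · rcases Nat.eq_zero_or_pos n with rfl | hn
    · rw [Matrix.det_isEmpty, pow_zero]
    · have hnp : IsNilpotent (aeval A g) := ⟨N, by rw [← map_pow, hg, hc0, map_zero, zero_add, hnil]⟩
      haveI : Nonempty (Fin n) := ⟨⟨0, hn⟩⟩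
      rw [hc0, zero_pow hn.ne']
      obtain ⟨M, hM⟩ := hnp
      have h2 : (aeval A g).det ^ M = 0 := by rw [← Matrix.det_pow, hM, Matrix.det_zero]
      exact eq_zero_of_pow_eq_zero h2
  · have h1 : (c⁻¹ • aeval A g - 1) ^ N = 0 := by
      have : c⁻¹ • aeval A g - 1 = c⁻¹ • aeval A ((X - C (1 : F)) * k) := by
        rw [hg, map_add, aeval_C, Algebra.algebraMap_eq_smul_one, smul_add, inv_smul_smul₀ hc0, add_sub_cancel_left]
      rw [this, _root_.smul_pow, ← map_pow, hnil, smul_zero]
    have h2 := det_unipotent N h1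
    rw [Matrix.det_smul, Fintype.card_fin, inv_pow, inv_mul_eq_iff_eq_mul₀ (pow_ne_zero _ hc0), mul_one] at h2
    exact h2

omit [Fintype F] in
theorem exists_aeval_of_commute {A Z : Matrix (Fin n) (Fin n) F} {ι : Type u} [Unique ι] {f : ι → F[X]}
    (h : CanonicalForm.HasForm A f) (hZ : Z * A = A * Z) : ∃ g : F[X], Z = aeval A g := by
  classical
  obtain ⟨Ψ, hΨ⟩ := h
  obtain ⟨g, hg⟩ := AdjoinRoot.mk_surjective (Ψ (Z.mulVec (Ψ.symm 1)) default)
  refine ⟨g, Matrix.toLin'.injective (LinearMap.ext fun v => Ψ.injective (funext fun i => ?_))⟩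
  obtain ⟨q, hq⟩ := AdjoinRoot.mk_surjective (Ψ v default)
  have hv : v = (aeval A q).mulVec (Ψ.symm 1) := Ψ.injective (funext fun i => by
    obtain rfl := Unique.eq_default i
    rw [CanonicalForm.HasForm.aeval hΨ, LinearEquiv.apply_symm_apply, Pi.one_apply, mul_one, hq])
  have hc : Z * aeval A q = aeval A q * Z := by
    refine Commute.eq ?_
    clear hq hv
    induction q using Polynomial.induction_on with
    | C c => rw [aeval_C]; exact Algebra.commutes' _ _ |>.symm
    | add p r hp hr => rw [map_add]; exact hp.add_right hr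
    | monomial k c _ => rw [map_mul, aeval_C, map_pow, aeval_X]; exact (Algebra.commute_algebraMap_right c Z).mul_right ((show Commute Z A from hZ).pow_right _)
  obtain rfl := Unique.eq_default i
  rw [Matrix.toLin'_apply, Matrix.toLin'_apply, hv, Matrix.mulVec_mulVec, hc, ← Matrix.mulVec_mulVec,
    CanonicalForm.HasForm.aeval hΨ, CanonicalForm.HasForm.aeval hΨ, CanonicalForm.HasForm.aeval hΨ,
    LinearEquiv.apply_symm_apply, Pi.one_apply, mul_one, ← hg]
  exact mul_comm _ _

omit [Fintype F] in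
/-- Scaling one block commutes with the matrix. -/
theorem exists_scale {A : Matrix (Fin n) (Fin n) F} {ι : Type u} [Fintype ι] {f : ι → F[X]}
    (h : CanonicalForm.HasForm A f) (hf : ∀ i, (f i).Monic) (i₀ : ι) (x : F) :
    ∃ T : Matrix (Fin n) (Fin n) F, T * A = A * T ∧ T.det = x ^ (f i₀).natDegree := by
  classical
  obtain ⟨Ψ, hΨ⟩ := h
  let w : ι → F := Function.update 1 i₀ x
  let S : (∀ i, AdjoinRoot (f i)) →ₗ[F] (∀ i, AdjoinRoot (f i)) :=
    LinearMap.pi fun i => w i • LinearMap.proj i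
  let b := Pi.basis fun i => (AdjoinRoot.powerBasis' (hf i)).basis
  let L : (Fin n → F) →ₗ[F] (Fin n → F) := Ψ.symm.toLinearMap ∘ₗ S ∘ₗ Ψ.toLinearMap
  have hL : ∀ v i, Ψ (L v) i = w i • Ψ v i := fun v i => by
    show Ψ (Ψ.symm (S (Ψ v))) i = _
    rw [LinearEquiv.apply_symm_apply]
    rfl
  refine ⟨LinearMap.toMatrix' L, ?_, ?_⟩
  · apply Matrix.toLin'.injective
    rw [Matrix.toLin'_mul, Matrix.toLin'_mul, Matrix.toLin'_toMatrix']
    refine LinearMap.ext fun v => Ψ.injective (funext fun i => ?_)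
    show Ψ (L (A.mulVec v)) i = Ψ (A.mulVec (L v)) i
    rw [hL, hΨ, hΨ, hL, mul_smul_comm]
  · rw [LinearMap.det_toMatrix', show L = (Ψ.symm : _ ≃ₗ[F] _).toLinearMap ∘ₗ S ∘ₗ Ψ.symm.symm.toLinearMap from rfl,
      LinearMap.det_conj, ← LinearMap.det_toMatrix b]
    have hS : LinearMap.toMatrix b b S = Matrix.diagonal fun j => w j.1 := by
      ext j k
      have hk : S (b k) = w k.1 • b k := by
        funext i
        show w i • b k i = w k.1 • b k i
        by_cases hik : i = k.1
        · subst hik; rfl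
        · simp [b, Pi.basis_apply, Pi.single_eq_of_ne hik]
      rw [LinearMap.toMatrix_apply, hk, map_smul, Module.Basis.repr_self, Finsupp.smul_apply,
        Finsupp.single_apply, Matrix.diagonal_apply]
      by_cases hjk : j = k
      · subst hjk; simp
      · simp [hjk, Ne.symm hjk]
    rw [hS, Matrix.det_diagonal, Fintype.prod_sigma]
    simp only [Finset.prod_const, Finset.card_univ, Fintype.card_fin, AdjoinRoot.powerBasis'_dim]
    rw [Finset.prod_eq_single i₀ (fun i _ hi => by simp [w, Function.update_of_ne hi]) (by simp)]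
    simp [w]

end Cfsg.Agent.Lib.Linear.UnipotentCommutant
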