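import Cfsg.Agent.Lib.Linear.WeightStab
import Cfsg.Agent.Lib.Linear.TransvectionGL

/-!
# Stabilisers of decompositions over tiny fields are not maximal in `SL`
-/

set_option autoImplicit false

namespace Cfsg.Lib.Linear.Weight

open Module
open scoped Matrix

variable {ι : Type} [Fintype ι] [DecidableEq ι] {F : Type*} [Field F] {t m : ℕ}
  {D : Fin t → Submodule F (ι → F)}

/-- The number of non-zero coordinates, in `F`. -/
noncomputable def wt (φ : (Fin t → Fin m → F) ≃ₗ[F] (ι → F)) (x : ι → F) : F :=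
  ∑ i, ind F (φ.symm x i)

theorem stab_le_preserving (φ : (Fin t → Fin m → F) ≃ₗ[F] (ι → F))
    (hφ : ∀ x i, x ∈ D i ↔ ∀ l, l ≠ i → φ.symm x l = 0) :
    Cfsg.Geo.decompositionStabilizer D ≤ preserving (wt φ) := by
  intro g hg x
  obtain ⟨σ, hσ⟩ := stab_coords φ hφ hg
  obtain ⟨y, rfl⟩ := φ.surjective x
  simp only [wt, φ.symm_apply_apply]
  refine (Fintype.sum_equiv σ _ _ fun i => ?_).symm
  by_cases h : y i = 0
  · rw [h, (hσ y i).2.mpr h]
  · rw [ind_ne h, ind_ne fun h' => h ((hσ y i).2.mp h')]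

/-- The automorphism given by coordinates. -/
noncomputable def coordMap (φ : (Fin t → Fin m → F) ≃ₗ[F] (ι → F))
    (A : (Fin t → Fin m → F) ≃ₗ[F] (Fin t → Fin m → F)) : GL ι F :=
  glOf (φ.symm.trans (A.trans φ))

theorem coordMap_act (φ : (Fin t → Fin m → F) ≃ₗ[F] (ι → F))
    (A : (Fin t → Fin m → F) ≃ₗ[F] (Fin t → Fin m → F)) (y : Fin t → Fin m → F) :
    (coordMap φ A).val *ᵥ φ y = φ (A y) := by
  simp [coordMap, glOf_act]

theorem mul_mulVec (g h : GL ι F) (v : ι → F) : (g * h).val *ᵥ v = g.val *ᵥ (h.val *ᵥ v) := by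
  rw [Units.val_mul, Matrix.mulVec_mulVec]

theorem coordMap_sq (φ : (Fin t → Fin m → F) ≃ₗ[F] (ι → F))
    (A : (Fin t → Fin m → F) ≃ₗ[F] (Fin t → Fin m → F)) (h : ∀ y, A (A y) = y) :
    (coordMap φ A).val.det * (coordMap φ A).val.det = 1 :=
  det_sq_of_invol _ (LinearEquiv.ext fun x => by simp [h])

/-- Data of the mixing element. -/
theorem exists_mix (φ : (Fin t → Fin m → F) ≃ₗ[F] (ι → F)) (h5 : ((6 : ℕ) : F) = 0)
    (h4 : ∀ a b c d : Fin m → F, ind F (a + (a + b + c + d)) + ind F (b + (a + b + c + d)) +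
      ind F (c + (a + b + c + d)) + ind F (d + (a + b + c + d)) =
        ind F a + ind F b + ind F c + ind F d)
    {i0 i1 i2 i3 i4 : Fin t} (hd : [i0, i1, i2, i3, i4].Nodup) :
    ∃ g : GL ι F, g.val.det = 1 ∧ g ∈ preserving (wt φ) ∧
      (∀ (b : LinearMap.BilinForm F (Fin m → F)) (y y' : Fin t → Fin m → F),
        ∑ i, b (φ.symm (g.val *ᵥ φ y) i) (φ.symm (g.val *ᵥ φ y') i) = ∑ i, b (y i) (y' i)) ∧
      ∀ u : Fin m → F,
      φ.symm (g.val *ᵥ φ (Pi.single i0 u)) i4 = u ∧
      φ.symm (g.val *ᵥ φ (Pi.single i0 u)) i1 = (5 : F) • u := by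
  simp only [List.nodup_cons, List.mem_cons, List.not_mem_nil, or_false, not_or, List.nodup_nil,
    and_true, not_false_iff] at hd
  obtain ⟨⟨h01, h02, h03, h04⟩, ⟨h12, h13, h14⟩, ⟨h23, h24⟩, h34⟩ := hd
  set S : Finset (Fin t) := {i0, i1, i2, i3}
  have hS : S.card = 4 := by simp [S, h01, h02, h03, h12, h13, h23]
  have hsum : ∀ {M : Type _} [AddCommMonoid M] (f : Fin t → M),
      ∑ l ∈ S, f l = f i0 + f i1 + f i2 + f i3 := fun f => by
    simp [S, h01, h02, h03, h12, h13, h23, add_assoc]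
  have hA := spread_invol (F := F) (U := Fin m → F) S (by rw [hS]; exact h5)
  let A : (Fin t → Fin m → F) ≃ₗ[F] (Fin t → Fin m → F) :=
    LinearEquiv.ofLinear (spread S) (spread S) (LinearMap.ext hA) (LinearMap.ext hA)
  let P : (Fin t → Fin m → F) ≃ₗ[F] (Fin t → Fin m → F) :=
    LinearEquiv.funCongrLeft F (Fin m → F) (Equiv.swap i3 i4)
  have hP : ∀ y i, P y i = y (Equiv.swap i3 i4 i) := fun y i => rfl
  have hPP : ∀ y, P (P y) = y := fun y => funext fun i => by rw [hP, hP, Equiv.swap_apply_self]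
  have hAy : ∀ y i, A y i = if i ∈ S then y i + ∑ l ∈ S, y l else y i := fun y i => rfl
  have dA := coordMap_sq φ A hA
  have dP := coordMap_sq φ P hPP
  have nA : coordMap φ A ∈ preserving (wt φ) := fun x => by
    obtain ⟨y, rfl⟩ := φ.surjective x
    simp only [coordMap_act, wt, φ.symm_apply_apply]
    rw [← Finset.sum_add_sum_compl S, ← Finset.sum_add_sum_compl S (fun i => ind F (y i))]
    congr 1
    · rw [hsum, hsum, hAy, hAy, hAy, hAy, hsum, if_pos (by simp [S]), if_pos (by simp [S]),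
        if_pos (by simp [S]), if_pos (by simp [S])]
      exact h4 _ _ _ _
    · exact Finset.sum_congr rfl fun i hi => by rw [hAy, if_neg (Finset.mem_compl.mp hi)]
  have nP : coordMap φ P ∈ preserving (wt φ) := fun x => by
    obtain ⟨y, rfl⟩ := φ.surjective x
    simp only [coordMap_act, wt, φ.symm_apply_apply]
    exact Fintype.sum_equiv (Equiv.swap i3 i4) _ _ fun i => by rw [hP]
  have bA : ∀ (b : LinearMap.BilinForm F (Fin m → F)) (y y' : Fin t → Fin m → F),
      ∑ i, b (A y i) (A y' i) = ∑ i, b (y i) (y' i) := fun b y y' => by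
    rw [← Finset.sum_add_sum_compl S, ← Finset.sum_add_sum_compl S (fun i => b (y i) (y' i))]
    congr 1
    · rw [Finset.sum_congr rfl (g := fun i => b (y i) (y' i) + b (y i) (∑ l ∈ S, y' l) +
          b (∑ l ∈ S, y l) (y' i) + b (∑ l ∈ S, y l) (∑ l ∈ S, y' l)) fun i hi => ?_]
      · simp only [Finset.sum_add_distrib, Finset.sum_const, hS]
        have e1 : ∑ i ∈ S, b (y i) (∑ l ∈ S, y' l) = b (∑ l ∈ S, y l) (∑ l ∈ S, y' l) := by
          rw [map_sum b y S, LinearMap.sum_apply]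
        have e2 : ∑ i ∈ S, b (∑ l ∈ S, y l) (y' i) = b (∑ l ∈ S, y l) (∑ l ∈ S, y' l) :=
          (map_sum _ _ _).symm
        rw [e1, e2, nsmul_eq_mul]
        push_cast at h5 ⊢
        linear_combination b (∑ l ∈ S, y l) (∑ l ∈ S, y' l) * h5
      · rw [hAy, hAy, if_pos hi, if_pos hi, map_add, map_add, LinearMap.add_apply,
          LinearMap.add_apply]
        ring
    · exact Finset.sum_congr rfl fun i hi => by
        rw [hAy, hAy, if_neg (Finset.mem_compl.mp hi), if_neg (Finset.mem_compl.mp hi)]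
  have bP : ∀ (b : LinearMap.BilinForm F (Fin m → F)) (y y' : Fin t → Fin m → F),
      ∑ i, b (P y i) (P y' i) = ∑ i, b (y i) (y' i) := fun b y y' =>
    Fintype.sum_equiv (Equiv.swap i3 i4) _ _ fun i => by rw [hP, hP]
  refine ⟨coordMap φ A * coordMap φ P * (coordMap φ A * coordMap φ P), ?_,
    mul_mem (mul_mem nA nP) (mul_mem nA nP), fun b y y' => ?_, fun u => ?_⟩
  · simp only [Units.val_mul, Matrix.det_mul]
    linear_combination ((coordMap φ P).val.det * (coordMap φ P).val.det) * dA + dP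
  · simp only [mul_mulVec, coordMap_act, φ.symm_apply_apply]
    rw [bA, bP, bA, bP]
  set s : Fin t → Fin m → F := Pi.single i0 u
  have e1 : P s = s := funext fun i => by
    rw [hP]
    by_cases hi : i = i0
    · subst hi; rw [Equiv.swap_apply_of_ne_of_ne h03 h04]
    · simp only [s, Pi.single_eq_of_ne hi]
      rw [Pi.single_eq_of_ne]
      exact fun h => hi (by rw [← Equiv.swap_apply_self i3 i4 i, h,
        Equiv.swap_apply_of_ne_of_ne h03 h04])
  have hs0 : s i0 = u := Pi.single_eq_same _ _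
  have hsn : ∀ i, i ≠ i0 → s i = 0 := fun i hi => Pi.single_eq_of_ne hi _
  have hsumS : ∑ l ∈ S, s l = u := by
    rw [hsum, hs0, hsn _ (Ne.symm h01), hsn _ (Ne.symm h02), hsn _ (Ne.symm h03)]
    simp
  set y := P (A (P s)) with hy
  have hy0 : y i0 = u + u := by
    rw [hy, e1, hP, Equiv.swap_apply_of_ne_of_ne h03 h04, hAy, if_pos (by simp [S]), hsumS, hs0]
  have hy1 : ∀ i, i = i1 ∨ i = i2 → y i = u := fun i hi => by
    have h3 : i ≠ i3 := by rcases hi with rfl | rfl <;> assumption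
    have h4 : i ≠ i4 := by rcases hi with rfl | rfl <;> assumption
    have h0 : i ≠ i0 := by rcases hi with rfl | rfl <;> [exact Ne.symm h01; exact Ne.symm h02]
    have hm : i ∈ S := by rcases hi with rfl | rfl <;> simp [S]
    rw [hy, e1, hP, Equiv.swap_apply_of_ne_of_ne h3 h4, hAy, if_pos hm, hsumS, hsn i h0, zero_add]
  have hy3 : y i3 = 0 := by
    rw [hy, e1, hP, Equiv.swap_apply_left, hAy, if_neg (by simp [S, Ne.symm h04, Ne.symm h14, Ne.symm h24, Ne.symm h34]), hsn _ (Ne.symm h04)]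
  have hy4 : y i4 = u := by
    rw [hy, e1, hP, Equiv.swap_apply_right, hAy, if_pos (by simp [S]), hsumS, hsn _ (Ne.symm h03),
      zero_add]
  simp only [mul_mulVec, coordMap_act, φ.symm_apply_apply]
  refine ⟨?_, ?_⟩
  · rw [hAy, if_neg (by simp [S, Ne.symm h04, Ne.symm h14, Ne.symm h24, Ne.symm h34])]
    exact hy4
  · rw [hAy, if_pos (by simp [S]), hsum, ← hy, hy0, hy1 i1 (Or.inl rfl), hy1 i2 (Or.inr rfl), hy3]
    module

/-- The stabiliser of a decomposition lies strictly below a proper subgroup of `SL`. -/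
theorem not_max_SL [Fintype F] (hD : Cfsg.Geo.IsMDecomposition m D) (ht : 5 ≤ t)
    (h6 : ((6 : ℕ) : F) = 0)
    (h4 : ∀ a b c d : Fin m → F, ind F (a + (a + b + c + d)) + ind F (b + (a + b + c + d)) +
      ind F (c + (a + b + c + d)) + ind F (d + (a + b + c + d)) =
        ind F a + ind F b + ind F c + ind F d) :
    ∃ K : Subgroup (GL ι F), Cfsg.Geo.decompositionStabilizer D ⊓ Cfsg.Geo.specialLinear ι F < K ∧
      K < Cfsg.Geo.specialLinear ι F := by
  obtain ⟨φ, hφ⟩ := exists_coords hD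
  refine ⟨preserving (wt φ) ⊓ Cfsg.Geo.specialLinear ι F, ?_, ?_⟩
  · refine lt_of_le_not_ge (inf_le_inf (stab_le_preserving φ hφ) le_rfl) fun hle => ?_
    obtain ⟨g, hdet, hN, -, hg⟩ := exists_mix φ h6 h4
      (i0 := ⟨0, by omega⟩) (i1 := ⟨1, by omega⟩) (i2 := ⟨2, by omega⟩) (i3 := ⟨3, by omega⟩)
      (i4 := ⟨4, by omega⟩) (by simp [Fin.ext_iff])
    obtain ⟨σ, hσ⟩ := (hle ⟨hN, Units.ext (by
      rw [Matrix.GeneralLinearGroup.val_det_apply, hdet]; rfl)⟩).1
    let u : Fin m → F := fun _ => 1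
    have hu : u ≠ 0 := fun h => one_ne_zero (congrFun h ⟨0, hD.pos⟩)
    have h5 : (5 : F) ≠ 0 := fun h => by
      have h6' : (6 : F) = 0 := by exact_mod_cast h6
      exact one_ne_zero (α := F) (by linear_combination h6' - h)
    obtain ⟨e4, e1⟩ := hg u
    have hmem : g.val *ᵥ φ (Pi.single (⟨0, by omega⟩ : Fin t) u) ∈ D (σ ⟨0, by omega⟩) := by
      rw [← hσ]
      exact ⟨_, single_mem φ hφ _ u, by rw [Matrix.toLin'_apply]⟩
    have hz := (hφ _ _).mp hmem
    by_cases hl : σ (⟨0, by omega⟩ : Fin t) = ⟨4, by omega⟩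
    · refine smul_ne_zero h5 hu ?_
      rw [← e1]
      exact hz _ (by rw [hl]; simp [Fin.ext_iff])
    · exact hu (e4 ▸ hz _ (Ne.symm hl))
  · refine lt_of_le_not_ge inf_le_right fun hle => ?_
    let u : Fin m → F := fun _ => 1
    have hu : u ≠ 0 := fun h => one_ne_zero (congrFun h ⟨0, hD.pos⟩)
    let j0 : Fin m := ⟨0, hD.pos⟩
    let i0 : Fin t := ⟨0, by omega⟩
    let i1 : Fin t := ⟨1, by omega⟩
    have h01 : i0 ≠ i1 := by simp [i0, i1, Fin.ext_iff]
    let f : (ι → F) →ₗ[F] F := LinearMap.proj j0 ∘ₗ LinearMap.proj i0 ∘ₗ φ.symm.toLinearMap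
    let a : ι → F := fun k => f (Pi.single k 1)
    have ha : ∀ v, a ⬝ᵥ v = f v := fun v => by
      conv_rhs => rw [pi_eq_sum_univ' v]
      simp [dotProduct, a, mul_comm]
    set z := φ (Pi.single i1 u)
    have haz : a ⬝ᵥ z = 0 := by
      rw [ha]
      simp [f, z, Pi.single_eq_of_ne h01]
    have hg := (hle (tv_mem_SL z a haz)).1 (φ (Pi.single i0 u))
    rw [coe_tv, tvMat_mulVec, ha] at hg
    have hf : f (φ (Pi.single i0 u)) = 1 := by simp [f, u]
    rw [hf, one_smul, ← map_add] at hg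
    simp only [wt, φ.symm_apply_apply, Pi.add_apply] at hg
    have e0 : ∀ i, ind F ((Pi.single i0 u : Fin t → Fin m → F) i + (Pi.single i1 u : Fin t → Fin m → F) i) =
        (if i = i0 then 1 else 0) + (if i = i1 then 1 else 0) := fun i => by
      by_cases h0 : i = i0
      · subst h0; simp [h01, ind_ne hu]
      by_cases h1 : i = i1
      · subst h1; simp [h0, ind_ne hu]
      · simp [h0, h1, ind_zero]
    have e1 : ∀ i, ind F ((Pi.single i0 u : Fin t → Fin m → F) i) = if i = i0 then 1 else 0 := fun i => by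
      by_cases h0 : i = i0
      · subst h0; simp [ind_ne hu]
      · simp [h0, ind_zero]
    simp [e0, e1, Finset.sum_add_distrib] at hg

end Cfsg.Lib.Linear.Weight
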